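import Cfsg.Agent.Lib.Block.KleinStructure
import Cfsg.Agent.Lib.Char.Formulas
import Mathlib.GroupTheory.Transfer

/-!
# Brauer's order formula for a four-group Sylow subgroup
-/

set_option autoImplicit false
set_option linter.unusedSectionVars false
set_option maxHeartbeats 800000

namespace Cfsg.Lib.Block

open Cfsg
open scoped ComplexConjugate

universe u

variable {G : Type u} [Group G] [Fintype G] {P : Sylow 2 G}

/-- Without a normal 2-complement a Sylow subgroup of order four gives one class of involutions. -/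
theorem kleinCond_of_no_complement {g₀ : ℕ} (hg₀ : Odd g₀) (hG : Nat.card G = 4 * g₀)
    (hnc : ¬ ∃ N : Subgroup G, N.Normal ∧ Nat.card N = g₀) : KleinCond P := by
  classical
  haveI : Fact (Nat.Prime 2) := ⟨Nat.prime_two⟩
  have hcard : Nat.card P = 4 := by
    rw [P.card_eq_multiplicity, hG, Nat.factorization_mul (by norm_num) (by
        intro h; rw [h] at hg₀; exact absurd hg₀ (by decide)), Finsupp.add_apply,
      Nat.factorization_eq_zero_of_not_dvd (fun h => Nat.not_even_iff_odd.2 hg₀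
        (even_iff_two_dvd.2 h)),
      show (4 : ℕ).factorization 2 = 2 by
        rw [show (4 : ℕ) = 2 ^ 2 by norm_num, Nat.prime_two.factorization_pow]; simp]
    norm_num
  have hno : ¬ HasNormalPComplement 2 G := fun h => by
    obtain ⟨N, hN, hNc⟩ := (Fusion.hasNormalPComplement_iff_exists P).1 h
    refine hnc ⟨N, hN, ?_⟩
    have := hNc.card_mul
    rw [show Nat.card (P : Subgroup G) = 4 from hcard, hG] at this
    omega
  have hnn : ¬ Subgroup.normalizer ((P : Subgroup G) : Set G) ≤
      Subgroup.centralizer ((P : Subgroup G) : Set G) :=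
    fun h => hno (Fusion.hasNormalPComplement_of_normalizer_le_centralizer P h)
  have hsq : ∀ x ∈ (P : Subgroup G), x * x = 1 := by
    intro x hx
    have h4 : orderOf (⟨x, hx⟩ : (P : Subgroup G)) ∣ 2 ^ 2 := by
      have := orderOf_dvd_natCard (⟨x, hx⟩ : (P : Subgroup G))
      rwa [show Nat.card (P : Subgroup G) = 4 from hcard] at this
    obtain ⟨k, hk, he⟩ := (Nat.dvd_prime_pow Nat.prime_two).1 h4
    rw [Subgroup.orderOf_mk] at he
    rcases eq_or_lt_of_le hk with rfl | hlt
    · exfalso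
      haveI : IsCyclic (P : Subgroup G) := isCyclic_of_orderOf_eq_card (⟨x, hx⟩ : (P : Subgroup G))
        (by rw [Subgroup.orderOf_mk, he, show Nat.card (P : Subgroup G) = 4 from hcard]; norm_num)
      refine hnn (IsCyclic.normalizer_le_centralizer ?_ this)
      exact (Nat.minFac_eq_two_iff _).2 ⟨2 * g₀, by rw [hG]; ring⟩
    · have : orderOf x ∣ 2 := by
        rw [he]
        calc (2 : ℕ) ^ k ∣ 2 ^ 1 := pow_dvd_pow 2 (by omega)
          _ = 2 := pow_one 2
      rw [← pow_two]
      exact orderOf_dvd_iff_pow_eq_one.1 this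
  haveI : IsKleinFour (P : Subgroup G) :=
    { card_four := hcard
      exponent_two := by
        refine (Nat.dvd_prime Nat.prime_two).1 (Monoid.exponent_dvd_of_forall_pow_eq_one
          (G := (P : Subgroup G)) (n := 2) fun x => Subtype.ext ?_) |>.resolve_left ?_
        · rw [pow_two]; exact hsq x x.2
        · intro he
          haveI := Monoid.exp_eq_one_iff.1 he
          have : Nat.card (P : Subgroup G) = 1 := Nat.card_unique
          rw [show Nat.card (P : Subgroup G) = 4 from hcard] at this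
          omega }
  refine ⟨hcard, hsq, fun s t hs ht => ?_⟩
  obtain ⟨g, hg, hgc⟩ := SetLike.not_le_iff_exists.mp hnn
  obtain ⟨a, ha, hga⟩ : ∃ a ∈ (P : Subgroup G), g * a * g⁻¹ ≠ a := by
    by_contra hcon
    push Not at hcon
    exact hgc (Subgroup.mem_centralizer_iff.mpr
      fun w hw => (mul_inv_eq_iff_eq_mul.mp (hcon w hw)).symm)
  obtain ⟨x, hx, hx2, hxs⟩ := Invol.klein_exists_rep P hs
  obtain ⟨y, hy, hy2, hyt⟩ := Invol.klein_exists_rep P ht
  exact hxs.symm.trans ((Invol.klein_isConj_of_moved P hg ha hga hx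
    (fun e => by rw [e, orderOf_one] at hx2; omega) hy
    (fun e => by rw [e, orderOf_one] at hy2; omega)).trans hyt)

variable (hP : KleinCond P) {z : G} (hz : orderOf z = 2)

include hP hz in
open Classical in
/-- The pairs of involutions whose product has 2-part `z`. -/
theorem klein_pair_count (hzP : z ∈ (P : Subgroup G)) :
    ((Char.classFinset z ×ˢ Char.classFinset z).filter fun q => pPt 2 (q.1 * q.2) = z).card *
        Nat.card (Subgroup.centralizer ((P : Subgroup G) : Set G)) ^ 2 =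
      2 * Nat.card (Subgroup.centralizer ({z} : Set G)) ^ 2 := by
  haveI : Fact (Nat.Prime 2) := ⟨Nat.prime_two⟩
  haveI := hP.isKleinFour
  let C := Subgroup.centralizer ({z} : Set G)
  obtain ⟨O, hOn, hOd, hOi, hOc⟩ : ∃ O : Subgroup C, O.Normal ∧ ¬ 2 ∣ Nat.card O ∧ O.index = 4 ∧
      O.IsComplement' ((P : Subgroup G).subgroupOf C) := hP.exists_complement hzP hz
  letI : Fintype C := Fintype.ofFinite _
  have hidx : ∃ k : ℕ, O.index = 2 ^ k := ⟨2, by rw [hOi]; norm_num⟩
  have hK : ∀ t : G, t ∈ Char.classFinset z ↔ orderOf t = 2 := fun t => by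
    rw [Char.mem_classFinset]
    refine ⟨fun h => ?_, fun ht => hP.fuse _ _ hz ht⟩
    obtain ⟨c, rfl⟩ := isConj_iff.1 h
    exact (orderOf_injective (MulAut.conj c).toMonoidHom (MulAut.conj c).injective z).trans hz
  have hz1 : z ≠ 1 := fun e => by rw [e, orderOf_one] at hz; omega
  have hcommP : ∀ x ∈ (P : Subgroup G), ∀ y ∈ (P : Subgroup G), x * y = y * x :=
    fun x hx y hy => Invol.klein_comm hx hy
  have hPC : (P : Subgroup G) ≤ C := fun x hx => Subgroup.mem_centralizer_singleton_iff.2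
    (hcommP x hx z hzP)
  obtain ⟨a, ha, ha1, haz⟩ : ∃ a ∈ (P : Subgroup G), a ≠ 1 ∧ a ≠ z := by
    by_contra hcon
    push Not at hcon
    have hle : (P : Subgroup G) ≤ Subgroup.zpowers z := fun x hx => by
      by_cases h : x = 1
      · rw [h]; exact one_mem _
      · rw [hcon x hx h]; exact Subgroup.mem_zpowers z
    have := Nat.le_of_dvd Nat.card_pos (Subgroup.card_dvd_of_le hle)
    rw [show Nat.card (P : Subgroup G) = 4 from hP.card, Nat.card_zpowers, hz] at this
    omega
  set b := z * a with hb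
  have hbP : b ∈ (P : Subgroup G) := mul_mem hzP ha
  have hb1 : b ≠ 1 := fun e => haz (by
    calc a = z * (z * a) := by rw [← mul_assoc, hP.sq z hzP, one_mul]
      _ = z := by rw [← hb, e, mul_one])
  have hbz : b ≠ z := fun e => ha1 (mul_eq_left.1 (hb ▸ e))
  set aC : C := ⟨a, hPC ha⟩ with haC
  set bC : C := ⟨b, hPC hbP⟩ with hbC
  set zC : C := ⟨z, hPC hzP⟩ with hzC
  -- congruence modulo the complement
  set π : C →* C ⧸ O := QuotientGroup.mk' O with hπ
  have hπinj : ∀ x : C, (x : G) ∈ (P : Subgroup G) → π x = 1 → x = 1 := by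
    intro x hx h
    have hxO : x ∈ O := (QuotientGroup.eq_one_iff x).1 h
    have : x ∈ O ⊓ (P : Subgroup G).subgroupOf C := ⟨hxO, hx⟩
    rw [hOc.disjoint.eq_bot] at this
    exact this
  have hregOne : ∀ x : C, IsPRegular 2 x → π x = 1 := by
    intro x hx
    have h1 : orderOf (π x) ∣ 2 ^ 2 := by
      have := orderOf_dvd_natCard (π x)
      rwa [← Subgroup.index_eq_card, hOi] at this
    obtain ⟨j, -, hj⟩ := (Nat.dvd_prime_pow Nat.prime_two).1 h1
    rcases Nat.eq_zero_or_pos j with rfl | hj0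
    · rwa [pow_zero, orderOf_eq_one_iff] at hj
    · exact absurd ((dvd_pow_self 2 hj0.ne').trans (hj ▸ orderOf_map_dvd π x)) hx
  have hdec : ∀ k : C, ∃ o ∈ O, ∃ x : C, (x : G) ∈ (P : Subgroup G) ∧ k = o * x := by
    intro k
    obtain ⟨⟨o, x⟩, he⟩ := hOc.2 k
    exact ⟨o, o.2, x, x.2, he.symm⟩
  have hπconj : ∀ (k x : C), (x : G) ∈ (P : Subgroup G) → π (k * x * k⁻¹) = π x := by
    intro k x hx
    obtain ⟨o, ho, y, hy, rfl⟩ := hdec k
    have e : y * x * y⁻¹ = x := Subtype.ext (by
      show (y : G) * (x : G) * (y : G)⁻¹ = x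
      rw [hcommP _ hy _ hx, mul_inv_cancel_right])
    have ho1 : π o = 1 := (QuotientGroup.eq_one_iff o).2 ho
    rw [show o * y * x * (o * y)⁻¹ = o * (y * x * y⁻¹) * o⁻¹ by group, e, map_mul, map_mul, map_inv,
      ho1, one_mul, inv_one, mul_one]
  -- the two orbits
  set A : Finset G := Finset.univ.image fun k : C => (k : G) * a * (k : G)⁻¹ with hA
  set B : Finset G := Finset.univ.image fun k : C => (k : G) * b * (k : G)⁻¹ with hB
  have hcardorb : ∀ x ∈ (P : Subgroup G), x ≠ 1 → x ≠ z →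
      (Finset.univ.image fun k : C => (k : G) * x * (k : G)⁻¹).card *
        Nat.card (Subgroup.centralizer ((P : Subgroup G) : Set G)) = Nat.card C := by
    intro x hx hx1 hxz
    rw [Nat.card_eq_fintype_card (α := C), ← Finset.card_univ,
      Finset.card_eq_sum_card_image (fun k : C => (k : G) * x * (k : G)⁻¹) Finset.univ]
    rw [Finset.sum_const_nat (m := Nat.card (Subgroup.centralizer ((P : Subgroup G) : Set G)))]
    intro t ht
    obtain ⟨k₀, -, rfl⟩ := Finset.mem_image.1 ht
    rw [← Fintype.card_subtype, ← Nat.card_eq_fintype_card]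
    have hgen : ∀ w ∈ (P : Subgroup G), w = 1 ∨ w = z ∨ w = x ∨ w = z * x := fun w hw => by
      by_cases hw1 : w = 1
      · exact Or.inl hw1
      · exact Or.inr (Invol.klein_mem_cases hzP hx hz1 hx1 (Ne.symm hxz) hw hw1)
    have hmem : ∀ k : G, k ∈ Subgroup.centralizer ((P : Subgroup G) : Set G) ↔
        k ∈ C ∧ k * x * k⁻¹ = x := by
      intro k
      constructor
      · intro hk
        refine ⟨Subgroup.mem_centralizer_singleton_iff.2
          (Subgroup.mem_centralizer_iff.1 hk z hzP).symm, ?_⟩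
        rw [← Subgroup.mem_centralizer_iff.1 hk x hx, mul_inv_cancel_right]
      · rintro ⟨hkC, hkx⟩
        refine Subgroup.mem_centralizer_iff.2 fun w hw => ?_
        have hkz : Commute k z := Subgroup.mem_centralizer_singleton_iff.1 hkC
        have hkx' : Commute k x := mul_inv_eq_iff_eq_mul.1 hkx
        rcases hgen w hw with rfl | rfl | rfl | rfl
        · simp
        · exact hkz.eq.symm
        · exact hkx'.eq.symm
        · exact (hkz.mul_right hkx').eq.symm
    refine Nat.card_congr ?_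
    refine ⟨fun k => ⟨((k₀⁻¹ * k.1 : C) : G), (hmem _).2 ⟨SetLike.coe_mem _, ?_⟩⟩,
      fun c => ⟨k₀ * ⟨c.1, ((hmem _).1 c.2).1⟩, ?_⟩, fun k => ?_, fun c => ?_⟩
    · have h := k.2
      simp only [Subgroup.coe_mul, InvMemClass.coe_inv]
      calc (k₀ : G)⁻¹ * (k.1 : G) * x * ((k₀ : G)⁻¹ * (k.1 : G))⁻¹
          = (k₀ : G)⁻¹ * ((k.1 : G) * x * (k.1 : G)⁻¹) * (k₀ : G) := by group
        _ = x := by rw [h]; group
    · have h := ((hmem _).1 c.2).2
      show (k₀ : G) * c.1 * x * ((k₀ : G) * c.1)⁻¹ = (k₀ : G) * x * (k₀ : G)⁻¹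
      calc (k₀ : G) * c.1 * x * ((k₀ : G) * c.1)⁻¹
          = (k₀ : G) * (c.1 * x * c.1⁻¹) * (k₀ : G)⁻¹ := by group
        _ = _ := by rw [h]
    · apply Subtype.ext; apply Subtype.ext
      simp
    · apply Subtype.ext
      simp
  have hπA : ∀ {x : G} (hx : x ∈ (P : Subgroup G)) {t : G},
      t ∈ (Finset.univ.image fun k : C => (k : G) * x * (k : G)⁻¹) →
      orderOf t = orderOf x ∧ ∃ htC : t ∈ C, π ⟨t, htC⟩ = π ⟨x, hPC hx⟩ := by
    intro x hx t ht
    obtain ⟨k, -, rfl⟩ := Finset.mem_image.1 ht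
    exact ⟨orderOf_injective (MulAut.conj (k : G)).toMonoidHom (MulAut.conj (k : G)).injective _, (k * ⟨x, hPC hx⟩ * k⁻¹).2, hπconj k ⟨x, hPC hx⟩ hx⟩
  have hinv : ∀ t : G, t ∈ C → orderOf t = 2 → t = z ∨ t ∈ A ∨ t ∈ B := by
    intro t htC ht
    obtain ⟨k, hk⟩ := Invol.exists_conj_mem_sylow (P.subtype hPC)
      (IsPGroup.of_card (n := 1) (by rw [Nat.card_zpowers, pow_one, ← ht, Subgroup.orderOf_mk]) :
        IsPGroup 2 (Subgroup.zpowers (⟨t, htC⟩ : C)))
    have h' := hk _ (Subgroup.mem_zpowers _)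
    rw [Sylow.coe_subtype, Subgroup.mem_subgroupOf] at h'
    simp only [Subgroup.coe_mul, InvMemClass.coe_inv] at h'
    set x := (k : G) * t * (k : G)⁻¹ with hx
    have hx1 : x ≠ 1 := fun e => by
      rw [hx, conj_eq_one_iff] at e
      rw [e, orderOf_one] at ht
      omega
    have ht' : t = (k : G)⁻¹ * x * (k : G) := by rw [hx]; group
    rcases Invol.klein_mem_cases hzP ha hz1 ha1 (Ne.symm haz) h' hx1 with e | e | e
    · left
      rw [ht', e, mul_assoc, ← Subgroup.mem_centralizer_singleton_iff.1 k.2,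
        inv_mul_cancel_left]
    · refine Or.inr (Or.inl (Finset.mem_image.2 ⟨k⁻¹, Finset.mem_univ _, ?_⟩))
      rw [ht', e, InvMemClass.coe_inv, inv_inv]
    · refine Or.inr (Or.inr (Finset.mem_image.2 ⟨k⁻¹, Finset.mem_univ _, ?_⟩))
      rw [ht', e, InvMemClass.coe_inv, inv_inv]
  have hbeq : bC = zC * aC := rfl
  have hzne : π zC ≠ 1 := fun h => hz1 (congrArg Subtype.val (hπinj zC hzP h))
  have haa : π aC * π aC = 1 := by
    rw [← map_mul, show aC * aC = 1 from Subtype.ext (hP.sq a ha), map_one]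
  have hbb : π bC * π bC = 1 := by
    rw [← map_mul, show bC * bC = 1 from Subtype.ext (hP.sq b hbP), map_one]
  have hab : π aC * π bC = π zC := by
    rw [← map_mul]
    exact congrArg π (Subtype.ext (show a * (z * a) = z by
      rw [hcommP z hzP a ha, ← mul_assoc, hP.sq a ha, one_mul]))
  have hba : π bC * π aC = π zC := by
    rw [← map_mul]
    exact congrArg π (Subtype.ext (show z * a * a = z by rw [mul_assoc, hP.sq a ha, mul_one]))
  have hdisj : Disjoint A B := by
    rw [Finset.disjoint_left]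
    intro t htA htB
    obtain ⟨-, _, h1⟩ := hπA ha htA
    obtain ⟨-, _, h2⟩ := hπA hbP htB
    have e : π aC = π bC := h1.symm.trans h2
    rw [← hab, ← e, haa] at hzne
    exact hzne rfl
  have hset : (Char.classFinset z ×ˢ Char.classFinset z).filter
      (fun q => pPt 2 (q.1 * q.2) = z) = A ×ˢ B ∪ B ×ˢ A := by
    ext ⟨s, t⟩
    simp only [Finset.mem_filter, Finset.mem_product, Finset.mem_union, hK]
    constructor
    · rintro ⟨⟨hs, ht⟩, hpp⟩
      have hs' : s⁻¹ = s := inv_eq_of_mul_eq_one_right (by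
        rw [← pow_two, ← hs]; exact pow_orderOf_eq_one s)
      have ht' : t⁻¹ = t := inv_eq_of_mul_eq_one_right (by
        rw [← pow_two, ← ht]; exact pow_orderOf_eq_one t)
      have hzi : z⁻¹ = z := inv_eq_of_mul_eq_one_right (hP.sq z hzP)
      have hsz : s * z * s⁻¹ = z := by
        conv_lhs => rw [← hpp, ← pPt_conj]
        rw [show s * (s * t) * s⁻¹ = (s * t)⁻¹ by
          rw [mul_inv_rev, ht', hs', ← mul_assoc s s t,
            show s * s = 1 from by rw [← pow_two, ← hs]; exact pow_orderOf_eq_one s, one_mul],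
          pPt_inv, hpp, hzi]
      have hsC : s ∈ C := Subgroup.mem_centralizer_singleton_iff.2 (mul_inv_eq_iff_eq_mul.1 hsz)
      have hstC : s * t ∈ C := Subgroup.mem_centralizer_singleton_iff.2 (by
        conv_lhs => rw [← hpp]
        conv_rhs => rw [← hpp]
        have := pPt_commute_pReg (p := 2) (s * t)
        have h2 : Commute (pPt 2 (s * t)) (pPt 2 (s * t) * pReg 2 (s * t)) :=
          (Commute.refl _).mul_right this
        rw [pPt_mul_pReg] at h2
        exact h2.eq.symm)
      have htC : t ∈ C := by simpa using C.mul_mem (C.inv_mem hsC) hstC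
      have hprod : π ⟨s * t, hstC⟩ = π zC := by
        have hrC : pReg 2 (s * t) ∈ C := by
          have := C.mul_mem (C.inv_mem (hPC hzP)) hstC
          rwa [← pPt_mul_pReg (p := 2) (s * t), hpp, inv_mul_cancel_left] at this
        have hreg1 : π ⟨pReg 2 (s * t), hrC⟩ = 1 := hregOne _ (by
          rw [IsPRegular, Subgroup.orderOf_mk]
          exact not_dvd_orderOf_pReg _)
        have e : (⟨s * t, hstC⟩ : C) = zC * ⟨pReg 2 (s * t), hrC⟩ := Subtype.ext (by
          show s * t = z * pReg 2 (s * t)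
          conv_rhs => rw [← hpp, pPt_mul_pReg])
        rw [e, map_mul, hreg1, mul_one]
      have hmul : π ⟨s, hsC⟩ * π ⟨t, htC⟩ = π zC := by
        rw [← map_mul, ← hprod]
        rfl
      have himg : ∀ {w : G} (hwC : w ∈ C), orderOf w = 2 →
          (w = z ∧ π ⟨w, hwC⟩ = π zC) ∨ (w ∈ A ∧ π ⟨w, hwC⟩ = π aC) ∨
            (w ∈ B ∧ π ⟨w, hwC⟩ = π bC) := by
        intro w hwC hw
        rcases hinv w hwC hw with e | e | e
        · exact Or.inl ⟨e, congrArg π (Subtype.ext e)⟩
        · obtain ⟨-, _, h1⟩ := hπA ha e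
          exact Or.inr (Or.inl ⟨e, h1⟩)
        · obtain ⟨-, _, h1⟩ := hπA hbP e
          exact Or.inr (Or.inr ⟨e, h1⟩)
      have hane : π aC ≠ 1 := fun h => ha1 (congrArg Subtype.val (hπinj aC ha h))
      have hbne : π bC ≠ 1 := fun h => hb1 (congrArg Subtype.val (hπinj bC hbP h))
      rcases himg hsC hs with ⟨-, e1⟩ | ⟨m1, e1⟩ | ⟨m1, e1⟩
      · exfalso
        rw [e1, mul_eq_left] at hmul
        rcases himg htC ht with ⟨-, e2⟩ | ⟨-, e2⟩ | ⟨-, e2⟩ <;> rw [e2] at hmul
        · exact hzne hmul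
        · exact hane hmul
        · exact hbne hmul
      · rcases himg htC ht with ⟨-, e2⟩ | ⟨m2, e2⟩ | ⟨m2, e2⟩
        · exfalso; rw [e1, e2, mul_eq_right] at hmul; exact hane hmul
        · exfalso; rw [e1, e2, haa] at hmul; exact hzne hmul.symm
        · exact Or.inl ⟨m1, m2⟩
      · rcases himg htC ht with ⟨-, e2⟩ | ⟨m2, e2⟩ | ⟨m2, e2⟩
        · exfalso; rw [e1, e2, mul_eq_right] at hmul; exact hbne hmul
        · exact Or.inr ⟨m1, m2⟩
        · exfalso; rw [e1, e2, hbb] at hmul; exact hzne hmul.symm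
    · intro h
      have key : ∀ {u v : C}, (u : G) = s → (v : G) = t → π u * π v = π zC →
          pPt 2 (s * t) = z := by
        intro u v hu hv huv
        have hy : zC * (u * v) ∈ O := (QuotientGroup.eq_one_iff _).1 (by
          show π (zC * (u * v)) = 1
          rw [map_mul, map_mul, huv, ← map_mul,
            show zC * zC = 1 from Subtype.ext (hP.sq z hzP), map_one])
        have hr : IsPRegular 2 ((zC * (u * v) : C) : G) := by
          intro hd
          refine hOd (hd.trans ?_)
          have := orderOf_dvd_natCard (⟨_, hy⟩ : O)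
          rwa [Subgroup.orderOf_mk, ← Subgroup.orderOf_coe] at this
        have h' := pPt_mul_reg (p := 2) (u := z) ⟨1, by rw [hz, pow_one]⟩
          (g := ((zC * (u * v) : C) : G))
          ((Subgroup.mem_centralizer_singleton_iff.1 (zC * (u * v)).2).symm) hr
        rw [Subgroup.coe_mul, Subgroup.coe_mul, hu, hv, ← mul_assoc z (zC : G),
          show z * (zC : G) = 1 from hP.sq z hzP, one_mul] at h'
        exact h'
      have hord : orderOf a = 2 ∧ orderOf b = 2 :=
        ⟨orderOf_eq_two_of_sq (hP.sq a ha) ha1, orderOf_eq_two_of_sq (hP.sq b hbP) hb1⟩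
      rcases h with ⟨h1, h2⟩ | ⟨h1, h2⟩
      · obtain ⟨o1, k1, e1⟩ := hπA ha h1
        obtain ⟨o2, k2, e2⟩ := hπA hbP h2
        exact ⟨⟨o1.trans hord.1, o2.trans hord.2⟩,
          key (u := ⟨s, k1⟩) (v := ⟨t, k2⟩) rfl rfl (by rw [e1, e2]; exact hab)⟩
      · obtain ⟨o1, k1, e1⟩ := hπA hbP h1
        obtain ⟨o2, k2, e2⟩ := hπA ha h2
        exact ⟨⟨o1.trans hord.2, o2.trans hord.1⟩,
          key (u := ⟨s, k1⟩) (v := ⟨t, k2⟩) rfl rfl (by rw [e1, e2]; exact hba)⟩
  have hcA := hcardorb a ha ha1 haz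
  have hcB := hcardorb b hbP hb1 hbz
  rw [hset, Finset.card_union_of_disjoint (Finset.disjoint_product.2 (Or.inl hdisj)),
    Finset.card_product, Finset.card_product]
  calc _ = 2 * ((A.card * Nat.card (Subgroup.centralizer ((P : Subgroup G) : Set G))) *
      (B.card * Nat.card (Subgroup.centralizer ((P : Subgroup G) : Set G)))) := by ring
    _ = _ := by rw [hcA, hcB]; ring

end Cfsg.Lib.Block
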