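import Cfsg.Prelude.Def_Blocks
import Mathlib.GroupTheory.OrderOfElement
import Mathlib.Data.Nat.ChineseRemainder
import Mathlib.Tactic

/-!
# The `p`-part and the `p`-regular part of an element
-/

set_option autoImplicit false
set_option linter.unusedSectionVars false

namespace Cfsg.Lib.Block

open Cfsg

universe u

variable {G : Type u} [Group G] [Finite G] {p : ℕ} [Fact p.Prime]

theorem exists_pPart_pair (p : ℕ) [Fact p.Prime] (g : G) :
    ∃ x y : G, x * y = g ∧ Commute x y ∧ (∃ k : ℕ, orderOf x = p ^ k) ∧ ¬ p ∣ orderOf y ∧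
      x ∈ Subgroup.zpowers g ∧ y ∈ Subgroup.zpowers g := by
  have hp : p.Prime := Fact.out
  set n := orderOf g with hn
  have hn0 : n ≠ 0 := (orderOf_pos g).ne'
  have hco : (ordProj[p] n).Coprime (ordCompl[p] n) :=
    Nat.Coprime.pow_left _ (Nat.coprime_ordCompl hp hn0)
  obtain ⟨m, hm1, hm0⟩ := Nat.chineseRemainder hco 1 0
  obtain ⟨l, hl0, hl1⟩ := Nat.chineseRemainder hco 0 1
  refine ⟨g ^ m, g ^ l, ?_, Commute.pow_pow (Commute.refl g) m l, ?_, ?_,
    Subgroup.npow_mem_zpowers g m, Subgroup.npow_mem_zpowers g l⟩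
  · rw [← pow_add]
    conv_rhs => rw [← pow_one g]
    rw [pow_eq_pow_iff_modEq, ← hn, ← Nat.ordProj_mul_ordCompl_eq_self n p,
      ← Nat.modEq_and_modEq_iff_modEq_mul hco]
    exact ⟨by simpa using hm1.add hl0, by simpa using hm0.add hl1⟩
  · obtain ⟨d, -, hd⟩ := (Nat.dvd_prime_pow hp).1
      (show orderOf (g ^ m) ∣ ordProj[p] n from orderOf_dvd_of_pow_eq_one (by
        rw [← pow_mul, ← orderOf_dvd_iff_pow_eq_one, ← hn]
        conv_lhs => rw [← Nat.ordProj_mul_ordCompl_eq_self n p]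
        rw [mul_comm m]
        exact mul_dvd_mul_left _ (Nat.modEq_zero_iff_dvd.1 hm0)))
    exact ⟨d, hd⟩
  · intro hdvd
    have h : orderOf (g ^ l) ∣ ordCompl[p] n := orderOf_dvd_of_pow_eq_one (by
        rw [← pow_mul, ← orderOf_dvd_iff_pow_eq_one, ← hn]
        conv_lhs => rw [← Nat.ordProj_mul_ordCompl_eq_self n p]
        exact mul_dvd_mul_right (Nat.modEq_zero_iff_dvd.1 hl0) _)
    exact Nat.not_dvd_ordCompl hp hn0 (hdvd.trans h)

theorem isPPart_unique {g x x' : G} (h : IsPPart p g x) (h' : IsPPart p g x') : x = x' := by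
  have hp : p.Prime := Fact.out
  obtain ⟨y, hxy, hc, ⟨k, hk⟩, hy⟩ := h
  obtain ⟨y', hxy', hc', ⟨k', hk'⟩, hy'⟩ := h'
  have hco : (p ^ (k + k')).Coprime (orderOf y * orderOf y') :=
    Nat.Coprime.pow_left _ (hp.coprime_iff_not_dvd.2 fun h => (hp.dvd_mul.1 h).elim hy hy')
  obtain ⟨m, hm1, hm0⟩ := Nat.chineseRemainder hco 1 0
  have e : ∀ (a b : G) (i : ℕ), a * b = g → Commute a b → orderOf a = p ^ i → i ≤ k + k' →
      orderOf b ∣ orderOf y * orderOf y' → g ^ m = a := by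
    intro a b i hab hcom ha hi hb
    rw [← hab, hcom.mul_pow]
    have h1 : a ^ m = a ^ 1 := by
      rw [pow_eq_pow_iff_modEq, ha]
      exact Nat.ModEq.of_dvd (pow_dvd_pow p hi) hm1
    have h2 : b ^ m = 1 := orderOf_dvd_iff_pow_eq_one.1
      (hb.trans (Nat.modEq_zero_iff_dvd.1 hm0))
    rw [h1, h2, pow_one, mul_one]
  exact (e x y k hxy hc hk (Nat.le_add_right _ _) (Dvd.intro _ rfl)).symm.trans
    (e x' y' k' hxy' hc' hk' (Nat.le_add_left _ _) (Dvd.intro_left _ rfl))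

/-- The `p`-part of an element. -/
noncomputable def pPt (p : ℕ) [Fact p.Prime] (g : G) : G := (exists_pPart_pair p g).choose

/-- The `p`-regular part of an element. -/
noncomputable def pReg (p : ℕ) [Fact p.Prime] (g : G) : G :=
  (exists_pPart_pair p g).choose_spec.choose

theorem pPt_mul_pReg (g : G) : pPt p g * pReg p g = g :=
  (exists_pPart_pair p g).choose_spec.choose_spec.1

theorem pPt_commute_pReg (g : G) : Commute (pPt p g) (pReg p g) :=
  (exists_pPart_pair p g).choose_spec.choose_spec.2.1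

theorem exists_orderOf_pPt (g : G) : ∃ k : ℕ, orderOf (pPt p g) = p ^ k :=
  (exists_pPart_pair p g).choose_spec.choose_spec.2.2.1

theorem not_dvd_orderOf_pReg (g : G) : ¬ p ∣ orderOf (pReg p g) :=
  (exists_pPart_pair p g).choose_spec.choose_spec.2.2.2.1

theorem pPt_mem_zpowers (g : G) : pPt p g ∈ Subgroup.zpowers g :=
  (exists_pPart_pair p g).choose_spec.choose_spec.2.2.2.2.1

theorem pReg_mem_zpowers (g : G) : pReg p g ∈ Subgroup.zpowers g :=
  (exists_pPart_pair p g).choose_spec.choose_spec.2.2.2.2.2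

theorem isPPart_pPt (g : G) : IsPPart p g (pPt p g) :=
  ⟨pReg p g, pPt_mul_pReg g, pPt_commute_pReg g, exists_orderOf_pPt g, not_dvd_orderOf_pReg g⟩

theorem eq_pPt_of_isPPart {g x : G} (h : IsPPart p g x) : x = pPt p g :=
  isPPart_unique h (isPPart_pPt g)

theorem eq_pPt {g x y : G} (hxy : x * y = g) (hc : Commute x y) {k : ℕ} (hx : orderOf x = p ^ k)
    (hy : ¬ p ∣ orderOf y) : x = pPt p g :=
  eq_pPt_of_isPPart ⟨y, hxy, hc, ⟨k, hx⟩, hy⟩

theorem pPt_eq_one_iff (g : G) : pPt p g = 1 ↔ ¬ p ∣ orderOf g := by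
  constructor
  · intro h
    have := not_dvd_orderOf_pReg (p := p) g
    have h2 := pPt_mul_pReg (p := p) g
    rw [h, one_mul] at h2
    rwa [h2] at this
  · intro h
    exact (eq_pPt (x := 1) (y := g) (one_mul g) (Commute.one_left g) (k := 0) (by simp) h).symm

theorem pPt_inv (g : G) : pPt p g⁻¹ = (pPt p g)⁻¹ := by
  obtain ⟨k, hk⟩ := exists_orderOf_pPt (p := p) g
  refine (eq_pPt (y := (pReg p g)⁻¹) ?_ (pPt_commute_pReg g).inv_inv (k := k)
    (by rw [orderOf_inv, hk]) (by rw [orderOf_inv]; exact not_dvd_orderOf_pReg g)).symm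
  rw [(pPt_commute_pReg g).inv_inv.eq, ← mul_inv_rev, pPt_mul_pReg]

theorem pPt_conj (g x : G) : pPt p (x * g * x⁻¹) = x * pPt p g * x⁻¹ := by
  obtain ⟨k, hk⟩ := exists_orderOf_pPt (p := p) g
  have ho : ∀ a : G, orderOf (x * a * x⁻¹) = orderOf a := fun a =>
    (MulAut.conj x).orderOf_eq a
  refine (eq_pPt (y := x * pReg p g * x⁻¹) ?_ ?_ (k := k)
    (by rw [ho, hk]) (by rw [ho]; exact not_dvd_orderOf_pReg g)).symm
  · conv_rhs => rw [← pPt_mul_pReg (p := p) g]
    group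
  · exact (pPt_commute_pReg g).map (MulAut.conj x).toMonoidHom

theorem exists_pow_pPt (g : G) : ∃ k : ℕ, pPt p g ^ p ^ k = 1 := by
  obtain ⟨k, hk⟩ := exists_orderOf_pPt (p := p) g
  exact ⟨k, by rw [← hk, pow_orderOf_eq_one]⟩

end Cfsg.Lib.Block
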