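import Cfsg.Agent.Lib.Block.Basic
import Cfsg.Agent.Lib.Block.PPart
import Cfsg.Agent.Lib.Char.Formulas
import Mathlib.GroupTheory.NoncommCoprod
import Mathlib.GroupTheory.PGroup

/-!
# Integrality of averages over sections

For a prime `q`, the indicator of a `q`-section is a combination of irreducible characters with
coefficients in the local ring at `q`.  Hence averages of character products over the `p`-regular
elements are `q`-integral for all `q ≠ p`.
-/

set_option autoImplicit false
set_option linter.unusedSectionVars false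

namespace Cfsg.Lib.Block

open Cfsg
open scoped ComplexConjugate

universe u v

variable {q : ℕ} {M : Ideal AlgInt}

theorem exists_isPModular {q : ℕ} (hq : q.Prime) : ∃ M : Ideal AlgInt, IsPModular q M := by
  have hne : Ideal.span ({(q : AlgInt)} : Set AlgInt) ≠ ⊤ := by
    rw [Ne, Ideal.span_singleton_eq_top]
    intro hu
    obtain ⟨w, hw⟩ := isUnit_iff_exists_inv.1 hu
    have h1 : (q : ℂ) * (w : ℂ) = 1 := by
      have := congrArg (fun z : AlgInt => (z : ℂ)) hw
      simpa using this
    refine Char.not_isIntegral_one_div_prime hq ?_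
    rw [one_div, inv_eq_of_mul_eq_one_right h1]
    exact w.2
  obtain ⟨M, hM, hle⟩ := Ideal.exists_le_maximal _ hne
  exact ⟨M, hq, hM, hle (Ideal.subset_span rfl)⟩

/-- The average over the second factor of a character of a product is integral. -/
theorem isIntegral_avg_prod {A : Type u} {Q : Type v} [Group A] [Fintype A] [Group Q] [Fintype Q]
    {ξ : A × Q → ℂ} (hξ : IsCharacter (A × Q) ξ) (a : A) :
    IsIntegral ℤ ((Nat.card Q : ℂ)⁻¹ * ∑ t, ξ (a, t)) := by
  have hc : IsCharacter A fun a => (Nat.card Q : ℂ)⁻¹ * ∑ t, ξ (a, t) := by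
    rw [Char.isCharacter_iff]
    refine ⟨fun g h => ?_, fun lam hlam => ?_⟩
    · show (Nat.card Q : ℂ)⁻¹ * ∑ t, ξ (h * g * h⁻¹, t) = (Nat.card Q : ℂ)⁻¹ * ∑ t, ξ (g, t)
      congr 1
      refine Finset.sum_congr rfl fun t _ => ?_
      conv_rhs => rw [← hξ.isClassFunction (g, t) (h, 1)]
      simp
    · obtain ⟨n, hn⟩ := hξ.exists_nat_classInner (hlam.isCharacter.comp (MonoidHom.fst A Q))
      refine ⟨n, ?_⟩
      rw [← hn]
      simp only [classInner, Nat.card_prod, Nat.cast_mul, mul_inv, Fintype.sum_prod_type,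
        MonoidHom.coe_fst, Function.comp_apply]
      simp only [Finset.sum_mul, Finset.mul_sum]
      exact Finset.sum_congr rfl fun x _ => Finset.sum_congr rfl fun y _ => by ring
  exact hc.isIntegral a

/-- Class functions with coefficients in the local ring. -/
structure VChar (hM : IsPModular q M) {G : Type u} [Group G] [Fintype G] (F : G → ℂ) : Prop where
  isClass : IsClassFunction G F
  mem : ∀ χ : IrrCharacter G, classInner F (χ : G → ℂ) ∈ locRing hM

variable {G : Type u} [Group G] [Fintype G] (hM : IsPModular q M)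

theorem VChar.of_char {F : G → ℂ} (hF : IsCharacter G F) : VChar hM F :=
  ⟨hF.isClassFunction, fun χ => by
    obtain ⟨n, hn⟩ := hF.exists_nat_classInner χ.2.isCharacter
    rw [hn]; exact natCast_mem _ n⟩

theorem VChar.sub {F F' : G → ℂ} (hF : VChar hM F) (hF' : VChar hM F') : VChar hM (F - F') :=
  ⟨fun g h => by simp [hF.isClass g h, hF'.isClass g h],
    fun χ => by rw [Char.classInner_sub_left]; exact sub_mem (hF.mem χ) (hF'.mem χ)⟩

theorem VChar.smul {c : ℂ} (hc : c ∈ locRing hM) {F : G → ℂ} (hF : VChar hM F) :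
    VChar hM (c • F) :=
  ⟨fun g h => by simp [hF.isClass g h],
    fun χ => by rw [Char.classInner_smul_left]; exact mul_mem hc (hF.mem χ)⟩

theorem VChar.sum {ι : Type*} (s : Finset ι) (F : ι → G → ℂ) (hF : ∀ i ∈ s, VChar hM (F i)) :
    VChar hM (∑ i ∈ s, F i) :=
  ⟨fun g h => by
      simp only [Finset.sum_apply]
      exact Finset.sum_congr rfl fun i hi => (hF i hi).isClass g h,
    fun χ => by rw [Char.classInner_sum_left]; exact sum_mem fun i hi => (hF i hi).mem χ⟩

theorem VChar.classInner_char {F : G → ℂ} (hF : VChar hM F) {ψ : G → ℂ} (hψ : IsCharacter G ψ) :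
    classInner F ψ ∈ locRing hM := by
  rw [Char.classInner_eq_sum hF.isClass]
  refine sum_mem fun χ _ => mul_mem (hF.mem χ) ?_
  obtain ⟨n, hn⟩ := hψ.exists_nat_classInner χ.2.isCharacter
  rw [hn, Complex.conj_natCast]
  exact natCast_mem _ n

open Classical in
/-- The function induced from the indicator of `s Q`, up to the factor `|Q|`. -/
noncomputable def secFun (s : G) (Q : Subgroup G) : G → ℂ := fun g =>
  (Nat.card Q : ℂ)⁻¹ * ((Finset.univ.filter fun x : G => s⁻¹ * (x⁻¹ * g * x) ∈ Q).card : ℂ)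

theorem secFun_conj (s : G) (Q : Subgroup G) (g k : G) :
    secFun s Q (k * g * k⁻¹) = secFun s Q g := by
  classical
  simp only [secFun]
  congr 2
  refine Finset.card_equiv (Equiv.mulLeft k⁻¹) fun x => ?_
  simp only [Finset.mem_filter, Finset.mem_univ, true_and, Equiv.coe_mulLeft]
  rw [show x⁻¹ * (k * g * k⁻¹) * x = (k⁻¹ * x)⁻¹ * g * (k⁻¹ * x) by group]

theorem classInner_secFun_mul (s : G) (Q : Subgroup G) [Fintype Q] {F : G → ℂ}
    (hF : IsClassFunction G F) :
    (Nat.card G : ℂ)⁻¹ * ∑ g, secFun s Q g * F g =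
      (Nat.card Q : ℂ)⁻¹ * ∑ t : Q, F (s * t) := by
  classical
  simp only [secFun, Finset.card_filter, Nat.cast_sum, Nat.cast_ite, Nat.cast_one, Nat.cast_zero,
    Finset.mul_sum, Finset.sum_mul, mul_ite, mul_one, mul_zero, ite_mul, zero_mul]
  rw [Finset.sum_comm]
  have hx : ∀ x : G, (∑ g : G, if s⁻¹ * (x⁻¹ * g * x) ∈ Q then
      (Nat.card G : ℂ)⁻¹ * ((Nat.card Q : ℂ)⁻¹ * F g) else 0) =
      ∑ t : Q, (Nat.card G : ℂ)⁻¹ * ((Nat.card Q : ℂ)⁻¹ * F (s * t)) := by
    intro x
    rw [← Finset.sum_filter]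
    refine Finset.sum_bij' (fun g hg => ⟨s⁻¹ * (x⁻¹ * g * x), (Finset.mem_filter.1 hg).2⟩)
      (fun t _ => x * (s * t) * x⁻¹) (fun _ _ => Finset.mem_univ _)
      (fun t _ => Finset.mem_filter.2 ⟨Finset.mem_univ _, by
        rw [show s⁻¹ * (x⁻¹ * (x * (s * t) * x⁻¹) * x) = (t : G) by group]; exact t.2⟩)
      (fun g _ => by group) (fun t _ => Subtype.ext (by group)) (fun g _ => ?_)
    rw [show F (s * (s⁻¹ * (x⁻¹ * g * x))) = F g by
      rw [mul_inv_cancel_left, show x⁻¹ * g * x = x⁻¹ * g * (x⁻¹)⁻¹ by group, hF]]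
  rw [Finset.sum_congr rfl fun x _ => hx x, Finset.sum_const, Finset.card_univ,
    ← Nat.card_eq_fintype_card, nsmul_eq_mul, Finset.mul_sum]
  exact Finset.sum_congr rfl fun t _ => by field_simp [Char.card_cast_ne_zero (G := G)]

variable [Fact q.Prime]

theorem isIntegral_avg_section (s : G) (Q : Subgroup G) [Fintype Q]
    (hQ : ∀ t ∈ Q, Commute s t) {ψ : G → ℂ} (hψ : IsCharacter G ψ) :
    IsIntegral ℤ ((Nat.card Q : ℂ)⁻¹ * ∑ t : Q, ψ (s * t)) := by
  haveI := Fintype.ofFinite (Subgroup.zpowers s)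
  let φ : Subgroup.zpowers s × Q →* G :=
    MonoidHom.noncommCoprod (Subgroup.zpowers s).subtype Q.subtype fun a t => by
      obtain ⟨n, hn⟩ := Subgroup.mem_zpowers_iff.1 a.2
      rw [Subgroup.coe_subtype, Subgroup.coe_subtype, ← hn]
      exact (hQ t t.2).zpow_left n
  have := isIntegral_avg_prod (hψ.comp φ) ⟨s, Subgroup.mem_zpowers s⟩
  simpa [φ] using this

theorem VChar.secFun_mul (s : G) (Q : Subgroup G) (hQ : ∀ t ∈ Q, Commute s t) {F : G → ℂ}
    (hF : VChar hM F) : VChar hM (secFun s Q * F) := by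
  refine ⟨fun g h => by simp [secFun_conj, hF.isClass g h], fun χ => ?_⟩
  haveI := Fintype.ofFinite Q
  have e : classInner (secFun s Q * F) (χ : G → ℂ) =
      (Nat.card Q : ℂ)⁻¹ * ∑ t : Q, F (s * t) * conj ((χ : G → ℂ) (s * t)) := by
    rw [classInner, ← classInner_secFun_mul s Q (F := fun g => F g * conj ((χ : G → ℂ) g))
      (fun g h => by simp only [hF.isClass g h, χ.2.isClassFunction g h])]
    congr 1
    exact Finset.sum_congr rfl fun g _ => by rw [Pi.mul_apply, mul_assoc]
  have e2 : ∀ t : Q, F (s * t) * conj ((χ : G → ℂ) (s * t)) = ∑ η : IrrCharacter G,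
      classInner F (η : G → ℂ) * ((η : G → ℂ) * fun g => conj ((χ : G → ℂ) g)) (s * t) := by
    intro t
    conv_lhs => rw [Char.eq_sum_classInner hF.isClass]
    simp only [Finset.sum_apply, Pi.smul_apply, smul_eq_mul, Finset.sum_mul, Pi.mul_apply,
      mul_assoc]
  rw [e, Finset.sum_congr rfl fun t _ => e2 t, Finset.sum_comm, Finset.mul_sum]
  refine sum_mem fun η _ => ?_
  rw [← Finset.mul_sum, mul_left_comm]
  exact mul_mem (hF.mem η) (isIntegral_mem_locRing hM
    (isIntegral_avg_section s Q hQ (η.2.isCharacter.mul χ.2.isCharacter.conjFn)))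

theorem eq_pReg {g x y : G} (hxy : x * y = g) (hc : Commute x y) {k : ℕ}
    (hx : orderOf x = q ^ k) (hy : ¬ q ∣ orderOf y) : y = pReg q g := by
  have h := eq_pPt hxy hc hx hy
  have h2 := pPt_mul_pReg (p := q) g
  rw [← h] at h2
  exact (mul_left_cancel (h2.trans hxy.symm)).symm

theorem pReg_conj (g x : G) : pReg q (x * g * x⁻¹) = x * pReg q g * x⁻¹ := by
  obtain ⟨k, hk⟩ := exists_orderOf_pPt (p := q) g
  refine (eq_pReg (x := x * pPt q g * x⁻¹) ?_ ?_ (k := k) ?_ ?_).symm
  · conv_rhs => rw [← pPt_mul_pReg (p := q) g]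
    group
  · exact (pPt_commute_pReg g).map (MulAut.conj x).toMonoidHom
  · exact ((MulAut.conj x).orderOf_eq _).trans hk
  · rw [show orderOf (x * pReg q g * x⁻¹) = orderOf (pReg q g) from (MulAut.conj x).orderOf_eq _]
    exact not_dvd_orderOf_pReg g

theorem exists_orderOf_eq_pow_of_mem {Q : Subgroup G} (hQ : IsPGroup q Q) {t : G} (ht : t ∈ Q) :
    ∃ k : ℕ, orderOf t = q ^ k := by
  obtain ⟨k, hk⟩ := IsPGroup.iff_orderOf.1 hQ ⟨t, ht⟩
  exact ⟨k, by rw [← hk, Subgroup.orderOf_mk]⟩

/-- The section function vanishes off the section of `s`. -/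
theorem secFun_eq_zero {s : G} (hs : ¬ q ∣ orderOf s) {Q : Subgroup G} (hQp : IsPGroup q Q)
    (hQ : ∀ t ∈ Q, Commute s t) {g : G} (hg : ¬ IsConj (pReg q g) s) : secFun s Q g = 0 := by
  classical
  rw [secFun, Finset.card_eq_zero.2, Nat.cast_zero, mul_zero]
  rw [Finset.filter_eq_empty_iff]
  intro x _ hx
  apply hg
  obtain ⟨k, hk⟩ := exists_orderOf_eq_pow_of_mem hQp hx
  have h := eq_pReg (g := x⁻¹ * g * x) (x := s⁻¹ * (x⁻¹ * g * x)) (y := s)
    (by
      have := (hQ _ hx).eq
      rw [← this]; group)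
    (hQ _ hx).symm hk hs
  refine isConj_iff.2 ⟨x⁻¹, ?_⟩
  rw [h, show x⁻¹ * g * x = x⁻¹ * g * (x⁻¹)⁻¹ by group, pReg_conj]

/-- On the section of `s` the section function is a unit. -/
theorem exists_secFun_eq (s : G) (hs : ¬ q ∣ orderOf s) :
    ∃ Q : Subgroup G, IsPGroup q Q ∧ (∀ t ∈ Q, Commute s t) ∧
      ∀ g : G, IsConj (pReg q g) s → ∃ n : ℕ, ¬ q ∣ n ∧ secFun s Q g = n := by
  classical
  set C : Subgroup G := Subgroup.centralizer ({s} : Set G) with hC
  obtain ⟨S⟩ : Nonempty (Sylow q C) := inferInstance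
  refine ⟨(S : Subgroup C).map C.subtype, S.isPGroup'.map _, ?_, ?_⟩
  · rintro t ⟨⟨t, ht⟩, -, rfl⟩
    exact Subgroup.mem_centralizer_iff.1 ht s rfl
  intro g hg
  obtain ⟨c, hc⟩ := isConj_iff.1 hg
  set g' := c * g * c⁻¹ with hg'
  have hreg : pReg q g' = s := by rw [hg', pReg_conj, hc]
  have hsec : secFun s ((S : Subgroup C).map C.subtype) g =
      secFun s ((S : Subgroup C).map C.subtype) g' := (secFun_conj _ _ g c).symm
  set t0 := pPt q g' with ht0
  have hg'eq : t0 * s = g' := by rw [ht0, ← hreg, pPt_mul_pReg]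
  have hcomm : Commute t0 s := hreg ▸ pPt_commute_pReg g'
  have ht0C : t0 ∈ C := Subgroup.mem_centralizer_iff.2 fun _ h => by
    rw [Set.mem_singleton_iff] at h; subst h; exact hcomm.symm.eq
  obtain ⟨k0, hk0⟩ := exists_orderOf_pPt (p := q) g'
  set u : C := ⟨t0, ht0C⟩ with hu
  have hP : IsPGroup q (Subgroup.zpowers u) := IsPGroup.of_card (n := k0) (by
    rw [Nat.card_zpowers, ← Subgroup.orderOf_coe]; exact hk0)
  haveI := hP
  set Fix := MulAction.fixedPoints (Subgroup.zpowers u) (C ⧸ (S : Subgroup C)) with hFix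
  have hmod := hP.card_modEq_card_fixedPoints (C ⧸ (S : Subgroup C))
  refine ⟨Nat.card Fix, fun hdvd => ?_, ?_⟩
  · exact S.not_dvd_index ((Nat.modEq_zero_iff_dvd.1 (hmod.trans (Nat.modEq_zero_iff_dvd.2 hdvd))))
  rw [hsec, secFun]
  have hQcard : Nat.card ((S : Subgroup C).map C.subtype) = Nat.card (S : Subgroup C) :=
    Subgroup.card_map_of_injective (Subgroup.subtype_injective _)
  have hcount : (Finset.univ.filter fun x : G =>
      s⁻¹ * (x⁻¹ * g' * x) ∈ (S : Subgroup C).map C.subtype).card =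
      Nat.card (QuotientGroup.mk (s := (S : Subgroup C)) ⁻¹' Fix) := by
    rw [← Nat.card_eq_finsetCard]
    have hmemfix : ∀ x : C, (QuotientGroup.mk x : C ⧸ (S : Subgroup C)) ∈ Fix ↔
        x⁻¹ * u * x ∈ (S : Subgroup C) := by
      intro x
      rw [hFix, MulAction.mem_fixedPoints]
      constructor
      · intro h
        have h2 := h ⟨u, Subgroup.mem_zpowers u⟩
        change (QuotientGroup.mk (u * x) : C ⧸ (S : Subgroup C)) = QuotientGroup.mk x at h2
        rw [QuotientGroup.eq] at h2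
        have := inv_mem h2
        simpa [mul_assoc] using this
      · rintro h ⟨a, ha⟩
        obtain ⟨n, rfl⟩ := Subgroup.mem_zpowers_iff.1 ha
        show (QuotientGroup.mk (u ^ n * x) : C ⧸ (S : Subgroup C)) = QuotientGroup.mk x
        rw [QuotientGroup.eq]
        have := inv_mem (zpow_mem h n)
        rw [show x⁻¹ * u * x = x⁻¹ * u * (x⁻¹)⁻¹ by rw [inv_inv], conj_zpow] at this
        simpa [mul_assoc] using this
    have hxC : ∀ x : G, s⁻¹ * (x⁻¹ * g' * x) ∈ (S : Subgroup C).map C.subtype → x ∈ C := by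
      intro x hx
      obtain ⟨y, hyS, hy⟩ := hx
      obtain ⟨k, hk⟩ := exists_orderOf_eq_pow_of_mem S.isPGroup' hyS
      have hcy : Commute (y : G) s := (Subgroup.mem_centralizer_iff.1 y.2 s rfl : s * (y : G) = _).symm
      have h := eq_pReg (g := x⁻¹ * g' * x) (x := (y : G)) (y := s)
        (by rw [hcy.eq, ← Subgroup.coe_subtype, hy]; group) hcy
        (by rw [Subgroup.orderOf_coe]; exact hk) hs
      rw [show x⁻¹ * g' * x = x⁻¹ * g' * (x⁻¹)⁻¹ by group, pReg_conj, hreg] at h
      refine Subgroup.mem_centralizer_iff.2 fun z hz => ?_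
      rw [Set.mem_singleton_iff] at hz
      subst hz
      calc z * x = x * (x⁻¹ * z * (x⁻¹)⁻¹) := by group
        _ = x * z := by rw [← h]
    have hconv : ∀ x : C, s⁻¹ * ((x : G)⁻¹ * g' * x) = ((x⁻¹ * u * x : C) : G) := by
      intro x
      have hx : Commute (x : G) s := (Subgroup.mem_centralizer_iff.1 x.2 s rfl : s * (x : G) = _).symm
      simp only [Subgroup.coe_mul, Subgroup.coe_inv, hu, ← hg'eq]
      rw [hcomm.eq]
      calc s⁻¹ * ((x : G)⁻¹ * (s * t0) * x) = s⁻¹ * (((x : G)⁻¹ * s) * t0 * x) := by group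
        _ = s⁻¹ * ((s * (x : G)⁻¹) * t0 * x) := by rw [hx.inv_left.eq]
        _ = (x : G)⁻¹ * t0 * x := by group
    refine Nat.card_congr
      { toFun := fun x => ⟨⟨x.1, hxC x.1 (Finset.mem_filter.1 x.2).2⟩, ?_⟩
        invFun := fun x => ⟨(x.1 : G), ?_⟩
        left_inv := fun x => rfl
        right_inv := fun x => rfl }
    · rw [Set.mem_preimage, hmemfix]
      have := (Finset.mem_filter.1 x.2).2
      rw [hconv ⟨x.1, hxC x.1 this⟩] at this
      exact (Subgroup.mem_map_iff_mem (Subgroup.subtype_injective _)).1 this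
    · rw [Finset.mem_filter]
      refine ⟨Finset.mem_univ _, ?_⟩
      rw [hconv x.1]
      exact Subgroup.mem_map_of_mem _ ((hmemfix x.1).1 x.2)
  rw [hcount, Nat.card_congr (QuotientGroup.preimageMkEquivSubgroupProdSet _ Fix), Nat.card_prod,
    hQcard, Nat.cast_mul, inv_mul_cancel_left₀ (Nat.cast_ne_zero.2 Nat.card_pos.ne')]

open Classical in
/-- Indicators of `q`-sections are local virtual characters. -/
theorem vChar_section (s : G) (hs : ¬ q ∣ orderOf s) :
    VChar hM (fun g : G => if IsConj (pReg q g) s then (1 : ℂ) else 0) := by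
  obtain ⟨Q, hQp, hQc, hval⟩ := exists_secFun_eq (q := q) s hs
  set f := secFun s Q with hf
  set V : Finset ℂ := (Finset.univ.filter fun g : G => IsConj (pReg q g) s).image f with hV
  have hVu : ∀ c ∈ V, c⁻¹ ∈ locRing hM ∧ c ≠ 0 := by
    intro c hc
    rw [hV, Finset.mem_image] at hc
    obtain ⟨g, hg, rfl⟩ := hc
    obtain ⟨n, hn, e⟩ := hval g (Finset.mem_filter.1 hg).2
    rw [e]
    exact ⟨inv_natCast_mem_locRing hM hn, by exact_mod_cast fun h : n = 0 => hn (h ▸ dvd_zero q)⟩
  have h1 : VChar hM (1 : G → ℂ) := VChar.of_char hM Char.isCharacter_one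
  have hprod : VChar hM (∏ c ∈ V, ((1 : G → ℂ) - c⁻¹ • f)) := by
    clear_value V
    clear hV
    induction V using Finset.induction_on with
    | empty => simpa using h1
    | insert c V hc ih =>
      have hih := ih fun d hd => hVu d (Finset.mem_insert_of_mem hd)
      rw [Finset.prod_insert hc, sub_mul, one_mul, smul_mul_assoc]
      exact hih.sub hM (VChar.smul hM (hVu c (Finset.mem_insert_self _ _)).1
        (VChar.secFun_mul hM s Q hQc hih))
  have e : (fun g : G => if IsConj (pReg q g) s then (1 : ℂ) else 0) =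
      (1 : G → ℂ) - ∏ c ∈ V, ((1 : G → ℂ) - c⁻¹ • f) := by
    funext g
    simp only [Pi.sub_apply, Pi.one_apply, Finset.prod_apply, Pi.smul_apply, smul_eq_mul]
    split_ifs with hg
    · have hm : f g ∈ V := Finset.mem_image.2 ⟨g, Finset.mem_filter.2 ⟨Finset.mem_univ _, hg⟩, rfl⟩
      rw [Finset.prod_eq_zero hm (by rw [inv_mul_cancel₀ (hVu _ hm).2, sub_self]), sub_zero]
    · rw [hf, secFun_eq_zero hs hQp hQc hg]
      simp
  rw [e]
  exact h1.sub hM hprod

omit [Fact q.Prime] in
include hM in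
open Classical in
/-- Averages of character products over `p`-regular elements are local at primes other than `p`. -/
theorem classInner_reg_mem {p : ℕ} [hp : Fact p.Prime] (hne : q ≠ p) {ψ : G → ℂ}
    (hψ : IsCharacter G ψ) :
    classInner (fun g : G => if IsPRegular p g then (1 : ℂ) else 0) ψ ∈ locRing hM := by
  haveI : Fact q.Prime := ⟨hM.1⟩
  haveI : Finite (ConjClasses G) := Quotient.finite _
  haveI := Fintype.ofFinite (ConjClasses G)
  have hiff : ∀ g : G, IsPRegular p g ↔ IsPRegular p (pReg q g) := by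
    intro g
    constructor
    · exact fun h h' => h (h'.trans (orderOf_dvd_of_mem_zpowers (pReg_mem_zpowers g)))
    · intro h h'
      obtain ⟨k, hk⟩ := exists_orderOf_pPt (p := q) g
      have : orderOf g ∣ q ^ k * orderOf (pReg q g) := by
        conv_lhs => rw [← pPt_mul_pReg (p := q) g]
        exact (pPt_commute_pReg g).orderOf_mul_dvd_mul_orderOf.trans (by rw [hk])
      rcases hp.out.dvd_mul.1 (h'.trans this) with h2 | h2
      · exact hne ((Nat.prime_dvd_prime_iff_eq hp.out hM.1).1 (hp.out.dvd_of_dvd_pow h2)).symm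
      · exact h h2
  set T := Finset.univ.filter fun C : ConjClasses G =>
    IsPRegular p C.out ∧ ¬ q ∣ orderOf C.out with hT
  have hmk : ∀ g : G, IsConj g (ConjClasses.mk g).out := fun g =>
    ConjClasses.mk_eq_mk_iff_isConj.1 (Quotient.out_eq (ConjClasses.mk g)).symm
  have hord : ∀ a b : G, IsConj a b → orderOf a = orderOf b := fun a b h => by
    obtain ⟨c, rfl⟩ := isConj_iff.1 h
    exact ((MulAut.conj c).orderOf_eq a).symm
  have e : (fun g : G => if IsPRegular p g then (1 : ℂ) else 0) =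
      ∑ C ∈ T, fun g : G => if IsConj (pReg q g) C.out then (1 : ℂ) else 0 := by
    funext g
    rw [Finset.sum_apply, Finset.sum_ite, Finset.sum_const_zero, add_zero, Finset.sum_const,
      nsmul_eq_mul, mul_one]
    by_cases hg : IsPRegular p g
    · rw [if_pos hg]
      suffices h : (T.filter fun C : ConjClasses G => IsConj (pReg q g) C.out) =
          {ConjClasses.mk (pReg q g)} by rw [h, Finset.card_singleton, Nat.cast_one]
      ext C
      simp only [Finset.mem_filter, hT, Finset.mem_univ, true_and, Finset.mem_singleton]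
      constructor
      · rintro ⟨-, hC⟩
        exact (Quotient.out_eq C).symm.trans (ConjClasses.mk_eq_mk_iff_isConj.2 hC.symm)
      · rintro rfl
        refine ⟨⟨?_, ?_⟩, hmk _⟩
        · show ¬ p ∣ orderOf (ConjClasses.mk (pReg q g)).out
          rw [← hord _ _ (hmk _)]
          exact (hiff g).1 hg
        · rw [← hord _ _ (hmk _)]
          exact not_dvd_orderOf_pReg g
    · rw [if_neg hg]
      have hempty : (T.filter fun C : ConjClasses G => IsConj (pReg q g) C.out) = ∅ := by
        rw [Finset.filter_eq_empty_iff]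
        intro C hC hconj
        simp only [hT, Finset.mem_filter, Finset.mem_univ, true_and] at hC
        refine hg ((hiff g).2 ?_)
        show ¬ p ∣ orderOf (pReg q g)
        rw [hord _ _ hconj]
        exact hC.1
      rw [hempty]; simp
  rw [e]
  exact (VChar.sum hM T _ fun C hC => vChar_section hM C.out
    (Finset.mem_filter.1 hC).2.2).classInner_char hM hψ

/-- A rational number that is integral away from `p` and local at `p` is an integer. -/
theorem exists_int_of_local {r : ℚ}
    (h : ∀ l : ℕ, l.Prime → ∃ (N : Ideal AlgInt) (hN : IsPModular l N), (r : ℂ) ∈ locRing hN) :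
    ∃ m : ℤ, r = m := by
  refine ⟨r.num, ?_⟩
  suffices r.den = 1 by rw [← Rat.num_div_den r, this]; simp
  by_contra hd
  obtain ⟨l, hl, hld⟩ := Nat.exists_prime_and_dvd hd
  obtain ⟨N, hN, hmem⟩ := h l hl
  have hr : (r : ℂ) * (r.den : ℂ) = (r.num : ℂ) := by
    rw [Rat.cast_def, div_mul_cancel₀]
    exact_mod_cast r.den_nz
  have h1 : MemLocalIdeal N (r.num : ℂ) := by
    rw [← hr]
    exact memLocalIdeal_mul_left hN hmem ((memLocalIdeal_natCast_iff hN _).2 hld)
  have h2 : l ∣ r.num.natAbs := by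
    rcases Int.natAbs_eq r.num with e | e <;> rw [e] at h1
    · rw [Int.cast_natCast] at h1
      exact (memLocalIdeal_natCast_iff hN _).1 h1
    · rw [Int.cast_neg, Int.cast_natCast] at h1
      have := memLocalIdeal_neg hN h1
      rw [neg_neg] at this
      exact (memLocalIdeal_natCast_iff hN _).1 this
  exact hl.not_dvd_one (r.reduced ▸ Nat.dvd_gcd h2 hld)

end Cfsg.Lib.Block
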