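import Cfsg.Agent.Lib.Block.KleinFormula

/-!
# The order formula in terms of given degrees and signs
-/

set_option autoImplicit false
set_option linter.unusedSectionVars false
set_option maxHeartbeats 800000

namespace Cfsg.Lib.Block

open Cfsg
open scoped ComplexConjugate

universe u

variable {G : Type u} [Group G] [Fintype G] {P : Sylow 2 G} {M : Ideal AlgInt}

open Classical in
theorem sum_block_four {χ₁ χ₂ χ₃ : IrrCharacter G}
    (hB : principalBlock M G = {χ : IrrCharacter G |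
      (χ : G → ℂ) = (fun _ => 1) ∨ χ = χ₁ ∨ χ = χ₂ ∨ χ = χ₃})
    (hdist : (χ₁ : G → ℂ) ≠ (fun _ => 1) ∧ (χ₂ : G → ℂ) ≠ (fun _ => 1) ∧
      (χ₃ : G → ℂ) ≠ (fun _ => 1) ∧ χ₁ ≠ χ₂ ∧ χ₁ ≠ χ₃ ∧ χ₂ ≠ χ₃)
    {α : Type*} [AddCommMonoid α] (f : IrrCharacter G → α) :
    ∑ χ ∈ (principalBlock M G).toFinset, f χ = f (trivChar G) + (f χ₁ + (f χ₂ + f χ₃)) := by
  obtain ⟨h1, h2, h3, h12, h13, h23⟩ := hdist
  have e : (principalBlock M G).toFinset = {trivChar G, χ₁, χ₂, χ₃} := by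
    ext χ
    rw [Set.mem_toFinset, hB]
    simp only [Set.mem_ofPred_eq, Finset.mem_insert, Finset.mem_singleton]
    exact or_congr_left ⟨fun h => Subtype.ext h, fun h => by rw [h]; rfl⟩
  have n1 : trivChar G ≠ χ₁ := fun h => h1 (h ▸ rfl)
  have n2 : trivChar G ≠ χ₂ := fun h => h2 (h ▸ rfl)
  have n3 : trivChar G ≠ χ₃ := fun h => h3 (h ▸ rfl)
  rw [e, Finset.sum_insert (by simp [n1, n2, n3]), Finset.sum_insert (by simp [h12, h13]),
    Finset.sum_pair h23]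

variable (hM : IsPModular 2 M) (hP : KleinCond P) {J : G} (hJ : J ∈ (P : Subgroup G))
  (hJ2 : orderOf J = 2) {χ₁ χ₂ χ₃ : IrrCharacter G} {ε₁ ε₂ ε₃ : ℤ}
  (hB : principalBlock M G = {χ : IrrCharacter G |
    (χ : G → ℂ) = (fun _ => 1) ∨ χ = χ₁ ∨ χ = χ₂ ∨ χ = χ₃})
  (hdist : (χ₁ : G → ℂ) ≠ (fun _ => 1) ∧ (χ₂ : G → ℂ) ≠ (fun _ => 1) ∧
    (χ₃ : G → ℂ) ≠ (fun _ => 1) ∧ χ₁ ≠ χ₂ ∧ χ₁ ≠ χ₃ ∧ χ₂ ≠ χ₃)
  (hval : (χ₁ : G → ℂ) J = ε₁ ∧ (χ₂ : G → ℂ) J = ε₂ ∧ (χ₃ : G → ℂ) J = ε₃)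

include hM hP hJ2 hB hdist hval in
theorem klein_degree_relation :
    1 + (ε₁ : ℚ) * charDegree (χ₁ : G → ℂ) + (ε₂ : ℚ) * charDegree (χ₂ : G → ℂ) +
      (ε₃ : ℚ) * charDegree (χ₃ : G → ℂ) = 0 := by
  classical
  have h := klein_relation hM hP hJ2 (y := (1 : G)) (by simp [IsPRegular])
  rw [sum_block_four hB hdist] at h
  rw [show ((trivChar G : IrrCharacter G) : G → ℂ) J = 1 from rfl,
    show ((trivChar G : IrrCharacter G) : G → ℂ) 1 = 1 from rfl,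
    hval.1, hval.2.1, hval.2.2] at h
  simp only [apply_one_eq_charDegree] at h
  apply Rat.cast_injective (α := ℂ)
  push_cast
  linear_combination h

include hM hP hJ hJ2 hB hdist hval in
theorem klein_order_rat :
    (Nat.card G : ℚ) * (1 + (ε₁ : ℚ) / charDegree (χ₁ : G → ℂ) +
        (ε₂ : ℚ) / charDegree (χ₂ : G → ℂ) + (ε₃ : ℚ) / charDegree (χ₃ : G → ℂ)) *
        (Nat.card (Subgroup.centralizer ((P : Subgroup G) : Set G)) : ℚ) ^ 2 =
      8 * (Nat.card (Subgroup.centralizer ({J} : Set G)) : ℚ) ^ 3 := by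
  classical
  have h := klein_order_eq hM hP hJ2 hJ
  rw [sum_block_four hB hdist] at h
  rw [show ((trivChar G : IrrCharacter G) : G → ℂ) J = 1 from rfl,
    show ((trivChar G : IrrCharacter G) : G → ℂ) 1 = 1 from rfl, hval.1, hval.2.1, hval.2.2,
    div_one] at h
  simp only [apply_one_eq_charDegree] at h
  apply Rat.cast_injective (α := ℂ)
  push_cast
  linear_combination h

end Cfsg.Lib.Block
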