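import Cfsg.Agent.Lib.Block.KleinValues

/-!
# The four characters of the principal 2-block for a four-group Sylow subgroup
-/

set_option autoImplicit false
set_option linter.unusedSectionVars false
set_option maxHeartbeats 400000

namespace Cfsg.Lib.Block

open Cfsg
open scoped ComplexConjugate

universe u

variable {G : Type u} [Group G] [Fintype G] {P : Sylow 2 G} {M : Ideal AlgInt}
  (hM : IsPModular 2 M) (hP : KleinCond P) {z : G} (hz : orderOf z = 2)

include hM hP hz in
/-- The four characters of the block with their signs. -/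
theorem klein_exists_three :
    ∃ a b c : IrrCharacter G, a ≠ trivChar G ∧ b ≠ trivChar G ∧ c ≠ trivChar G ∧
      a ≠ b ∧ a ≠ c ∧ b ≠ c ∧ (a : G → ℂ) z = 1 ∧ (c : G → ℂ) z = -1 ∧
      ((b : G → ℂ) z = 1 ∨ (b : G → ℂ) z = -1) ∧
      principalBlock M G = {trivChar G, a, b, c} := by
  classical
  obtain ⟨hsg, hcard⟩ := klein_signs hM hP hz
  set B := (principalBlock M G).toFinset with hBdef
  have ht : trivChar G ∈ B := Set.mem_toFinset.2 (trivChar_mem_principal hM)
  have hB4 : B.card = 4 := by
    rw [← hcard, Nat.card_coe_set_eq, Set.ncard_eq_toFinset_card']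
  obtain ⟨x, y, w, hxy, hxw, hyw, he⟩ := Finset.card_eq_three.1
    (show (B.erase (trivChar G)).card = 3 by rw [Finset.card_erase_of_mem ht, hB4])
  have hmem : ∀ v, v = x ∨ v = y ∨ v = w → v ≠ trivChar G ∧ v ∈ principalBlock M G := by
    intro v hv
    have : v ∈ B.erase (trivChar G) := by
      rw [he]; simpa using hv
    exact ⟨(Finset.mem_erase.1 this).1, Set.mem_toFinset.1 (Finset.mem_erase.1 this).2⟩
  have hset : principalBlock M G = {trivChar G, x, y, w} := by
    rw [← Set.coe_toFinset (principalBlock M G), ← hBdef, ← Finset.insert_erase ht, he]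
    simp
  have hrel := klein_relation hM hP hz (y := (1 : G)) (by simp [IsPRegular])
  rw [← hBdef, ← Finset.insert_erase ht, Finset.sum_insert (by simp), he,
    Finset.sum_insert (by simp [hxy, hxw]), Finset.sum_pair hyw] at hrel
  rw [show ((trivChar G : IrrCharacter G) : G → ℂ) z = 1 from rfl,
    show ((trivChar G : IrrCharacter G) : G → ℂ) 1 = 1 from rfl] at hrel
  simp only [one_mul, apply_one_eq_charDegree] at hrel
  obtain ⟨hx0, hxB⟩ := hmem x (Or.inl rfl)
  obtain ⟨hy0, hyB⟩ := hmem y (Or.inr (Or.inl rfl))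
  obtain ⟨hw0, hwB⟩ := hmem w (Or.inr (Or.inr rfl))
  have hdx := charDegree_pos x
  have hdy := charDegree_pos y
  have hdw := charDegree_pos w
  have hperm : ∀ {a b c : IrrCharacter G}, ({x, y, w} : Set (IrrCharacter G)) = {a, b, c} →
      principalBlock M G = {trivChar G, a, b, c} := fun h => by rw [hset, h]
  rcases hsg x hxB with sx | sx <;> rcases hsg y hyB with sy | sy <;>
    rcases hsg w hwB with sw | sw
  · exfalso
    rw [sx, sy, sw] at hrel
    simp only [one_mul] at hrel
    norm_cast at hrel
    omega
  · exact ⟨x, y, w, hx0, hy0, hw0, hxy, hxw, hyw, sx, sw, Or.inl sy, hset⟩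
  · exact ⟨x, w, y, hx0, hw0, hy0, hxw, hxy, hyw.symm, sx, sy, Or.inl sw,
      hperm (by rw [Set.pair_comm y w])⟩
  · exact ⟨x, y, w, hx0, hy0, hw0, hxy, hxw, hyw, sx, sw, Or.inr sy, hset⟩
  · exact ⟨y, w, x, hy0, hw0, hx0, hyw, hxy.symm, hxw.symm, sy, sx, Or.inl sw,
      hperm (by ext v; simp only [Set.mem_insert_iff, Set.mem_singleton_iff]; tauto)⟩
  · exact ⟨y, x, w, hy0, hx0, hw0, hxy.symm, hyw, hxw, sy, sw, Or.inr sx,
      hperm (Set.insert_comm x y _)⟩
  · exact ⟨w, x, y, hw0, hx0, hy0, hxw.symm, hyw.symm, hxy, sw, sy, Or.inr sx,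
      hperm (by ext v; simp only [Set.mem_insert_iff, Set.mem_singleton_iff]; tauto)⟩
  · exfalso
    rw [sx, sy, sw] at hrel
    have : ((charDegree (x : G → ℂ) + charDegree (y : G → ℂ) + charDegree (w : G → ℂ) : ℕ) : ℂ) =
        ((1 : ℕ) : ℂ) := by
      push_cast
      linear_combination -hrel
    have := Nat.cast_injective this
    omega

include hM hP hz in
open Classical in
/-- A combination of the block vanishing on regular elements is proportional to the signs. -/
theorem klein_coeff {c : IrrCharacter G → ℂ}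
    (h : ∀ y : G, IsPRegular 2 y → ∑ χ ∈ (principalBlock M G).toFinset, c χ * (χ : G → ℂ) y = 0)
    {χ : IrrCharacter G} (hχ : χ ∈ principalBlock M G) :
    4 * c χ =
      (χ : G → ℂ) z * ∑ η ∈ (principalBlock M G).toFinset, c η * (η : G → ℂ) z := by
  set B := (principalBlock M G).toFinset with hB
  set K := ∑ η ∈ B, c η * (η : G → ℂ) z with hK
  obtain ⟨m, hm⟩ := int_value_involution χ hz
  have hG : (Nat.card G : ℂ) ≠ 0 := Char.card_cast_ne_zero
  have h1 : ∑ g : G, (∑ η ∈ B, c η * (η : G → ℂ) g) * conj ((χ : G → ℂ) g) =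
      (Nat.card G : ℂ) * c χ := by
    simp only [Finset.sum_mul, mul_assoc]
    rw [Finset.sum_comm]
    simp only [← Finset.mul_sum]
    rw [Finset.sum_eq_single χ]
    · have := Char.classInner_irr_self χ.2
      rw [classInner, inv_mul_eq_one₀ hG] at this
      rw [← this, mul_comm]
    · intro η _ hne
      have := Char.classInner_irr_ne η.2 χ.2 (fun h' => hne (Subtype.ext h'))
      rw [classInner] at this
      rw [(mul_eq_zero.1 this).resolve_left (inv_ne_zero hG), mul_zero]
    · exact fun h' => absurd (Set.mem_toFinset.2 hχ) h'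
  have h2 : ∑ g : G, (∑ η ∈ B, c η * (η : G → ℂ) g) * conj ((χ : G → ℂ) g) =
      K * conj (∑ g ∈ Finset.univ.filter (fun g : G => ¬ IsPRegular 2 g), (χ : G → ℂ) g) := by
    rw [map_sum, Finset.mul_sum, ← Finset.sum_filter_add_sum_filter_not Finset.univ
      (fun g : G => IsPRegular 2 g),
      Finset.sum_eq_zero (s := Finset.univ.filter fun g : G => IsPRegular 2 g), zero_add]
    · refine Finset.sum_congr rfl fun g hg => ?_
      congr 1
      exact Finset.sum_congr rfl fun η hη => by
        rw [klein_apply_singular hM hP hz (Set.mem_toFinset.1 hη) (Finset.mem_filter.1 hg).2]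
    · intro g hg
      rw [h g (Finset.mem_filter.1 hg).2, zero_mul]
  have h3 := congrArg conj (klein_sum_singular hM hP hz χ)
  rw [if_pos hχ, map_mul, map_mul, map_natCast, hm, map_intCast,
    show conj (4 : ℂ) = 4 from Complex.conj_ofNat 4, ← hm] at h3
  apply mul_left_cancel₀ hG
  linear_combination 4 * h1.symm.trans h2 + K * h3

include hM hP hz in
/-- The block has rank three. -/
theorem klein_rank : blockRank 2 (principalBlock M G) = 3 := by
  classical
  obtain ⟨a, b, c, ha0, hb0, hc0, hab, hac, hbc, sa, sc, sb, hset⟩ :=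
    klein_exists_three hM hP hz
  set B := (principalBlock M G).toFinset with hB
  have hBe : B = {trivChar G, a, b, c} := by
    apply Finset.coe_injective
    rw [hB, Set.coe_toFinset, hset]
    simp
  set v : Fin 3 → (G → ℂ) := ![pRegularPart 2 ((trivChar G : IrrCharacter G) : G → ℂ),
    pRegularPart 2 (a : G → ℂ), pRegularPart 2 (b : G → ℂ)] with hv
  have hsum : ∀ f : IrrCharacter G → ℂ, ∑ χ ∈ B, f χ = f (trivChar G) + f a + f b + f c := by
    intro f
    rw [hBe, Finset.sum_insert (by simp [ha0.symm, hb0.symm, hc0.symm]),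
      Finset.sum_insert (by simp [hab, hac]), Finset.sum_pair hbc]
    ring
  have hspan : Submodule.span ℂ ((fun χ : IrrCharacter G => pRegularPart 2 (χ : G → ℂ)) ''
      principalBlock M G) = Submodule.span ℂ (Set.range v) := by
    apply le_antisymm
    · rw [Submodule.span_le]
      rintro _ ⟨χ, hχ, rfl⟩
      rw [hset] at hχ
      rcases hχ with rfl | rfl | rfl | rfl
      · exact Submodule.subset_span ⟨0, rfl⟩
      · exact Submodule.subset_span ⟨1, rfl⟩
      · exact Submodule.subset_span ⟨2, rfl⟩
      · have e : pRegularPart 2 (χ : G → ℂ) =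
            ((1 : ℂ) • v 0 + (1 : ℂ) • v 1) + ((b : G → ℂ) z) • v 2 := by
          funext g
          simp only [hv, Pi.add_apply, Pi.smul_apply, smul_eq_mul, Matrix.cons_val_zero,
            Matrix.cons_val_one, Matrix.cons_val]
          by_cases hg : IsPRegular 2 g
          · have := klein_relation hM hP hz hg
            rw [← hB, hsum] at this
            simp only [sa, sc, trivChar_coe] at this
            simp only [pRegularPart_of_reg hg, trivChar_coe]
            linear_combination -this
          · simp [pRegularPart_of_sing hg]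
        show pRegularPart 2 (χ : G → ℂ) ∈ Submodule.span ℂ (Set.range v)
        rw [e]
        exact Submodule.add_mem _ (Submodule.add_mem _
          (Submodule.smul_mem _ _ (Submodule.subset_span ⟨0, rfl⟩))
          (Submodule.smul_mem _ _ (Submodule.subset_span ⟨1, rfl⟩)))
          (Submodule.smul_mem _ _ (Submodule.subset_span ⟨2, rfl⟩))
    · rw [Submodule.span_le]
      rintro _ ⟨i, rfl⟩
      apply Submodule.subset_span
      fin_cases i
      · exact ⟨trivChar G, trivChar_mem_principal hM, rfl⟩
      · exact ⟨a, by rw [hset]; simp, rfl⟩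
      · exact ⟨b, by rw [hset]; simp, rfl⟩
  have hli : LinearIndependent ℂ v := by
    rw [Fintype.linearIndependent_iff]
    intro g hg
    set k : IrrCharacter G → ℂ := fun χ =>
      if χ = trivChar G then g 0 else if χ = a then g 1 else if χ = b then g 2 else 0 with hk
    have h0 : ∀ y : G, IsPRegular 2 y → ∑ χ ∈ B, k χ * (χ : G → ℂ) y = 0 := by
      intro y hy
      have := congrFun hg y
      simp only [Fin.sum_univ_three, hv, Pi.add_apply, Pi.smul_apply, smul_eq_mul,
        Matrix.cons_val_zero, Matrix.cons_val_one, Matrix.cons_val, Pi.zero_apply,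
        pRegularPart_of_reg hy] at this
      rw [hsum]
      simp only [hk, if_pos, if_neg ha0, if_neg hb0, if_neg hc0, if_neg hab.symm,
        if_neg hac.symm, if_neg hbc.symm]
      linear_combination this
    have hkc : k c = 0 := by
      simp only [hk, if_neg hc0, if_neg hac.symm, if_neg hbc.symm]
    have hK := klein_coeff hM hP hz h0 (χ := c) (by rw [hset]; simp)
    rw [hkc, mul_zero, sc, neg_one_mul, eq_comm, neg_eq_zero] at hK
    have hz0 : ∀ χ ∈ principalBlock M G, k χ = 0 := fun χ hχ => by
      have := klein_coeff hM hP hz h0 hχ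
      rw [hK, mul_zero] at this
      simpa using this
    intro i
    fin_cases i
    · simpa [hk] using hz0 (trivChar G) (trivChar_mem_principal hM)
    · simpa [hk, ha0] using hz0 a (by rw [hset]; simp)
    · simpa [hk, hb0, hab.symm] using hz0 b (by rw [hset]; simp)
  rw [blockRank, hspan, finrank_span_eq_card hli, Fintype.card_fin]

end Cfsg.Lib.Block

namespace Cfsg.Lib.Block

theorem KleinCond.exists_involution {G : Type*} [Group G] [Fintype G] {P : Sylow 2 G}
    (h : KleinCond P) : ∃ z ∈ (P : Subgroup G), orderOf z = 2 := by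
  haveI : Finite (P : Subgroup G) := inferInstance
  obtain ⟨x, hx⟩ : ∃ x : (P : Subgroup G), x ≠ 1 := by
    by_contra hc
    push Not at hc
    haveI : Subsingleton (P : Subgroup G) := ⟨fun a b => by rw [hc a, hc b]⟩
    have := Nat.card_unique (α := (P : Subgroup G))
    rw [show Nat.card (P : Subgroup G) = 4 from h.card] at this
    omega
  exact ⟨x, x.2, orderOf_eq_two_of_sq (h.sq x x.2) fun e => hx (Subtype.ext e)⟩

end Cfsg.Lib.Block
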