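import Cfsg.Agent.Lib.Block.MajorEstimate

/-!
# The bounds at a major subsection of small rank

If some integral vector has value one under the form of the block of the centralizer, the weighted
number of characters is at most `p ^ d`; otherwise each diagonal contribution has average at least
two, and for `p = 2` at least three or `2 ^ (h + 1)`.
-/

set_option autoImplicit false
set_option linter.unusedSectionVars false
set_option maxHeartbeats 800000

namespace Cfsg.Lib.Block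

open Cfsg Matrix
open scoped ComplexConjugate

universe u

/-- The setting of a major subsection `(u, b)` of `B`, with an integral form of `b`. -/
structure MajorSetup {p : ℕ} [Fact p.Prime] (M : Ideal AlgInt) {G : Type u} [Group G]
    {H : Subgroup G} [Fintype H] (e : ℕ) (u : G) (b : Set (IrrCharacter H))
    (B : Set (IrrCharacter G)) (m : IrrCharacter H → IrrCharacter H → ℤ) : Prop where
  pow_eq : u ^ p ^ (e + 1) = 1
  comm : ∀ h : H, Commute u (h : G)
  cen : Subgroup.centralizer ({u} : Set G) ≤ H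
  ind : IsInducedBlock M H b B
  major : blockDefect p b = blockDefect p B
  form : IsRegForm p b m

variable {p : ℕ} {M : Ideal AlgInt} {G : Type u} [Group G] [Fintype G] [Fact p.Prime]
  {H : Subgroup G} [Fintype H] {u : G}
  {b : Set (IrrCharacter H)} {B : Set (IrrCharacter G)} {e : ℕ}
  {m : IrrCharacter H → IrrCharacter H → ℤ}

namespace MajorSetup

variable (hS : MajorSetup (p := p) M e u b B m) (hM : IsPModular p M)

include hS in
theorem exists_order : ∃ k : ℕ, orderOf u = p ^ k := by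
  obtain ⟨k, -, hk⟩ :=
    (Nat.dvd_prime_pow (Fact.out : p.Prime)).1 (orderOf_dvd_of_pow_eq_one hS.pow_eq)
  exact ⟨k, hk⟩

include hS in
theorem mem : u ∈ H :=
  hS.cen (Subgroup.mem_centralizer_iff.2 fun z hz => by rw [Set.mem_singleton_iff] at hz; rw [hz])

include hS in
theorem classInner_congr (ξ : IrrCharacter H) (χ : IrrCharacter G) :
    classInner (secFn u H (χ : G → ℂ)) (ξ : H → ℂ) ∈ locRing hM ∧
      conj (classInner (secFn u H (χ : G → ℂ)) (ξ : H → ℂ)) ∈ locRing hM ∧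
      MemLocalIdeal M (conj (classInner (secFn u H (χ : G → ℂ)) (ξ : H → ℂ)) -
        classInner (secFn u H (χ : G → ℂ)) (ξ : H → ℂ)) := by
  obtain ⟨c, hc, hcχ⟩ := classInner_secFn hS.mem hS.comm χ ξ
  obtain ⟨n, hn⟩ := (χ.2.isCharacter.comp H.subtype).exists_nat_classInner ξ.2.isCharacter
  obtain ⟨k, hk⟩ := hS.exists_order
  rw [hk] at hc
  have hn' : classInner (fun h : H => (χ : G → ℂ) h) (ξ : H → ℂ) = n := hn
  rw [hcχ, hn', map_mul, map_natCast]
  have hcl : c ∈ locRing hM := isIntegral_mem_locRing hM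
    (IsIntegral.of_pow (pow_pos (Fact.out : p.Prime).pos k) (hc.symm ▸ isIntegral_one))
  have hc2 : (conj c) ^ p ^ k = 1 := by rw [← map_pow, hc, map_one]
  have hcl2 : conj c ∈ locRing hM := isIntegral_mem_locRing hM
    (IsIntegral.of_pow (pow_pos (Fact.out : p.Prime).pos k) (hc2.symm ▸ isIntegral_one))
  refine ⟨mul_mem hcl (natCast_mem _ _), mul_mem hcl2 (natCast_mem _ _), ?_⟩
  rw [← sub_mul]
  refine memLocalIdeal_mul_right hM ?_ (natCast_mem _ _)
  have := memLocalIdeal_sub hM (memLocalIdeal_sub_one_of_pow_prime_pow hM hc2)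
    (memLocalIdeal_sub_one_of_pow_prime_pow hM hc)
  rwa [sub_sub_sub_cancel_right] at this

open Classical in
include hS hM in
/-- The pairings are proportional to a row of the form. -/
theorem secT_row {φ₀ : IrrCharacter H} (hφ₀ : φ₀ ∈ b)
    (h0 : blockHeight p b (φ₀ : H → ℂ) = 0) (χ : IrrCharacter G) {φ : IrrCharacter H} (hφ : φ ∈ b) :
    MemLocalIdeal M (secT p (blockDefect p b) u χ φ * (m φ₀ φ₀ : ℂ) -
      secT p (blockDefect p b) u χ φ₀ * (m φ φ₀ : ℂ)) := by
  rw [secT_eq_sum hM hS.comm hS.ind.1 rfl χ hφ, secT_eq_sum hM hS.comm hS.ind.1 rfl χ hφ₀,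
    Finset.sum_mul, Finset.sum_mul, ← Finset.sum_sub_distrib]
  refine memLocalIdeal_sum hM _ _ fun ξ hξ => ?_
  have hξb := Set.mem_toFinset.1 hξ
  rw [hS.form.eq ξ hξb φ hφ, hS.form.eq ξ hξb φ₀ hφ₀, mul_assoc, mul_assoc, ← mul_sub,
    ← Int.cast_mul, ← Int.cast_mul, ← Int.cast_sub]
  refine memLocalIdeal_mul_left hM (hS.classInner_congr hM ξ χ).1 ?_
  obtain ⟨q, hq⟩ := hS.form.rankOne hM hS.ind.1 hφ₀ h0 hξb hφ
  rw [hq, Int.cast_mul, Int.cast_natCast]
  exact memLocalIdeal_mul_right hM ((memLocalIdeal_natCast_iff hM p).2 dvd_rfl) (intCast_mem _ _)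

include hS hM in
theorem exists_height_zero :
    ∃ φ₀ ∈ b, blockHeight p b (φ₀ : H → ℂ) = 0 ∧ ¬ MemLocalIdeal M (m φ₀ φ₀ : ℂ) ∧
      ¬ (p : ℤ) ∣ m φ₀ φ₀ := by
  obtain ⟨φ₀, hφ₀, hmin⟩ := exists_minVal (p := p) (nonempty_of_isPBlock hM hS.ind.1)
  have h0 := (blockHeight_eq_zero_iff hφ₀).2 hmin
  have hd : ¬ (p : ℤ) ∣ m φ₀ φ₀ := fun h =>
    hS.form.not_dvd φ₀ hφ₀ φ₀ hφ₀ h0 (by rwa [h0, zero_add, pow_one])
  exact ⟨φ₀, hφ₀, h0, fun h => hd (dvd_of_memLocalIdeal_intCast hM h), hd⟩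

open Classical in
include hS in
/-- The scaled pairings. -/
theorem secT_scaled {χ : IrrCharacter G} (hχ : χ ∈ B) (φ : IrrCharacter H) :
    secT p (blockDefect p b) u χ φ / (p : ℂ) ^ blockHeight p B (χ : G → ℂ) ∈ locRing hM ∧
      ((φ ∈ b ∧ blockHeight p b (φ : H → ℂ) = 0) →
        ¬ MemLocalIdeal M (secT p (blockDefect p b) u χ φ /
          (p : ℂ) ^ blockHeight p B (χ : G → ℂ))) := by
  have hu' := hS.exists_order
  obtain ⟨hf1, hf2⟩ := degree_factor_facts hM hS.ind.2.1 hS.major.symm hχ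
  rw [secT_eq_class hu' hS.comm hS.cen, mul_div_right_comm]
  refine ⟨mul_mem hf1 (secS_mem hM χ φ), fun hφ => mul_not_ideal hM hf1 (secS_mem hM χ φ) hf2 ?_⟩
  obtain ⟨χ₀, hχ₀, hmin⟩ := exists_minVal (p := p) (nonempty_of_isPBlock hM hS.ind.2.1)
  have h0 := (blockHeight_eq_zero_iff hχ₀).2 hmin
  intro hmem
  refine secT_not_mem hM hu' hS.comm hS.cen hS.ind rfl hχ₀ h0 hφ.1 hφ.2 ?_
  rw [secT_eq_class hu' hS.comm hS.cen]
  have h1 := (degree_factor_facts hM hS.ind.2.1 hS.major.symm hχ₀).1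
  rw [h0, pow_zero, div_one] at h1
  refine memLocalIdeal_mul_left hM h1 ?_
  have := memLocalIdeal_sub hM hmem (secS_sub_mem (u := u) hM hS.ind.2.1 hχ hχ₀ φ)
  rwa [sub_sub_cancel] at this

open Classical in
include hS hM in
/-- The combination of the pairings by a vector of value one is a scaled unit. -/
theorem comb_scaled (w : b.toFinset → ℤ) (hw : w ⬝ᵥ formMat b m *ᵥ w = 1) {χ : IrrCharacter G}
    (hχ : χ ∈ B) :
    (∑ φ : b.toFinset, (w φ : ℂ) * secT p (blockDefect p b) u χ (φ : IrrCharacter H)) /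
        (p : ℂ) ^ blockHeight p B (χ : G → ℂ) ∈ locRing hM ∧
      ¬ MemLocalIdeal M ((∑ φ : b.toFinset,
        (w φ : ℂ) * secT p (blockDefect p b) u χ (φ : IrrCharacter H)) /
          (p : ℂ) ^ blockHeight p B (χ : G → ℂ)) := by
  have hp := (Fact.out : p.Prime)
  have hu' := hS.exists_order
  obtain ⟨φ₀, hφ₀, h00, hm00, hd00⟩ := hS.exists_height_zero hM
  simp only [Finset.sum_div, mul_div_assoc]
  refine ⟨sum_mem fun φ _ => mul_mem (intCast_mem _ _) (hS.secT_scaled hM hχ φ).1, fun hmem => ?_⟩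
  obtain ⟨hf1, hf2⟩ := degree_factor_facts hM hS.ind.2.1 hS.major.symm hχ
  simp only [secT_eq_class hu' hS.comm hS.cen,
    mul_div_right_comm _ (secS p u χ _), mul_left_comm ((w _ : ℂ)), ← Finset.mul_sum] at hmem
  have hmS := ((memLocalIdeal_mul_iff hM hf1
    (sum_mem fun φ _ => mul_mem (intCast_mem _ _) (secS_mem hM χ _))).1 hmem).resolve_left hf2
  obtain ⟨χ₀, hχ₀, hmin⟩ := exists_minVal (p := p) (nonempty_of_isPBlock hM hS.ind.2.1)
  have h0 := (blockHeight_eq_zero_iff hχ₀).2 hmin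
  have hdiff : MemLocalIdeal M (∑ φ : b.toFinset, (w φ : ℂ) * secS p u χ (φ : IrrCharacter H) -
      ∑ φ : b.toFinset, (w φ : ℂ) * secS p u χ₀ (φ : IrrCharacter H)) := by
    rw [← Finset.sum_sub_distrib]
    exact memLocalIdeal_sum hM _ _ fun φ _ => by
      rw [← mul_sub]
      exact memLocalIdeal_mul_left hM (intCast_mem _ _) (secS_sub_mem hM hS.ind.2.1 hχ hχ₀ _)
  have hS0 := memLocalIdeal_sub hM hmS hdiff
  rw [sub_sub_cancel] at hS0
  -- so the combination vanishes at a height zero character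
  have hT0 : MemLocalIdeal M (∑ φ : b.toFinset,
      (w φ : ℂ) * secT p (blockDefect p b) u χ₀ (φ : IrrCharacter H)) := by
    have h1 := (degree_factor_facts hM hS.ind.2.1 hS.major.symm hχ₀).1
    rw [h0, pow_zero, div_one] at h1
    have := memLocalIdeal_mul_left hM h1 hS0
    rw [Finset.mul_sum] at this
    convert this using 1
    exact Finset.sum_congr rfl fun φ _ => by
      rw [secT_eq_class hu' hS.comm hS.cen]; ring
  set L : ℤ := ∑ φ : b.toFinset, w φ * m φ φ₀ with hL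
  have hTL : MemLocalIdeal M (secT p (blockDefect p b) u χ₀ φ₀ * (L : ℂ)) := by
    have h2 : MemLocalIdeal M ((∑ φ : b.toFinset,
        (w φ : ℂ) * secT p (blockDefect p b) u χ₀ (φ : IrrCharacter H)) * (m φ₀ φ₀ : ℂ) -
        secT p (blockDefect p b) u χ₀ φ₀ * (L : ℂ)) := by
      rw [hL, Int.cast_sum, Finset.mul_sum, Finset.sum_mul, ← Finset.sum_sub_distrib]
      refine memLocalIdeal_sum hM _ _ fun φ _ => ?_
      have := memLocalIdeal_mul_left hM (intCast_mem (locRing hM) (w φ))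
        (hS.secT_row hM hφ₀ h00 χ₀ (Set.mem_toFinset.1 φ.2))
      convert this using 1
      push_cast
      ring
    have := memLocalIdeal_sub hM (memLocalIdeal_mul_right hM hT0 (intCast_mem _ (m φ₀ φ₀))) h2
    rwa [sub_sub_cancel] at this
  have hTu : ¬ MemLocalIdeal M (secT p (blockDefect p b) u χ₀ φ₀) :=
    secT_not_mem hM hu' hS.comm hS.cen hS.ind rfl hχ₀ h0 hφ₀ h00
  have hTmem : secT p (blockDefect p b) u χ₀ φ₀ ∈ locRing hM := by
    have := (hS.secT_scaled hM hχ₀ φ₀).1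
    rwa [h0, pow_zero, div_one] at this
  have hLp : (p : ℤ) ∣ L := dvd_of_memLocalIdeal_intCast hM
    (((memLocalIdeal_mul_iff hM hTmem (intCast_mem _ _)).1 hTL).resolve_left hTu)
  refine hd00 ?_
  have h3 : (p : ℤ) ∣ (w ⬝ᵥ formMat b m *ᵥ w) * m φ₀ φ₀ - L * L := by
    simp only [dotProduct, Matrix.mulVec, formMat, hL, Finset.mul_sum, Finset.sum_mul,
      ← Finset.sum_sub_distrib]
    conv => arg 2; rw [Finset.sum_comm]
    refine Finset.dvd_sum fun φ _ => Finset.dvd_sum fun ψ _ => ?_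
    rw [show w ψ * (m ψ φ * w φ) * m φ₀ φ₀ - w φ * m φ φ₀ * (w ψ * m ψ φ₀) =
      (w ψ * w φ) * (m (ψ : IrrCharacter H) φ * m φ₀ φ₀ - m (ψ : IrrCharacter H) φ₀ * m φ φ₀) by
        ring]
    exact dvd_mul_of_dvd_right (hS.form.rankOne hM hS.ind.1 hφ₀ h00
      (Set.mem_toFinset.1 ψ.2) (Set.mem_toFinset.1 φ.2)) _
  rw [hw, one_mul] at h3
  simpa using dvd_add h3 (dvd_mul_of_dvd_left hLp L)

open Classical in
include hS hM in
/-- The orthogonality of the combinations by a vector of value one. -/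
theorem comb_orth (w : b.toFinset → ℤ) (hw : w ⬝ᵥ formMat b m *ᵥ w = 1) :
    ∑ χ ∈ B.toFinset,
      (∑ φ : b.toFinset, (w φ : ℂ) * secT p (blockDefect p b) u χ (φ : IrrCharacter H)) *
        conj (∑ φ : b.toFinset, (w φ : ℂ) * secT p (blockDefect p b) u χ (φ : IrrCharacter H)) =
      (((p : ℤ) ^ blockDefect p b : ℤ) : ℂ) := by
  have hu' := hS.exists_order
  simp only [map_sum, map_mul, map_intCast, Finset.sum_mul_sum]
  rw [Finset.sum_comm, Finset.sum_congr rfl fun φ _ => Finset.sum_comm]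
  have hq : (((p : ℤ) ^ blockDefect p b * (w ⬝ᵥ formMat b m *ᵥ w) : ℤ) : ℂ) =
      (((p : ℤ) ^ blockDefect p b : ℤ) : ℂ) := by rw [hw, mul_one]
  refine Eq.trans ?_ hq
  simp only [dotProduct, Matrix.mulVec, formMat, Finset.mul_sum]
  push_cast
  refine Finset.sum_congr rfl fun φ _ => Finset.sum_congr rfl fun ψ _ => ?_
  have hφb := Set.mem_toFinset.1 φ.2
  have hψb := Set.mem_toFinset.1 ψ.2
  calc ∑ χ ∈ B.toFinset, (w φ : ℂ) * secT p (blockDefect p b) u χ (φ : IrrCharacter H) *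
        ((w ψ : ℂ) * conj (secT p (blockDefect p b) u χ (ψ : IrrCharacter H)))
      = ((w φ : ℂ) * (w ψ : ℂ)) * ∑ χ ∈ B.toFinset,
          secT p (blockDefect p b) u χ (φ : IrrCharacter H) * conj (secT p (blockDefect p b) u χ (ψ : IrrCharacter H)) := by
        rw [Finset.mul_sum]
        exact Finset.sum_congr rfl fun χ _ => by ring
    _ = ((w φ : ℂ) * (w ψ : ℂ)) *
          (((p ^ blockDefect p b : ℕ) : ℂ) * (m (φ : IrrCharacter H) ψ : ℂ)) := by
        rw [sum_secT_mul_conj hM hu' hS.comm hS.cen hS.ind rfl hφb hψb,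
          hS.form.eq φ hφb ψ hψb, map_intCast]
    _ = _ := by push_cast; ring

open Classical in
include hS hM in
/-- An integral vector of value one bounds the weighted number of characters. -/
theorem weighted_le_of_value_one (w : b.toFinset → ℤ) (hw : w ⬝ᵥ formMat b m *ᵥ w = 1) :
    ∑ χ ∈ B.toFinset, (p : ℤ) ^ (2 * blockHeight p B (χ : G → ℂ)) ≤
      (p : ℤ) ^ blockDefect p b := by
  have hp := (Fact.out : p.Prime)
  have hu' := hS.exists_order
  set ζ : ℂ := Complex.exp (2 * Real.pi * Complex.I / ((p ^ (e + 1) : ℕ) : ℂ)) with hζdef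
  have hζ : IsPrimitiveRoot ζ (p ^ (e + 1)) :=
    Complex.isPrimitiveRoot_exp _ (pow_ne_zero _ hp.ne_zero)
  obtain ⟨S⟩ := exists_secData (b := b) hζ hS.pow_eq hS.mem hS.comm
  set N := formMat b m with hN
  set α : IrrCharacter G → Fin (p ^ e) × Fin p → ℤ := fun χ a => w ⬝ᵥ N *ᵥ S.t χ a with hα
  set a₁ : IrrCharacter G → ℂ := fun χ =>
    ∑ φ : b.toFinset, (w φ : ℂ) * secT p (blockDefect p b) u χ (φ : IrrCharacter H) with ha₁
  have hα1 : ∀ χ, a₁ χ = ∑ a, (α χ a : ℂ) * ζ ^ pos a := by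
    intro χ
    simp only [ha₁, secT_eq_vec hM S hS.comm hS.ind.1 hS.form, hα, hN, dotProduct, Int.cast_sum,
      Int.cast_mul, Finset.mul_sum, Finset.sum_mul, mul_assoc]
    rw [Finset.sum_comm]
  have hscaled : ∀ χ ∈ B, a₁ χ / (p : ℂ) ^ blockHeight p B (χ : G → ℂ) ∈ locRing hM ∧
      ¬ MemLocalIdeal M (a₁ χ / (p : ℂ) ^ blockHeight p B (χ : G → ℂ)) := fun χ hχ =>
    hS.comb_scaled hM w hw hχ
  -- the forms
  have hone : ∀ χ, a₁ χ * conj (a₁ χ) = cycForm ζ (fun a a' => α χ a * α χ a') 1 := by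
    intro χ
    rw [hα1, map_sum, Finset.sum_mul_sum, cycForm]
    refine Finset.sum_congr rfl fun a _ => Finset.sum_congr rfl fun a' _ => ?_
    rw [map_mul, map_intCast, conj_zeta_pow hζ, one_mul, one_mul]
    push_cast
    ring
  have hsum1 : ∑ χ ∈ B.toFinset, cycForm ζ (fun a a' => α χ a * α χ a') 1 =
      (((p : ℤ) ^ blockDefect p b : ℤ) : ℂ) := by
    rw [Finset.sum_congr rfl fun χ _ => (hone χ).symm]
    exact hS.comb_orth hM w hw
  have htot := sum_avgForm_eq B.toFinset (fun χ a a' => α χ a * α χ a') _ hζdef hsum1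
  have hlow : ∀ χ ∈ B.toFinset,
      (p ^ e : ℤ) * (((p : ℤ) - 1) * (p : ℤ) ^ (2 * blockHeight p B (χ : G → ℂ))) ≤
        avgForm (fun a a' => α χ a * α χ a') := by
    intro χ hχ
    rw [Set.mem_toFinset] at hχ
    obtain ⟨hloc, hnot⟩ := hscaled χ hχ
    refine le_avgForm hp.pos (α χ) _ _ (by positivity) (fun r i j => ?_) (fun r i j hij => ?_) ?_
    · nlinarith [sq_nonneg (α χ (r, i) - α χ (r, j))]
    · have hd := diff_dvd_of_local hM hζ _ (α χ) (by rwa [← hα1]) r i j
      have h4 := sq_le_of_dvd hd (sub_ne_zero.2 hij)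
      rw [← pow_mul, mul_comm _ 2] at h4
      linarith [show (α χ (r, i) - α χ (r, j)) ^ 2 = α χ (r, i) * α χ (r, i) +
        α χ (r, j) * α χ (r, j) - α χ (r, i) * α χ (r, j) - α χ (r, j) * α χ (r, i) by ring]
    · by_contra hall
      simp only [not_exists, not_not] at hall
      refine hnot ?_
      rw [hα1, eq_zero_of_const hp.one_lt hζ _ hall, zero_div]
      exact memLocalIdeal_zero hM
  have h := Finset.sum_le_sum hlow
  rw [htot, ← Finset.mul_sum, ← Finset.mul_sum] at h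
  have hpos : (0 : ℤ) < (p : ℤ) ^ e * ((p : ℤ) - 1) :=
    mul_pos (pow_pos (by exact_mod_cast hp.pos) _) (sub_pos.2 (by exact_mod_cast hp.one_lt))
  refine le_of_mul_le_mul_left ?_ hpos
  rw [pow_succ] at h
  linarith

open Classical in
include hS hM in
/-- Without an integral vector of value one the contributions average at least two. -/
theorem two_mul_card_le (hno : ∀ w : b.toFinset → ℤ, w ⬝ᵥ formMat b m *ᵥ w ≠ 1) :
    2 * (B.toFinset.card : ℤ) ≤ (p : ℤ) ^ blockDefect p b * (blockRank p b : ℤ) := by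
  have hp := (Fact.out : p.Prime)
  set ζ : ℂ := Complex.exp (2 * Real.pi * Complex.I / ((p ^ (e + 1) : ℕ) : ℂ)) with hζdef
  have hζ : IsPrimitiveRoot ζ (p ^ (e + 1)) :=
    Complex.isPrimitiveRoot_exp _ (pow_ne_zero _ hp.ne_zero)
  obtain ⟨S⟩ := exists_secData (b := b) hζ hS.pow_eq hS.mem hS.comm
  obtain ⟨φ₀, hφ₀, h00, hm00, hd00⟩ := hS.exists_height_zero hM
  set N := formMat b m with hN
  have hsq := formMat_sq hM hS.ind.1 hS.form
  have hsymm := formMat_symm hS.form
  have hsum1 : ∑ χ ∈ B.toFinset, cycForm ζ (fun a a' => S.t χ a ⬝ᵥ N *ᵥ S.t χ a') 1 =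
      (((p : ℤ) ^ blockDefect p b * (blockRank p b : ℤ) : ℤ) : ℂ) := by
    rw [hN, Finset.sum_congr rfl fun χ _ => (contr_eq_cycForm hM S hS.ind.1 hζ hS.form χ).symm,
      sum_contr_diag hM hS.exists_order hS.comm hS.cen hS.ind]
    push_cast
    rfl
  have htot := sum_avgForm_eq B.toFinset (fun χ a a' => S.t χ a ⬝ᵥ N *ᵥ S.t χ a') _ hζdef hsum1
  have hlow : ∀ χ ∈ B.toFinset, (p ^ e : ℤ) * (((p : ℤ) - 1) * 2) ≤
      avgForm (fun a a' => S.t χ a ⬝ᵥ N *ᵥ S.t χ a') := by
    intro χ hχ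
    rw [Set.mem_toFinset] at hχ
    refine le_avgForm hp.pos (fun a => N *ᵥ S.t χ a) _ _ two_pos.le (fun r i j => ?_)
      (fun r i j hij => ?_) ?_
    · rw [form_diff]; exact (formMat_quad_pos hsq hsymm _).1
    · rw [form_diff]
      obtain ⟨h1, h2⟩ := formMat_quad_pos hsq hsymm (S.t χ (r, i) - S.t χ (r, j))
      have h3 := hno (S.t χ (r, i) - S.t χ (r, j))
      have h4 : (S.t χ (r, i) - S.t χ (r, j)) ⬝ᵥ N *ᵥ (S.t χ (r, i) - S.t χ (r, j)) ≠ 0 := fun h => by
        have := h2 h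
        rw [Matrix.mulVec_sub, sub_eq_zero] at this
        exact hij this
      simp only [hN] at h1 h3 h4 ⊢
      omega
    · by_contra hall
      simp only [not_exists, not_not] at hall
      refine (hS.secT_scaled hM hχ φ₀).2 ⟨hφ₀, h00⟩ ?_
      rw [show φ₀ = ((⟨φ₀, Set.mem_toFinset.2 hφ₀⟩ : b.toFinset) : IrrCharacter H) from rfl,
        secT_eq_vec hM S hS.comm hS.ind.1 hS.form, eq_zero_of_const hp.one_lt hζ _
          (fun r i j => congrFun (hall r i j) _), zero_div]
      exact memLocalIdeal_zero hM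
  have h := Finset.sum_le_sum hlow
  rw [htot, Finset.sum_const, nsmul_eq_mul] at h
  have hpos : (0 : ℤ) < (p : ℤ) ^ e * ((p : ℤ) - 1) :=
    mul_pos (pow_pos (by exact_mod_cast hp.pos) _) (sub_pos.2 (by exact_mod_cast hp.one_lt))
  refine le_of_mul_le_mul_left ?_ hpos
  rw [pow_succ] at h
  linarith

open Classical in
include hS hM in
/-- The characters of a block with a major subsection of rank at most two. -/
theorem card_le_pow_of_rank_le_two (hl : blockRank p b ≤ 2) :
    Nat.card B ≤ p ^ blockDefect p B := by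
  rw [Nat.card_eq_card_toFinset, ← hS.major]
  have hp := (Fact.out : p.Prime)
  by_cases hex : ∃ w : b.toFinset → ℤ, w ⬝ᵥ formMat b m *ᵥ w = 1
  · obtain ⟨w, hw⟩ := hex
    have h := hS.weighted_le_of_value_one hM w hw
    have h1 : (B.toFinset.card : ℤ) ≤
        ∑ χ ∈ B.toFinset, (p : ℤ) ^ (2 * blockHeight p B (χ : G → ℂ)) := by
      rw [Finset.card_eq_sum_ones, Nat.cast_sum]
      exact Finset.sum_le_sum fun χ _ => by
        push_cast; exact one_le_pow₀ (by exact_mod_cast hp.one_lt.le)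
    exact_mod_cast h1.trans h
  · simp only [not_exists] at hex
    have h := hS.two_mul_card_le hM hex
    have h2 : (blockRank p b : ℤ) ≤ 2 := by exact_mod_cast hl
    have h3 : (p : ℤ) ^ blockDefect p b * (blockRank p b : ℤ) ≤ (p : ℤ) ^ blockDefect p b * 2 :=
      mul_le_mul_of_nonneg_left h2 (by positivity)
    have h4 : (B.toFinset.card : ℤ) ≤ (p : ℤ) ^ blockDefect p b := by linarith
    exact_mod_cast h4

end MajorSetup

end Cfsg.Lib.Block

namespace Cfsg.Lib.Block

open Cfsg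

universe v

variable {p : ℕ} {M : Ideal AlgInt} {G : Type v} [Group G] [Fintype G] [Fact p.Prime]

/-- The setting of a major subsection at an element central in a defect group. -/
theorem exists_majorSetup (hM : IsPModular p M) {B : Set (IrrCharacter G)} {D : Subgroup G}
    (hD : IsDefectGroup p M B D) {z : G} (hzD : z ∈ D) (hzc : ∀ d ∈ D, d * z = z * d)
    [Fintype (Subgroup.centralizer ({z} : Set G))]
    {b : Set (IrrCharacter (Subgroup.centralizer ({z} : Set G)))}
    (hb : IsInducedBlock M (Subgroup.centralizer ({z} : Set G)) b B)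
    (hbD : IsDefectGroup p M b (D.subgroupOf (Subgroup.centralizer ({z} : Set G)))) :
    ∃ (e : ℕ) (m : IrrCharacter (Subgroup.centralizer ({z} : Set G)) →
        IrrCharacter (Subgroup.centralizer ({z} : Set G)) → ℤ),
      MajorSetup (p := p) M e z b B m := by
  obtain ⟨k, hk⟩ := IsPGroup.iff_orderOf.1 (isPGroup_defectGroup hM hD) ⟨z, hzD⟩
  rw [Subgroup.orderOf_mk] at hk
  obtain ⟨m, hm⟩ := exists_regForm hM hb.1
  have hDC : D ≤ Subgroup.centralizer ({z} : Set G) := fun d hd =>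
    Subgroup.mem_centralizer_iff.2 fun w hw => by
      rw [Set.mem_singleton_iff] at hw
      rw [hw]
      exact (hzc d hd).symm
  refine ⟨k, m, ⟨?_, fun h => Subgroup.mem_centralizer_iff.1 h.2 z (Set.mem_singleton z), le_rfl, hb,
    ?_, hm⟩⟩
  · rw [pow_succ, pow_mul, ← hk, pow_orderOf_eq_one, one_pow]
  · apply Nat.pow_right_injective (Fact.out : p.Prime).two_le
    show p ^ _ = p ^ _
    rw [← card_defectGroup hM hb.2.1 hD, ← card_defectGroup hM hb.1 hbD,
      Nat.card_congr (Subgroup.subgroupOfEquivOfLe hDC).toEquiv]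

end Cfsg.Lib.Block
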