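import Cfsg.Agent.Lib.Block.RegApps

/-!
# Blocks with one regular restriction up to scalars
-/

set_option autoImplicit false
set_option linter.unusedSectionVars false

namespace Cfsg.Lib.Block

open Cfsg
open scoped ComplexConjugate

universe u

variable {p : ℕ} {M : Ideal AlgInt} {G : Type u} [Group G] [Fintype G] [Fact p.Prime]

theorem exists_sum_mul_eq_gcd {ι : Type*} (s : Finset ι) (f : ι → ℕ) :
    ∃ n : ι → ℤ, ∑ i ∈ s, n i * (f i : ℤ) = ((s.gcd f : ℕ) : ℤ) := by
  classical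
  induction s using Finset.induction_on with
  | empty => exact ⟨0, by simp⟩
  | insert a s ha ih =>
    obtain ⟨n, hn⟩ := ih
    refine ⟨fun i => if i = a then Nat.gcdA (f a) (s.gcd f) else Nat.gcdB (f a) (s.gcd f) * n i, ?_⟩
    rw [Finset.sum_insert ha]
    simp only [↓reduceIte]
    rw [Finset.gcd_insert,
      show GCDMonoid.gcd (f a) (s.gcd f) = Nat.gcd (f a) (s.gcd f) from rfl, Nat.gcd_eq_gcd_ab,
      ← hn, Finset.sum_mul]
    congr 1
    · ring
    · refine Finset.sum_congr rfl fun i hi => ?_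
      rw [if_neg fun h : i = a => ha (h ▸ hi)]
      ring

/-- In a block of rank one the regular values are proportional to the degrees. -/
theorem regPart_eq_of_rank_one {B : Set (IrrCharacter G)} (hl : blockRank p B = 1)
    {χ ψ : IrrCharacter G} (hχ : χ ∈ B) (hψ : ψ ∈ B) :
    pRegularPart p (χ : G → ℂ) =
      ((χ : G → ℂ) 1 / (ψ : G → ℂ) 1) • pRegularPart p (ψ : G → ℂ) := by
  set V := Submodule.span ℂ ((fun χ : IrrCharacter G => pRegularPart p (χ : G → ℂ)) '' B)
  have hone : IsPRegular p (1 : G) := by simp [IsPRegular, (Fact.out : p.Prime).ne_one]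
  have hψV : pRegularPart p (ψ : G → ℂ) ∈ V := Submodule.subset_span ⟨ψ, hψ, rfl⟩
  have hχV : pRegularPart p (χ : G → ℂ) ∈ V := Submodule.subset_span ⟨χ, hχ, rfl⟩
  have hne : (⟨_, hψV⟩ : V) ≠ 0 := fun h => ψ.2.apply_one_ne_zero (by
    have := congrFun (congrArg Subtype.val h) 1
    simp only [ZeroMemClass.coe_zero, Pi.zero_apply] at this
    rwa [pRegularPart_of_reg hone] at this)
  obtain ⟨c, hc⟩ := (finrank_eq_one_iff_of_nonzero' _ hne).1 hl ⟨_, hχV⟩
  have h1 := congrArg Subtype.val hc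
  simp only [SetLike.val_smul] at h1
  have h2 := congrFun h1 1
  rw [Pi.smul_apply, smul_eq_mul, pRegularPart_of_reg hone, pRegularPart_of_reg hone] at h2
  rw [← h1, ← h2, mul_div_assoc, div_self ψ.2.apply_one_ne_zero, mul_one]

open Classical in
/-- The square sum of the degrees in a block of rank one. -/
theorem sum_sq_rank_one (hM : IsPModular p M) {B : Set (IrrCharacter G)} (hB : IsPBlock M B)
    (hl : blockRank p B = 1) :
    ∑ χ ∈ B.toFinset, charDegree (χ : G → ℂ) ^ 2 =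
      p ^ blockDefect p B * (B.toFinset.gcd fun χ => charDegree (χ : G → ℂ)) ^ 2 := by
  obtain ⟨ψ, hψ, hmin⟩ := exists_minVal (p := p) (nonempty_of_isPBlock hM hB)
  set S := ∑ χ ∈ B.toFinset, charDegree (χ : G → ℂ) ^ 2 with hS
  set g := B.toFinset.gcd fun χ : IrrCharacter G => charDegree (χ : G → ℂ) with hg
  have hone : IsPRegular p (1 : G) := by simp [IsPRegular, (Fact.out : p.Prime).ne_one]
  have hS0 : S ≠ 0 := fun h => by
    have := (Finset.sum_eq_zero_iff.1 h) ψ (Set.mem_toFinset.2 hψ)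
    exact (charDegree_pos ψ).ne' (by simpa using this)
  set c := regInner p (ψ : G → ℂ) (ψ : G → ℂ) / ((ψ : G → ℂ) 1 * (ψ : G → ℂ) 1) with hc
  have hP : ∀ χ ∈ B, ∀ η ∈ B, regInner p (χ : G → ℂ) (η : G → ℂ) =
      (χ : G → ℂ) 1 * (η : G → ℂ) 1 * c := by
    intro χ hχ η hη
    have e : ∀ χ' ∈ B, ∀ η' : IrrCharacter G, regInner p (χ' : G → ℂ) (η' : G → ℂ) =
        ((χ' : G → ℂ) 1 / (ψ : G → ℂ) 1) * regInner p (ψ : G → ℂ) (η' : G → ℂ) := fun χ' hχ' η' => by
      rw [regInner, regInner, regPart_eq_of_rank_one hl hχ' hψ, Char.classInner_smul_left]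
    rw [e χ hχ η, regInner_symm (p := p) η ψ, e η hη ψ, hc]
    field_simp [ψ.2.apply_one_ne_zero]
  have hcS : c * (S : ℂ) = 1 := by
    have h := congrFun (regPart_expand hM (vInt_indVec hM hB) hψ) 1
    rw [pRegularPart_of_reg hone, Finset.sum_apply] at h
    have h2 : (ψ : G → ℂ) 1 = (ψ : G → ℂ) 1 * (c * (S : ℂ)) := by
      conv_lhs => rw [h]
      rw [hS, Nat.cast_sum, Finset.mul_sum, Finset.mul_sum]
      refine Finset.sum_congr rfl fun η hη => ?_
      rw [Pi.smul_apply, smul_eq_mul, hP ψ hψ η (Set.mem_toFinset.1 hη), Nat.cast_pow,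
        ← apply_one_eq_charDegree]
      ring
    exact (mul_right_eq_self₀.1 h2.symm).resolve_right ψ.2.apply_one_ne_zero
  have hdvd : ∀ χ ∈ B.toFinset, ∀ η ∈ B.toFinset,
      S ∣ p ^ blockDefect p B * charDegree (χ : G → ℂ) * charDegree (η : G → ℂ) := by
    intro χ hχ η hη
    rw [Set.mem_toFinset] at hχ hη
    obtain ⟨m, hm⟩ := exists_regForm hM hB
    have h := hm.eq χ hχ η hη
    rw [regN, hP χ hχ η hη, apply_one_eq_charDegree χ, apply_one_eq_charDegree η] at h
    have h2 : ((p ^ blockDefect p B * charDegree (χ : G → ℂ) * charDegree (η : G → ℂ) : ℕ) : ℂ) =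
        (((S : ℤ) * m χ η : ℤ) : ℂ) := by
      rw [Int.cast_mul, ← h, Int.cast_natCast]
      push_cast
      linear_combination -((p : ℂ) ^ blockDefect p B * (charDegree (χ : G → ℂ) : ℂ) *
        (charDegree (η : G → ℂ) : ℂ)) * hcS
    exact Int.natCast_dvd_natCast.1 ⟨m χ η, by exact_mod_cast h2⟩
  have h1 : S ∣ p ^ blockDefect p B * (g * g) := by
    have hχ : ∀ χ ∈ B.toFinset, S ∣ p ^ blockDefect p B * charDegree (χ : G → ℂ) * g := by
      intro χ hχ
      have := Finset.dvd_gcd (hdvd χ hχ)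
      rwa [Finset.gcd_mul_left, normalize_eq] at this
    have := Finset.dvd_gcd fun (χ : IrrCharacter G) (hχ' : χ ∈ B.toFinset) => show S ∣ p ^ blockDefect p B * g * charDegree (χ : G → ℂ) by
      rw [mul_right_comm]; exact hχ χ hχ'
    rwa [Finset.gcd_mul_left, normalize_eq, ← hg, mul_assoc] at this
  obtain ⟨t, ht⟩ : g * g ∣ S := Finset.dvd_sum fun χ hχ => by
    rw [sq]
    exact mul_dvd_mul (Finset.gcd_dvd hχ) (Finset.gcd_dvd hχ)
  have hg0 : g ≠ 0 := fun h => (charDegree_pos ψ).ne'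
    (Nat.eq_zero_of_zero_dvd (h ▸ Finset.gcd_dvd (Set.mem_toFinset.2 hψ)))
  have ht' : t ∣ p ^ blockDefect p B := by
    rw [ht, mul_comm (p ^ blockDefect p B)] at h1
    exact Nat.dvd_of_mul_dvd_mul_left (Nat.pos_of_ne_zero (Nat.mul_ne_zero hg0 hg0)) h1
  have hgv : g.factorization p = minVal p B := by
    refine le_antisymm ?_ ?_
    · rw [← hmin]
      exact (Nat.factorization_le_iff_dvd hg0 (charDegree_pos ψ).ne').2
        (Finset.gcd_dvd (Set.mem_toFinset.2 hψ)) p
    · rw [← (Fact.out : p.Prime).pow_dvd_iff_le_factorization hg0]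
      exact Finset.dvd_gcd fun χ hχ => ((Fact.out : p.Prime).pow_dvd_iff_le_factorization
        (charDegree_pos χ).ne').2 (minVal_le (Set.mem_toFinset.1 hχ))
  obtain ⟨j, -, hj⟩ := (Nat.dvd_prime_pow (Fact.out : p.Prime)).1 ht'
  have hadd := blockDefect_add_minVal (p := p) (nonempty_of_isPBlock hM hB)
  have hv := factorization_sum_sq hM hB
  rw [← hS, ht, hj, Nat.factorization_mul (Nat.mul_ne_zero hg0 hg0)
    (pow_ne_zero _ (Fact.out : p.Prime).ne_zero), Finsupp.add_apply,
    Nat.factorization_mul hg0 hg0, Finsupp.add_apply, hgv,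
    (Fact.out : p.Prime).factorization_pow, Finsupp.single_eq_same] at hv
  rw [ht, hj, show j = blockDefect p B by omega]
  ring

end Cfsg.Lib.Block
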