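import Cfsg.Agent.Lib.Block.AbelianSections
import Cfsg.Agent.Lib.Block.MajorBound
import Cfsg.Agent.Lib.Block.RankOne

/-!
# Blocks with abelian defect group and trivial inertial quotient

Such a block has one modular irreducible and as many characters as the defect group has elements.
The characters are at least as many as the subsections; a major subsection at a noncentral element,
whose block has rank one by induction, bounds them by the order of the defect group.
-/

set_option autoImplicit false
set_option linter.unusedSectionVars false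
set_option maxHeartbeats 800000

namespace Cfsg.Lib.Block

open Cfsg

universe u

noncomputable local instance (priority := high) fintypeSubgroupAbelianNilpotent {A : Type u}
    [Group A] [Fintype A] (H : Subgroup A) : Fintype H := Fintype.ofFinite H

local notation "C[" Q "]" => Subgroup.centralizer (SetLike.coe Q)

variable {p : ℕ} {M : Ideal AlgInt} [Fact p.Prime] (hM : IsPModular p M)

include hM in
open Classical in
/-- In rank one a block has at most as many characters as the defect group has elements. -/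
theorem card_le_of_rank_one {G : Type u} [Group G] [Fintype G] {B : Set (IrrCharacter G)}
    (hB : IsPBlock M B) (hl : blockRank p B = 1) : Nat.card B ≤ p ^ blockDefect p B := by
  have h := sum_sq_rank_one hM hB hl
  obtain ⟨ψ, hψ⟩ := nonempty_of_isPBlock hM hB
  obtain ⟨g, hg⟩ : ∃ g : ℕ, g = B.toFinset.gcd fun χ : IrrCharacter G => charDegree (χ : G → ℂ) :=
    ⟨_, rfl⟩
  rw [← hg] at h
  have hg0 : 0 < g := Nat.pos_of_ne_zero fun h0 => (charDegree_pos ψ).ne'
    (Nat.eq_zero_of_zero_dvd (h0 ▸ hg ▸ Finset.gcd_dvd (Set.mem_toFinset.2 hψ)))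
  have hle : B.toFinset.card * g ^ 2 ≤ p ^ blockDefect p B * g ^ 2 := by
    rw [← h, ← smul_eq_mul]
    refine Finset.card_nsmul_le_sum _ _ _ fun χ hχ => Nat.pow_le_pow_left ?_ 2
    exact Nat.le_of_dvd (charDegree_pos χ) (hg ▸ Finset.gcd_dvd hχ)
  rw [Nat.card_eq_card_toFinset]
  exact Nat.le_of_mul_le_mul_right hle (pow_pos hg0 2)

include hM in
open Classical in
/-- In rank one, with as many characters as the defect group has elements, the characters agree at
regular elements. -/
theorem reg_eq_of_rank_one {G : Type u} [Group G] [Fintype G] {B : Set (IrrCharacter G)}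
    (hB : IsPBlock M B) (hl : blockRank p B = 1) (hk : Nat.card B = p ^ blockDefect p B)
    {χ ψ : IrrCharacter G} (hχ : χ ∈ B) (hψ : ψ ∈ B) {x : G} (hx : IsPRegular p x) :
    (χ : G → ℂ) x = (ψ : G → ℂ) x := by
  have h := sum_sq_rank_one hM hB hl
  obtain ⟨g, hg⟩ : ∃ g : ℕ, g = B.toFinset.gcd fun χ : IrrCharacter G => charDegree (χ : G → ℂ) :=
    ⟨_, rfl⟩
  rw [← hg, ← hk, Nat.card_eq_card_toFinset] at h
  have heq : ∀ η ∈ B, charDegree (η : G → ℂ) = g := by
    intro η hη
    have hge : g ≤ charDegree (η : G → ℂ) :=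
      Nat.le_of_dvd (charDegree_pos η) (hg ▸ Finset.gcd_dvd (Set.mem_toFinset.2 hη))
    refine le_antisymm (not_lt.1 fun hlt => ?_) hge
    have hs : ∑ ξ ∈ B.toFinset, g ^ 2 < ∑ ξ ∈ B.toFinset, charDegree (ξ : G → ℂ) ^ 2 :=
      Finset.sum_lt_sum (fun ξ hξ => Nat.pow_le_pow_left
        (Nat.le_of_dvd (charDegree_pos ξ) (hg ▸ Finset.gcd_dvd hξ)) 2)
        ⟨η, Set.mem_toFinset.2 hη, Nat.pow_lt_pow_left hlt two_ne_zero⟩
    rw [h, Finset.sum_const, smul_eq_mul] at hs
    exact lt_irrefl _ hs
  have h1 := congrFun (regPart_eq_of_rank_one hl hχ hψ) x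
  rw [Pi.smul_apply, pRegularPart_of_reg hx, pRegularPart_of_reg hx, apply_one_eq_charDegree χ,
    apply_one_eq_charDegree ψ, heq χ hχ, heq ψ hψ, div_self, one_smul] at h1
  · exact h1
  · rw [← heq ψ hψ]
    exact Nat.cast_ne_zero.2 (charDegree_pos ψ).ne'

section Local

variable {G : Type u} [Group G] [Fintype G] {B : Set (IrrCharacter G)} {P : Subgroup G}
  {c : Set (IrrCharacter C[P])}

include hM in
/-- The local blocks below an abelian maximal pair have the same defect group. -/
theorem subpair_defect (hmax : IsMaximalBrauerPair p M B P c)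
    (hab : ∀ x ∈ P, ∀ y ∈ P, x * y = y * x) {Q : Subgroup G} {f : Set (IrrCharacter C[Q])}
    (hle : SubpairLE p M Q f P c) : IsDefectGroup p M f (P.subgroupOf C[Q]) := by
  have hPC := le_centralizer_of_abelian hab (subpairLE_le hle)
  have hloc := isLocalBlock_centralizer hM (isBrauerPair_of_le hle hmax.1.1).2
  have hbig : p ^ blockDefect p f ≤ Nat.card ↥(P ⊓ C[Q]) := by
    obtain ⟨z, -, hz⟩ := exists_card_inf_eq_defect hM hloc hmax hle
    rw [← hz, inf_eq_left.2 hPC]
    exact Subgroup.card_le_of_le inf_le_left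
  have h := (isDefectGroup_inf_iff hM hloc hmax.1.1 hle).2 hbig
  rwa [inf_eq_left.2 hPC] at h

include hM in
/-- A major subsection of rank at most two bounds the number of characters. -/
theorem card_le_of_major_rank {v : G} (hvP : v ∈ P) (hvc : ∀ d ∈ P, d * v = v * d)
    (hB : IsPBlock M B) (hD : IsDefectGroup p M B P)
    {f : Set (IrrCharacter C[Subgroup.zpowers v])}
    (hind : IsInducedBlock M C[Subgroup.zpowers v] f B)
    (hfD : IsDefectGroup p M f (P.subgroupOf C[Subgroup.zpowers v])) (hl : blockRank p f ≤ 2) :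
    Nat.card B ≤ Nat.card P := by
  have key : ∀ H : Subgroup G, H = Subgroup.centralizer ({v} : Set G) →
      ∀ f : Set (IrrCharacter H), IsInducedBlock M H f B →
        IsDefectGroup p M f (P.subgroupOf H) → blockRank p f ≤ 2 → Nat.card B ≤ Nat.card P := by
    intro H hH
    subst hH
    intro f h1 h2 h3
    obtain ⟨e, m, hS⟩ := exists_majorSetup hM hD hvP hvc h1 h2
    rw [card_defectGroup hM hB hD]
    exact hS.card_le_pow_of_rank_le_two hM h3
  exact key _ (centralizer_singleton_eq v).symm f hind hfD hl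

end Local

include hM in
/-- An abelian defect group with trivial inertial quotient. -/
theorem abelian_inertial_one (n : ℕ) : ∀ {G : Type u} [Group G] [Fintype G]
    {B : Set (IrrCharacter G)} {P : Subgroup G} {c : Set (IrrCharacter C[P])},
    Nat.card G ≤ n → IsPBlock M B → IsDefectGroup p M B P →
    (∀ x ∈ P, ∀ y ∈ P, x * y = y * x) → IsInducedBlock M C[P] c B →
    (∀ g : G, g ∈ Subgroup.normalizer (P : Set G) → StabilizesBlock C[P] c g → g ∈ C[P]) →
    blockRank p B = 1 ∧ Nat.card B = Nat.card P := by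
  induction n using Nat.strong_induction_on with
  | _ n ih =>
  intro G _ _ B P c hn hB hD hab hc htriv
  classical
  have hmax := maximal_of_root hM hB hD hab hc
  have hT : ∀ g : G, g ∈ C[P] ↔ g ∈ Subgroup.normalizer (P : Set G) ∧
      StabilizesBlock C[P] c g := fun g =>
    ⟨fun h => (conjIdx_eq_self_iff c g).1 (conjIdx_eq_self_of_mem h c),
      fun h => htriv g h.1 h.2⟩
  obtain ⟨N, hN, hlow, -⟩ := exists_subsection_orbits hM hB hD hab hc hT
    fun g hg _ _ _ _ => hg
  rw [Subgroup.relIndex_self, mul_one] at hN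
  have hpos := blockRank_pos hM hB
  have hP1 : 1 ≤ Nat.card P := Nat.card_pos
  by_cases hcen : P ≤ Subgroup.center G
  · have hl := blockRank_eq_one_of_central hM hB hD hcen
    have hup := card_le_of_rank_one hM hB hl
    rw [← card_defectGroup hM hB hD] at hup
    exact ⟨hl, by omega⟩
  · obtain ⟨v, hvP, hv⟩ := SetLike.not_le_iff_exists.1 hcen
    obtain ⟨f, hf, hle⟩ := exists_subpair hM hmax.1.1 (Subgroup.zpowers_le.2 hvP)
    have hfD := subpair_defect hM hmax hab hle
    have hQC : Subgroup.zpowers v ≤ C[Subgroup.zpowers v] :=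
      le_centralizer_of_abelian (fun a ha a' ha' => hab a (Subgroup.zpowers_le.2 hvP ha) a'
        (Subgroup.zpowers_le.2 hvP ha')) le_rfl
    have hind := isInducedBlock_of_isBrauerPairOf hM hQC
      ((isBrauerPairOf_iff_of_le hM hle B).1 hmax.1)
    have hnil : IsNilpotentBlock p M f :=
      (nilpotent_subpair_iff hM hmax hab hle).2 fun g _ => htriv g
    have hab' : ∀ x ∈ P.subgroupOf C[Subgroup.zpowers v],
        ∀ y ∈ P.subgroupOf C[Subgroup.zpowers v], x * y = y * x := fun x hx y hy =>
      Subtype.ext (hab _ hx _ hy)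
    obtain ⟨e', he'⟩ := (exists_pair_iff hM hf hfD (isPGroup_defectGroup hM hfD)).2
      ⟨1, (map_conj_one _).le⟩
    have hmax' := maximal_of_defectGroup hM he' hfD
    have hind' := isInducedBlock_of_isBrauerPairOf hM (le_centralizer_of_abelian hab' le_rfl) he'
    have hlt : Nat.card C[Subgroup.zpowers v] < Nat.card G := by
      refine lt_of_le_of_ne (Subgroup.card_le_card_group _) fun h => hv ?_
      rw [Subgroup.mem_center_iff]
      intro g
      have hg : g ∈ C[Subgroup.zpowers v] := by
        rw [Subgroup.eq_top_of_card_eq _ h]; exact Subgroup.mem_top g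
      exact (Subgroup.mem_centralizer_iff.1 hg v (Subgroup.mem_zpowers v)).symm
    have hl := (ih _ (hlt.trans_le hn) le_rfl hf hfD hab' hind'
      ((nilpotent_iff_inertial hM hab' hmax').1 hnil)).1
    have hup := card_le_of_major_rank hM hvP (fun d hd => hab d hd v hvP) hB hD hind hfD
      (by omega)
    exact ⟨by omega, by omega⟩

section Main

variable {G : Type u} [Group G] [Fintype G] {B : Set (IrrCharacter G)} {P : Subgroup G}

include hM in
/-- A nilpotent block with abelian defect group has rank one. -/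
theorem rank_one_of_nilpotent_abelian (hnil : IsNilpotentBlock p M B)
    (hD : IsDefectGroup p M B P) (hab : ∀ x ∈ P, ∀ y ∈ P, x * y = y * x) :
    blockRank p B = 1 ∧ Nat.card B = Nat.card P := by
  obtain ⟨e, he⟩ := (exists_pair_iff hM hnil.1 hD (isPGroup_defectGroup hM hD)).2
    ⟨1, (map_conj_one _).le⟩
  exact abelian_inertial_one hM _ le_rfl hnil.1 hD hab
    (isInducedBlock_of_isBrauerPairOf hM (le_centralizer_of_abelian hab le_rfl) he)
    ((nilpotent_iff_inertial hM hab (maximal_of_defectGroup hM he hD)).1 hnil)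

include hM in
/-- With free inertial action every local block has rank one. -/
theorem local_rank_one {c : Set (IrrCharacter C[P])} (hB : IsPBlock M B)
    (hD : IsDefectGroup p M B P) (hab : ∀ x ∈ P, ∀ y ∈ P, x * y = y * x)
    (hc : IsInducedBlock M C[P] c B) {T : Subgroup G}
    (hT : ∀ g : G, g ∈ T ↔ g ∈ Subgroup.normalizer (P : Set G) ∧ StabilizesBlock C[P] c g)
    (hfree : ∀ g ∈ T, ∀ x ∈ P, x ≠ 1 → g * x * g⁻¹ = x → g ∈ C[P]) {Q : Subgroup G}
    (hQ1 : Q ≠ ⊥) {f : Set (IrrCharacter C[Q])} (hle : SubpairLE p M Q f P c) :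
    IsNilpotentBlock p M f ∧ blockRank p f = 1 ∧ Nat.card f = Nat.card P := by
  have hmax := maximal_of_root hM hB hD hab hc
  have hQP := subpairLE_le hle
  obtain ⟨x, hxQ, hx1⟩ := (Subgroup.ne_bot_iff_exists_ne_one.1 hQ1 : ∃ a : Q, a ≠ 1) |>
    fun ⟨a, ha⟩ => (⟨(a : G), a.2, fun h => ha (Subtype.ext h)⟩ : ∃ x : G, x ∈ Q ∧ x ≠ 1)
  have hnil : IsNilpotentBlock p M f :=
    (nilpotent_subpair_iff hM hmax hab hle).2 fun g hg hgN hgS =>
      hfree g ((hT g).2 ⟨hgN, hgS⟩) x (hQP hxQ) hx1
        (by rw [← Subgroup.mem_centralizer_iff.1 hg x hxQ, mul_inv_cancel_right])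
  have h := rank_one_of_nilpotent_abelian hM hnil (subpair_defect hM hmax hab hle)
    fun x hx y hy => Subtype.ext (hab _ hx _ hy)
  refine ⟨hnil, h.1, h.2.trans ?_⟩
  exact Nat.card_congr (Subgroup.subgroupOfEquivOfLe (le_centralizer_of_abelian hab hQP)).toEquiv

include hM in
/-- The characters of a block with abelian defect group and free inertial action. -/
theorem card_eq_rank_add_free {c : Set (IrrCharacter C[P])} (hB : IsPBlock M B)
    (hD : IsDefectGroup p M B P) (hab : ∀ x ∈ P, ∀ y ∈ P, x * y = y * x)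
    (hc : IsInducedBlock M C[P] c B) {T : Subgroup G}
    (hT : ∀ g : G, g ∈ T ↔ g ∈ Subgroup.normalizer (P : Set G) ∧ StabilizesBlock C[P] c g)
    (hfree : ∀ g ∈ T, ∀ x ∈ P, x ≠ 1 → g * x * g⁻¹ = x → g ∈ C[P]) :
    ∃ N : ℕ, N * (C[P]).relIndex T = Nat.card P - 1 ∧ Nat.card B = blockRank p B + N := by
  obtain ⟨N, hN, -, heq⟩ := exists_subsection_orbits hM hB hD hab hc hT hfree
  exact ⟨N, hN, heq fun u _ hu1 f hle => (local_rank_one hM hB hD hab hc hT hfree
    (fun h => hu1 (Subgroup.zpowers_eq_bot.1 h)) hle).2.1⟩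

end Main

end Cfsg.Lib.Block
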