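import Cfsg.Agent.Lib.Block.StarVanish
import Cfsg.Agent.Lib.Block.MajorBound
import Cfsg.Agent.Lib.Block.AbelianNilpotent

/-!
# Stabilisers of the star action

A linear character fixing a character of the block is trivial on the center of the defect group,
and a nontrivial one fixes no character of height zero.
-/

set_option autoImplicit false
set_option linter.unusedSectionVars false
set_option maxHeartbeats 1600000

namespace Cfsg.Lib.Block

open Cfsg
open scoped ComplexConjugate MonoidAlgebra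

universe u

variable {p : ℕ} {M : Ideal AlgInt} (hM : IsPModular p M) {G : Type u} [Group G] [Fintype G]
  [Fact p.Prime]

noncomputable local instance (priority := high) fintypeSubgroupStarStab {A : Type u} [Group A]
    [Fintype A] (H : Subgroup A) : Fintype H := Fintype.ofFinite H

local notation "C[" Q "]" => Subgroup.centralizer (SetLike.coe Q)

variable {B : Set (IrrCharacter G)} {P : Subgroup G} {e : Set (IrrCharacter C[P])} {lam : G → ℂ}
  (hmax : IsMaximalBrauerPair p M B P e) (hlam : IsFocChar p M P e lam) {χ : IrrCharacter G}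

open Classical in
include hM in
/-- The regular inner product with a member of a block only sees that block. -/
theorem regInner_blockPart {A : Type u} [Group A] [Fintype A] {b : Set (IrrCharacter A)}
    (hb : IsPBlock M b) {φ : IrrCharacter A} (hφ : φ ∈ b) {θ : A → ℂ} (hθ : IsClassFunction A θ) :
    regInner p θ (φ : A → ℂ) = regInner p (blockPart b θ) (φ : A → ℂ) := by
  have hself : ∀ y : A, blockPart b (φ : A → ℂ) y = (φ : A → ℂ) y := by
    intro y
    rw [blockPart_eq_inner_sum, Finset.sum_eq_single φ, if_pos hφ,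
      Char.classInner_irr_self φ.2, one_mul]
    · intro η _ hne
      rw [Char.classInner_irr_ne φ.2 η.2 fun h => hne (Subtype.ext h).symm]
      simp
    · exact fun h => absurd (Finset.mem_univ φ) h
  simp only [regInner, classInner]
  congr 1
  calc ∑ y : A, pRegularPart p θ y * conj ((φ : A → ℂ) y)
      = ∑ b' ∈ blocksOf M A, ∑ y : A,
          if IsPRegular p y then blockPart b' θ y * conj (blockPart b (φ : A → ℂ) y) else 0 := by
        rw [Finset.sum_comm]
        refine Finset.sum_congr rfl fun y _ => ?_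
        split_ifs with hy
        · rw [pRegularPart_of_reg hy, ← Finset.sum_mul, sum_blocksOf_blockPart hM hθ, hself]
        · rw [pRegularPart_of_sing hy, zero_mul, Finset.sum_const_zero]
    _ = _ := by
        rw [Finset.sum_eq_single_of_mem b ((mem_blocksOf hM).2 hb) fun b' hb' hne =>
          sum_reg_blockPart_mul_conj_ne hM ((mem_blocksOf hM).1 hb') hb hne θ _]
        refine Finset.sum_congr rfl fun y _ => ?_
        split_ifs with hy
        · rw [pRegularPart_of_reg hy, hself]
        · rw [pRegularPart_of_sing hy, zero_mul]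

include hmax hlam in
/-- Where the weight is not one, the section of a fixed character vanishes. -/
theorem fixed_blockPart (hχ : χ ∈ B) (hfix : starFn hM P e lam χ = χ) {u g : G}
    (hu : ∃ k : ℕ, orderOf u = p ^ k) {b : Set (IrrCharacter C[Subgroup.zpowers u])}
    (hb : IsPBlock M b)
    (hg : Relation.ReflTransGen (NormalSubpairRel p M) (conjIdx g ⟨Subgroup.zpowers u, b⟩) ⟨P, e⟩)
    (hne : lam (g * u * g⁻¹) ≠ 1) {y : C[Subgroup.zpowers u]} (hy : IsPRegular p y) :
    blockPart b (secFn u C[Subgroup.zpowers u] (χ : G → ℂ)) y = 0 := by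
  classical
  have e1 : blockPart b (secFn u C[Subgroup.zpowers u] (χ : G → ℂ)) y =
      lam (g * u * g⁻¹) * blockPart b (secFn u C[Subgroup.zpowers u] (χ : G → ℂ)) y := by
    conv_lhs => rw [blockPart_congr_reg hM hb
      (θ' := fun z => ∑ b' ∈ blocksOf M C[Subgroup.zpowers u],
        lamW p M P e lam u ⟨Subgroup.zpowers u, b'⟩ *
          blockPart b' (secFn u C[Subgroup.zpowers u] (χ : G → ℂ)) z)
      (fun z hz => by
        show (χ : G → ℂ) (u * (z : G)) = _
        rw [← starFn_section hM lam χ hu hz, hfix]) hy]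
    rw [blockPart_sum_smul, Finset.sum_eq_single_of_mem b ((mem_blocksOf hM).2 hb)
      fun b' hb' hne' => by
        rw [blockPart_blockPart_ne hM hb ((mem_blocksOf hM).1 hb') (Ne.symm hne'), mul_zero],
      blockPart_blockPart_self, lamW_eq hM hlam.isFusChar hg]
  have e2 : (lam (g * u * g⁻¹) - 1) * blockPart b (secFn u C[Subgroup.zpowers u] (χ : G → ℂ)) y = 0 := by
    linear_combination -e1
  exact (mul_eq_zero.1 e2).resolve_left (sub_ne_zero.2 hne)

include hmax hlam in
/-- A stabiliser is trivial on the center of the defect group. -/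
theorem fixed_center (hχ : χ ∈ B) (hfix : starFn hM P e lam χ = χ) {x : G} (hx : x ∈ P)
    (hxc : ∀ d ∈ P, d * x = x * d) : lam x = 1 := by
  classical
  by_contra hne
  have hPe := hmax.1.1
  have hxP : Subgroup.zpowers x ≤ P := Subgroup.zpowers_le.2 hx
  obtain ⟨b, hb, hle⟩ := exists_subpair hM hPe hxP
  have hxo := isPGroup_exists_orderOf hPe.1 hx
  have hbr : IsBrauerPairOf p M B (Subgroup.zpowers x) b :=
    (isBrauerPairOf_iff_of_le hM hle B).1 hmax.1
  have hind := (isBrauerPairOf_zpowers_iff hM hmax.1.2.1 hxo hb).1 hbr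
  have hD := isDefectGroup_of_maximal hM hmax
  have hPC : P ≤ C[Subgroup.zpowers x] := by
    rw [← centralizer_singleton_eq]
    exact fun d hd => Subgroup.mem_centralizer_singleton_iff.2 (hxc d hd)
  have hloc := isLocalBlock_centralizer hM (isBrauerPair_of_le hle hPe).2
  have hbig : p ^ blockDefect p b ≤ Nat.card ↥(P ⊓ C[Subgroup.zpowers x]) := by
    obtain ⟨z, -, hz⟩ := exists_card_inf_eq_defect hM hloc hmax hle
    rw [← hz, inf_eq_left.2 hPC]
    exact Subgroup.card_le_of_le inf_le_left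
  have hbD := (isDefectGroup_inf_iff hM hloc hPe hle).2 hbig
  rw [inf_eq_left.2 hPC] at hbD
  obtain ⟨m, hm⟩ := exists_regForm hM hind.1
  obtain ⟨k, hk⟩ := hxo
  have hS : MajorSetup (p := p) M k x b B m :=
    ⟨by rw [pow_succ, pow_mul, ← hk, pow_orderOf_eq_one, one_pow], commute_mem_cen x,
      centralizer_singleton_le x, hind, by
        apply Nat.pow_right_injective (Fact.out : p.Prime).two_le
        show p ^ _ = p ^ _
        rw [← card_defectGroup hM hmax.1.2.1 hD, ← card_defectGroup hM hind.1 hbD,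
          Nat.card_congr (Subgroup.subgroupOfEquivOfLe hPC).toEquiv], hm⟩
  obtain ⟨φ₀, hφ₀, h0, -, -⟩ := hS.exists_height_zero hM
  refine (hS.secT_scaled hM hχ φ₀).2 ⟨hφ₀, h0⟩ ?_
  have hreg : regInner p (secFn x C[Subgroup.zpowers x] (χ : G → ℂ))
      (φ₀ : C[Subgroup.zpowers x] → ℂ) = 0 := by
    rw [regInner_blockPart hM hind.1 hφ₀ (isClassFunction_secFn' χ.2.isClassFunction x), regInner,
      classInner, Finset.sum_eq_zero fun y _ => ?_, mul_zero]
    by_cases hy : IsPRegular p y
    · rw [pRegularPart_of_reg hy, fixed_blockPart hM hmax hlam hχ hfix ⟨k, hk⟩ hind.1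
        (g := (1 : G)) (by rw [conjIdx_one]; exact hle) (by simpa using hne) hy, zero_mul]
    · rw [pRegularPart_of_sing hy, zero_mul]
  rw [secT, hreg, mul_zero, zero_div]
  exact memLocalIdeal_zero hM

theorem mem_invAlg_one {R : Type*} [CommRing R] (x : R[G]) :
    x ∈ invAlg R (Subgroup.zpowers (1 : G)) := by
  refine mem_invAlg.2 fun h hh y => ?_
  rw [Subgroup.zpowers_one_eq_bot, Subgroup.mem_bot] at hh
  simp [hh]

theorem pPt_one : pPt p (1 : G) = 1 :=
  (pPt_eq_one_iff (1 : G)).2 (by simp [(Fact.out : p.Prime).ne_one])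

theorem brK_zpowers_one {k : Type*} [Field k] (x : k[G]) :
    brK (Subgroup.zpowers (1 : G)) x = x := by
  refine MonoidAlgebra.ext (Finsupp.ext fun g => coeff_brK_of_mem x ?_)
  refine Subgroup.mem_centralizer_iff.2 fun z hz => ?_
  have hz' : z ∈ Subgroup.zpowers (1 : G) := hz
  rw [Subgroup.zpowers_one_eq_bot, Subgroup.mem_bot] at hz'
  rw [hz', one_mul, mul_one]

include hM in
theorem exists_nat_tau_one (χ : IrrCharacter G) {x : KGA hM G} (hi : IsIdempotentElem x) :
    ∃ n : ℕ, tau hM (χ : G → ℂ) 1 x = n := by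
  obtain ⟨I, hI, hIi, hIr⟩ := exists_inv_idem_lift hM (mem_invAlg_one x) hi
  obtain ⟨n, hn⟩ := (isCharacter_hatC hM χ hI hIi).exists_degree
  refine ⟨n, ?_⟩
  rw [tau_eq hM χ.2.isClassFunction
    (⟨hIi, hI, by rw [pPt_one, brK_zpowers_one, hIr]⟩ : IsTauLift hM 1 x I)]
  exact hn

include hM in
theorem tau_one_add (χ : IrrCharacter G) {x y : KGA hM G} (hx : IsIdempotentElem x)
    (hy : IsIdempotentElem y) (hxy : x * y = 0) (hyx : y * x = 0) :
    tau hM (χ : G → ℂ) 1 (x + y) = tau hM (χ : G → ℂ) 1 x + tau hM (χ : G → ℂ) 1 y :=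
  tau_add hM χ.2.isClassFunction (mem_invAlg_one x) hx (by rw [pPt_one, brK_zpowers_one])
    (mem_invAlg_one y) hy (by rw [pPt_one, brK_zpowers_one]) hxy hyx

include hM hmax in
theorem pair_transfer {Q : Subgroup G} {f : Set (IrrCharacter C[Q])} {R : Subgroup G}
    {b : Set (IrrCharacter C[R])} (hle : SubpairLE p M R b Q f) {g : G}
    (hg : Relation.ReflTransGen (NormalSubpairRel p M) (conjIdx g ⟨R, b⟩) ⟨P, e⟩) :
    ∃ x : G, Relation.ReflTransGen (NormalSubpairRel p M) (conjIdx x ⟨Q, f⟩) ⟨P, e⟩ := by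
  have h1 : IsBrauerPairOf p M B (conjIdx g ⟨R, b⟩).1 (conjIdx g ⟨R, b⟩).2 :=
    (isBrauerPairOf_iff_of_le hM hg B).1 hmax.1
  have h2 := isBrauerPairOf_conjIdx hM g⁻¹ h1
  rw [conjIdx_mul, inv_mul_cancel, conjIdx_one] at h2
  exact exists_conj_le_maximal hM hmax ((isBrauerPairOf_iff_of_le hM hle B).2 h2)

include hmax hlam in
/-- Divisibility of the values of a fixed character at local idempotents. -/
theorem fixed_rank (hχ : χ ∈ B) (hfix : starFn hM P e lam χ = χ)
    (hx₀ : ∃ x ∈ P, lam x ≠ 1) :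
    ∀ (Q : Subgroup G), IsPGroup p Q → ∀ x ∈ invAlg (resField hM) Q, IsIdempotentElem x →
      ∀ n : ℕ, tau hM (χ : G → ℂ) 1 x = n → Nat.card Q * p ∣ n * Nat.card P := by
  classical
  have hpr := (Fact.out : p.Prime)
  have hcf := χ.2.isClassFunction
  suffices ∀ (d : ℕ) (Q : Subgroup G), Nat.card Q = d → IsPGroup p Q →
      ∀ x ∈ invAlg (resField hM) Q, IsIdempotentElem x →
      ∀ n : ℕ, tau hM (χ : G → ℂ) 1 x = n → Nat.card Q * p ∣ n * Nat.card P from
    fun Q => this _ Q rfl
  intro d
  induction d using Nat.strong_induction_on with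
  | _ d ih =>
  intro Q hd hQ x hx hxi
  refine (idem_induction (invAlg (resField hM) Q) (P := fun x => IsIdempotentElem x ∧
    ∀ n : ℕ, tau hM (χ : G → ℂ) 1 x = n → Nat.card Q * p ∣ n * Nat.card P) ?_ ?_ ?_ hx hxi).2
  · refine ⟨IsIdempotentElem.zero, fun n hn => ?_⟩
    rw [tau_zero hM hcf] at hn
    rw [Nat.cast_eq_zero.1 hn.symm, zero_mul]
    exact dvd_zero _
  · intro a b _ _ hai hbi hab hba ha hb
    refine ⟨?_, fun n hn => ?_⟩
    · show _ * _ = _
      rw [add_mul, mul_add, mul_add, hai.eq, hbi.eq, hab, hba, add_zero, zero_add]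
    obtain ⟨na, hna⟩ := exists_nat_tau_one hM χ hai
    obtain ⟨nb, hnb⟩ := exists_nat_tau_one hM χ hbi
    rw [tau_one_add hM χ hai hbi hab hba, hna, hnb] at hn
    have : n = na + nb := by exact_mod_cast hn.symm
    rw [this, add_mul]
    exact dvd_add (ha.2 na hna) (hb.2 nb hnb)
  intro a ha
  refine ⟨ha.idem, fun n hn => ?_⟩
  haveI := isAlgClosed_resField hM
  have hR : ¬ p ∣ Nat.card (⊥ : Subgroup G) := by rw [Subgroup.card_bot]; exact hpr.not_dvd_one
  have hQR : ∀ q ∈ Q, ∀ r ∈ (⊥ : Subgroup G), q * r = r * q := fun q _ r hr => by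
    rw [Subgroup.mem_bot.1 hr, mul_one, one_mul]
  have ha' : IsPrim (invAlg (resField hM) (Q ⊔ ⊥)) a := by rwa [sup_bot_eq]
  by_cases hbr : brK Q a = 0
  · -- induced from a subgroup of index `p`
    obtain ⟨N, c, j, hNQ, hcQ, hcN, hNn, hcard, hj, hji, horth, hsum⟩ :=
      exists_green hQ hR hQR ha' hbr
    rw [sup_bot_eq] at hj
    obtain ⟨nj, hnj⟩ := exists_nat_tau_one hM χ hji
    have hJit : ∀ i, (MonoidAlgebra.domCongr (resField hM) (resField hM) (MulAut.conj c))^[i] j =
        conjA (resField hM) (c ^ i) j := fun i => conjA_iterate c i j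
    simp only [hJit] at horth hsum
    have hJi : ∀ i : ℕ, IsIdempotentElem (conjA (resField hM) (c ^ i) j) := fun i => hji.map _
    have hJt : ∀ i : ℕ, tau hM (χ : G → ℂ) 1 (conjA (resField hM) (c ^ i) j) = nj := fun i => by
      have h := tau_conjA hM hcf (c ^ i) 1 (mem_invAlg_one j) hji
        (by rw [pPt_one, brK_zpowers_one])
      rw [mul_one, mul_inv_cancel] at h
      rw [h, hnj]
    have hadd : ∀ m ≤ p, IsIdempotentElem (∑ i ∈ Finset.range m, conjA (resField hM) (c ^ i) j) ∧
        tau hM (χ : G → ℂ) 1 (∑ i ∈ Finset.range m, conjA (resField hM) (c ^ i) j) =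
          (m * nj : ℕ) := by
      intro m
      induction m with
      | zero =>
        intro _
        simp only [Finset.range_zero, Finset.sum_empty]
        exact ⟨IsIdempotentElem.zero, by rw [tau_zero hM hcf]; simp⟩
      | succ m ih' =>
        intro hm
        obtain ⟨hi, he'⟩ := ih' (Nat.le_of_succ_le hm)
        have h1 : (∑ i ∈ Finset.range m, conjA (resField hM) (c ^ i) j) *
            conjA (resField hM) (c ^ m) j = 0 := by
          rw [Finset.sum_mul]
          exact Finset.sum_eq_zero fun i hi' => horth i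
            (lt_trans (Finset.mem_range.1 hi') hm) m hm (ne_of_lt (Finset.mem_range.1 hi'))
        have h2 : conjA (resField hM) (c ^ m) j *
            (∑ i ∈ Finset.range m, conjA (resField hM) (c ^ i) j) = 0 := by
          rw [Finset.mul_sum]
          exact Finset.sum_eq_zero fun i hi' => horth m hm i
            (lt_trans (Finset.mem_range.1 hi') hm) (ne_of_gt (Finset.mem_range.1 hi'))
        rw [Finset.sum_range_succ]
        refine ⟨by
          show _ * _ = _
          rw [mul_add, add_mul, add_mul, hi.eq, (hJi m).eq, h1, h2, add_zero, zero_add], ?_⟩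
        rw [tau_one_add hM χ hi (hJi m) h1 h2, he', hJt]
        push_cast
        ring
    have hpn : n = p * nj := by
      have := (hadd p le_rfl).2
      rw [hsum, hn] at this
      exact_mod_cast this
    have hlt : Nat.card N < d := by
      rw [← hd, hcard]
      exact lt_mul_of_one_lt_left Nat.card_pos hpr.one_lt
    have h := ih _ hlt N rfl (hQ.to_le hNQ) j hj hji nj hnj
    rw [hcard, hpn, mul_assoc p, mul_assoc p]
    exact mul_dvd_mul_left p h
  -- the local case
  obtain ⟨f, hf, hsel⟩ := exists_point_pair hM hQ hQR ha' hbr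
  have hQf : IsBrauerPair p M Q f := ⟨hQ, hf⟩
  by_cases hex : ∃ g₀ : G, Relation.ReflTransGen (NormalSubpairRel p M) (conjIdx g₀ ⟨Q, f⟩) ⟨P, e⟩
  · obtain ⟨g₀, hg₀⟩ := hex
    have hQP : Q.map (MulAut.conj g₀).toMonoidHom ≤ P := le_of_rel hg₀
    have hcQ : Nat.card (Q.map (MulAut.conj g₀).toMonoidHom) = Nat.card Q :=
      Subgroup.card_map_of_injective (MulAut.conj g₀).injective
    rcases (Subgroup.card_le_of_le hQP).lt_or_eq with hlt | heq
    · obtain ⟨a', ha''⟩ := IsPGroup.iff_card.1 hQ
      obtain ⟨b', hb''⟩ := IsPGroup.iff_card.1 hmax.1.1.1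
      rw [hcQ, ha'', hb''] at hlt
      refine Dvd.dvd.mul_left ?_ n
      rw [ha'', hb'', ← pow_succ]
      exact pow_dvd_pow p ((Nat.pow_lt_pow_iff_right hpr.one_lt).1 hlt)
    have hmapP := Subgroup.eq_of_le_of_card_ge hQP heq.ge
    obtain ⟨x₀, hx₀P, hne⟩ := hx₀
    rw [← hmapP] at hx₀P
    obtain ⟨q, hq, hqx⟩ := hx₀P
    have hqo := isPGroup_exists_orderOf hQ hq
    have hqQ : Subgroup.zpowers q ≤ Q := Subgroup.zpowers_le.2 hq
    obtain ⟨b, hb, hle⟩ := exists_subpair hM hQf hqQ
    have hT := fun (y : C[Subgroup.zpowers q]) (hy : IsPRegular p y) =>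
      fixed_blockPart hM hmax hlam hχ hfix hqo hb
        ((rel_conjIdx hM g₀ hle).trans hg₀)
        (by rw [show g₀ * q * g₀⁻¹ = x₀ from hqx]; exact hne) hy
    have haQ : a ∈ invAlg (resField hM) Q := ha.mem
    obtain ⟨I, hI, hIi, hIr⟩ := exists_inv_idem_lift hM haQ ha.idem
    have h0 : hatC hM (χ : G → ℂ) I q = 0 := by
      rw [← tau_eq hM hcf (⟨hIi, invAlg_anti hqQ hI, by rw [pPt_self_of_pelt hqo, hIr]⟩ :
        IsTauLift hM q (brK (Subgroup.zpowers q) a) I)]
      exact tau_eq_zero_of_vanish hM χ hqo hb hT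
        (brK_isIdem (hQ.to_le hqQ) (invAlg_anti hqQ haQ) ha.idem) (brK_idempotent _ _) (hsel _ b hle)
    have h1 : hatC hM (χ : G → ℂ) I 1 = n := by
      rw [← hn, tau_eq hM hcf (⟨hIi, mem_invAlg_one _, by rw [pPt_one, brK_zpowers_one, hIr]⟩ :
        IsTauLift hM 1 a I)]
    have hc := charVal_sub_pReg_mem hM (isCharacter_hatC hM χ hI hIi) (⟨q, hq⟩ : Q)
    have hreg : pReg p (⟨q, hq⟩ : Q) = 1 := by
      obtain ⟨k, hk⟩ := hqo
      have hpp : pPt p (⟨q, hq⟩ : Q) = ⟨q, hq⟩ :=
        pPt_self_of_pelt ⟨k, by rw [Subgroup.orderOf_mk, hk]⟩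
      have := pPt_mul_pReg (p := p) (⟨q, hq⟩ : Q)
      rwa [hpp, mul_eq_left] at this
    rw [hreg] at hc
    simp only [OneMemClass.coe_one, h0, h1, zero_sub] at hc
    have hpn : p ∣ n := (memLocalIdeal_natCast_iff hM n).1 (by
      have := memLocalIdeal_mul_left hM (neg_mem (one_mem (locRing hM))) hc
      simpa using this)
    rw [← hcQ, heq, mul_comm]
    exact mul_dvd_mul_right hpn _
  · have h1 : Subgroup.zpowers (1 : G) ≤ Q := Subgroup.zpowers_le.2 (one_mem Q)
    obtain ⟨b, hb, hle⟩ := exists_subpair hM hQf h1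
    have ho : ∃ k : ℕ, orderOf (1 : G) = p ^ k := ⟨0, by simp⟩
    rcases pair_or_vanish hM hmax ho hb with ⟨g, hg⟩ | hv
    · exact absurd (pair_transfer hM hmax hle hg) hex
    have hsel' := hsel _ b hle
    rw [brK_zpowers_one] at hsel'
    rw [tau_eq_zero_of_vanish hM χ ho hb (fun y hy => hv χ hχ y hy) ha.idem (brK_zpowers_one _)
      hsel'] at hn
    rw [Nat.cast_eq_zero.1 hn.symm, zero_mul]
    exact dvd_zero _

include hmax hlam in
/-- A nontrivial linear character moves every character of height zero. -/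
theorem fixed_height_zero (hχ : χ ∈ B) (hfix : starFn hM P e lam χ = χ)
    (hh : blockHeight p B (χ : G → ℂ) = 0) : ∀ x ∈ P, lam x = 1 := by
  classical
  by_contra hno
  push Not at hno
  have hpr := (Fact.out : p.Prime)
  obtain ⟨S⟩ : Nonempty (Sylow p G) := inferInstance
  have hlift : IsTauLift hM (1 : G) (1 : KGA hM G) (1 : OGA hM G) :=
    ⟨IsIdempotentElem.one, one_mem _, by rw [pPt_one, brK_zpowers_one, map_one]⟩
  have ht : tau hM (χ : G → ℂ) (1 : G) (1 : KGA hM G) = (charDegree (χ : G → ℂ) : ℂ) := by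
    rw [tau_eq hM χ.2.isClassFunction hlift, hatC_one, apply_one_eq_charDegree]
  have h := fixed_rank hM hmax hlam hχ hfix hno (S : Subgroup G) S.2 1 (one_mem _)
    IsIdempotentElem.one _ ht
  have hd := (blockHeight_eq_zero_iff hχ).1 hh
  have hsum := blockDefect_add_minVal (p := p) ⟨χ, hχ⟩
  rw [S.card_eq_multiplicity, card_defectGroup hM hmax.1.2.1 (isDefectGroup_of_maximal hM hmax),
    ← pow_succ] at h
  have hpos := (charDegree_pos χ).ne'
  have := (Nat.factorization_le_iff_dvd (pow_ne_zero _ hpr.ne_zero)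
    (Nat.mul_ne_zero hpos (pow_ne_zero _ hpr.ne_zero))).2 h p
  rw [Nat.factorization_mul hpos (pow_ne_zero _ hpr.ne_zero), hpr.factorization_pow,
    Finsupp.single_eq_same, Finsupp.add_apply, hpr.factorization_pow, Finsupp.single_eq_same] at this
  omega

end Cfsg.Lib.Block
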