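import Cfsg.Agent.Lib.Block.DihedralPrincipal
import Cfsg.Agent.Lib.Block.StarStab
import Cfsg.Agent.Lib.Char.Formulas

/-!
# The order formula for dihedral Sylow two-subgroups with one class of involutions

The class multiplication coefficients of the involutions, averaged over the cosets of the odd part
of the centralizer of the central involution, only see the principal block.
-/

set_option autoImplicit false
set_option linter.unusedSectionVars false
set_option maxHeartbeats 800000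

namespace Cfsg.Lib.Block

open Cfsg Cfsg.Lib.Char
open scoped ComplexConjugate

universe u

noncomputable local instance (priority := high) fintypeSubgroupDihedralOrder {A : Type u}
    [Group A] [Fintype A] (H : Subgroup A) : Fintype H := Fintype.ofFinite H

variable {G : Type u} [Group G] [Fintype G] {M : Ideal AlgInt}

open Classical in
/-- Summed over the regular elements of a centralizer with normal complement, the translates of a
character only see the principal block. -/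
theorem sum_regular_secFn {p : ℕ} [Fact p.Prime] (hM : IsPModular p M) {u : G}
    (hu : ∃ k : ℕ, orderOf u = p ^ k)
    (hc : HasNormalPComplement p (Subgroup.centralizer ({u} : Set G))) (χ : IrrCharacter G) :
    ∑ z : Subgroup.centralizer ({u} : Set G),
        (if IsPRegular p z then (χ : G → ℂ) (u * (z : G)) else 0) =
      ((Finset.univ.filter fun z : Subgroup.centralizer ({u} : Set G) => IsPRegular p z).card : ℂ) *
        if χ ∈ principalBlock M G then (χ : G → ℂ) u else 0 := by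
  set H := Subgroup.centralizer ({u} : Set G) with hH
  have hHu : ∀ h : H, Commute u (h : G) := fun h =>
    (Subgroup.mem_centralizer_singleton_iff.1 h.2).symm
  obtain ⟨θ, hθ⟩ : ∃ θ, θ = secFn u H (χ : G → ℂ) := ⟨_, rfl⟩
  have hθc : IsClassFunction H θ := fun g x => by
    rw [hθ]
    show (χ : G → ℂ) (u * ((x * g * x⁻¹ : H) : G)) = (χ : G → ℂ) (u * (g : G))
    rw [← χ.2.isClassFunction (u * (g : G)) (x : G)]
    congr 1
    push_cast
    rw [show u * ((x : G) * g * (x : G)⁻¹) = u * x * g * (x : G)⁻¹ by group, (hHu x).eq]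
    group
  have h := regInner_blockPart hM (isPBlock_principal (M := M) (G := H))
    (trivChar_mem_principal hM) hθc
  simp only [regInner, classInner, trivChar_coe, map_one, mul_one] at h
  have h' := mul_left_cancel₀ (inv_ne_zero (Nat.cast_ne_zero.2 Nat.card_pos.ne')) h
  have e : ∀ f : H → ℂ, ∀ z, pRegularPart p f z = if IsPRegular p z then f z else 0 := fun f z => by
    split_ifs with hz
    · rw [pRegularPart_of_reg hz]
    · rw [pRegularPart_of_sing hz]
  simp only [e] at h'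
  rw [Finset.sum_congr rfl (g := fun z => if IsPRegular p z then θ z else 0)
    fun z _ => by rw [hθ]; rfl, h', Finset.card_filter, Nat.cast_sum, Finset.sum_mul]
  refine Finset.sum_congr rfl fun z _ => ?_
  split_ifs with hz hχ hχ
  · have hb := blockPart_indSet hM hu hHu le_rfl (isPBlock_principal (M := M) (G := G)) χ hz
    rw [if_pos hχ, indSet_principal hM hu hHu le_rfl] at hb
    rw [hθ, hb, Nat.cast_one, one_mul]
    exact principal_value_of_complement hM hu hc hχ (hHu z) (by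
      rw [orderOf_submonoid]; exact hz)
  · have hb := blockPart_indSet hM hu hHu le_rfl (isPBlock_principal (M := M) (G := G)) χ hz
    rw [if_neg hχ, indSet_principal hM hu hHu le_rfl] at hb
    rw [hθ, hb, Nat.cast_one, mul_zero]
  all_goals simp

namespace DihSylow

variable {P : Sylow 2 G} {σ τ : G} {h : ℕ} [Fact (Nat.Prime 2)]

open Classical in
/-- The elements of odd order centralizing the central involution. -/
noncomputable def oddPart (σ : G) (h : ℕ) : Finset G :=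
  Finset.univ.filter fun y => Commute y (σ ^ h) ∧ Odd (orderOf y)

open Classical in
/-- The involutions in a coset of the odd part. -/
noncomputable def invCoset (σ : G) (h : ℕ) (x : G) : Finset G :=
  Finset.univ.filter fun a => a * a = 1 ∧ a ≠ 1 ∧ a * x⁻¹ ∈ oddPart σ h

open Classical in
/-- The members of the odd part commuting with an element. -/
noncomputable def oddFix (σ : G) (h : ℕ) (x : G) : Finset G :=
  (oddPart σ h).filter fun y => Commute y x

theorem mem_oddPart {y : G} :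
    y ∈ oddPart σ h ↔ Commute y (σ ^ h) ∧ Odd (orderOf y) := by
  classical
  simp [oddPart]

theorem mem_invCoset {x a : G} :
    a ∈ invCoset σ h x ↔ a * a = 1 ∧ a ≠ 1 ∧ a * x⁻¹ ∈ oddPart σ h := by
  classical
  simp [invCoset]

theorem mem_oddFix {x y : G} : y ∈ oddFix σ h x ↔ y ∈ oddPart σ h ∧ Commute y x := by
  classical
  simp [oddFix]

variable (D : DihSylow P σ τ h)

include D

/-- The odd part is a normal complement in the centralizer of the central involution. -/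
theorem oddPart_spec :
    (1 : G) ∈ oddPart σ h ∧
    (∀ y ∈ oddPart σ h, ∀ y' ∈ oddPart σ h, y * y' ∈ oddPart σ h) ∧
    (∀ y ∈ oddPart σ h, y⁻¹ ∈ oddPart σ h) ∧
    (∀ z, Commute z (σ ^ h) → ∀ y ∈ oddPart σ h, z * y * z⁻¹ ∈ oddPart σ h) ∧
    (∀ z, Commute z (σ ^ h) → ∃ x ∈ (P : Subgroup G), z * x⁻¹ ∈ oddPart σ h) ∧
    (∀ x ∈ (P : Subgroup G), ∀ x' ∈ (P : Subgroup G), x * x'⁻¹ ∈ oddPart σ h → x = x') ∧
    Nat.card (Subgroup.centralizer ({σ ^ h} : Set G)) = 4 * h * (oddPart σ h).card := by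
  classical
  obtain ⟨hJ2, hJ1, hJc⟩ := D.central_involution
  have hc := D.complement_involution hJ1 hJ2
  set H := Subgroup.centralizer ({σ ^ h} : Set G) with hH
  have hmemH : ∀ z : G, z ∈ H ↔ Commute z (σ ^ h) := fun z =>
    Subgroup.mem_centralizer_singleton_iff
  let R := P.subtype D.le_centralizer_central
  obtain ⟨N, hNn, hN⟩ := (Fusion.hasNormalPComplement_iff_exists R).1 hc
  have hNcop := Fusion.coprime_card_of_complement hN
  have hodd : ∀ z : H, z ∈ N ↔ Odd (orderOf (z : G)) := by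
    intro z
    rw [show orderOf (z : G) = orderOf z from orderOf_submonoid z]
    constructor
    · intro hz
      refine Nat.coprime_two_right.1 (Nat.Coprime.coprime_dvd_left ?_ hNcop)
      have := orderOf_dvd_natCard (⟨z, hz⟩ : N)
      rwa [Subgroup.orderOf_mk] at this
    · intro hz
      refine (QuotientGroup.eq_one_iff (N := N) z).1 (orderOf_eq_one_iff.1 ?_)
      have hidx : Nat.card (H ⧸ N) = Nat.card (R : Subgroup H) := hN.symm.index_eq_card ▸ rfl
      obtain ⟨k, hk⟩ := R.2.exists_card_eq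
      refine Nat.eq_one_of_dvd_coprimes ((Nat.coprime_two_right.2 hz).pow_right k)
        (orderOf_map_dvd (QuotientGroup.mk' N) z) ?_
      rw [← hk, ← hidx]
      exact orderOf_dvd_natCard _
  have hmem : ∀ z : H, (z : G) ∈ oddPart σ h ↔ z ∈ N := fun z => by
    rw [mem_oddPart, hodd]
    exact ⟨fun h => h.2, fun h => ⟨(hmemH _).1 z.2, h⟩⟩
  have hlift : ∀ y ∈ oddPart σ h, ∃ z : H, (z : G) = y ∧ z ∈ N := fun y hy =>
    ⟨⟨y, (hmemH y).2 (mem_oddPart.1 hy).1⟩, rfl, (hmem _).1 hy⟩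
  refine ⟨(hmem 1).2 N.one_mem, fun y hy y' hy' => ?_, fun y hy => ?_, fun z hz y hy => ?_,
    fun z hz => ?_, fun x hx x' hx' hxx => ?_, ?_⟩
  · obtain ⟨a, rfl, ha⟩ := hlift y hy
    obtain ⟨b, rfl, hb⟩ := hlift y' hy'
    exact (hmem (a * b)).2 (N.mul_mem ha hb)
  · obtain ⟨a, rfl, ha⟩ := hlift y hy
    exact (hmem a⁻¹).2 (N.inv_mem ha)
  · obtain ⟨a, rfl, ha⟩ := hlift y hy
    exact (hmem (⟨z, (hmemH z).2 hz⟩ * a * ⟨z, (hmemH z).2 hz⟩⁻¹)).2 (hNn.conj_mem a ha _)
  · obtain ⟨⟨a, b⟩, hab⟩ := hN.2 ⟨z, (hmemH z).2 hz⟩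
    refine ⟨((b : H) : G), b.2, ?_⟩
    rw [show z = ((a : H) : G) * ((b : H) : G) from (congrArg Subtype.val hab).symm,
      mul_inv_cancel_right]
    exact (hmem _).2 a.2
  · obtain ⟨k, hk⟩ := D.exists_order (mul_mem hx (inv_mem hx'))
    have h1 := (mem_oddPart.1 hxx).2
    rw [hk] at h1
    refine mul_inv_eq_one.1 (orderOf_eq_one_iff.1 ?_)
    rw [hk]
    rcases k with _ | k
    · rfl
    · exact absurd h1 (Nat.not_odd_iff_even.2 (Nat.even_pow.2 ⟨even_two, by omega⟩))
  · rw [← hN.card_mul, Sylow.coe_subtype, Nat.card_congr (Subgroup.subgroupOfEquivOfLe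
      D.le_centralizer_central).toEquiv, D.card, mul_comm]
    congr 1
    have himg : oddPart σ h = (Finset.univ : Finset N).image fun a : N => ((a : H) : G) := by
      ext y
      simp only [Finset.mem_image, Finset.mem_univ, true_and]
      constructor
      · intro hy
        obtain ⟨a, rfl, ha⟩ := hlift y hy
        exact ⟨⟨a, ha⟩, rfl⟩
      · rintro ⟨a, rfl⟩
        exact (hmem _).2 a.2
    rw [himg, Finset.card_image_of_injective _ (fun a b e => Subtype.ext (Subtype.ext e)),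
      Finset.card_univ, Nat.card_eq_fintype_card]

open Classical in
/-- A coset of the odd part is filled by the conjugates of the elements commuting with it. -/
theorem card_fibre {u : G} {k : ℕ} (hu : u ∈ Subgroup.zpowers σ) (hk : u ^ k = σ ^ h) {w : G}
    (hw : w ∈ oddPart σ h) :
    (((oddPart σ h) ×ˢ (oddFix σ h u)).filter
      fun q => q.1 * (u * q.2) * q.1⁻¹ * u⁻¹ = w).card = (oddFix σ h u).card := by
  obtain ⟨h1, hmul, hinv, hconj, -, -, -⟩ := D.oddPart_spec
  have huJ : Commute u (σ ^ h) := hk ▸ Commute.self_pow u k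
  obtain ⟨e, he⟩ := D.exists_order (D.zpowers_le hu)
  have hpair : ∀ q ∈ (oddPart σ h) ×ˢ (oddFix σ h u),
      q.1 * (u * q.2) * q.1⁻¹ * u⁻¹ ∈ oddPart σ h ∧
      pPt 2 (q.1 * (u * q.2) * q.1⁻¹) = q.1 * u * q.1⁻¹ := by
    intro q hq
    obtain ⟨hq1, hq2⟩ := Finset.mem_product.1 hq
    obtain ⟨hq2, hq2u⟩ := mem_oddFix.1 hq2
    refine ⟨?_, ?_⟩
    · rw [show q.1 * (u * q.2) * q.1⁻¹ * u⁻¹ = q.1 * (u * (q.2 * q.1⁻¹) * u⁻¹) by group]
      exact hmul _ hq1 _ (hconj u huJ _ (hmul _ hq2 _ (hinv _ hq1)))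
    · rw [pPt_conj, ← eq_pPt rfl hq2u.symm he fun hd => by
        obtain ⟨c, hc⟩ := (mem_oddPart.1 hq2).2
        omega]
  have hmaps : ∀ q ∈ (oddPart σ h) ×ˢ (oddFix σ h u),
      q.1 * (u * q.2) * q.1⁻¹ * u⁻¹ ∈ oddPart σ h := fun q hq => (hpair q hq).1
  have hle : ∀ v ∈ oddPart σ h, (((oddPart σ h) ×ˢ (oddFix σ h u)).filter
      fun q => q.1 * (u * q.2) * q.1⁻¹ * u⁻¹ = v).card ≤ (oddFix σ h u).card := by
    intro v hv
    rcases (((oddPart σ h) ×ˢ (oddFix σ h u)).filter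
      fun q => q.1 * (u * q.2) * q.1⁻¹ * u⁻¹ = v).eq_empty_or_nonempty with he0 | ⟨q₀, hq₀⟩
    · rw [he0, Finset.card_empty]; exact Nat.zero_le _
    obtain ⟨hq₀, hv₀⟩ := Finset.mem_filter.1 hq₀
    refine Finset.card_le_card_of_injOn (fun q => q₀.1⁻¹ * q.1) (fun q hq => ?_) fun q hq q' hq' e' => ?_
    · obtain ⟨hq, hqv⟩ := Finset.mem_filter.1 hq
      have hgg : q₀.1 * (u * q₀.2) * q₀.1⁻¹ = q.1 * (u * q.2) * q.1⁻¹ :=
        mul_right_cancel (hv₀.trans hqv.symm)
      have hpp := congrArg (pPt 2) hgg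
      rw [(hpair q₀ hq₀).2, (hpair q hq).2] at hpp
      refine mem_oddFix.2 ⟨hmul _ (hinv _ (Finset.mem_product.1 hq₀).1) _
        (Finset.mem_product.1 hq).1, ?_⟩
      show q₀.1⁻¹ * q.1 * u = u * (q₀.1⁻¹ * q.1)
      calc q₀.1⁻¹ * q.1 * u = q₀.1⁻¹ * (q.1 * u * q.1⁻¹) * q.1 := by group
        _ = u * (q₀.1⁻¹ * q.1) := by rw [← hpp]; group
    · obtain ⟨-, hqv⟩ := Finset.mem_filter.1 hq
      obtain ⟨-, hqv'⟩ := Finset.mem_filter.1 hq'
      have e1 : q.1 = q'.1 := mul_left_cancel e'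
      have e2 := mul_right_cancel (hqv.trans hqv'.symm)
      rw [e1] at e2
      exact Prod.ext e1 (mul_left_cancel (mul_left_cancel (mul_right_cancel e2)))
  refine (Finset.sum_eq_sum_iff_of_le hle).1 ?_ w hw
  rw [← Finset.card_eq_sum_card_fiberwise hmaps, Finset.card_product, Finset.sum_const,
    smul_eq_mul]

open Classical in
/-- Class functions over a coset of the odd part. -/
theorem sum_coset {u : G} {k : ℕ} (hu : u ∈ Subgroup.zpowers σ) (hk : u ^ k = σ ^ h) {f : G → ℂ}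
    (hf : IsClassFunction G f) :
    ((oddFix σ h u).card : ℂ) * ∑ y ∈ oddPart σ h, f (y * u) =
      ((oddPart σ h).card : ℂ) * ∑ z ∈ oddFix σ h u, f (u * z) := by
  obtain ⟨h1, hmul, hinv, hconj, -, -, -⟩ := D.oddPart_spec
  have huJ : Commute u (σ ^ h) := hk ▸ Commute.self_pow u k
  have hmaps : ∀ q ∈ (oddPart σ h) ×ˢ (oddFix σ h u),
      q.1 * (u * q.2) * q.1⁻¹ * u⁻¹ ∈ oddPart σ h := by
    intro q hq
    obtain ⟨hq1, hq2⟩ := Finset.mem_product.1 hq
    rw [show q.1 * (u * q.2) * q.1⁻¹ * u⁻¹ = q.1 * (u * (q.2 * q.1⁻¹) * u⁻¹) by group]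
    exact hmul _ hq1 _ (hconj u huJ _ (hmul _ (mem_oddFix.1 hq2).1 _ (hinv _ hq1)))
  have e1 : ∑ q ∈ (oddPart σ h) ×ˢ (oddFix σ h u), f (q.1 * (u * q.2) * q.1⁻¹) =
      ((oddPart σ h).card : ℂ) * ∑ z ∈ oddFix σ h u, f (u * z) := by
    rw [Finset.sum_product, Finset.sum_congr rfl fun y _ => Finset.sum_congr rfl fun z _ => hf _ y]
    dsimp only
    rw [Finset.sum_const, nsmul_eq_mul]
  rw [← e1, ← Finset.sum_fiberwise_of_maps_to hmaps, Finset.mul_sum]
  refine Finset.sum_congr rfl fun w hw => ?_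
  rw [Finset.sum_congr rfl (g := fun _ => f (w * u)) fun q hq => by
    rw [← (Finset.mem_filter.1 hq).2, inv_mul_cancel_right], Finset.sum_const, nsmul_eq_mul,
    D.card_fibre hu hk hw]

open Classical in
/-- Over a coset of the odd part a character only sees the principal block. -/
theorem sum_coset_irr (hM : IsPModular 2 M) {u : G} {k : ℕ} (hu : u ∈ Subgroup.zpowers σ)
    (hk : u ^ k = σ ^ h) (hu1 : u ≠ 1) (χ : IrrCharacter G) :
    ∑ y ∈ oddPart σ h, (χ : G → ℂ) (y * u) =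
      ((oddPart σ h).card : ℂ) * if χ ∈ principalBlock M G then (χ : G → ℂ) u else 0 := by
  obtain ⟨h1, -⟩ := D.oddPart_spec
  have hne : ((oddFix σ h u).card : ℂ) ≠ 0 := Nat.cast_ne_zero.2
    (Finset.card_ne_zero.2 ⟨1, mem_oddFix.2 ⟨h1, Commute.one_left _⟩⟩)
  refine mul_left_cancel₀ hne ?_
  rw [D.sum_coset hu hk χ.2.isClassFunction, mul_left_comm]
  congr 1
  have hmap : oddFix σ h u = ((Finset.univ.filter fun z : Subgroup.centralizer ({u} : Set G) =>
      IsPRegular 2 z).map (Function.Embedding.subtype _)) := by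
    ext z
    simp only [Finset.mem_map, Finset.mem_filter, Finset.mem_univ, true_and,
      Function.Embedding.subtype_apply, mem_oddFix, mem_oddPart]
    constructor
    · rintro ⟨⟨-, hz⟩, hzu⟩
      refine ⟨⟨z, Subgroup.mem_centralizer_singleton_iff.2 hzu⟩, fun hd => ?_, rfl⟩
      rw [Subgroup.orderOf_mk] at hd
      obtain ⟨c, hc⟩ := hz
      omega
    · rintro ⟨⟨a, ha⟩, hr, rfl⟩
      rw [IsPRegular, Subgroup.orderOf_mk] at hr
      have hau : Commute a u := Subgroup.mem_centralizer_singleton_iff.1 ha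
      exact ⟨⟨hk ▸ hau.pow_right k, show Odd (orderOf a) from Nat.odd_iff.2 (by omega)⟩, hau⟩
  rw [hmap, Finset.sum_map, Finset.card_map, Finset.sum_filter]
  exact sum_regular_secFn hM (D.exists_order (D.zpowers_le hu)) (D.complement (D.zpowers_le hu) hu1)
    χ

/-- The reflections. -/
theorem reflection_iff {x : G} :
    x ∈ (P : Subgroup G) ∧ x ∉ Subgroup.zpowers σ ↔ ∃ i < 2 * h, x = σ ^ i * τ := by
  constructor
  · rintro ⟨hx, hx'⟩
    have hc := (D.cover x hx).resolve_left hx'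
    obtain ⟨i, hi, he⟩ : ∃ i < 2 * h, σ ^ i = x * τ := by
      obtain ⟨n, hn⟩ := (IsOfFinOrder.mem_powers_iff_mem_zpowers (isOfFinOrder_of_finite σ)).2 hc
      exact ⟨n % orderOf σ, D.orderσ ▸ Nat.mod_lt _ (orderOf_pos σ),
        (pow_mod_orderOf σ n).trans hn⟩
    exact ⟨i, hi, by rw [he, mul_assoc, D.sqτ, mul_one]⟩
  · rintro ⟨i, -, rfl⟩
    refine ⟨mul_mem (pow_mem D.memσ i) D.memτ, fun hm => ?_⟩
    have hτ : τ ∈ Subgroup.zpowers σ := by
      have := mul_mem (inv_mem (D.mem_pow i)) hm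
      rwa [inv_mul_cancel_left] at this
    have h1 := D.τ_conj (Subgroup.mem_zpowers σ)
    rw [D.comm_zpowers hτ (Subgroup.mem_zpowers σ), mul_inv_cancel_right] at h1
    have h2 : σ ^ 2 = 1 := by rw [pow_two]; exact mul_eq_one_iff_eq_inv.2 h1
    have h3 := Nat.le_of_dvd two_pos (orderOf_dvd_of_pow_eq_one h2)
    have := D.orderσ
    have := D.two_le
    omega

theorem conj_pow_reflection (i j : ℕ) :
    σ ^ j * (σ ^ i * τ) * (σ ^ j)⁻¹ = σ ^ (i + 2 * j) * τ := by
  have h1 : τ * (σ ^ j)⁻¹ = σ ^ j * τ := by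
    have h2 := D.τ_conj (inv_mem (D.mem_pow j))
    rw [inv_inv] at h2
    exact mul_inv_eq_iff_eq_mul.1 h2
  calc σ ^ j * (σ ^ i * τ) * (σ ^ j)⁻¹ = σ ^ j * σ ^ i * (τ * (σ ^ j)⁻¹) := by group
    _ = σ ^ (i + 2 * j) * τ := by rw [h1, ← mul_assoc, ← pow_add, ← pow_add]; congr 2; omega

open Classical in
theorem card_invCoset_step (i : ℕ) :
    (invCoset σ h (σ ^ (i + 2) * τ)).card = (invCoset σ h (σ ^ i * τ)).card := by
  obtain ⟨-, -, -, hconj, -, -, -⟩ := D.oddPart_spec
  have hc : Commute σ (σ ^ h) := Commute.self_pow σ h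
  refine (Finset.card_bij' (fun a _ => σ * a * σ⁻¹) (fun a _ => σ⁻¹ * a * σ) ?_ ?_
    (fun a _ => by group) (fun a _ => by group)).symm
  · intro a ha
    obtain ⟨h1, h2, h3⟩ := mem_invCoset.1 ha
    refine mem_invCoset.2 ⟨?_, fun e => h2 (conj_eq_one_iff.1 e), ?_⟩
    · rw [show σ * a * σ⁻¹ * (σ * a * σ⁻¹) = σ * (a * a) * σ⁻¹ by group, h1, mul_one,
        mul_inv_cancel]
    · have e := D.conj_pow_reflection i 1
      rw [pow_one, mul_one] at e
      rw [← e, show σ * a * σ⁻¹ * (σ * (σ ^ i * τ) * σ⁻¹)⁻¹ = σ * (a * (σ ^ i * τ)⁻¹) * σ⁻¹ by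
        group]
      exact hconj σ hc _ h3
  · intro a ha
    obtain ⟨h1, h2, h3⟩ := mem_invCoset.1 ha
    refine mem_invCoset.2 ⟨?_, fun e => h2 ?_, ?_⟩
    · rw [show σ⁻¹ * a * σ * (σ⁻¹ * a * σ) = σ⁻¹ * (a * a) * σ by group, h1, mul_one,
        inv_mul_cancel]
    · calc a = σ * (σ⁻¹ * a * σ) * σ⁻¹ := by group
        _ = 1 := by rw [e, mul_one, mul_inv_cancel]
    · have e := D.conj_pow_reflection i 1
      rw [pow_one, mul_one] at e
      have := hconj σ⁻¹ hc.inv_left _ h3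
      rwa [← e, show σ⁻¹ * (a * (σ * (σ ^ i * τ) * σ⁻¹)⁻¹) * σ⁻¹⁻¹ =
        σ⁻¹ * a * σ * (σ ^ i * τ)⁻¹ by group] at this

theorem card_invCoset_parity (i : ℕ) :
    (invCoset σ h (σ ^ i * τ)).card = (invCoset σ h (σ ^ (i % 2) * τ)).card := by
  induction i using Nat.strong_induction_on with
  | _ i ih =>
    rcases i with _ | _ | i
    · rfl
    · rfl
    · rw [D.card_invCoset_step i, ih i (by omega), show (i + 2) % 2 = i % 2 by omega]

open Classical in
/-- Involutions in the coset of a reflection, and the joint centralizer. -/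
theorem card_invCoset_mul {x : G} (hx : x ∈ (P : Subgroup G)) (hx' : x ∉ Subgroup.zpowers σ) :
    (invCoset σ h x).card * (oddFix σ h x).card = (oddPart σ h).card ∧
      Nat.card (Subgroup.centralizer ({σ ^ h, x} : Set G)) = 4 * (oddFix σ h x).card := by
  obtain ⟨h1, hmul, hinv, hconj, hdec, huniq, -⟩ := D.oddPart_spec
  obtain ⟨hJ2, hJ1, hJc⟩ := D.central_involution
  have hx2 := D.sq_outside hx hx'
  have hxi : x⁻¹ = x := inv_eq_of_mul_eq_one_right hx2
  have hxJ : Commute x (σ ^ h) := hJc x hx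
  have hx1 : x ≠ 1 := fun e => hx' (e ▸ one_mem _)
  refine ⟨?_, ?_⟩
  · have hmaps : ∀ y ∈ oddPart σ h, y * x * y⁻¹ ∈ invCoset σ h x := by
      intro y hy
      refine mem_invCoset.2 ⟨?_, fun e => hx1 (conj_eq_one_iff.1 e), ?_⟩
      · rw [show y * x * y⁻¹ * (y * x * y⁻¹) = y * (x * x) * y⁻¹ by group, hx2, mul_one,
          mul_inv_cancel]
      · rw [show y * x * y⁻¹ * x⁻¹ = y * (x * y⁻¹ * x⁻¹) by group]
        exact hmul _ hy _ (hconj x hxJ _ (hinv _ hy))
    rw [Finset.card_eq_sum_card_fiberwise (s := oddPart σ h) (t := invCoset σ h x) hmaps,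
      Finset.sum_congr rfl (g := fun _ => (oddFix σ h x).card), Finset.sum_const, smul_eq_mul]
    intro a ha
    obtain ⟨ha2, -, ha3⟩ := mem_invCoset.1 ha
    obtain ⟨z, hz⟩ : ∃ z, z = a * x⁻¹ := ⟨_, rfl⟩
    rw [← hz] at ha3
    obtain ⟨c, hc⟩ := (mem_oddPart.1 ha3).2
    obtain ⟨w, hw⟩ : ∃ w, w = z ^ (c + 1) := ⟨_, rfl⟩
    have hww : w * w = z := by
      rw [hw, ← pow_add, show c + 1 + (c + 1) = orderOf z + 1 by omega, pow_succ,
        pow_orderOf_eq_one, one_mul]
    have hxz : x * z * x⁻¹ = z⁻¹ := by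
      rw [hz, hxi, mul_inv_rev, hxi, inv_eq_of_mul_eq_one_right ha2, mul_assoc x, mul_assoc a,
        hx2, mul_one]
    have hxw : x * w * x⁻¹ = w⁻¹ := by rw [hw, ← conj_pow, hxz, inv_pow]
    have hwO : w ∈ oddPart σ h := by
      rw [hw]
      clear hww hxw hw
      induction c + 1 with
      | zero => rw [pow_zero]; exact h1
      | succ n ih => rw [pow_succ]; exact hmul _ ih _ ha3
    have haw : w * x * w⁻¹ = a := by
      rw [show a = z * x by rw [hz, inv_mul_cancel_right], ← hww]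
      calc w * x * w⁻¹ = w * (x * w * x⁻¹)⁻¹⁻¹⁻¹ * x := by group
        _ = w * w * x := by rw [hxw, inv_inv, inv_inv]
    refine (Finset.card_bij' (fun y _ => w * y) (fun y _ => w⁻¹ * y) ?_ ?_
      (fun y _ => by group) (fun y _ => by group)).symm
    · intro y hy
      obtain ⟨hyO, hyx⟩ := mem_oddFix.1 hy
      refine Finset.mem_filter.2 ⟨hmul _ hwO _ hyO, ?_⟩
      rw [show w * y * x * (w * y)⁻¹ = w * (y * x * y⁻¹) * w⁻¹ by group, hyx.eq,
        mul_inv_cancel_right, haw]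
    · intro y hy
      obtain ⟨hyO, hyx⟩ := Finset.mem_filter.1 hy
      refine mem_oddFix.2 ⟨hmul _ (hinv _ hwO) _ hyO, ?_⟩
      rw [← haw] at hyx
      show w⁻¹ * y * x = x * (w⁻¹ * y)
      calc w⁻¹ * y * x = w⁻¹ * (y * x * y⁻¹) * y := by group
        _ = x * (w⁻¹ * y) := by rw [hyx]; group
  · obtain ⟨F, hF⟩ : ∃ F : Finset G, F = {1, σ ^ h, x, x * σ ^ h} := ⟨_, rfl⟩
    have hFP : ∀ q ∈ F, q ∈ (P : Subgroup G) ∧ Commute q x ∧ Commute q (σ ^ h) := by
      intro q hq
      simp only [hF, Finset.mem_insert, Finset.mem_singleton] at hq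
      rcases hq with rfl | rfl | rfl | rfl
      · exact ⟨one_mem _, Commute.one_left _, Commute.one_left _⟩
      · exact ⟨pow_mem D.memσ h, hxJ.symm, Commute.refl _⟩
      · exact ⟨hx, Commute.refl _, hxJ⟩
      · exact ⟨mul_mem hx (pow_mem D.memσ h), (Commute.refl x).mul_left hxJ.symm,
          hxJ.mul_left (Commute.refl _)⟩
    have hF4 : F.card = 4 := by
      have hxne : x ≠ σ ^ h := fun e => hx' (e ▸ D.mem_pow h)
      have h5 : x * σ ^ h ≠ 1 := fun e => hxne (by
        rw [mul_eq_one_iff_eq_inv.1 e, inv_eq_of_mul_eq_one_right hJ2])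
      simp [hF, Ne.symm hJ1, Ne.symm hx1, Ne.symm h5, hxne, Ne.symm hxne, hJ1, hx1]
    have hset : (Finset.univ.filter fun z : G => z ∈ Subgroup.centralizer ({σ ^ h, x} : Set G)) =
        ((oddFix σ h x) ×ˢ F).image fun q => q.1 * q.2 := by
      ext z
      simp only [Finset.mem_filter, Finset.mem_univ, true_and, Finset.mem_image, Finset.mem_product,
        Subgroup.mem_centralizer_iff, Set.mem_insert_iff, Set.mem_singleton_iff, forall_eq_or_imp,
        forall_eq]
      constructor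
      · rintro ⟨hzJ, hzx⟩
        obtain ⟨q, hq, hy⟩ := hdec z hzJ.symm
        have hqx : Commute q x := by
          have hcq : q * x * q⁻¹ ∈ (P : Subgroup G) := mul_mem (mul_mem hq hx) (inv_mem hq)
          refine mul_inv_eq_iff_eq_mul.1 (huniq _ hcq _ hx ?_)
          obtain ⟨y, hy'⟩ : ∃ y, y = z * q⁻¹ := ⟨_, rfl⟩
          rw [← hy'] at hy
          have e : q * x * q⁻¹ * x⁻¹ = y⁻¹ * (x * y * x⁻¹) := by
            rw [show y⁻¹ * (x * y * x⁻¹) = q * z⁻¹ * (x * z) * q⁻¹ * x⁻¹ by rw [hy']; group, hzx]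
            group
          rw [e]
          exact hmul _ (hinv _ hy) _ (hconj x hxJ _ hy)
        have hqF : q ∈ F := by
          simp only [hF, Finset.mem_insert, Finset.mem_singleton]
          by_cases hqσ : q ∈ Subgroup.zpowers σ
          · have e := D.conj_outside hx hx' hqσ
            rw [← hqx.eq, mul_inv_cancel_right] at e
            rcases D.eq_central_of_sq hqσ (mul_eq_one_iff_eq_inv.2 e) with e | e <;> simp [e]
          · have hm := D.quot_outside hx hq hx' hqσ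
            have e := D.conj_outside hx hx' hm
            rw [show x * (x⁻¹ * q) * x⁻¹ = x⁻¹ * q by
              rw [mul_inv_cancel_left, hxi, ← hxi]
              rw [hxi, hqx.eq]] at e
            rcases D.eq_central_of_sq hm (mul_eq_one_iff_eq_inv.2 e) with e | e
            · simp [(inv_mul_eq_one.1 e).symm]
            · simp [show q = x * σ ^ h by rw [← e, mul_inv_cancel_left]]
        refine ⟨(z * q⁻¹, q), ⟨mem_oddFix.2 ⟨hy, ?_⟩, hqF⟩, inv_mul_cancel_right z q⟩
        exact (show Commute z x from hzx.symm).mul_left hqx.inv_left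
      · rintro ⟨⟨y, q⟩, ⟨hy, hq⟩, rfl⟩
        obtain ⟨hyO, hyx⟩ := mem_oddFix.1 hy
        obtain ⟨-, hq1, hq2⟩ := hFP q hq
        exact ⟨((mem_oddPart.1 hyO).1.mul_left hq2).eq.symm, (hyx.mul_left hq1).eq.symm⟩
    have hinj : Set.InjOn (fun q : G × G => q.1 * q.2) ↑((oddFix σ h x) ×ˢ F) := by
      rintro ⟨y, q⟩ hq ⟨y', q'⟩ hq' (e : y * q = y' * q')
      rw [Finset.mem_coe, Finset.mem_product] at hq hq'
      have e' : y'⁻¹ * y = q' * q⁻¹ := by
        rw [eq_mul_inv_iff_mul_eq, mul_assoc, e, inv_mul_cancel_left]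
      have := huniq _ (hFP q' hq'.2).1 _ (hFP q hq.2).1 (by
        rw [← e']
        exact hmul _ (hinv _ (mem_oddFix.1 hq'.1).1) _ (mem_oddFix.1 hq.1).1)
      subst this
      rw [mul_right_cancel e]
    rw [Nat.card_eq_fintype_card, Fintype.card_subtype, hset,
      Finset.card_image_of_injOn hinj, Finset.card_product, hF4, mul_comm]

open Classical in
/-- Involutions with product in a coset of the odd part. -/
theorem card_product_coset (hconjJ : ∀ a : G, a * a = 1 → a ≠ 1 → IsConj (σ ^ h) a) {u : G}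
    {k : ℕ} (hu : u ∈ Subgroup.zpowers σ) (hk : u ^ k = σ ^ h)
    (huJ : σ ^ h * u * (σ ^ h * u) = 1 → u = σ ^ h) :
    ∑ y ∈ oddPart σ h, ((classFinset (σ ^ h) ×ˢ classFinset (σ ^ h)).filter
        fun q => q.1 * q.2 = y * u).card =
      ∑ i ∈ Finset.range (2 * h),
        (invCoset σ h (σ ^ i * τ)).card * (invCoset σ h (σ ^ i * τ * u)).card := by
  obtain ⟨h1, hmul, hinv, hconj, hdec, huniq, -⟩ := D.oddPart_spec
  obtain ⟨hJ2, hJ1, hJc⟩ := D.central_involution
  have hK : ∀ a : G, a ∈ classFinset (σ ^ h) ↔ a * a = 1 ∧ a ≠ 1 := by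
    intro a
    rw [mem_classFinset]
    refine ⟨fun hc => ?_, fun ⟨a1, a2⟩ => hconjJ a a1 a2⟩
    obtain ⟨g, rfl⟩ := isConj_iff.1 hc
    exact ⟨by rw [show g * σ ^ h * g⁻¹ * (g * σ ^ h * g⁻¹) = g * (σ ^ h * σ ^ h) * g⁻¹ by group,
      hJ2, mul_one, mul_inv_cancel], fun e => hJ1 (conj_eq_one_iff.1 e)⟩
  have huJc : Commute u (σ ^ h) := hk ▸ Commute.self_pow u k
  obtain ⟨e₀, he₀⟩ := D.exists_order (D.zpowers_le hu)
  -- both factors lie in the centralizer
  have hloc : ∀ a b : G, a * a = 1 → b * b = 1 → a * b * u⁻¹ ∈ oddPart σ h →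
      Commute a (σ ^ h) := by
    intro a b ha hb hab
    obtain ⟨q, hq, hqe⟩ : ∃ q ∈ (oddPart σ h) ×ˢ (oddFix σ h u),
        q.1 * (u * q.2) * q.1⁻¹ * u⁻¹ = a * b * u⁻¹ := by
      have hcard := D.card_fibre hu hk hab
      obtain ⟨q, hq⟩ := Finset.card_pos.1 (hcard.symm ▸ Finset.card_pos.2
        ⟨1, mem_oddFix.2 ⟨h1, Commute.one_left _⟩⟩)
      exact ⟨q, (Finset.mem_filter.1 hq).1, (Finset.mem_filter.1 hq).2⟩
    obtain ⟨hq1, hq2⟩ := Finset.mem_product.1 hq
    obtain ⟨hq2, hq2u⟩ := mem_oddFix.1 hq2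
    have hp : pPt 2 (a * b) = q.1 * u * q.1⁻¹ := by
      rw [← mul_right_cancel hqe, pPt_conj, ← eq_pPt rfl hq2u.symm he₀ fun hd => by
        obtain ⟨c, hc⟩ := (mem_oddPart.1 hq2).2
        omega]
    have hai : a⁻¹ = a := inv_eq_of_mul_eq_one_right ha
    have e := pPt_conj (p := 2) (a * b) a
    rw [show a * (a * b) * a⁻¹ = (a * b)⁻¹ by
      rw [← mul_assoc, ha, one_mul, mul_inv_rev, inv_eq_of_mul_eq_one_right hb], pPt_inv, hp] at e
    have e' := congrArg (· ^ k) e
    simp only [inv_pow, conj_pow, hk] at e'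
    have hq1J : q.1 * σ ^ h * q.1⁻¹ = σ ^ h := by
      rw [(mem_oddPart.1 hq1).1.eq, mul_inv_cancel_right]
    rw [hq1J, inv_eq_of_mul_eq_one_right hJ2] at e'
    exact mul_inv_eq_iff_eq_mul.1 e'.symm
  -- the pairs
  obtain ⟨S, hS⟩ : ∃ S : Finset (G × G), S = (classFinset (σ ^ h) ×ˢ classFinset (σ ^ h)).filter
      fun q => q.1 * q.2 * u⁻¹ ∈ oddPart σ h := ⟨_, rfl⟩
  have hleft : ∑ y ∈ oddPart σ h, ((classFinset (σ ^ h) ×ˢ classFinset (σ ^ h)).filter
      fun q => q.1 * q.2 = y * u).card = S.card := by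
    rw [Finset.card_eq_sum_card_fiberwise (f := fun q : G × G => q.1 * q.2 * u⁻¹)
      (t := oddPart σ h) fun q hq => by
        rw [hS] at hq
        exact (Finset.mem_filter.1 hq).2]
    refine Finset.sum_congr rfl fun y hy => congrArg Finset.card ?_
    ext q
    simp only [hS, Finset.mem_filter, mul_inv_eq_iff_eq_mul]
    exact ⟨fun ⟨a, b⟩ => ⟨⟨a, by rw [b, mul_inv_cancel_right]; exact hy⟩, b⟩,
      fun ⟨⟨a, _⟩, b⟩ => ⟨a, b⟩⟩
  have hS' : S = (Finset.range (2 * h)).biUnion fun i =>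
      invCoset σ h (σ ^ i * τ) ×ˢ invCoset σ h (σ ^ i * τ * u) := by
    ext ⟨a, b⟩
    simp only [hS, Finset.mem_filter, Finset.mem_product, hK, Finset.mem_biUnion, Finset.mem_range,
      mem_invCoset]
    constructor
    · rintro ⟨⟨⟨ha, ha1⟩, hb, hb1⟩, hab⟩
      have haJ := hloc a b ha hb hab
      obtain ⟨x, hx, hax⟩ := hdec a haJ
      have hxJ : Commute x (σ ^ h) := hJc x hx
      have hai : a⁻¹ = a := inv_eq_of_mul_eq_one_right ha
      -- the second factor
      have hbu : b * (x⁻¹ * u)⁻¹ ∈ oddPart σ h := by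
        have hv := hmul _ (hinv _ hax) _ hab
        have e : x⁻¹ * ((a * x⁻¹)⁻¹ * (a * b * u⁻¹)) * x⁻¹⁻¹ = b * (x⁻¹ * u)⁻¹ := by group
        exact e ▸ hconj _ hxJ.inv_left _ hv
      have hxu : x⁻¹ * u ∈ (P : Subgroup G) := mul_mem (inv_mem hx) (D.zpowers_le hu)
      have hsq : ∀ (c y : G), c * c = 1 → y ∈ (P : Subgroup G) → c * y⁻¹ ∈ oddPart σ h →
          y * y = 1 := by
        intro c y hc hy hcy
        have e : y * (c * y⁻¹) * y⁻¹ * (c * y⁻¹) = y * c * (y * y)⁻¹ * c * y⁻¹ := by group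
        have hmem : y * y * 1⁻¹ ∈ oddPart σ h := by
          have e' : y * y * (1 : G)⁻¹ = ((c * y⁻¹) * (y * (c * y⁻¹) * y⁻¹))⁻¹ := by
            rw [show (c * y⁻¹) * (y * (c * y⁻¹) * y⁻¹) = c * c * (y * y)⁻¹ by group, hc, one_mul,
              inv_inv, inv_one, mul_one]
          rw [e']
          exact hinv _ (hmul _ hcy _ (hconj y (hJc y hy) _ hcy))
        exact huniq _ (mul_mem hy hy) 1 (one_mem _) hmem
      have hx2 : x * x = 1 := hsq a x ha hx hax
      have hxi : x⁻¹ = x := inv_eq_of_mul_eq_one_right hx2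
      have hxσ : x ∉ Subgroup.zpowers σ := by
        intro hxσ
        rcases D.eq_central_of_sq hxσ hx2 with rfl | rfl
        · rw [inv_one, mul_one] at hax
          obtain ⟨c, hc⟩ := (mem_oddPart.1 hax).2
          have h2 : orderOf a = 2 := orderOf_eq_prime (by rw [pow_two, ha]) ha1
          omega
        · have hb2 := hsq b _ hb hxu hbu
          rw [hxi] at hb2 hbu
          rw [huJ hb2, hJ2, inv_one, mul_one] at hbu
          obtain ⟨c, hc⟩ := (mem_oddPart.1 hbu).2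
          have h2 : orderOf b = 2 := orderOf_eq_prime (by rw [pow_two, hb]) hb1
          omega
      obtain ⟨i, hi, rfl⟩ := D.reflection_iff.1 ⟨hx, hxσ⟩
      rw [hxi] at hbu
      exact ⟨i, hi, ⟨ha, ha1, hax⟩, hb, hb1, hbu⟩
    · rintro ⟨i, hi, ⟨ha, ha1, hax⟩, hb, hb1, hbu⟩
      refine ⟨⟨⟨ha, ha1⟩, hb, hb1⟩, ?_⟩
      obtain ⟨x, hx⟩ : ∃ x, x = σ ^ i * τ := ⟨_, rfl⟩
      rw [← hx] at hax hbu
      have hxP : x ∈ (P : Subgroup G) ∧ x ∉ Subgroup.zpowers σ :=
        D.reflection_iff.2 ⟨i, hi, hx⟩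
      have hxi : x⁻¹ = x := inv_eq_of_mul_eq_one_right (D.sq_outside hxP.1 hxP.2)
      have e : a * x⁻¹ * (x * (b * (x * u)⁻¹) * x⁻¹) = a * b * u⁻¹ := by
        rw [mul_inv_rev, hxi]
        have hxx := D.sq_outside hxP.1 hxP.2
        calc a * x * (x * (b * (u⁻¹ * x)) * x) = a * (x * x) * b * u⁻¹ * (x * x) := by group
          _ = a * b * u⁻¹ := by rw [hxx, mul_one, mul_one]
      rw [← e]
      exact hmul _ hax _ (hconj x (hJc x hxP.1) _ hbu)
  rw [hleft, hS', Finset.card_biUnion]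
  · exact Finset.sum_congr rfl fun i _ => Finset.card_product _ _
  intro i hi j hj hij
  refine Finset.disjoint_left.2 fun q hq hq' => hij ?_
  have ha := (mem_invCoset.1 (Finset.mem_product.1 hq).1).2.2
  have ha' := (mem_invCoset.1 (Finset.mem_product.1 hq').1).2.2
  have hxi := (D.reflection_iff.2 ⟨i, Finset.mem_range.1 hi, rfl⟩).1
  have hxj := (D.reflection_iff.2 ⟨j, Finset.mem_range.1 hj, rfl⟩).1
  have e := huniq _ hxi _ hxj (by
    have := hmul _ (hinv _ ha) _ ha'
    rwa [show (q.1 * (σ ^ i * τ)⁻¹)⁻¹ * (q.1 * (σ ^ j * τ)⁻¹) =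
      σ ^ i * τ * (σ ^ j * τ)⁻¹ by group] at this)
  exact pow_injOn_Iio_orderOf (Set.mem_Iio.2 (by rw [D.orderσ]; exact Finset.mem_range.1 hi))
    (Set.mem_Iio.2 (by rw [D.orderσ]; exact Finset.mem_range.1 hj)) (mul_right_cancel e)

end DihSylow

end Cfsg.Lib.Block
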