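import Cfsg.Agent.Lib.Block.LocalRing
import Cfsg.Agent.Lib.Char.Central

/-!
# Blocks: basic facts

Reduction `res`, central characters as elements of the local ring, the block equivalence
relation, and the description of the centre of the group algebra by vectors indexed by the
irreducible characters (`zc`, `VInt`).
-/

set_option autoImplicit false
set_option linter.unusedSectionVars false

namespace Cfsg.Lib.Block

open Cfsg
open scoped ComplexConjugate

universe u

variable {p : ℕ} {M : Ideal AlgInt}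

/-! ## Total reduction map -/

open Classical in
/-- Reduction modulo the local ideal, extended by zero outside the local ring. -/
noncomputable def res (hM : IsPModular p M) (z : ℂ) : resField hM :=
  if h : z ∈ locRing hM then resMap hM ⟨z, h⟩ else 0

variable (hM : IsPModular p M)

theorem res_of_mem {z : ℂ} (h : z ∈ locRing hM) : res hM z = resMap hM ⟨z, h⟩ := dif_pos h

theorem res_coe (z : locRing hM) : res hM (z : ℂ) = resMap hM z := res_of_mem hM z.2

theorem res_add {x y : ℂ} (hx : x ∈ locRing hM) (hy : y ∈ locRing hM) :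
    res hM (x + y) = res hM x + res hM y := by
  rw [res_of_mem hM hx, res_of_mem hM hy, res_of_mem hM (add_mem hx hy), ← map_add]; rfl

theorem res_sub {x y : ℂ} (hx : x ∈ locRing hM) (hy : y ∈ locRing hM) :
    res hM (x - y) = res hM x - res hM y := by
  rw [res_of_mem hM hx, res_of_mem hM hy, res_of_mem hM (sub_mem hx hy), ← map_sub]; rfl

theorem res_neg {x : ℂ} (hx : x ∈ locRing hM) : res hM (-x) = -res hM x := by
  rw [res_of_mem hM hx, res_of_mem hM (neg_mem hx), ← map_neg]; rfl

theorem res_mul {x y : ℂ} (hx : x ∈ locRing hM) (hy : y ∈ locRing hM) :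
    res hM (x * y) = res hM x * res hM y := by
  rw [res_of_mem hM hx, res_of_mem hM hy, res_of_mem hM (mul_mem hx hy), ← map_mul]; rfl

theorem res_pow {x : ℂ} (hx : x ∈ locRing hM) (n : ℕ) : res hM (x ^ n) = res hM x ^ n := by
  rw [res_of_mem hM hx, res_of_mem hM (pow_mem hx n), ← map_pow]; rfl

theorem res_zero : res hM 0 = 0 := by
  rw [res_of_mem hM (zero_mem _)]; exact map_zero (resMap hM)

theorem res_one : res hM 1 = 1 := by
  rw [res_of_mem hM (one_mem _)]; exact map_one (resMap hM)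

theorem res_natCast (n : ℕ) : res hM (n : ℂ) = (n : resField hM) := by
  rw [res_of_mem hM (natCast_mem _ n)]; exact map_natCast (resMap hM) n

theorem res_intCast (n : ℤ) : res hM (n : ℂ) = (n : resField hM) := by
  rw [res_of_mem hM (intCast_mem _ n)]; exact map_intCast (resMap hM) n

theorem res_sum {ι : Type*} (s : Finset ι) (f : ι → ℂ) (hf : ∀ i ∈ s, f i ∈ locRing hM) :
    res hM (∑ i ∈ s, f i) = ∑ i ∈ s, res hM (f i) := by
  classical
  induction s using Finset.induction_on with
  | empty => simp [res_zero]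
  | insert a s ha ih =>
    rw [Finset.sum_insert ha, Finset.sum_insert ha,
      res_add hM (hf a (Finset.mem_insert_self _ _))
        (sum_mem fun i hi => hf i (Finset.mem_insert_of_mem hi)),
      ih fun i hi => hf i (Finset.mem_insert_of_mem hi)]

theorem res_prod {ι : Type*} (s : Finset ι) (f : ι → ℂ) (hf : ∀ i ∈ s, f i ∈ locRing hM) :
    res hM (∏ i ∈ s, f i) = ∏ i ∈ s, res hM (f i) := by
  classical
  induction s using Finset.induction_on with
  | empty => simp [res_one]
  | insert a s ha ih =>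
    rw [Finset.prod_insert ha, Finset.prod_insert ha,
      res_mul hM (hf a (Finset.mem_insert_self _ _))
        (prod_mem fun i hi => hf i (Finset.mem_insert_of_mem hi)),
      ih fun i hi => hf i (Finset.mem_insert_of_mem hi)]

theorem res_eq_zero_iff {x : ℂ} (hx : x ∈ locRing hM) : res hM x = 0 ↔ MemLocalIdeal M x := by
  rw [res_of_mem hM hx, resMap_eq_zero_iff]

theorem res_eq_iff {x y : ℂ} (hx : x ∈ locRing hM) (hy : y ∈ locRing hM) :
    res hM x = res hM y ↔ MemLocalIdeal M (x - y) := by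
  rw [← sub_eq_zero, ← res_sub hM hx hy, res_eq_zero_iff hM (sub_mem hx hy)]

include hM in
theorem memLocRing_of_memLocalIdeal {x : ℂ} (hx : MemLocalIdeal M x) : x ∈ locRing hM :=
  let ⟨a, b, _, hb, h⟩ := hx; ⟨a, b, hb, h⟩

theorem inv_mem_locRing_of_not_ideal {x : ℂ} (hx : x ∈ locRing hM) (h : ¬ MemLocalIdeal M x) :
    x⁻¹ ∈ locRing hM := by
  obtain ⟨a, b, hb, rfl⟩ := hx
  have ha : a ∉ M := fun ha => h ⟨a, b, ha, hb, rfl⟩
  exact ⟨b, a, ha, by rw [inv_div]⟩

theorem ne_zero_of_not_ideal {x : ℂ} (h : ¬ MemLocalIdeal M x) (hM : IsPModular p M) : x ≠ 0 :=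
  fun h0 => h (h0 ▸ memLocalIdeal_zero hM)

/-! ## Characters: values, degree, central characters -/

section Chars

variable {G : Type u} [Group G] [Finite G]

theorem charDegree_eq_of_apply_one {χ : G → ℂ} {n : ℕ} (h : χ 1 = n) : charDegree χ = n := by
  simp [charDegree, h]

theorem apply_one_eq_charDegree (χ : IrrCharacter G) :
    (χ : G → ℂ) 1 = (charDegree (χ : G → ℂ) : ℂ) := by
  obtain ⟨n, -, hn⟩ := χ.2.exists_degree
  rw [charDegree_eq_of_apply_one hn, hn]

theorem charDegree_pos (χ : IrrCharacter G) : 0 < charDegree (χ : G → ℂ) := by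
  obtain ⟨n, hpos, hn⟩ := χ.2.exists_degree
  rwa [charDegree_eq_of_apply_one hn]

theorem conj_apply_one (χ : IrrCharacter G) : conj ((χ : G → ℂ) 1) = (χ : G → ℂ) 1 := by
  rw [apply_one_eq_charDegree χ, Complex.conj_natCast]

theorem charDegree_dvd_card (χ : IrrCharacter G) : charDegree (χ : G → ℂ) ∣ Nat.card G := by
  haveI := Fintype.ofFinite G
  exact Char.degree_dvd_card χ.2 (apply_one_eq_charDegree χ)

theorem charVal_mem_locRing (χ : IrrCharacter G) (g : G) : (χ : G → ℂ) g ∈ locRing hM :=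
  isIntegral_mem_locRing hM (χ.2.isCharacter.isIntegral g)

theorem isIntegral_centralChar_irr (χ : IrrCharacter G) (g : G) :
    IsIntegral ℤ (centralChar (χ : G → ℂ) g) := by
  haveI := Fintype.ofFinite G
  have := χ.2.isIntegral_class g
  rwa [Char.card_classFinset] at this

theorem centralChar_mem_locRing (χ : IrrCharacter G) (g : G) :
    centralChar (χ : G → ℂ) g ∈ locRing hM :=
  isIntegral_mem_locRing hM (isIntegral_centralChar_irr χ g)

theorem centralChar_conj_invariant (χ : IrrCharacter G) (g x : G) :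
    centralChar (χ : G → ℂ) (x * g * x⁻¹) = centralChar (χ : G → ℂ) g := by
  haveI := Fintype.ofFinite G
  simp only [centralChar]
  rw [← Char.card_classFinset, ← Char.card_classFinset, χ.2.isClassFunction g x]
  congr 4
  ext y
  rw [Char.mem_classFinset, Char.mem_classFinset]
  have hc : IsConj g (x * g * x⁻¹) := isConj_iff.mpr ⟨x, rfl⟩
  exact ⟨fun h => hc.trans h, fun h => hc.symm.trans h⟩

theorem centralChar_eq_of_isConj (χ : IrrCharacter G) {g h : G} (hc : IsConj g h) :
    centralChar (χ : G → ℂ) h = centralChar (χ : G → ℂ) g := by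
  obtain ⟨x, rfl⟩ := isConj_iff.mp hc
  exact centralChar_conj_invariant χ g x

theorem centralChar_one_elt (χ : IrrCharacter G) : centralChar (χ : G → ℂ) 1 = 1 := by
  have h : Subgroup.centralizer ({(1 : G)} : Set G) = ⊤ := by
    ext x; simp [Subgroup.mem_centralizer_iff]
  simp [centralChar, h, χ.2.apply_one_ne_zero]

variable (G) in
/-- The principal character as an irreducible character. -/
def trivChar : IrrCharacter G := ⟨fun _ => 1, Char.isIrrCharacter_one⟩

theorem trivChar_coe : ((trivChar G : IrrCharacter G) : G → ℂ) = fun _ => 1 := rfl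

/-! ## The block relation -/

include hM in
theorem sameBlock_refl (χ : G → ℂ) : SameBlock M χ χ := fun g => by
  rw [sub_self]; exact memLocalIdeal_zero hM

include hM in
theorem sameBlock_symm {χ ψ : G → ℂ} (h : SameBlock M χ ψ) : SameBlock M ψ χ := fun g => by
  rw [← neg_sub]; exact memLocalIdeal_neg hM (h g)

include hM in
theorem sameBlock_trans {χ ψ η : G → ℂ} (h : SameBlock M χ ψ) (h' : SameBlock M ψ η) :
    SameBlock M χ η := fun g => by
  have := memLocalIdeal_add hM (h g) (h' g)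
  rwa [sub_add_sub_cancel] at this

theorem mem_blockOf {χ : G → ℂ} {ψ : IrrCharacter G} :
    ψ ∈ blockOf M χ ↔ SameBlock M χ (ψ : G → ℂ) := Iff.rfl

include hM in
theorem self_mem_blockOf (χ : IrrCharacter G) : χ ∈ blockOf M (χ : G → ℂ) := sameBlock_refl hM _

include hM in
theorem blockOf_eq_of_sameBlock {χ ψ : G → ℂ} (h : SameBlock M χ ψ) :
    blockOf M χ = blockOf M ψ :=
  Set.ext fun _ => ⟨fun h' => sameBlock_trans hM (sameBlock_symm hM h) h',
    fun h' => sameBlock_trans hM h h'⟩

include hM in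
theorem eq_blockOf_of_mem {B : Set (IrrCharacter G)} (hB : IsPBlock M B) {χ : IrrCharacter G}
    (hχ : χ ∈ B) : B = blockOf M (χ : G → ℂ) := by
  obtain ⟨χ₀, rfl⟩ := hB
  exact blockOf_eq_of_sameBlock hM hχ

include hM in
theorem sameBlock_of_mem {B : Set (IrrCharacter G)} (hB : IsPBlock M B) {χ ψ : IrrCharacter G}
    (hχ : χ ∈ B) (hψ : ψ ∈ B) : SameBlock M (χ : G → ℂ) (ψ : G → ℂ) := by
  rw [eq_blockOf_of_mem hM hB hχ] at hψ
  exact hψ

include hM in
theorem mem_of_sameBlock {B : Set (IrrCharacter G)} (hB : IsPBlock M B) {χ ψ : IrrCharacter G}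
    (hχ : χ ∈ B) (h : SameBlock M (χ : G → ℂ) (ψ : G → ℂ)) : ψ ∈ B := by
  rw [eq_blockOf_of_mem hM hB hχ]; exact h

include hM in
theorem nonempty_of_isPBlock {B : Set (IrrCharacter G)} (hB : IsPBlock M B) : B.Nonempty := by
  obtain ⟨χ, rfl⟩ := hB
  exact ⟨χ, self_mem_blockOf hM χ⟩

include hM in
theorem isPBlock_eq_of_mem {B B' : Set (IrrCharacter G)} (hB : IsPBlock M B) (hB' : IsPBlock M B')
    {χ : IrrCharacter G} (h : χ ∈ B) (h' : χ ∈ B') : B = B' := by
  rw [eq_blockOf_of_mem hM hB h, eq_blockOf_of_mem hM hB' h']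

theorem isPBlock_blockOf (χ : IrrCharacter G) : IsPBlock M (blockOf M (χ : G → ℂ)) := ⟨χ, rfl⟩

theorem isPBlock_principal : IsPBlock M (principalBlock M G) := ⟨trivChar G, rfl⟩

include hM in
theorem trivChar_mem_principal : trivChar G ∈ principalBlock M G := by
  show SameBlock M (fun _ : G => (1 : ℂ)) (fun _ : G => (1 : ℂ))
  exact sameBlock_refl hM _

end Chars

/-! ## The centre as vectors indexed by characters -/

section Centre

variable {G : Type u} [Group G] [Fintype G]

/-- Schur orthogonality with a shift. -/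
theorem sum_inv_mul_shift (χ ψ : IrrCharacter G) (g : G) :
    ∑ x, (χ : G → ℂ) x⁻¹ * (ψ : G → ℂ) (x * g) =
      open Classical in if χ = ψ then (Nat.card G : ℂ) * (ψ : G → ℂ) g / (ψ : G → ℂ) 1 else 0 := by
  classical
  obtain ⟨n, ρ, hρ, hρψ⟩ := ψ.2
  have hf : IsClassFunction G fun x => (χ : G → ℂ) x⁻¹ := fun x k => by
    show (χ : G → ℂ) (k * x * k⁻¹)⁻¹ = (χ : G → ℂ) x⁻¹
    rw [← χ.2.isClassFunction x⁻¹ k]; congr 1; group
  have key := Char.averageOp_irreducible ρ hf
  have h1 : ∑ x, (χ : G → ℂ) x⁻¹ * ρ.character x =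
      if χ = ψ then (Nat.card G : ℂ) else 0 := by
    have e : classInner (ψ : G → ℂ) (χ : G → ℂ) =
        (Nat.card G : ℂ)⁻¹ * ∑ x, (χ : G → ℂ) x⁻¹ * ρ.character x := by
      rw [classInner, hρψ]
      congr 1
      exact Finset.sum_congr rfl fun x _ => by rw [χ.2.isCharacter.apply_inv, mul_comm]
    rw [Char.classInner_irr ψ.2 χ.2] at e
    have hG := Char.card_cast_ne_zero (G := G)
    by_cases h : χ = ψ
    · subst h
      rw [if_pos rfl] at e ⊢
      field_simp at e
      exact e.symm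
    · rw [if_neg (fun h' => h (Subtype.ext h'.symm))] at e
      rw [if_neg h]
      simpa [hG] using e.symm
  have h2 := congrArg (fun T : Module.End ℂ (Fin n → ℂ) =>
    LinearMap.trace ℂ (Fin n → ℂ) (T * ρ g)) key
  simp only [Char.averageOp, Finset.sum_mul, smul_mul_assoc, ← map_mul, map_sum, map_smul,
    smul_eq_mul, ← Module.End.one_eq_id, one_mul] at h2
  rw [h1] at h2
  have hn : (ψ : G → ℂ) 1 = (Module.finrank ℂ (Fin n → ℂ) : ℂ) := by
    rw [← hρψ]; exact ρ.char_one
  rw [← hρψ] at hn ⊢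
  rw [show (∑ x, (χ : G → ℂ) x⁻¹ * ρ.character (x * g)) = _ from h2, hn]
  show _ * ρ.character g = _
  split_ifs
  · ring
  · simp

/-- The coefficient at `g` of the central element with eigen value vector `v`. -/
noncomputable def zc (v : IrrCharacter G → ℂ) (g : G) : ℂ :=
  (Nat.card G : ℂ)⁻¹ * ∑ χ, v χ * (χ : G → ℂ) 1 * (χ : G → ℂ) g⁻¹

theorem zc_conj_invariant (v : IrrCharacter G → ℂ) (g x : G) : zc v (x * g * x⁻¹) = zc v g := by
  simp only [zc]
  congr 1
  refine Finset.sum_congr rfl fun χ _ => ?_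
  rw [show (x * g * x⁻¹)⁻¹ = x * g⁻¹ * x⁻¹ by group, χ.2.isClassFunction]

theorem zc_eq_of_isConj (v : IrrCharacter G → ℂ) {g h : G} (hc : IsConj g h) : zc v h = zc v g := by
  obtain ⟨x, rfl⟩ := isConj_iff.mp hc
  exact zc_conj_invariant v g x

theorem zc_add (v w : IrrCharacter G → ℂ) (g : G) : zc (v + w) g = zc v g + zc w g := by
  simp only [zc, Pi.add_apply, add_mul, Finset.sum_add_distrib, mul_add]

theorem zc_smul (c : ℂ) (v : IrrCharacter G → ℂ) (g : G) : zc (c • v) g = c * zc v g := by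
  simp only [zc, Pi.smul_apply, smul_eq_mul, Finset.mul_sum]
  exact Finset.sum_congr rfl fun χ _ => by ring

theorem zc_zero (g : G) : zc (0 : IrrCharacter G → ℂ) g = 0 := by simp [zc]

theorem zc_neg (v : IrrCharacter G → ℂ) (g : G) : zc (-v) g = -zc v g := by
  simp [zc]

theorem zc_sub (v w : IrrCharacter G → ℂ) (g : G) : zc (v - w) g = zc v g - zc w g := by
  rw [sub_eq_add_neg, zc_add, zc_neg, ← sub_eq_add_neg]

theorem zc_sum {ι : Type*} (s : Finset ι) (v : ι → IrrCharacter G → ℂ) (g : G) :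
    zc (∑ i ∈ s, v i) g = ∑ i ∈ s, zc (v i) g := by
  simp only [zc, Finset.sum_apply, Finset.sum_mul]
  rw [Finset.sum_comm, Finset.mul_sum]

theorem zc_one (g : G) [Decidable (g = 1)] :
    zc (1 : IrrCharacter G → ℂ) g = if g = 1 then 1 else 0 := by
  classical
  simp only [zc, Pi.one_apply, one_mul]
  rw [Char.sum_degree_mul]
  by_cases h : g = 1
  · rw [if_pos h, if_pos (inv_eq_one.mpr h), inv_mul_cancel₀ Char.card_cast_ne_zero]
  · rw [if_neg h, if_neg (fun hh => h (inv_eq_one.mp hh)), mul_zero]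

/-- The product of central elements is the convolution of the coefficients. -/
theorem zc_mul (v w : IrrCharacter G → ℂ) (g : G) :
    zc (v * w) g = ∑ x, zc v x * zc w (x⁻¹ * g) := by
  classical
  have hG := Char.card_cast_ne_zero (G := G)
  simp only [zc, Pi.mul_apply]
  calc (Nat.card G : ℂ)⁻¹ * ∑ χ, v χ * w χ * (χ : G → ℂ) 1 * (χ : G → ℂ) g⁻¹
      = (Nat.card G : ℂ)⁻¹ * (Nat.card G : ℂ)⁻¹ * ∑ χ : IrrCharacter G, ∑ ψ : IrrCharacter G,
          v χ * (χ : G → ℂ) 1 * (w ψ * (ψ : G → ℂ) 1) *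
            ∑ x, (χ : G → ℂ) x⁻¹ * (ψ : G → ℂ) (x * g⁻¹) := by
        rw [Finset.mul_sum, Finset.mul_sum]
        refine Finset.sum_congr rfl fun χ _ => ?_
        rw [Finset.sum_eq_single χ]
        · rw [sum_inv_mul_shift, if_pos rfl]
          field_simp [χ.2.apply_one_ne_zero, hG]
        · intro ψ _ hne
          rw [sum_inv_mul_shift, if_neg (Ne.symm hne), mul_zero]
        · simp
    _ = ∑ x, (Nat.card G : ℂ)⁻¹ * (Nat.card G : ℂ)⁻¹ * ∑ χ : IrrCharacter G, ∑ ψ : IrrCharacter G,
          v χ * (χ : G → ℂ) 1 * (χ : G → ℂ) x⁻¹ *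
            (w ψ * (ψ : G → ℂ) 1 * (ψ : G → ℂ) (x⁻¹ * g)⁻¹) := by
        rw [← Finset.mul_sum]
        congr 1
        conv_rhs => rw [Finset.sum_comm]
        refine Finset.sum_congr rfl fun χ _ => ?_
        conv_rhs => rw [Finset.sum_comm]
        refine Finset.sum_congr rfl fun ψ _ => ?_
        rw [Finset.mul_sum]
        refine Finset.sum_congr rfl fun x _ => ?_
        rw [show (ψ : G → ℂ) (x⁻¹ * g)⁻¹ = (ψ : G → ℂ) (x * g⁻¹) by
          rw [mul_inv_rev, inv_inv, ← ψ.2.isClassFunction (x * g⁻¹) (g⁻¹)]; congr 1; group]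
        ring
    _ = _ := by
        refine Finset.sum_congr rfl fun x _ => ?_
        rw [Finset.mul_sum, Finset.mul_sum, Finset.sum_mul]
        refine Finset.sum_congr rfl fun χ _ => ?_
        rw [Finset.mul_sum, Finset.mul_sum, Finset.mul_sum]
        exact Finset.sum_congr rfl fun ψ _ => by ring

/-- Fourier inversion: `v χ` is the central character of the element with coefficients `zc v`. -/
theorem sum_zc_mul (v : IrrCharacter G → ℂ) (χ : IrrCharacter G) :
    (∑ g, zc v g * (χ : G → ℂ) g) / (χ : G → ℂ) 1 = v χ := by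
  classical
  have hG := Char.card_cast_ne_zero (G := G)
  have hc : ∀ ψ : IrrCharacter G, ∑ g, (ψ : G → ℂ) g⁻¹ * (χ : G → ℂ) g =
      if ψ = χ then (Nat.card G : ℂ) else 0 := fun ψ => by
    have := sum_inv_mul_shift ψ χ 1
    simp only [mul_one] at this
    rw [this]
    split_ifs
    · rw [mul_div_assoc, div_self χ.2.apply_one_ne_zero, mul_one]
    · rfl
  rw [div_eq_iff χ.2.apply_one_ne_zero]
  simp only [zc, Finset.mul_sum, Finset.sum_mul]
  rw [Finset.sum_comm, Finset.sum_eq_single χ]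
  · rw [show ∑ g, (Nat.card G : ℂ)⁻¹ * (v χ * (χ : G → ℂ) 1 * (χ : G → ℂ) g⁻¹) * (χ : G → ℂ) g
        = (Nat.card G : ℂ)⁻¹ * (v χ * (χ : G → ℂ) 1) * ∑ g, (χ : G → ℂ) g⁻¹ * (χ : G → ℂ) g by
      rw [Finset.mul_sum]; exact Finset.sum_congr rfl fun g _ => by ring]
    rw [hc, if_pos rfl]
    field_simp
  · intro ψ _ hne
    rw [show ∑ g, (Nat.card G : ℂ)⁻¹ * (v ψ * (ψ : G → ℂ) 1 * (ψ : G → ℂ) g⁻¹) * (χ : G → ℂ) g
        = (Nat.card G : ℂ)⁻¹ * (v ψ * (ψ : G → ℂ) 1) * ∑ g, (ψ : G → ℂ) g⁻¹ * (χ : G → ℂ) g by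
      rw [Finset.mul_sum]; exact Finset.sum_congr rfl fun g _ => by ring]
    rw [hc, if_neg hne, mul_zero]
  · simp

/-- The vector of the central element with coefficients `f`. -/
noncomputable def vec (f : G → ℂ) (χ : IrrCharacter G) : ℂ :=
  (∑ g, f g * (χ : G → ℂ) g) / (χ : G → ℂ) 1

theorem vec_zc (v : IrrCharacter G → ℂ) : vec (zc v) = v := funext (sum_zc_mul v)

theorem zc_vec {f : G → ℂ} (hf : IsClassFunction G f) (g : G) : zc (vec f) g = f g := by
  classical
  have hf' : IsClassFunction G fun x => f x⁻¹ := fun x k => by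
    show f (k * x * k⁻¹)⁻¹ = f x⁻¹
    rw [← hf x⁻¹ k]; congr 1; group
  have h := congrFun (Char.eq_sum_classInner hf') g⁻¹
  simp only [inv_inv, Finset.sum_apply, Pi.smul_apply, smul_eq_mul] at h
  rw [h, zc, Finset.mul_sum]
  refine Finset.sum_congr rfl fun χ _ => ?_
  have e : classInner (fun x => f x⁻¹) (χ : G → ℂ) =
      (Nat.card G : ℂ)⁻¹ * ∑ x, f x * (χ : G → ℂ) x := by
    rw [classInner]
    congr 1
    refine Fintype.sum_equiv (Equiv.inv G) _ _ fun x => ?_
    simp [χ.2.isCharacter.apply_inv]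
  rw [e, vec]
  field_simp [χ.2.apply_one_ne_zero]

theorem zc_injective {v w : IrrCharacter G → ℂ} (h : ∀ g, zc v g = zc w g) : v = w := by
  rw [← vec_zc v, ← vec_zc w, funext h]

open Classical in
/-- The vector of a class sum. -/
theorem zc_centralChar (g x : G) :
    zc (fun χ : IrrCharacter G => centralChar (χ : G → ℂ) g) x = if IsConj g x then 1 else 0 := by
  have hG := Char.card_cast_ne_zero (G := G)
  have e : zc (fun χ : IrrCharacter G => centralChar (χ : G → ℂ) g) x =
      (Nat.card G : ℂ)⁻¹ * ((Subgroup.centralizer ({g} : Set G)).index : ℂ) *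
        ∑ χ : IrrCharacter G, (χ : G → ℂ) g * conj ((χ : G → ℂ) x) := by
    simp only [zc, centralChar, Finset.mul_sum]
    refine Finset.sum_congr rfl fun χ _ => ?_
    rw [χ.2.isCharacter.apply_inv]
    field_simp [χ.2.apply_one_ne_zero]
  rw [e, Char.column_orthogonality]
  split_ifs
  · rw [mul_assoc, ← Nat.cast_mul, Subgroup.index_mul_card, inv_mul_cancel₀ hG]
  · rw [mul_zero]

open Classical in
theorem blockCoeff_eq_zc (B : Set (IrrCharacter G)) (g : G) :
    blockCoeff B g = zc (fun χ => if χ ∈ B then 1 else 0) g := by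
  rw [blockCoeff, zc, finsum_mem_eq_finite_toFinset_sum _ (Set.toFinite B)]
  congr 1
  rw [← Finset.sum_filter_add_sum_filter_not Finset.univ (· ∈ B),
    Finset.sum_eq_zero (s := Finset.univ.filter fun χ => χ ∉ B) fun χ hχ => by
      rw [if_neg (Finset.mem_filter.mp hχ).2, zero_mul, zero_mul], add_zero]
  refine Finset.sum_congr (by ext χ; simp) fun χ hχ => ?_
  rw [if_pos (by simpa using hχ), one_mul, χ.2.isCharacter.apply_inv]

theorem blockCoeff_conj_invariant (B : Set (IrrCharacter G)) (g x : G) :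
    blockCoeff B (x * g * x⁻¹) = blockCoeff B g := by
  rw [blockCoeff_eq_zc, blockCoeff_eq_zc, zc_conj_invariant]

/-! ### Integral central elements -/

/-- Central elements with coefficients in the local ring. -/
def VInt (hM : IsPModular p M) (v : IrrCharacter G → ℂ) : Prop := ∀ g, zc v g ∈ locRing hM

theorem vInt_add {v w : IrrCharacter G → ℂ} (hv : VInt hM v) (hw : VInt hM w) :
    VInt hM (v + w) := fun g => by rw [zc_add]; exact add_mem (hv g) (hw g)

theorem vInt_neg {v : IrrCharacter G → ℂ} (hv : VInt hM v) : VInt hM (-v) := fun g => by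
  rw [zc_neg]; exact neg_mem (hv g)

theorem vInt_sub {v w : IrrCharacter G → ℂ} (hv : VInt hM v) (hw : VInt hM w) :
    VInt hM (v - w) := fun g => by rw [zc_sub]; exact sub_mem (hv g) (hw g)

theorem vInt_zero : VInt hM (0 : IrrCharacter G → ℂ) := fun g => by
  rw [zc_zero]; exact zero_mem _

theorem vInt_smul {c : ℂ} (hc : c ∈ locRing hM) {v : IrrCharacter G → ℂ} (hv : VInt hM v) :
    VInt hM (c • v) := fun g => by rw [zc_smul]; exact mul_mem hc (hv g)

theorem vInt_one : VInt hM (1 : IrrCharacter G → ℂ) := fun g => by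
  classical
  rw [zc_one]
  split_ifs
  · exact one_mem _
  · exact zero_mem _

theorem vInt_mul {v w : IrrCharacter G → ℂ} (hv : VInt hM v) (hw : VInt hM w) :
    VInt hM (v * w) := fun g => by
  rw [zc_mul]; exact sum_mem fun x _ => mul_mem (hv x) (hw _)

theorem vInt_sum {ι : Type*} (s : Finset ι) (v : ι → IrrCharacter G → ℂ)
    (hv : ∀ i ∈ s, VInt hM (v i)) : VInt hM (∑ i ∈ s, v i) := fun g => by
  rw [zc_sum]; exact sum_mem fun i hi => hv i hi g

theorem vInt_prod {ι : Type*} (s : Finset ι) (v : ι → IrrCharacter G → ℂ)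
    (hv : ∀ i ∈ s, VInt hM (v i)) : VInt hM (∏ i ∈ s, v i) :=
  Finset.prod_induction _ _ (fun _ _ => vInt_mul hM) (vInt_one hM) hv

theorem vInt_pow {v : IrrCharacter G → ℂ} (hv : VInt hM v) (n : ℕ) : VInt hM (v ^ n) := by
  induction n with
  | zero => rw [pow_zero]; exact vInt_one hM
  | succ n ih => rw [pow_succ]; exact vInt_mul hM ih hv

theorem vInt_centralChar (g : G) :
    VInt hM (fun χ : IrrCharacter G => centralChar (χ : G → ℂ) g) := fun x => by
  classical
  rw [zc_centralChar]
  split_ifs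
  · exact one_mem _
  · exact zero_mem _

/-- Sum of a class function against a character, by classes. -/
theorem sum_mul_char_eq [Fintype (ConjClasses G)] {f : G → ℂ} (hf : IsClassFunction G f)
    (χ : IrrCharacter G) :
    vec f χ =
      ∑ C : ConjClasses G, f C.out * centralChar (χ : G → ℂ) C.out := by
  classical
  rw [vec, ← Finset.sum_fiberwise Finset.univ ConjClasses.mk, Finset.sum_div]
  refine Finset.sum_congr rfl fun C _ => ?_
  have hC : ConjClasses.mk C.out = C := Quotient.out_eq C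
  have hset : (Finset.univ.filter fun x => ConjClasses.mk x = C) = Char.classFinset C.out := by
    ext x
    rw [Finset.mem_filter, Char.mem_classFinset]
    conv_lhs => rw [← hC, ConjClasses.mk_eq_mk_iff_isConj]
    exact ⟨fun h => h.2.symm, fun h => ⟨Finset.mem_univ _, h.symm⟩⟩
  rw [hset, Char.sum_classFinset (f := fun x => f x * (χ : G → ℂ) x)
    (fun x k => by simp only [hf x k, χ.2.isClassFunction x k]), Char.card_classFinset, centralChar]
  ring

theorem apply_mem_locRing {v : IrrCharacter G → ℂ} (hv : VInt hM v) (χ : IrrCharacter G) :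
    v χ ∈ locRing hM := by
  classical
  haveI : Finite (ConjClasses G) := Quotient.finite _
  haveI := Fintype.ofFinite (ConjClasses G)
  rw [← congrFun (vec_zc v) χ, sum_mul_char_eq (fun g x => zc_conj_invariant v g x)]
  exact sum_mem fun C _ => mul_mem (hv _) (centralChar_mem_locRing hM χ _)

theorem apply_sub_apply_mem {v : IrrCharacter G → ℂ} (hv : VInt hM v) {χ ψ : IrrCharacter G}
    (h : SameBlock M (χ : G → ℂ) (ψ : G → ℂ)) : MemLocalIdeal M (v χ - v ψ) := by
  classical
  haveI : Finite (ConjClasses G) := Quotient.finite _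
  haveI := Fintype.ofFinite (ConjClasses G)
  rw [← congrFun (vec_zc v) χ, ← congrFun (vec_zc v) ψ,
    sum_mul_char_eq (fun g x => zc_conj_invariant v g x),
    sum_mul_char_eq (fun g x => zc_conj_invariant v g x), ← Finset.sum_sub_distrib]
  refine memLocalIdeal_sum hM _ _ fun C _ => ?_
  rw [← mul_sub]
  exact memLocalIdeal_mul_left hM (hv _) (h _)

theorem res_apply_eq {v : IrrCharacter G → ℂ} (hv : VInt hM v) {χ ψ : IrrCharacter G}
    (h : SameBlock M (χ : G → ℂ) (ψ : G → ℂ)) : res hM (v χ) = res hM (v ψ) :=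
  (res_eq_iff hM (apply_mem_locRing hM hv χ) (apply_mem_locRing hM hv ψ)).2
    (apply_sub_apply_mem hM hv h)

open Classical in
/-- The indicator vector of a set of characters. -/
noncomputable def indVec (B : Set (IrrCharacter G)) : IrrCharacter G → ℂ :=
  fun χ => if χ ∈ B then 1 else 0

theorem zc_indVec (B : Set (IrrCharacter G)) (g : G) : zc (indVec B) g = blockCoeff B g := by
  classical
  rw [blockCoeff_eq_zc]; rfl

include hM in
/-- Block idempotents are integral. -/
theorem vInt_indVec {B : Set (IrrCharacter G)} (hB : IsPBlock M B) : VInt hM (indVec B) := by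
  classical
  obtain ⟨χ₀, rfl⟩ := hB
  set B := blockOf M (χ₀ : G → ℂ)
  have hsep : ∀ ψ : {ψ : IrrCharacter G // ψ ∉ B}, ∃ g : G,
      ¬ MemLocalIdeal M (centralChar (χ₀ : G → ℂ) g - centralChar (ψ.1 : G → ℂ) g) :=
    fun ψ => not_forall.mp ψ.2
  choose gs hgs using hsep
  set u : IrrCharacter G → ℂ := ∏ ψ : {ψ : IrrCharacter G // ψ ∉ B},
    ((fun χ : IrrCharacter G => centralChar (χ : G → ℂ) (gs ψ)) -
      centralChar (ψ.1 : G → ℂ) (gs ψ) • 1) with hu
  have huInt : VInt hM u := vInt_prod hM _ _ fun ψ _ =>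
    vInt_sub hM (vInt_centralChar hM _)
      (vInt_smul hM (centralChar_mem_locRing hM _ _) (vInt_one hM))
  have hu0 : ∀ χ, χ ∉ B → u χ = 0 := fun χ hχ => by
    rw [hu, Finset.prod_apply]
    exact Finset.prod_eq_zero (Finset.mem_univ ⟨χ, hχ⟩) (by simp)
  have hu1 : ∀ χ ∈ B, ¬ MemLocalIdeal M (u χ) := fun χ hχ h => by
    have h0 : res hM (u χ) = 0 := (res_eq_zero_iff hM (apply_mem_locRing hM huInt χ)).2 h
    rw [← res_apply_eq hM huInt hχ, hu, Finset.prod_apply, res_prod hM _ _ fun ψ _ => by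
      simpa using sub_mem (centralChar_mem_locRing hM χ₀ _) (centralChar_mem_locRing hM ψ.1 _),
      Finset.prod_eq_zero_iff] at h0
    obtain ⟨ψ, -, hψ⟩ := h0
    simp only [Pi.sub_apply, Pi.smul_apply, Pi.one_apply, smul_eq_mul, mul_one] at hψ
    exact hgs ψ ((res_eq_zero_iff hM
      (sub_mem (centralChar_mem_locRing hM χ₀ _) (centralChar_mem_locRing hM ψ.1 _))).1 hψ)
  have hkey : indVec B = 1 - ∏ χ ∈ Finset.univ.filter (· ∈ B), (1 - (u χ)⁻¹ • u) := by
    funext ψ
    simp only [indVec, Pi.sub_apply, Pi.one_apply, Finset.prod_apply, Pi.smul_apply, smul_eq_mul]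
    by_cases hψ : ψ ∈ B
    · rw [if_pos hψ, Finset.prod_eq_zero (i := ψ) (by simp [hψ]), sub_zero]
      rw [inv_mul_cancel₀ (ne_zero_of_not_ideal (hu1 ψ hψ) hM), sub_self]
    · simp [hψ, hu0 ψ hψ]
  rw [hkey]
  refine vInt_sub hM (vInt_one hM) (vInt_prod hM _ _ fun χ hχ => vInt_sub hM (vInt_one hM) ?_)
  rw [Finset.mem_filter] at hχ
  exact vInt_smul hM
    (inv_mem_locRing_of_not_ideal hM (apply_mem_locRing hM huInt χ) (hu1 χ hχ.2)) huInt

include hM in
theorem blockCoeff_mem_locRing {B : Set (IrrCharacter G)} (hB : IsPBlock M B) (g : G) :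
    blockCoeff B g ∈ locRing hM := by
  rw [← zc_indVec]; exact vInt_indVec hM hB g

include hM in
/-- A set with integral idempotent is a union of blocks. -/
theorem blockOf_subset_of_vInt {A : Set (IrrCharacter G)} (hA : VInt hM (indVec A))
    {χ : IrrCharacter G} (hχ : χ ∈ A) : blockOf M (χ : G → ℂ) ⊆ A := by
  classical
  intro ψ hψ
  by_contra hn
  have := apply_sub_apply_mem hM hA hψ
  simp only [indVec, if_pos hχ, if_neg hn, sub_zero] at this
  exact not_mem_one hM ((memLocalIdeal_algInt_iff hM 1).1 (by simpa using this))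

end Centre

end Cfsg.Lib.Block
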