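import Cfsg.Agent.Lib.Block.PermTrace
import Cfsg.Agent.Lib.Block.Basic
import Cfsg.Agent.Lib.Block.PPart
import Cfsg.Agent.Lib.Char.Formulas

/-!
# Vanishing of twisted traces and weak block orthogonality

The trace of a permutation `σ τ` times an integral idempotent is zero when the fixed block of the
`p`-part `σ` vanishes modulo `M`; applied to translations on a group this gives the orthogonality
of columns inside a block.
-/

set_option autoImplicit false
set_option linter.unusedSectionVars false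

namespace Cfsg.Lib.Block

open Cfsg
open scoped ComplexConjugate

universe u

variable {p : ℕ} {M : Ideal AlgInt}

theorem sum_range_periodic_shift {α : Type*} [AddCommMonoid α] (F : ℕ → α) {m : ℕ}
    (h : ∀ j, F (j + m) = F j) (i : ℕ) :
    ∑ j ∈ Finset.range m, F (i + j) = ∑ j ∈ Finset.range m, F j := by
  induction i with
  | zero => simp
  | succ i ih =>
    rw [← ih]
    rcases Nat.eq_zero_or_pos m with rfl | hm
    · simp
    obtain ⟨n, rfl⟩ : ∃ n, m = n + 1 := ⟨m - 1, by omega⟩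
    rw [Finset.sum_range_succ, Finset.sum_range_succ' (fun j => F (i + j)),
      show i + 1 + n = i + (n + 1) by ring, h, Nat.add_zero]
    congr 1
    exact Finset.sum_congr rfl fun j _ => by rw [show i + 1 + j = i + (j + 1) by ring]

/-- Twisted version of `trace_perm_idem_eq_zero`. -/
theorem trace_twist_eq_zero (hM : IsPModular p M) {X : Type u} [Fintype X] [DecidableEq X]
    (σ τ : Equiv.Perm X) {k m : ℕ} (hσ : σ ^ (p ^ k) = 1) (hτ : τ ^ m = 1) (hm : ¬ p ∣ m)
    (hc : Commute σ τ) (E : Matrix X X ℂ) (hE : ∀ a b, E a b ∈ locRing hM) (hidem : E * E = E)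
    (hEσ : ∀ a b, E (σ a) (σ b) = E a b) (hEτ : ∀ a b, E (τ a) (τ b) = E a b)
    (hfix : ∀ x y, σ x = x → σ y = y → MemLocalIdeal M (E y x)) :
    ∑ x, E x ((σ * τ) x) = 0 := by
  classical
  have hm0 : 0 < m := Nat.pos_of_ne_zero fun h => hm (h ▸ dvd_zero p)
  have hmC : (m : ℂ) ≠ 0 := by exact_mod_cast hm0.ne'
  obtain ⟨ζ, hζ⟩ : ∃ ζ : ℂ, IsPrimitiveRoot ζ m := ⟨_, Complex.isPrimitiveRoot_exp m hm0.ne'⟩
  let F : ℕ → Matrix X X ℂ := fun j => Matrix.of fun x y => E x ((τ ^ j) y)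
  have hEτpow : ∀ (j : ℕ) a b, E ((τ ^ j) a) ((τ ^ j) b) = E a b := by
    intro j a b
    induction j with
    | zero => rfl
    | succ j ih => rw [pow_succ', Equiv.Perm.mul_apply, Equiv.Perm.mul_apply, hEτ, ih]
  have hFmul : ∀ i j, F i * F j = F (i + j) := by
    intro i j
    ext x z
    simp only [F, Matrix.mul_apply, Matrix.of_apply]
    rw [pow_add, Equiv.Perm.mul_apply]
    generalize (τ ^ j) z = t
    have h1 : ∀ y, E x ((τ ^ i) y) * E y t = E x ((τ ^ i) y) * E ((τ ^ i) y) ((τ ^ i) t) :=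
      fun y => by rw [hEτpow]
    rw [Finset.sum_congr rfl fun y _ => h1 y,
      Equiv.sum_comp (τ ^ i) fun y => E x y * E y ((τ ^ i) t)]
    have := congrFun (congrFun hidem x) ((τ ^ i) t)
    rwa [Matrix.mul_apply] at this
  have hFper : ∀ j, F (j + m) = F j := fun j => by
    simp only [F, pow_add, hτ, mul_one]
  let P : ℂ → Matrix X X ℂ := fun c => (m : ℂ)⁻¹ • ∑ j ∈ Finset.range m, c ^ j • F j
  have hPidem : ∀ c : ℂ, c ^ m = 1 → P c * P c = P c := by
    intro c hcm
    have hper : ∀ j, c ^ (j + m) • F (j + m) = c ^ j • F j := fun j => by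
      rw [hFper, pow_add, hcm, mul_one]
    have hsq : (∑ i ∈ Finset.range m, c ^ i • F i) * (∑ j ∈ Finset.range m, c ^ j • F j) =
        (m : ℂ) • ∑ j ∈ Finset.range m, c ^ j • F j := by
      rw [Finset.sum_mul_sum]
      have hi : ∀ i ∈ Finset.range m, (∑ j ∈ Finset.range m, c ^ i • F i * c ^ j • F j) =
          ∑ j ∈ Finset.range m, c ^ j • F j := fun i _ => by
        rw [← sum_range_periodic_shift (fun j => c ^ j • F j) hper i]
        exact Finset.sum_congr rfl fun j _ => by rw [smul_mul_smul_comm, hFmul, ← pow_add]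
      rw [Finset.sum_congr rfl hi, Finset.sum_const, Finset.card_range,
        ← Nat.cast_smul_eq_nsmul ℂ]
    simp only [P, smul_mul_assoc, mul_smul_comm, hsq, inv_smul_smul₀ hmC]
  have hPint : ∀ c : ℂ, c ^ m = 1 → ∀ a b, P c a b ∈ locRing hM := by
    intro c hcm a b
    simp only [P, Matrix.smul_apply, Matrix.sum_apply, smul_eq_mul, F, Matrix.of_apply]
    exact mul_mem (inv_natCast_mem_locRing hM hm) (sum_mem fun j _ =>
      mul_mem (pow_mem (root_of_unity_mem_locRing hM hm0 hcm) j) (hE _ _))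
  have hστ : ∀ (j : ℕ) x, σ ((τ ^ j) x) = (τ ^ j) (σ x) := fun j x => by
    rw [← Equiv.Perm.mul_apply, (hc.pow_right j).eq, Equiv.Perm.mul_apply]
  have hPσ : ∀ (c : ℂ) a b, P c (σ a) (σ b) = P c a b := by
    intro c a b
    simp only [P, Matrix.smul_apply, Matrix.sum_apply, smul_eq_mul, F, Matrix.of_apply]
    congr 1
    exact Finset.sum_congr rfl fun j _ => by rw [← hστ, hEσ]
  have hzero : ∀ c : ℂ, c ^ m = 1 → ∑ x, P c x (σ x) = 0 := fun c hcm => by
    refine trace_perm_idem_eq_zero hM σ hσ _ (hPint c hcm) (hPidem c hcm) (hPσ c)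
      fun x y hx hy => ?_
    simp only [P, Matrix.smul_apply, Matrix.sum_apply, smul_eq_mul, F, Matrix.of_apply]
    refine memLocalIdeal_mul_left hM (inv_natCast_mem_locRing hM hm)
      (memLocalIdeal_sum hM _ _ fun j _ => ?_)
    exact memLocalIdeal_mul_left hM (pow_mem (root_of_unity_mem_locRing hM hm0 hcm) j)
      (hfix _ _ (by rw [hστ, hx]) hy)
  have hroot : ∀ l : ℕ, (ζ ^ l) ^ m = 1 := fun l => by
    rw [← pow_mul, mul_comm, pow_mul, hζ.pow_eq_one, one_pow]
  have hsum : ∀ j, j < m → ∑ l ∈ Finset.range m, ((ζ ^ l) ^ (m - 1)) * (ζ ^ l) ^ j =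
      if j = 1 % m then (m : ℂ) else 0 := by
    intro j hj
    have e : ∀ l : ℕ, (ζ ^ l) ^ (m - 1) * (ζ ^ l) ^ j = (ζ ^ (m - 1 + j)) ^ l := fun l => by
      rw [← pow_add, ← pow_mul, ← pow_mul, mul_comm]
    simp only [e]
    have h1 : ζ ^ (m - 1 + j) = 1 ↔ j = 1 % m := by
      rw [hζ.pow_eq_one_iff_dvd]
      constructor
      · rintro ⟨q, hq⟩
        rcases Nat.lt_or_ge 1 m with h | h
        · rw [Nat.mod_eq_of_lt h]
          rcases Nat.lt_or_ge q 2 with hq2 | hq2
          · interval_cases q <;> omega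
          · have := Nat.mul_le_mul_left m hq2; omega
        · have : m = 1 := by omega
          subst this; omega
      · intro h
        rcases Nat.lt_or_ge 1 m with h' | h'
        · rw [Nat.mod_eq_of_lt h'] at h
          exact ⟨1, by omega⟩
        · have : m = 1 := by omega
          subst this; simp
    by_cases hj1 : j = 1 % m
    · rw [if_pos hj1, h1.2 hj1]; simp
    · rw [if_neg hj1]
      have := geom_sum_mul (ζ ^ (m - 1 + j)) m
      rw [hroot, sub_self, mul_eq_zero] at this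
      exact this.resolve_right (sub_ne_zero.2 fun h => hj1 (h1.1 h))
  have key : ∑ l ∈ Finset.range m, (ζ ^ l) ^ (m - 1) * ∑ x, P (ζ ^ l) x (σ x) =
      ∑ x, E x ((σ * τ) x) := by
    simp only [Finset.mul_sum]
    rw [Finset.sum_comm]
    refine Finset.sum_congr rfl fun x _ => ?_
    have e : E x ((σ * τ) x) = F (1 % m) x (σ x) := by
      simp only [F, Matrix.of_apply]
      rw [hc.eq, Equiv.Perm.mul_apply, ← pow_eq_pow_mod _ hτ, pow_one]
    rw [e]
    simp only [P, Matrix.smul_apply, Matrix.sum_apply, smul_eq_mul, Finset.mul_sum]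
    rw [Finset.sum_comm, Finset.sum_eq_single (1 % m)]
    · rw [show ∀ G : Matrix X X ℂ, (∑ l ∈ Finset.range m, (ζ ^ l) ^ (m - 1) *
          ((m : ℂ)⁻¹ * ((ζ ^ l) ^ (1 % m) * G x (σ x)))) =
          (m : ℂ)⁻¹ * (∑ l ∈ Finset.range m, (ζ ^ l) ^ (m - 1) * (ζ ^ l) ^ (1 % m)) * G x (σ x)
        from fun G => by
          rw [Finset.mul_sum, Finset.sum_mul]; exact Finset.sum_congr rfl fun l _ => by ring,
        hsum _ (Nat.mod_lt _ hm0), if_pos rfl, inv_mul_cancel₀ hmC, one_mul]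
    · intro j hj hne
      rw [show (∑ l ∈ Finset.range m, (ζ ^ l) ^ (m - 1) *
          ((m : ℂ)⁻¹ * ((ζ ^ l) ^ j * F j x (σ x)))) =
          (m : ℂ)⁻¹ * (∑ l ∈ Finset.range m, (ζ ^ l) ^ (m - 1) * (ζ ^ l) ^ j) * F j x (σ x) by
          rw [Finset.mul_sum, Finset.sum_mul]; exact Finset.sum_congr rfl fun l _ => by ring,
        hsum _ (Finset.mem_range.1 hj), if_neg hne, mul_zero, zero_mul]
    · intro h; exact absurd (Finset.mem_range.2 (Nat.mod_lt _ hm0)) h
  rw [← key]
  exact Finset.sum_eq_zero fun l _ => by rw [hzero _ (hroot l), mul_zero]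

variable {G : Type u} [Group G] [Fintype G]

/-- Group form of the vanishing of twisted traces. -/
theorem sum_shift_eq_zero (hM : IsPModular p M) [Fact p.Prime] (f : G → ℂ)
    (hint : ∀ x, f x ∈ locRing hM) (hidem : ∀ g, ∑ x, f x * f (x⁻¹ * g) = f g) (g w : G)
    (hinv : ∀ x, f (g * x * g⁻¹) = f x)
    (hfix : ∀ x y, pPt p g * x * pPt p w = x → pPt p g * y * pPt p w = y →
      MemLocalIdeal M (f (x * y⁻¹))) :
    ∑ x, f (x * w⁻¹ * x⁻¹ * g⁻¹) = 0 := by
  classical
  have hinvz : ∀ a ∈ Subgroup.zpowers g, ∀ x, f (a * x * a⁻¹) = f x := by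
    intro a ha
    obtain ⟨n, rfl⟩ := mem_powers_iff_mem_zpowers.2 ha
    clear ha
    induction n with
    | zero => simp
    | succ n ih =>
      intro x
      simp only at ih ⊢
      rw [← hinv x, ← ih (g * x * g⁻¹)]
      congr 1
      rw [pow_succ]; group
  set u₁ := pPt p g with hu₁
  set s₁ := pReg p g with hs₁
  set u₂ := pPt p w with hu₂
  set s₂ := pReg p w with hs₂
  let σ : Equiv.Perm G := (Equiv.mulLeft u₁).trans (Equiv.mulRight u₂)
  let τ : Equiv.Perm G := (Equiv.mulLeft s₁).trans (Equiv.mulRight s₂)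
  have hσ : ∀ (n : ℕ) x, (σ ^ n) x = u₁ ^ n * x * u₂ ^ n := by
    intro n
    induction n with
    | zero => simp
    | succ n ih => intro x; rw [pow_succ', Equiv.Perm.mul_apply, ih]; simp [σ, pow_succ', pow_succ u₂, mul_assoc]
  have hτ : ∀ (n : ℕ) x, (τ ^ n) x = s₁ ^ n * x * s₂ ^ n := by
    intro n
    induction n with
    | zero => simp
    | succ n ih => intro x; rw [pow_succ', Equiv.Perm.mul_apply, ih]; simp [τ, pow_succ', pow_succ s₂, mul_assoc]
  obtain ⟨k₁, hk₁⟩ := exists_pow_pPt (p := p) g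
  obtain ⟨k₂, hk₂⟩ := exists_pow_pPt (p := p) w
  rw [← hu₁] at hk₁
  rw [← hu₂] at hk₂
  have hσord : σ ^ p ^ (k₁ + k₂) = 1 := by
    ext x
    have e1 : u₁ ^ p ^ (k₁ + k₂) = 1 := by rw [pow_add, pow_mul, hk₁, one_pow]
    have e2 : u₂ ^ p ^ (k₁ + k₂) = 1 := by rw [add_comm, pow_add, pow_mul, hk₂, one_pow]
    simp [hσ, e1, e2]
  have hτord : τ ^ (orderOf s₁ * orderOf s₂) = 1 := by
    ext x
    have e1 : s₁ ^ (orderOf s₁ * orderOf s₂) = 1 := by rw [pow_mul, pow_orderOf_eq_one, one_pow]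
    have e2 : s₂ ^ (orderOf s₁ * orderOf s₂) = 1 := by
      rw [mul_comm, pow_mul, pow_orderOf_eq_one, one_pow]
    simp [hτ, e1, e2]
  have hm : ¬ p ∣ orderOf s₁ * orderOf s₂ := fun h =>
    ((Fact.out : p.Prime).dvd_mul.1 h).elim (not_dvd_orderOf_pReg g) (not_dvd_orderOf_pReg w)
  have hcomm : Commute σ τ := by
    ext x
    simp only [Equiv.Perm.mul_apply, σ, τ, Equiv.trans_apply, Equiv.coe_mulLeft,
      Equiv.coe_mulRight]
    have h2 : s₂ * u₂ = u₂ * s₂ := (pPt_commute_pReg w).eq.symm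
    calc u₁ * (s₁ * x * s₂) * u₂ = (u₁ * s₁) * x * (s₂ * u₂) := by simp only [mul_assoc]
      _ = (s₁ * u₁) * x * (u₂ * s₂) := by rw [(pPt_commute_pReg g).eq, h2]
      _ = s₁ * (u₁ * x * u₂) * s₂ := by simp only [mul_assoc]
  let E : Matrix G G ℂ := Matrix.of fun a b => f (a * b⁻¹)
  have hEidem : E * E = E := by
    ext a c
    simp only [E, Matrix.mul_apply, Matrix.of_apply]
    rw [← hidem (a * c⁻¹)]
    refine Fintype.sum_equiv ((Equiv.inv G).trans (Equiv.mulLeft a)) _ _ fun b => ?_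
    simp only [Equiv.trans_apply, Equiv.inv_apply, Equiv.coe_mulLeft, mul_inv_rev, inv_inv]
    congr 2
    group
  have hEinv : ∀ v v' : G, v ∈ Subgroup.zpowers g → ∀ a b,
      E (v * a * v') (v * b * v') = E a b := by
    intro v v' hv a b
    simp only [E, Matrix.of_apply]
    rw [← hinvz v hv (a * b⁻¹)]
    congr 1
    group
  have key := trace_twist_eq_zero hM σ τ hσord hτord hm hcomm E (fun a b => hint _) hEidem
    (fun a b => by simpa [σ, mul_assoc] using hEinv u₁ u₂ (pPt_mem_zpowers g) a b)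
    (fun a b => by simpa [τ, mul_assoc] using hEinv s₁ s₂ (pReg_mem_zpowers g) a b)
    (fun x y hx hy => by
      simp only [σ, Equiv.trans_apply, Equiv.coe_mulLeft, Equiv.coe_mulRight] at hx hy
      exact hfix y x hy hx)
  rw [← key]
  refine Finset.sum_congr rfl fun x _ => ?_
  simp only [E, Matrix.of_apply, Equiv.Perm.mul_apply, σ, τ, Equiv.trans_apply,
    Equiv.coe_mulLeft, Equiv.coe_mulRight]
  congr 1
  have e : u₁ * (s₁ * x * s₂) * u₂ = g * x * w := by
    rw [← pPt_mul_pReg (p := p) g]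
    conv_rhs => rw [← pPt_mul_pReg (p := p) w, (pPt_commute_pReg w).eq]
    simp only [mul_assoc, ← hu₁, ← hs₁, ← hu₂, ← hs₂]
  rw [e]; group

/-- Trace of a translation on a block of the group algebra. -/
theorem sum_blockCoeff_shift (B : Set (IrrCharacter G)) (g w : G) :
    ∑ x, blockCoeff B (x * w⁻¹ * x⁻¹ * g⁻¹) =
      ∑ᶠ χ ∈ B, (χ : G → ℂ) g * (χ : G → ℂ) w := by
  classical
  rw [finsum_mem_eq_finite_toFinset_sum _ (Set.toFinite B)]
  simp only [blockCoeff, finsum_mem_eq_finite_toFinset_sum _ (Set.toFinite B), Finset.mul_sum]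
  rw [Finset.sum_comm]
  refine Finset.sum_congr rfl fun χ _ => ?_
  have e : ∀ x, conj ((χ : G → ℂ) (x * w⁻¹ * x⁻¹ * g⁻¹)) = (χ : G → ℂ) (g * (x * w * x⁻¹)) :=
    fun x => by
      rw [← χ.2.isCharacter.apply_inv]
      congr 1
      group
  simp only [e, ← Finset.mul_sum]
  rw [Char.sum_char_mul_conj χ.2]
  field_simp [χ.2.apply_one_ne_zero, Char.card_cast_ne_zero (G := G)]

theorem sum_blockCoeff_mul (B : Set (IrrCharacter G)) (g : G) :
    ∑ x, blockCoeff B x * blockCoeff B (x⁻¹ * g) = blockCoeff B g := by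
  classical
  simp only [← zc_indVec, ← zc_mul]
  congr 1
  funext χ
  simp only [Pi.mul_apply, indVec]
  split_ifs <;> simp

/-- Sums over a block at elements with non-conjugate `p`-parts vanish. -/
theorem sum_block_mul_eq_zero (hM : IsPModular p M) [Fact p.Prime]
    {B : Set (IrrCharacter G)} (hB : VInt hM (indVec B)) {g w : G}
    (hne : ¬ IsConj (pPt p g) (pPt p w)⁻¹) :
    ∑ᶠ χ ∈ B, (χ : G → ℂ) g * (χ : G → ℂ) w = 0 := by
  rw [← sum_blockCoeff_shift]
  refine sum_shift_eq_zero hM (blockCoeff B) (fun x => by rw [← zc_indVec]; exact hB x)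
    (sum_blockCoeff_mul B) g w (fun x => blockCoeff_conj_invariant B x g) fun x y hx _ => ?_
  exact absurd (isConj_iff.2 ⟨x⁻¹, by rw [inv_inv, eq_inv_iff_mul_eq_one]; rw [mul_assoc, mul_assoc,
    ← mul_assoc (pPt p g), hx, inv_mul_cancel]⟩) hne

/-- Orthogonality of columns inside a block. -/
theorem sum_block_mul_conj_eq_zero (hM : IsPModular p M) [Fact p.Prime]
    {B : Set (IrrCharacter G)} (hB : VInt hM (indVec B)) {g h : G}
    (hne : ¬ IsConj (pPt p g) (pPt p h)) :
    ∑ᶠ χ ∈ B, (χ : G → ℂ) g * conj ((χ : G → ℂ) h) = 0 := by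
  rw [finsum_mem_congr rfl fun χ _ => by rw [← χ.2.isCharacter.apply_inv]]
  exact sum_block_mul_eq_zero hM hB (by rwa [pPt_inv, inv_inv])

theorem not_isConj_pPt_of_dvd [Fact p.Prime] {g h : G} (hg : ¬ p ∣ orderOf g)
    (hh : p ∣ orderOf h) : ¬ IsConj (pPt p g) (pPt p h) := by
  rw [(pPt_eq_one_iff g).2 hg]
  intro hc
  exact (pPt_eq_one_iff h).1 (isConj_one_right.1 hc) hh

end Cfsg.Lib.Block
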