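import Cfsg.Agent.Lib.Block.SubsectionApps
import Cfsg.Agent.Lib.Block.Vanish
import Cfsg.Agent.Lib.Char.Linear
import Cfsg.Agent.Lib.Fusion.Tate
import Cfsg.Agent.Lib.PGroup.Basic

/-!
# Equal degrees of height zero in the principal block
-/

set_option autoImplicit false
set_option linter.unusedSectionVars false

namespace Cfsg.Lib.Block

open Cfsg
open scoped ComplexConjugate

universe u

variable {p : ℕ} [hp : Fact p.Prime] {M : Ideal AlgInt} {G : Type u} [Group G] [Fintype G]

/-- A linear character as an irreducible character. -/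
noncomputable def linIrr (f : G →* ℂˣ) : IrrCharacter G :=
  ⟨fun g => (f g : ℂ), Char.isIrrCharacter_linear f⟩

theorem linIrr_coe (f : G →* ℂˣ) : (linIrr f : G → ℂ) = fun g => (f g : ℂ) := rfl

theorem centralChar_linIrr (f : G →* ℂˣ) (g : G) :
    centralChar (linIrr f : G → ℂ) g =
      centralChar (trivChar G : G → ℂ) g * (f g : ℂ) := by
  simp [centralChar, linIrr_coe, trivChar_coe]

/-- Products of linear characters in the principal block stay there. -/
theorem linIrr_mul_mem (hM : IsPModular p M) {f f' : G →* ℂˣ}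
    (hf : linIrr f ∈ principalBlock M G) (hf' : linIrr f' ∈ principalBlock M G) :
    linIrr (f * f') ∈ principalBlock M G := by
  intro g
  have h1 : MemLocalIdeal M (centralChar (trivChar G : G → ℂ) g - centralChar (linIrr f : G → ℂ) g) :=
    hf g
  have h2 : MemLocalIdeal M (centralChar (trivChar G : G → ℂ) g - centralChar (linIrr f' : G → ℂ) g) :=
    hf' g
  show MemLocalIdeal M (centralChar (trivChar G : G → ℂ) g - centralChar (linIrr (f * f') : G → ℂ) g)
  have hval : ((f g : ℂˣ) : ℂ) ∈ locRing hM := charVal_mem_locRing hM (linIrr f) g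
  have e : centralChar (trivChar G : G → ℂ) g - centralChar (linIrr (f * f') : G → ℂ) g =
      (centralChar (trivChar G : G → ℂ) g - centralChar (linIrr f : G → ℂ) g) +
        (f g : ℂ) * (centralChar (trivChar G : G → ℂ) g - centralChar (linIrr f' : G → ℂ) g) := by
    rw [centralChar_linIrr, centralChar_linIrr, centralChar_linIrr, MonoidHom.mul_apply,
      Units.val_mul]
    ring
  rw [e]
  exact memLocalIdeal_add hM h1 (memLocalIdeal_mul_left hM hval h2)

/-- A linear character detects the elements outside the derived subgroup. -/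
theorem mem_commutator_of_linear {A : Type u} [Group A] [Finite A] {x : A}
    (h : ∀ f : A →* ℂˣ, f x = 1) : x ∈ commutator A := by
  by_contra hx
  haveI : Finite (Abelianization A) := Quotient.finite _
  haveI : NeZero (Monoid.exponent (Abelianization A)) := ⟨Monoid.exponent_ne_zero_of_finite⟩
  obtain ⟨φ, hφ⟩ := CommGroup.exists_apply_ne_one_of_hasEnoughRootsOfUnity (Abelianization A) ℂ
    (a := Abelianization.of x) fun h1 => hx ((QuotientGroup.eq_one_iff x).1 h1)
  exact hφ (h (φ.comp Abelianization.of))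

include hp in
/-- Only linear characters of degree prime to `p` in the principal block: a normal
`p`-complement. -/
theorem hasNormalPComplement_of_linear (hM : IsPModular p M)
    (h : ∀ χ : IrrCharacter G, χ ∈ principalBlock M G → ¬ p ∣ charDegree (χ : G → ℂ) →
      charDegree (χ : G → ℂ) = 1) : HasNormalPComplement p G := by
  classical
  obtain ⟨P⟩ : Nonempty (Sylow p G) := inferInstance
  set Q : Subgroup G := (P : Subgroup G) with hQdef
  haveI : Finite (G →* ℂˣ) := Nat.finite_of_card_ne_zero
    (by rw [Char.card_linear_eq_index]; exact Subgroup.index_ne_zero_of_finite)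
  haveI := Fintype.ofFinite (G →* ℂˣ)
  have hQp : IsPGroup p Q := P.isPGroup'
  set B0 := principalBlock M G with hB0
  have hI := vInt_indVec hM (isPBlock_principal (G := G) (M := M))
  have hvan : ∀ y : Q, y ≠ 1 →
      ∑ χ ∈ B0.toFinset, (χ : G → ℂ) (y : G) * (χ : G → ℂ) 1 = 0 := by
    intro y hy
    rw [← finsum_mem_eq_toFinset_sum]
    refine sum_block_mul_eq_zero hM hI ?_
    rw [(pPt_eq_one_iff (1 : G)).2 (by rw [orderOf_one]; exact hp.out.not_dvd_one), inv_one]
    intro hc
    rw [isConj_one_left, pPt_eq_one_iff] at hc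
    obtain ⟨k, hk⟩ := exists_orderOf_eq_pow_of_mem hQp y.2
    rcases Nat.eq_zero_or_pos k with rfl | hk0
    · exact hy (Subtype.ext (orderOf_eq_one_iff.1 (by rw [hk, pow_zero])))
    · exact hc (hk ▸ dvd_pow_self p hk0.ne')
  choose c hc0 using fun (χ : IrrCharacter G) (μ : Q →* ℂˣ) =>
    (χ.2.isCharacter.comp Q.subtype).exists_nat_classInner
      (Char.isIrrCharacter_linear μ).isCharacter
  have hc : ∀ (χ : IrrCharacter G) (μ : Q →* ℂˣ),
      classInner (fun y : Q => (χ : G → ℂ) y) (fun y : Q => (μ y : ℂ)) = (c χ μ : ℂ) := hc0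
  have hN : ∀ μ : Q →* ℂˣ, (Nat.card Q : ℂ) *
      ∑ χ ∈ B0.toFinset, (charDegree (χ : G → ℂ) * c χ μ : ℕ) =
      ∑ χ ∈ B0.toFinset, (χ : G → ℂ) 1 * (χ : G → ℂ) 1 := by
    intro μ
    have e : ∀ χ : IrrCharacter G, ((charDegree (χ : G → ℂ) * c χ μ : ℕ) : ℂ) =
        (χ : G → ℂ) 1 * classInner (fun y : Q => (χ : G → ℂ) y) (fun y : Q => (μ y : ℂ)) := by
      intro χ
      rw [Nat.cast_mul, apply_one_eq_charDegree χ]
      exact congrArg _ (hc χ μ).symm
    rw [Nat.cast_sum, Finset.sum_congr rfl fun χ _ => e χ]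
    simp only [classInner, Finset.mul_sum]
    rw [Finset.sum_comm, Finset.sum_eq_single (1 : Q)]
    · refine Finset.sum_congr rfl fun χ _ => ?_
      rw [map_one, Units.val_one, map_one, OneMemClass.coe_one]
      have : (Nat.card Q : ℂ) ≠ 0 := Char.card_cast_ne_zero
      field_simp
    · intro y _ hy
      have := hvan y hy
      calc _ = (∑ χ ∈ B0.toFinset, (χ : G → ℂ) (y : G) * (χ : G → ℂ) 1) * conj ((μ y : ℂ)) := by
            rw [Finset.sum_mul]
            refine Finset.sum_congr rfl fun χ _ => ?_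
            have : (Nat.card Q : ℂ) ≠ 0 := Char.card_cast_ne_zero
            field_simp
        _ = 0 := by rw [this, zero_mul]
    · exact fun hh => absurd (Finset.mem_univ _) hh
  have hN' : ∀ μ : Q →* ℂˣ,
      ∑ χ ∈ B0.toFinset, charDegree (χ : G → ℂ) * c χ μ =
        ∑ χ ∈ B0.toFinset, charDegree (χ : G → ℂ) * c χ 1 := by
    intro μ
    have h1 := mul_left_cancel₀ Char.card_cast_ne_zero ((hN μ).trans (hN 1).symm)
    exact_mod_cast h1
  set fib : (Q →* ℂˣ) → Finset (G →* ℂˣ) := fun μ => Finset.univ.filter fun f =>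
    linIrr f ∈ B0 ∧ f.comp Q.subtype = μ with hfib
  have hmodp : ∀ μ : Q →* ℂˣ, ((∑ χ ∈ B0.toFinset, charDegree (χ : G → ℂ) * c χ μ : ℕ) : ZMod p) =
      (fib μ).card := by
    intro μ
    rw [Nat.cast_sum, Finset.card_eq_sum_ones, Nat.cast_sum]
    symm
    refine Finset.sum_bij_ne_zero (fun f _ _ => linIrr f)
      (fun f hf _ => Set.mem_toFinset.2 (Finset.mem_filter.1 hf).2.1)
      (fun a _ _ b _ _ hab => Char.linearChar_injective (congrArg Subtype.val hab))
      (fun χ hχ hne => ?_) (fun f hf _ => ?_)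
    · have hd : ¬ p ∣ charDegree (χ : G → ℂ) := fun hd => hne (by
        rw [Nat.cast_mul, (ZMod.natCast_eq_zero_iff _ p).2 hd, zero_mul])
      obtain ⟨f, hf⟩ := Char.exists_hom_of_degree_one χ.2.isCharacter (by
        rw [apply_one_eq_charDegree χ, h χ (Set.mem_toFinset.1 hχ) hd, Nat.cast_one])
      have hcne : c χ μ ≠ 0 := fun h0 => hne (by rw [h0, mul_zero, Nat.cast_zero])
      have hfμ : f.comp Q.subtype = μ := by
        by_contra hne'
        have h1 := hc χ μ
        rw [show (fun y : Q => (χ : G → ℂ) y) = fun y : Q => ((f.comp Q.subtype) y : ℂ) from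
          funext fun y => congrFun hf y, Char.classInner_irr (Char.isIrrCharacter_linear _)
            (Char.isIrrCharacter_linear _),
          if_neg fun e => hne' (Char.linearChar_injective e)] at h1
        exact hcne (by exact_mod_cast h1.symm)
      have he : linIrr f = χ := Subtype.ext hf.symm
      exact ⟨f, Finset.mem_filter.2 ⟨Finset.mem_univ _, he.symm ▸ Set.mem_toFinset.1 hχ, hfμ⟩,
        by simp, he⟩
    · have hfμ := (Finset.mem_filter.1 hf).2.2
      have h1 := hc (linIrr f) μ
      rw [show (fun y : Q => (linIrr f : G → ℂ) y) = fun y : Q => ((μ y : ℂˣ) : ℂ) from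
        funext fun y => by rw [← hfμ]; rfl, Char.classInner_irr_self (Char.isIrrCharacter_linear _)]
        at h1
      have h2 : c (linIrr f) μ = 1 := by exact_mod_cast h1.symm
      rw [h2, mul_one, show charDegree (linIrr f : G → ℂ) = 1 from
        charDegree_eq_of_apply_one (by simp [linIrr_coe])]
  -- the characters trivial on the Sylow subgroup
  have hone : ¬ p ∣ (fib 1).card := by
    let T : Subgroup (G →* ℂˣ) :=
      { carrier := {f | linIrr f ∈ B0 ∧ f.comp Q.subtype = 1}
        one_mem' := ⟨by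
          have : linIrr (1 : G →* ℂˣ) = trivChar G := Subtype.ext (funext fun g => by
            simp [linIrr_coe, trivChar_coe])
          rw [this]
          exact trivChar_mem_principal hM, rfl⟩
        mul_mem' := fun {a b} ha hb => ⟨linIrr_mul_mem hM ha.1 hb.1, by
          rw [MonoidHom.mul_comp, ha.2, hb.2, one_mul]⟩
        inv_mem' := fun {a} ha => by
          let S := {f : G →* ℂˣ // linIrr f ∈ B0 ∧ f.comp Q.subtype = 1}
          let F : S → S := fun f => ⟨a * f.1, linIrr_mul_mem hM ha.1 f.2.1, by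
            rw [MonoidHom.mul_comp, ha.2, f.2.2, one_mul]⟩
          obtain ⟨⟨b, hb⟩, hab⟩ := (Finite.injective_iff_surjective (f := F)).1
            (fun x y hxy => Subtype.ext (mul_left_cancel (congrArg Subtype.val hxy)))
            ⟨1, (by
              have : linIrr (1 : G →* ℂˣ) = trivChar G := Subtype.ext (funext fun g => by
                simp [linIrr_coe, trivChar_coe])
              rw [this]
              exact trivChar_mem_principal hM), rfl⟩
          have h1 : a * b = 1 := congrArg Subtype.val hab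
          rw [inv_eq_of_mul_eq_one_right h1]
          exact hb }
    have hT : (fib 1).card = Nat.card T := by
      rw [Nat.card_eq_fintype_card]
      exact (Fintype.card_of_subtype _ fun f => by simp [hfib, T]).symm
    rw [hT]
    intro hd
    obtain ⟨⟨t, ht⟩, hto⟩ := exists_prime_orderOf_dvd_card' p hd
    rw [Subgroup.orderOf_mk] at hto
    have ht1 : t = 1 := by
      ext g : 1
      have hreg : t (pReg p g) = 1 := by
        refine orderOf_eq_one_iff.1 (Nat.eq_one_of_dvd_coprimes (hp.out.coprime_iff_not_dvd.2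
          (not_dvd_orderOf_pReg g)) ?_ (orderOf_map_dvd t (pReg p g)))
        refine orderOf_dvd_of_pow_eq_one ?_
        have h3 : t ^ p = 1 := orderOf_dvd_iff_pow_eq_one.1 (dvd_of_eq hto)
        rw [← MonoidHom.pow_apply, h3, MonoidHom.one_apply]
      obtain ⟨j, hj⟩ := exists_orderOf_pPt (p := p) g
      obtain ⟨S, hS⟩ := (IsPGroup.of_card (p := p) (n := j)
        (G := Subgroup.zpowers (pPt p g)) (by rw [Nat.card_zpowers, hj])).exists_le_sylow
      obtain ⟨w, hw⟩ := MulAction.exists_smul_eq G S P
      have hwQ : w * pPt p g * w⁻¹ ∈ Q := by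
        rw [hQdef, ← hw, Sylow.coe_subgroup_smul]
        exact ⟨pPt p g, hS (Subgroup.mem_zpowers _), rfl⟩
      have h1 : t (w * pPt p g * w⁻¹) = 1 := DFunLike.congr_fun ht.2 ⟨_, hwQ⟩
      have hpp : t (pPt p g) = 1 := by
        rw [map_mul, map_mul, map_inv, mul_comm (t w), mul_inv_cancel_right] at h1
        exact h1
      rw [MonoidHom.one_apply, ← pPt_mul_pReg (p := p) g, map_mul, hpp, hreg, one_mul]
    rw [ht1, orderOf_one] at hto
    exact hp.out.ne_one hto.symm
  -- every linear character of the Sylow subgroup extends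
  have hext : ∀ μ : Q →* ℂˣ, ∃ f : G →* ℂˣ, f.comp Q.subtype = μ := by
    intro μ
    by_contra hcon
    have h0 : fib μ = ∅ := Finset.eq_empty_of_forall_notMem fun f hf =>
      hcon ⟨f, (Finset.mem_filter.1 hf).2.2⟩
    refine hone ((ZMod.natCast_eq_zero_iff _ p).1 ?_)
    rw [← hmodp, ← hN' μ, hmodp, h0, Finset.card_empty, Nat.cast_zero]
  have hres : pResidual p G ⊓ Q ≤ (frattini P).map (P : Subgroup G).subtype := by
    rintro x ⟨hx, hxQ⟩
    refine ⟨⟨x, hxQ⟩, PGroup.commutator_le_frattini hQp
      (mem_commutator_of_linear (A := Q) fun μ => ?_), rfl⟩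
    obtain ⟨f, hf⟩ := hext μ
    obtain ⟨e, m, hm, he⟩ := Nat.exists_eq_pow_mul_and_not_dvd (Nat.card_pos (α := G)).ne' p hp.out.ne_one
    have hker : pResidual p G ≤ (f ^ m).ker := by
      rw [pResidual, Subgroup.closure_le]
      intro g hg
      rw [SetLike.mem_coe, MonoidHom.mem_ker, MonoidHom.pow_apply, ← map_pow]
      have hdvd : orderOf g ∣ m :=
        (Nat.Coprime.pow_right e hg).dvd_of_dvd_mul_left (he ▸ orderOf_dvd_natCard g)
      rw [orderOf_dvd_iff_pow_eq_one.1 hdvd, map_one]
    have h1 : (μ ⟨x, hxQ⟩) ^ m = 1 := by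
      have h2 := hker hx
      rw [MonoidHom.mem_ker, MonoidHom.pow_apply] at h2
      rw [← hf]
      exact h2
    obtain ⟨j, hj⟩ := IsPGroup.iff_orderOf.1 hQp ⟨x, hxQ⟩
    exact orderOf_eq_one_iff.1 (Nat.eq_one_of_dvd_coprimes
      (Nat.Coprime.pow_left j (hp.out.coprime_iff_not_dvd.2 hm))
      (hj ▸ orderOf_map_dvd μ _) (orderOf_dvd_of_pow_eq_one h1))
  rw [Fusion.hasNormalPComplement_iff_inf P]
  have hbot : pResidual p Q = ⊥ := by
    rw [eq_bot_iff]
    exact (Fusion.pResidual_le_ker hQp (MonoidHom.id _)).trans (by simp)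
  have key := Fusion.tate P Q le_rfl (hres.trans le_sup_left)
  rwa [hbot, Subgroup.map_bot, bot_inf_eq] at key

include hp in
/-- Equal height-zero degrees in the principal block characterize normal `p`-complements. -/
theorem equal_degrees_iff (hM : IsPModular p M) :
    (∃ d : ℕ, ∀ χ : IrrCharacter G, χ ∈ principalBlock M G →
      blockHeight p (principalBlock M G) (χ : G → ℂ) = 0 → charDegree (χ : G → ℂ) = d) ↔
      HasNormalPComplement p G := by
  have htriv : charDegree (trivChar G : G → ℂ) = 1 :=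
    charDegree_eq_of_apply_one (by rw [trivChar_coe, Nat.cast_one])
  have hmin : minVal p (principalBlock M G) = 0 := by
    refine Nat.le_zero.1 ((minVal_le (trivChar_mem_principal hM)).trans (le_of_eq ?_))
    rw [htriv, Nat.factorization_one]
    rfl
  constructor
  · rintro ⟨d, hd⟩
    have hd1 : d = 1 := (hd _ (trivChar_mem_principal hM) ((blockHeight_eq_zero_iff
      (trivChar_mem_principal hM)).2 (by rw [hmin, htriv, Nat.factorization_one]; rfl))).symm.trans htriv
    refine hasNormalPComplement_of_linear hM fun χ hχ hnd => hd1 ▸ hd χ hχ ?_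
    rw [blockHeight_eq_zero_iff hχ, hmin, Nat.factorization_eq_zero_of_not_dvd hnd]
  · intro hC
    refine ⟨1, fun χ hχ hh => ?_⟩
    obtain ⟨k, hk⟩ := Fusion.index_pResidual_eq_pow (p := p) (G := G)
    have hKp : ¬ p ∣ Nat.card (pResidual p G) := by
      rw [← hp.out.coprime_iff_not_dvd, Nat.coprime_comm]
      exact Fusion.hasNormalPComplement_iff_coprime.1 hC
    have hker := principal_trivial_on hM hKp hχ
    haveI := Fintype.ofFinite (G ⧸ pResidual p G)
    obtain ⟨ψ, hψ, hψe⟩ := Char.exists_deflate_irr _ χ.2 hker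
    have hdeg : ψ 1 = (charDegree (χ : G → ℂ) : ℂ) := by
      rw [← apply_one_eq_charDegree χ, ← hψe 1, QuotientGroup.mk_one]
    have hdvd : charDegree (χ : G → ℂ) ∣ p ^ k := by
      have := charDegree_dvd_card (⟨ψ, hψ⟩ : IrrCharacter (G ⧸ pResidual p G))
      rwa [charDegree_eq_of_apply_one hdeg, ← Subgroup.index_eq_card, hk] at this
    obtain ⟨i, -, hi⟩ := (Nat.dvd_prime_pow hp.out).1 hdvd
    rw [blockHeight_eq_zero_iff hχ, hmin, hi, hp.out.factorization_pow, Finsupp.single_eq_same] at hh
    rw [hi, hh, pow_zero]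

end Cfsg.Lib.Block
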