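import Cfsg.Agent.Lib.Block.PairKernel
import Cfsg.Agent.Lib.Block.EqualDegrees
import Cfsg.Agent.Lib.Block.RegInt
import Cfsg.Agent.Lib.Char.Subconstituents
import Cfsg.Agent.Lib.Fusion.Tate
import Cfsg.Agent.Lib.PGroup.Basic

/-!
# The common kernel of the characters of degree prime to `p`

The common kernel is the core of the product of the largest fixed-point-free normal subgroup with
the derived group of a Sylow subgroup.
-/

set_option autoImplicit false
set_option linter.unusedSectionVars false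
set_option maxHeartbeats 400000

namespace Cfsg.Lib.Block

open Cfsg
open scoped ComplexConjugate commutatorElement

universe u

variable {p : ℕ} [hp : Fact p.Prime] {G : Type u} [Group G] [Fintype G]

noncomputable local instance (priority := high) fintypeSubgroupPPrimeKernel {G : Type u} [Group G]
    [Fintype G] (H : Subgroup G) : Fintype H := Fintype.ofFinite H

/-- A character of degree prime to `p` has an irreducible constituent of degree prime to `p`. -/
theorem exists_pPrime_constituent {f : G → ℂ} (hf : IsCharacter G f) {n : ℕ} (hn : f 1 = n)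
    (hnp : ¬ p ∣ n) : ∃ χ : IrrCharacter G, classInner f (χ : G → ℂ) ≠ 0 ∧
      ¬ p ∣ charDegree (χ : G → ℂ) := by
  classical
  by_contra h
  simp only [not_exists, not_and, not_not] at h
  choose m hm using fun χ : IrrCharacter G => hf.exists_nat_classInner χ.2.isCharacter
  have e := congrFun (Char.eq_sum_classInner hf.isClassFunction) 1
  simp only [Finset.sum_apply, Pi.smul_apply, smul_eq_mul, hm, apply_one_eq_charDegree,
    ← Nat.cast_mul, ← Nat.cast_sum, hn, Nat.cast_inj] at e
  refine hnp (e ▸ Finset.dvd_sum fun χ _ => ?_)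
  by_cases h0 : m χ = 0
  · simp [h0]
  · exact (h χ (by rw [hm]; exact_mod_cast h0)).mul_left _

/-- Over a character of degree prime to `p` of a subgroup of index prime to `p` lies one of
degree prime to `p`. -/
theorem exists_pPrime_over {H : Subgroup G} (hH : ¬ p ∣ H.index) {φ : H → ℂ}
    (hφ : IsCharacter H φ) {d : ℕ} (hd : φ 1 = d) (hdp : ¬ p ∣ d) :
    ∃ χ : IrrCharacter G, classInner (fun h : H => (χ : G → ℂ) h) φ ≠ 0 ∧
      ¬ p ∣ charDegree (χ : G → ℂ) := by
  obtain ⟨χ, hne, hχp⟩ := exists_pPrime_constituent (Char.isCharacter_indFun H hφ)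
    (n := H.index * d) (by rw [Char.indFun_apply_one, hd, Nat.cast_mul])
    (fun h => (hp.out.dvd_mul.1 h).elim hH hdp)
  refine ⟨χ, fun h0 => hne ?_, hχp⟩
  rw [Char.classInner_indFun H φ χ.2.isClassFunction, ← Char.classInner_conj_symm, h0, map_zero]

/-- A constituent is trivial where the character is. -/
theorem constituent_apply_eq {f φ : G → ℂ} (hf : IsCharacter G f) (hφ : IsIrrCharacter G φ)
    (hne : classInner f φ ≠ 0) {g : G} (hg : f g = f 1) : φ g = φ 1 := by
  have hr := Char.isCharacter_sub_constituent hf hφ hne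
  have h1 := (Complex.re_le_norm _).trans (hr.norm_le g)
  have h2 := (Complex.re_le_norm _).trans (hφ.isCharacter.norm_le g)
  have h3 := hφ.isCharacter.norm_le g
  have e := congrArg Complex.re hg
  simp only [Pi.sub_apply, Complex.sub_re] at h1
  have hre : (φ g).re = (φ 1).re := by linarith
  obtain ⟨d, hd⟩ := hφ.isCharacter.exists_degree
  have hn : (φ g).re = ‖φ g‖ := le_antisymm (Complex.re_le_norm _) (by linarith)
  have him : (φ g).im = 0 := (Complex.re_eq_norm.1 hn).2.symm
  refine Complex.ext hre ?_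
  rw [him, hd, Complex.natCast_im]

/-- The common kernel of the characters of degree prime to `p`. -/
noncomputable def pPrimeKer (p : ℕ) (G : Type u) [Group G] [Finite G] : Subgroup G :=
  ⨅ χ : {χ : IrrCharacter G // ¬ p ∣ charDegree (χ : G → ℂ)}, Char.charKer χ.1.2.isCharacter

theorem mem_pPrimeKer {g : G} : g ∈ pPrimeKer p G ↔
    ∀ χ : IrrCharacter G, ¬ p ∣ charDegree (χ : G → ℂ) → (χ : G → ℂ) g = (χ : G → ℂ) 1 := by
  simp only [pPrimeKer, Subgroup.mem_iInf, Char.mem_charKer]
  exact ⟨fun h χ hχ => h ⟨χ, hχ⟩, fun h χ => h χ.1 χ.2⟩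

instance pPrimeKer_normal : (pPrimeKer p G).Normal :=
  Subgroup.normal_iInf_normal fun χ => Char.charKer_normal _

/-- An element of the common kernel is killed by the linear characters of every subgroup of
index prime to `p`. -/
theorem hom_eq_one_of_mem_pPrimeKer {H : Subgroup G} (hH : ¬ p ∣ H.index) (f : H →* ℂˣ) {x : H}
    (hx : (x : G) ∈ pPrimeKer p G) : f x = 1 := by
  obtain ⟨χ, hne, hχp⟩ := exists_pPrime_over hH (Char.isIrrCharacter_linear f).isCharacter
    (d := 1) (by simp) hp.out.not_dvd_one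
  have h := constituent_apply_eq (χ.2.isCharacter.comp H.subtype) (Char.isIrrCharacter_linear f)
    hne (g := x) (by simpa using mem_pPrimeKer.1 hx χ hχp)
  simpa using h

section

variable (P : Sylow p G)

theorem not_dvd_index_sylow_le {H : Subgroup G} (h : (P : Subgroup G) ≤ H) : ¬ p ∣ H.index :=
  fun hd => P.not_dvd_index (hd.trans (Subgroup.index_dvd_of_le h))

theorem pPrimeKer_inf_sylow_le :
    pPrimeKer p G ⊓ (P : Subgroup G) ≤ ⁅(P : Subgroup G), (P : Subgroup G)⁆ := by
  intro x hx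
  rw [← Subgroup.map_subtype_commutator]
  exact ⟨⟨x, hx.2⟩, mem_commutator_of_linear fun f =>
    hom_eq_one_of_mem_pPrimeKer (not_dvd_index_sylow_le P le_rfl) f hx.1, rfl⟩

/-- No nontrivial element of order prime to `p` of the common kernel centralizes a Sylow
subgroup. -/
theorem eq_one_of_mem_pPrimeKer {c : G} (hc : c ∈ pPrimeKer p G)
    (hcP : c ∈ Subgroup.centralizer ((P : Subgroup G) : Set G)) (hcp : ¬ p ∣ orderOf c) :
    c = 1 := by
  set X : Subgroup G := Subgroup.zpowers c ⊔ (P : Subgroup G) with hX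
  have hcX : c ∈ X := Subgroup.mem_sup_left (Subgroup.mem_zpowers c)
  have h1 : (⟨c, hcX⟩ : X) ∈ commutator X := mem_commutator_of_linear fun f =>
    hom_eq_one_of_mem_pPrimeKer (not_dvd_index_sylow_le P le_sup_right) f hc
  have hCP : Subgroup.zpowers c ≤ Subgroup.centralizer ((P : Subgroup G) : Set G) :=
    Subgroup.zpowers_le.2 hcP
  have hdec : ∀ a ∈ X, ∃ i ∈ Subgroup.zpowers c, ∃ y ∈ (P : Subgroup G), a = i * y :=
    fun a ha => by
      have hle : Subgroup.zpowers c ≤ Subgroup.normalizer ((P : Subgroup G) : Set G) :=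
        hCP.trans (Subgroup.centralizer_le_normalizer _)
      rw [hX, ← SetLike.mem_coe, Subgroup.coe_mul_of_left_le_normalizer_right _ _ hle] at ha
      obtain ⟨i, hi, y, hy, he⟩ := ha
      exact ⟨i, hi, y, hy, he.symm⟩
  have hcomm : ⁅X, X⁆ ≤ (P : Subgroup G) := by
    refine Subgroup.commutator_le.2 fun a ha b hb => ?_
    obtain ⟨i, hi, y, hy, rfl⟩ := hdec a ha
    obtain ⟨j, hj, z, hz, rfl⟩ := hdec b hb
    have hcy : ∀ {w t : G}, w ∈ Subgroup.zpowers c → t ∈ (P : Subgroup G) → Commute w t :=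
      fun hw ht => (Subgroup.mem_centralizer_iff.1 (hCP hw) _ ht).symm
    have hij : Commute i j := by
      obtain ⟨m, rfl⟩ := hi
      obtain ⟨n, rfl⟩ := hj
      exact Commute.zpow_zpow_self c m n
    have e : ⁅i * y, j * z⁆ = ⁅y, z⁆ := by
      rw [commutatorElement_def, commutatorElement_def]
      calc i * y * (j * z) * (i * y)⁻¹ * (j * z)⁻¹
          = i * (y * j) * z * (y⁻¹ * i⁻¹) * (z⁻¹ * j⁻¹) := by group
        _ = i * (j * y) * z * (y⁻¹ * i⁻¹) * (z⁻¹ * j⁻¹) := by rw [(hcy hj hy).eq]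
        _ = i * j * ((y * z * y⁻¹) * i⁻¹) * (z⁻¹ * j⁻¹) := by group
        _ = i * j * (i⁻¹ * (y * z * y⁻¹)) * (z⁻¹ * j⁻¹) := by
            rw [((hcy (inv_mem hi) (mul_mem (mul_mem hy hz) (inv_mem hy))).eq)]
        _ = i * j * i⁻¹ * ((y * z * y⁻¹ * z⁻¹) * j⁻¹) := by group
        _ = i * j * i⁻¹ * (j⁻¹ * (y * z * y⁻¹ * z⁻¹)) := by
            rw [((hcy (inv_mem hj)
              (mul_mem (mul_mem (mul_mem hy hz) (inv_mem hy)) (inv_mem hz))).eq)]
        _ = (i * j) * i⁻¹ * j⁻¹ * (y * z * y⁻¹ * z⁻¹) := by group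
        _ = y * z * y⁻¹ * z⁻¹ := by rw [hij.eq]; group
    rw [e, commutatorElement_def]
    exact mul_mem (mul_mem (mul_mem hy hz) (inv_mem hy)) (inv_mem hz)
  have hcP' : c ∈ (P : Subgroup G) := hcomm (by
    rw [← Subgroup.map_subtype_commutator]
    exact ⟨_, h1, rfl⟩)
  obtain ⟨k, hk⟩ := IsPGroup.iff_orderOf.1 P.2 ⟨c, hcP'⟩
  rw [← Subgroup.orderOf_coe] at hk
  rcases k with _ | k
  · simpa using hk
  · exact absurd (hk ▸ dvd_pow_self p k.succ_ne_zero) hcp

/-- A normal subgroup with trivial fixed points has order prime to `p`. -/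
theorem not_dvd_card_of_fixedPointFree {N : Subgroup G} [hNn : N.Normal]
    (hN : N ⊓ Subgroup.centralizer ((P : Subgroup G) : Set G) = ⊥) : ¬ p ∣ Nat.card N := by
  intro hd
  obtain ⟨x, hx⟩ := exists_prime_orderOf_dvd_card' p hd
  rw [← Subgroup.orderOf_coe] at hx
  obtain ⟨Q, hQ⟩ := (IsPGroup.of_card (n := 1)
    (show Nat.card (Subgroup.zpowers (x : G)) = p ^ 1 by rw [Nat.card_zpowers, hx, pow_one]))
    |>.exists_le_sylow
  obtain ⟨g, hg⟩ := MulAction.exists_smul_eq G Q P
  have hmem : g * (x : G) * g⁻¹ ∈ (P : Subgroup G) := by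
    rw [← hg]
    exact ⟨(x : G), hQ (Subgroup.mem_zpowers _), rfl⟩
  let R : Subgroup G := N ⊓ (P : Subgroup G)
  let act : MulAction P R :=
    { smul := fun s r => ⟨(s : G) * r * (s : G)⁻¹, hNn.conj_mem (r : G) r.2.1 (s : G),
        (P : Subgroup G).mul_mem ((P : Subgroup G).mul_mem s.2 r.2.2) ((P : Subgroup G).inv_mem s.2)⟩
      one_smul := fun r => Subtype.ext (by
        show ((1 : P) : G) * (r : G) * ((1 : P) : G)⁻¹ = r
        simp)
      mul_smul := fun s t r => Subtype.ext (by
        show ((s * t : P) : G) * (r : G) * ((s * t : P) : G)⁻¹ =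
          (s : G) * ((t : G) * r * (t : G)⁻¹) * (s : G)⁻¹
        simp [mul_assoc]) }
  letI := act
  have hR : IsPGroup p R := P.2.to_le inf_le_right
  have hdvd : p ∣ Nat.card R := by
    have h2 : orderOf (⟨g * x * g⁻¹, hNn.conj_mem _ x.2 g, hmem⟩ : R) = p := by
      rw [← Subgroup.orderOf_coe]
      show orderOf (g * (x : G) * g⁻¹) = p
      rw [show g * (x : G) * g⁻¹ = MulAut.conj g (x : G) from rfl, MulEquiv.orderOf_eq, hx]
    exact h2 ▸ orderOf_dvd_natCard _
  obtain ⟨r, hr, hr1⟩ := P.2.exists_fixed_point_of_prime_dvd_card_of_fixed_point R hdvd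
    (a := 1) (fun s => Subtype.ext (by show (s : G) * 1 * (s : G)⁻¹ = 1; simp))
  refine hr1 (Subtype.ext ?_)
  have hC : (r : G) ∈ N ⊓ Subgroup.centralizer ((P : Subgroup G) : Set G) :=
    ⟨r.2.1, Subgroup.mem_centralizer_iff.2 fun s hs => by
      have e : s * (r : G) * s⁻¹ = r := congrArg Subtype.val (hr ⟨s, hs⟩)
      exact mul_inv_eq_iff_eq_mul.1 e⟩
  rw [hN] at hC
  exact (Subgroup.mem_bot.1 hC).symm

/-- A fixed-point-free normal subgroup lies in the common kernel. -/
theorem le_pPrimeKer_of_fixedPointFree {N : Subgroup G} [N.Normal]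
    (hN : N ⊓ Subgroup.centralizer ((P : Subgroup G) : Set G) = ⊥) : N ≤ pPrimeKer p G := by
  classical
  intro n hn
  refine mem_pPrimeKer.2 fun χ hχ => ?_
  obtain ⟨M, hM⟩ := exists_isPModular hp.out
  refine (trivial_or_sum_eq_zero N χ).resolve_right (fun h0 => hχ ?_) n hn
  let F : G → ℂ := fun x => if x ∈ N then (χ : G → ℂ) x else 0
  have hint : ∀ x, F x ∈ locRing hM := fun x => by
    simp only [F]; split_ifs
    · exact charVal_mem_locRing hM χ x
    · exact zero_mem _
  have hsum : ∑ x, F x = 0 := by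
    simp only [F]
    rw [← Finset.sum_filter, ← h0]
    exact Finset.sum_subtype _ (fun c => by simp) _
  have h := res_sum_centralizer hM (P : Subgroup G) P.2 F hint fun s _ x => by
    simp only [F]
    exact if_congr ⟨fun h => by
        simpa [mul_assoc] using (inferInstance : N.Normal).conj_mem _ h s⁻¹,
      fun h => (inferInstance : N.Normal).conj_mem _ h s⟩ (χ.2.isClassFunction x s) rfl
  rw [hsum, res_zero] at h
  rw [Finset.sum_eq_single (1 : G)] at h
  · simp only [F, if_pos N.one_mem, apply_one_eq_charDegree, res_natCast] at h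
    exact (CharP.cast_eq_zero_iff (resField hM) p _).1 h.symm
  · intro x hx hne
    simp only [F]
    rw [if_neg fun hxN : x ∈ N => hne (Subgroup.mem_bot.1 (hN.le ⟨hxN, (Finset.mem_filter.1 hx).2⟩)),
      res_zero]
  · exact fun h1 => absurd (Finset.mem_filter.2 ⟨Finset.mem_univ _, one_mem _⟩) h1

/-- The core of a fixed-point-free normal subgroup times the derived group of a Sylow subgroup
lies in the common kernel. -/
theorem core_le_pPrimeKer {N : Subgroup G} [N.Normal]
    (hN : N ⊓ Subgroup.centralizer ((P : Subgroup G) : Set G) = ⊥) :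
    (N ⊔ ⁅(P : Subgroup G), (P : Subgroup G)⁆).normalCore ≤ pPrimeKer p G := by
  classical
  set D : Subgroup G := ⁅(P : Subgroup G), (P : Subgroup G)⁆ with hD
  set L : Subgroup G := (N ⊔ D).normalCore with hL
  intro g hg
  refine mem_pPrimeKer.2 fun χ hχ => ?_
  have hNker : ∀ n ∈ N, (χ : G → ℂ) n = (χ : G → ℂ) 1 := fun n hn =>
    mem_pPrimeKer.1 (le_pPrimeKer_of_fixedPointFree P hN hn) χ hχ
  have hNL : N ≤ L := Subgroup.normal_le_normalCore.2 le_sup_left
  have hDP : D ≤ (P : Subgroup G) := Subgroup.commutator_le_self _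
  -- a linear constituent on the Sylow subgroup
  have hPχ : IsCharacter (P : Subgroup G) fun x : (P : Subgroup G) => (χ : G → ℂ) x :=
    χ.2.isCharacter.comp (P : Subgroup G).subtype
  obtain ⟨μ, hμ, hμp⟩ := exists_pPrime_constituent hPχ (n := charDegree (χ : G → ℂ))
    (apply_one_eq_charDegree χ) hχ
  obtain ⟨a, ha⟩ := IsPGroup.iff_card.1 P.2
  have hdeg : charDegree (μ : ↥(P : Subgroup G) → ℂ) = 1 := by
    obtain ⟨b, -, hb⟩ := (Nat.dvd_prime_pow hp.out).1
      (ha ▸ Char.degree_dvd_card μ.2 (apply_one_eq_charDegree μ))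
    rcases b with _ | b
    · simpa using hb
    · exact absurd (hb ▸ dvd_pow_self p b.succ_ne_zero) hμp
  obtain ⟨f, hf⟩ := Char.exists_hom_of_degree_one μ.2.isCharacter
    (by rw [apply_one_eq_charDegree, hdeg, Nat.cast_one])
  have hμD : ∀ x : (P : Subgroup G), (x : G) ∈ D → (μ : ↥(P : Subgroup G) → ℂ) x = 1 := by
    intro x hx
    rw [hD, ← Subgroup.map_subtype_commutator] at hx
    obtain ⟨y, hy, he⟩ := hx
    have : y = x := Subtype.ext he
    subst this
    rw [hf]
    have : commutator (P : Subgroup G) ≤ f.ker := Abelianization.commutator_subset_ker f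
    simp [MonoidHom.mem_ker.1 (this hy)]
  -- the average over the part of `L` in the Sylow subgroup
  set Q : Subgroup (P : Subgroup G) := L.subgroupOf (P : Subgroup G) with hQ
  have hQD : ∀ q ∈ Q, ((q : (P : Subgroup G)) : G) ∈ D := fun q hq => by
    have hmem : (q : G) ∈ N ⊔ D := Subgroup.normalCore_le _ (Subgroup.mem_subgroupOf.1 hq)
    rw [← SetLike.mem_coe, Subgroup.normal_mul] at hmem
    obtain ⟨n, hn, d, hd, he⟩ := hmem
    have hnP : n ∈ (P : Subgroup G) := by
      rw [show n = (q : G) * d⁻¹ by rw [← he, mul_inv_cancel_right]]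
      exact mul_mem q.2 (inv_mem (hDP hd))
    have hn1 : n = 1 := by
      have hnp := not_dvd_card_of_fixedPointFree P hN
      obtain ⟨k, hk⟩ := IsPGroup.iff_orderOf.1 P.2 ⟨n, hnP⟩
      rw [← Subgroup.orderOf_coe] at hk
      rcases k with _ | k
      · simpa using hk
      · exact absurd ((hk ▸ dvd_pow_self p k.succ_ne_zero : p ∣ orderOf n).trans
          (by rw [← Nat.card_zpowers]; exact Subgroup.card_dvd_of_le (Subgroup.zpowers_le.2 hn))) hnp
    rw [← he, hn1]
    show 1 * d ∈ D
    rw [one_mul]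
    exact hd
  have hr := Char.isCharacter_sub_constituent hPχ μ.2 hμ
  obtain ⟨m, hm⟩ := (hr.comp Q.subtype).exists_nat_classInner (Char.isCharacter_one (G := Q))
  have hQsum : ∑ q : Q, (χ : G → ℂ) ((q : (P : Subgroup G)) : G) = (Nat.card Q : ℂ) * (m + 1) := by
    have h1 : ∑ q : Q, ((fun x : (P : Subgroup G) => (χ : G → ℂ) x) -
        (μ : ↥(P : Subgroup G) → ℂ)) q = (Nat.card Q : ℂ) * m := by
      rw [← hm, classInner, ← mul_assoc, mul_inv_cancel₀ Char.card_cast_ne_zero, one_mul]
      exact Finset.sum_congr (by ext; simp) fun q _ => by simp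
    simp only [Pi.sub_apply, Finset.sum_sub_distrib] at h1
    rw [Finset.sum_congr rfl (g := fun _ => (1 : ℂ))
      (fun (q : Q) _ => hμD (q : (P : Subgroup G)) (hQD q q.2)), Finset.sum_const,
      Finset.card_univ, ← Nat.card_eq_fintype_card, nsmul_one, sub_eq_iff_eq_add] at h1
    rw [h1]; ring
  refine (trivial_or_sum_eq_zero L χ).resolve_right (fun h0 => ?_) g hg
  -- `L` is the product of `N` and `Q`
  have hbij : Function.Bijective fun nq : N × Q =>
      (⟨(nq.1 : G) * ((nq.2 : (P : Subgroup G)) : G),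
        mul_mem (hNL nq.1.2) (Subgroup.mem_subgroupOf.1 nq.2.2)⟩ : L) := by
    constructor
    · rintro ⟨n, q⟩ ⟨n', q'⟩ he
      have he' : (n : G) * ((q : (P : Subgroup G)) : G) =
          (n' : G) * ((q' : (P : Subgroup G)) : G) := congrArg Subtype.val he
      have hmem : (n' : G)⁻¹ * n ∈ (P : Subgroup G) := by
        rw [show (n' : G)⁻¹ * n = ((q' : (P : Subgroup G)) : G) * ((q : (P : Subgroup G)) : G)⁻¹ by
          rw [eq_mul_inv_iff_mul_eq, mul_assoc, he', inv_mul_cancel_left]]
        exact mul_mem q'.1.2 (inv_mem q.1.2)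
      have h1 : (n' : G)⁻¹ * n = 1 := by
        obtain ⟨k, hk⟩ := IsPGroup.iff_orderOf.1 P.2 ⟨_, hmem⟩
        rw [← Subgroup.orderOf_coe] at hk
        rcases k with _ | k
        · simpa using hk
        · exact absurd ((hk ▸ dvd_pow_self p k.succ_ne_zero :
            p ∣ orderOf ((n' : G)⁻¹ * n)).trans (by
              rw [← Nat.card_zpowers]
              exact Subgroup.card_dvd_of_le (Subgroup.zpowers_le.2
                (mul_mem (inv_mem n'.2) n.2)))) (not_dvd_card_of_fixedPointFree P hN)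
      have hn : n = n' := Subtype.ext (inv_mul_eq_one.1 h1).symm
      subst hn
      simp only [Prod.mk.injEq, true_and]
      exact Subtype.ext (Subtype.ext (mul_left_cancel he'))
    · rintro ⟨l, hl⟩
      have hl' : l ∈ N ⊔ D := Subgroup.normalCore_le _ hl
      rw [← SetLike.mem_coe, Subgroup.normal_mul] at hl'
      obtain ⟨n, hn, d, hd, he⟩ := hl'
      have hdL : d ∈ L := by
        rw [show d = n⁻¹ * l by rw [← he, inv_mul_cancel_left]]
        exact mul_mem (inv_mem (hNL hn)) hl
      exact ⟨(⟨n, hn⟩, ⟨⟨d, hDP hd⟩, Subgroup.mem_subgroupOf.2 hdL⟩), Subtype.ext he⟩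
  rw [← (Equiv.ofBijective _ hbij).sum_comp, Fintype.sum_prod_type] at h0
  simp only [Equiv.ofBijective_apply] at h0
  rw [Finset.sum_congr rfl (g := fun _ : N => (Nat.card Q : ℂ) * (m + 1)) fun n _ => by
    rw [Finset.sum_congr rfl (g := fun q : Q => (χ : G → ℂ) ((q : (P : Subgroup G)) : G))
      fun q _ => χ.2.isCharacter.apply_mul_of_mem_ker (hNker n n.2) _, hQsum],
    Finset.sum_const, Finset.card_univ, nsmul_eq_mul] at h0
  have h1 : ((Fintype.card N * (Nat.card Q * (m + 1)) : ℕ) : ℂ) = 0 := by push_cast; exact h0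
  rw [Nat.cast_eq_zero] at h1
  have h2 : 0 < Fintype.card N * (Nat.card Q * (m + 1)) :=
    Nat.mul_pos Fintype.card_pos (Nat.mul_pos Nat.card_pos m.succ_pos)
  omega

/-- The common kernel is `p`-nilpotent with fixed-point-free complement. -/
theorem pPrimeKer_le_core {N : Subgroup G}
    (hmax : ∀ L : Subgroup G, L.Normal →
      L ⊓ Subgroup.centralizer ((P : Subgroup G) : Set G) = ⊥ → L ≤ N) :
    pPrimeKer p G ≤ (N ⊔ ⁅(P : Subgroup G), (P : Subgroup G)⁆).normalCore := by
  set K := pPrimeKer p G with hK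
  set π : Set ℕ := {q | q ≠ p} with hπ
  set M₁ := piCoreOf π K with hM₁
  haveI hM₁n : M₁.Normal := Subgroup.normalizer_eq_top_iff.1 (top_unique (by
    have h : Subgroup.normalizer (K : Set G) = ⊤ := Subgroup.normalizer_eq_top_iff.2 inferInstance
    rw [← h]
    exact normalizer_le_normalizer_core K))
  have hM₁N : M₁ ≤ N := hmax M₁ hM₁n (eq_bot_iff.2 fun c hc =>
    Subgroup.mem_bot.2 (eq_one_of_mem_pPrimeKer P (core_le π K hc.1) hc.2 fun h =>
      mem_core_of_isPiSub_cyclic hc.1 p hp.out h rfl))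
  refine Subgroup.normal_le_normalCore.2 ?_
  -- Tate's theorem in `K P`
  set X : Subgroup G := K ⊔ (P : Subgroup G) with hX
  have hPX : (P : Subgroup G) ≤ X := le_sup_right
  have hKX : K ≤ X := le_sup_left
  let PX : Sylow p X := P.subtype hPX
  have hPXc : (PX : Subgroup X) = (P : Subgroup G).subgroupOf X := Sylow.coe_subtype P hPX
  have hres : pResidual p X ≤ K.subgroupOf X := by
    rw [pResidual, Subgroup.closure_le]
    intro x hx
    have hx' : (x : G) ∈ K ⊔ (P : Subgroup G) := x.2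
    rw [← SetLike.mem_coe, Subgroup.normal_mul] at hx'
    obtain ⟨k, hk, y, hy, he⟩ := hx'
    refine Subgroup.mem_subgroupOf.2 ?_
    rw [← QuotientGroup.eq_one_iff]
    have e : ((x : G) : G ⧸ K) = (y : G ⧸ K) := by
      rw [← he, QuotientGroup.mk_mul, (QuotientGroup.eq_one_iff k).2 hk, one_mul]
    obtain ⟨j, hj⟩ := IsPGroup.iff_orderOf.1 P.2 ⟨y, hy⟩
    rw [← Subgroup.orderOf_coe] at hj
    have d1 : orderOf ((x : G) : G ⧸ K) ∣ orderOf x := by
      rw [← Subgroup.orderOf_coe x]
      exact orderOf_map_dvd (QuotientGroup.mk' K) (x : G)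
    have d2 : orderOf ((x : G) : G ⧸ K) ∣ p ^ j := by
      rw [e, ← hj]
      exact orderOf_map_dvd (QuotientGroup.mk' K) y
    exact orderOf_eq_one_iff.1 (Nat.eq_one_of_dvd_coprimes (Nat.Coprime.pow_right j hx) d1 d2)
  have hbot : (pResidual p (PX : Subgroup X)).map (PX : Subgroup X).subtype = ⊥ := by
    have h : pResidual p (PX : Subgroup X) = ⊥ := by
      rw [eq_bot_iff, pResidual, Subgroup.closure_le]
      intro x hx
      obtain ⟨j, hj⟩ := IsPGroup.iff_orderOf.1 PX.2 x
      rcases j with _ | j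
      · simpa using hj
      · have := Nat.Coprime.coprime_dvd_left (hj ▸ dvd_pow_self p j.succ_ne_zero) hx
        exact absurd (Nat.coprime_self p |>.1 this) hp.out.ne_one
    rw [h, Subgroup.map_bot]
  have hle : pResidual p X ⊓ (PX : Subgroup X) ≤
      (frattini PX).map (PX : Subgroup X).subtype := by
    intro x hx
    have hxP : (x : G) ∈ (P : Subgroup G) := by
      have := hx.2; rw [hPXc] at this; exact this
    have hxD := pPrimeKer_inf_sylow_le P
      (Subgroup.mem_inf.2 ⟨Subgroup.mem_subgroupOf.1 (hres hx.1), hxP⟩)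
    have hmap : ((commutator (PX : Subgroup X)).map (PX : Subgroup X).subtype).map X.subtype =
        ⁅(P : Subgroup G), (P : Subgroup G)⁆ := by
      rw [Subgroup.map_subtype_commutator, Subgroup.map_commutator, hPXc,
        Subgroup.map_subgroupOf_eq_of_le hPX]
    rw [← hmap] at hxD
    obtain ⟨z, hz, he⟩ := hxD
    have : z = x := Subtype.ext he
    subst this
    exact Subgroup.map_mono (PGroup.commutator_le_frattini PX.2) hz
  have hT := Fusion.tate PX (PX : Subgroup X) le_rfl (hle.trans le_sup_left)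
  rw [hbot, bot_inf_eq] at hT
  -- the residual is a normal `p'`-subgroup inside the kernel
  set R : Subgroup G := (pResidual p X).map X.subtype with hR
  have hRK : R ≤ K := by
    rintro _ ⟨x, hx, rfl⟩
    exact hres hx
  have hRM : R ≤ M₁ := by
    refine le_core hRK (fun k hk => ?_) fun q hq hd hqp => ?_
    · have hn : (pResidual p X).Normal := inferInstance
      refine Subgroup.mem_normalizer_iff.2 fun h => ⟨?_, ?_⟩
      · rintro ⟨x, hx, rfl⟩
        exact ⟨⟨k, hKX hk⟩ * x * ⟨k, hKX hk⟩⁻¹, hn.conj_mem x hx _, rfl⟩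
      · rintro ⟨x, hx, he⟩
        refine ⟨⟨k, hKX hk⟩⁻¹ * x * ⟨k, hKX hk⟩⁻¹⁻¹, hn.conj_mem x hx _, ?_⟩
        show k⁻¹ * (x : G) * k⁻¹⁻¹ = h
        rw [show (x : G) = k * h * k⁻¹ from he]
        group
    · subst hqp
      rw [hR, Subgroup.card_map_of_injective X.subtype_injective] at hd
      obtain ⟨y, hy⟩ := exists_prime_orderOf_dvd_card' q hd
      rw [← Subgroup.orderOf_coe] at hy
      obtain ⟨S, hS⟩ := (IsPGroup.of_card (n := 1)
        (show Nat.card (Subgroup.zpowers (y : X)) = q ^ 1 by rw [Nat.card_zpowers, hy, pow_one]))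
        |>.exists_le_sylow
      obtain ⟨g, hg⟩ := MulAction.exists_smul_eq X S PX
      have hmem : g * (y : X) * g⁻¹ ∈ pResidual q X ⊓ (PX : Subgroup X) := by
        refine ⟨(inferInstance : (pResidual q X).Normal).conj_mem _ y.2 g, ?_⟩
        rw [← hg]
        exact ⟨(y : X), hS (Subgroup.mem_zpowers _), rfl⟩
      rw [hT, Subgroup.mem_bot, mul_inv_eq_one, mul_eq_left] at hmem
      rw [hmem, orderOf_one] at hy
      exact hp.out.ne_one hy.symm
  -- conclude
  intro g hg
  obtain ⟨x, hx, m, hm, he⟩ := Fusion.exists_mul_of_sylow PX ⟨g, hKX hg⟩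
  have he' : g = (x : G) * (m : G) := congrArg Subtype.val he
  have hxP : (x : G) ∈ (P : Subgroup G) := by rw [hPXc] at hx; exact hx
  have hmR : (m : G) ∈ R := ⟨m, hm, rfl⟩
  have hxK : (x : G) ∈ K := by
    rw [show (x : G) = g * (m : G)⁻¹ by rw [he', mul_inv_cancel_right]]
    exact mul_mem hg (inv_mem (hRK hmR))
  rw [he']
  exact mul_mem (Subgroup.mem_sup_right (pPrimeKer_inf_sylow_le P ⟨hxK, hxP⟩))
    (Subgroup.mem_sup_left (hM₁N (hRM hmR)))

end

end Cfsg.Lib.Block
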