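import Cfsg.Agent.Lib.Block.LocalTransfer

/-!
# The correspondence of blocks over a subgroup containing the normalizer
-/

set_option autoImplicit false
set_option linter.unusedSectionVars false
set_option maxHeartbeats 800000

namespace Cfsg.Lib.Block

open Cfsg

universe u

variable {p : ℕ} {M : Ideal AlgInt} {G : Type u} [Group G] [Fintype G] [Fact p.Prime]

noncomputable local instance (priority := high) fintypeSubgroupCorrespondence {A : Type u}
    [Group A] [Fintype A] (H : Subgroup A) : Fintype H := Fintype.ofFinite H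

local notation "C[" Q "]" => Subgroup.centralizer (SetLike.coe Q)

variable (hM : IsPModular p M)

include hM in
/-- A pair is maximal when no pair lies properly and normally over it. -/
theorem maximal_iff_no_normal {B : Set (IrrCharacter G)} {P : Subgroup G}
    {f : Set (IrrCharacter C[P])} (hpair : IsBrauerPairOf p M B P f) :
    IsMaximalBrauerPair p M B P f ↔ ∀ (S : Subgroup G) (g : Set (IrrCharacter C[S])),
      IsNormalSubpair p M P f S g → S = P := by
  constructor
  · exact fun h S g hn => h.2 S g ((isBrauerPairOf_iff_of_normal hM hn B).2 hpair)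
      (Relation.ReflTransGen.single hn)
  · intro h
    refine ⟨hpair, fun R g _ hle => ?_⟩
    rcases first_step hM hle with he | ⟨c, hlt, hrel, -⟩
    · exact (congrArg Sigma.fst he).symm
    · exact absurd (h c.1 c.2 hrel) hlt.ne'

include hM in
/-- Residually equal idempotents agree modulo the ideal. -/
theorem vSmall_sub_of_res_eq {C : Subgroup G} {v w : IrrCharacter C → ℂ} (hv : VInt hM v)
    (hw : VInt hM w) (hvi : VSmall M (v * v - v)) (hwi : VSmall M (w * w - w))
    (h : ∀ ξ, res hM (v ξ) = 1 ↔ res hM (w ξ) = 1) : VSmall M (v - w) := by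
  classical
  haveI : Fintype {f : Set (IrrCharacter C) // IsPBlock M f} := Fintype.ofFinite _
  have e : v - w = ∑ f : {f : Set (IrrCharacter C) // IsPBlock M f},
      (v * indVec f.1 - w * indVec f.1) := by
    rw [Finset.sum_sub_distrib, ← Finset.mul_sum, ← Finset.mul_sum, sum_indVec_blocks hM,
      mul_one, mul_one]
  intro g
  rw [e, zc_sum]
  refine memLocalIdeal_sum hM _ _ fun f _ => ?_
  obtain ⟨η, hη⟩ := nonempty_of_isPBlock hM f.2
  have h1 := vSmall_mul_indVec hM hv hvi f.2 hη
  have h2 := vSmall_mul_indVec hM hw hwi f.2 hη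
  by_cases hc : res hM (v η) = 1
  · rw [if_pos hc] at h1
    rw [if_pos ((h η).1 hc)] at h2
    have h3 := vSmall_sub hM h1 h2 g
    rwa [sub_sub_sub_cancel_right] at h3
  · rw [if_neg hc] at h1
    rw [if_neg (fun h' => hc ((h η).2 h'))] at h2
    have h3 := vSmall_sub hM h1 h2 g
    rwa [sub_sub_sub_cancel_right] at h3

theorem apply_conjIso_of_inv {C : Subgroup G} {x : G} (hx : ConjMaps x C C)
    {v : IrrCharacter C → ℂ} (hv : ∀ g : G, extF C v (x * g * x⁻¹) = extF C v g)
    (ξ : IrrCharacter C) : v (compIrr (conjIso hx) ξ) = v ξ := by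
  conv_rhs => rw [← congrFun (vec_zc v) ξ]
  rw [vec_conjIso hx (F := zc v) (fun k => ?_) ξ, congrFun (vec_zc v)]
  rw [← extF_coe, ← extF_coe]
  exact hv (k : G)

theorem brauerOmega_eq_trV {H P : Subgroup G} (c : Set (IrrCharacter H))
    (ξ : IrrCharacter C[P]) :
    brauerOmega P (subgroupBlockCoeff H c) (ξ : C[P] → ℂ) = trV C[P] H (indVec c) ξ := by
  rw [brauerOmega, finsum_eq_sum_of_fintype, trV, vec, Finset.sum_div]
  exact Finset.sum_congr rfl fun x _ => by rw [extF_indVec]

variable {H : Subgroup G} {P' : Subgroup H}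

include hM in
theorem res_trV_eq_one_iff_mem (hC : C[P'.map H.subtype] ≤ H) {c : Set (IrrCharacter H)}
    (hc : IsPBlock M c) (hP : IsPGroup p P') {f : Set (IrrCharacter C[P'.map H.subtype])}
    (hf : IsPBlock M f) :
    IsBrauerPairOf p M c P' (pullSet (cenUp P' hC) f) ↔
      ∀ ξ ∈ f, res hM (trV C[P'.map H.subtype] H (indVec c) ξ) = 1 := by
  have key : ∀ ξ : IrrCharacter C[P'.map H.subtype],
      brauerOmega P' (blockCoeff c) (compIrr (cenUp P' hC) ξ : _ → ℂ) =
        trV C[P'.map H.subtype] H (indVec c) ξ := fun ξ => by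
    rw [brauerOmega_up hC (β := subgroupBlockCoeff H c)
      (fun x => by rw [subgroupBlockCoeff, dif_pos x.2]), brauerOmega_eq_trV]
  have hI : VInt hM (trV C[P'.map H.subtype] H (indVec c)) :=
    vInt_trV hM hC (vInt_indVec hM hc)
  constructor
  · rintro ⟨-, -, hs⟩ ξ hξ
    have h1 := hs _ (mem_pullSet.2 hξ)
    rw [key, ← res_eq_iff hM (apply_mem_locRing hM hI ξ) (one_mem _), res_one] at h1
    exact h1
  · intro hs
    refine ⟨⟨hP, isPBlock_pullSet _ hf⟩, hc, fun η hη => ?_⟩
    rw [← compIrr_compIrr_symm (cenUp P' hC) η, key,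
      ← res_eq_iff hM (apply_mem_locRing hM hI _) (one_mem _), res_one]
    exact hs _ hη

include hM in
theorem normal_up_iff (hC : C[P'.map H.subtype] ≤ H) {S' : Subgroup H}
    (hS : C[S'.map H.subtype] ≤ H) (f : Set (IrrCharacter C[P'.map H.subtype]))
    (g : Set (IrrCharacter C[S'.map H.subtype])) :
    IsNormalSubpair p M P' (pullSet (cenUp P' hC) f) S' (pullSet (cenUp S' hS) g) ↔
      IsNormalSubpair p M (P'.map H.subtype) f (S'.map H.subtype) g := by
  have hpb : ∀ {U' : Subgroup H} (hU : C[U'.map H.subtype] ≤ H)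
      (u : Set (IrrCharacter C[U'.map H.subtype])),
      IsBrauerPair p M U' (pullSet (cenUp U' hU) u) ↔
        IsBrauerPair p M (U'.map H.subtype) u := by
    intro U' hU u
    refine and_congr ⟨fun h => h.map _, fun h =>
      h.of_equiv (U'.equivMapOfInjective H.subtype H.subtype_injective).symm⟩
      ⟨fun h => ?_, fun h => isPBlock_pullSet _ h⟩
    rw [← pullSet_symm (cenUp U' hU) u]
    exact isPBlock_pullSet _ h
  have hco : ∀ x : H, subgroupBlockCoeff C[P'.map H.subtype] f (x : G) =
      subgroupBlockCoeff (Subgroup.centralizer (P' : Set H)) (pullSet (cenUp P' hC) f) x := by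
    intro x
    rw [← subgroupBlockCoeff_upBlock hC]
    rw [show upBlock P' hC (pullSet (cenUp P' hC) f) = f from pullSet_symm _ _]
  have hnorm : ∀ x : H, x ∈ Subgroup.normalizer (P' : Set H) ↔
      (x : G) ∈ Subgroup.normalizer (P'.map H.subtype : Set G) := by
    intro x
    refine ⟨fun hx => Subgroup.le_normalizer_map H.subtype ⟨x, hx, rfl⟩, fun hx => ?_⟩
    refine Subgroup.mem_normalizer_iff.2 fun y => ?_
    rw [← Subgroup.mem_map_iff_mem H.subtype_injective,
      ← Subgroup.mem_map_iff_mem H.subtype_injective (x := x * y * x⁻¹)]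
    exact Subgroup.mem_normalizer_iff.1 hx (y : G)
  have hstab : ∀ x : H, x ∈ Subgroup.normalizer (P' : Set H) →
      (StabilizesBlock (Subgroup.centralizer (P' : Set H)) (pullSet (cenUp P' hC) f) x ↔
        StabilizesBlock C[P'.map H.subtype] f (x : G)) := by
    intro x hx
    rw [stabilizesBlock_iff_coeff (mem_normalizer_centralizer hx),
      stabilizesBlock_iff_coeff (mem_normalizer_centralizer ((hnorm x).1 hx))]
    constructor
    · intro hs y
      by_cases hy : y ∈ H
      · have e1 := hs ⟨y, hy⟩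
        rw [← hco, ← hco] at e1
        exact e1
      · have e2 : (x : G) * y * (x : G)⁻¹ ∉ C[P'.map H.subtype] := fun hh => hy (by
          simpa [mul_assoc] using mul_mem (mul_mem (inv_mem x.2) (hC hh)) x.2)
        rw [subgroupBlockCoeff, subgroupBlockCoeff, dif_neg e2, dif_neg fun hh => hy (hC hh)]
    · intro hs y
      rw [← hco, ← hco]
      exact hs (y : G)
  constructor
  · rintro ⟨h1, h2, hle, hN, hst, hs⟩
    refine ⟨(hpb hC f).1 h1, (hpb hS g).1 h2, Subgroup.map_mono hle, ?_, ?_, fun ξ hξ => ?_⟩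
    · exact (Subgroup.map_mono hN).trans (Subgroup.le_normalizer_map _)
    · rintro _ ⟨x, hx, rfl⟩
      exact (hstab x (hN hx)).1 (hst x hx)
    · have h := hs _ (mem_pullSet.2 hξ)
      rwa [brauerOmega_up hS hco] at h
  · rintro ⟨h1, h2, hle, hN, hst, hs⟩
    refine ⟨(hpb hC f).2 h1, (hpb hS g).2 h2,
      (Subgroup.map_le_map_iff_of_injective H.subtype_injective).1 hle,
      fun x hx => (hnorm x).2 (hN ⟨x, hx, rfl⟩), fun x hx => ?_, fun η hη => ?_⟩
    · exact (hstab x ((hnorm x).2 (hN ⟨x, hx, rfl⟩))).2 (hst _ ⟨x, hx, rfl⟩)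
    · rw [← compIrr_compIrr_symm (cenUp S' hS) η, brauerOmega_up hS hco]
      exact hs _ hη

include hM in
/-- Maximality of a pair is the same inside a subgroup containing the normalizer. -/
theorem maximal_up_iff (hN : Subgroup.normalizer (P'.map H.subtype : Set G) ≤ H)
    (hC : C[P'.map H.subtype] ≤ H) {B : Set (IrrCharacter G)} {c : Set (IrrCharacter H)}
    {f : Set (IrrCharacter C[P'.map H.subtype])}
    (hBf : IsBrauerPairOf p M B (P'.map H.subtype) f)
    (hcf : IsBrauerPairOf p M c P' (pullSet (cenUp P' hC) f)) :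
    IsMaximalBrauerPair p M c P' (pullSet (cenUp P' hC) f) ↔
      IsMaximalBrauerPair p M B (P'.map H.subtype) f := by
  rw [maximal_iff_no_normal hM hcf, maximal_iff_no_normal hM hBf]
  constructor
  · intro h S g hn
    obtain ⟨S', rfl⟩ : ∃ S' : Subgroup H, S'.map H.subtype = S :=
      ⟨S.subgroupOf H, Subgroup.map_subgroupOf_eq_of_le (hn.2.2.2.1.trans hN)⟩
    have hS : C[S'.map H.subtype] ≤ H :=
      (Subgroup.centralizer_le (SetLike.coe_subset_coe.2 hn.2.2.1)).trans hC
    rw [h S' _ ((normal_up_iff hM hC hS f g).2 hn)]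
  · intro h S' g' hn
    have hS : C[S'.map H.subtype] ≤ H :=
      (Subgroup.centralizer_le
        (SetLike.coe_subset_coe.2 (Subgroup.map_mono hn.2.2.1))).trans hC
    refine Subgroup.map_injective H.subtype_injective (h _ (upBlock S' hS g') ?_)
    refine (normal_up_iff hM hC hS f _).1 ?_
    rwa [show pullSet (cenUp S' hS) (upBlock S' hS g') = g' from
      pullSet_symm (cenUp S' hS).symm g']

include hM in
/-- Blocks with a common maximal pair have the same Brauer image. -/
theorem brauer_agree_of_common (hN : Subgroup.normalizer (P'.map H.subtype : Set G) ≤ H)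
    (hC : C[P'.map H.subtype] ≤ H) {B : Set (IrrCharacter G)} {c : Set (IrrCharacter H)}
    {f : Set (IrrCharacter C[P'.map H.subtype])}
    (hmB : IsMaximalBrauerPair p M B (P'.map H.subtype) f)
    (hmc : IsMaximalBrauerPair p M c P' (pullSet (cenUp P' hC) f)) (x : G)
    (hx : x ∈ C[P'.map H.subtype]) :
    MemLocalIdeal M (blockCoeff B x - subgroupBlockCoeff H c x) := by
  classical
  obtain ⟨hPp, hB, hsB⟩ := (isBrauerPairOf_iff_brU hM B _ f).1 hmB.1
  have hc := hmc.1.2.1
  have hP' := hmc.1.1.1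
  let w : IrrCharacter C[P'.map H.subtype] → ℂ := trV C[P'.map H.subtype] H (indVec c)
  have hwI : VInt hM w := vInt_trV hM hC (vInt_indVec hM hc)
  have hwid : VSmall M (w * w - w) := vSmall_trV_idem hM hPp.1 rfl hC (vInt_indVec hM hc)
    (invOn_mono (Subgroup.map_subtype_le P') (invOn_self _))
    (by rw [indVec_mul_indVec, Set.inter_self, sub_self]; exact vSmall_zero hM)
  have hwinv : InvOn (Subgroup.normalizer (P'.map H.subtype : Set G)) C[P'.map H.subtype] w :=
    invOn_trV hC (invOn_mono hN (invOn_self _)) fun y hy => normalizer_le_conjMaps hy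
  have hsc := (res_trV_eq_one_iff_mem hM hC hc hP' hPp.2).1 hmc.1
  have key : ∀ ξ : IrrCharacter C[P'.map H.subtype],
      res hM (brU (P'.map H.subtype) B ξ) = 1 ↔ res hM (w ξ) = 1 := by
    intro ξ
    have hg := isPBlock_blockOf (M := M) ξ
    constructor
    · intro h1
      have hgB : IsBrauerPairOf p M B (P'.map H.subtype) (blockOf M (ξ : _ → ℂ)) :=
        (isBrauerPairOf_iff_brU hM B _ _).2 ⟨⟨hPp.1, hg⟩, hB, fun η hη =>
          (res_apply_eq hM (vInt_brU hM _ hB)
            (sameBlock_of_mem hM hg hη (self_mem_blockOf hM ξ))).trans h1⟩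
      obtain ⟨y, hy, he⟩ := exists_conj_of_maximal hM hmB hgB
      have hyN : y ∈ Subgroup.normalizer (P'.map H.subtype : Set G) := by
        refine Subgroup.mem_normalizer_iff.2 fun a => ⟨fun ha => hy ▸ ⟨a, ha, rfl⟩, fun ha => ?_⟩
        rw [← hy] at ha
        obtain ⟨b, hb, hba⟩ := ha
        rwa [← (MulAut.conj y).injective hba]
      have hmem : compIrr (conjIso (conjMaps_centralizer hy)) ξ ∈ f := by
        have := self_mem_blockOf hM ξ
        rw [he] at this
        exact this
      rw [← apply_conjIso_of_inv (conjMaps_centralizer hy) (v := w) (hwinv y hyN) ξ]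
      exact hsc _ hmem
    · intro h1
      have hgc : IsBrauerPairOf p M c P' (pullSet (cenUp P' hC) (blockOf M (ξ : _ → ℂ))) :=
        (res_trV_eq_one_iff_mem hM hC hc hP' hg).2 fun η hη =>
          (res_apply_eq hM hwI
            (sameBlock_of_mem hM hg hη (self_mem_blockOf hM ξ))).trans h1
      obtain ⟨y, hy, he⟩ := exists_conj_of_maximal hM hmc hgc
      have hy' : (P'.map H.subtype).map (MulAut.conj (y : G)).toMonoidHom = P'.map H.subtype := by
        rw [map_subtype_conj, hy]
      have hyN : (y : G) ∈ Subgroup.normalizer (P'.map H.subtype : Set G) := by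
        refine Subgroup.mem_normalizer_iff.2 fun a => ⟨fun ha => hy' ▸ ⟨a, ha, rfl⟩, fun ha => ?_⟩
        rw [← hy'] at ha
        obtain ⟨b, hb, hba⟩ := ha
        rwa [← (MulAut.conj (y : G)).injective hba]
      have hmem : compIrr (conjIso (conjMaps_centralizer hy')) ξ ∈ f := by
        have h2 : compIrr (cenUp P' hC) ξ ∈
            pullSet (cenUp P' hC) (blockOf M (ξ : _ → ℂ)) :=
          mem_pullSet.2 (self_mem_blockOf hM ξ)
        rw [he] at h2
        exact h2
      rw [← apply_conjIso_of_inv (conjMaps_centralizer hy') (v := brU (P'.map H.subtype) B)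
        (invOn_brU _ B (y : G) hyN) ξ]
      exact hsB _ hmem
  have hsmall := vSmall_sub_of_res_eq hM (vInt_brU hM _ hB) hwI (vSmall_brU_idem hM hPp.1 hB)
    hwid key ⟨x, hx⟩
  rw [zc_sub, ← extF_coe, ← extF_coe, extF_brU, if_pos hx, extF_trV_of_mem hC _ hx,
    extF_indVec] at hsmall
  exact hsmall

include hM in
/-- Blocks with the same Brauer image have the same pairs. -/
theorem pair_iff_of_agree (hC : C[P'.map H.subtype] ≤ H) (hP : IsPGroup p P')
    {B : Set (IrrCharacter G)} (hB : IsPBlock M B) {c : Set (IrrCharacter H)}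
    (hc : IsPBlock M c)
    (hagree : ∀ x : G, x ∈ C[P'.map H.subtype] →
      MemLocalIdeal M (blockCoeff B x - subgroupBlockCoeff H c x))
    {f : Set (IrrCharacter C[P'.map H.subtype])} (hf : IsPBlock M f) :
    IsBrauerPairOf p M B (P'.map H.subtype) f ↔
      IsBrauerPairOf p M c P' (pullSet (cenUp P' hC) f) := by
  classical
  have hwI : VInt hM (trV C[P'.map H.subtype] H (indVec c)) :=
    vInt_trV hM hC (vInt_indVec hM hc)
  have hsm : VSmall M (brU (P'.map H.subtype) B - trV C[P'.map H.subtype] H (indVec c)) := by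
    intro h
    rw [zc_sub, ← extF_coe, ← extF_coe, extF_brU, if_pos h.2, extF_trV_of_mem hC _ h.2,
      extF_indVec]
    exact hagree _ h.2
  have e := res_eq_of_vSmall_sub hM (vInt_brU hM _ hB) hwI hsm
  rw [res_trV_eq_one_iff_mem hM hC hc hP hf, isBrauerPairOf_iff_brU hM]
  exact ⟨fun h ξ hξ => (e ξ).symm.trans (h.2.2 ξ hξ),
    fun h => ⟨⟨hP.map _, hf⟩, hB, fun ξ hξ => (e ξ).trans (h ξ hξ)⟩⟩

include hM in
/-- A pair exists at every defect group. -/
theorem exists_pair_at_defect {A : Type u} [Group A] [Fintype A] {B : Set (IrrCharacter A)}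
    {D : Subgroup A} (hB : IsPBlock M B) (hD : IsDefectGroup p M B D) :
    ∃ f, IsMaximalBrauerPair p M B D f := by
  obtain ⟨f, hf⟩ := (exists_pair_iff hM hB hD (isPGroup_defectGroup hM hD)).2
    ⟨1, (map_conj_one D).le⟩
  exact ⟨f, maximal_of_defectGroup hM hf hD⟩

include hM in
/-- The Brauer correspondence over a subgroup containing the normalizer. -/
theorem correspondence_over (hN : Subgroup.normalizer (P'.map H.subtype : Set G) ≤ H)
    (hP : IsPGroup p P') :
    (∀ B : Set (IrrCharacter G), IsPBlock M B → IsDefectGroup p M B (P'.map H.subtype) →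
      ∃! c : Set (IrrCharacter H), IsPBlock M c ∧ IsDefectGroup p M c P' ∧
        ∀ x : G, x ∈ C[P'.map H.subtype] →
          MemLocalIdeal M (blockCoeff B x - subgroupBlockCoeff H c x)) ∧
    (∀ c : Set (IrrCharacter H), IsPBlock M c → IsDefectGroup p M c P' →
      ∃! B : Set (IrrCharacter G), IsPBlock M B ∧ IsDefectGroup p M B (P'.map H.subtype) ∧
        ∀ x : G, x ∈ C[P'.map H.subtype] →
          MemLocalIdeal M (blockCoeff B x - subgroupBlockCoeff H c x)) := by
  have hC : C[P'.map H.subtype] ≤ H := (Subgroup.centralizer_le_normalizer _).trans hN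
  constructor
  · intro B hB hD
    obtain ⟨f, hmB⟩ := exists_pair_at_defect hM hB hD
    obtain ⟨c, hcf⟩ := exists_block_of_pair hM
      (⟨hP, isPBlock_pullSet (cenUp P' hC) hmB.1.1.2⟩ :
        IsBrauerPair p M P' (pullSet (cenUp P' hC) f))
    have hmc := (maximal_up_iff hM hN hC hmB.1 hcf).2 hmB
    refine ⟨c, ⟨hcf.2.1, isDefectGroup_of_maximal hM hmc,
      fun x hx => brauer_agree_of_common hM hN hC hmB hmc x hx⟩, ?_⟩
    rintro c' ⟨hc', -, hag⟩
    exact block_eq_of_pair hM
      ((pair_iff_of_agree hM hC hP hB hc' hag hmB.1.1.2).1 hmB.1) hcf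
  · intro c hc hD
    obtain ⟨f', hmc⟩ := exists_pair_at_defect hM hc hD
    have hpull : pullSet (cenUp P' hC) (upBlock P' hC f') = f' :=
      pullSet_symm (cenUp P' hC).symm f'
    obtain ⟨B, hBf⟩ := exists_block_of_pair hM (isBrauerPair_upBlock hC hmc.1.1)
    rw [← hpull] at hmc
    have hmB := (maximal_up_iff hM hN hC hBf hmc.1).1 hmc
    refine ⟨B, ⟨hBf.2.1, isDefectGroup_of_maximal hM hmB,
      fun x hx => brauer_agree_of_common hM hN hC hmB hmc x hx⟩, ?_⟩
    rintro B' ⟨hB', -, hag⟩
    exact block_eq_of_pair hM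
      ((pair_iff_of_agree hM hC hP hB' hc hag hBf.1.2).2 hmc.1) hBf

end Cfsg.Lib.Block
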