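import Cfsg.Agent.Lib.Block.CyclicPrimeApps
import Cfsg.Agent.Lib.Block.Correspondence
import Cfsg.Agent.Lib.Char.Ito

/-!
# The number of characters of degree prime to `p` for a Sylow subgroup of order `p`
-/

set_option autoImplicit false
set_option linter.unusedSectionVars false
set_option maxHeartbeats 1000000

namespace Cfsg.Lib.Block

open Cfsg
open scoped ComplexConjugate

universe u

noncomputable local instance (priority := high) fintypeSubgroupCyclicPrimeCount {A : Type u}
    [Group A] [Fintype A] (H : Subgroup A) : Fintype H := Fintype.ofFinite H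

local notation "C[" P "]" => Subgroup.centralizer (SetLike.coe P)

variable {p : ℕ} [Fact p.Prime] {G : Type u} [Group G] [Fintype G]

/-- The characters of the centralizer trivial on `P`. -/
def TrivOn (P : Subgroup G) : Type u :=
  {θ : IrrCharacter C[P] // ∀ z : C[P], (z : G) ∈ P → (θ : C[P] → ℂ) z = (θ : C[P] → ℂ) 1}

/-- The elements of the normalizer fixing a character of the centralizer. -/
def fixers (P : Subgroup G) (θ : IrrCharacter C[P]) : Set G :=
  {g | g ∈ Subgroup.normalizer (P : Set G) ∧ ∀ c c' : C[P], (c' : G) = g * c * g⁻¹ →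
    (θ : C[P] → ℂ) c' = (θ : C[P] → ℂ) c}

noncomputable instance fintypeTrivOn (P : Subgroup G) : Fintype (TrivOn P) :=
  Fintype.ofFinite {θ : IrrCharacter C[P] // _}

/-- A count depending only on the action of the normalizer on these characters. -/
noncomputable def rootWeight (p : ℕ) (P : Subgroup G) : ℕ :=
  ∑ θ : TrivOn P, (Nat.card (fixers P θ.1) ^ 2 + (p - 1) * Nat.card C[P] ^ 2)

variable {M : Ideal AlgInt} (hM : IsPModular p M) (P : Sylow p G)
  (hcard : Nat.card (P : Subgroup G) = p)

theorem sylow_factorization (hcard : Nat.card (P : Subgroup G) = p) :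
    (Nat.card G).factorization p = 1 := by
  have h := P.card_eq_multiplicity
  rw [hcard] at h
  exact (Nat.pow_right_injective (Fact.out : p.Prime).two_le ((pow_one p).trans h)).symm

include hM hcard

/-- A block of positive defect has defect group `P`. -/
theorem isDefectGroup_of_pos {B : Set (IrrCharacter G)} (hB : IsPBlock M B)
    (hd : blockDefect p B ≠ 0) : IsDefectGroup p M B P := by
  obtain ⟨D, hD⟩ := exists_defectGroup hM hB
  have hc := card_defectGroup hM hB hD
  have hle : blockDefect p B ≤ 1 := by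
    have := blockDefect_add_minVal (p := p) (nonempty_of_isPBlock hM hB)
    rw [sylow_factorization P hcard] at this
    omega
  have h1 : blockDefect p B = 1 := by omega
  rw [h1, ← sylow_factorization P hcard] at hc
  let D' : Sylow p G := Sylow.ofCard D hc
  obtain ⟨x, hx⟩ := MulAction.exists_smul_eq G D' P
  have h := isDefectGroup_conj hM hB hD x
  rwa [← hx, Sylow.coe_subgroup_smul]

theorem centralizer_factorization :
    (Nat.card C[(P : Subgroup G)]).factorization p = 1 := by
  refine le_antisymm ?_ ?_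
  · rw [← sylow_factorization P hcard]
    exact (Nat.factorization_le_iff_dvd Nat.card_pos.ne' Nat.card_pos.ne').2
      (Subgroup.card_subgroup_dvd_card _) p
  · refine Nat.Prime.factorization_pos_of_dvd Fact.out Nat.card_pos.ne' ?_
    have h := Subgroup.card_dvd_of_le (le_centralizer_self hcard)
    exact hcard.symm.dvd.trans h

/-- The block of a character trivial on `P` has positive defect. -/
theorem trivial_defect_ne_zero (θ : TrivOn (P : Subgroup G)) :
    blockDefect p (blockOf M (θ.1 : C[(P : Subgroup G)] → ℂ)) ≠ 0 := by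
  intro h0
  set b := blockOf M (θ.1 : C[(P : Subgroup G)] → ℂ)
  obtain ⟨χ, hb, hdeg⟩ := (blockDefect_eq_zero_iff hM (isPBlock_blockOf θ.1)).1 h0
  have hθb : θ.1 ∈ b := self_mem_blockOf hM θ.1
  obtain rfl : θ.1 = χ := by
    have : θ.1 ∈ ({χ} : Set _) := hb ▸ hθb
    simpa using this
  rw [centralizer_factorization hM P hcard] at hdeg
  set Q := (P : Subgroup G).subgroupOf C[(P : Subgroup G)]
  haveI : Q.Normal := ⟨fun z hz g => by
    rwa [Subgroup.mem_center_iff.1 (subgroupOf_le_center_centralizer hz) g, mul_inv_cancel_right]⟩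
  have hdvd : charDegree (θ.1 : C[(P : Subgroup G)] → ℂ) ∣ Q.index :=
    Char.degree_dvd_index_of_comm Q (fun a ha b _ =>
      (Subgroup.mem_center_iff.1 (subgroupOf_le_center_centralizer ha) b).symm) θ.1.2
      (apply_one_eq_charDegree θ.1)
  have h1 := (Nat.factorization_le_iff_dvd (charDegree_pos _).ne'
    Subgroup.index_ne_zero_of_finite).2 hdvd p
  have h2 := congrArg (fun x => x.factorization p) Q.card_mul_index
  have hQ : Nat.card Q = p := by
    rw [Nat.card_congr (Subgroup.subgroupOfEquivOfLe (le_centralizer_self hcard)).toEquiv, hcard]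
  rw [Nat.factorization_mul Nat.card_pos.ne' Subgroup.index_ne_zero_of_finite, Finsupp.add_apply,
    hQ, (Fact.out : p.Prime).factorization_self, centralizer_factorization hM P hcard] at h2
  omega

/-- The block induced by the block of a character trivial on `P`. -/
theorem exists_block_of_trivial (θ : TrivOn (P : Subgroup G)) :
    ∃ B, IsInducedBlock M C[(P : Subgroup G)] (blockOf M (θ.1 : C[(P : Subgroup G)] → ℂ)) B ∧
      IsDefectGroup p M B P := by
  obtain ⟨B, hB⟩ := exists_isInducedBlock hM P.2 (le_centralizer_self hcard) le_rfl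
    (Subgroup.centralizer_le_normalizer _) (isPBlock_blockOf θ.1)
  exact ⟨B, hB, isDefectGroup_of_pos hM P hcard hB.2.1 fun h =>
    trivial_defect_ne_zero hM P hcard θ ((blockDefect_eq_zero_iff_of_induced hM hB).2 h)⟩

open Classical in
/-- In one block: all degrees are prime to `p`, and the weights of its roots add up. -/
theorem block_count {B : Set (IrrCharacter G)} (hB : IsPBlock M B)
    (hD : IsDefectGroup p M B P) (Φ : Finset (TrivOn (P : Subgroup G)))
    (hΦ : ∀ θ, θ ∈ Φ ↔ IsInducedBlock M C[(P : Subgroup G)]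
      (blockOf M (θ.1 : C[(P : Subgroup G)] → ℂ)) B) :
    (∀ χ ∈ B, ¬ p ∣ charDegree (χ : G → ℂ)) ∧
      Nat.card B * ((C[(P : Subgroup G)]).relIndex (Subgroup.normalizer ((P : Subgroup G) : Set G)) *
        Nat.card C[(P : Subgroup G)] ^ 2) =
      ∑ θ ∈ Φ, (Nat.card (fixers (P : Subgroup G) θ.1) ^ 2 +
        (p - 1) * Nat.card C[(P : Subgroup G)] ^ 2) := by
  obtain ⟨f, hmax⟩ := exists_pair_at_defect hM hB hD
  have hind0 : IsInducedBlock M C[(P : Subgroup G)] f B :=
    (isBrauerPairOf_iff_induced hM P.2 le_rfl (le_centralizer_self hcard)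
      (Subgroup.centralizer_le_normalizer _) (fun v => invOn_self v) hmax.1.1.2 hmax.1.1.2
      (fun _ => rfl) hB).1 hmax.1
  obtain ⟨θ, hθ, hθP⟩ := root_exists_trivial hM hB hD hcard hind0
  have hind : IsInducedBlock M C[(P : Subgroup G)] f B := hind0
  have Dsys := cycSystem hM hB hD hcard hind
  let T : Subgroup G :=
    { carrier := fixers (P : Subgroup G) θ
      one_mem' := ⟨one_mem _, fun c c' h => congrArg (θ : C[(P : Subgroup G)] → ℂ)
        (Subtype.ext (by simpa using h))⟩
      mul_mem' := by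
        rintro a b ⟨ha, ha'⟩ ⟨hb, hb'⟩
        refine ⟨mul_mem ha hb, fun c c' h => ?_⟩
        have e : ((conjIso (Dsys.conjMaps_of_normalizer hb) c : C[(P : Subgroup G)]) : G) =
            b * c * b⁻¹ := rfl
        rw [ha' (conjIso (Dsys.conjMaps_of_normalizer hb) c) c' (by rw [h, e]; group),
          hb' c _ e]
      inv_mem' := by
        rintro a ⟨ha, ha'⟩
        refine ⟨inv_mem ha, fun c c' h => (ha' c' c ?_).symm⟩
        rw [h]; group }
  have hT : ∀ g : G, g ∈ T ↔ g ∈ Subgroup.normalizer ((P : Subgroup G) : Set G) ∧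
      StabilizesBlock C[(P : Subgroup G)] f g := fun g => by
    constructor
    · rintro ⟨h1, h2⟩
      exact ⟨h1, (stabilizes_iff_fix hM hB hD hcard hind hθ hθP h1).2 h2⟩
    · rintro ⟨h1, h2⟩
      exact ⟨h1, (stabilizes_iff_fix hM hB hD hcard hind hθ hθP h1).1 h2⟩
  obtain ⟨X, Y, δ, δ₀, hdiv, hBXY, hdis, hX, hY, -, -, hδ, hδ₀, -, -, -, -, hcX, hcY, -⟩ :=
    prime_structure hM hB hD hcard hind hθ hθP T hT
  set N := Subgroup.normalizer ((P : Subgroup G) : Set G) with hN
  set e := (C[(P : Subgroup G)]).relIndex T with he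
  set r := T.relIndex N with hr
  have hTN : T ≤ N := fun g hg => hg.1
  have hKT : (C[(P : Subgroup G)]) ≤ T := fun g hg =>
    ⟨Subgroup.centralizer_le_normalizer _ hg, fun c c' h => by
      rw [show c' = ⟨g, hg⟩ * c * ⟨g, hg⟩⁻¹ from Subtype.ext h, θ.2.isClassFunction]⟩
  have her : e * r = (C[(P : Subgroup G)]).relIndex N := Subgroup.relIndex_mul_relIndex (C[(P : Subgroup G)]) T N hKT hTN
  have hf : e * r ∣ p - 1 := by rw [her]; exact relIndex_centralizer_dvd hcard
  have hnd : ∀ {m : ℕ}, m ∣ p - 1 → ¬ p ∣ m := fun {m} hm h => by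
    have h1 := Nat.le_of_dvd (Nat.sub_pos_of_lt (Fact.out : p.Prime).one_lt) (h.trans hm)
    have := (Fact.out : p.Prime).pos
    omega
  have hθdeg : ¬ p ∣ charDegree (θ : C[(P : Subgroup G)] → ℂ) := by
    intro h
    have h1 := root_factorization hM hB hD hcard hind hθ
    rw [centralizer_factorization hM P hcard] at h1
    have := Nat.Prime.factorization_pos_of_dvd Fact.out (charDegree_pos θ).ne' h
    omega
  have hdeg : ∀ χ ∈ B, ¬ p ∣ charDegree (χ : G → ℂ) := by
    intro χ hχ hdvd
    have hd : ∃ d : ℤ, (∑ ξ ∈ f.toFinset, (classInner (fun k : C[(P : Subgroup G)] => (χ : G → ℂ) k)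
        (ξ : C[(P : Subgroup G)] → ℂ) - classInner (fun k : C[(P : Subgroup G)] => (χ : G → ℂ) k)
          (θ : C[(P : Subgroup G)] → ℂ)) = (d : ℂ)) ∧ ¬ (p : ℤ) ∣ d := by
      rw [hBXY] at hχ
      rcases hχ with hχ | hχ
      · refine ⟨((p : ℤ) - 1) * δ χ, ?_, ?_⟩
        · rw [← Finset.add_sum_erase _ _ (Set.mem_toFinset.2 hθ), sub_self, zero_add,
            Finset.sum_congr rfl fun ξ hξ => by
              rw [hcX χ hχ ξ (Set.mem_toFinset.1 (Finset.mem_erase.1 hξ).2)
                (Finset.mem_erase.1 hξ).1, add_sub_cancel_left],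
            Finset.sum_const, Finset.card_erase_of_mem (Set.mem_toFinset.2 hθ), Set.toFinset_card,
            ← Nat.card_eq_fintype_card, root_card hM hB hD hcard hind, nsmul_eq_mul,
            Nat.cast_sub (Fact.out : p.Prime).one_le]
          push_cast
          ring
        · intro h
          have h1 : (p : ℤ) ∣ δ χ := by
            have h2 := dvd_sub (dvd_mul_right (p : ℤ) (δ χ)) h
            rwa [show (p : ℤ) * δ χ - ((p : ℤ) - 1) * δ χ = δ χ by ring] at h2
          have hp1 := (Fact.out : p.Prime).ne_one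
          rcases hδ χ hχ with hs | hs <;> rw [hs] at h1 <;>
            simp [Int.natCast_dvd, hp1] at h1
      · refine ⟨(e : ℤ) * δ₀, by rw [hcY χ hχ]; push_cast; rfl, ?_⟩
        intro h
        have h1 : (p : ℤ) ∣ (e : ℤ) := by
          rcases hδ₀ with hs | hs <;> simpa [hs] using h
        exact hnd hdiv (Int.natCast_dvd_natCast.1 h1)
    obtain ⟨d, hd, hdp⟩ := hd
    have h := degree_congr hM hB hD hcard hind hθ T hT (hBXY ▸ hBXY ▸ hχ) d hd
    have h0 : (p : ℤ) ∣ (charDegree (χ : G → ℂ) : ℤ) := Int.natCast_dvd_natCast.2 hdvd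
    have h2 := dvd_add (Int.modEq_iff_dvd.1 h) h0
    rw [sub_add_cancel] at h2
    have hpp : Prime (p : ℤ) := Nat.prime_iff_prime_int.1 Fact.out
    rcases hpp.dvd_or_dvd h2 with h3 | h3
    · rcases hpp.dvd_or_dvd h3 with h4 | h4
      · exact hnd ((dvd_mul_left r e).trans hf) (Int.natCast_dvd_natCast.1 h4)
      · exact hθdeg (Int.natCast_dvd_natCast.1 h4)
    · exact hdp h3
  refine ⟨hdeg, ?_⟩
  -- the roots inside `Φ` form one orbit of the normalizer
  let tw : N → TrivOn (P : Subgroup G) → IrrCharacter C[(P : Subgroup G)] := fun h η =>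
    compIrr (conjIso (Dsys.conjMaps_of_normalizer h.2)) η.1
  have htriv : ∀ (h : N) (η : IrrCharacter C[(P : Subgroup G)]),
      (∀ z : C[(P : Subgroup G)], (z : G) ∈ (P : Subgroup G) →
        (η : C[(P : Subgroup G)] → ℂ) z = (η : C[(P : Subgroup G)] → ℂ) 1) →
      ∀ z : C[(P : Subgroup G)], (z : G) ∈ (P : Subgroup G) →
        (compIrr (conjIso (Dsys.conjMaps_of_normalizer h.2)) η : C[(P : Subgroup G)] → ℂ) z =
          (compIrr (conjIso (Dsys.conjMaps_of_normalizer h.2)) η : C[(P : Subgroup G)] → ℂ) 1 := by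
    intro h η hη z hz
    rw [compIrr_apply, compIrr_apply, map_one]
    exact hη _ ((Subgroup.mem_normalizer_iff.1 h.2 (z : G)).1 hz)
  have hmemΦ : ∀ (h : N) (η : TrivOn (P : Subgroup G)), tw h η = θ → η ∈ Φ := by
    intro h η hη
    rw [hΦ]
    have hm : η.1 ∈ conjSet (Dsys.conjMaps_of_normalizer h.2) f := by
      rw [← Dsys.mem_tw_iff]
      show tw h η ∈ f
      rw [hη]; exact hθ
    have hc := isInducedBlock_conj_self (Dsys.conjMaps_of_normalizer h.2) hind
    rwa [← eq_blockOf_of_mem hM hc.1 hm]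
  have hfib : ∀ η ∈ Φ, (Finset.univ.filter fun h : N => tw h η = θ).card = Nat.card T ∧
      Nat.card (fixers (P : Subgroup G) η.1) = Nat.card T := by
    intro η hη
    obtain ⟨x, hx, hxN, hxb⟩ := Dsys.orbit η.1 ((hΦ η).1 hη)
    have hxθ : compIrr (conjIso hx) η.1 = θ :=
      root_trivial_unique hM hB hD hcard hind hxb hθ (htriv ⟨x, hxN⟩ η.1 η.2) hθP
    have hxapp : ∀ k : C[(P : Subgroup G)],
        (θ : C[(P : Subgroup G)] → ℂ) k = (η.1 : C[(P : Subgroup G)] → ℂ) (conjIso hx k) :=
      fun k => by rw [← hxθ]; rfl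
    have hxinv : ∀ k : C[(P : Subgroup G)],
        (η.1 : C[(P : Subgroup G)] → ℂ) k =
          (θ : C[(P : Subgroup G)] → ℂ) ((conjIso hx).symm k) :=
      fun k => by rw [hxapp, MulEquiv.apply_symm_apply]
    constructor
    · rw [← Fintype.card_subtype, ← Nat.card_eq_fintype_card]
      have hiff : ∀ h : N, tw h η = θ ↔ x⁻¹ * (h : G) ∈ T := by
        intro h
        constructor
        · intro hh
          refine ⟨mul_mem (inv_mem hxN) h.2, fun c c' hc => ?_⟩
          rw [hxapp c']
          conv_rhs => rw [← hh]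
          refine congrArg (η.1 : C[(P : Subgroup G)] → ℂ) (Subtype.ext ?_)
          show x * (c' : G) * x⁻¹ = (h : G) * c * (h : G)⁻¹
          rw [hc]; group
        · rintro ⟨hg, hfix⟩
          refine Subtype.ext (funext fun k => ?_)
          rw [compIrr_apply, hxinv]
          refine hfix k _ ?_
          show x⁻¹ * ((h : G) * k * (h : G)⁻¹) * x = x⁻¹ * (h : G) * k * (x⁻¹ * (h : G))⁻¹
          group
      exact Nat.card_congr
        { toFun := fun h => ⟨x⁻¹ * (h.1 : G), (hiff h.1).1 h.2⟩
          invFun := fun g => ⟨⟨x * (g : G), mul_mem hxN (hTN g.2)⟩,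
            (hiff _).2 (by simp)⟩
          left_inv := fun h => Subtype.ext (Subtype.ext (by simp))
          right_inv := fun g => Subtype.ext (by simp) }
    · refine Nat.card_congr
        { toFun := fun g => ⟨x⁻¹ * g.1 * x, mul_mem (mul_mem (inv_mem hxN) g.2.1) hxN,
            fun c c' hc => ?_⟩
          invFun := fun g => ⟨x * g.1 * x⁻¹, mul_mem (mul_mem hxN g.2.1) (inv_mem hxN),
            fun c c' hc => ?_⟩
          left_inv := fun g => Subtype.ext (by simp [mul_assoc])
          right_inv := fun g => Subtype.ext (by simp [mul_assoc]) }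
      · rw [hxapp, hxapp]
        refine g.2.2 _ _ ?_
        show x * (c' : G) * x⁻¹ = g.1 * (x * c * x⁻¹) * g.1⁻¹
        rw [hc]; group
      · rw [hxinv, hxinv]
        refine g.2.2 _ _ ?_
        show x⁻¹ * (c' : G) * x = g.1 * (x⁻¹ * c * x) * g.1⁻¹
        rw [hc]; group
  have horb : Φ.card * Nat.card T = Nat.card N := by
    rw [Nat.card_eq_fintype_card (α := N), ← Finset.card_univ, ← smul_eq_mul, ← Finset.sum_const]
    have huniq : ∀ h : N, ∃! η : TrivOn (P : Subgroup G), tw h η = θ := by
      intro h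
      refine ⟨⟨compIrr (conjIso (Dsys.conjMaps_of_normalizer (inv_mem h.2))) θ,
        htriv h⁻¹ θ hθP⟩, ?_, fun η hη => Subtype.ext ?_⟩
      · show compIrr (conjIso (Dsys.conjMaps_of_normalizer h.2))
          (compIrr (conjIso (Dsys.conjMaps_of_normalizer (inv_mem h.2))) θ) = θ
        rw [Dsys.tw_tw _ _ (Dsys.conjMaps_of_normalizer (mul_mem (inv_mem h.2) h.2))]
        exact Dsys.tw_of_mem _ (by simp) θ
      · show η.1 = compIrr (conjIso (Dsys.conjMaps_of_normalizer (inv_mem h.2))) θ
        rw [← hη]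
        show η.1 = compIrr (conjIso (Dsys.conjMaps_of_normalizer (inv_mem h.2)))
          (compIrr (conjIso (Dsys.conjMaps_of_normalizer h.2)) η.1)
        rw [Dsys.tw_tw _ _ (Dsys.conjMaps_of_normalizer (mul_mem h.2 (inv_mem h.2)))]
        exact (Dsys.tw_of_mem _ (by simp) η.1).symm
    rw [Finset.sum_congr rfl fun η hη => ((hfib η hη).1).symm]
    rw [← Finset.card_biUnion]
    · congr 1
      ext h
      simp only [Finset.mem_biUnion, Finset.mem_filter, Finset.mem_univ, true_and, iff_true]
      obtain ⟨η, hη, -⟩ := huniq h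
      exact ⟨η, hmemΦ h η hη, hη⟩
    · intro a _ c _ hac
      simp only [Function.onFun, Finset.disjoint_filter]
      exact fun h _ h1 h2 => hac ((huniq h).unique h1 h2)
  have hcardN : Nat.card N = r * Nat.card T := by
    rw [hr, Subgroup.relIndex, ← Nat.card_congr (Subgroup.subgroupOfEquivOfLe hTN).toEquiv, mul_comm,
      Subgroup.card_mul_index]
  have hcardT : Nat.card T = e * Nat.card (C[(P : Subgroup G)]) := by
    rw [he, Subgroup.relIndex, ← Nat.card_congr (Subgroup.subgroupOfEquivOfLe hKT).toEquiv, mul_comm,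
      Subgroup.card_mul_index]
  have hΦcard : Φ.card = r := Nat.eq_of_mul_eq_mul_right Nat.card_pos (horb.trans hcardN)
  rw [Finset.sum_congr rfl fun η hη => by rw [(hfib η hη).2], Finset.sum_const, smul_eq_mul,
    hΦcard, hcardT, hBXY, Nat.card_coe_set_eq, Set.ncard_union_eq hdis, ← Nat.card_coe_set_eq,
    ← Nat.card_coe_set_eq, hX, hY, ← her]
  have hq : e * ((p - 1) / e) = p - 1 := Nat.mul_div_cancel' hdiv
  generalize (p - 1) / e = q at hq ⊢
  rw [← hq]
  ring

open Classical in
/-- The number of characters of degree prime to `p` through the roots. -/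
theorem card_pprime_mul :
    Nat.card {χ : IrrCharacter G // ¬ p ∣ charDegree (χ : G → ℂ)} *
      ((C[(P : Subgroup G)]).relIndex (Subgroup.normalizer ((P : Subgroup G) : Set G)) *
        Nat.card C[(P : Subgroup G)] ^ 2) = rootWeight p (P : Subgroup G) := by
  choose β hβ hβD using exists_block_of_trivial hM P hcard
  set S := Finset.univ.image β
  rw [rootWeight, ← Finset.sum_fiberwise_of_maps_to (g := β) (t := S)
    (fun θ _ => Finset.mem_image_of_mem _ (Finset.mem_univ θ))]
  have hblock : ∀ B ∈ S, IsPBlock M B ∧ IsDefectGroup p M B P := fun B hB => by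
    obtain ⟨θ, -, rfl⟩ := Finset.mem_image.1 hB
    exact ⟨(hβ θ).2.1, hβD θ⟩
  have hc : ∀ B ∈ S, _ := fun B hB => block_count hM P hcard (hblock B hB).1 (hblock B hB).2
    (Finset.univ.filter fun θ => β θ = B) (fun θ => by
      rw [Finset.mem_filter, and_iff_right (Finset.mem_univ _)]
      refine ⟨fun h => h ▸ hβ θ, fun h => ?_⟩
      exact isInducedBlock_unique hM (hβ θ) h)
  rw [← Finset.sum_congr rfl fun B hB => (hc B hB).2, ← Finset.sum_mul]
  congr 1
  rw [Nat.card_eq_fintype_card, Fintype.card_subtype,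
    Finset.card_eq_sum_card_fiberwise (f := fun χ : IrrCharacter G => blockOf M (χ : G → ℂ))
      (t := S)]
  · refine Finset.sum_congr rfl fun B hB => ?_
    rw [Nat.card_eq_fintype_card, ← Set.toFinset_card]
    congr 1
    ext χ
    simp only [Finset.mem_filter, Finset.mem_univ, true_and, Set.mem_toFinset]
    constructor
    · rintro ⟨-, rfl⟩
      exact self_mem_blockOf hM χ
    · exact fun h => ⟨(hc B hB).1 χ h, (eq_blockOf_of_mem hM (hblock B hB).1 h).symm⟩
  · intro χ hχ
    simp only [Finset.coe_filter, Finset.mem_univ, true_and, Set.mem_setOf_eq] at hχ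
    set B := blockOf M (χ : G → ℂ)
    have hB : IsPBlock M B := isPBlock_blockOf χ
    have hd : blockDefect p B ≠ 0 := fun h0 => by
      have h1 := blockDefect_add_minVal (p := p) (nonempty_of_isPBlock hM hB)
      have h2 := minVal_le (p := p) (self_mem_blockOf hM χ)
      rw [h0, sylow_factorization P hcard, zero_add] at h1
      rw [Nat.factorization_eq_zero_of_not_dvd hχ, h1] at h2
      omega
    have hD := isDefectGroup_of_pos hM P hcard hB hd
    obtain ⟨f, hmax⟩ := exists_pair_at_defect hM hB hD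
    have hind : IsInducedBlock M C[(P : Subgroup G)] f B :=
      (isBrauerPairOf_iff_induced hM P.2 le_rfl (le_centralizer_self hcard)
        (Subgroup.centralizer_le_normalizer _) (fun v => invOn_self v) hmax.1.1.2 hmax.1.1.2
        (fun _ => rfl) hB).1 hmax.1
    obtain ⟨θ, hθ, hθP⟩ := root_exists_trivial hM hB hD hcard hind
    refine Finset.mem_image.2 ⟨⟨θ, hθP⟩, Finset.mem_univ _, ?_⟩
    have h := hβ ⟨θ, hθP⟩
    rw [← eq_blockOf_of_mem hM hind.1 hθ] at h
    exact isInducedBlock_unique hM h hind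

end Cfsg.Lib.Block
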