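import Cfsg.Agent.Lib.Block.CyclicPrime

/-!
# Structure of a block with a defect group of order `p`
-/

set_option autoImplicit false
set_option linter.unusedSectionVars false
set_option maxHeartbeats 1000000

namespace Cfsg.Lib.Block

open Cfsg
open scoped ComplexConjugate

universe u

noncomputable local instance (priority := high) fintypeSubgroupCyclicPrimeStructure {A : Type u}
    [Group A] [Fintype A] (H : Subgroup A) : Fintype H := Fintype.ofFinite H

local notation "C[" P "]" => Subgroup.centralizer (SetLike.coe P)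

variable {p : ℕ} [Fact p.Prime] {M : Ideal AlgInt} {G : Type u} [Group G] [Fintype G]
  (hM : IsPModular p M)

/-- A generalized character vanishing at singular elements has degree divisible by the order of a
Sylow subgroup. -/
theorem dvd_degree_of_vanish {F : G → ℂ} (hF : IsGeneralizedCharacter G F)
    (hvan : ∀ g, ¬ IsPRegular p g → F g = 0) {m : ℤ} (hm : F 1 = (m : ℂ)) :
    ((p : ℤ) ^ (Nat.card G).factorization p) ∣ m := by
  classical
  obtain ⟨S⟩ : Nonempty (Sylow p G) := inferInstance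
  set Q : Subgroup G := (S : Subgroup G) with hQ
  have hgc : IsGeneralizedCharacter Q (fun x : Q => F x) := hF.comp Q.subtype
  obtain ⟨n, hn⟩ := hgc.exists_int_classInner
    (Char.isIrrCharacter_one (G := Q)).isGeneralized
  have hS0 : (Nat.card Q : ℂ) ≠ 0 := Nat.cast_ne_zero.2 Nat.card_pos.ne'
  have h1 : ∑ x : Q, F x * conj (1 : ℂ) = (m : ℂ) := by
    rw [Finset.sum_eq_single (1 : Q)]
    · simp [hm]
    · intro x _ hx
      have hns : ¬ IsPRegular p (x : G) := by
        intro hreg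
        obtain ⟨k, hk⟩ := IsPGroup.iff_orderOf.1 S.2 x
        rcases Nat.eq_zero_or_pos k with h | h
        · rw [h, pow_zero, orderOf_eq_one_iff] at hk
          exact hx hk
        · refine hreg ?_
          rw [orderOf_submonoid, hk]
          exact dvd_pow_self p h.ne'
      rw [hvan _ hns, zero_mul]
    · simp
  simp only [classInner] at hn
  rw [h1] at hn
  have h2 : (m : ℂ) = (n : ℂ) * (Nat.card Q : ℂ) := by rw [← hn]; field_simp
  have h3 : m = n * (Nat.card Q : ℤ) := by exact_mod_cast h2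
  rw [h3, hQ, S.card_eq_multiplicity]
  push_cast
  exact Dvd.intro_left n rfl

variable {B : Set (IrrCharacter G)} {P : Subgroup G} {b : Set (IrrCharacter C[P])}
  (hB : IsPBlock M B) (hD : IsDefectGroup p M B P) (hcard : Nat.card P = p)
  (hind : IsInducedBlock M C[P] b B)

include hM hB hD hcard hind

open Classical in
/-- Exceptional and non-exceptional characters of a block with defect group of order `p`. -/
theorem prime_structure {θ : IrrCharacter C[P]} (hθ : θ ∈ b)
    (hθP : ∀ z : C[P], (z : G) ∈ P → (θ : C[P] → ℂ) z = (θ : C[P] → ℂ) 1) (T : Subgroup G)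
    (hT : ∀ g : G, g ∈ T ↔ g ∈ Subgroup.normalizer (P : Set G) ∧ StabilizesBlock C[P] b g) :
    ∃ (X Y : Set (IrrCharacter G)) (δ : IrrCharacter G → ℤ) (δ₀ : ℤ),
      (C[P]).relIndex T ∣ p - 1 ∧ B = X ∪ Y ∧ Disjoint X Y ∧
      Nat.card X = (C[P]).relIndex T ∧ Nat.card Y = (p - 1) / (C[P]).relIndex T ∧ Y.Nonempty ∧
      blockRank p B = (C[P]).relIndex T ∧
      (∀ χ ∈ X, δ χ = 1 ∨ δ χ = -1) ∧ (δ₀ = 1 ∨ δ₀ = -1) ∧
      (∀ ψ ∈ Y, ∀ ψ' ∈ Y, ∀ g : G, IsPRegular p g → (ψ : G → ℂ) g = (ψ' : G → ℂ) g) ∧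
      (∀ ψ ∈ Y, ∀ g : G, IsPRegular p g →
        (δ₀ : ℂ) * (ψ : G → ℂ) g + ∑ᶠ χ ∈ X, (δ χ : ℂ) * (χ : G → ℂ) g = 0) ∧
      (∀ χ ∈ X, ∀ χ' ∈ X, (p : ℤ) ^ (Nat.card G).factorization p ∣
        δ χ * (charDegree (χ : G → ℂ) : ℤ) - δ χ' * (charDegree (χ' : G → ℂ) : ℤ)) ∧
      (∀ ψ ∈ Y, ∀ χ ∈ X, (p : ℤ) ^ (Nat.card G).factorization p ∣
        (charDegree (ψ : G → ℂ) : ℤ) +
          ((C[P]).relIndex T : ℤ) * δ₀ * δ χ * (charDegree (χ : G → ℂ) : ℤ)) ∧
      (∀ χ ∈ X, ∀ ξ ∈ b, ξ ≠ θ → classInner (fun k : C[P] => (χ : G → ℂ) k) (ξ : C[P] → ℂ) =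
        classInner (fun k : C[P] => (χ : G → ℂ) k) (θ : C[P] → ℂ) + (δ χ : ℂ)) ∧
      (∀ ψ ∈ Y, ∑ ξ ∈ b.toFinset, (classInner (fun k : C[P] => (ψ : G → ℂ) k) (ξ : C[P] → ℂ) -
        classInner (fun k : C[P] => (ψ : G → ℂ) k) (θ : C[P] → ℂ)) =
          ((C[P]).relIndex T : ℂ) * (δ₀ : ℂ)) ∧
      ∀ ξ ∈ b, ξ ≠ θ → ∃ ψ ∈ Y, ∀ g : G, indFun C[P] ((ξ : C[P] → ℂ) - (θ : C[P] → ℂ)) g =
        (δ₀ : ℂ) * (ψ : G → ℂ) g + ∑ᶠ χ ∈ X, (δ χ : ℂ) * (χ : G → ℂ) g := by
  obtain ⟨ι, hι, τ, X, y, δ, δ₀, hf, V, hy, hBX, hdis, hX, hδ, hδ₀, hτ, hrank, -, hA, -, hsum⟩ :=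
    prime_split hM hB hD hcard hind hθ hθP T hT
  set e := (C[P]).relIndex T
  have hmul : Fintype.card ι * e = p - 1 := by omega
  have he0 : 0 < e := by
    refine Nat.pos_of_ne_zero fun h => ?_
    rw [h, mul_zero, zero_add] at hf
    exact (Fact.out : p.Prime).ne_one hf.symm
  have hneι : Nonempty ι := by
    refine Fintype.card_pos_iff.1 (Nat.pos_of_ne_zero fun h => ?_)
    rw [h, zero_mul, zero_add] at hf
    exact (Fact.out : p.Prime).ne_one hf.symm
  have hτ' : ∀ i g, τ i g = (δ₀ : ℂ) * (y i : G → ℂ) g +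
      ∑ χ ∈ X.toFinset, (δ χ : ℂ) * (χ : G → ℂ) g := fun i g => by
    rw [hτ i g, finsum_mem_eq_toFinset_sum]
  have hcoef : ∀ (i : ι) (η : IrrCharacter G), classInner (τ i) (η : G → ℂ) =
      (δ₀ : ℂ) * (if y i = η then 1 else 0) + if η ∈ X then (δ η : ℂ) else 0 := by
    intro i η
    have hirr : ∀ a c : IrrCharacter G, classInner (a : G → ℂ) (c : G → ℂ) =
        if a = c then (1 : ℂ) else 0 := fun a c => by
      split_ifs with e'
      · rw [e']; exact Char.classInner_irr_self c.2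
      · exact Char.classInner_irr_ne a.2 c.2 fun he => e' (Subtype.ext he)
    rw [show τ i = (δ₀ : ℂ) • (y i : G → ℂ) + ∑ χ ∈ X.toFinset, (δ χ : ℂ) • (χ : G → ℂ) from
      funext fun g => by simp [hτ', Finset.sum_apply]]
    rw [Char.classInner_add_left, Char.classInner_smul_left, Char.classInner_sum_left, hirr]
    simp only [Char.classInner_smul_left, hirr, mul_ite, mul_one, mul_zero, Finset.sum_ite_eq',
      Set.mem_toFinset]
  have hcoefX : ∀ (i : ι), ∀ χ ∈ X, classInner (χ : G → ℂ) (τ i) = (δ χ : ℂ) := by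
    intro i χ hχ
    rw [← Char.classInner_conj_symm, hcoef, if_pos hχ, if_neg, mul_zero, zero_add, map_intCast]
    exact fun h => Set.disjoint_left.1 hdis hχ ⟨i, h⟩
  have hcoefY : ∀ i j : ι, classInner (y j : G → ℂ) (τ i) = if i = j then (δ₀ : ℂ) else 0 := by
    intro i j
    rw [← Char.classInner_conj_symm, hcoef,
      if_neg (fun h => Set.disjoint_left.1 hdis h ⟨j, rfl⟩), add_zero]
    by_cases h : i = j
    · rw [if_pos (congrArg y h), if_pos h, mul_one, map_intCast]
    · rw [if_neg (fun h' => h (hy h')), if_neg h, mul_zero, map_zero]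
  have hd0 : (δ₀ : ℂ) ≠ 0 := by rcases hδ₀ with h | h <;> simp [h]
  -- generalized characters of the block orthogonal to the lattice vanish at singular elements
  have key : ∀ (c : IrrCharacter G → ℤ),
      (∀ i, ∑ η ∈ B.toFinset, (c η : ℂ) * classInner (η : G → ℂ) (τ i) = 0) →
      (p : ℤ) ^ (Nat.card G).factorization p ∣
        ∑ η ∈ B.toFinset, c η * (charDegree (η : G → ℂ) : ℤ) := by
    intro c hc
    refine dvd_degree_of_vanish (F := fun g => ∑ η ∈ B.toFinset, (c η : ℂ) * (η : G → ℂ) g)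
      ?_ (fun g hg => ?_) ?_
    · rw [show (fun g => ∑ η ∈ B.toFinset, (c η : ℂ) * (η : G → ℂ) g) =
        ∑ η ∈ B.toFinset, c η • (η : G → ℂ) from funext fun g => by simp [Finset.sum_apply]]
      exact IsGeneralizedCharacter.sum _ _ fun η _ => η.2.isGeneralized.zsmul (c η)
    · have := V.complete (fun η => (c η : ℂ)) (fun i => ?_) g hg
      · rwa [finsum_mem_eq_toFinset_sum] at this
      · simp only [finsum_mem_eq_toFinset_sum]
        rw [show (fun g => ∑ η ∈ B.toFinset, (c η : ℂ) * (η : G → ℂ) g) =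
          ∑ η ∈ B.toFinset, (c η : ℂ) • (η : G → ℂ) from funext fun g => by simp [Finset.sum_apply],
          Char.classInner_sum_left]
        simp only [Char.classInner_smul_left]
        exact hc i
    · simp [apply_one_eq_charDegree]
  have hBsum : ∀ {α : Type} [AddCommMonoid α] (F : IrrCharacter G → α),
      ∑ η ∈ B.toFinset, F η = (∑ χ ∈ X.toFinset, F χ) + ∑ i, F (y i) := by
    intro α _ F
    rw [← Finset.sum_image (g := y) fun a _ c _ h => hy h]
    rw [← Finset.sum_union]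
    · refine Finset.sum_congr ?_ fun _ _ => rfl
      ext η
      simp [hBX]
    · rw [Finset.disjoint_left]
      intro η hη hη'
      obtain ⟨i, -, rfl⟩ := Finset.mem_image.1 hη'
      exact Set.disjoint_left.1 hdis (Set.mem_toFinset.1 hη) ⟨i, rfl⟩
  have hXY : ∀ (i : ι), ∀ χ ∈ X, y i ≠ χ := fun i χ hχ h =>
    Set.disjoint_left.1 hdis hχ ⟨i, h⟩
  refine ⟨X, Set.range y, δ, δ₀, ⟨Fintype.card ι, by rw [← hmul, mul_comm]⟩, hBX, hdis, hX, ?_,
    Set.range_nonempty y, hrank, hδ, hδ₀, ?_, ?_, ?_, ?_, ?_, ?_, ?_⟩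
  · rw [Nat.card_range_of_injective hy, Nat.card_eq_fintype_card, ← hmul,
      Nat.mul_div_cancel _ he0]
  · rintro _ ⟨i, rfl⟩ _ ⟨j, rfl⟩ g hg
    have h1 := hτ' i g
    rw [V.regular i g hg] at h1
    have h2 := hτ' j g
    rw [V.regular j g hg] at h2
    exact mul_left_cancel₀ hd0 (by linear_combination h2 - h1)
  · rintro _ ⟨i, rfl⟩ g hg
    rw [← hτ i g]
    exact V.regular i g hg
  · intro χ hχ χ' hχ'
    have h := key (fun η => (if η = χ then δ χ else 0) - if η = χ' then δ χ' else 0) fun i => by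
      have hχB : χ ∈ B.toFinset := by simp [hBX, hχ]
      have hχB' : χ' ∈ B.toFinset := by simp [hBX, hχ']
      simp only [Int.cast_sub, Int.cast_ite, Int.cast_zero, sub_mul, ite_mul, zero_mul,
        Finset.sum_sub_distrib, Finset.sum_ite_eq', hχB, hχB', if_true, hcoefX i χ hχ,
        hcoefX i χ' hχ']
      have h1 : (δ χ : ℂ) * δ χ = 1 := by rcases hδ χ hχ with h | h <;> simp [h]
      have h2 : (δ χ' : ℂ) * δ χ' = 1 := by rcases hδ χ' hχ' with h | h <;> simp [h]
      rw [h1, h2, sub_self]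
    have hχB : χ ∈ B.toFinset := by simp [hBX, hχ]
    have hχB' : χ' ∈ B.toFinset := by simp [hBX, hχ']
    simpa only [sub_mul, ite_mul, zero_mul, Finset.sum_sub_distrib, Finset.sum_ite_eq', hχB, hχB',
      if_true] using h
  · rintro _ ⟨i₀, rfl⟩ χ hχ
    have hχB : χ ∈ B.toFinset := by simp [hBX, hχ]
    have hone : IsPRegular p (1 : G) := by simp [IsPRegular, (Fact.out : p.Prime).ne_one]
    have h2 : δ₀ * δ₀ = 1 := by rcases hδ₀ with h | h <;> simp [h]
    set q : ℤ := (p : ℤ) ^ (Nat.card G).factorization p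
    have hsum1 : (δ₀ : ℤ) * (charDegree (y i₀ : G → ℂ) : ℤ) +
        ∑ η ∈ X.toFinset, δ η * (charDegree (η : G → ℂ) : ℤ) = 0 := by
      have h1 := hτ' i₀ 1
      rw [V.regular i₀ 1 hone] at h1
      simp only [apply_one_eq_charDegree] at h1
      exact_mod_cast h1.symm
    -- all members of `X` are congruent to the chosen one
    have hcong : ∀ η ∈ X.toFinset, q ∣
        δ η * (charDegree (η : G → ℂ) : ℤ) - δ χ * (charDegree (χ : G → ℂ) : ℤ) := by
      intro η hη
      have hη' := Set.mem_toFinset.1 hη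
      have hg := key (fun ζ => (if ζ = η then δ η else 0) - if ζ = χ then δ χ else 0) fun i => by
        have hηB : η ∈ B.toFinset := by simp [hBX, hη']
        simp only [Int.cast_sub, Int.cast_ite, Int.cast_zero, sub_mul, ite_mul, zero_mul,
          Finset.sum_sub_distrib, Finset.sum_ite_eq', hηB, hχB, if_true, hcoefX i η hη',
          hcoefX i χ hχ]
        have a1 : (δ η : ℂ) * δ η = 1 := by rcases hδ η hη' with h | h <;> simp [h]
        have a2 : (δ χ : ℂ) * δ χ = 1 := by rcases hδ χ hχ with h | h <;> simp [h]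
        rw [a1, a2, sub_self]
      have hηB : η ∈ B.toFinset := by simp [hBX, hη']
      simpa only [sub_mul, ite_mul, zero_mul, Finset.sum_sub_distrib, Finset.sum_ite_eq', hηB,
        hχB, if_true] using hg
    have hX' : (X.toFinset.card : ℤ) = e := by
      rw [Set.toFinset_card, ← Nat.card_eq_fintype_card, hX]
    have hd2 := Finset.dvd_sum hcong
    rw [Finset.sum_sub_distrib, Finset.sum_const, nsmul_eq_mul, hX'] at hd2
    have := dvd_mul_of_dvd_right hd2 δ₀
    rw [← dvd_neg]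
    convert this using 1
    linear_combination -(δ₀ : ℤ) * hsum1 + (charDegree (y i₀ : G → ℂ) : ℤ) * h2
  · intro χ hχ ξ hξ hne
    obtain ⟨i, hi⟩ := hA ξ hξ hne
    have h1 := hcoefX i χ hχ
    rw [← hi, Char.classInner_indFun_right _ _ χ.2.isClassFunction] at h1
    rw [← h1]
    simp only [classInner, Pi.sub_apply, map_sub, mul_sub, Finset.sum_sub_distrib]
    ring
  · rintro _ ⟨j, rfl⟩
    rw [hsum _ (y j).2.isClassFunction]
    simp only [hcoefY, Finset.sum_ite_eq', Finset.mem_univ, if_true]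
  · intro ξ hξ hne
    obtain ⟨i, hi⟩ := hA ξ hξ hne
    exact ⟨y i, ⟨i, rfl⟩, fun g => by rw [hi, hτ i g]⟩

end Cfsg.Lib.Block
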