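import Cfsg.Agent.Lib.Block.SmallDegree
import Cfsg.Agent.Lib.Char.Constituents
import Mathlib.Analysis.SpecialFunctions.Complex.CircleAddChar

/-!
# The centralizer of the Sylow subgroup for a faithful character of degree `p - 2`
-/

set_option autoImplicit false
set_option linter.unusedSectionVars false
set_option linter.style.haveILetI false
set_option maxHeartbeats 1000000

namespace Cfsg.Lib.Block

open Cfsg
open scoped ComplexConjugate

universe u

noncomputable local instance (priority := high) fintypeSubgroupDegreePSubTwo {A : Type u}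
    [Group A] [Fintype A] (H : Subgroup A) : Fintype H := Fintype.ofFinite H

local notation "C[" P "]" => Subgroup.centralizer (SetLike.coe P)

variable {p : ℕ} [Fact p.Prime] {G : Type u} [Group G] [Fintype G]

/-- An element at which a faithful irreducible character has maximal absolute value is central. -/
theorem mem_center_of_norm_eq {χ : G → ℂ} (hχ : IsIrrCharacter G χ)
    (hfaith : ∀ g : G, χ g = χ 1 → g = 1) {n : ℕ} (hn : χ 1 = n) {g : G} (hg : ‖χ g‖ = n) :
    g ∈ Subgroup.center G := by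
  obtain ⟨d, ρ, -, rfl⟩ := hχ
  obtain ⟨μ, hμ, hsum, -, -, -, hscal⟩ := Char.character_eq_sum_roots ρ g
  have hdn : Module.finrank ℂ (Fin d → ℂ) = n := by
    rw [ρ.char_one] at hn
    exact_mod_cast hn
  have hμn : ∀ i, ‖μ i‖ = 1 := fun i =>
    Complex.norm_eq_one_of_pow_eq_one (hμ i) (orderOf_pos g).ne'
  have hall := fun i => eq_avg_of_norm_sum hμn hdn (by rw [← hsum]; exact hg) i
  have hρ := hscal _ hall
  rw [Subgroup.mem_center_iff]
  intro x
  have hcomm : ρ (x * g) = ρ (g * x) := by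
    rw [map_mul, map_mul, hρ]
    refine LinearMap.ext fun v => ?_
    simp
  have h1 : ρ.character ((g * x)⁻¹ * (x * g)) = ρ.character 1 := by
    show LinearMap.trace ℂ _ (ρ ((g * x)⁻¹ * (x * g))) = LinearMap.trace ℂ _ (ρ 1)
    rw [map_mul, hcomm, ← map_mul, inv_mul_cancel]
  exact (inv_mul_eq_one.1 (hfaith _ h1)).symm

/-- An element of the normalizer outside a centralizer of index two inverts `P`. -/
theorem inverts_of_relIndex_two {P : Subgroup G} (hcard : Nat.card P = p)
    (hidx : (C[P]).relIndex (Subgroup.normalizer (P : Set G)) = 2) {w : G}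
    (hw : w ∈ Subgroup.normalizer (P : Set G)) (hwC : w ∉ C[P]) {z : G} (hz : z ∈ P) :
    w * z * w⁻¹ = z⁻¹ := by
  set N := Subgroup.normalizer (P : Set G)
  have hz' : w * z * w⁻¹ ∈ P := (Subgroup.mem_normalizer_iff.1 hw z).1 hz
  have h2 : w * w ∈ C[P] :=
    Subgroup.mul_self_mem_of_index_two (H := (C[P]).subgroupOf N) hidx ⟨w, hw⟩
  have h2z : w * w * z = z * (w * w) :=
    (Subgroup.mem_centralizer_iff.1 h2 z hz).symm
  have hcm := comm_of_card_prime hcard
  set u := z * (w * z * w⁻¹) with hu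
  have huP : u ∈ P := mul_mem hz hz'
  have hfix : w * u * w⁻¹ = u := by
    calc w * u * w⁻¹ = w * z * w⁻¹ * (w * w * z * (w * w)⁻¹) := by rw [hu]; group
      _ = w * z * w⁻¹ * z := by rw [h2z, mul_inv_cancel_right]
      _ = u := hcm _ hz' _ hz
  by_cases h1 : u = 1
  · exact (eq_inv_of_mul_eq_one_right h1)
  exfalso
  refine hwC (Subgroup.mem_centralizer_iff.2 fun v hv => ?_)
  have hv' : v ∈ Subgroup.zpowers u := (zpowers_eq_of_mem hcard huP h1).symm ▸ hv
  obtain ⟨m, rfl⟩ := Subgroup.mem_zpowers_iff.1 hv'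
  exact (Commute.zpow_right (mul_inv_eq_iff_eq_mul.1 hfix) m).eq.symm

variable {P : Subgroup G}

/-- The Sylow subgroup is a defect group of the block of a character of degree prime to `p`. -/
theorem isDefectGroup_of_degree (hcard : Nat.card P = p) (hfac : (Nat.card G).factorization p = 1)
    {M : Ideal AlgInt} (hM : IsPModular p M)
    {φ : IrrCharacter G} (h : ¬ p ∣ charDegree (φ : G → ℂ)) :
    IsDefectGroup p M (blockOf M (φ : G → ℂ)) P := by
  have hB : IsPBlock M (blockOf M (φ : G → ℂ)) := isPBlock_blockOf φ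
  have h0 : minVal p (blockOf M (φ : G → ℂ)) = 0 := by
    have h1 := minVal_le (p := p) (self_mem_blockOf hM φ)
    rw [Nat.factorization_eq_zero_of_not_dvd h] at h1
    omega
  have hd := blockDefect_add_minVal (p := p) (nonempty_of_isPBlock hM hB)
  rw [h0, add_zero] at hd
  obtain ⟨D, hD⟩ := exists_defectGroup hM hB
  have hc := card_defectGroup hM hB hD
  rw [hd] at hc
  let S : Sylow p G := Sylow.ofCard P (by rw [hfac, hcard, pow_one])
  let D' : Sylow p G := Sylow.ofCard D hc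
  obtain ⟨x, hx⟩ := MulAction.exists_smul_eq G D' S
  have h2 := isDefectGroup_conj hM hB hD x
  rw [show P = (S : Subgroup G) from rfl, ← hx, Sylow.coe_subgroup_smul]
  exact h2

/-- The arithmetic of the coefficients. -/
theorem coeff_arith (p e r t s aθ m k : ℕ) (hp : p.Prime) (h5 : 5 < p) (he : e * r ∣ p - 1)
    (hk : k = p - 1 ∨ k = e) (ht : 1 ≤ t) (hr : 1 ≤ r)
    (hc : (s : ℤ) - p * aθ = k ∨ (s : ℤ) - p * aθ = -(k : ℤ))
    (hle : r * t * s ≤ p - 2)
    (hm : (p : ℤ) * m = ((p - 2 : ℕ) : ℤ) - r * t * ((s : ℤ) - p * aθ)) :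
    (r = 1 ∧ t * s = p - 2 ∧ e = 2 ∧ t = 1 ∧ s = p - 2 ∧ aθ = 1) ∨
      (r = 1 ∧ t * s = p - 2 ∧ s = 1) := by
  have hre : e * r ≤ p - 1 := Nat.le_of_dvd (by omega) he
  have he0 : 1 ≤ e := by
    rcases Nat.eq_zero_or_pos e with h | h
    · rw [h, zero_mul, zero_dvd_iff] at he; omega
    · exact h
  have hs : s ≤ p - 2 := le_trans (Nat.le_mul_of_pos_left s (by positivity)) hle
  have hp2 : ((p - 2 : ℕ) : ℤ) = (p : ℤ) - 2 := by rw [Nat.cast_sub (by omega)]; rfl
  have hkb : 1 ≤ k ∧ k ≤ p - 1 := by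
    rcases hk with h | h <;> rw [h]
    · omega
    · exact ⟨he0, le_trans (Nat.le_mul_of_pos_right e hr) hre⟩
  have hcop : Nat.Coprime (p - 1) (p - 2) := by
    rw [show p - 1 = (p - 2) + 1 by omega]; simp
  rcases hc with hc | hc
  · have ha : aθ = 0 := by
      by_contra h
      have : (p : ℤ) * 1 ≤ p * aθ := mul_le_mul_of_nonneg_left (by omega) (by positivity)
      omega
    subst ha
    simp only [Nat.cast_zero, mul_zero, sub_zero] at hc hm
    have hsk : s = k := by exact_mod_cast hc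
    have hke : k = e := hk.resolve_left (by omega)
    have hdiv : (p : ℤ) ∣ ((p - 2 - r * t * s : ℕ) : ℤ) := ⟨m, by
      rw [Nat.cast_sub hle]; push_cast; linarith⟩
    have heq := Nat.eq_zero_of_dvd_of_lt (Int.natCast_dvd_natCast.1 hdiv) (by omega)
    have heq' : r * t * s = p - 2 := by omega
    have hd1 : e * r ∣ p - 2 := ⟨t, by rw [← heq', hsk, hke]; ring⟩
    have h1 : e * r = 1 := Nat.eq_one_of_dvd_coprimes hcop he hd1
    obtain ⟨he1, hr1⟩ := mul_eq_one.1 h1
    subst hr1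
    exact Or.inr ⟨rfl, by simpa using heq', by omega⟩
  · have ha : aθ = 1 := by
      rcases Nat.lt_or_ge aθ 2 with h | h
      · rcases Nat.lt_or_ge aθ 1 with h' | h'
        · exfalso
          have : aθ = 0 := by omega
          subst this
          simp at hc
          omega
        · omega
      · exfalso
        have : (p : ℤ) * 2 ≤ p * aθ := mul_le_mul_of_nonneg_left (by omega) (by positivity)
        omega
    subst ha
    simp only [Nat.cast_one, mul_one] at hc hm
    rw [hc, hp2] at hm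
    by_cases hkp : k = p - 1
    · right
      have hs1 : s = 1 := by omega
      subst hs1
      have hdiv : (p : ℤ) ∣ ((p - 2 - r * t : ℕ) : ℤ) := ⟨(m : ℤ) - r * t, by
        rw [Nat.cast_sub (by simpa using hle), hp2]
        have : (k : ℤ) = p - 1 := by omega
        rw [this] at hm
        push_cast; linear_combination -hm⟩
      have heq := Nat.eq_zero_of_dvd_of_lt (Int.natCast_dvd_natCast.1 hdiv) (by omega)
      have heq' : r * t = p - 2 := by simp only [mul_one] at hle; omega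
      have hr1 : r = 1 := Nat.eq_one_of_dvd_coprimes hcop
        (dvd_trans (dvd_mul_left r e) he) ⟨t, heq'.symm⟩
      subst hr1
      exact ⟨rfl, by simpa using heq', rfl⟩
    · left
      have hke : k = e := hk.resolve_left hkp
      subst hke
      have h2k : 2 * k ≤ p - 1 := by
        obtain ⟨c, hc'⟩ := dvd_trans (dvd_mul_right k r) he
        rcases c with _ | _ | c
        · omega
        · omega
        · rw [hc']
          have : k * 2 ≤ k * (c + 1 + 1) := Nat.mul_le_mul_left k (by omega)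
          linarith
      have hrt : r * t = 1 := by
        have : r * t * s ≤ p - 2 := hle
        by_contra h
        have h2 : 2 ≤ r * t := by
          have : 1 ≤ r * t := Nat.one_le_iff_ne_zero.2 (Nat.mul_ne_zero (by omega) (by omega))
          omega
        have := Nat.mul_le_mul_right s h2
        omega
      obtain ⟨hr1, ht1⟩ := mul_eq_one.1 hrt
      subst hr1; subst ht1
      simp only [Nat.cast_one, one_mul] at hm
      have hdiv : (p : ℤ) ∣ (k : ℤ) - 2 := ⟨(m : ℤ) - 1, by linear_combination -hm⟩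
      have hk2 : k = 2 := by
        by_contra h
        rcases Nat.lt_or_ge k 2 with h' | h'
        · have : k = 1 := by omega
          subst this
          have := Int.le_of_dvd one_pos (dvd_neg.2 hdiv : (p : ℤ) ∣ -((1 : ℤ) - 2))
          omega
        · have := Int.le_of_dvd (by omega) hdiv
          omega
      refine ⟨rfl, ?_, hk2, rfl, ?_, rfl⟩ <;> omega

open Classical in
/-- The structure of the local subgroup for a faithful irreducible character of degree `p - 2`. -/
theorem structure_degree_p_sub_two (h5 : 5 < p) (hcard : Nat.card P = p)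
    (hfac : (Nat.card G).factorization p = 1) (hnn : ¬ P.Normal)
    {ζ : G → ℂ} (hζ : IsIrrCharacter G ζ) (hfaith : ∀ g : G, ζ g = ζ 1 → g = 1)
    (hdeg : ζ 1 = ((p - 2 : ℕ) : ℂ)) :
    C[P] = P ⊔ Subgroup.center G ∧
      (C[P]).relIndex (Subgroup.normalizer (P : Set G)) = 2 ∧
      ∃ k : P ≃ ZMod p, (∀ y z : P, k (y * z) = k y + k z) ∧
        ∀ y : P, y ≠ 1 →
          ζ y = -(ZMod.stdAddChar (k y) + ZMod.stdAddChar (-k y)) := by
  have hpp : p.Prime := Fact.out
  obtain ⟨M, hM⟩ := exists_isPModular hpp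
  set n := p - 2 with hn
  let φ : IrrCharacter G := ⟨ζ, hζ⟩
  have hcd : charDegree (φ : G → ℂ) = n := charDegree_eq_of_apply_one hdeg
  have hnd : ¬ p ∣ charDegree (φ : G → ℂ) := by
    rw [hcd]; exact fun h => absurd (Nat.le_of_dvd (by omega) h) (by omega)
  have hD := isDefectGroup_of_degree hcard hfac hM hnd
  have hB : IsPBlock M (blockOf M (φ : G → ℂ)) := isPBlock_blockOf φ
  have hPp : IsPGroup p P := IsPGroup.of_card (n := 1) (by rw [hcard, pow_one])
  obtain ⟨b, hb⟩ := (exists_pair_iff hM hB hD hPp).2 ⟨1, by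
    rintro _ ⟨z, hz, rfl⟩; simpa using hz⟩
  have hind := isInducedBlock_of_isBrauerPairOf hM (le_centralizer_self hcard) hb
  obtain ⟨θ, hθ, hθP⟩ := root_exists_trivial hM hB hD hcard hind
  obtain ⟨T, hT⟩ := exists_stabilizer_subgroup hM hB hD hcard hind
  choose a ha using fun η : IrrCharacter C[P] =>
    (hζ.isCharacter.comp (C[P]).subtype).exists_nat_classInner η.2.isCharacter
  have ha' : ∀ η : IrrCharacter C[P],
      classInner (fun k : C[P] => (φ : G → ℂ) k) (η : C[P] → ℂ) = (a η : ℂ) := ha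
  obtain ⟨hsum, hind_sum⟩ := sum_P_block hcard hM hB hD hind hθ hθP T hT a
    (self_mem_blockOf hM φ) ha'
  obtain ⟨k, hkd, hk, hc⟩ := root_coeff_cases hcard hM hB hD hind hθ hθP T hT a
    (self_mem_blockOf hM φ) ha'
  obtain ⟨t, ht0, ht⟩ := θ.2.exists_degree
  set r := T.relIndex (Subgroup.normalizer (P : Set G)) with hr
  have hTN : T ≤ Subgroup.normalizer (P : Set G) := fun g hg => ((hT g).1 hg).1
  have hCT : C[P] ≤ T := fun g hg => (hT g).2 ⟨Subgroup.centralizer_le_normalizer _ hg,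
    (stabilizes_iff_fix hM hB hD hcard hind hθ hθP (Subgroup.centralizer_le_normalizer _ hg)).2
      fun c c' e => by
        rw [show c' = ⟨g, hg⟩ * c * ⟨g, hg⟩⁻¹ from Subtype.ext e]
        exact θ.2.isClassFunction c _⟩
  have htower : (C[P]).relIndex T * r = (C[P]).relIndex (Subgroup.normalizer (P : Set G)) :=
    Subgroup.relIndex_mul_relIndex _ _ _ hCT hTN
  have hr0 : 1 ≤ r := Nat.one_le_iff_ne_zero.2 Subgroup.index_ne_zero_of_finite
  set s := ∑ ξ ∈ b.toFinset, a ξ with hs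
  have hsc : (∑ ξ ∈ b.toFinset, (a ξ : ℂ)) = (s : ℂ) := by rw [hs, Nat.cast_sum]
  rw [hsc, ht] at hsum hind_sum
  have hsz : (∑ ξ ∈ b.toFinset, (a ξ : ℤ)) = (s : ℤ) := by rw [hs, Nat.cast_sum]
  rw [hsz] at hc
  choose d hd0 hd using fun η : IrrCharacter C[P] => η.2.exists_degree
  -- the restriction to the centralizer
  have hexp : ∀ c : C[P], ζ c = ∑ η : IrrCharacter C[P], (a η : ℂ) * (η : C[P] → ℂ) c := by
    intro c
    have h := congrFun (Char.eq_sum_classInner (f := fun k : C[P] => (φ : G → ℂ) k)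
      (hζ.isCharacter.comp (C[P]).subtype).isClassFunction) c
    simp only [Finset.sum_apply, Pi.smul_apply, smul_eq_mul, ha'] at h
    exact h
  have hnexp : n = ∑ η, a η * d η := by
    have h := hexp 1
    rw [OneMemClass.coe_one, hdeg] at h
    simp only [hd] at h
    exact_mod_cast h
  have hindN : ∑ η ∈ (indSet M C[P] (blockOf M (φ : G → ℂ))).toFinset, a η * d η = r * t * s := by
    simp only [hd] at hind_sum
    exact_mod_cast hind_sum
  have hle : r * t * s ≤ n := by
    rw [← hindN, hnexp]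
    exact Finset.sum_le_univ_sum_of_nonneg fun _ => Nat.zero_le _
  obtain ⟨m, hm⟩ := (hζ.isCharacter.comp P.subtype).exists_nat_classInner
    (Char.isIrrCharacter_one (G := P)).isCharacter
  have hm' : ∑ z : P, ζ z = (p : ℂ) * m := by
    have h : classInner (fun z : P => ζ z) (fun _ => 1) = (m : ℂ) := hm
    rw [Char.classInner_one_right, hcard] at h
    rw [← h, ← mul_assoc, mul_inv_cancel₀ (Nat.cast_ne_zero.2 hpp.ne_zero), one_mul]
  have hmz : (p : ℤ) * m = n - r * t * ((s : ℤ) - p * a θ) := by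
    have h : (p : ℂ) * m = (n : ℂ) + -((r : ℂ) * t * ((s : ℂ) - p * a θ)) := by
      rw [← hm', ← Finset.add_sum_erase _ _ (Finset.mem_univ (1 : P)), hsum, OneMemClass.coe_one,
        hdeg]
    have h' : ((p : ℤ) * m : ℤ) = (n : ℤ) + -((r : ℤ) * t * ((s : ℤ) - p * a θ)) := by exact_mod_cast h
    linarith
  have hEdvd : (C[P]).relIndex T * r ∣ p - 1 := htower ▸ relIndex_centralizer_dvd hcard
  have hroot1 : ∀ ξ ∈ b, d ξ = t := fun ξ hξ => by
    have h := (root_apply_one hM hB hD hcard hind hξ hθ).trans ht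
    rw [hd] at h
    exact_mod_cast h
  have hsupp : t * s = n → ∀ η, η ∉ b → a η = 0 := by
    intro hts η hη
    have h := Finset.sum_add_sum_compl b.toFinset fun η => a η * d η
    rw [Finset.sum_congr rfl fun ξ hξ => by rw [hroot1 ξ (Set.mem_toFinset.1 hξ)],
      ← Finset.sum_mul, ← hs, mul_comm s t, hts, ← hnexp, add_eq_left,
      Finset.sum_eq_zero_iff] at h
    have h1 := h η (Finset.mem_compl.2 fun h => hη (Set.mem_toFinset.1 h))
    exact (mul_eq_zero.1 h1).resolve_right fun h2 => (hd0 η).ne' h2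
  have hPne : ∃ z ∈ P, z ≠ (1 : G) := by
    have hne : P ≠ ⊥ := fun h => by
      rw [h, Subgroup.card_bot] at hcard
      exact hpp.ne_one hcard.symm
    obtain ⟨⟨y, hyP⟩, hy⟩ := (Subgroup.ne_bot_iff_exists_ne_one (H := P)).1 hne
    exact ⟨y, hyP, fun h => hy (Subtype.ext h)⟩
  obtain ⟨z₀, hz₀, hz₀1⟩ := hPne
  rcases coeff_arith p _ r t s (a θ) m k hpp h5 hEdvd hk ht0 hr0 hc hle hmz with
    ⟨hr1, hts, he2, ht1, hs2, haθ⟩ | ⟨-, hts, hs1⟩
  swap
  · -- a single constituent makes `P` central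
    exfalso
    have hs1' : ∑ ξ ∈ b.toFinset, a ξ = 1 := hs1
    obtain ⟨ξ, hξb, hξ⟩ := Finset.exists_ne_zero_of_sum_ne_zero (hs1'.trans_ne one_ne_zero)
    rw [← Finset.add_sum_erase _ _ hξb] at hs1'
    have hξ1 : a ξ = 1 := by omega
    have hzero : ∀ η, η ≠ ξ → a η = 0 := fun η hη => by
      by_cases hηb : η ∈ b
      · have h0 : ∑ x ∈ b.toFinset.erase ξ, a x = 0 := by omega
        exact Finset.sum_eq_zero_iff.1 h0 η (Finset.mem_erase.2 ⟨hη, Set.mem_toFinset.2 hηb⟩)
      · exact hsupp hts η hηb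
    have hval : ∀ c : C[P], ζ c = (ξ : C[P] → ℂ) c := fun c => by
      rw [hexp c, Finset.sum_eq_single ξ (fun η _ hη => by simp [hzero η hη]) (by simp), hξ1,
        Nat.cast_one, one_mul]
    obtain ⟨c, hc1, hcz⟩ := exists_central_scalar ξ (inC_mem_center hcard (⟨z₀, hz₀⟩ : P))
    have h1 := hcz 1
    rw [mul_one, ← hval, ← hval, OneMemClass.coe_one, hdeg, inC_coe] at h1
    have hcen := mem_center_of_norm_eq hζ hfaith hdeg (g := z₀) (by
      rw [h1, norm_mul, Complex.norm_eq_one_of_pow_eq_one hc1 (orderOf_pos _).ne', one_mul,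
        Complex.norm_natCast])
    refine hnn ⟨fun w hw g => ?_⟩
    have hw' : w ∈ Subgroup.zpowers z₀ := (zpowers_eq_of_mem hcard hz₀ hz₀1).symm ▸ hw
    have hwc : w ∈ Subgroup.center G := Subgroup.zpowers_le.2 hcen hw'
    rwa [Subgroup.mem_center_iff.1 hwc g, mul_inv_cancel_right]
  subst ht1
  have hE2 : (C[P]).relIndex (Subgroup.normalizer (P : Set G)) = 2 := by
    rw [← htower, hr1, mul_one, he2]
  have hlin : ∀ ξ ∈ b, ∃ l : C[P] →* ℂˣ, (ξ : C[P] → ℂ) = fun g => (l g : ℂ) := fun ξ hξ =>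
    Char.exists_hom_of_degree_one ξ.2.isCharacter (by rw [hd, hroot1 ξ hξ, Nat.cast_one])
  have hexpb : ∀ c : C[P], ζ c = ∑ η ∈ b.toFinset, (a η : ℂ) * (η : C[P] → ℂ) c := fun c => by
    rw [hexp c]
    exact (Finset.sum_subset (Finset.subset_univ _) fun η _ hη => by
      rw [hsupp hts η (fun h => hη (Set.mem_toFinset.2 h)), Nat.cast_zero, zero_mul]).symm
  -- the centralizer
  have hCeq : C[P] = P ⊔ Subgroup.center G := by
    refine le_antisymm (fun c hc => ?_)
      (sup_le (le_centralizer_self hcard) (Subgroup.center_le_centralizer _))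
    obtain ⟨l, hl⟩ := hlin θ hθ
    have hpp' : ((pPt p (⟨c, hc⟩ : C[P]) : C[P]) : G) ∈ P := by
      rw [coe_pPt]
      refine root_pPt_mem hM hB hD hcard hind hθ (k := (⟨c, hc⟩ : C[P])) ?_
      rw [hl]
      exact Units.ne_zero _
    have hreg : IsPRegular p (pReg p (⟨c, hc⟩ : C[P])) := not_dvd_orderOf_pReg _
    set v := pReg p (⟨c, hc⟩ : C[P]) with hv
    have hval : ζ v = (n : ℂ) * (θ : C[P] → ℂ) v := by
      rw [hexpb v, Finset.sum_congr rfl fun η hη => by
        rw [root_reg hM hB hD hcard hind (Set.mem_toFinset.1 hη) hθ hreg], ← Finset.sum_mul,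
        ← Nat.cast_sum, ← hs, hs2]
    have hnorm : ‖(θ : C[P] → ℂ) v‖ = 1 := by
      rw [hl]
      refine Complex.norm_eq_one_of_pow_eq_one (n := orderOf v) ?_ (orderOf_pos v).ne'
      rw [← Units.val_pow_eq_pow_val, ← map_pow, pow_orderOf_eq_one, map_one, Units.val_one]
    have hcen := mem_center_of_norm_eq hζ hfaith hdeg (g := (v : G)) (by
      rw [hval, norm_mul, hnorm, mul_one, Complex.norm_natCast])
    have hdec : ((pPt p (⟨c, hc⟩ : C[P]) : C[P]) : G) * (v : G) = c := by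
      rw [← Subgroup.coe_mul, hv, pPt_mul_pReg]
    exact hdec ▸ Subgroup.mul_mem_sup hpp' hcen
  refine ⟨hCeq, hE2, ?_⟩
  -- the multiplicities
  obtain ⟨X, Y, δ, δ₀, -, hBXY, hdisj, -, -, -, -, hδ, hδ₀, -, -, -, -, hcX, -, hlast⟩ :=
    prime_structure hM hB hD hcard hind hθ hθP T hT
  have hcardb : b.toFinset.card = p := by
    rw [Set.toFinset_card, ← Nat.card_eq_fintype_card, root_card hM hB hD hcard hind]
  have hsum_erase : ∑ ξ ∈ b.toFinset.erase θ, (a ξ : ℤ) = (p : ℤ) - 3 := by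
    have h := Finset.add_sum_erase b.toFinset (fun ξ => (a ξ : ℤ)) (Set.mem_toFinset.2 hθ)
    rw [hsz, hs2, haθ, Nat.cast_sub (by omega)] at h
    push_cast at h
    linarith
  have hcarderase : (b.toFinset.erase θ).card = p - 1 := by
    rw [Finset.card_erase_of_mem (Set.mem_toFinset.2 hθ), hcardb]
  have hφX : φ ∉ X := by
    intro hX
    have hall : ∀ ξ ∈ b.toFinset.erase θ, (a ξ : ℤ) = 1 + δ φ := by
      intro ξ hξ
      have h := hcX φ hX ξ (Set.mem_toFinset.1 (Finset.mem_of_mem_erase hξ))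
        (Finset.ne_of_mem_erase hξ)
      rw [ha', ha', haθ] at h
      exact_mod_cast h
    rw [Finset.sum_congr rfl hall, Finset.sum_const, hcarderase, nsmul_eq_mul,
      Nat.cast_sub hpp.one_le] at hsum_erase
    rcases hδ φ hX with h | h <;> rw [h] at hsum_erase <;> push_cast at hsum_erase <;> nlinarith
  have hcases : ∀ ξ ∈ b.toFinset.erase θ, (a ξ : ℤ) = 1 ∨ (a ξ : ℤ) = 1 + δ₀ := by
    intro ξ hξ
    obtain ⟨ψ, hψ, heq⟩ := hlast ξ (Set.mem_toFinset.1 (Finset.mem_of_mem_erase hξ))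
      (Finset.ne_of_mem_erase hξ)
    have h1 : classInner (indFun C[P] ((ξ : C[P] → ℂ) - (θ : C[P] → ℂ))) ζ =
        (a ξ : ℂ) - 1 := by
      rw [Char.classInner_indFun C[P] _ hζ.isCharacter.isClassFunction, Char.classInner_sub_left,
        ← Char.classInner_conj_symm, ← Char.classInner_conj_symm (φ := fun h : C[P] => ζ h)
          (ψ := (θ : C[P] → ℂ)), ha', ha', haθ, Complex.conj_natCast, Complex.conj_natCast,
        Nat.cast_one]
    have h2 : classInner (indFun C[P] ((ξ : C[P] → ℂ) - (θ : C[P] → ℂ))) ζ =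
        (δ₀ : ℂ) * classInner (ψ : G → ℂ) ζ := by
      rw [show indFun C[P] ((ξ : C[P] → ℂ) - (θ : C[P] → ℂ)) =
        (δ₀ : ℂ) • (ψ : G → ℂ) + ∑ χ ∈ X.toFinset, (δ χ : ℂ) • (χ : G → ℂ) from
        funext fun g => by
          simp [heq g, Finset.sum_apply, finsum_mem_eq_toFinset_sum]]
      rw [Char.classInner_add_left, Char.classInner_smul_left, Char.classInner_sum_left,
        Finset.sum_eq_zero, add_zero]
      intro χ hχ
      rw [Char.classInner_smul_left, Char.classInner_irr_ne χ.2 hζ, mul_zero]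
      exact fun h => hφX ((Subtype.ext h : χ = φ) ▸ Set.mem_toFinset.1 hχ)
    rw [h1, Char.classInner_irr ψ.2 hζ] at h2
    split_ifs at h2 with h
    · right
      have h3 : (a ξ : ℂ) = 1 + (δ₀ : ℂ) := by rw [mul_one] at h2; linear_combination h2
      exact_mod_cast h3
    · left
      have h3 : (a ξ : ℂ) = 1 := by rw [mul_zero] at h2; linear_combination h2
      exact_mod_cast h3
  have hδneg : δ₀ = -1 := by
    rcases hδ₀ with h | h
    · exfalso
      have hge : ∑ ξ ∈ b.toFinset.erase θ, (1 : ℤ) ≤ ∑ ξ ∈ b.toFinset.erase θ, (a ξ : ℤ) :=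
        Finset.sum_le_sum fun ξ hξ => by rcases hcases ξ hξ with e | e <;> rw [e] <;> omega
      rw [hsum_erase, Finset.sum_const, hcarderase, nsmul_eq_mul, mul_one,
        Nat.cast_sub hpp.one_le] at hge
      push_cast at hge
      omega
    · exact h
  set Z := (b.toFinset.erase θ).filter fun ξ => a ξ = 0 with hZ
  have haZ : ∀ ξ ∈ b.toFinset, (a ξ : ℂ) = 1 - (if ξ ∈ Z then 1 else 0) := by
    intro ξ hξ
    by_cases hne : ξ = θ
    · subst hne; simp [hZ, haθ]
    · have hmem : ξ ∈ b.toFinset.erase θ := Finset.mem_erase.2 ⟨hne, hξ⟩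
      rcases hcases ξ hmem with h | h
      · have h' : a ξ = 1 := by exact_mod_cast h
        simp [hZ, h']
      · rw [hδneg] at h
        have h' : a ξ = 0 := by omega
        simp [hZ, hmem, h']
  have hZb : Z ⊆ b.toFinset := fun ξ hξ => Finset.mem_of_mem_erase (Finset.mem_filter.1 hξ).1
  have hZ2 : Z.card = 2 := by
    have h : (s : ℂ) = (p : ℂ) - (Z.card : ℂ) := by
      rw [hs, Nat.cast_sum, Finset.sum_congr rfl haZ, Finset.sum_sub_distrib, Finset.sum_const,
        Finset.sum_ite_mem, Finset.inter_eq_right.2 hZb, Finset.sum_const, hcardb, nsmul_eq_mul,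
        nsmul_eq_mul, mul_one, mul_one]
    rw [hs2, Nat.cast_sub (by omega)] at h
    have : (Z.card : ℂ) = ((2 : ℕ) : ℂ) := by push_cast at h ⊢; linear_combination h
    exact_mod_cast this
  obtain ⟨ξ₁, ξ₂, hξne, hZeq⟩ := Finset.card_eq_two.1 hZ2
  have hξ₁ : ξ₁ ∈ b.toFinset.erase θ := (Finset.mem_filter.1 (hZeq ▸ Finset.mem_insert_self _ _ : ξ₁ ∈ Z)).1
  obtain ⟨l₁, hl₁⟩ := hlin ξ₁ (Set.mem_toFinset.1 (Finset.mem_of_mem_erase hξ₁))
  obtain ⟨l₂, hl₂⟩ := hlin ξ₂ (Set.mem_toFinset.1 (hZb (hZeq ▸ by simp)))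
  -- values on `P`
  have hval : ∀ z : P, z ≠ 1 → ζ z = -((l₁ (inC hcard z) : ℂ) + (l₂ (inC hcard z) : ℂ)) := by
    intro z hz
    have hz1 : (z : G) ≠ 1 := fun h => hz (Subtype.ext h)
    have hk1 : ¬ IsPRegular p ((inC hcard z : C[P]) : G) := fun h => h (by
      have hd' := Subgroup.orderOf_dvd_natCard P z.2
      rw [hcard] at hd'
      rw [inC_coe, ((Nat.dvd_prime hpp).1 hd').resolve_left fun h1 => hz1 (orderOf_eq_one_iff.1 h1)])
    have hsum0 : ∑ ξ ∈ b.toFinset, (ξ : C[P] → ℂ) (inC hcard z) = 0 := by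
      have h4 := sum_block_mul_conj_eq_zero hM (vInt_indVec hM hind.1) (g := inC hcard z) (h := 1)
        (fun hcj => by
          rw [show pPt p (1 : C[P]) = 1 from (pPt_eq_one_iff _).2
            (by simp [hpp.ne_one])] at hcj
          exact hk1 ((isPRegular_coe_iff _).2 ((pPt_eq_one_iff _).1 (isConj_one_left.1 hcj))))
      rw [finsum_mem_eq_toFinset_sum, Finset.sum_congr rfl fun ξ hξ => by
        rw [root_apply_one hM hB hD hcard hind (Set.mem_toFinset.1 hξ) hθ], ← Finset.sum_mul,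
        mul_eq_zero] at h4
      refine h4.resolve_right fun h => θ.2.apply_one_ne_zero ?_
      simpa using congrArg conj h
    show ζ ((inC hcard z : C[P]) : G) = _
    rw [hexpb, Finset.sum_congr rfl fun ξ hξ => by rw [haZ ξ hξ, sub_mul, one_mul, ite_mul, one_mul,
      zero_mul], Finset.sum_sub_distrib, hsum0, Finset.sum_ite_mem,
      Finset.inter_eq_right.2 hZb, hZeq, Finset.sum_pair hξne, hl₁, hl₂, zero_sub]
  -- the two characters are inverse to one another
  have hnle : ¬ (Subgroup.normalizer (P : Set G)) ≤ C[P] := fun h => by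
    rw [← Subgroup.relIndex_eq_one, hE2] at h
    omega
  obtain ⟨w, hw, hwC⟩ := SetLike.not_le_iff_exists.1 hnle
  have hinvval : ∀ z : P, ζ (z⁻¹ : P) = ζ z := fun z => by
    rw [Subgroup.coe_inv, ← inverts_of_relIndex_two hcard hE2 hw hwC z.2]
    exact hζ.isClassFunction (z : G) w
  let m₁ : P →* ℂˣ := l₁.comp
    { toFun := inC hcard, map_one' := inC_one hcard, map_mul' := inC_mul hcard }
  let m₂ : P →* ℂˣ := l₂.comp
    { toFun := inC hcard, map_one' := inC_one hcard, map_mul' := inC_mul hcard }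
  have hroot : ∀ (f : P →* ℂˣ) (z : P), (f z : ℂ) ^ p = 1 := fun f z => by
    rw [← Units.val_pow_eq_pow_val, ← map_pow, ← hcard, pow_card_eq_one', map_one, Units.val_one]
  have hodd : Odd p := hpp.odd_of_ne_two (by omega)
  have hm12 : ∀ z : P, z ≠ 1 → (m₂ z : ℂ) = (m₁ z : ℂ)⁻¹ := by
    intro z hz
    have h := hinvval z
    rw [hval z hz, hval z⁻¹ (inv_ne_one.2 hz), neg_inj] at h
    have h' : (m₁ z : ℂ)⁻¹ + (m₂ z : ℂ)⁻¹ = (m₁ z : ℂ) + (m₂ z : ℂ) := by
      rw [← Units.val_inv_eq_inv_val, ← Units.val_inv_eq_inv_val, ← map_inv, ← map_inv]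
      exact h
    have hx := Units.ne_zero (m₁ z)
    have hy := Units.ne_zero (m₂ z)
    have h'' : ((m₁ z : ℂ) + (m₂ z : ℂ)) * ((m₁ z : ℂ) * (m₂ z : ℂ) - 1) = 0 := by
      field_simp at h'
      linear_combination -h'
    rcases mul_eq_zero.1 h'' with h0 | h0
    · exfalso
      have h1 := hroot m₁ z
      rw [eq_neg_of_add_eq_zero_left h0, hodd.neg_pow, hroot m₂ z] at h1
      norm_num at h1
    · exact eq_inv_of_mul_eq_one_right (sub_eq_zero.1 h0)
  have hne1 : ∃ z : P, (m₁ z : ℂ) ≠ 1 := by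
    by_contra h
    push Not at h
    refine (Finset.ne_of_mem_erase hξ₁) (root_trivial_unique hM hB hD hcard hind
      (Set.mem_toFinset.1 (Finset.mem_of_mem_erase hξ₁)) hθ (fun c hc => ?_) hθP)
    rw [hl₁]
    show (l₁ c : ℂ) = (l₁ 1 : ℂ)
    rw [map_one, Units.val_one]
    exact h ⟨(c : G), hc⟩
  obtain ⟨z₁, hz₁⟩ := hne1
  have hz₁1 : z₁ ≠ 1 := fun h => hz₁ (by rw [h, map_one, Units.val_one])
  haveI := NeZero.mk hpp.ne_zero
  haveI : IsCyclic P := isCyclic_of_prime_card hcard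
  let e₀ := (zmodCyclicMulEquiv (G := P) inferInstance).symm
  let k₀ : P ≃ ZMod p :=
    (e₀.toEquiv.trans Multiplicative.toAdd).trans (ZMod.ringEquivCongr hcard).toEquiv
  have hk₀ : ∀ y z : P, k₀ (y * z) = k₀ y + k₀ z := fun y z => by
    show ZMod.ringEquivCongr hcard (Multiplicative.toAdd (e₀ (y * z))) = _
    rw [map_mul, toAdd_mul, map_add]
    rfl
  obtain ⟨i, -, hi⟩ := (Complex.isPrimitiveRoot_exp p hpp.ne_zero).eq_pow_of_pow_eq_one (hroot m₁ z₁)
  have hi' : (m₁ z₁ : ℂ) = ZMod.stdAddChar ((i : ℕ) : ZMod p) := by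
    rw [show ((i : ℕ) : ZMod p) = ((i : ℤ) : ZMod p) by norm_cast, ZMod.stdAddChar_coe, ← hi,
      ← Complex.exp_nat_mul]
    congr 1
    push_cast
    ring
  have hk01 : k₀ 1 = 0 := by
    have h := hk₀ 1 1
    rw [one_mul] at h
    exact left_eq_add.1 h
  have hkz₁ : k₀ z₁ ≠ 0 := fun h => hz₁1 (k₀.injective (h.trans hk01.symm))
  have hci : ((i : ℕ) : ZMod p) ≠ 0 := fun h => hz₁ (by rw [hi', h]; exact AddChar.map_zero_eq_one _)
  let c : ZMod p := ((i : ℕ) : ZMod p) / k₀ z₁
  have hc0 : c ≠ 0 := div_ne_zero hci hkz₁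
  let k' : P ≃ ZMod p := k₀.trans (Equiv.mulLeft₀ c hc0)
  have hk'app : ∀ y, k' y = c * k₀ y := fun y => rfl
  refine ⟨k', fun y z => by rw [hk'app, hk'app, hk'app, hk₀, mul_add], fun y hy => ?_⟩
  have hm1y : (m₁ y : ℂ) = ZMod.stdAddChar (k' y) := by
    obtain ⟨j, hj⟩ := mem_powers_of_prime_card hcard (g' := y) hz₁1
    have hj' : z₁ ^ j = y := hj
    have hkj : ∀ j : ℕ, k₀ (z₁ ^ j) = (j : ZMod p) * k₀ z₁ := fun j => by
      induction j with
      | zero => rw [pow_zero, hk01, Nat.cast_zero, zero_mul]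
      | succ l ih => rw [pow_succ, hk₀, ih, Nat.cast_succ, add_mul, one_mul]
    rw [← hj', map_pow, Units.val_pow_eq_pow_val, hi', hk'app, hkj,
      show c * ((j : ZMod p) * k₀ z₁) = j • ((i : ℕ) : ZMod p) by
        rw [nsmul_eq_mul, mul_left_comm, div_mul_cancel₀ _ hkz₁],
      AddChar.map_nsmul_eq_pow]
  rw [hval y hy]
  show -((m₁ y : ℂ) + (m₂ y : ℂ)) = _
  rw [hm12 y hy, hm1y, AddChar.map_neg_eq_inv]

end Cfsg.Lib.Block
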