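import Cfsg.Agent.Lib.Block.ThompsonDegree
import Cfsg.Agent.Lib.Char.Ito
import Cfsg.Agent.Lib.Char.Quotient
import Cfsg.Agent.Lib.Char.PermLemma
import Cfsg.Agent.Lib.Core.PSolvable
import Cfsg.Agent.Lib.Core.Basic
import Cfsg.Agent.Lib.PGroup.Elements

/-!
# All degrees prime to `p` in `p`-soluble groups
-/

set_option autoImplicit false
set_option linter.unusedSectionVars false
set_option maxHeartbeats 800000

namespace Cfsg.Lib.Block

open Cfsg Cfsg.Lib.Char

universe u

/-- All irreducible degrees are prime to `p`. -/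
def DegreesPrimeTo (p : ℕ) (G : Type u) [Group G] : Prop :=
  ∀ χ : IrrCharacter G, ¬ p ∣ charDegree (χ : G → ℂ)

variable {G : Type u} [Group G] [Finite G] {p : ℕ} [hp : Fact p.Prime]

theorem degreesPrimeTo_quotient (h : DegreesPrimeTo p G) (N : Subgroup G) [N.Normal] :
    DegreesPrimeTo p (G ⧸ N) := fun ψ => h ⟨_, isIrrCharacter_inflate N ψ.2⟩

theorem exists_over_deg (H : Subgroup G) [Fintype G] [Fintype H] (θ : IrrCharacter H) :
    ∃ χ : IrrCharacter G, classInner (fun n : H => (χ : G → ℂ) n) (θ : H → ℂ) ≠ 0 := by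
  obtain ⟨χ, hχ⟩ := exists_constituent (isCharacter_indFun H θ.2.isCharacter)
    (by rw [indFun_apply_one]
        exact mul_ne_zero (Nat.cast_ne_zero.2 Subgroup.index_ne_zero_of_finite)
          θ.2.apply_one_ne_zero)
  rw [classInner_indFun H _ χ.2.isClassFunction] at hχ
  refine ⟨χ, fun h0 => hχ ?_⟩
  rw [← classInner_conj_symm, h0, map_zero]

theorem degreesPrimeTo_normal (h : DegreesPrimeTo p G) (N : Subgroup G) [N.Normal] :
    DegreesPrimeTo p N := by
  haveI := Fintype.ofFinite G
  haveI := Fintype.ofFinite N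
  intro θ hd
  obtain ⟨χ, hχ⟩ := exists_over_deg N θ
  exact h χ (hd.trans (degree_ratio_dvd_index N χ.2 θ.2 hχ χ.2.apply_one_eq_charDegree
    θ.2.apply_one_eq_charDegree).1)

/-- A `p`-subgroup fixes every character of a normal subgroup it generates the group with. -/
theorem centralizes_of_degreesPrimeTo (h : DegreesPrimeTo p G) (P : Subgroup G) (hP : IsPGroup p P)
    (N : Subgroup G) [N.Normal] (hN : (Nat.card N).Coprime p) {j : ℕ} (hidx : N.index = p ^ j) :
    ∀ n ∈ N, ∀ x ∈ P, x * n = n * x := by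
  classical
  haveI := Fintype.ofFinite G
  haveI := Fintype.ofFinite N
  have hinv : ∀ (θ : IrrCharacter N) (g : G) (n : N),
      (θ : N → ℂ) (MulAut.conjNormal g n) = (θ : N → ℂ) n := by
    intro θ g n
    obtain ⟨χ, hχ⟩ := exists_over_deg N θ
    obtain ⟨hdvd, hquo⟩ := degree_ratio_dvd_index N χ.2 θ.2 hχ χ.2.apply_one_eq_charDegree
      θ.2.apply_one_eq_charDegree
    rw [hidx] at hquo
    have h1 : (charDegree (χ : G → ℂ) / charDegree (θ : N → ℂ)).Coprime (p ^ j) :=
      Nat.Coprime.pow_right j (Nat.Coprime.symm ((hp.out.coprime_iff_not_dvd).2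
        fun hd => h χ (hd.trans (Nat.div_dvd_of_dvd hdvd))))
    have h2 := (Nat.eq_of_dvd_of_div_eq_one hdvd (h1.eq_one_of_dvd hquo)).symm
    have hres := res_eq_of_degree χ.2.isCharacter θ.2 hχ
      (by rw [χ.2.apply_one_eq_charDegree, θ.2.apply_one_eq_charDegree, h2])
    rw [← congrFun hres n, ← congrFun hres (MulAut.conjNormal g n)]
    exact χ.2.isCharacter.conj_invariant (n : G) g
  let C : Subgroup N := (Subgroup.centralizer (P : Set G)).subgroupOf N
  suffices hC : C = ⊤ by
    intro n hn x hx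
    exact Subgroup.mem_centralizer_iff.1
      (show (n : G) ∈ Subgroup.centralizer (P : Set G) from
        (hC ▸ Subgroup.mem_top (⟨n, hn⟩ : N) : (⟨n, hn⟩ : N) ∈ C)) x hx
  refine Cfsg.Lib.PGroup.eq_top_of_forall_exists_conj_mem fun n => ?_
  let S := {m : N // IsConj n m}
  let act : MulAction P S :=
    { smul := fun x m => ⟨MulAut.conjNormal (x : G) (m : N),
        ((isConj_iff_forall_irr n _).2 fun θ => by
          rw [hinv θ x m]; exact (isConj_iff_forall_irr n _).1 m.2 θ)⟩
      one_smul := fun m => Subtype.ext (by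
        show MulAut.conjNormal ((1 : P) : G) (m : N) = m
        simp)
      mul_smul := fun x y m => Subtype.ext (by
        show MulAut.conjNormal ((x * y : P) : G) (m : N) =
          MulAut.conjNormal (x : G) (MulAut.conjNormal (y : G) (m : N))
        simp [map_mul]) }
  letI := act
  have hcard : ¬ p ∣ Nat.card S := by
    intro hd
    have h1 : (classFinset n).card = Nat.card S := by
      rw [← Nat.card_eq_finsetCard]
      exact Nat.card_congr (Equiv.subtypeEquivRight fun m => mem_classFinset)
    rw [← h1, card_classFinset] at hd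
    exact (hp.out.coprime_iff_not_dvd).1 hN.symm (hd.trans (Subgroup.index_dvd_card _))
  obtain ⟨⟨m, hm⟩, hfix⟩ := hP.nonempty_fixed_point_of_prime_not_dvd_card S hcard
  obtain ⟨c, hc⟩ := isConj_iff.1 hm
  refine ⟨c, Subgroup.mem_subgroupOf.2 (Subgroup.mem_centralizer_iff.2 fun x hx => ?_)⟩
  rw [hc]
  have h1 : MulAut.conjNormal x m = m :=
    congrArg (Subtype.val : S → N) (hfix ⟨x, hx⟩)
  have h2 : x * (m : G) * x⁻¹ = m := by
    rw [← MulAut.conjNormal_apply, h1]
  exact mul_inv_eq_iff_eq_mul.1 h2

/-- The normal case of the Itô–Michler theorem for `p`-soluble groups. -/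
theorem sylow_normal_of_degreesPrimeTo : ∀ (n : ℕ) {G : Type u} [Group G] [Finite G],
    Nat.card G ≤ n → IsPSolvable p G → DegreesPrimeTo p G → ∀ P : Sylow p G,
      (P : Subgroup G).Normal := by
  intro n
  induction n with
  | zero => intro G _ _ h; have := Nat.card_pos (α := G); omega
  | succ n ih =>
    intro G _ _ hcard hsolv hdeg P
    rcases subsingleton_or_nontrivial G with hG | hG
    · exact ⟨fun a ha g => Subsingleton.elim a (g * a * g⁻¹) ▸ ha⟩
    obtain ⟨N, hN⟩ := Cfsg.Lib.Core.exists_isMinNormal_univ (G := G)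
    haveI := hN.1
    have hlt : Nat.card (G ⧸ N) ≤ n := by
      have h2 : 2 ≤ Nat.card N := Finite.one_lt_card_iff_nontrivial.2
        ((Subgroup.nontrivial_iff_ne_bot N).2 hN.2.1)
      have h := Subgroup.card_eq_card_quotient_mul_card_subgroup N
      have := Nat.card_pos (α := G ⧸ N)
      nlinarith
    let P' : Sylow p (G ⧸ N) := P.mapSurjective (QuotientGroup.mk'_surjective N)
    haveI hP' : (P' : Subgroup (G ⧸ N)).Normal :=
      ih hlt (Cfsg.Lib.Core.isPSolvable_quotient hsolv N) (degreesPrimeTo_quotient hdeg N) P'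
    have hH : ((P : Subgroup G) ⊔ N).Normal := by
      have h := hP'.comap (QuotientGroup.mk' N)
      rwa [show (P' : Subgroup (G ⧸ N)) = (P : Subgroup G).map (QuotientGroup.mk' N) from rfl,
        Subgroup.comap_map_eq, QuotientGroup.ker_mk'] at h
    rcases Cfsg.Lib.Core.minimal_normal_of_isPSolvable hsolv hN with hNp | hcop
    · have hp' : IsPGroup p ((P : Subgroup G) ⊔ N : Subgroup G) :=
        P.2.to_sup_of_normal_right hNp
      rwa [P.3 hp' le_sup_left] at hH
    set H := (P : Subgroup G) ⊔ N with hHdef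
    haveI := hH
    by_cases htop : H = ⊤
    · obtain ⟨j, hj⟩ : ∃ j : ℕ, N.index = p ^ j := by
        obtain ⟨i, hi⟩ := IsPGroup.iff_card.1 P.2
        have h1 : N.relIndex ((P : Subgroup G) ⊔ N) = N.relIndex (P : Subgroup G) :=
          Subgroup.relIndex_sup_right _ _
        rw [← hHdef, htop, Subgroup.relIndex_top_right] at h1
        obtain ⟨j, -, hj⟩ := (Nat.dvd_prime_pow hp.out).1
          (show N.index ∣ p ^ i from hi ▸ h1 ▸ Subgroup.relIndex_dvd_card N (P : Subgroup G))
        exact ⟨j, hj⟩
      have hc := centralizes_of_degreesPrimeTo hdeg (P : Subgroup G) P.2 N hcop hj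
      rw [← Subgroup.normalizer_eq_top_iff, eq_top_iff, ← htop]
      refine sup_le Subgroup.le_normalizer fun m hm => ?_
      rw [Subgroup.mem_normalizer_iff]
      intro x
      constructor
      · intro hx
        rwa [← hc m hm x hx, mul_inv_cancel_right]
      · intro hx
        have h := hc m hm _ hx
        have e : x = m * x * m⁻¹ := by
          calc x = m⁻¹ * (m * x * m⁻¹ * m) := by group
            _ = m⁻¹ * (m * (m * x * m⁻¹)) := by rw [h]
            _ = m * x * m⁻¹ := by group
        rwa [e]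
    · have hltH : Nat.card H ≤ n := by
        have h := H.card_mul_index
        have h1 := Subgroup.one_lt_index_of_ne_top htop
        have := Nat.card_pos (α := H)
        nlinarith
      have hPH : (P : Subgroup G) ≤ H := le_sup_left
      let PH : Sylow p H := P.subtype hPH
      haveI hn : (PH : Subgroup H).Normal :=
        ih hltH (Cfsg.Lib.Core.isPSolvable_subgroup hsolv H) (degreesPrimeTo_normal hdeg H) PH
      haveI := Sylow.characteristic_of_normal PH hn
      have h := Cfsg.Lib.Core.normal_map_char_of_normal (N := H) (PH : Subgroup H)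
      rwa [show (PH : Subgroup H) = (P : Subgroup G).subgroupOf H from rfl,
        Subgroup.map_subgroupOf_eq_of_le hPH] at h

/-- Itô–Michler for `p`-soluble groups. -/
theorem sylow_normal_comm_iff (hsolv : IsPSolvable p G) (P : Sylow p G) :
    ((P : Subgroup G).Normal ∧ ∀ a ∈ (P : Subgroup G), ∀ b ∈ (P : Subgroup G), a * b = b * a) ↔
      DegreesPrimeTo p G := by
  haveI := Fintype.ofFinite G
  constructor
  · rintro ⟨hn, hab⟩ χ hd
    exact P.not_dvd_index (hd.trans
      (degree_dvd_index_of_comm (P : Subgroup G) hab χ.2 χ.2.apply_one_eq_charDegree))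
  · intro hdeg
    have hn := sylow_normal_of_degreesPrimeTo (Nat.card G) le_rfl hsolv hdeg P
    refine ⟨hn, fun a ha b hb => ?_⟩
    haveI := Fintype.ofFinite (P : Subgroup G)
    have hall : ∀ θ : IrrCharacter (P : Subgroup G), (θ : ↥(P : Subgroup G) → ℂ) 1 = 1 := by
      intro θ
      obtain ⟨i, hi⟩ := IsPGroup.iff_card.1 P.2
      have hdv := hi ▸ charDegree_dvd_card θ.2
      obtain ⟨k, -, hk⟩ := (Nat.dvd_prime_pow hp.out).1 hdv
      have hnd := degreesPrimeTo_normal hdeg (P : Subgroup G) θ
      rcases Nat.eq_zero_or_pos k with rfl | hk0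
      · rw [θ.2.apply_one_eq_charDegree, hk, pow_zero, Nat.cast_one]
      · exact absurd (hk ▸ dvd_pow_self p hk0.ne') hnd
    exact congrArg Subtype.val (comm_iff_all_linear.2 hall ⟨a, ha⟩ ⟨b, hb⟩)

end Cfsg.Lib.Block
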