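import Cfsg.Agent.Lib.Block.CyclicPrimeApps
import Cfsg.Agent.Lib.Block.CyclicPrimeStructure
import Cfsg.Agent.Lib.Block.DegreePSubTwo
import Cfsg.Agent.Lib.Block.DegreesPrime
import Cfsg.Agent.Lib.Char.Burnside
import Cfsg.Agent.Lib.Char.UniformCent
import Cfsg.Agent.Lib.Block.CyclicPrimeCount

/-!
# Groups whose nonlinear irreducible degrees are primes
-/

set_option autoImplicit false
set_option linter.unusedSectionVars false
set_option linter.style.haveILetI false
set_option maxHeartbeats 800000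

namespace Cfsg.Lib.Block

open Cfsg Cfsg.Lib
open scoped ComplexConjugate

universe u

/-- All nonlinear degrees are primes. -/
def PrimeDegrees (G : Type u) [Group G] : Prop :=
  ∀ χ : IrrCharacter G, charDegree (χ : G → ℂ) = 1 ∨ (charDegree (χ : G → ℂ)).Prime

variable {G : Type u} [Group G] [Finite G]

theorem primeDegrees_quotient (h : PrimeDegrees G) (N : Subgroup G) [N.Normal] :
    PrimeDegrees (G ⧸ N) := fun ψ => h ⟨_, Char.isIrrCharacter_inflate N ψ.2⟩

theorem primeDegrees_normal (h : PrimeDegrees G) (N : Subgroup G) [N.Normal] :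
    PrimeDegrees N := by
  haveI := Fintype.ofFinite G
  haveI := Fintype.ofFinite N
  intro θ
  obtain ⟨χ, hχ⟩ := exists_over_deg N θ
  have hd := (Char.degree_ratio_dvd_index N χ.2 θ.2 hχ χ.2.apply_one_eq_charDegree
    θ.2.apply_one_eq_charDegree).1
  rcases h χ with h1 | h1
  · rw [h1] at hd
    exact Or.inl (Nat.dvd_one.1 hd)
  · exact (h1.eq_one_or_self_of_dvd _ hd).imp id fun e => by rw [e]; exact h1

section Simple

variable [IsSimpleGroup G]

theorem center_eq_bot (hnc : ¬ ∀ a b : G, a * b = b * a) : Subgroup.center G = ⊥ :=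
  (Subgroup.Normal.eq_bot_or_eq_top (inferInstance : (Subgroup.center G).Normal)).resolve_right
    fun h => hnc fun a b => (Subgroup.mem_center_iff.1 (h ▸ Subgroup.mem_top b) a)

theorem faithful_of_ne_triv {χ : IrrCharacter G} (hχ : χ ≠ trivChar G) :
    ∀ g : G, (χ : G → ℂ) g = (χ : G → ℂ) 1 → g = 1 := by
  haveI := Fintype.ofFinite G
  intro g hg
  rcases Subgroup.Normal.eq_bot_or_eq_top (Char.charKer_normal χ.2.isCharacter) with h | h
  · exact Subgroup.mem_bot.1 (h ▸ (Char.mem_charKer χ.2.isCharacter).2 hg)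
  refine absurd (Subtype.ext ?_) hχ
  have hall : ∀ x, (χ : G → ℂ) x = (χ : G → ℂ) 1 := fun x =>
    (Char.mem_charKer χ.2.isCharacter).1 (h ▸ Subgroup.mem_top x)
  have hs : classInner (χ : G → ℂ) (fun _ => 1) = (χ : G → ℂ) 1 := by
    rw [Char.classInner_one_right, Finset.sum_congr rfl fun x _ => hall x, Finset.sum_const,
      Finset.card_univ, nsmul_eq_mul, Nat.card_eq_fintype_card, ← mul_assoc,
      inv_mul_cancel₀ (Nat.cast_ne_zero.2 Fintype.card_ne_zero), one_mul]
  by_contra hne
  rw [Char.classInner_irr_ne χ.2 Char.isIrrCharacter_one hne] at hs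
  exact χ.2.apply_one_ne_zero hs.symm

theorem degree_ne_one (hnc : ¬ ∀ a b : G, a * b = b * a) {χ : IrrCharacter G}
    (hχ : χ ≠ trivChar G) : charDegree (χ : G → ℂ) ≠ 1 := by
  intro h
  obtain ⟨f, hf⟩ := Char.exists_hom_of_degree_one χ.2.isCharacter
    (by rw [χ.2.apply_one_eq_charDegree, h, Nat.cast_one])
  refine hnc fun a b => ?_
  have h1 := faithful_of_ne_triv hχ (a * b * a⁻¹ * b⁻¹) (by
    rw [hf]
    simp only [map_mul, map_inv, map_one]
    rw [mul_comm (f a) (f b), mul_inv_cancel_right, mul_inv_cancel])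
  rwa [mul_inv_eq_one, mul_inv_eq_iff_eq_mul] at h1

theorem exists_nonlinear (hnc : ¬ ∀ a b : G, a * b = b * a) :
    ∃ χ : IrrCharacter G, χ ≠ trivChar G := by
  haveI := Fintype.ofFinite G
  classical
  by_contra hcon
  push Not at hcon
  have hs := Char.sum_degree_mul (1 : G)
  rw [if_pos rfl, Finset.sum_eq_single (trivChar G) (fun χ _ h => absurd (hcon χ) h) (by simp),
    trivChar_coe, mul_one] at hs
  simp only at hs
  have h1 : Nat.card G = 1 := by exact_mod_cast hs.symm
  haveI := (Nat.card_eq_one_iff_unique.1 h1).1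
  exact hnc fun a b => Subsingleton.elim _ _

/-- A Sylow subgroup for a prime that is a degree has prime order. -/
theorem sylow_card_of_degree (hnc : ¬ ∀ a b : G, a * b = b * a) {q : ℕ} [hq : Fact q.Prime]
    {χ : IrrCharacter G} (hd : charDegree (χ : G → ℂ) = q) (Q : Sylow q G) :
    Nat.card (Q : Subgroup G) = q := by
  haveI := Fintype.ofFinite G
  classical
  haveI := Fintype.ofFinite (Q : Subgroup G)
  have hne : χ ≠ trivChar G := by
    intro h
    rw [h, show charDegree ((trivChar G : IrrCharacter G) : G → ℂ) = 1 by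
      simp [charDegree, trivChar_coe]] at hd
    exact hq.out.ne_one hd.symm
  have hfaith := faithful_of_ne_triv hne
  have hχ1 : (χ : G → ℂ) 1 = (q : ℂ) := by rw [χ.2.apply_one_eq_charDegree, hd]
  have hres : IsCharacter (Q : Subgroup G) (fun x : (Q : Subgroup G) => (χ : G → ℂ) x) :=
    χ.2.isCharacter.comp (Q : Subgroup G).subtype
  have hdvd : q ∣ Nat.card G := Char.degree_dvd_card χ.2 hχ1
  have hQne : ∃ z : (Q : Subgroup G), z ≠ 1 := by
    have h := Q.card_eq_multiplicity
    by_contra hcon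
    push Not at hcon
    haveI : Subsingleton (Q : Subgroup G) := ⟨fun a b => by rw [hcon a, hcon b]⟩
    rw [Nat.card_unique] at h
    have hpos : 0 < (Nat.card G).factorization q :=
      hq.out.factorization_pos_of_dvd Nat.card_pos.ne' hdvd
    exact absurd h.symm (one_lt_pow₀ hq.out.one_lt hpos.ne').ne'
  -- the Sylow subgroup is abelian
  have hab : ∀ a ∈ (Q : Subgroup G), ∀ b ∈ (Q : Subgroup G), a * b = b * a := by
    by_cases hlin : ∀ φ : IrrCharacter (Q : Subgroup G), (φ : ↥(Q : Subgroup G) → ℂ) 1 = 1 ∨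
        classInner (fun x : (Q : Subgroup G) => (χ : G → ℂ) x) (φ : ↥(Q : Subgroup G) → ℂ) = 0
    · intro a ha b hb
      have h := hres.commutator_mem_ker (fun φ => (hlin φ).imp id fun h inst => by
        convert h) ⟨a, ha⟩ ⟨b, hb⟩
      simp only [Subgroup.coe_mul, InvMemClass.coe_inv, OneMemClass.coe_one] at h
      have h1 := hfaith _ h
      rwa [mul_inv_eq_one, mul_inv_eq_iff_eq_mul] at h1
    exfalso
    push Not at hlin
    obtain ⟨φ, hφ1, hφ⟩ := hlin
    obtain ⟨k, hk⟩ : ∃ k, charDegree (φ : ↥(Q : Subgroup G) → ℂ) = q ^ k := by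
      obtain ⟨j, hj⟩ := IsPGroup.iff_card.1 Q.2
      have h := Char.degree_dvd_card φ.2 φ.2.apply_one_eq_charDegree
      rw [hj] at h
      exact ((Nat.dvd_prime_pow hq.out).1 h).imp fun _ h => h.2
    have hk0 : k ≠ 0 := fun h0 => hφ1 (by
      rw [φ.2.apply_one_eq_charDegree, hk, h0, pow_zero, Nat.cast_one])
    have hle := Char.degree_le_of_constituent φ.2 hres hφ
    simp only [OneMemClass.coe_one, hχ1, φ.2.apply_one_eq_charDegree, hk, Complex.natCast_re] at hle
    have hle' : q ^ k ≤ q := by exact_mod_cast hle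
    have hk1 : k = 1 := by
      have := (Nat.pow_le_pow_iff_right hq.out.one_lt).1 (hle'.trans_eq (pow_one q).symm)
      omega
    subst hk1
    have hrest := Char.isCharacter_sub_constituent hres φ.2 hφ
    have hz := hrest.eq_zero_of_degree (by
      simp [φ.2.apply_one_eq_charDegree, hk, hχ1])
    have heq : ∀ x : (Q : Subgroup G), (χ : G → ℂ) x = (φ : ↥(Q : Subgroup G) → ℂ) x := fun x => by
      have h := congrFun hz x
      simp only [Pi.sub_apply, Pi.zero_apply, sub_eq_zero] at h
      exact h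
    haveI : Nontrivial (Q : Subgroup G) := ⟨⟨hQne.choose, 1, hQne.choose_spec⟩⟩
    haveI := Q.2.center_nontrivial
    obtain ⟨⟨z, hz1⟩, hz2⟩ := exists_ne (1 : Subgroup.center (Q : Subgroup G))
    have hzc : ∀ g : (Q : Subgroup G), g * z = z * g := Subgroup.mem_center_iff.1 hz1
    have hmul := Char.irr_apply_central_mul φ.2 hzc z⁻¹
    rw [mul_inv_cancel, φ.2.isCharacter.apply_inv, Complex.mul_conj, Complex.normSq_eq_norm_sq,
      φ.2.apply_one_eq_charDegree, hk, pow_one] at hmul
    have hn2 : (q : ℝ) * q = ‖(φ : ↥(Q : Subgroup G) → ℂ) z‖ ^ 2 := by exact_mod_cast hmul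
    have hn : ‖(χ : G → ℂ) z‖ = (q : ℝ) := by
      rw [heq]
      nlinarith [norm_nonneg ((φ : ↥(Q : Subgroup G) → ℂ) z), (Nat.cast_nonneg q : (0 : ℝ) ≤ q)]
    have hc := mem_center_of_norm_eq χ.2 hfaith hχ1 hn
    rw [center_eq_bot hnc, Subgroup.mem_bot] at hc
    exact hz2 (Subtype.ext (Subtype.ext hc))
  -- the character vanishes off the identity
  have hvan : ∀ x : (Q : Subgroup G), x ≠ 1 → (χ : G → ℂ) x = 0 := by
    intro x hx
    obtain ⟨n, ρ, hirr, hρ⟩ := χ.2
    have hn : Module.finrank ℂ (Fin n → ℂ) = q := by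
      have h := congrFun hρ 1
      rw [Representation.char_one, hχ1] at h
      exact_mod_cast h
    rcases Char.character_zero_or_norm ρ (x : G) (by
        rw [Char.card_classFinset, hn, hq.out.coprime_iff_not_dvd]
        exact fun h => Q.not_dvd_index (h.trans (Subgroup.index_dvd_of_le (fun y hy =>
          Subgroup.mem_centralizer_singleton_iff.2 (hab y hy x x.2))))) with h | h
    · rwa [hρ] at h
    · rw [hρ, hn] at h
      have hc := mem_center_of_norm_eq χ.2 hfaith hχ1 h
      rw [center_eq_bot hnc, Subgroup.mem_bot] at hc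
      exact absurd (Subtype.ext hc) hx
  obtain ⟨m, hm⟩ := hres.exists_nat_classInner
    (Char.isIrrCharacter_one (G := (Q : Subgroup G))).isCharacter
  rw [Char.classInner_one_right, Finset.sum_eq_single (1 : (Q : Subgroup G))
    (fun x _ hx => hvan x hx) (by simp), OneMemClass.coe_one, hχ1] at hm
  have h2 : (q : ℂ) = (Nat.card (Q : Subgroup G) : ℂ) * m := by
    rw [← hm, ← mul_assoc, mul_inv_cancel₀ (Nat.cast_ne_zero.2 Nat.card_pos.ne'), one_mul]
  have h3 : q = Nat.card (Q : Subgroup G) * m := by exact_mod_cast h2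
  rcases hq.out.eq_one_or_self_of_dvd _ ⟨m, h3⟩ with h | h
  · obtain ⟨z, hz⟩ := hQne
    haveI := (Nat.card_eq_one_iff_unique.1 h).1
    exact absurd (Subsingleton.elim _ _) hz
  · exact h

/-- A nonabelian simple group with a Sylow subgroup of prime order fuses inside its normalizer. -/
theorem normalizer_not_le {q : ℕ} [hq : Fact q.Prime] (hnc : ¬ ∀ a b : G, a * b = b * a)
    (Q : Sylow q G) (hQ : Nat.card (Q : Subgroup G) = q) :
    ¬ Subgroup.normalizer ((Q : Subgroup G) : Set G) ≤
      Subgroup.centralizer ((Q : Subgroup G) : Set G) := by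
  intro hP
  have hcompl := MonoidHom.ker_transferSylow_isComplement' Q hP
  rcases Subgroup.Normal.eq_bot_or_eq_top
    (inferInstance : (MonoidHom.transferSylow Q hP).ker.Normal) with h | h
  · rw [h, Subgroup.isComplement'_bot_left] at hcompl
    refine hnc fun a b => ?_
    have hc : Nat.card G = q := by rw [← hQ, hcompl, Subgroup.card_top]
    haveI := isCyclic_of_prime_card hc
    exact IsMulCommutative.is_comm.comm a b
  · rw [h, Subgroup.isComplement'_top_left] at hcompl
    rw [hcompl, Subgroup.card_bot] at hQ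
    exact hq.out.ne_one hQ.symm

/-- The two-degree divisibility: two signed odd degrees at most `q` congruent mod `q` are equal. -/
theorem signed_eq {q : ℕ} (hq : Odd q) {a b : ℕ} (ha : Odd a) (hb : Odd b) (ha' : a < q)
    (hb' : b < q) {s t : ℤ} (hs : s = 1 ∨ s = -1) (ht : t = 1 ∨ t = -1)
    (h : (q : ℤ) ∣ s * a - t * b) : s * a = t * b := by
  obtain ⟨k, hk⟩ := h
  obtain ⟨i, hi⟩ := hq
  obtain ⟨j, hj⟩ := ha
  obtain ⟨l, hl⟩ := hb
  have h1 : -2 < k ∧ k < 2 := by
    constructor <;>
    · by_contra hcon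
      rcases hs with rfl | rfl <;> rcases ht with rfl | rfl <;> push Not at hcon <;>
        nlinarith
  have hk' : k = -1 ∨ k = 0 ∨ k = 1 := by omega
  rcases hk' with rfl | rfl | rfl <;> rcases hs with rfl | rfl <;> rcases ht with rfl | rfl <;> omega

theorem commutative_of_primeDegrees_simple (h : PrimeDegrees G) : ∀ a b : G, a * b = b * a := by
  classical
  haveI := Fintype.ofFinite G
  by_contra hnc
  obtain ⟨χ₀, hχ₀⟩ := exists_nonlinear hnc
  have hprime : ∀ χ : IrrCharacter G, χ ≠ trivChar G → (charDegree (χ : G → ℂ)).Prime := fun χ hχ =>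
    (h χ).resolve_left (degree_ne_one hnc hχ)
  -- two is not a degree
  have hodd : ∀ χ : IrrCharacter G, χ ≠ trivChar G → Odd (charDegree (χ : G → ℂ)) := by
    intro χ hχ
    rcases (hprime χ hχ).eq_two_or_odd' with h2 | h2
    · exfalso
      haveI : Fact (Nat.Prime 2) := ⟨Nat.prime_two⟩
      obtain ⟨Q⟩ : Nonempty (Sylow 2 G) := inferInstance
      have hQ := sylow_card_of_degree hnc h2 Q
      refine normalizer_not_le hnc Q hQ (IsCyclic.normalizer_le_centralizer ?_
        (isCyclic_of_prime_card hQ))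
      refine (Nat.minFac_eq_two_iff _).2 ?_
      exact hQ ▸ Subgroup.card_subgroup_dvd_card _
    · exact h2
  -- the largest degree
  obtain ⟨χm, hχm, hmax⟩ : ∃ χm : IrrCharacter G, χm ≠ trivChar G ∧
      ∀ χ, χ ≠ trivChar G → charDegree (χ : G → ℂ) ≤ charDegree (χm : G → ℂ) := by
    obtain ⟨χm, hm, hmax⟩ := (Finset.univ.filter fun χ : IrrCharacter G => χ ≠ trivChar G).exists_max_image
      (fun χ => charDegree (χ : G → ℂ)) ⟨χ₀, by simp [hχ₀]⟩
    exact ⟨χm, (Finset.mem_filter.1 hm).2, fun χ hχ => hmax χ (by simp [hχ])⟩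
  obtain ⟨q, hq⟩ : ∃ q, charDegree (χm : G → ℂ) = q := ⟨_, rfl⟩
  have hqp : q.Prime := hq ▸ hprime χm hχm
  have hqo : Odd q := hq ▸ hodd χm hχm
  haveI : Fact q.Prime := ⟨hqp⟩
  obtain ⟨Q⟩ : Nonempty (Sylow q G) := inferInstance
  have hQ := sylow_card_of_degree hnc hq Q
  obtain ⟨M, hM⟩ := exists_isPModular hqp
  haveI := Fintype.ofFinite (Subgroup.centralizer ((Q : Subgroup G) : Set G))
  have hB : IsPBlock M (principalBlock M G) := isPBlock_principal
  have hD := isDefectGroup_principal_sylow hM Q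
  obtain ⟨hind, -⟩ := principal_root hM Q.2 (le_centralizer_self hQ)
  have hθ := trivChar_mem_principal (G := Subgroup.centralizer ((Q : Subgroup G) : Set G)) hM
  have hθP : ∀ z : Subgroup.centralizer ((Q : Subgroup G) : Set G), (z : G) ∈ (Q : Subgroup G) →
      (trivChar _ : IrrCharacter (Subgroup.centralizer ((Q : Subgroup G) : Set G))).1 z =
        (trivChar _ : IrrCharacter (Subgroup.centralizer ((Q : Subgroup G) : Set G))).1 1 :=
    fun _ _ => rfl
  obtain ⟨X, Y, δ, δ₀, -, hBXY, hdis, hX, -, -, -, hδ, hδ₀, -, hreg, hXX, hYX, -⟩ :=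
    prime_structure hM hB hD hQ hind hθ hθP (Subgroup.normalizer ((Q : Subgroup G) : Set G))
      (fun g => ⟨fun hg => ⟨hg, (stabilizes_iff_fix hM hB hD hQ hind hθ hθP hg).2
        fun _ _ _ => rfl⟩, fun hg => hg.1⟩)
  set e := (Subgroup.centralizer ((Q : Subgroup G) : Set G)).relIndex
    (Subgroup.normalizer ((Q : Subgroup G) : Set G))
  have he : 2 ≤ e := by
    have h0 : e ≠ 0 := Subgroup.index_ne_zero_of_finite
    have h1 : e ≠ 1 := fun h1 => normalizer_not_le hnc Q hQ (Subgroup.relIndex_eq_one.1 h1)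
    omega
  have hfac := sylow_factorization Q hQ
  rw [hfac, pow_one] at hXX hYX
  have hd : ∀ χ : IrrCharacter G, χ ≠ trivChar G →
      Odd (charDegree (χ : G → ℂ)) ∧ 3 ≤ charDegree (χ : G → ℂ) ∧
        charDegree (χ : G → ℂ) ≤ q := by
    intro χ hχ
    refine ⟨hodd χ hχ, ?_, hq ▸ hmax χ hχ⟩
    obtain ⟨i, hi⟩ := hodd χ hχ
    have := (hprime χ hχ).two_le
    omega
  have ht : charDegree ((trivChar G : IrrCharacter G) : G → ℂ) = 1 := by
    simp [charDegree, trivChar_coe]
  rcases (hBXY ▸ trivChar_mem_principal (G := G) hM : trivChar G ∈ X ∪ Y) with hmem | hmem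
  · obtain ⟨χ, hχX, hχ⟩ : ∃ χ ∈ X, χ ≠ trivChar G := by
      by_contra hcon
      push Not at hcon
      have h1 : X ⊆ {trivChar G} := fun χ hχ => hcon χ hχ
      have h2 := Set.ncard_le_ncard h1
      rw [Set.ncard_singleton, ← Nat.card_coe_set_eq, hX] at h2
      omega
    obtain ⟨ho, h3, hle⟩ := hd χ hχ
    have hdvd := hXX _ hmem χ hχX
    rw [ht, Nat.cast_one, mul_one] at hdvd
    obtain ⟨k, hk⟩ := hdvd
    obtain ⟨i, hi⟩ := hqo
    obtain ⟨j, hj⟩ := ho
    have h1 : -2 < k ∧ k < 2 := by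
      constructor <;>
      · by_contra hcon
        rcases hδ _ hmem with e1 | e1 <;> rcases hδ χ hχX with e2 | e2 <;> rw [e1, e2] at hk <;>
          push Not at hcon <;> nlinarith
    have hk' : k = -1 ∨ k = 0 ∨ k = 1 := by omega
    rcases hk' with rfl | rfl | rfl <;> rcases hδ _ hmem with e1 | e1 <;>
      rcases hδ χ hχX with e2 | e2 <;> rw [e1, e2] at hk <;> omega
  · have hXne : ∀ χ ∈ X, χ ≠ trivChar G := fun χ hχ h =>
      Set.disjoint_left.1 hdis hχ (h ▸ hmem)
    have hlt : ∀ χ ∈ X, charDegree (χ : G → ℂ) < q := by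
      intro χ hχ
      refine lt_of_le_of_ne (hd χ (hXne χ hχ)).2.2 fun heq => ?_
      have h1 := hYX _ hmem χ hχ
      rw [ht, heq, Nat.cast_one] at h1
      have h2 : (q : ℤ) ∣ 1 := (dvd_add_left (Dvd.intro_left _ rfl)).1 h1
      have h3 := Int.eq_one_of_dvd_one (Int.natCast_nonneg q) h2
      exact hqp.ne_one (by exact_mod_cast h3)
    obtain ⟨χ, hχ⟩ : X.Nonempty := Set.nonempty_of_ncard_ne_zero (by
      rw [← Nat.card_coe_set_eq, hX]; omega)
    have hconst : ∀ η ∈ X, δ η * (charDegree (η : G → ℂ) : ℤ) =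
        δ χ * (charDegree (χ : G → ℂ) : ℤ) := fun η hη =>
      signed_eq hqo (hd η (hXne η hη)).1 (hd χ (hXne χ hχ)).1 (hlt η hη) (hlt χ hχ) (hδ η hη)
        (hδ χ hχ) (hXX η hη χ hχ)
    have hone : IsPRegular q (1 : G) := by simp [IsPRegular, hqp.ne_one]
    have hsum := hreg _ hmem 1 hone
    rw [trivChar_coe, mul_one, finsum_mem_eq_toFinset_sum, Finset.sum_congr rfl
      (g := fun _ => ((δ χ * (charDegree (χ : G → ℂ) : ℤ) : ℤ) : ℂ)) (fun η hη => by
        rw [← hconst η (Set.mem_toFinset.1 hη), η.2.apply_one_eq_charDegree]; push_cast; ring),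
      Finset.sum_const, nsmul_eq_mul, Set.toFinset_card, ← Nat.card_eq_fintype_card, hX] at hsum
    have hsum' : δ₀ + (e : ℤ) * (δ χ * (charDegree (χ : G → ℂ) : ℤ)) = 0 := by exact_mod_cast hsum
    have h2 : (e : ℤ) ∣ 1 := by
      rcases hδ₀ with h | h <;> rw [h] at hsum'
      · exact ⟨-(δ χ * (charDegree (χ : G → ℂ) : ℤ)), by linarith⟩
      · exact ⟨δ χ * (charDegree (χ : G → ℂ) : ℤ), by linarith⟩
    have := Int.le_of_dvd one_pos h2
    omega

end Simple

theorem isSolvable_of_primeDegrees : ∀ (n : ℕ) {G : Type u} [Group G] [Finite G],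
    Nat.card G ≤ n → PrimeDegrees G → Group.IsSolvable G := by
  intro n
  induction n with
  | zero => intro G _ _ hn _; exact absurd Nat.card_pos (Nat.not_lt.2 hn)
  | succ n ih =>
    intro G _ _ hn h
    by_cases hN : ∃ N : Subgroup G, N.Normal ∧ N ≠ ⊥ ∧ N ≠ ⊤
    · obtain ⟨N, hNn, hb, ht⟩ := hN
      haveI := hNn
      have hmul := N.card_mul_index
      have h1 : 1 < Nat.card N := N.one_lt_card_iff_ne_bot.2 hb
      have h2 : 1 < N.index := Nat.one_lt_iff_ne_zero_and_ne_one.2
        ⟨Subgroup.index_ne_zero_of_finite, fun h => ht (Subgroup.index_eq_one.1 h)⟩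
      haveI := ih (show Nat.card N ≤ n by nlinarith) (primeDegrees_normal h N)
      haveI := ih (show Nat.card (G ⧸ N) ≤ n by rw [← Subgroup.index_eq_card]; nlinarith)
        (primeDegrees_quotient h N)
      exact Group.isSolvable_of_ker_le_range N.subtype (QuotientGroup.mk' N)
        (by rw [QuotientGroup.ker_mk', Subgroup.range_subtype])
    · push Not at hN
      rcases subsingleton_or_nontrivial G with hs | hs
      · exact Group.isSolvable_of_comm fun a b => Subsingleton.elim _ _
      haveI : IsSimpleGroup G := ⟨fun N hNn => or_iff_not_imp_left.2 (hN N hNn)⟩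
      exact Group.isSolvable_of_comm (commutative_of_primeDegrees_simple h)

end Cfsg.Lib.Block
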