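import Cfsg.Agent.Lib.Block.Defect
import Cfsg.Agent.Lib.Block.RegInt
import Cfsg.Agent.Lib.Char.Galois

/-!
# Inner products over the `p`-regular elements inside a block

`regN p B χ η` is `p ^ d` times the inner product of `χ` and `η` over the `p`-regular elements.
It is a symmetric integer matrix whose square is `p ^ d` times itself, and the exact divisibility
of its entries by `p` is governed by heights.  This gives the bound of Brauer and Feit.
-/

set_option autoImplicit false
set_option linter.unusedSectionVars false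

namespace Cfsg.Lib.Block

open Cfsg
open scoped ComplexConjugate

universe u

variable {p : ℕ} {M : Ideal AlgInt} {G : Type u} [Group G] [Fintype G]

/-- The inner product over `p`-regular elements. -/
noncomputable def regInner (p : ℕ) (χ ψ : G → ℂ) : ℂ := classInner (pRegularPart p χ) ψ

theorem pRegularPart_of_reg {χ : G → ℂ} {g : G} (h : IsPRegular p g) :
    pRegularPart p χ g = χ g := by
  simp [pRegularPart, h]

theorem pRegularPart_of_sing {χ : G → ℂ} {g : G} (h : ¬ IsPRegular p g) :
    pRegularPart p χ g = 0 := by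
  simp [pRegularPart, h]

theorem regInner_conj (χ ψ : G → ℂ) : conj (regInner p χ ψ) = regInner p ψ χ := by
  simp only [regInner, classInner, map_mul, map_inv₀, Complex.conj_natCast, map_sum,
    Complex.conj_conj]
  congr 1
  refine Finset.sum_congr rfl fun g _ => ?_
  by_cases h : IsPRegular p g
  · rw [pRegularPart_of_reg h, pRegularPart_of_reg h, mul_comm]
  · simp [pRegularPart_of_sing h]

theorem isPRegular_conj_iff (g x : G) : IsPRegular p (x * g * x⁻¹) ↔ IsPRegular p g := by
  rw [IsPRegular, IsPRegular, show orderOf (x * g * x⁻¹) = orderOf g from (MulAut.conj x).orderOf_eq g]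

theorem isClassFunction_pRegularPart {χ : G → ℂ} (hχ : IsClassFunction G χ) :
    IsClassFunction G (pRegularPart p χ) := fun g x => by
  by_cases h : IsPRegular p g
  · rw [pRegularPart_of_reg h, pRegularPart_of_reg ((isPRegular_conj_iff g x).2 h), hχ]
  · rw [pRegularPart_of_sing h, pRegularPart_of_sing (mt (isPRegular_conj_iff g x).1 h)]

theorem isPRegular_pow_iff {k : ℕ} (hk : k.Coprime (Nat.card G)) (g : G) :
    IsPRegular p (g ^ k) ↔ IsPRegular p g := by
  rw [IsPRegular, IsPRegular,
    (Nat.Coprime.coprime_dvd_right (orderOf_dvd_natCard g) hk).symm.orderOf_pow]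

/-- Inner products over regular elements are rational. -/
theorem exists_rat_regInner (χ ψ : IrrCharacter G) :
    ∃ r : ℚ, regInner p (χ : G → ℂ) (ψ : G → ℂ) = r := by
  classical
  haveI : NeZero (Nat.card G) := ⟨Nat.card_pos.ne'⟩
  set R := Finset.univ.filter fun g : G => IsPRegular p g with hR
  set z : Char.cycField (Nat.card G) := ∑ g ∈ R, Char.charVal dvd_rfl χ.2.isCharacter g *
    Char.charVal dvd_rfl ψ.2.isCharacter g⁻¹ with hz
  have hzval : (z : ℂ) = ∑ g ∈ R, (χ : G → ℂ) g * (ψ : G → ℂ) g⁻¹ := by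
    simp [hz, Char.charVal]
  obtain ⟨r, hr⟩ := Char.exists_rat_of_fixed z fun σ => by
    obtain ⟨k, hk, hσ⟩ := Char.exists_actsAsPow σ
    rw [hzval, hz, map_sum]
    simp only [map_mul, Char.galois_charVal dvd_rfl hσ, inv_pow]
    refine Finset.sum_bij (fun g _ => g ^ k) ?_ ?_ ?_ (fun g _ => rfl)
    · intro g hg
      simpa [hR, isPRegular_pow_iff hk] using hg
    · intro a _ b _ h
      exact (Char.powBij_of_coprime hk).1 h
    · intro b hb
      obtain ⟨a, ha⟩ := (Char.powBij_of_coprime hk).2 b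
      refine ⟨a, ?_, ha⟩
      subst ha
      simpa [hR, isPRegular_pow_iff hk] using hb
  refine ⟨r / Nat.card G, ?_⟩
  rw [regInner, classInner, Rat.cast_div, Rat.cast_natCast, ← hr, hzval, div_eq_inv_mul]
  congr 1
  rw [hR, Finset.sum_filter]
  refine Finset.sum_congr rfl fun g _ => ?_
  by_cases h : IsPRegular p g
  · rw [if_pos h, pRegularPart_of_reg h, ψ.2.isCharacter.apply_inv]
  · rw [if_neg h, pRegularPart_of_sing h, zero_mul]

theorem regInner_symm (χ ψ : IrrCharacter G) :
    regInner p (ψ : G → ℂ) (χ : G → ℂ) = regInner p (χ : G → ℂ) (ψ : G → ℂ) := by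
  obtain ⟨r, hr⟩ := exists_rat_regInner (p := p) χ ψ
  rw [← regInner_conj, hr, map_ratCast]

variable [Fact p.Prime] (hM : IsPModular p M)

theorem isConj_pPt_of_reg {g h : G} (hg : IsPRegular p g) (hh : ¬ IsPRegular p h) :
    ¬ IsConj (pPt p g) (pPt p h) := not_isConj_pPt_of_dvd hg (not_not.1 hh)

open Classical in
include hM in
/-- The regular part of a member of a union of blocks expands inside it. -/
theorem regPart_expand {B : Set (IrrCharacter G)} (hB : VInt hM (indVec B))
    {χ : IrrCharacter G} (hχ : χ ∈ B) :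
    pRegularPart p (χ : G → ℂ) =
      ∑ ψ ∈ B.toFinset, regInner p (χ : G → ℂ) (ψ : G → ℂ) • (ψ : G → ℂ) := by
  funext h
  simp only [Finset.sum_apply, Pi.smul_apply, smul_eq_mul, regInner, classInner, Finset.mul_sum,
    Finset.sum_mul]
  rw [Finset.sum_comm]
  have hchi : (χ : G → ℂ) h = ∑ g, (Nat.card G : ℂ)⁻¹ * ((χ : G → ℂ) g *
      ∑ ψ ∈ B.toFinset, (ψ : G → ℂ) h * conj ((ψ : G → ℂ) g)) := by
    have e : (χ : G → ℂ) h = ∑ ψ ∈ B.toFinset,
        classInner (χ : G → ℂ) (ψ : G → ℂ) * (ψ : G → ℂ) h := by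
      rw [Finset.sum_eq_single χ]
      · rw [Char.classInner_irr_self χ.2, one_mul]
      · intro ψ _ hne
        rw [Char.classInner_irr_ne χ.2 ψ.2 (fun h => hne (Subtype.ext h).symm), zero_mul]
      · intro h'; exact absurd (Set.mem_toFinset.2 hχ) h'
    conv_lhs => rw [e]
    simp only [classInner, Finset.mul_sum, Finset.sum_mul]
    rw [Finset.sum_comm]
    exact Finset.sum_congr rfl fun g _ => Finset.sum_congr rfl fun ψ _ => by ring
  have hrhs : ∀ g, (∑ ψ ∈ B.toFinset, (Nat.card G : ℂ)⁻¹ *
      (pRegularPart p (χ : G → ℂ) g * conj ((ψ : G → ℂ) g)) * (ψ : G → ℂ) h) =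
      (Nat.card G : ℂ)⁻¹ * (pRegularPart p (χ : G → ℂ) g *
        ∑ ψ ∈ B.toFinset, (ψ : G → ℂ) h * conj ((ψ : G → ℂ) g)) := fun g => by
    simp only [Finset.mul_sum]
    exact Finset.sum_congr rfl fun ψ _ => by ring
  have hvan : ∀ g : G, ¬ IsConj (pPt p h) (pPt p g) →
      ∑ ψ ∈ B.toFinset, (ψ : G → ℂ) h * conj ((ψ : G → ℂ) g) = 0 := fun g hne => by
    rw [← finsum_mem_eq_toFinset_sum]
    exact sum_block_mul_conj_eq_zero hM hB hne
  rw [Finset.sum_congr rfl fun g _ => hrhs g]
  by_cases hh : IsPRegular p h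
  · rw [pRegularPart_of_reg hh, hchi]
    refine Finset.sum_congr rfl fun g _ => ?_
    by_cases hg : IsPRegular p g
    · rw [pRegularPart_of_reg hg]
    · rw [hvan g (isConj_pPt_of_reg hh hg)]; simp
  · rw [pRegularPart_of_sing hh, Finset.sum_eq_zero]
    intro g _
    by_cases hg : IsPRegular p g
    · rw [hvan g fun hc => isConj_pPt_of_reg hg hh hc.symm]; simp
    · simp [pRegularPart_of_sing hg]

include hM in
theorem regInner_eq_zero {B : Set (IrrCharacter G)} (hB : VInt hM (indVec B))
    {χ ψ : IrrCharacter G} (hχ : χ ∈ B) (hψ : ψ ∉ B) :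
    regInner p (χ : G → ℂ) (ψ : G → ℂ) = 0 := by
  classical
  rw [regInner, regPart_expand hM hB hχ, Char.classInner_sum_left]
  refine Finset.sum_eq_zero fun η hη => ?_
  rw [Char.classInner_smul_left, Char.classInner_irr_ne η.2 ψ.2
    (fun h => hψ (Subtype.ext h ▸ Set.mem_toFinset.1 hη)), mul_zero]

open Classical in
include hM in
theorem sum_regInner_mul {B : Set (IrrCharacter G)} (hB : VInt hM (indVec B))
    {χ η : IrrCharacter G} (hχ : χ ∈ B) :
    ∑ ψ ∈ B.toFinset, regInner p (χ : G → ℂ) (ψ : G → ℂ) * regInner p (ψ : G → ℂ) (η : G → ℂ) =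
      regInner p (χ : G → ℂ) (η : G → ℂ) := by
  have h : regInner p (χ : G → ℂ) (η : G → ℂ) =
      classInner (pRegularPart p (χ : G → ℂ)) (pRegularPart p (η : G → ℂ)) := by
    simp only [regInner, classInner]
    congr 1
    refine Finset.sum_congr rfl fun g _ => ?_
    by_cases hg : IsPRegular p g
    · rw [pRegularPart_of_reg (χ := (η : G → ℂ)) hg]
    · simp [pRegularPart_of_sing hg]
  rw [h]
  conv_rhs => rw [regPart_expand hM hB hχ, Char.classInner_sum_left]
  refine Finset.sum_congr rfl fun ψ _ => ?_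
  rw [Char.classInner_smul_left, ← Char.classInner_conj_symm]
  congr 1
  exact (regInner_conj (η : G → ℂ) (ψ : G → ℂ)).symm

/-- `p ^ d` times the regular inner product. -/
noncomputable def regN (p : ℕ) (B : Set (IrrCharacter G)) (χ η : IrrCharacter G) : ℂ :=
  ((p ^ blockDefect p B : ℕ) : ℂ) * regInner p (χ : G → ℂ) (η : G → ℂ)

theorem regN_symm (B : Set (IrrCharacter G)) (χ η : IrrCharacter G) :
    regN p B η χ = regN p B χ η := by rw [regN, regN, regInner_symm]

omit [Fact p.Prime] in
theorem apply_mem_ideal {v : IrrCharacter G → ℂ} (hM : IsPModular p M)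
    (hv : ∀ g, MemLocalIdeal M (zc v g)) (χ : IrrCharacter G) : MemLocalIdeal M (v χ) := by
  classical
  haveI : Finite (ConjClasses G) := Quotient.finite _
  haveI := Fintype.ofFinite (ConjClasses G)
  rw [← congrFun (vec_zc v) χ, sum_mul_char_eq (fun g x => zc_conj_invariant v g x)]
  exact memLocalIdeal_sum hM _ _ fun C _ =>
    memLocalIdeal_mul_right hM (hv _) (centralChar_mem_locRing hM χ _)

omit [Fact p.Prime] in
/-- A class function that is locally integral and vanishes modulo `M` on classes with large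
centralizers has central character in the ideal. -/
theorem vec_mem_ideal {B : Set (IrrCharacter G)} (hM : IsPModular p M) [Fact p.Prime]
    (hB : IsPBlock M B) {η : IrrCharacter G} (hη : η ∈ B) {f : G → ℂ} (hf : IsClassFunction G f)
    (hint : ∀ g, f g ∈ locRing hM)
    (hbig : ∀ g, blockDefect p B ≤ (cenCard g).factorization p → MemLocalIdeal M (f g)) :
    MemLocalIdeal M (vec f η) := by
  classical
  haveI : Finite (ConjClasses G) := Quotient.finite _
  haveI := Fintype.ofFinite (ConjClasses G)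
  rw [sum_mul_char_eq hf]
  refine memLocalIdeal_sum hM _ _ fun C _ => ?_
  by_cases h : blockDefect p B ≤ (cenCard C.out).factorization p
  · exact memLocalIdeal_mul_right hM (hbig _ h) (centralChar_mem_locRing hM η _)
  · exact memLocalIdeal_mul_left hM (hint _) (centralChar_mem_ideal_of_lt hM hB hη (not_le.1 h))

/-- The central element attached to the regular values of a conjugate character. -/
noncomputable def regElt (p : ℕ) (χ : G → ℂ) (c : ℂ) : G → ℂ :=
  c • pRegularPart p fun g => conj (χ g)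

theorem isClassFunction_regElt (χ : IrrCharacter G) (c : ℂ) :
    IsClassFunction G (regElt p (χ : G → ℂ) c) := fun g x => by
  simp only [regElt, Pi.smul_apply]
  rw [isClassFunction_pRegularPart χ.2.isCharacter.conjFn.isClassFunction g x]

theorem regElt_mem (χ : IrrCharacter G) {c : ℂ} (hc : c ∈ locRing hM) (g : G) :
    regElt p (χ : G → ℂ) c g ∈ locRing hM := by
  simp only [regElt, Pi.smul_apply, smul_eq_mul]
  by_cases h : IsPRegular p g
  · rw [pRegularPart_of_reg h]
    exact mul_mem hc (isIntegral_mem_locRing hM (χ.2.isCharacter.conjFn.isIntegral g))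
  · rw [pRegularPart_of_sing h, mul_zero]; exact zero_mem _

theorem vec_regElt (χ η : IrrCharacter G) (c : ℂ) :
    vec (regElt p (χ : G → ℂ) c) η =
      c * ((Nat.card G : ℂ) * regInner p (η : G → ℂ) (χ : G → ℂ)) / (η : G → ℂ) 1 := by
  simp only [vec, regElt, regInner, classInner, Pi.smul_apply, smul_eq_mul, Finset.mul_sum]
  congr 1
  refine Finset.sum_congr rfl fun g _ => ?_
  by_cases h : IsPRegular p g
  · rw [pRegularPart_of_reg h, pRegularPart_of_reg h]
    field_simp [Char.card_cast_ne_zero (G := G)]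
  · simp [pRegularPart_of_sing h]

/-- The factor `χ(1) p^d / |G|`. -/
noncomputable def degFactor (p : ℕ) (B : Set (IrrCharacter G)) (χ : IrrCharacter G) : ℂ :=
  ((charDegree (χ : G → ℂ) * p ^ blockDefect p B : ℕ) : ℂ) / (Nat.card G : ℕ)

theorem factorization_deg_pow (B : Set (IrrCharacter G)) (χ : IrrCharacter G) :
    (charDegree (χ : G → ℂ) * p ^ blockDefect p B).factorization p =
      (charDegree (χ : G → ℂ)).factorization p + blockDefect p B := by
  rw [Nat.factorization_mul (charDegree_pos χ).ne' (pow_ne_zero _ (Fact.out : p.Prime).ne_zero),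
    Finsupp.add_apply, (Fact.out : p.Prime).factorization_pow, Finsupp.single_eq_same]

theorem regN_mul_div (B : Set (IrrCharacter G)) (χ η : IrrCharacter G) :
    regN p B η χ * ((χ : G → ℂ) 1 / (η : G → ℂ) 1) =
      vec (regElt p (χ : G → ℂ) (degFactor p B χ)) η := by
  rw [vec_regElt, degFactor, regN, apply_one_eq_charDegree χ]
  push_cast
  field_simp [Char.card_cast_ne_zero (G := G)]

include hM in
/-- For a height zero character the regular central element is a unit. -/
theorem regN_div_not_ideal {B : Set (IrrCharacter G)} (hB : IsPBlock M B) {χ η : IrrCharacter G}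
    (hχ : χ ∈ B) (hη : η ∈ B) (h0 : blockHeight p B (χ : G → ℂ) = 0) :
    ¬ MemLocalIdeal M (regN p B η χ * ((χ : G → ℂ) 1 / (η : G → ℂ) 1)) := by
  classical
  rw [regN_mul_div]
  have hne := nonempty_of_isPBlock hM hB
  have hadd := blockDefect_add_minVal (p := p) hne
  have hmin := (blockHeight_eq_zero_iff hχ).1 h0
  set S := ∑ ψ ∈ B.toFinset, charDegree (ψ : G → ℂ) ^ 2 with hS
  have hS0 : S ≠ 0 := fun h => by
    have := (Finset.sum_eq_zero_iff.1 h) χ (Set.mem_toFinset.2 hχ)
    exact (charDegree_pos χ).ne' (by simpa using this)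
  have hSv : S.factorization p = 2 * (Nat.card G).factorization p - blockDefect p B := by
    rw [hS]; exact factorization_sum_sq hM hB
  set lam : ℂ := ((charDegree (χ : G → ℂ) * (charDegree (χ : G → ℂ) * p ^ blockDefect p B) : ℕ) : ℂ) /
    (S : ℕ) with hlam
  have hnum : charDegree (χ : G → ℂ) * (charDegree (χ : G → ℂ) * p ^ blockDefect p B) ≠ 0 :=
    Nat.mul_ne_zero (charDegree_pos χ).ne'
      (Nat.mul_ne_zero (charDegree_pos χ).ne' (pow_ne_zero _ hM.1.ne_zero))
  have hlamv : (charDegree (χ : G → ℂ) *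
      (charDegree (χ : G → ℂ) * p ^ blockDefect p B)).factorization p = S.factorization p := by
    rw [Nat.factorization_mul (charDegree_pos χ).ne'
      (Nat.mul_ne_zero (charDegree_pos χ).ne' (pow_ne_zero _ hM.1.ne_zero)),
      Finsupp.add_apply, factorization_deg_pow, hSv, hmin]
    omega
  have hlam_mem : lam ∈ locRing hM := natCast_div_mem hM hS0 (Or.inr hlamv.ge)
  have hlam_unit : ¬ MemLocalIdeal M lam := natCast_div_not_ideal hM hnum hS0 hlamv
  have hc : degFactor p B χ ∈ locRing hM := natCast_div_mem hM Nat.card_pos.ne' (Or.inr (by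
    rw [factorization_deg_pow]; omega))
  set F : G → ℂ := regElt p (χ : G → ℂ) (degFactor p B χ) - lam • blockCoeff B with hF
  have hvecF : vec F η = vec (regElt p (χ : G → ℂ) (degFactor p B χ)) η - lam := by
    have h1 : vec (blockCoeff B) η = 1 := by
      rw [← funext (zc_indVec B), vec_zc, indVec, if_pos hη]
    rw [← mul_one lam, ← h1]
    simp only [vec, hF, Pi.sub_apply, Pi.smul_apply, smul_eq_mul, sub_mul, mul_assoc,
      Finset.sum_sub_distrib, ← Finset.mul_sum, sub_div, mul_div_assoc]
  have key : MemLocalIdeal M (vec F η) := by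
    refine vec_mem_ideal hM hB hη ?_ ?_ ?_
    · intro g x
      simp only [hF, Pi.sub_apply, Pi.smul_apply, isClassFunction_regElt χ _ g x,
        blockCoeff_conj_invariant]
    · intro g
      simp only [hF, Pi.sub_apply, Pi.smul_apply, smul_eq_mul]
      exact sub_mem (regElt_mem hM χ hc g) (mul_mem hlam_mem (blockCoeff_mem_locRing hM hB g))
    · intro g hg
      simp only [hF, Pi.sub_apply, Pi.smul_apply, smul_eq_mul, regElt]
      by_cases hr : IsPRegular p g
      · rw [pRegularPart_of_reg hr]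
        have h := memLocalIdeal_mul_left hM hlam_mem (blockCoeff_sub_mem_ideal hM hB hχ hr hg)
        have e : degFactor p B χ * conj ((χ : G → ℂ) g) = lam * (centralChar (χ : G → ℂ) g⁻¹ *
            (cenCard g : ℂ) / (Nat.card G : ℂ) * blockCoeff B 1) := by
          rw [conjVal_eq, blockCoeff_one, ← hS, hlam, degFactor]
          have : (S : ℂ) ≠ 0 := by exact_mod_cast hS0
          push_cast
          field_simp [Char.card_cast_ne_zero (G := G)]
        rw [e, ← neg_sub, ← mul_sub]
        exact memLocalIdeal_neg hM h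
      · rw [pRegularPart_of_sing hr, blockCoeff_eq_zero_of_dvd hM (vInt_indVec hM hB) (not_not.1 hr)]
        simp [memLocalIdeal_zero hM]
  intro h
  refine hlam_unit ?_
  have := memLocalIdeal_sub hM h key
  rwa [hvecF, sub_sub_cancel] at this

include hM in
/-- Divisibility of the regular central element by the height. -/
theorem regN_div_pow_height_mem {B : Set (IrrCharacter G)} (hB : IsPBlock M B)
    {χ η : IrrCharacter G} (hχ : χ ∈ B) (hη : η ∈ B) :
    regN p B η χ * ((χ : G → ℂ) 1 / (η : G → ℂ) 1) /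
        ((p ^ blockHeight p B (χ : G → ℂ) : ℕ) : ℂ) ∈ locRing hM ∧
      (0 < blockHeight p B (χ : G → ℂ) →
        MemLocalIdeal M (regN p B η χ * ((χ : G → ℂ) 1 / (η : G → ℂ) 1) /
          ((p ^ blockHeight p B (χ : G → ℂ) : ℕ) : ℂ))) := by
  classical
  rw [regN_mul_div]
  have hne := nonempty_of_isPBlock hM hB
  have hadd := blockDefect_add_minVal (p := p) hne
  have hle := minVal_le (p := p) hχ
  set h := blockHeight p B (χ : G → ℂ) with hh
  rw [blockHeight_eq] at hh
  have hph : ((p ^ h : ℕ) : ℂ) ≠ 0 := by exact_mod_cast (pow_pos hM.1.pos h).ne'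
  have hGp : Nat.card G * p ^ h ≠ 0 := Nat.mul_ne_zero Nat.card_pos.ne' (pow_ne_zero _ hM.1.ne_zero)
  have hfG : (Nat.card G * p ^ h).factorization p = (Nat.card G).factorization p + h := by
    rw [Nat.factorization_mul Nat.card_pos.ne' (pow_ne_zero _ hM.1.ne_zero), Finsupp.add_apply,
      hM.1.factorization_pow, Finsupp.single_eq_same]
  set c' : ℂ := ((charDegree (χ : G → ℂ) * p ^ blockDefect p B : ℕ) : ℂ) /
    (Nat.card G * p ^ h : ℕ) with hc'
  have hc'mem : c' ∈ locRing hM := natCast_div_mem hM hGp (Or.inr (by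
    rw [factorization_deg_pow, hfG]; omega))
  have e : vec (regElt p (χ : G → ℂ) (degFactor p B χ)) η / ((p ^ h : ℕ) : ℂ) =
      vec (regElt p (χ : G → ℂ) c') η := by
    rw [vec_regElt, vec_regElt, hc', degFactor]
    push_cast
    field_simp [hph]
  rw [e]
  refine ⟨?_, fun hpos => ?_⟩
  · have hv : VInt hM (vec (regElt p (χ : G → ℂ) c')) := fun g => by
      rw [zc_vec (isClassFunction_regElt χ c')]; exact regElt_mem hM χ hc'mem g
    exact apply_mem_locRing hM hv η
  · refine vec_mem_ideal hM hB hη (isClassFunction_regElt χ c') (regElt_mem hM χ hc'mem) fun g hg => ?_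
    simp only [regElt, Pi.smul_apply, smul_eq_mul]
    refine memLocalIdeal_mul_left hM hc'mem ?_
    by_cases hr : IsPRegular p g
    · rw [pRegularPart_of_reg hr, conjVal_eq]
      refine memLocalIdeal_mul_left hM (centralChar_mem_locRing hM χ _)
        (natCast_div_mem_ideal hM Nat.card_pos.ne' (Or.inr ?_))
      rw [factorization_deg_mul_cen]; omega
    · rw [pRegularPart_of_sing hr]; exact memLocalIdeal_zero hM

/-! ## Integrality -/

theorem mul_deg_div (x : ℂ) (χ η : IrrCharacter G) (n : ℕ) :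
    x * ((χ : G → ℂ) 1 / (η : G → ℂ) 1) / (n : ℂ) *
        (((charDegree (η : G → ℂ) * n : ℕ) : ℂ) / (charDegree (χ : G → ℂ) : ℕ)) =
      if n = 0 then 0 else x := by
  rw [apply_one_eq_charDegree χ, apply_one_eq_charDegree η]
  have h1 : (charDegree (χ : G → ℂ) : ℂ) ≠ 0 := by exact_mod_cast (charDegree_pos χ).ne'
  have h2 : (charDegree (η : G → ℂ) : ℂ) ≠ 0 := by exact_mod_cast (charDegree_pos η).ne'
  split_ifs with hn
  · simp [hn]
  · have : (n : ℂ) ≠ 0 := by exact_mod_cast hn
    push_cast
    field_simp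

include hM in
/-- `regN` is a multiple of `p` to the height of either entry. -/
theorem regN_div_height_mem {B : Set (IrrCharacter G)} (hB : IsPBlock M B)
    {χ η : IrrCharacter G} (hχ : χ ∈ B) (hη : η ∈ B) :
    regN p B χ η / ((p ^ blockHeight p B (η : G → ℂ) : ℕ) : ℂ) ∈ locRing hM ∧
      (0 < blockHeight p B (χ : G → ℂ) →
        MemLocalIdeal M (regN p B χ η / ((p ^ blockHeight p B (η : G → ℂ) : ℕ) : ℂ))) := by
  obtain ⟨h1, h2⟩ := regN_div_pow_height_mem hM hB hχ hη
  set hx := blockHeight p B (χ : G → ℂ) with hxdef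
  set he := blockHeight p B (η : G → ℂ) with hedef
  have lχ := minVal_le (p := p) hχ
  have lη := minVal_le (p := p) hη
  have hxe : (charDegree (χ : G → ℂ)).factorization p = minVal p B + hx := by
    rw [hxdef, blockHeight_eq]; omega
  have hee : (charDegree (η : G → ℂ)).factorization p = minVal p B + he := by
    rw [hedef, blockHeight_eq]; omega
  set r : ℂ := ((charDegree (η : G → ℂ) * p ^ hx : ℕ) : ℂ) /
    (charDegree (χ : G → ℂ) * p ^ he : ℕ) with hr
  have hden : charDegree (χ : G → ℂ) * p ^ he ≠ 0 :=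
    Nat.mul_ne_zero (charDegree_pos χ).ne' (pow_ne_zero _ hM.1.ne_zero)
  have hv : (charDegree (χ : G → ℂ) * p ^ he).factorization p =
      (charDegree (η : G → ℂ) * p ^ hx).factorization p := by
    rw [Nat.factorization_mul (charDegree_pos χ).ne' (pow_ne_zero _ hM.1.ne_zero),
      Nat.factorization_mul (charDegree_pos η).ne' (pow_ne_zero _ hM.1.ne_zero), Finsupp.add_apply,
      Finsupp.add_apply, hM.1.factorization_pow, hM.1.factorization_pow, Finsupp.single_eq_same,
      Finsupp.single_eq_same, hxe, hee]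
    omega
  have hrmem : r ∈ locRing hM := natCast_div_mem hM hden (Or.inr hv.le)
  have e : regN p B χ η / ((p ^ he : ℕ) : ℂ) =
      regN p B η χ * ((χ : G → ℂ) 1 / (η : G → ℂ) 1) / ((p ^ hx : ℕ) : ℂ) * r := by
    rw [regN_symm, hr, apply_one_eq_charDegree χ, apply_one_eq_charDegree η]
    have d1 : (charDegree (χ : G → ℂ) : ℂ) ≠ 0 := by exact_mod_cast (charDegree_pos χ).ne'
    have d2 : (charDegree (η : G → ℂ) : ℂ) ≠ 0 := by exact_mod_cast (charDegree_pos η).ne'
    have d3 : (p : ℂ) ≠ 0 := by exact_mod_cast hM.1.ne_zero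
    push_cast
    field_simp
  rw [e]
  exact ⟨mul_mem h1 hrmem, fun h => memLocalIdeal_mul_right hM (h2 h) hrmem⟩

include hM in
/-- Exact divisibility in the row of a height zero character. -/
theorem regN_div_height_not_ideal {B : Set (IrrCharacter G)} (hB : IsPBlock M B)
    {χ η : IrrCharacter G} (hχ : χ ∈ B) (hη : η ∈ B) (h0 : blockHeight p B (χ : G → ℂ) = 0) :
    ¬ MemLocalIdeal M (regN p B χ η / ((p ^ blockHeight p B (η : G → ℂ) : ℕ) : ℂ)) := by
  intro h
  set he := blockHeight p B (η : G → ℂ) with hedef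
  have lχ := minVal_le (p := p) hχ
  have lη := minVal_le (p := p) hη
  have hxe := (blockHeight_eq_zero_iff hχ).1 h0
  have hee : (charDegree (η : G → ℂ)).factorization p = minVal p B + he := by
    rw [hedef, blockHeight_eq]; omega
  have hmem : ((charDegree (χ : G → ℂ) * p ^ he : ℕ) : ℂ) / (charDegree (η : G → ℂ) : ℕ) ∈
      locRing hM := natCast_div_mem hM (charDegree_pos η).ne' (Or.inr (by
    rw [Nat.factorization_mul (charDegree_pos χ).ne' (pow_ne_zero _ hM.1.ne_zero),
      Finsupp.add_apply, hM.1.factorization_pow, Finsupp.single_eq_same, hxe, hee]))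
  refine regN_div_not_ideal hM hB hχ hη h0 ?_
  have := memLocalIdeal_mul_right hM h hmem
  have e : regN p B η χ * ((χ : G → ℂ) 1 / (η : G → ℂ) 1) =
      regN p B χ η / ((p ^ he : ℕ) : ℂ) *
        (((charDegree (χ : G → ℂ) * p ^ he : ℕ) : ℂ) / (charDegree (η : G → ℂ) : ℕ)) := by
    rw [regN_symm, apply_one_eq_charDegree χ, apply_one_eq_charDegree η]
    have d2 : (charDegree (η : G → ℂ) : ℂ) ≠ 0 := by exact_mod_cast (charDegree_pos η).ne'
    have d3 : (p : ℂ) ≠ 0 := by exact_mod_cast hM.1.ne_zero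
    push_cast
    field_simp
  rw [e]
  exact this

omit [Fact p.Prime] in
/-- Regular inner products are local away from `p`. -/
theorem regInner_mem_of_ne {l : ℕ} {N : Ideal AlgInt} (hN : IsPModular l N) [Fact p.Prime]
    (hne : l ≠ p) (χ ψ : IrrCharacter G) :
    regInner p (χ : G → ℂ) (ψ : G → ℂ) ∈ locRing hN := by
  classical
  have e : regInner p (χ : G → ℂ) (ψ : G → ℂ) =
      classInner (fun g : G => if IsPRegular p g then (1 : ℂ) else 0)
        ((ψ : G → ℂ) * fun g => conj ((χ : G → ℂ) g)) := by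
    simp only [regInner, classInner]
    congr 1
    refine Finset.sum_congr rfl fun g _ => ?_
    by_cases h : IsPRegular p g
    · simp only [pRegularPart_of_reg h, if_pos h, Pi.mul_apply, map_mul, Complex.conj_conj]; ring
    · simp [pRegularPart_of_sing h, h]
  rw [e]
  exact classInner_reg_mem hN hne (ψ.2.isCharacter.mul χ.2.isCharacter.conjFn)

omit [Fact p.Prime] in
theorem natCast_mul_mem_iff {l : ℕ} {N : Ideal AlgInt} (hN : IsPModular l N) {n : ℕ}
    (hn : ¬ l ∣ n) {x : ℂ} : (n : ℂ) * x ∈ locRing hN ↔ x ∈ locRing hN := by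
  refine ⟨fun h => ?_, fun h => mul_mem (natCast_mem _ _) h⟩
  have := mul_mem (inv_natCast_mem_locRing hN hn) h
  rwa [inv_mul_cancel_left₀] at this
  exact_mod_cast fun h : n = 0 => hn (h ▸ dvd_zero l)

include hM in
/-- `regN` is an integer divisible by `p` to the height of the second entry. -/
theorem exists_int_regN {B : Set (IrrCharacter G)} (hB : IsPBlock M B)
    {χ η : IrrCharacter G} (hχ : χ ∈ B) (hη : η ∈ B) :
    ∃ n : ℤ, regN p B χ η = (n : ℂ) * ((p ^ blockHeight p B (η : G → ℂ) : ℕ) : ℂ) ∧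
      (0 < blockHeight p B (χ : G → ℂ) → (p : ℤ) ∣ n) ∧
      (blockHeight p B (χ : G → ℂ) = 0 → ¬ (p : ℤ) ∣ n) := by
  obtain ⟨r, hr⟩ := exists_rat_regInner (p := p) χ η
  set he := blockHeight p B (η : G → ℂ) with hedef
  have d3 : ((p ^ he : ℕ) : ℂ) ≠ 0 := by exact_mod_cast (pow_pos hM.1.pos he).ne'
  have hval : regN p B χ η / ((p ^ he : ℕ) : ℂ) =
      (((p ^ blockDefect p B : ℕ) * r / (p ^ he : ℕ) : ℚ) : ℂ) := by
    rw [regN, hr]; push_cast; ring
  have hloc : ∀ l : ℕ, l.Prime → ∃ (N : Ideal AlgInt) (hN : IsPModular l N),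
      (((p ^ blockDefect p B : ℕ) * r / (p ^ he : ℕ) : ℚ) : ℂ) ∈ locRing hN := by
    intro l hlp
    by_cases hl : l = p
    · subst hl
      exact ⟨M, hM, hval ▸ (regN_div_height_mem hM hB hχ hη).1⟩
    · obtain ⟨N, hN⟩ := exists_isPModular hlp
      refine ⟨N, hN, ?_⟩
      rw [← hval]
      have h1 := regInner_mem_of_ne (p := p) hN hl χ η
      rw [regN, div_eq_mul_inv]
      exact mul_mem (mul_mem (natCast_mem _ _) h1) (inv_natCast_mem_locRing hN fun h =>
        hl ((Nat.prime_dvd_prime_iff_eq hN.1 hM.1).1 (hN.1.dvd_of_dvd_pow h)))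
  obtain ⟨n, hn⟩ := exists_int_of_local hloc
  rw [hn, Rat.cast_intCast] at hval
  have hiff : ∀ m : ℤ, MemLocalIdeal M (m : ℂ) ↔ (p : ℤ) ∣ m := by
    intro m
    rcases Int.natAbs_eq m with e | e <;> rw [e]
    · rw [Int.cast_natCast, memLocalIdeal_natCast_iff hM, Int.natCast_dvd_natCast]
    · rw [Int.cast_neg, Int.cast_natCast, dvd_neg, Int.natCast_dvd_natCast,
        ← memLocalIdeal_natCast_iff hM]
      exact ⟨fun h => by simpa using memLocalIdeal_neg hM h, memLocalIdeal_neg hM⟩
  refine ⟨n, by rw [← hval, div_mul_cancel₀ _ d3], fun h => ?_, fun h h' => ?_⟩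
  · exact (hiff n).1 (hval ▸ (regN_div_height_mem hM hB hχ hη).2 h)
  · exact regN_div_height_not_ideal hM hB hχ hη h (hval.symm ▸ (hiff n).2 h')

end Cfsg.Lib.Block
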