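import Cfsg.Agent.Lib.Block.RegApps
import Cfsg.Agent.Lib.Char.Quotient
import Cfsg.Agent.Lib.Char.Subconstituents

/-!
# Membership in the principal block and normal `p`-subgroups
-/

set_option autoImplicit false
set_option linter.unusedSectionVars false

namespace Cfsg.Lib.Block

open Cfsg
open scoped ComplexConjugate

universe u

variable {p : ℕ} {M : Ideal AlgInt} {G : Type u} [Group G] [Fintype G] [Fact p.Prime]

theorem mem_principal_of_regSum_ne (hM : IsPModular p M) (χ : IrrCharacter G)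
    (h : ∑ g, pRegularPart p (χ : G → ℂ) g ≠ 0) : χ ∈ principalBlock M G := by
  by_contra hn
  have h0 := regInner_eq_zero (p := p) hM (vInt_indVec hM (isPBlock_blockOf χ))
    (self_mem_blockOf hM χ) (ψ := trivChar G) (fun h' => hn (sameBlock_symm hM h'))
  rw [regInner, classInner, mul_eq_zero,
    or_iff_right (inv_ne_zero Char.card_cast_ne_zero)] at h0
  exact h (by simpa [trivChar_coe] using h0)

theorem inv_ne_self_of_odd {g : G} (hg : ¬ 2 ∣ orderOf g) (hne : g ≠ 1) : g⁻¹ ≠ g := by
  intro h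
  have h2 : g ^ 2 = 1 := by rw [sq]; nth_rw 1 [← h]; rw [inv_mul_cancel]
  rcases (Nat.dvd_prime Nat.prime_two).1 (orderOf_dvd_of_pow_eq_one h2) with h' | h'
  · exact hne (orderOf_eq_one_iff.1 h')
  · exact hg (by rw [h'])

/-- In characteristic two, a sum over odd order elements of a function invariant under inversion
reduces to its value at the identity. -/
theorem res_sum_reg_two {N : Ideal AlgInt} (hM : IsPModular 2 N) {f : G → ℂ}
    (hint : ∀ g, f g ∈ locRing hM) (hinv : ∀ g, ¬ 2 ∣ orderOf g → f g⁻¹ = f g)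
    (hzero : ∀ g, 2 ∣ orderOf g → f g = 0) : res hM (∑ g, f g) = res hM (f 1) := by
  classical
  haveI : CharP (resField hM) 2 := inferInstance
  rw [res_sum hM _ _ fun g _ => hint g, ← Finset.add_sum_erase _ _ (Finset.mem_univ (1 : G)),
    add_eq_left]
  refine Finset.sum_involution (fun g _ => g⁻¹) ?_ ?_ ?_ ?_
  · intro g _
    by_cases h : 2 ∣ orderOf g
    · rw [hzero g h, hzero g⁻¹ (by rwa [orderOf_inv]), res_zero, add_zero]
    · rw [hinv g h]; exact CharTwo.add_self_eq_zero _
  · intro g hg hne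
    by_cases h : 2 ∣ orderOf g
    · exact absurd (by rw [hzero g h, res_zero]) hne
    · exact inv_ne_self_of_odd h (Finset.mem_erase.1 hg).1
  · intro g hg
    exact Finset.mem_erase.2 ⟨by simpa using (Finset.mem_erase.1 hg).1, Finset.mem_univ _⟩
  · intro g _; exact inv_inv g

/-- An odd degree character with real values at odd order elements is in the principal block. -/
theorem mem_principal_two_of_real (hM : IsPModular 2 M) (χ : IrrCharacter G)
    (hreal : ∀ g : G, ¬ 2 ∣ orderOf g → (χ : G → ℂ) g⁻¹ = (χ : G → ℂ) g)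
    (hodd : Odd (charDegree (χ : G → ℂ))) : χ ∈ principalBlock M G := by
  haveI : Fact (Nat.Prime 2) := ⟨Nat.prime_two⟩
  refine mem_principal_of_regSum_ne hM χ fun h => ?_
  have h2 := res_sum_reg_two hM (f := pRegularPart 2 (χ : G → ℂ)) (fun g => ?_) (fun g hg => ?_)
    (fun g hg => pRegularPart_of_sing (fun h' => h' hg))
  · rw [h, res_zero, pRegularPart_of_reg (show IsPRegular 2 (1 : G) by simp [IsPRegular]),
      apply_one_eq_charDegree, eq_comm, res_eq_zero_iff hM (natCast_mem _ _),
      memLocalIdeal_natCast_iff hM] at h2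
    exact (Nat.not_even_iff_odd.2 hodd) (even_iff_two_dvd.2 h2)
  · by_cases hg : IsPRegular 2 g
    · rw [pRegularPart_of_reg hg]; exact charVal_mem_locRing hM χ g
    · rw [pRegularPart_of_sing hg]; exact zero_mem _
  · rw [pRegularPart_of_reg (show IsPRegular 2 g⁻¹ by simpa [IsPRegular] using hg),
      pRegularPart_of_reg (show IsPRegular 2 g from hg), hreal g hg]

/-- A block of full defect with inversion-invariant idempotent is principal. -/
theorem eq_principal_two_of_inv (hM : IsPModular 2 M) {B : Set (IrrCharacter G)}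
    (hB : IsPBlock M B) (hd : blockDefect 2 B = (Nat.card G).factorization 2)
    (hinv : ∀ g : G, ¬ 2 ∣ orderOf g → blockCoeff B g⁻¹ = blockCoeff B g) :
    B = principalBlock M G := by
  classical
  haveI : Fact (Nat.Prime 2) := ⟨Nat.prime_two⟩
  have hI := vInt_indVec hM hB
  suffices h : trivChar G ∈ B from
    isPBlock_eq_of_mem hM hB isPBlock_principal h (trivChar_mem_principal hM)
  by_contra hn
  have h0 : vec (blockCoeff B) (trivChar G) = 0 := by
    rw [← funext (zc_indVec B), vec_zc, indVec, if_neg hn]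
  simp only [vec, trivChar_coe, mul_one, div_one] at h0
  have h2 := res_sum_reg_two hM (blockCoeff_mem_locRing hM hB) hinv
    (fun g hg => blockCoeff_eq_zero_of_dvd hM hI hg)
  rw [h0, res_zero, eq_comm, res_eq_zero_iff hM (blockCoeff_mem_locRing hM hB 1),
    blockCoeff_one] at h2
  obtain ⟨χ, hχ⟩ := nonempty_of_isPBlock hM hB
  refine natCast_div_not_ideal hM ?_ Nat.card_pos.ne' ?_ h2
  · intro h
    have := (Finset.sum_eq_zero_iff.1 h) χ (Set.mem_toFinset.2 hχ)
    exact (charDegree_pos χ).ne' (by simpa using this)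
  · rw [factorization_sum_sq hM hB, hd]; omega

omit [Fact p.Prime] in
/-- Permuting a block by a degree preserving map inverting the regular values. -/
theorem blockCoeff_inv_of_twist {B : Set (IrrCharacter G)} (T : IrrCharacter G → IrrCharacter G)
    (hT : Function.Injective T) (hmaps : ∀ χ ∈ B, T χ ∈ B)
    (hdeg : ∀ χ ∈ B, (T χ : G → ℂ) 1 = (χ : G → ℂ) 1) {g : G}
    (hg : ∀ χ ∈ B, (T χ : G → ℂ) g = (χ : G → ℂ) g⁻¹) :
    blockCoeff B g⁻¹ = blockCoeff B g := by
  classical
  have himg : B.toFinset.image T = B.toFinset := by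
    refine Finset.eq_of_subset_of_card_le ?_ (by rw [Finset.card_image_of_injective _ hT])
    intro x hx
    obtain ⟨χ, hχ, rfl⟩ := Finset.mem_image.1 hx
    exact Set.mem_toFinset.2 (hmaps χ (Set.mem_toFinset.1 hχ))
  simp only [blockCoeff, finsum_mem_eq_toFinset_sum]
  congr 1
  conv_rhs => rw [← himg, Finset.sum_image fun a _ b _ h => hT h]
  refine Finset.sum_congr rfl fun χ hχ => ?_
  rw [hdeg χ (Set.mem_toFinset.1 hχ), hg χ (Set.mem_toFinset.1 hχ)]

/-! ## Normal `p`-subgroups -/

omit [Fact p.Prime] in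
/-- Constituents of the character induced from the trivial one of a normal subgroup. -/
theorem exists_trivial_on_of_classInner_ne {Q : Subgroup G} [hQ : Q.Normal] {f : G → ℂ}
    (hf : IsClassFunction G f) (h : ∑ᶠ q : Q, f q ≠ 0) :
    ∃ ψ : IrrCharacter G, (∀ q ∈ Q, (ψ : G → ℂ) q = (ψ : G → ℂ) 1) ∧
      classInner f (ψ : G → ℂ) ≠ 0 := by
  classical
  haveI := Fintype.ofFinite Q
  rw [finsum_eq_sum_of_fintype] at h
  set R := indFun Q (fun _ => (1 : ℂ)) with hR
  have hRc : IsCharacter G R := Char.isCharacter_indFun Q Char.isCharacter_one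
  have hRq : ∀ q ∈ Q, R q = R 1 := fun q hq => by
    have e1 := Char.indFun_normal_apply Q (fun _ : Q => (1 : ℂ)) ⟨q, hq⟩
    have e2 := Char.indFun_normal_apply Q (fun _ : Q => (1 : ℂ)) 1
    simp only [OneMemClass.coe_one] at e1 e2
    exact e1.trans e2.symm
  have hne : classInner f R ≠ 0 := by
    rw [hR, ← Char.classInner_conj_symm, Char.classInner_indFun Q _ hf,
      Char.classInner_conj_symm, classInner]
    simp only [map_one, mul_one]
    exact mul_ne_zero (inv_ne_zero Char.card_cast_ne_zero) h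
  rw [Char.classInner_eq_sum hf] at hne
  obtain ⟨ψ, -, hψ⟩ := Finset.exists_ne_zero_of_sum_ne_zero hne
  refine ⟨ψ, fun q hq => ?_, fun h0 => hψ (by rw [h0, zero_mul])⟩
  have hc : classInner R (ψ : G → ℂ) ≠ 0 := fun h0 => hψ (by rw [h0, map_zero, mul_zero])
  have hrest := Char.isCharacter_sub_constituent hRc ψ.2 hc
  have h1 := hrest.norm_le q
  simp only [Pi.sub_apply, Complex.sub_re, hRq q hq] at h1
  have h2 := Complex.re_le_norm (R 1 - (ψ : G → ℂ) q)
  rw [Complex.sub_re] at h2
  have h3 := ψ.2.isCharacter.norm_le q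
  obtain ⟨d, -, hd⟩ := ψ.2.exists_degree
  rw [hd] at h1 h3 ⊢
  simp only [Complex.natCast_re] at h1 h3
  have h4 : ((ψ : G → ℂ) q).re = d :=
    le_antisymm ((Complex.re_le_norm _).trans h3) (by linarith)
  have h5 : ((ψ : G → ℂ) q).im = 0 := by
    have h6 := Complex.normSq_eq_norm_sq ((ψ : G → ℂ) q)
    rw [Complex.normSq_apply, h4] at h6
    have h7 : ‖(ψ : G → ℂ) q‖ ^ 2 ≤ (d : ℝ) ^ 2 := pow_le_pow_left₀ (norm_nonneg _) h3 2
    nlinarith
  exact Complex.ext (by simpa using h4) (by simpa using h5)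

/-- Every block contains a character trivial on a given normal `p`-subgroup. -/
theorem exists_trivial_on_mem (hM : IsPModular p M) {Q : Subgroup G} [Q.Normal]
    (hQ : IsPGroup p Q) {B : Set (IrrCharacter G)} (hB : IsPBlock M B) :
    ∃ ψ ∈ B, ∀ q ∈ Q, (ψ : G → ℂ) q = (ψ : G → ℂ) 1 := by
  classical
  haveI := Fintype.ofFinite Q
  obtain ⟨χ, hχ⟩ := nonempty_of_isPBlock hM hB
  have hsum : ∑ᶠ q : Q, pRegularPart p (χ : G → ℂ) q = (χ : G → ℂ) 1 := by
    rw [finsum_eq_sum_of_fintype, Finset.sum_eq_single 1]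
    · exact pRegularPart_of_reg (show IsPRegular p (1 : G) by simp [IsPRegular, hM.1.ne_one])
    · intro q _ hq
      exact pRegularPart_of_sing fun h => h (dvd_orderOf_of_mem_pgroup hQ q.2 (by simpa using hq))
    · simp
  obtain ⟨ψ, hψ, hne⟩ := exists_trivial_on_of_classInner_ne (Q := Q)
    (isClassFunction_pRegularPart χ.2.isClassFunction) (hsum ▸ χ.2.apply_one_ne_zero)
  refine ⟨ψ, ?_, hψ⟩
  by_contra hn
  exact hne (regInner_eq_zero hM (vInt_indVec hM hB) hχ hn)

omit [Fact p.Prime] in
/-- Central characters of inflated characters vanish outside the centralizer. -/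
theorem centralChar_inflated_mem_ideal [Fact p.Prime] (hM : IsPModular p M) {Q : Subgroup G}
    [Q.Normal] (hQ : IsPGroup p Q) {ψ : IrrCharacter G}
    (hψ : ∀ q ∈ Q, (ψ : G → ℂ) q = (ψ : G → ℂ) 1) {g : G}
    (hg : g ∉ Subgroup.centralizer (Q : Set G)) : MemLocalIdeal M (centralChar (ψ : G → ℂ) g) := by
  classical
  obtain ⟨φ, hφ, hφψ⟩ := Char.exists_deflate_irr Q ψ.2 hψ
  set C : Subgroup G := Subgroup.centralizer ({g} : Set G) with hC
  set K : Subgroup G := (Subgroup.centralizer ({(g : G ⧸ Q)} : Set (G ⧸ Q))).comap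
    (QuotientGroup.mk' Q) with hK
  have hCK : C ≤ K := fun x hx => by
    rw [hK, Subgroup.mem_comap]
    refine Subgroup.mem_centralizer_iff.2 fun z hz => ?_
    rw [Set.mem_singleton_iff] at hz
    subst hz
    exact congrArg (fun y : G => (y : G ⧸ Q)) (Subgroup.mem_centralizer_iff.1 hx g rfl)
  have hQK : Q ≤ K := fun x hx => by
    rw [hK, Subgroup.mem_comap]
    have : QuotientGroup.mk' Q x = 1 := (QuotientGroup.eq_one_iff x).2 hx
    rw [this]; exact one_mem _
  have hQC : ¬ Q ≤ C := fun h => hg (Subgroup.mem_centralizer_iff.2 fun q hq =>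
    ((Subgroup.mem_centralizer_iff.1 (h hq) g rfl : g * q = q * g)).symm)
  have hpdvd : p ∣ C.relIndex K := by
    have h1 : C.relIndex Q ∣ C.relIndex K := by
      have eC := Subgroup.relIndex_mul_relIndex (C ⊓ Q) C (C ⊔ Q) inf_le_left le_sup_left
      have eQ := Subgroup.relIndex_mul_relIndex (C ⊓ Q) Q (C ⊔ Q) inf_le_right le_sup_right
      rw [Subgroup.inf_relIndex_left] at eC
      rw [Subgroup.inf_relIndex_right, Subgroup.relIndex_sup_right, mul_comm] at eQ
      have hne : Q.relIndex C ≠ 0 := Nat.card_pos.ne'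
      have e : C.relIndex (C ⊔ Q) = C.relIndex Q := mul_left_cancel₀ hne (eC.trans eQ.symm)
      exact ⟨(C ⊔ Q).relIndex K, by
        rw [← e, Subgroup.relIndex_mul_relIndex C (C ⊔ Q) K le_sup_left (sup_le hCK hQK)]⟩
    obtain ⟨k, hk⟩ := IsPGroup.iff_card.1 hQ
    have h2 : C.relIndex Q ∣ p ^ k := hk ▸ Subgroup.index_dvd_card _
    obtain ⟨j, -, hj⟩ := (Nat.dvd_prime_pow hM.1).1 h2
    rcases Nat.eq_zero_or_pos j with rfl | hj0
    · exact absurd (Subgroup.relIndex_eq_one.1 (by simpa using hj)) hQC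
    · exact (hj ▸ dvd_pow_self p hj0.ne').trans h1
  have hidx : C.index = C.relIndex K *
      (Subgroup.centralizer ({(g : G ⧸ Q)} : Set (G ⧸ Q))).index := by
    rw [← Subgroup.index_comap_of_surjective _ (QuotientGroup.mk'_surjective Q), ← hK,
      Subgroup.relIndex_mul_index hCK]
  have e : centralChar (ψ : G → ℂ) g =
      (C.relIndex K : ℂ) * centralChar φ (g : G ⧸ Q) := by
    simp only [centralChar, ← hC, hidx, ← hφψ, QuotientGroup.mk_one]
    push_cast
    ring
  rw [e]
  exact memLocalIdeal_mul_right hM ((memLocalIdeal_natCast_iff hM _).2 hpdvd)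
    (isIntegral_mem_locRing hM (isIntegral_centralChar_irr ⟨φ, hφ⟩ _))

/-- With a self-centralizing normal `p`-subgroup there is only the principal block. -/
theorem mem_principal_of_centralizer_le (hM : IsPModular p M) {Q : Subgroup G} [Q.Normal]
    (hQ : IsPGroup p Q) (hC : Subgroup.centralizer (Q : Set G) ≤ Q) (χ : IrrCharacter G) :
    SameBlock M (χ : G → ℂ) ((trivChar G : IrrCharacter G) : G → ℂ) := by
  obtain ⟨ψ, hψB, hψ⟩ := exists_trivial_on_mem hM hQ (isPBlock_blockOf (M := M) χ)
  refine sameBlock_trans hM hψB fun g => ?_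
  by_cases hg : g ∈ Subgroup.centralizer (Q : Set G)
  · have e : centralChar (ψ : G → ℂ) g = centralChar ((trivChar G : IrrCharacter G) : G → ℂ) g := by
      simp only [centralChar, trivChar_coe, hψ g (hC hg), div_one, mul_one]
      exact mul_div_cancel_right₀ _ ψ.2.apply_one_ne_zero
    rw [e, sub_self]; exact memLocalIdeal_zero hM
  · exact memLocalIdeal_sub hM (centralChar_inflated_mem_ideal hM hQ hψ hg)
      (centralChar_inflated_mem_ideal hM hQ (fun q _ => rfl) hg)

end Cfsg.Lib.Block
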