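import Cfsg.Agent.Lib.Block.BrauerHom
import Cfsg.Prelude.Def_BrauerPairs

/-!
# Blocks of local subgroups and their induced blocks
-/

set_option autoImplicit false
set_option linter.unusedSectionVars false

namespace Cfsg.Lib.Block

open Cfsg
open scoped ComplexConjugate

universe u

variable {p : ℕ} {M : Ideal AlgInt} {G : Type u} [Group G] [Fintype G] [Fact p.Prime]
  (hM : IsPModular p M) {P H : Subgroup G} [Fintype H]

/-- `χ` is the character attached to `ξ` by the Brauer map at `P`. -/
def BrRel (hM : IsPModular p M) (P H : Subgroup G) [Fintype H] (ξ : IrrCharacter H)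
    (χ : IrrCharacter G) : Prop :=
  ∀ v, VInt hM v → res hM (brVec P H v ξ) = res hM (v χ)

theorem brRel_congr_left (hHN : H ≤ Subgroup.normalizer (P : Set G)) {ξ ξ' : IrrCharacter H}
    {χ : IrrCharacter G} (h : BrRel hM P H ξ χ)
    (hs : SameBlock M (ξ : H → ℂ) (ξ' : H → ℂ)) : BrRel hM P H ξ' χ := fun v hv => by
  rw [← res_apply_eq hM (vInt_brVec hM hHN hv) hs]
  exact h v hv

theorem brRel_congr_right {ξ : IrrCharacter H} {χ χ' : IrrCharacter G} (h : BrRel hM P H ξ χ)
    (hs : SameBlock M (χ : G → ℂ) (χ' : G → ℂ)) : BrRel hM P H ξ χ' := fun v hv => by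
  rw [h v hv, res_apply_eq hM hv hs]

include hM in
theorem sameBlock_of_res_eq {χ χ' : IrrCharacter G}
    (h : ∀ g : G, res hM (centralChar (χ : G → ℂ) g) = res hM (centralChar (χ' : G → ℂ) g)) :
    SameBlock M (χ : G → ℂ) (χ' : G → ℂ) := fun g =>
  (res_eq_iff hM (centralChar_mem_locRing hM χ g) (centralChar_mem_locRing hM χ' g)).1 (h g)

theorem brRel_unique {ξ : IrrCharacter H} {χ χ' : IrrCharacter G} (h : BrRel hM P H ξ χ)
    (h' : BrRel hM P H ξ χ') : SameBlock M (χ : G → ℂ) (χ' : G → ℂ) :=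
  sameBlock_of_res_eq hM fun g => by
    rw [← h _ (vInt_centralChar hM g), ← h' _ (vInt_centralChar hM g)]

open Classical in
theorem brRel_iff_mem (hP : IsPGroup p P) (hCH : Subgroup.centralizer (P : Set G) ≤ H)
    (hHN : H ≤ Subgroup.normalizer (P : Set G)) (ξ : IrrCharacter H)
    {B : Set (IrrCharacter G)} (hB : IsPBlock M B) {χ : IrrCharacter G} (hχ : χ ∈ B) :
    BrRel hM P H ξ χ ↔ res hM (brVec P H (indVec B) ξ) = 1 := by
  constructor
  · intro h
    rw [h _ (vInt_indVec hM hB), indVec, if_pos hχ, res_one]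
  · intro h
    obtain ⟨χ', hχ'⟩ := exists_char_brauer hM hP hCH hHN ξ
    rw [hχ' _ (vInt_indVec hM hB), indVec] at h
    split_ifs at h with hmem
    · exact brRel_congr_right hM hχ' (sameBlock_of_mem hM hB hmem hχ)
    · rw [res_zero] at h; exact absurd h zero_ne_one

include hM in
/-- Central character form of the relation. -/
theorem brRel_iff_centralChar (hP : IsPGroup p P) (hCH : Subgroup.centralizer (P : Set G) ≤ H)
    (hHN : H ≤ Subgroup.normalizer (P : Set G)) (ξ : IrrCharacter H) (χ : IrrCharacter G) :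
    BrRel hM P H ξ χ ↔ ∀ g : G, MemLocalIdeal M
      (brauerCentralChar P H (ξ : H → ℂ) g - centralChar (χ : G → ℂ) g) := by
  constructor
  · intro h g
    rw [brauerCentralChar_eq]
    exact (res_eq_iff hM (apply_mem_locRing hM (vInt_brVec hM hHN (vInt_centralChar hM g)) ξ)
      (centralChar_mem_locRing hM χ g)).1 (h _ (vInt_centralChar hM g))
  · intro h
    obtain ⟨χ', hχ'⟩ := exists_char_brauer hM hP hCH hHN ξ
    refine brRel_congr_right hM hχ' fun g => ?_
    have h1 := h g
    rw [brauerCentralChar_eq] at h1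
    have h2 := (res_eq_iff hM (apply_mem_locRing hM (vInt_brVec hM hHN (vInt_centralChar hM g)) ξ)
      (centralChar_mem_locRing hM χ' g)).1 (hχ' _ (vInt_centralChar hM g))
    have := memLocalIdeal_sub hM h1 h2
    rwa [sub_sub_sub_cancel_left] at this

include hM in
theorem isInducedBlock_of_brRel (hP : IsPGroup p P) (hPH : P ≤ H)
    (hCH : Subgroup.centralizer (P : Set G) ≤ H)
    (hHN : H ≤ Subgroup.normalizer (P : Set G)) {b : Set (IrrCharacter H)} (hb : IsPBlock M b)
    {ξ : IrrCharacter H} (hξ : ξ ∈ b) {B : Set (IrrCharacter G)} (hB : IsPBlock M B)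
    {χ : IrrCharacter G} (hχ : χ ∈ B) (h : BrRel hM P H ξ χ) : IsInducedBlock M H b B := by
  refine ⟨hb, hB, fun ξ' hξ' χ' hχ' g => ?_⟩
  have h' := (brRel_iff_centralChar hM hP hCH hHN ξ' χ').1
    (brRel_congr_right hM (brRel_congr_left hM hHN h (sameBlock_of_mem hM hb hξ hξ'))
      (sameBlock_of_mem hM hB hχ hχ')) g
  have := memLocalIdeal_add hM (inducedCentralChar_sub_brauer hM hP hPH hHN ξ' g) h'
  rwa [sub_add_sub_cancel] at this

include hM in
theorem brRel_of_isInducedBlock (hP : IsPGroup p P) (hPH : P ≤ H)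
    (hCH : Subgroup.centralizer (P : Set G) ≤ H)
    (hHN : H ≤ Subgroup.normalizer (P : Set G)) {b : Set (IrrCharacter H)}
    {B : Set (IrrCharacter G)} (h : IsInducedBlock M H b B) {ξ : IrrCharacter H} (hξ : ξ ∈ b)
    {χ : IrrCharacter G} (hχ : χ ∈ B) : BrRel hM P H ξ χ := by
  rw [brRel_iff_centralChar hM hP hCH hHN]
  intro g
  have := memLocalIdeal_sub hM (h.2.2 ξ hξ χ hχ g) (inducedCentralChar_sub_brauer hM hP hPH hHN ξ g)
  rwa [sub_sub_sub_cancel_left] at this

include hM in
theorem exists_isInducedBlock (hP : IsPGroup p P) (hPH : P ≤ H)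
    (hCH : Subgroup.centralizer (P : Set G) ≤ H)
    (hHN : H ≤ Subgroup.normalizer (P : Set G)) {b : Set (IrrCharacter H)} (hb : IsPBlock M b) :
    ∃ B : Set (IrrCharacter G), IsInducedBlock M H b B := by
  obtain ⟨ξ, hξ⟩ := nonempty_of_isPBlock hM hb
  obtain ⟨χ, hχ⟩ := exists_char_brauer hM hP hCH hHN ξ
  exact ⟨_, isInducedBlock_of_brRel hM hP hPH hCH hHN hb hξ (isPBlock_blockOf χ)
    (self_mem_blockOf hM χ) hχ⟩

omit [Fact p.Prime] in
include hM in
/-- A block induces at most one block. -/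
theorem isInducedBlock_unique {K : Subgroup G} {b : Set (IrrCharacter K)}
    {B B' : Set (IrrCharacter G)} (h : IsInducedBlock M K b B) (h' : IsInducedBlock M K b B') :
    B = B' := by
  obtain ⟨ξ, hξ⟩ := nonempty_of_isPBlock hM h.1
  obtain ⟨χ, hχ⟩ := nonempty_of_isPBlock hM h.2.1
  obtain ⟨χ', hχ'⟩ := nonempty_of_isPBlock hM h'.2.1
  refine isPBlock_eq_of_mem hM h.2.1 h'.2.1 (mem_of_sameBlock hM h.2.1 hχ ?_) hχ'
  intro g
  have := memLocalIdeal_sub hM (h'.2.2 ξ hξ χ' hχ' g) (h.2.2 ξ hξ χ hχ g)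
  rwa [sub_sub_sub_cancel_left] at this

include hM in
theorem brauerOmega_eq (P : Subgroup G) [Fintype (Subgroup.centralizer (P : Set G))]
    (f : G → ℂ) (ξ : IrrCharacter (Subgroup.centralizer (P : Set G))) :
    brauerOmega P f (ξ : Subgroup.centralizer (P : Set G) → ℂ) =
      vec (brF P (Subgroup.centralizer (P : Set G)) f) ξ := by
  rw [brauerOmega, finsum_eq_sum_of_fintype, vec, Finset.sum_div]
  exact Finset.sum_congr rfl fun x _ => by rw [brF_of_mem x.2]

include hM in
theorem isBrauerPairOf_iff {B : Set (IrrCharacter G)} (hB : IsPBlock M B) (P : Subgroup G)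
    (hP : IsPGroup p P) [Fintype (Subgroup.centralizer (P : Set G))]
    {e : Set (IrrCharacter (Subgroup.centralizer (P : Set G)))} (he : IsPBlock M e) :
    IsBrauerPairOf p M B P e ↔
      ∀ ξ ∈ e, res hM (brVec P (Subgroup.centralizer (P : Set G)) (indVec B) ξ) = 1 := by
  have hHN : Subgroup.centralizer (P : Set G) ≤ Subgroup.normalizer (P : Set G) :=
    Subgroup.centralizer_le_normalizer _
  have e1 : ∀ ξ : IrrCharacter (Subgroup.centralizer (P : Set G)),
      brauerOmega P (blockCoeff B) (ξ : Subgroup.centralizer (P : Set G) → ℂ) =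
        brVec P (Subgroup.centralizer (P : Set G)) (indVec B) ξ := fun ξ => by
    rw [brauerOmega_eq hM, brVec, funext (zc_indVec B)]
  have e2 : ∀ ξ : IrrCharacter (Subgroup.centralizer (P : Set G)),
      MemLocalIdeal M (brauerOmega P (blockCoeff B)
        (ξ : Subgroup.centralizer (P : Set G) → ℂ) - 1) ↔
      res hM (brVec P (Subgroup.centralizer (P : Set G)) (indVec B) ξ) = 1 := fun ξ => by
    rw [e1, ← res_eq_iff hM
      (apply_mem_locRing hM (vInt_brVec hM hHN (vInt_indVec hM hB)) ξ) (one_mem _), res_one]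
  constructor
  · rintro ⟨-, -, h⟩ ξ hξ
    exact (e2 ξ).1 (h ξ hξ)
  · intro h
    exact ⟨⟨hP, he⟩, hB, fun ξ hξ => (e2 ξ).2 (h ξ hξ)⟩

include hM in
/-- The Brauer image of an idempotent is nonzero at some character exactly when some coefficient
on the centralizer is a unit. -/
theorem exists_brVec_iff_coeff (hP : IsPGroup p P) (hCH : Subgroup.centralizer (P : Set G) ≤ H)
    (hHN : H ≤ Subgroup.normalizer (P : Set G)) {B : Set (IrrCharacter G)} (hB : IsPBlock M B) :
    (∃ ξ : IrrCharacter H, res hM (brVec P H (indVec B) ξ) = 1) ↔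
      ∃ c ∈ Subgroup.centralizer (P : Set G), ¬ MemLocalIdeal M (blockCoeff B c) := by
  classical
  have hI := vInt_indVec hM hB
  constructor
  · rintro ⟨ξ, hξ⟩
    by_contra h
    simp only [not_exists, not_and, not_not] at h
    have : MemLocalIdeal M (brVec P H (indVec B) ξ) := by
      refine apply_mem_ideal (p := p) hM (fun x => ?_) ξ
      rw [zc_brVec hHN]
      by_cases hx : (x : G) ∈ Subgroup.centralizer (P : Set G)
      · rw [brF_of_mem hx, zc_indVec]; exact h _ hx
      · rw [brF_of_notMem hx]; exact memLocalIdeal_zero hM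
    rw [(res_eq_zero_iff hM (apply_mem_locRing hM (vInt_brVec hM hHN hI) ξ)).2 this] at hξ
    exact zero_ne_one hξ
  · rintro ⟨c, hc, hunit⟩
    by_contra h
    simp only [not_exists] at h
    have hω : ∀ ξ, MemLocalIdeal M (brVec P H (indVec B) ξ) := fun ξ => by
      obtain ⟨χ, hχ⟩ := exists_char_brauer hM hP hCH hHN ξ
      have h1 := h ξ
      rw [hχ _ hI] at h1
      rw [← res_eq_zero_iff hM (apply_mem_locRing hM (vInt_brVec hM hHN hI) ξ), hχ _ hI]
      simp only [indVec] at h1 ⊢
      split_ifs with hmem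
      · exact absurd (by rw [if_pos hmem, res_one]) h1
      · exact res_zero hM
    have hidem : indVec B * indVec B = indVec B := funext fun χ => by
      simp only [Pi.mul_apply, indVec]; split_ifs <;> simp
    have h2 := vSmall_brVec_mul hM hP hCH hHN hI hI
    rw [hidem] at h2
    have h3 : VSmall M (brVec P H (indVec B) * brVec P H (indVec B) - brVec P H (indVec B)) :=
      fun g => by
        have h4 := memLocalIdeal_neg hM (h2 g)
        rwa [← zc_neg, neg_sub] at h4
    have h5 := vSmall_of_idem hM (vInt_brVec hM hHN hI) h3 hω ⟨c, hCH hc⟩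
    rw [zc_brVec hHN, brF_of_mem (h := ⟨c, hCH hc⟩) hc, zc_indVec] at h5
    exact hunit h5

omit [Fintype H] in
include hM in
/-- The Brauer image of an idempotent is nonzero exactly below the defect groups. -/
theorem exists_coeff_iff_conj_le {B : Set (IrrCharacter G)} (hB : IsPBlock M B)
    {D : Subgroup G} (hD : IsDefectGroup p M B D) (hP : IsPGroup p P) :
    (∃ c ∈ Subgroup.centralizer (P : Set G), ¬ MemLocalIdeal M (blockCoeff B c)) ↔
      ∃ x : G, P.map (MulAut.conj x).toMonoidHom ≤ D := by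
  constructor
  · rintro ⟨c, hc, hunit⟩
    exact dClass_of_coeff hM hB hD hunit P hP (mem_centralizer_singleton_of hc)
  · rintro ⟨x, hx⟩
    obtain ⟨g, hg, S, rfl⟩ := isDefectGroup_iff.1 hD
    refine ⟨x⁻¹ * g * x, ?_, ?_⟩
    · refine mem_centralizer_of_le fun y hy => ?_
      have h1 := map_conj_le_centralizer (cenSyl_le g S) x⁻¹
        ⟨x * y * x⁻¹, hx ⟨y, hy, rfl⟩, rfl⟩
      simp only [MulEquiv.toMonoidHom_eq_coe, MonoidHom.coe_coe, MulAut.conj_apply, inv_inv] at h1
      rwa [show x⁻¹ * (x * y * x⁻¹) * x = y by group] at h1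
    · rw [show x⁻¹ * g * x = x⁻¹ * g * x⁻¹⁻¹ by group, blockCoeff_conj_invariant]
      exact hg.2.1

include hM in
/-- Block idempotents are supported on the centralizer of a normal `p`-subgroup. -/
theorem blockCoeff_eq_zero_of_notMem {Q : Subgroup G} [Q.Normal] (hQ : IsPGroup p Q)
    {B : Set (IrrCharacter G)} (hB : IsPBlock M B) {g : G}
    (hg : g ∉ Subgroup.centralizer (Q : Set G)) : blockCoeff B g = 0 := by
  classical
  set C := Subgroup.centralizer (Q : Set G) with hC
  let A : (IrrCharacter G → ℂ) → Prop := fun v => VInt hM v ∧ ∀ x ∉ C, zc v x = 0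
  set f : G → ℂ := fun x => if x ∈ C then blockCoeff B x else 0 with hf
  have hnorm : ∀ k : G, k ∈ Subgroup.normalizer (Q : Set G) := fun k => by
    rw [Subgroup.normalizer_eq_top]; exact Subgroup.mem_top k
  have hfc : IsClassFunction G f := fun x k => by
    simp only [hf, blockCoeff_conj_invariant]
    exact if_congr (centralizer_conj_mem_iff (hnorm k)) rfl rfl
  have hfint : ∀ x, f x ∈ locRing hM := fun x => by
    simp only [hf]
    split_ifs
    · exact blockCoeff_mem_locRing hM hB x
    · exact zero_mem _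
  have hv : A (vec f) := ⟨vInt_vec hM hfc hfint, fun x hx => by
    rw [zc_vec hfc]; simp only [hf, if_neg hx]⟩
  have hdiff : ∀ χ, MemLocalIdeal M (indVec B χ - vec f χ) := fun χ => by
    have he : vec (blockCoeff B) = indVec B := by rw [← funext (zc_indVec B), vec_zc]
    rw [← he, ← vec_sub_fun]
    refine vec_mem_ideal_of_vanish hM hQ ?_ ?_ ?_ χ
    · intro x k
      simp only [Pi.sub_apply, blockCoeff_conj_invariant, hfc x k]
    · exact fun x => sub_mem (blockCoeff_mem_locRing hM hB x) (hfint x)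
    · intro x hx
      simp only [Pi.sub_apply, hf, if_pos (show x ∈ C from hx), sub_self]
  have key : A (indVec B) := by
    refine indVec_mem_of_congr hM ?_ ?_ ?_ ?_ hv (apply_mem_locRing hM hv.1) ?_ ?_
    · exact ⟨vInt_one hM, fun x hx => by
        rw [zc_one, if_neg fun h : x = 1 => hx (h ▸ one_mem C)]⟩
    · exact fun v w hv hw => ⟨vInt_sub hM hv.1 hw.1, fun x hx => by
        rw [zc_sub, hv.2 x hx, hw.2 x hx, sub_zero]⟩
    · refine fun v w hv hw => ⟨vInt_mul hM hv.1 hw.1, fun x hx => ?_⟩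
      rw [zc_mul]
      refine Finset.sum_eq_zero fun y _ => ?_
      by_cases hy : y ∈ C
      · rw [hw.2 (y⁻¹ * x) fun h => hx (by simpa using mul_mem hy h), mul_zero]
      · rw [hv.2 y hy, zero_mul]
    · exact fun c hc v hv => ⟨vInt_smul hM hc hv.1, fun x hx => by
        rw [zc_smul, hv.2 x hx, mul_zero]⟩
    · intro χ hχ h
      have h2 := memLocalIdeal_add hM (hdiff χ) h
      rw [sub_add_cancel, indVec, if_pos hχ] at h2
      exact natCast_not_ideal hM hM.1.not_dvd_one (by simpa using h2)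
    · intro χ hχ
      have h2 := memLocalIdeal_neg hM (hdiff χ)
      rwa [indVec, if_neg hχ, zero_sub, neg_neg] at h2
  rw [← zc_indVec]
  exact key.2 g hg

end Cfsg.Lib.Block
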