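import Cfsg.Agent.Lib.Block.SecondMain
import Cfsg.Agent.Lib.Block.Cartan
import Cfsg.Agent.Lib.Block.Induced

/-!
# The third main theorem and restrictions of height zero characters

The regular central element attached to a character of height zero, restricted to a subgroup,
decides which blocks of the subgroup induce the block of that character.
-/

set_option autoImplicit false
set_option linter.unusedSectionVars false
set_option maxHeartbeats 400000

namespace Cfsg.Lib.Block

open Cfsg
open scoped ComplexConjugate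

universe u

variable {p : ℕ} {M : Ideal AlgInt} {G : Type u} [Group G] [Fintype G] [Fact p.Prime]
  (hM : IsPModular p M)

/-- `|G|` times the regular inner product divided by a degree: a value of a central character. -/
noncomputable def regVal (p : ℕ) (η : IrrCharacter G) (f : G → ℂ) : ℂ :=
  (Nat.card G : ℂ) * regInner p (η : G → ℂ) f / (η : G → ℂ) 1

theorem vec_regElt_fun (f : G → ℂ) (η : IrrCharacter G) (c : ℂ) :
    vec (regElt p f c) η = c * regVal p η f := by
  simp only [vec, regElt, regVal, regInner, classInner, Pi.smul_apply, smul_eq_mul, mul_div_assoc',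
    Finset.mul_sum]
  congr 1
  refine Finset.sum_congr rfl fun g _ => ?_
  by_cases h : IsPRegular p g
  · rw [pRegularPart_of_reg h, pRegularPart_of_reg h]
    field_simp [Char.card_cast_ne_zero (G := G)]
  · simp [pRegularPart_of_sing h]

theorem regElt_coe {H : Subgroup G} [Fintype H] (f : G → ℂ) (c : ℂ) (h : H) :
    regElt p f c (h : G) = regElt p (fun k : H => f k) c h := by
  simp only [regElt, Pi.smul_apply]
  congr 1
  by_cases hr : IsPRegular p (h : G)
  · have hr' : IsPRegular p h := fun hd => hr (by rwa [orderOf_submonoid])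
    rw [pRegularPart_of_reg hr, pRegularPart_of_reg hr']
  · have hr' : ¬ IsPRegular p h := fun hn => hr (by rwa [IsPRegular, orderOf_submonoid])
    rw [pRegularPart_of_sing hr, pRegularPart_of_sing hr']

/-- Restriction to `H` sends the central character of `χ` to that of `ξ`. -/
def RestrictRel (M : Ideal AlgInt) (hM : IsPModular p M) (H : Subgroup G) [Fintype H]
    (ξ : IrrCharacter H) (χ : IrrCharacter G) : Prop :=
  ∀ v : IrrCharacter G → ℂ, VInt hM v →
    MemLocalIdeal M (vec (fun h : H => zc v (h : G)) ξ - v χ)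

variable {H : Subgroup G} [Fintype H]

include hM in
theorem restrictRel_of_induced {b : Set (IrrCharacter H)} {B : Set (IrrCharacter G)}
    (hind : IsInducedBlock M H b B) {ξ : IrrCharacter H} (hξ : ξ ∈ b) {χ : IrrCharacter G}
    (hχ : χ ∈ B) : RestrictRel M hM H ξ χ :=
  fun _ hv => vec_restrict_sub_mem hM hind hξ hχ hv

include hM in
theorem vInt_regElt {χ : IrrCharacter G} {c : ℂ} (hc : c ∈ locRing hM) :
    VInt hM (vec (regElt p (χ : G → ℂ) c)) := fun g => by
  rw [zc_vec (isClassFunction_regElt χ c)]; exact regElt_mem hM χ hc g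

include hM in
theorem vec_regElt_restrict_sub_mem {ξ : IrrCharacter H} {χ' : IrrCharacter G}
    (hrel : RestrictRel M hM H ξ χ') (χ : IrrCharacter G) {c : ℂ} (hc : c ∈ locRing hM) :
    MemLocalIdeal M (c * regVal p ξ (fun h : H => (χ : G → ℂ) h) -
      c * regVal p χ' (χ : G → ℂ)) := by
  have h := hrel _ (vInt_regElt hM (χ := χ) hc)
  have e : (fun h : H => zc (vec (regElt p (χ : G → ℂ) c)) (h : G)) =
      regElt p (fun k : H => (χ : G → ℂ) k) c := by
    funext k
    rw [zc_vec (isClassFunction_regElt χ c), regElt_coe]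
  rwa [e, vec_regElt_fun, vec_regElt_fun] at h

include hM in
/-- A character of another block is invisible. -/
theorem regVal_restrict_mem {ξ : IrrCharacter H} {χ' χ : IrrCharacter G}
    (hrel : RestrictRel M hM H ξ χ') (hne : χ' ∉ blockOf M (χ : G → ℂ)) :
    MemLocalIdeal M (regVal p ξ (fun h : H => (χ : G → ℂ) h)) := by
  have h := vec_regElt_restrict_sub_mem hM hrel χ (one_mem _)
  have h0 : regVal p χ' (χ : G → ℂ) = 0 := by
    rw [regVal, regInner_symm, regInner_eq_zero hM (vInt_indVec hM (isPBlock_blockOf χ))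
      (self_mem_blockOf hM χ) hne]
    simp
  simpa [h0] using h

include hM in
theorem degFactor_mem {B : Set (IrrCharacter G)} (hB : IsPBlock M B) {χ : IrrCharacter G}
    (hχ : χ ∈ B) : degFactor p B χ ∈ locRing hM :=
  natCast_div_mem hM Nat.card_pos.ne' (Or.inr (by
    rw [factorization_deg_pow]
    have := le_deg_factorization (p := p) hM hB hχ
    omega))

include hM in
/-- The height zero characters of the induced block are visible. -/
theorem regVal_restrict_not_mem {ξ : IrrCharacter H} {χ' χ : IrrCharacter G}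
    (hrel : RestrictRel M hM H ξ χ') {B : Set (IrrCharacter G)} (hB : IsPBlock M B)
    (hχ' : χ' ∈ B) (hχ : χ ∈ B) (h0 : blockHeight p B (χ : G → ℂ) = 0) :
    ¬ MemLocalIdeal M (regVal p ξ (fun h : H => (χ : G → ℂ) h)) := by
  intro h
  refine regN_div_not_ideal hM hB hχ hχ' h0 ?_
  rw [regN_mul_div, vec_regElt_fun]
  have h1 := memLocalIdeal_sub hM (memLocalIdeal_mul_left hM (degFactor_mem hM hB hχ) h)
    (vec_regElt_restrict_sub_mem hM hrel χ (degFactor_mem hM hB hχ))
  rwa [sub_sub_cancel] at h1

include hM in
theorem regVal_self_not_mem {B : Set (IrrCharacter G)} (hB : IsPBlock M B)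
    {ψ : IrrCharacter G} (hψ : ψ ∈ B) (h0 : blockHeight p B (ψ : G → ℂ) = 0) :
    ¬ MemLocalIdeal M (regVal p ψ (ψ : G → ℂ)) := by
  intro h
  refine regN_div_not_ideal hM hB hψ hψ h0 ?_
  rw [regN_mul_div, vec_regElt_fun]
  exact memLocalIdeal_mul_left hM (degFactor_mem hM hB hψ) h

include hM in
theorem regVal_eq_zero {η ψ : IrrCharacter G} (h : η ∉ blockOf M (ψ : G → ℂ)) :
    regVal p η (ψ : G → ℂ) = 0 := by
  rw [regVal, regInner_symm, regInner_eq_zero hM (vInt_indVec hM (isPBlock_blockOf ψ))
    (self_mem_blockOf hM ψ) h]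
  simp

omit [Fact p.Prime] in
include hM in
theorem blockHeight_eq_zero_of_degree_one {B : Set (IrrCharacter G)} {χ : G → ℂ} (h : χ 1 = 1) :
    blockHeight p B χ = 0 := by
  have : charDegree χ = 1 := charDegree_eq_of_apply_one (by simpa using h)
  rw [blockHeight_eq, this]
  simp

include hM in
/-- The trivial character detects the principal block. -/
theorem regVal_one_iff (ξ : IrrCharacter G) :
    ¬ MemLocalIdeal M (regVal p ξ (fun _ : G => (1 : ℂ))) ↔ ξ ∈ principalBlock M G := by
  have e : (fun _ : G => (1 : ℂ)) = ((trivChar G : IrrCharacter G) : G → ℂ) := rfl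
  rw [e]
  constructor
  · intro h
    by_contra hn
    exact h (regVal_eq_zero hM (ψ := trivChar G) hn ▸ memLocalIdeal_zero hM)
  · intro h h1
    refine regVal_self_not_mem hM (isPBlock_principal (M := M) (G := G)) (trivChar_mem_principal hM)
      (blockHeight_eq_zero_of_degree_one hM rfl) ?_
    have hv : VInt hM (vec (regElt p ((trivChar G : IrrCharacter G) : G → ℂ) 1)) :=
      vInt_regElt hM (one_mem _)
    have h3 := apply_sub_apply_mem hM hv
      (sameBlock_of_mem hM (isPBlock_principal (M := M) (G := G)) (trivChar_mem_principal hM) h)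
    rw [vec_regElt_fun, vec_regElt_fun, one_mul, one_mul] at h3
    have h4 := memLocalIdeal_add hM h3 h1
    rwa [sub_add_cancel] at h4

include hM in
/-- Okuyama's criterion. -/
theorem isInducedBlock_iff_restrict {χ : IrrCharacter G} {ψ : IrrCharacter H}
    (hψ : (ψ : H → ℂ) = fun h : H => (χ : G → ℂ) h)
    (hχ0 : blockHeight p (blockOf M (χ : G → ℂ)) (χ : G → ℂ) = 0)
    (hψ0 : blockHeight p (blockOf M (ψ : H → ℂ)) (ψ : H → ℂ) = 0)
    {e : Set (IrrCharacter H)} (he : InducedBlockDefined M H e) :
    IsInducedBlock M H e (blockOf M (χ : G → ℂ)) ↔ e = blockOf M (ψ : H → ℂ) := by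
  obtain ⟨B, hind⟩ := he
  obtain ⟨χ', hχ'⟩ := nonempty_of_isPBlock hM hind.2.1
  constructor
  · intro hind'
    obtain ⟨ξ, hξ⟩ := nonempty_of_isPBlock hM hind.1
    have h := regVal_restrict_not_mem hM (restrictRel_of_induced hM hind' hξ (self_mem_blockOf hM χ))
      (isPBlock_blockOf χ) (self_mem_blockOf hM χ) (self_mem_blockOf hM χ) hχ0
    rw [← hψ] at h
    refine isPBlock_eq_of_mem hM hind.1 (isPBlock_blockOf ψ) hξ ?_
    by_contra hn
    exact h (regVal_eq_zero hM hn ▸ memLocalIdeal_zero hM)
  · intro he
    have hξ : ψ ∈ e := he ▸ self_mem_blockOf hM ψ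
    by_contra hn
    refine regVal_self_not_mem hM (isPBlock_blockOf ψ) (self_mem_blockOf hM ψ) hψ0 ?_
    have h := regVal_restrict_mem hM (χ := χ) (restrictRel_of_induced hM hind hξ hχ') fun hmem =>
      hn (isPBlock_eq_of_mem hM hind.2.1 (isPBlock_blockOf χ) hχ' hmem ▸ hind)
    rwa [← hψ] at h

include hM in
/-- The third main theorem. -/
theorem isInducedBlock_principal_iff {b : Set (IrrCharacter H)}
    (hdef : InducedBlockDefined M H b) :
    IsInducedBlock M H b (principalBlock M G) ↔ b = principalBlock M H :=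
  isInducedBlock_iff_restrict hM (χ := trivChar G) (ψ := trivChar H) rfl
    (blockHeight_eq_zero_of_degree_one hM rfl) (blockHeight_eq_zero_of_degree_one hM rfl) hdef

theorem regInner_sum_right {ι : Type*} (s : Finset ι) (η : G → ℂ) (n : ι → ℂ) (f : ι → G → ℂ) :
    regInner p η (∑ i ∈ s, n i • f i) = ∑ i ∈ s, conj (n i) * regInner p η (f i) := by
  simp only [regInner, classInner, Finset.sum_apply, Pi.smul_apply, smul_eq_mul, map_sum, map_mul,
    Finset.mul_sum]
  rw [Finset.sum_comm]
  exact Finset.sum_congr rfl fun g _ => Finset.sum_congr rfl fun i _ => by ring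

/-- Regular inner products of a character with an irreducible one are symmetric. -/
theorem regInner_char_symm {f : G → ℂ} (hf : IsCharacter G f) (ψ : IrrCharacter G) :
    regInner p f (ψ : G → ℂ) = regInner p (ψ : G → ℂ) f := by
  rw [← regInner_conj (ψ : G → ℂ) f]
  conv_lhs => rw [Char.eq_sum_classInner hf.isClassFunction]
  conv_rhs => rw [Char.eq_sum_classInner hf.isClassFunction]
  rw [regInner_sum_right, map_sum]
  refine Finset.sum_congr rfl fun η _ => ?_
  obtain ⟨n, hn⟩ := hf.exists_nat_classInner η.2.isCharacter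
  obtain ⟨r, hr⟩ := exists_rat_regInner (p := p) ψ η
  rw [hn, hr, map_mul, Complex.conj_natCast, map_natCast, map_ratCast]

include hM in
/-- Blau: a height zero character has a height zero constituent in an inducing block with
multiplicity prime to `p`. -/
theorem exists_height_zero_constituent {b : Set (IrrCharacter H)} {B : Set (IrrCharacter G)}
    (hind : IsInducedBlock M H b B) {χ : IrrCharacter G} (hχ : χ ∈ B)
    (h0 : blockHeight p B (χ : G → ℂ) = 0) :
    ∃ ξ ∈ b, blockHeight p b (ξ : H → ℂ) = 0 ∧
      ∃ n : ℕ, classInner (fun h : H => (χ : G → ℂ) h) (ξ : H → ℂ) = (n : ℂ) ∧ ¬ p ∣ n := by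
  classical
  obtain ⟨ξ, hξ⟩ := nonempty_of_isPBlock hM hind.1
  have hne := regVal_restrict_not_mem hM (restrictRel_of_induced hM hind hξ hχ) hind.2.1 hχ hχ h0
  by_contra hcon
  simp only [not_exists, not_and, not_not] at hcon
  apply hne
  have hf : IsCharacter H (fun h : H => (χ : G → ℂ) h) := χ.2.isCharacter.comp H.subtype
  rw [regVal, Char.eq_sum_classInner hf.isClassFunction, regInner_sum_right, Finset.mul_sum,
    Finset.sum_div]
  refine memLocalIdeal_sum hM _ _ fun η _ => ?_
  obtain ⟨n, hn⟩ := hf.exists_nat_classInner η.2.isCharacter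
  rw [hn, Complex.conj_natCast, show (Nat.card H : ℂ) * ((n : ℂ) * regInner p (ξ : H → ℂ)
    (η : H → ℂ)) / (ξ : H → ℂ) 1 = (n : ℂ) * regVal p ξ (η : H → ℂ) by rw [regVal]; ring]
  have hint : regVal p ξ (η : H → ℂ) ∈ locRing hM := by
    rw [← one_mul (regVal p ξ (η : H → ℂ)), ← vec_regElt_fun]
    exact apply_mem_locRing hM (vInt_regElt hM (one_mem _)) ξ
  by_cases hη : η ∈ b
  swap
  · rw [regVal_eq_zero hM fun hm => hη ((eq_blockOf_of_mem hM hind.1 hξ) ▸
      sameBlock_symm hM hm), mul_zero]
    exact memLocalIdeal_zero hM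
  by_cases hz : blockHeight p b (η : H → ℂ) = 0
  · exact memLocalIdeal_mul_right hM
      ((memLocalIdeal_natCast_iff hM n).2 (hcon η hη hz n hn)) hint
  refine memLocalIdeal_mul_left hM (natCast_mem _ _) ?_
  obtain ⟨-, h2⟩ := regN_div_pow_height_mem hM hind.1 (χ := η) (η := ξ) hη hξ
  set hh := blockHeight p b (η : H → ℂ) with hhdef
  rw [blockHeight_eq] at hhdef
  set r : ℂ := ((Nat.card H * p ^ hh : ℕ) : ℂ) /
    (charDegree (η : H → ℂ) * p ^ blockDefect p b : ℕ) with hr
  have hden : charDegree (η : H → ℂ) * p ^ blockDefect p b ≠ 0 :=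
    Nat.mul_ne_zero (charDegree_pos η).ne' (pow_ne_zero _ hM.1.ne_zero)
  have hadd := blockDefect_add_minVal (p := p) (nonempty_of_isPBlock hM hind.1)
  have hle := minVal_le (p := p) hη
  have hrmem : r ∈ locRing hM := natCast_div_mem hM hden (Or.inr (by
    rw [factorization_deg_pow, Nat.factorization_mul Nat.card_pos.ne'
      (pow_ne_zero _ hM.1.ne_zero), Finsupp.add_apply, hM.1.factorization_pow,
      Finsupp.single_eq_same]
    omega))
  have e : regVal p ξ (η : H → ℂ) = regN p b ξ η * ((η : H → ℂ) 1 / (ξ : H → ℂ) 1) /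
      ((p ^ hh : ℕ) : ℂ) * r := by
    rw [hr, regVal, regN, apply_one_eq_charDegree η]
    have d1 : (charDegree (η : H → ℂ) : ℂ) ≠ 0 := by exact_mod_cast (charDegree_pos η).ne'
    have d3 : (p : ℂ) ≠ 0 := by exact_mod_cast hM.1.ne_zero
    push_cast
    field_simp
  rw [e]
  exact memLocalIdeal_mul_right hM (h2 (Nat.pos_of_ne_zero hz)) hrmem

include hM in
open Classical in
/-- The criterion of the third main theorem in the form of an inner product. -/
theorem sylPart_mul_regInner_mem_iff {f : H → ℂ} (hf : IsCharacter H f) (ψ : IrrCharacter H) :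
    MemLocalIdeal M (classInner (fun h : H => if p ∣ orderOf h then (0 : ℂ) else
        ((p ^ (Nat.card H).factorization p : ℕ) : ℂ) * f h) (ψ : H → ℂ) / (ψ : H → ℂ) 1) ↔
      MemLocalIdeal M (regVal p ψ f) := by
  set k := ordCompl[p] (Nat.card H) with hk
  have hk0 : ¬ p ∣ k := Nat.not_dvd_ordCompl hM.1 Nat.card_pos.ne'
  have hG : (Nat.card H : ℂ) = (k : ℂ) * ((p ^ (Nat.card H).factorization p : ℕ) : ℂ) := by
    rw [← Nat.cast_mul, mul_comm, Nat.ordProj_mul_ordCompl_eq_self]
  have e1 : classInner (fun h : H => if p ∣ orderOf h then (0 : ℂ) else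
      ((p ^ (Nat.card H).factorization p : ℕ) : ℂ) * f h) (ψ : H → ℂ) =
      ((p ^ (Nat.card H).factorization p : ℕ) : ℂ) * regInner p f (ψ : H → ℂ) := by
    simp only [regInner, classInner, Finset.mul_sum]
    refine Finset.sum_congr rfl fun h _ => ?_
    by_cases hr : IsPRegular p h
    · rw [if_neg hr, pRegularPart_of_reg hr]; ring
    · rw [if_pos (not_not.1 hr), pRegularPart_of_sing hr]; ring
  rw [e1, regInner_char_symm hf]
  have e2 : regVal p ψ f = (k : ℂ) * (((p ^ (Nat.card H).factorization p : ℕ) : ℂ) *
      regInner p (ψ : H → ℂ) f / (ψ : H → ℂ) 1) := by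
    rw [regVal, hG]; ring
  rw [e2]
  refine ⟨fun h => memLocalIdeal_mul_left hM (natCast_mem _ _) h, fun h => ?_⟩
  have := memLocalIdeal_mul_left hM (inv_natCast_mem_locRing hM hk0) h
  rwa [inv_mul_cancel_left₀] at this
  exact_mod_cast fun h0 : k = 0 => hk0 (h0 ▸ dvd_zero p)

omit [Fintype H] in
include hM in
open Classical in
/-- The subsections of a height zero character do not vanish. -/
theorem exists_blockPart_ne_zero {x : G} (hx : ∃ k : ℕ, orderOf x = p ^ k)
    [Fintype (Subgroup.centralizer ({x} : Set G))]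
    {b : Set (IrrCharacter (Subgroup.centralizer ({x} : Set G)))} {B : Set (IrrCharacter G)}
    (hb : IsInducedBlock M (Subgroup.centralizer ({x} : Set G)) b B) {χ : IrrCharacter G}
    (hχ : χ ∈ B) (h0 : blockHeight p B (χ : G → ℂ) = 0) :
    ∃ y : Subgroup.centralizer ({x} : Set G), ¬ p ∣ orderOf y ∧
      blockPart b (fun c : Subgroup.centralizer ({x} : Set G) => (χ : G → ℂ) (x * (c : G))) y ≠ 0 := by
  obtain ⟨e, he⟩ := hx
  obtain ⟨ξ, hξ⟩ := nonempty_of_isPBlock hM hb.1
  by_contra hcon
  simp only [not_exists, not_and, not_not] at hcon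
  refine regVal_restrict_not_mem hM (restrictRel_of_induced hM hb hξ hχ) hb.2.1 hχ hχ h0 ?_
  set θ : Subgroup.centralizer ({x} : Set G) → ℂ := fun c => (χ : G → ℂ) (x * (c : G)) with hθ
  have hθc : IsClassFunction _ θ := fun c d => by
    simp only [hθ, Subgroup.coe_mul, InvMemClass.coe_inv]
    rw [← χ.2.isClassFunction (x * (c : G)) (d : G), ← mul_assoc (d : G) x (c : G),
      ← (Subgroup.mem_centralizer_iff.1 d.2 x rfl)]
    simp only [mul_assoc]
  have hzero : regInner p (ξ : Subgroup.centralizer ({x} : Set G) → ℂ) θ = 0 := by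
    have hexp := regPart_expand hM (vInt_indVec hM hb.1) hξ
    have hin : ∀ η ∈ b.toFinset, classInner (η : Subgroup.centralizer ({x} : Set G) → ℂ) θ =
        classInner (η : Subgroup.centralizer ({x} : Set G) → ℂ) (blockPart b θ) := by
      intro η hη
      have e : blockPart b θ = ∑ φ ∈ b.toFinset,
          classInner θ (φ : Subgroup.centralizer ({x} : Set G) → ℂ) •
            (φ : Subgroup.centralizer ({x} : Set G) → ℂ) := by
        funext c
        simp only [blockPart, finsum_mem_eq_toFinset_sum, Finset.sum_apply, Pi.smul_apply,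
          smul_eq_mul]
        refine Finset.sum_congr rfl fun φ _ => ?_
        congr 1
        simp only [classInner]
        congr 1
        exact Finset.sum_congr (by ext; simp) fun _ _ => rfl
      rw [← Char.classInner_conj_symm θ, ← Char.classInner_conj_symm (blockPart b θ)
          (η : Subgroup.centralizer ({x} : Set G) → ℂ), e,
        Char.classInner_sum_left, Finset.sum_eq_single η]
      · rw [Char.classInner_smul_left, Char.classInner_irr_self η.2, mul_one]
      · intro φ _ hne
        rw [Char.classInner_smul_left, Char.classInner_irr_ne φ.2 η.2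
          (fun h => hne (Subtype.ext h)), mul_zero]
      · exact fun hn => absurd hη hn
    rw [regInner, hexp, Char.classInner_sum_left]
    have e2 : classInner (pRegularPart p (ξ : Subgroup.centralizer ({x} : Set G) → ℂ))
        (blockPart b θ) = 0 := by
      simp only [classInner]
      rw [Finset.sum_eq_zero, mul_zero]
      intro c _
      by_cases hc : IsPRegular p c
      · rw [hcon c hc]; simp
      · rw [pRegularPart_of_sing hc, zero_mul]
    rw [hexp, Char.classInner_sum_left] at e2
    rw [← e2]
    refine Finset.sum_congr rfl fun η hη => ?_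
    rw [Char.classInner_smul_left, Char.classInner_smul_left, hin η hη]
  have hd : ∀ c : Subgroup.centralizer ({x} : Set G),
      MemLocalIdeal M (regElt p (fun h : Subgroup.centralizer ({x} : Set G) => (χ : G → ℂ) h) 1 c -
        regElt p θ 1 c) := by
    intro c
    simp only [regElt, one_smul]
    by_cases hc : IsPRegular p c
    · rw [pRegularPart_of_reg hc, pRegularPart_of_reg hc]
      have hpr : pReg p (x * (c : G)) = (c : G) :=
        (eq_pReg rfl (Subgroup.mem_centralizer_iff.1 c.2 x rfl) he
          (by rw [orderOf_submonoid]; exact hc)).symm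
      have h := charVal_sub_pReg_mem (p := p) hM χ.2.isCharacter.conjFn (x * (c : G))
      rw [hpr] at h
      simpa [hθ] using memLocalIdeal_neg hM h
    · rw [pRegularPart_of_sing hc, pRegularPart_of_sing hc, sub_zero]; exact memLocalIdeal_zero hM
  have hcl : IsClassFunction _ (fun c : Subgroup.centralizer ({x} : Set G) =>
      regElt p (fun h : Subgroup.centralizer ({x} : Set G) => (χ : G → ℂ) h) 1 c -
        regElt p θ 1 c) := fun c d => by
    simp only [regElt, one_smul]
    rw [isClassFunction_pRegularPart (χ := fun a : Subgroup.centralizer ({x} : Set G) =>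
        conj ((χ : G → ℂ) a)) (fun a k => congrArg conj (χ.2.isClassFunction (a : G) (k : G))) c d,
      isClassFunction_pRegularPart (χ := fun a => conj (θ a))
        (fun a k => congrArg conj (hθc a k)) c d]
  have hv := apply_mem_ideal hM (fun c => by rw [zc_vec hcl]; exact hd c) ξ
  have e3 : vec (fun c : Subgroup.centralizer ({x} : Set G) =>
      regElt p (fun h : Subgroup.centralizer ({x} : Set G) => (χ : G → ℂ) h) 1 c -
        regElt p θ 1 c) ξ =
      vec (regElt p (fun h : Subgroup.centralizer ({x} : Set G) => (χ : G → ℂ) h) 1) ξ -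
        vec (regElt p θ 1) ξ := vec_sub_fun _ _ ξ
  rw [e3, vec_regElt_fun, vec_regElt_fun] at hv
  simpa [regVal, hzero] using hv

include hM in
/-- Brauer pairs of the principal block. -/
theorem isBrauerPairOf_principal_iff {Q : Subgroup G} (hQ : IsPGroup p Q)
    [Fintype (Subgroup.centralizer (Q : Set G))]
    {e : Set (IrrCharacter (Subgroup.centralizer (Q : Set G)))} (he : IsPBlock M e) :
    IsBrauerPairOf p M (principalBlock M G) Q e ↔
      e = principalBlock M (Subgroup.centralizer (Q : Set G)) := by
  classical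
  have hB := isPBlock_principal (M := M) (G := G)
  have hI := vInt_indVec hM hB
  have hHN : Subgroup.centralizer (Q : Set G) ≤ Subgroup.normalizer (Q : Set G) :=
    Subgroup.centralizer_le_normalizer _
  have key : ∀ ξ : IrrCharacter (Subgroup.centralizer (Q : Set G)),
      res hM (brVec Q (Subgroup.centralizer (Q : Set G)) (indVec (principalBlock M G)) ξ) = 1 ↔
        ξ ∈ principalBlock M (Subgroup.centralizer (Q : Set G)) := by
    intro ξ
    obtain ⟨χ', hχ'⟩ := exists_char_brauer hM hQ le_rfl hHN ξ
    have hmem : res hM (brVec Q (Subgroup.centralizer (Q : Set G))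
        (indVec (principalBlock M G)) ξ) = 1 ↔ χ' ∈ principalBlock M G := by
      rw [hχ' _ hI, indVec]
      split_ifs with h
      · exact iff_of_true (res_one hM) h
      · rw [res_zero]; exact iff_of_false zero_ne_one h
    have hrel : RestrictRel M hM (Subgroup.centralizer (Q : Set G)) ξ χ' := fun v hv => by
      have e1 : vec (fun h : Subgroup.centralizer (Q : Set G) => zc v h) ξ =
          brVec Q (Subgroup.centralizer (Q : Set G)) v ξ := by
        rw [brVec]
        congr 1
        funext h
        rw [brF_of_mem h.2]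
      rw [e1, ← res_eq_iff hM (apply_mem_locRing hM (vInt_brVec hM hHN hv) ξ)
        (apply_mem_locRing hM hv χ')]
      exact hχ' v hv
    rw [hmem]
    constructor
    · intro h
      have h1 := regVal_restrict_not_mem hM (χ := trivChar G) hrel hB h (trivChar_mem_principal hM)
        (blockHeight_eq_zero_of_degree_one hM (χ := ((trivChar G : IrrCharacter G) : G → ℂ))
          (congrFun trivChar_coe 1))
      simp only [trivChar_coe] at h1
      exact (regVal_one_iff hM ξ).1 h1
    · intro h
      by_contra hn
      have h1 := regVal_restrict_mem hM (χ := trivChar G) hrel hn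
      simp only [trivChar_coe] at h1
      exact (regVal_one_iff hM ξ).2 h h1
  rw [isBrauerPairOf_iff hM hB Q hQ he]
  constructor
  · intro h
    obtain ⟨ξ, hξ⟩ := nonempty_of_isPBlock hM he
    exact isPBlock_eq_of_mem hM he isPBlock_principal hξ ((key ξ).1 (h ξ hξ))
  · intro h ξ hξ
    exact (key ξ).2 (h ▸ hξ)

include hM in
open Classical in
/-- The degree of a block component of an induced character. -/
theorem blockPart_indFun_one (B : Set (IrrCharacter G)) (ξ : IrrCharacter H) :
    blockPart B (indFun H (ξ : H → ℂ)) 1 =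
      (H.index : ℂ) * (ξ : H → ℂ) 1 * vec (fun h : H => zc (indVec B) h) ξ := by
  rw [blockPart_eq_sum B (Char.isClassFunction_indFun H _)]
  simp only [mul_one, vec, zc_indVec]
  have hreal : ∀ k : G, conj (blockCoeff B k) = blockCoeff B k⁻¹ := by
    intro k
    simp only [blockCoeff, finsum_mem_eq_toFinset_sum, map_mul, map_inv₀, Complex.conj_natCast,
      map_sum, Complex.conj_conj, conj_apply_one]
    congr 1
    exact Finset.sum_congr rfl fun χ _ => by rw [χ.2.isCharacter.apply_inv, Complex.conj_conj]
  have key := Char.classInner_indFun H (ξ : H → ℂ) (χ := fun g => conj (blockCoeff B g))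
    fun g x => congrArg conj (blockCoeff_conj_invariant B g x)
  simp only [classInner, Complex.conj_conj] at key
  have hidx : (Nat.card G : ℂ) = (H.index : ℂ) * Nat.card H := by
    rw [← Nat.cast_mul, Subgroup.index_mul_card]
  have h1 : ∑ k, blockCoeff B k * indFun H (ξ : H → ℂ) k = (Nat.card G : ℂ) *
      ((Nat.card H : ℂ)⁻¹ * ∑ h : H, blockCoeff B h * (ξ : H → ℂ) h) := by
    simp only [mul_comm (blockCoeff B _)]
    rw [← key, mul_inv_cancel_left₀ Char.card_cast_ne_zero]
  rw [h1, hidx]
  field_simp [ξ.2.apply_one_ne_zero, Char.card_cast_ne_zero (G := H)]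

end Cfsg.Lib.Block
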