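import Cfsg.Agent.Lib.Block.CoverBasics
import Cfsg.Agent.Lib.Block.Principal
import Cfsg.Agent.Lib.Block.Cartan
import Cfsg.Agent.Lib.Block.ThirdMain
import Cfsg.Agent.Lib.Char.Galois
import Cfsg.Agent.Lib.Core.Cores

/-!
# Norm sums over the principal block
-/

set_option autoImplicit false
set_option linter.unusedSectionVars false
set_option maxHeartbeats 800000

namespace Cfsg.Lib.Block

open Cfsg
open scoped ComplexConjugate

universe u

variable {p : ℕ} {M : Ideal AlgInt} {G : Type u} [Group G] [Fintype G] [Fact p.Prime]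

theorem mem_principal_iff_regSum (hM : IsPModular p M) (χ : IrrCharacter G) :
    χ ∈ principalBlock M G ↔ ∑ g, pRegularPart p (χ : G → ℂ) g ≠ 0 := by
  refine ⟨fun h h0 => ?_, mem_principal_of_regSum_ne hM χ⟩
  refine regN_div_height_not_ideal hM isPBlock_principal (trivChar_mem_principal (G := G) hM) h
    (blockHeight_eq_zero_of_degree_one hM (by rw [trivChar_coe])) ?_
  rw [regN, regInner_symm, regInner, classInner]
  simp only [trivChar_coe, map_one, mul_one, h0, mul_zero, zero_div]
  exact memLocalIdeal_zero hM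

/-- The principal block is stable under the power twists. -/
theorem principal_comp_pow (hM : IsPModular p M) {k : ℕ} (hk : k.Coprime (Nat.card G))
    {χ : IrrCharacter G} (hχ : χ ∈ principalBlock M G) :
    (⟨_, Char.isIrrCharacter_comp_pow hk χ.2⟩ : IrrCharacter G) ∈ principalBlock M G := by
  classical
  rw [mem_principal_iff_regSum hM] at hχ ⊢
  refine fun h0 => hχ (Eq.trans (Eq.symm ?_) h0)
  refine Fintype.sum_bijective (fun g : G => g ^ k) (Char.powBij_of_coprime hk) _ _ fun g => ?_
  by_cases hg : IsPRegular p g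
  · rw [pRegularPart_of_reg hg, pRegularPart_of_reg ((isPRegular_pow_iff hk g).2 hg)]
  · rw [pRegularPart_of_sing hg,
      pRegularPart_of_sing (fun h => hg ((isPRegular_pow_iff hk g).1 h))]

/-- The norm sum over the principal block at an element is a positive integer. -/
theorem exists_nat_normSum (hM : IsPModular p M) (x : G) :
    ∃ n : ℕ, 0 < n ∧
      ∑ᶠ χ ∈ principalBlock M G, Complex.normSq ((χ : G → ℂ) x) = n := by
  classical
  haveI : NeZero (Nat.card G) := ⟨Nat.card_pos.ne'⟩
  set N := Nat.card G with hN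
  set B := (Set.toFinite (principalBlock M G)).toFinset with hB
  set S : ℝ := ∑ᶠ χ ∈ principalBlock M G, Complex.normSq ((χ : G → ℂ) x) with hS
  have hS' : S = ∑ χ ∈ B, Complex.normSq ((χ : G → ℂ) x) :=
    finsum_mem_eq_finite_toFinset_sum _ (Set.toFinite _)
  let v : IrrCharacter G → G → Char.cycField N := fun χ g =>
    Char.charVal (dvd_refl N) χ.2.isCharacter g
  set z : Char.cycField N := ∑ χ ∈ B, v χ x * v χ x⁻¹ with hz
  have hzC : (z : ℂ) = (S : ℂ) := by
    rw [hz, hS', Complex.ofReal_sum, AddSubmonoidClass.coe_finsetSum]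
    refine Finset.sum_congr rfl fun χ _ => ?_
    show (χ : G → ℂ) x * (χ : G → ℂ) x⁻¹ = _
    rw [χ.2.isCharacter.apply_inv, Complex.mul_conj]
  have hfix : ∀ σ : Char.cycField N →ₐ[ℚ] ℂ, σ z = (z : ℂ) := by
    intro σ
    obtain ⟨k, hk, hσ⟩ := Char.exists_actsAsPow σ
    rw [hz, map_sum, AddSubmonoidClass.coe_finsetSum]
    set tw : IrrCharacter G → IrrCharacter G := fun χ =>
      ⟨_, Char.isIrrCharacter_comp_pow hk χ.2⟩ with htw
    have hinj : Function.Injective tw := fun a b h => Subtype.ext (funext fun g => by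
      obtain ⟨g', rfl⟩ := (Char.powBij_of_coprime hk).2 g
      exact congrFun (congrArg Subtype.val h) g')
    have hmaps : ∀ χ ∈ B, tw χ ∈ B := fun χ hχ => (Set.Finite.mem_toFinset _).2
      (principal_comp_pow hM hk ((Set.Finite.mem_toFinset _).1 hχ))
    have himg : B.image tw = B := Finset.eq_of_subset_of_card_le
      (Finset.image_subset_iff.2 hmaps) (by rw [Finset.card_image_of_injective _ hinj])
    conv_rhs => rw [← himg, Finset.sum_image fun a _ b _ h => hinj h]
    refine Finset.sum_congr rfl fun χ _ => ?_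
    rw [map_mul, Char.galois_charVal _ hσ, Char.galois_charVal _ hσ]
    rfl
  obtain ⟨q, hq⟩ := Char.exists_rat_of_fixed z hfix
  have hint : IsIntegral ℤ (q : ℂ) := by
    rw [← hq, hzC, hS', Complex.ofReal_sum]
    refine IsIntegral.sum _ fun χ _ => ?_
    rw [← Complex.mul_conj, ← χ.2.isCharacter.apply_inv]
    exact (χ.2.isCharacter.isIntegral x).mul (χ.2.isCharacter.isIntegral x⁻¹)
  obtain ⟨m, hm⟩ := Char.exists_int_of_isIntegral_rat hint
  have h1 : (1 : ℝ) ≤ S := by
    rw [hS']
    refine le_trans ?_ (Finset.single_le_sum (fun χ _ => Complex.normSq_nonneg _)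
      ((Set.Finite.mem_toFinset _).2 (trivChar_mem_principal (G := G) hM)))
    simp [trivChar_coe]
  have hSm : S = (m : ℝ) := by
    have h2 : (S : ℂ) = ((m : ℝ) : ℂ) := by rw [← hzC, hq, hm]; simp
    exact_mod_cast h2
  rw [hSm] at h1 ⊢
  have hm1 : 1 ≤ m := by exact_mod_cast h1
  refine ⟨m.toNat, by omega, ?_⟩
  have : ((m.toNat : ℕ) : ℤ) = m := Int.toNat_of_nonneg (by omega)
  exact_mod_cast (congrArg (fun t : ℤ => (t : ℝ)) this).symm

/-- Norm sums at an element are bounded by its centralizer. -/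
theorem normSum_le (hM : IsPModular p M) (x : G) :
    ∑ᶠ χ ∈ principalBlock M G, Complex.normSq ((χ : G → ℂ) x) ≤
      (Nat.card (Subgroup.centralizer ({x} : Set G)) : ℝ) := by
  classical
  have h := Char.column_orthogonality x x
  rw [if_pos (IsConj.refl x)] at h
  simp only [Complex.mul_conj] at h
  rw [finsum_mem_eq_finite_toFinset_sum _ (Set.toFinite _)]
  have h' : ∑ χ : IrrCharacter G, Complex.normSq ((χ : G → ℂ) x) =
      (Nat.card (Subgroup.centralizer ({x} : Set G)) : ℝ) := by exact_mod_cast h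
  rw [← h']
  exact Finset.sum_le_univ_sum_of_nonneg fun χ => Complex.normSq_nonneg _

variable (K : Subgroup G) [K.Normal]

theorem isPRegular_mk_iff (hK : ¬ p ∣ Nat.card K) (g : G) :
    IsPRegular p (g : G ⧸ K) ↔ IsPRegular p g := by
  constructor
  · intro h hdvd
    have hmem : g ^ orderOf (g : G ⧸ K) ∈ K := by
      rw [← QuotientGroup.eq_one_iff, QuotientGroup.mk_pow, pow_orderOf_eq_one]
    have h2 : orderOf (g ^ orderOf (g : G ⧸ K)) ∣ Nat.card K := by
      have := orderOf_dvd_natCard (⟨_, hmem⟩ : K)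
      rwa [Subgroup.orderOf_mk] at this
    have hd : orderOf (g : G ⧸ K) ∣ orderOf g := orderOf_map_dvd (QuotientGroup.mk' K) g
    rw [orderOf_pow_of_dvd (orderOf_pos _).ne' hd] at h2
    obtain ⟨c, hc⟩ := hd
    rw [hc, Nat.mul_div_cancel_left _ (orderOf_pos _)] at h2
    rw [hc] at hdvd
    exact ((Fact.out : p.Prime).dvd_mul.1 hdvd).elim h fun hh => hK (hh.trans h2)
  · exact fun h hdvd => h (hdvd.trans (orderOf_map_dvd (QuotientGroup.mk' K) g))

/-- Norm sums of the principal block pass to the quotient by a normal `p'`-subgroup. -/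
theorem normSum_quotient [Fintype K] (hM : IsPModular p M) (hK : ¬ p ∣ Nat.card K) (x : G) :
    ∑ᶠ χ ∈ principalBlock M G, Complex.normSq ((χ : G → ℂ) x) =
      ∑ᶠ ψ ∈ principalBlock M (G ⧸ K), Complex.normSq ((ψ : G ⧸ K → ℂ) (x : G ⧸ K)) := by
  classical
  haveI := Fintype.ofFinite (G ⧸ K)
  let inf : IrrCharacter (G ⧸ K) → IrrCharacter G := fun ψ =>
    (Char.irrQuotientEquiv K ψ).1
  have hval : ∀ (ψ : IrrCharacter (G ⧸ K)) (g : G),
      (inf ψ : G → ℂ) g = (ψ : G ⧸ K → ℂ) (g : G ⧸ K) := fun ψ g => rfl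
  have hiff : ∀ ψ : IrrCharacter (G ⧸ K),
      inf ψ ∈ principalBlock M G ↔ ψ ∈ principalBlock M (G ⧸ K) := by
    intro ψ
    rw [mem_principal_iff_regSum hM, mem_principal_iff_regSum hM]
    have e : ∑ g, pRegularPart p (inf ψ : G → ℂ) g =
        (Nat.card K : ℂ) * ∑ q, pRegularPart p (ψ : G ⧸ K → ℂ) q := by
      rw [← Finset.sum_fiberwise Finset.univ (fun g : G => (g : G ⧸ K)), Finset.mul_sum]
      refine Finset.sum_congr rfl fun q _ => ?_
      rw [Finset.sum_congr rfl (g := fun _ => pRegularPart p (ψ : G ⧸ K → ℂ) q) fun g hg => by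
        have hq : (g : G ⧸ K) = q := (Finset.mem_filter.1 hg).2
        subst hq
        by_cases h : IsPRegular p g
        · rw [pRegularPart_of_reg h, pRegularPart_of_reg ((isPRegular_mk_iff K hK g).2 h), hval]
        · rw [pRegularPart_of_sing h,
            pRegularPart_of_sing (fun h' => h ((isPRegular_mk_iff K hK g).1 h'))],
        Finset.sum_const, nsmul_eq_mul]
      congr 2
      induction q using QuotientGroup.induction_on with
      | H c =>
        rw [← Fintype.card_subtype, ← Nat.card_eq_fintype_card]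
        refine Nat.card_congr (Equiv.symm
          { toFun := fun n => ⟨c * n, by simp [QuotientGroup.eq]⟩
            invFun := fun g => ⟨c⁻¹ * g.1, by
              have := g.2
              rw [eq_comm, QuotientGroup.eq] at this
              exact this⟩
            left_inv := fun n => Subtype.ext (inv_mul_cancel_left _ _)
            right_inv := fun g => Subtype.ext (mul_inv_cancel_left _ _) })
    rw [e]
    refine ⟨fun h h0 => h (by rw [h0, mul_zero]), fun h => mul_ne_zero ?_ h⟩
    exact_mod_cast Nat.card_pos.ne'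
  refine (finsum_mem_eq_of_bijOn inf ⟨fun ψ h => (hiff ψ).2 h, ?_, fun χ hχ => ?_⟩
    fun ψ _ => ?_).symm
  · exact fun a _ b _ h => (Char.irrQuotientEquiv K).injective (Subtype.ext h)
  · have htriv := trivial_of_sameBlock K hM hK
      (sameBlock_of_mem hM isPBlock_principal (trivChar_mem_principal hM) hχ)
      (fun n _ => by rw [trivChar_coe])
    refine ⟨(Char.irrQuotientEquiv K).symm ⟨χ, htriv⟩, (hiff _).1 ?_, ?_⟩
    · simpa [inf] using hχ
    · simp [inf]
  · rw [hval]

theorem degSum_eq_card_iff (hM : IsPModular p M) :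
    (∑ᶠ χ ∈ principalBlock M G, charDegree (χ : G → ℂ) ^ 2) = Nat.card G ↔
      ∀ B : Set (IrrCharacter G), IsPBlock M B → B = principalBlock M G := by
  classical
  have hsum : ∑ χ : IrrCharacter G, charDegree (χ : G → ℂ) ^ 2 = Nat.card G := by
    have h := Char.sum_sq_degree (G := G)
    rw [Finset.sum_congr rfl (g := fun χ : IrrCharacter G =>
      ((charDegree (χ : G → ℂ) ^ 2 : ℕ) : ℂ)) fun χ _ => by
        rw [apply_one_eq_charDegree χ, Nat.cast_pow], ← Nat.cast_sum] at h
    exact_mod_cast h
  rw [finsum_mem_eq_finite_toFinset_sum _ (Set.toFinite _)]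
  constructor
  · intro h B hB
    obtain ⟨χ, hχ⟩ := nonempty_of_isPBlock hM hB
    refine isPBlock_eq_of_mem hM hB isPBlock_principal hχ ?_
    by_contra hn
    have hlt : ∑ η ∈ (Set.toFinite (principalBlock M G)).toFinset, charDegree (η : G → ℂ) ^ 2 <
        ∑ η : IrrCharacter G, charDegree (η : G → ℂ) ^ 2 :=
      Finset.sum_lt_sum_of_subset (i := χ) (Finset.subset_univ _) (Finset.mem_univ χ)
        (fun hm => hn ((Set.Finite.mem_toFinset _).1 hm)) (pow_pos (charDegree_pos χ) 2)
        fun j _ _ => Nat.zero_le _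
    omega
  · intro h
    rw [← hsum]
    refine Finset.sum_congr ?_ fun _ _ => rfl
    ext χ
    simp only [Set.Finite.mem_toFinset, Finset.mem_univ, iff_true]
    rw [← h _ (isPBlock_blockOf χ)]
    exact self_mem_blockOf hM χ

end Cfsg.Lib.Block
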