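import Cfsg.Agent.Lib.Block.Subsection
import Cfsg.Agent.Lib.Block.ThirdMain
import Cfsg.Agent.Lib.Block.Principal
import Cfsg.Agent.Lib.Core.Cores

/-!
# Consequences of the orthogonality of subsections

Blocks attached to Brauer elements, the kernel of the principal block, groups with a normal
`p`-complement, and the counting of characters by subsections.
-/

set_option autoImplicit false
set_option linter.unusedSectionVars false
set_option maxHeartbeats 400000

namespace Cfsg.Lib.Block

open Cfsg
open scoped ComplexConjugate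

universe u

variable {p : ℕ} {M : Ideal AlgInt} {G : Type u} [Group G] [Fintype G] [Fact p.Prime]
  (hM : IsPModular p M)

include hM in
/-- A Brauer pair of `B` at an abelian subgroup consists of a block inducing `B`. -/
theorem isInducedBlock_of_isBrauerPairOf {B : Set (IrrCharacter G)} {P : Subgroup G}
    (hPC : P ≤ Subgroup.centralizer (P : Set G))
    {e : Set (IrrCharacter (Subgroup.centralizer (P : Set G)))}
    (h : IsBrauerPairOf p M B P e) :
    IsInducedBlock M (Subgroup.centralizer (P : Set G)) e B := by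
  classical
  haveI := Fintype.ofFinite (Subgroup.centralizer (P : Set G))
  obtain ⟨⟨hP, he⟩, hB, -⟩ := id h
  have hHN : Subgroup.centralizer (P : Set G) ≤ Subgroup.normalizer (P : Set G) :=
    Subgroup.centralizer_le_normalizer _
  obtain ⟨ξ, hξ⟩ := nonempty_of_isPBlock hM he
  obtain ⟨χ, hχ⟩ := nonempty_of_isPBlock hM hB
  exact isInducedBlock_of_brRel hM hP hPC le_rfl hHN he hξ hB hχ
    ((brRel_iff_mem hM hP le_rfl hHN ξ hB hχ).2 ((isBrauerPairOf_iff hM hB P hP he).1 h ξ hξ))

omit [Fact p.Prime] in
/-- A character is constant on the cosets of a normal subgroup in its kernel. -/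
theorem apply_mul_of_trivial {N : Subgroup G} [N.Normal] {χ : IrrCharacter G}
    (h : ∀ n ∈ N, (χ : G → ℂ) n = (χ : G → ℂ) 1) {n : G} (hn : n ∈ N) (g : G) :
    (χ : G → ℂ) (g * n) = (χ : G → ℂ) g := by
  obtain ⟨φ, -, hφ⟩ := Char.exists_deflate_irr N χ.2 h
  have e : ((g * n : G) : G ⧸ N) = (g : G ⧸ N) := by
    rw [QuotientGroup.eq]
    simp only [mul_inv_rev, inv_mul_cancel_right]
    exact N.inv_mem hn
  rw [← hφ]
  rw [e, hφ]

include hM in
/-- The principal block is trivial on normal subgroups of order prime to `p`. -/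
theorem principal_trivial_on {N : Subgroup G} [N.Normal] (hN : ¬ p ∣ Nat.card N)
    {χ : IrrCharacter G} (hχ : χ ∈ principalBlock M G) :
    ∀ n ∈ N, (χ : G → ℂ) n = (χ : G → ℂ) 1 := by
  classical
  haveI := Fintype.ofFinite N
  set f : G → ℂ := fun g => if g ∈ N then (Nat.card N : ℂ)⁻¹ else 0 with hf
  have hfc : IsClassFunction G f := fun g x => by
    have : x * g * x⁻¹ ∈ N ↔ g ∈ N :=
      ⟨fun h => by simpa [mul_assoc] using Subgroup.Normal.conj_mem ‹N.Normal› _ h x⁻¹,
        fun h => Subgroup.Normal.conj_mem ‹N.Normal› _ h x⟩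
    simp only [hf, this]
  have hfint : VInt hM (vec f) := fun g => by
    rw [zc_vec hfc]
    simp only [hf]
    split_ifs
    · exact inv_natCast_mem_locRing hM hN
    · exact zero_mem _
  have hval : ∀ ψ : IrrCharacter G,
      vec f ψ = (Nat.card N : ℂ)⁻¹ * (∑ᶠ q : N, (ψ : G → ℂ) q) / (ψ : G → ℂ) 1 := fun ψ => by
    simp only [vec, hf, finsum_eq_sum_of_fintype, ite_mul, zero_mul, ← Finset.sum_filter,
      ← Finset.mul_sum]
    congr 2
    exact Finset.sum_subtype _ (by simp) _
  have h1 : vec f (trivChar G) = 1 := by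
    rw [hval, finsum_eq_sum_of_fintype]
    simp [trivChar_coe, Finset.sum_const, Nat.card_eq_fintype_card]
  have hsum : ∑ᶠ q : N, (χ : G → ℂ) q ≠ 0 := by
    intro h0
    have h := apply_sub_apply_mem hM hfint
      (sameBlock_of_mem hM isPBlock_principal (trivChar_mem_principal hM) hχ)
    rw [h1, hval, h0, mul_zero, zero_div, sub_zero] at h
    exact not_memLocalIdeal_one hM h
  obtain ⟨ψ, hψ, hne⟩ := exists_trivial_on_of_classInner_ne (Q := N) χ.2.isClassFunction hsum
  have : χ = ψ := Subtype.ext (by
    by_contra hcon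
    exact hne (Char.classInner_irr_ne χ.2 ψ.2 hcon))
  rw [this]
  exact hψ

include hM in
/-- In a group with a normal `p`-complement the regular elements form that complement. -/
theorem mem_iff_isPRegular {N : Subgroup G} [N.Normal] (hN : ¬ p ∣ Nat.card N)
    (hidx : ∃ k : ℕ, N.index = p ^ k) (g : G) : g ∈ N ↔ IsPRegular p g := by
  constructor
  · intro hg h
    refine hN (h.trans ?_)
    have := orderOf_dvd_natCard (⟨g, hg⟩ : N)
    rwa [Subgroup.orderOf_mk] at this
  · intro hg
    obtain ⟨k, hk⟩ := hidx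
    have h1 : orderOf (g : G ⧸ N) ∣ p ^ k := hk ▸ orderOf_dvd_natCard _
    have h2 : orderOf (g : G ⧸ N) ∣ orderOf g := orderOf_map_dvd (QuotientGroup.mk' N) g
    obtain ⟨j, -, hj⟩ := (Nat.dvd_prime_pow hM.1).1 h1
    rcases Nat.eq_zero_or_pos j with rfl | hj0
    · rw [pow_zero, orderOf_eq_one_iff] at hj
      exact (QuotientGroup.eq_one_iff g).1 hj
    · exact absurd ((dvd_pow_self p hj0.ne').trans (hj ▸ h2)) hg

include hM in
/-- The principal block of a group with a normal `p`-complement. -/
theorem principalBlock_eq_of_complement {N : Subgroup G} [N.Normal] (hN : ¬ p ∣ Nat.card N)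
    (hidx : ∃ k : ℕ, N.index = p ^ k) :
    principalBlock M G = {χ : IrrCharacter G | ∀ n ∈ N, (χ : G → ℂ) n = (χ : G → ℂ) 1} := by
  classical
  refine Set.Subset.antisymm (fun χ hχ => principal_trivial_on hM hN hχ) fun χ hχ => ?_
  by_contra hn
  have h0 : regInner p ((trivChar G : IrrCharacter G) : G → ℂ) (χ : G → ℂ) = 0 :=
    regInner_eq_zero hM (vInt_indVec hM isPBlock_principal) (trivChar_mem_principal hM) hn
  simp only [regInner, classInner, pRegularPart, trivChar_coe, ite_mul, one_mul, zero_mul,
    ← Finset.sum_filter] at h0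
  rw [Finset.sum_congr rfl (fun g (hg : g ∈ Finset.univ.filter fun g => IsPRegular p g) => by
    rw [hχ g ((mem_iff_isPRegular hM hN hidx g).2 (Finset.mem_filter.1 hg).2)]),
    Finset.sum_const, nsmul_eq_mul, mul_eq_zero, mul_eq_zero, Nat.cast_eq_zero,
    conj_apply_one] at h0
  rcases h0 with h | h | h
  · exact inv_ne_zero Char.card_cast_ne_zero h
  · rw [Finset.card_eq_zero, Finset.filter_eq_empty_iff] at h
    exact h (Finset.mem_univ 1) (by simp [IsPRegular, hM.1.ne_one])
  · exact χ.2.apply_one_ne_zero h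

section Section

variable {H : Subgroup G} [Fintype H] {u : G}

include hM in
open Classical in
/-- The orthogonality relation of a block at a subsection. -/
theorem sum_block_mul_conj (hu : ∃ k : ℕ, orderOf u = p ^ k)
    (hHu : ∀ h : H, Commute u (h : G)) (hCH : Subgroup.centralizer ({u} : Set G) ≤ H)
    {B : Set (IrrCharacter G)} (hB : IsPBlock M B) {y y' : H} (hy : IsPRegular p y)
    (hy' : IsPRegular p y') :
    ∑ χ ∈ B.toFinset, (χ : G → ℂ) (u * (y : G)) * conj ((χ : G → ℂ) (u * (y' : G))) =
      regKer (indSet M H B) y y' := by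
  have h := sum_blockPart_mul_conj hM hu hHu hCH (vInt_indSet hM (H := H) B)
    (vInt_indSet hM (H := H) B) hy hy'
  rw [Set.inter_self] at h
  rw [← h]
  simp only [blockPart_indSet hM hu hHu hCH hB _ hy, blockPart_indSet hM hu hHu hCH hB _ hy']
  rw [← Finset.sum_filter_add_sum_filter_not Finset.univ (fun χ => χ ∈ B),
    Finset.sum_eq_zero (s := Finset.univ.filter fun χ => ¬ χ ∈ B), add_zero]
  · refine Finset.sum_congr (by ext; simp) fun χ hχ => ?_
    have hmem : χ ∈ B := (Finset.mem_filter.1 hχ).2
    rw [if_pos hmem, if_pos hmem]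
  · intro χ hχ
    rw [if_neg (Finset.mem_filter.1 hχ).2, zero_mul]

include hM in
open Classical in
/-- The orthogonality relation of one block of the subgroup. -/
theorem sum_blockPart_mul_conj_block (hu : ∃ k : ℕ, orderOf u = p ^ k)
    (hHu : ∀ h : H, Commute u (h : G)) (hCH : Subgroup.centralizer ({u} : Set G) ≤ H)
    {b : Set (IrrCharacter H)} {B : Set (IrrCharacter G)} (hind : IsInducedBlock M H b B)
    {y y' : H} (hy : IsPRegular p y) (hy' : IsPRegular p y') :
    ∑ χ ∈ B.toFinset, blockPart b (secFn u H (χ : G → ℂ)) y *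
        conj (blockPart b (secFn u H (χ : G → ℂ)) y') = regKer b y y' := by
  have h := sum_blockPart_mul_conj hM hu hHu hCH (vInt_indVec hM hind.1)
    (vInt_indVec hM hind.1) hy hy'
  rw [Set.inter_self] at h
  rw [← h]
  refine Finset.sum_subset (Finset.subset_univ _) fun χ _ hχ => ?_
  rw [blockPart_secFn_eq_zero hM hu hHu hCH hind (fun h' => hχ (Set.mem_toFinset.2 h')) hy,
    zero_mul]

include hM in
theorem indSet_principal (hu : ∃ k : ℕ, orderOf u = p ^ k)
    (hHu : ∀ h : H, Commute u (h : G)) (hCH : Subgroup.centralizer ({u} : Set G) ≤ H) :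
    indSet M H (principalBlock M G) = principalBlock M H := by
  ext η
  have hdef : InducedBlockDefined M H (blockOf M (η : H → ℂ)) :=
    exists_isInducedBlock_of_centralizer hM hu hHu hCH (isPBlock_blockOf η)
  show IsInducedBlock M H (blockOf M (η : H → ℂ)) (principalBlock M G) ↔ _
  rw [isInducedBlock_principal_iff hM hdef]
  exact ⟨fun h => h ▸ self_mem_blockOf hM η,
    fun h => (eq_blockOf_of_mem hM isPBlock_principal h).symm⟩

include hM in
/-- Each regular point of a block contributes its rank. -/
theorem sum_reg_regKer {b : Set (IrrCharacter H)} (hb : VInt hM (indVec b)) :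
    ∑ᶠ y : H, pRegularPart p (fun y : H => regKer b y y) y =
      (Nat.card H : ℂ) * (blockRank p b : ℂ) := by
  classical
  rw [card_mul_blockRank hM hb, finsum_eq_sum_of_fintype]
  refine Finset.sum_congr rfl fun y _ => ?_
  rw [finsum_mem_eq_toFinset_sum]
  by_cases hy : IsPRegular p y
  · rw [pRegularPart_of_reg hy, regKer]
    exact Finset.sum_congr rfl fun χ _ => by rw [pRegularPart_of_reg hy]
  · rw [pRegularPart_of_sing hy]
    exact (Finset.sum_eq_zero fun χ _ => by rw [pRegularPart_of_sing hy, zero_mul]).symm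

end Section

end Cfsg.Lib.Block
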