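import Cfsg.Agent.Lib.Block.Cartan

/-!
# The bound of Brauer and Feit
-/

set_option autoImplicit false
set_option linter.unusedSectionVars false

namespace Cfsg.Lib.Block

open Cfsg
open scoped ComplexConjugate

universe u

variable {p : ℕ} {M : Ideal AlgInt} {G : Type u} [Group G] [Fintype G] [Fact p.Prime]
  (hM : IsPModular p M)

/-- The data carried by an integer form of `regN`. -/
structure IsRegForm (p : ℕ) [Fact p.Prime] (B : Set (IrrCharacter G))
    (m : IrrCharacter G → IrrCharacter G → ℤ) : Prop where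
  eq : ∀ χ ∈ B, ∀ η ∈ B, regN p B χ η = (m χ η : ℂ)
  symm : ∀ χ ∈ B, ∀ η ∈ B, m η χ = m χ η
  dvd : ∀ χ ∈ B, ∀ η ∈ B, (p : ℤ) ^ blockHeight p B (η : G → ℂ) ∣ m χ η
  dvd_succ : ∀ χ ∈ B, ∀ η ∈ B, 0 < blockHeight p B (χ : G → ℂ) →
    (p : ℤ) ^ (blockHeight p B (η : G → ℂ) + 1) ∣ m χ η
  not_dvd : ∀ χ ∈ B, ∀ η ∈ B, blockHeight p B (χ : G → ℂ) = 0 →
    ¬ (p : ℤ) ^ (blockHeight p B (η : G → ℂ) + 1) ∣ m χ η

include hM in
theorem exists_regForm {B : Set (IrrCharacter G)} (hB : IsPBlock M B) :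
    ∃ m : IrrCharacter G → IrrCharacter G → ℤ, IsRegForm p B m := by
  classical
  have h : ∀ χ η : IrrCharacter G, ∃ k : ℤ, χ ∈ B → η ∈ B →
      regN p B χ η = (k : ℂ) ∧ (p : ℤ) ^ blockHeight p B (η : G → ℂ) ∣ k ∧
      (0 < blockHeight p B (χ : G → ℂ) → (p : ℤ) ^ (blockHeight p B (η : G → ℂ) + 1) ∣ k) ∧
      (blockHeight p B (χ : G → ℂ) = 0 →
        ¬ (p : ℤ) ^ (blockHeight p B (η : G → ℂ) + 1) ∣ k) := by
    intro χ η
    by_cases hc : χ ∈ B ∧ η ∈ B
    · obtain ⟨n, hn, hpos, hzero⟩ := exists_int_regN hM hB hc.1 hc.2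
      refine ⟨n * (p : ℤ) ^ blockHeight p B (η : G → ℂ), fun _ _ => ⟨?_, dvd_mul_left _ _, ?_, ?_⟩⟩
      · rw [hn]; push_cast; rfl
      · intro h
        rw [pow_succ']
        exact mul_dvd_mul_right (hpos h) _
      · intro h h'
        rw [pow_succ'] at h'
        exact hzero h ((mul_dvd_mul_iff_right
          (pow_ne_zero _ (by exact_mod_cast (Fact.out : p.Prime).ne_zero))).1 h')
    · exact ⟨0, fun a b => absurd ⟨a, b⟩ hc⟩
  choose m hm using h
  refine ⟨m, fun χ a η b => (hm χ η a b).1, fun χ a η b => ?_, fun χ a η b => (hm χ η a b).2.1,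
    fun χ a η b => (hm χ η a b).2.2.1, fun χ a η b => (hm χ η a b).2.2.2⟩
  have := regN_symm (p := p) B χ η
  rw [(hm η χ b a).1, (hm χ η a b).1] at this
  exact_mod_cast this

variable {B : Set (IrrCharacter G)} {m : IrrCharacter G → IrrCharacter G → ℤ}

open Classical in
include hM in
theorem IsRegForm.row_sq (hm : IsRegForm p B m) (hB : IsPBlock M B) {χ : IrrCharacter G}
    (hχ : χ ∈ B) :
    ∑ η ∈ B.toFinset, m χ η ^ 2 = (p : ℤ) ^ blockDefect p B * m χ χ := by
  have h := sum_regInner_mul hM (vInt_indVec hM hB) (η := χ) hχ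
  have h2 : ((∑ η ∈ B.toFinset, m χ η ^ 2 : ℤ) : ℂ) =
      (((p : ℤ) ^ blockDefect p B * m χ χ : ℤ) : ℂ) := by
    push_cast
    rw [← hm.eq χ hχ χ hχ]
    have e : ∀ η ∈ B.toFinset, (m χ η : ℂ) ^ 2 = regN p B χ η * regN p B η χ := fun η hη => by
      rw [hm.eq χ hχ η (Set.mem_toFinset.1 hη), hm.eq η (Set.mem_toFinset.1 hη) χ hχ,
        hm.symm χ hχ η (Set.mem_toFinset.1 hη), sq]
    rw [Finset.sum_congr rfl e, regN, ← h, Finset.mul_sum, Finset.mul_sum]
    refine Finset.sum_congr rfl fun η _ => ?_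
    simp only [regN]
    push_cast
    ring
  exact_mod_cast h2

open Classical in
include hM in
theorem IsRegForm.offdiag (hm : IsRegForm p B m) (hB : IsPBlock M B) {χ : IrrCharacter G}
    (hχ : χ ∈ B) :
    4 * ∑ η ∈ B.toFinset.erase χ, m χ η ^ 2 ≤ (p : ℤ) ^ (2 * blockDefect p B) := by
  have h := hm.row_sq hM hB hχ
  rw [← Finset.add_sum_erase _ _ (Set.mem_toFinset.2 hχ)] at h
  rw [mul_comm 2, pow_mul]
  nlinarith [sq_nonneg ((p : ℤ) ^ blockDefect p B - 2 * m χ χ), h]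

theorem sq_le_of_dvd {a k : ℤ} (h : a ∣ k) (hk : k ≠ 0) : a ^ 2 ≤ k ^ 2 := by
  obtain ⟨c, rfl⟩ := h
  have hc : c ≠ 0 := fun h => hk (by simp [h])
  have : 1 ≤ c ^ 2 := by
    have := Int.one_le_abs hc
    nlinarith [sq_abs c]
  rw [mul_pow]
  nlinarith [sq_nonneg a]

open Classical in
include hM in
/-- The height zero row bound. -/
theorem IsRegForm.height_zero_row (hm : IsRegForm p B m) (hB : IsPBlock M B) {χ : IrrCharacter G}
    (hχ : χ ∈ B) (h0 : blockHeight p B (χ : G → ℂ) = 0) :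
    4 * ∑ η ∈ B.toFinset, p ^ (2 * blockHeight p B (η : G → ℂ)) ≤
      p ^ (2 * blockDefect p B) + 4 := by
  have h := hm.offdiag hM hB hχ
  have hle : ∀ η ∈ B.toFinset.erase χ,
      ((p ^ (2 * blockHeight p B (η : G → ℂ)) : ℕ) : ℤ) ≤ m χ η ^ 2 := by
    intro η hη
    have hηB := Set.mem_toFinset.1 (Finset.mem_of_mem_erase hη)
    have hne : m χ η ≠ 0 := fun he => hm.not_dvd χ hχ η hηB h0 (he ▸ dvd_zero _)
    rw [mul_comm 2, pow_mul, Nat.cast_pow, Nat.cast_pow]
    exact sq_le_of_dvd (hm.dvd χ hχ η hηB) hne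
  have h2 := Finset.sum_le_sum hle
  rw [← Nat.cast_sum] at h2
  rw [← Finset.add_sum_erase _ _ (Set.mem_toFinset.2 hχ), h0, mul_zero, pow_zero]
  have h3 : (4 * (∑ η ∈ B.toFinset.erase χ, p ^ (2 * blockHeight p B (η : G → ℂ))) : ℕ) ≤
      p ^ (2 * blockDefect p B) := by
    have : ((4 * (∑ η ∈ B.toFinset.erase χ, p ^ (2 * blockHeight p B (η : G → ℂ))) : ℕ) : ℤ) ≤
        ((p ^ (2 * blockDefect p B) : ℕ) : ℤ) := by
      rw [Nat.cast_mul, Nat.cast_pow]
      push_cast at h2 ⊢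
      linarith
    exact_mod_cast this
  omega

include hM in
theorem IsRegForm.diag_pos (hm : IsRegForm p B m) (hB : IsPBlock M B) {χ : IrrCharacter G}
    (hχ : χ ∈ B) : 0 < m χ χ := by
  classical
  obtain ⟨η, hη, hmin⟩ := exists_minVal (p := p) (nonempty_of_isPBlock hM hB)
  have h0 := (blockHeight_eq_zero_iff hη).2 hmin
  have hne : m χ η ≠ 0 := fun he => hm.not_dvd η hη χ hχ h0 (by
    rw [hm.symm χ hχ η hη, he]; exact dvd_zero _)
  have h := hm.row_sq hM hB hχ
  have h1 : m χ η ^ 2 ≤ ∑ ψ ∈ B.toFinset, m χ ψ ^ 2 :=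
    Finset.single_le_sum (f := fun ψ => m χ ψ ^ 2) (fun _ _ => sq_nonneg _)
      (Set.mem_toFinset.2 hη)
  have h2 : 0 < m χ η ^ 2 := pow_two_pos_of_ne_zero hne
  by_contra hle
  have h3 : (p : ℤ) ^ blockDefect p B * m χ χ ≤ 0 :=
    mul_nonpos_of_nonneg_of_nonpos (by positivity) (not_lt.1 hle)
  omega

include hM in
/-- Heights are at most `d - 2` when positive. -/
theorem IsRegForm.height_add_two_le (hm : IsRegForm p B m) (hB : IsPBlock M B)
    {χ : IrrCharacter G} (hχ : χ ∈ B) (hpos : 0 < blockHeight p B (χ : G → ℂ)) :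
    blockHeight p B (χ : G → ℂ) + 2 ≤ blockDefect p B := by
  classical
  obtain ⟨η, hη, hmin⟩ := exists_minVal (p := p) (nonempty_of_isPBlock hM hB)
  have h0 := (blockHeight_eq_zero_iff hη).2 hmin
  have hneq : η ≠ χ := fun h => by rw [h] at h0; omega
  have hne : m χ η ≠ 0 := fun he => hm.not_dvd η hη χ hχ h0 (by
    rw [hm.symm χ hχ η hη, he]; exact dvd_zero _)
  have hn := hm.diag_pos hM hB hχ
  have h := hm.row_sq hM hB hχ
  rw [← Finset.add_sum_erase _ _ (Set.mem_toFinset.2 hχ)] at h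
  have h1 : m χ η ^ 2 ≤ ∑ ψ ∈ B.toFinset.erase χ, m χ ψ ^ 2 :=
    Finset.single_le_sum (f := fun ψ => m χ ψ ^ 2) (fun _ _ => sq_nonneg _)
      (Finset.mem_erase.2 ⟨hneq, Set.mem_toFinset.2 hη⟩)
  have h2 : 0 < m χ η ^ 2 := pow_two_pos_of_ne_zero hne
  have hlt : m χ χ < (p : ℤ) ^ blockDefect p B := by
    by_contra hge
    have := mul_le_mul_of_nonneg_right (not_lt.1 hge) hn.le
    nlinarith
  have hle : (p : ℤ) ^ (blockHeight p B (χ : G → ℂ) + 1) ≤ m χ χ :=
    Int.le_of_dvd hn (hm.dvd_succ χ hχ χ hχ hpos)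
  have hlt' : p ^ (blockHeight p B (χ : G → ℂ) + 1) < p ^ blockDefect p B := by
    exact_mod_cast hle.trans_lt hlt
  have := (Nat.pow_lt_pow_iff_right (Fact.out : p.Prime).one_lt).1 hlt'
  omega

open Classical in
include hM in
/-- The bound on the height zero characters from a positive height row. -/
theorem IsRegForm.height_pos_row (hm : IsRegForm p B m) (hB : IsPBlock M B)
    {χ : IrrCharacter G} (hχ : χ ∈ B) (hpos : 0 < blockHeight p B (χ : G → ℂ)) :
    4 * (B.toFinset.filter fun η : IrrCharacter G => blockHeight p B (η : G → ℂ) = 0).card * p ^ 2 ≤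
      p ^ (2 * blockDefect p B) := by
  set T := B.toFinset.filter fun η : IrrCharacter G => blockHeight p B (η : G → ℂ) = 0
  have h := hm.offdiag hM hB hχ
  have hsub : T ⊆ B.toFinset.erase χ := fun η hη => by
    obtain ⟨h1, h2⟩ := Finset.mem_filter.1 hη
    exact Finset.mem_erase.2 ⟨fun e => by rw [e] at h2; omega, h1⟩
  have hle : ∀ η ∈ T, ((p : ℤ) ^ 2) ≤ m χ η ^ 2 := by
    intro η hη
    obtain ⟨h1, h2⟩ := Finset.mem_filter.1 hη
    have hηB := Set.mem_toFinset.1 h1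
    have hne : m χ η ≠ 0 := fun he => hm.not_dvd η hηB χ hχ h2 (by
      rw [hm.symm χ hχ η hηB, he]; exact dvd_zero _)
    have hd := hm.dvd η hηB χ hχ
    rw [hm.symm χ hχ η hηB] at hd
    exact sq_le_of_dvd ((dvd_pow_self _ hpos.ne').trans hd) hne
  have h2 := Finset.sum_le_sum hle
  rw [Finset.sum_const, nsmul_eq_mul] at h2
  have h3 : ∑ η ∈ T, m χ η ^ 2 ≤ ∑ η ∈ B.toFinset.erase χ, m χ η ^ 2 :=
    Finset.sum_le_sum_of_subset_of_nonneg hsub fun _ _ _ => sq_nonneg _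
  have : ((4 * T.card * p ^ 2 : ℕ) : ℤ) ≤ ((p ^ (2 * blockDefect p B) : ℕ) : ℤ) := by
    push_cast
    linarith
  exact_mod_cast this

open Classical in
include hM in
theorem sum_pow_height_le (hB : IsPBlock M B) :
    4 * ∑ η ∈ B.toFinset, p ^ (2 * blockHeight p B (η : G → ℂ)) ≤
      p ^ (2 * blockDefect p B) + 4 := by
  obtain ⟨m, hm⟩ := exists_regForm hM hB
  obtain ⟨χ, hχ, hmin⟩ := exists_minVal (p := p) (nonempty_of_isPBlock hM hB)
  exact hm.height_zero_row hM hB hχ ((blockHeight_eq_zero_iff hχ).2 hmin)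

open Classical in
include hM in
/-- The bound of Brauer and Feit on the number of characters in a block. -/
theorem card_block_le (hB : IsPBlock M B) :
    4 * Nat.card B ≤ p ^ (2 * blockDefect p B) + 4 := by
  refine le_trans ?_ (sum_pow_height_le hM hB)
  rw [Nat.card_eq_card_toFinset, Finset.card_eq_sum_ones]
  exact Nat.mul_le_mul_left 4 (Finset.sum_le_sum fun η _ =>
    Nat.one_le_pow _ _ (Fact.out : p.Prime).pos)

include hM in
theorem height_le_defect_sub_two (hB : IsPBlock M B) {χ : IrrCharacter G} (hχ : χ ∈ B) :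
    blockHeight p B (χ : G → ℂ) = 0 ∨
      blockHeight p B (χ : G → ℂ) + 2 ≤ blockDefect p B := by
  obtain ⟨m, hm⟩ := exists_regForm hM hB
  rcases Nat.eq_zero_or_pos (blockHeight p B (χ : G → ℂ)) with h | h
  · exact Or.inl h
  · exact Or.inr (hm.height_add_two_le hM hB hχ h)

open Classical in
include hM in
/-- The count when some height is positive. -/
theorem two_mul_card_block_le (hB : IsPBlock M B) {χ : IrrCharacter G} (hχ : χ ∈ B)
    (hpos : 0 < blockHeight p B (χ : G → ℂ)) :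
    2 * Nat.card B ≤ p ^ (2 * blockDefect p B - 2) := by
  obtain ⟨m, hm⟩ := exists_regForm hM hB
  obtain ⟨η, hη, hmin⟩ := exists_minVal (p := p) (nonempty_of_isPBlock hM hB)
  have h0 := (blockHeight_eq_zero_iff hη).2 hmin
  have hA := hm.height_zero_row hM hB hη h0
  have hC := hm.height_pos_row hM hB hχ hpos
  have hd := hm.height_add_two_le hM hB hχ hpos
  set T := B.toFinset.filter fun η : IrrCharacter G => blockHeight p B (η : G → ℂ) = 0
  set U := B.toFinset.filter fun η : IrrCharacter G => ¬ blockHeight p B (η : G → ℂ) = 0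
  have hT1 : 1 ≤ T.card := Finset.card_pos.2 ⟨η, Finset.mem_filter.2 ⟨Set.mem_toFinset.2 hη, h0⟩⟩
  have hsum : T.card + U.card * p ^ 2 ≤
      ∑ η ∈ B.toFinset, p ^ (2 * blockHeight p B (η : G → ℂ)) := by
    rw [← Finset.sum_filter_add_sum_filter_not B.toFinset
      (fun η : IrrCharacter G => blockHeight p B (η : G → ℂ) = 0)]
    refine add_le_add ?_ ?_
    · rw [Finset.card_eq_sum_ones]
      exact Finset.sum_le_sum fun η _ => Nat.one_le_pow _ _ (Fact.out : p.Prime).pos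
    · rw [← smul_eq_mul, ← Finset.sum_const]
      exact Finset.sum_le_sum fun η hη => Nat.pow_le_pow_right (Fact.out : p.Prime).pos (by
        have := (Finset.mem_filter.1 hη).2; omega)
  have hcard : Nat.card B = T.card + U.card := by
    rw [Nat.card_eq_card_toFinset, Finset.card_filter_add_card_filter_not]
  have hpd : p ^ (2 * blockDefect p B) = p ^ (2 * blockDefect p B - 2) * p ^ 2 := by
    rw [← pow_add]; congr 1; omega
  have hp2 : 0 < p ^ 2 := pow_pos (Fact.out : p.Prime).pos 2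
  rw [hcard]
  refine Nat.le_of_mul_le_mul_right (c := p ^ 2) ?_ hp2
  rw [← hpd]
  nlinarith

end Cfsg.Lib.Block
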