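import Cfsg.Agent.Lib.Block.Cartan
import Cfsg.Agent.Lib.Block.BrauerFeit
import Mathlib.LinearAlgebra.Trace
import Mathlib.LinearAlgebra.Matrix.ToLin

/-!
# The regular rank of a block as a trace

The regular inner products of the members of a block form an idempotent matrix, whose range is
the span of the regular parts; so the rank of the block is the trace of that matrix.
-/

set_option autoImplicit false
set_option linter.unusedSectionVars false
set_option maxHeartbeats 400000

namespace Cfsg.Lib.Block

open Cfsg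
open scoped ComplexConjugate

universe u

variable {p : ℕ} {M : Ideal AlgInt} {G : Type u} [Group G] [Fintype G] [Fact p.Prime]
  (hM : IsPModular p M) {B : Set (IrrCharacter G)}

open Classical in
include hM in
/-- The rank of a union of blocks is the sum of the diagonal regular inner products. -/
theorem blockRank_eq_sum_regInner (hB : VInt hM (indVec B)) :
    (blockRank p B : ℂ) = ∑ χ ∈ B.toFinset, regInner p (χ : G → ℂ) (χ : G → ℂ) := by
  set N : Matrix B.toFinset B.toFinset ℂ :=
    Matrix.of fun η χ => regInner p ((χ : IrrCharacter G) : G → ℂ) ((η : IrrCharacter G) : G → ℂ)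
    with hN
  set ι : (B.toFinset → ℂ) →ₗ[ℂ] (G → ℂ) :=
    Fintype.linearCombination ℂ (fun χ : B.toFinset => ((χ : IrrCharacter G) : G → ℂ)) with hι
  have hinj : Function.Injective ι :=
    (linearIndependent_iff_injective_fintypeLinearCombination.1
      ((Char.linearIndependent_irr (G := G)).comp _ Subtype.val_injective))
  have hcol : ∀ χ : B.toFinset, ι (N.mulVecLin (Pi.single χ 1)) =
      pRegularPart p ((χ : IrrCharacter G) : G → ℂ) := by
    intro χ
    rw [regPart_expand hM hB (Set.mem_toFinset.1 χ.2), ← Finset.sum_coe_sort, hι,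
      Fintype.linearCombination_apply]
    refine Finset.sum_congr rfl fun η _ => ?_
    rw [Matrix.mulVecLin_apply, Matrix.mulVec_single_one]
    rfl
  have hrange : (LinearMap.range N.mulVecLin).map ι = Submodule.span ℂ
      ((fun χ : IrrCharacter G => pRegularPart p (χ : G → ℂ)) '' B) := by
    rw [← LinearMap.range_comp]
    have e : Set.range (fun χ : B.toFinset => (ι ∘ₗ N.mulVecLin) (Pi.single χ 1)) =
        (fun χ : IrrCharacter G => pRegularPart p (χ : G → ℂ)) '' B := by
      ext f
      simp only [Set.mem_range, Set.mem_image, LinearMap.comp_apply, hcol]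
      exact ⟨fun ⟨χ, h⟩ => ⟨χ, Set.mem_toFinset.1 χ.2, h⟩,
        fun ⟨χ, hχ, h⟩ => ⟨⟨χ, Set.mem_toFinset.2 hχ⟩, h⟩⟩
    rw [← e]
    refine le_antisymm ?_ (Submodule.span_le.2 ?_)
    · rintro _ ⟨v, rfl⟩
      rw [pi_eq_sum_univ' v]
      simp only [map_sum, map_smul]
      exact Submodule.sum_mem _ fun χ _ => Submodule.smul_mem _ _ (Submodule.subset_span ⟨χ, rfl⟩)
    · rintro _ ⟨χ, rfl⟩
      exact ⟨_, rfl⟩
  have hrank : blockRank p B = Module.finrank ℂ (LinearMap.range N.mulVecLin) := by
    rw [blockRank, ← hrange]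
    exact ((LinearMap.range N.mulVecLin).equivMapOfInjective ι hinj).finrank_eq.symm
  have hidem : ∀ v, N.mulVec (N.mulVec v) = N.mulVec v := by
    intro v
    rw [Matrix.mulVec_mulVec]
    congr 1
    ext η χ
    simp only [hN, Matrix.mul_apply, Matrix.of_apply]
    rw [← sum_regInner_mul hM hB (Set.mem_toFinset.1 χ.2), ← Finset.sum_coe_sort B.toFinset]
    exact Finset.sum_congr rfl fun ψ _ => mul_comm _ _
  have hproj : LinearMap.IsProj (LinearMap.range N.mulVecLin) N.mulVecLin :=
    { map_mem := fun x => LinearMap.mem_range_self _ x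
      map_id := by
        rintro _ ⟨v, rfl⟩
        exact hidem v }
  have htr := hproj.trace
  rw [← Matrix.toLin'_apply', Matrix.trace_toLin'_eq] at htr
  rw [hrank, ← Matrix.toLin'_apply', ← htr, Matrix.trace, ← Finset.sum_coe_sort B.toFinset]
  rfl

include hM in
/-- The order of the group times the rank. -/
theorem card_mul_blockRank (hB : VInt hM (indVec B)) :
    (Nat.card G : ℂ) * (blockRank p B : ℂ) =
      ∑ x : G, ∑ᶠ χ ∈ B, pRegularPart p (χ : G → ℂ) x * conj ((χ : G → ℂ) x) := by
  classical
  rw [blockRank_eq_sum_regInner hM hB, Finset.mul_sum]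
  simp only [finsum_mem_eq_toFinset_sum]
  rw [Finset.sum_comm]
  refine Finset.sum_congr rfl fun χ _ => ?_
  rw [regInner, classInner, mul_inv_cancel_left₀ Char.card_cast_ne_zero]

theorem blockRank_le_card (B : Set (IrrCharacter G)) : blockRank p B ≤ Nat.card B := by
  classical
  have e : ((fun χ : IrrCharacter G => pRegularPart p (χ : G → ℂ)) '' B) =
      ↑(B.toFinset.image fun χ : IrrCharacter G => pRegularPart p (χ : G → ℂ)) := by simp
  rw [blockRank, e]
  refine (finrank_span_finset_le_card _).trans (Finset.card_image_le.trans ?_)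
  rw [Set.toFinset_card, Nat.card_eq_fintype_card]

include hM in
theorem blockRank_pos (hB : IsPBlock M B) : 0 < blockRank p B := by
  obtain ⟨χ, hχ⟩ := nonempty_of_isPBlock hM hB
  rw [blockRank]
  refine Submodule.one_le_finrank_iff.2 fun h => χ.2.apply_one_ne_zero ?_
  have hm : pRegularPart p (χ : G → ℂ) ∈ Submodule.span ℂ
      ((fun χ : IrrCharacter G => pRegularPart p (χ : G → ℂ)) '' B) :=
    Submodule.subset_span ⟨χ, hχ, rfl⟩
  rw [h, Submodule.mem_bot] at hm
  have h1 : IsPRegular p (1 : G) := by simp [IsPRegular, (Fact.out : p.Prime).ne_one]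
  simpa [pRegularPart_of_reg h1] using congrFun hm 1

omit [Fact p.Prime] in
theorem regInner_self_eq (χ : IrrCharacter G) :
    regInner p (χ : G → ℂ) (χ : G → ℂ) =
      (((Nat.card G : ℝ)⁻¹ * ∑ g : G, ‖pRegularPart p (χ : G → ℂ) g‖ ^ 2 : ℝ) : ℂ) := by
  rw [← Char.classInner_self, regInner]
  simp only [classInner]
  congr 1
  refine Finset.sum_congr rfl fun g _ => ?_
  by_cases hg : IsPRegular p g
  · rw [pRegularPart_of_reg hg]
  · simp [pRegularPart_of_sing hg]

omit [Fact p.Prime] in
theorem regInner_self_le_one (χ : IrrCharacter G) :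
    (regInner p (χ : G → ℂ) (χ : G → ℂ)).re ≤ 1 := by
  rw [regInner_self_eq, Complex.ofReal_re]
  have h1 : ((Nat.card G : ℝ)⁻¹ * ∑ g : G, ‖(χ : G → ℂ) g‖ ^ 2 : ℝ) = 1 := by
    have := Char.classInner_self (χ : G → ℂ)
    rw [Char.classInner_irr_self χ.2] at this
    exact_mod_cast this.symm
  rw [← h1]
  refine mul_le_mul_of_nonneg_left (Finset.sum_le_sum fun g _ => ?_) (inv_nonneg.2 (Nat.cast_nonneg _))
  by_cases hg : IsPRegular p g
  · rw [pRegularPart_of_reg hg]
  · rw [pRegularPart_of_sing hg, norm_zero, zero_pow two_ne_zero]; positivity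

include hM in
/-- Equality of the two counts forces defect zero. -/
theorem blockDefect_eq_zero_of_rank_eq_card (hB : IsPBlock M B)
    (h : blockRank p B = Nat.card B) : blockDefect p B = 0 := by
  classical
  have hsum := congrArg Complex.re (blockRank_eq_sum_regInner hM (vInt_indVec hM hB))
  rw [Complex.natCast_re, Complex.re_sum, h, Nat.card_eq_fintype_card, ← Set.toFinset_card] at hsum
  have hone : ∀ χ ∈ B.toFinset, (regInner p (χ : G → ℂ) (χ : G → ℂ)).re = 1 := by
    refine (Finset.sum_eq_sum_iff_of_le fun χ _ => regInner_self_le_one χ).1 ?_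
    rw [← hsum]; simp
  obtain ⟨χ, hχ, hmin⟩ := exists_minVal (p := p) (nonempty_of_isPBlock hM hB)
  have h0 : blockHeight p B (χ : G → ℂ) = 0 := (blockHeight_eq_zero_iff hχ).2 hmin
  obtain ⟨n, hn, -, hndvd⟩ := exists_int_regN hM hB hχ hχ
  have hre := hone χ (Set.mem_toFinset.2 hχ)
  rw [h0, pow_zero, Nat.cast_one, mul_one, regN, regInner_self_eq] at hn
  rw [regInner_self_eq, Complex.ofReal_re] at hre
  rw [hre, Complex.ofReal_one, mul_one] at hn
  have hn' : (n : ℤ) = (p : ℤ) ^ blockDefect p B := by exact_mod_cast hn.symm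
  by_contra hd
  exact hndvd h0 (hn' ▸ dvd_pow_self _ hd)

include hM in
/-- A block of defect zero has one character and rank one. -/
theorem card_eq_one_of_defect_zero (hB : IsPBlock M B) (hd : blockDefect p B = 0) :
    Nat.card B = 1 ∧ blockRank p B = 1 := by
  obtain ⟨χ, rfl, -⟩ := (blockDefect_eq_zero_iff hM hB).1 hd
  have h1 : Nat.card ({χ} : Set (IrrCharacter G)) = 1 := by simp
  exact ⟨h1, le_antisymm (h1 ▸ blockRank_le_card _) (blockRank_pos hM hB)⟩

end Cfsg.Lib.Block
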