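import Cfsg.Agent.Lib.Block.SectionCount
import Cfsg.Agent.Lib.Block.BlockTrace

/-!
# Central scalars and blocks with a central defect group

A central element acts on an irreducible character by a root of unity, and a block with a
central defect group has a single irreducible Brauer character.
-/

set_option autoImplicit false
set_option linter.unusedSectionVars false
set_option maxHeartbeats 400000

namespace Cfsg.Lib.Block

open Cfsg
open scoped ComplexConjugate

universe u

variable {G : Type u} [Group G] [Fintype G]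

/-- A central element acts by a root of unity. -/
theorem exists_central_scalar (χ : IrrCharacter G) {z : G} (hz : z ∈ Subgroup.center G) :
    ∃ c : ℂ, c ^ orderOf z = 1 ∧ ∀ g : G, (χ : G → ℂ) (z * g) = c * (χ : G → ℂ) g := by
  classical
  obtain ⟨n, ρ, hirr, hρ⟩ := χ.2
  haveI := hirr
  set f : G → ℂ := fun x => if x = z then 1 else 0 with hf
  have hfc : IsClassFunction G f := fun x k => by
    have : k * x * k⁻¹ = z ↔ x = z := by
      rw [mul_inv_eq_iff_eq_mul, ← Subgroup.mem_center_iff.1 hz k, mul_right_inj]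
    simp only [hf, this]
  have key := Char.averageOp_irreducible ρ hfc
  simp only [Char.averageOp, hf, ite_smul, one_smul, zero_smul, Finset.sum_ite_eq',
    Finset.mem_univ, if_true] at key
  generalize hc : ((∑ g, (if g = z then (1 : ℂ) else 0) * ρ.character g) /
    (Module.finrank ℂ (Fin n → ℂ) : ℂ)) = c at key
  have hg : ∀ g : G, (χ : G → ℂ) (z * g) = c * (χ : G → ℂ) g := fun g => by
    rw [← hρ]
    show LinearMap.trace ℂ _ (ρ (z * g)) = c * LinearMap.trace ℂ _ (ρ g)
    rw [map_mul, key, smul_mul_assoc, map_smul, smul_eq_mul]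
    rfl
  refine ⟨c, ?_, hg⟩
  have hpow : ∀ k : ℕ, (χ : G → ℂ) (z ^ k) = c ^ k * (χ : G → ℂ) 1 := by
    intro k
    induction k with
    | zero => simp
    | succ k ih => rw [pow_succ', hg, ih, pow_succ', mul_assoc]
  have h := hpow (orderOf z)
  rw [pow_orderOf_eq_one] at h
  exact (mul_eq_right₀ χ.2.apply_one_ne_zero).1 h.symm

theorem conj_mul_self_of_pow_eq_one {c : ℂ} {n : ℕ} (hn : n ≠ 0) (h : c ^ n = 1) :
    c * conj c = 1 := by
  rw [Complex.mul_conj', Complex.norm_eq_one_of_pow_eq_one h hn]; simp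

variable {p : ℕ} {M : Ideal AlgInt} [Fact p.Prime] (hM : IsPModular p M)

open Classical in
include hM in
/-- The diagonal regular inner products of a block with a central defect group. -/
theorem card_mul_regInner_of_central {B : Set (IrrCharacter G)} (hB : IsPBlock M B)
    {P : Subgroup G} (hD : IsDefectGroup p M B P) (hPZ : P ≤ Subgroup.center G)
    {χ : IrrCharacter G} (hχ : χ ∈ B) :
    (Nat.card P : ℂ) * regInner p (χ : G → ℂ) (χ : G → ℂ) = 1 := by
  have hmap : ∀ D : Subgroup G, IsDefectGroup p M (blockOf M (χ : G → ℂ)) D → D = P := by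
    intro D hD'
    rw [← eq_blockOf_of_mem hM hB hχ] at hD'
    obtain ⟨x, hx⟩ := exists_conj_defectGroup hM hB hD hD'
    rw [← hx]
    ext a
    simp only [Subgroup.mem_map, MulEquiv.coe_toMonoidHom, MulAut.conj_apply]
    constructor
    · rintro ⟨b, hb, rfl⟩
      rwa [Subgroup.mem_center_iff.1 (hPZ hb) x, mul_inv_cancel_right]
    · intro ha
      exact ⟨a, ha, by rw [Subgroup.mem_center_iff.1 (hPZ ha) x, mul_inv_cancel_right]⟩
  have hvan : ∀ g : G, pPt p g ∉ P → (χ : G → ℂ) g = 0 := fun g hg =>
    char_eq_zero_of_pPt_notMem hM χ fun D hD' => hmap D hD' ▸ hg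
  have hPp : IsPGroup p P := isPGroup_defectGroup hM hD
  set F : G → ℂ := fun g => (χ : G → ℂ) g * conj ((χ : G → ℂ) g) with hF
  set S : ℂ := ∑ g : G, if IsPRegular p g then F g else 0 with hS
  have hfib : ∀ z ∈ P, ∑ g ∈ Finset.univ.filter (fun g => pPt p g = z), F g = S := by
    intro z hz
    obtain ⟨c, hc, hcg⟩ := exists_central_scalar χ (hPZ hz)
    have hcc := conj_mul_self_of_pow_eq_one (orderOf_pos z).ne' hc
    obtain ⟨k, hk⟩ := IsPGroup.iff_orderOf.1 hPp ⟨z, hz⟩
    rw [Subgroup.orderOf_mk] at hk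
    rw [sum_pPt_eq (H := (⊤ : Subgroup G)) ⟨k, hk⟩
      (fun h => (Subgroup.mem_center_iff.1 (hPZ hz) h).symm) le_top F, hS]
    refine Fintype.sum_equiv Subgroup.topEquiv.toEquiv _ _ fun y => ?_
    simp only [MulEquiv.toEquiv_eq_coe, EquivLike.coe_coe, Subgroup.topEquiv_apply,
      IsPRegular, orderOf_submonoid, hF]
    split_ifs with h
    · rfl
    · rw [hcg, map_mul]
      linear_combination ((χ : G → ℂ) (y : G) * conj ((χ : G → ℂ) (y : G))) * hcc
  have htot : ∑ g, F g = (Nat.card G : ℂ) := by
    have := Char.classInner_irr_self χ.2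
    rw [classInner, inv_mul_eq_one₀ Char.card_cast_ne_zero] at this
    exact this.symm
  have hsum : ∑ g, F g = (Nat.card P : ℂ) * S := by
    rw [← Finset.sum_filter_add_sum_filter_not Finset.univ (fun g => pPt p g ∈ P),
      Finset.sum_eq_zero (s := Finset.univ.filter fun g => ¬ pPt p g ∈ P), add_zero,
      ← Finset.sum_fiberwise_of_maps_to (g := fun g => pPt p g) (t := (P : Set G).toFinset)
        (fun g hg => by simpa using (Finset.mem_filter.1 hg).2)]
    · rw [Finset.sum_congr rfl (fun z hz => ?_), Finset.sum_const, nsmul_eq_mul, Set.toFinset_card,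
        ← Nat.card_eq_fintype_card]
      · rfl
      · rw [← hfib z (by simpa using hz)]
        refine Finset.sum_congr ?_ fun _ _ => rfl
        ext g
        simp only [Finset.mem_filter, Finset.mem_univ, true_and]
        exact ⟨fun h => h.2, fun h => ⟨h ▸ (by simpa using hz), h⟩⟩
    · intro g hg
      simp only [hF, hvan g (Finset.mem_filter.1 hg).2, zero_mul]
  have hR : regInner p (χ : G → ℂ) (χ : G → ℂ) = (Nat.card G : ℂ)⁻¹ * S := by
    simp only [regInner, classInner, hS, hF]
    congr 1
    refine Finset.sum_congr rfl fun g _ => ?_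
    by_cases hg : IsPRegular p g
    · rw [pRegularPart_of_reg hg, if_pos hg]
    · rw [pRegularPart_of_sing hg, if_neg hg, zero_mul]
  rw [hR, mul_left_comm, ← hsum, htot, inv_mul_cancel₀ Char.card_cast_ne_zero]

open Classical in
include hM in
/-- A block with a central defect group has rank one. -/
theorem blockRank_eq_one_of_central {B : Set (IrrCharacter G)} (hB : IsPBlock M B)
    {P : Subgroup G} (hD : IsDefectGroup p M B P) (hPZ : P ≤ Subgroup.center G) :
    blockRank p B = 1 := by
  obtain ⟨m, hm⟩ := exists_regForm hM hB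
  have hdiag : ∀ χ ∈ B, m χ χ = 1 := fun χ hχ => by
    have h := card_mul_regInner_of_central hM hB hD hPZ hχ
    rw [card_defectGroup hM hB hD] at h
    have e := hm.eq χ hχ χ hχ
    rw [regN, h] at e
    exact_mod_cast e.symm
  have hh : ∀ χ ∈ B, blockHeight p B (χ : G → ℂ) = 0 := fun χ hχ => by
    have h := hm.dvd χ hχ χ hχ
    rw [hdiag χ hχ] at h
    by_contra hne
    exact (Nat.prime_iff_prime_int.1 (Fact.out : p.Prime)).not_unit
      (isUnit_of_dvd_one ((dvd_pow_self _ hne).trans h))
  have hk : ∀ χ ∈ B, (B.toFinset.card : ℤ) ≤ (p : ℤ) ^ blockDefect p B := fun χ hχ => by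
    have h := hm.row_sq hM hB hχ
    rw [hdiag χ hχ, mul_one] at h
    rw [← h, Finset.card_eq_sum_ones, Nat.cast_sum]
    refine Finset.sum_le_sum fun η hη => ?_
    have hne : m χ η ≠ 0 := fun h0 =>
      hm.not_dvd χ hχ η (Set.mem_toFinset.1 hη) (hh χ hχ) (h0 ▸ dvd_zero _)
    have := Int.one_le_abs hne
    rw [Nat.cast_one, ← sq_abs]
    nlinarith
  obtain ⟨χ₀, hχ₀⟩ := nonempty_of_isPBlock hM hB
  have hl : (Nat.card P : ℂ) * (blockRank p B : ℂ) = (B.toFinset.card : ℂ) := by
    rw [blockRank_eq_sum_regInner hM (vInt_indVec hM hB), Finset.mul_sum,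
      Finset.sum_congr rfl fun χ hχ =>
        card_mul_regInner_of_central hM hB hD hPZ (Set.mem_toFinset.1 hχ)]
    simp
  rw [card_defectGroup hM hB hD] at hl
  have hl' : p ^ blockDefect p B * blockRank p B = B.toFinset.card := by exact_mod_cast hl
  have hk' : B.toFinset.card ≤ p ^ blockDefect p B := by exact_mod_cast hk χ₀ hχ₀
  rw [← hl'] at hk'
  refine le_antisymm ?_ (blockRank_pos hM hB)
  exact Nat.le_of_mul_le_mul_left (by rwa [mul_one]) (pow_pos (Fact.out : p.Prime).pos _)

end Cfsg.Lib.Block
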