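import Cfsg.Agent.Lib.Char.Clifford
import Cfsg.Agent.Lib.Char.Linear
import Cfsg.Agent.Lib.Block.CentralDefect
import Cfsg.Agent.Lib.Block.PPart
import Cfsg.Agent.Lib.Block.DegreePSubTwo
import Cfsg.Agent.Lib.Core.Basic

/-!
# Faithful characters with root of unity values on `p`-singular elements

The structure of the normal `p`-subgroups when a faithful irreducible character of degree above one
has values of absolute value one on all `p`-singular elements.
-/

set_option autoImplicit false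
set_option linter.unusedSectionVars false
set_option linter.style.haveILetI false

namespace Cfsg.Lib.Block.RootValues

open Cfsg
open scoped ComplexConjugate

universe u

noncomputable local instance (priority := high) fintypeSubgroupRootValues {A : Type u}
    [Group A] [Fintype A] (H : Subgroup A) : Fintype H := Fintype.ofFinite H

section General

variable {A : Type u} [Group A] [Fintype A]

theorem exists_mult {ψ : A → ℂ} (hψ : IsCharacter A ψ) :
    ∃ m : IrrCharacter A → ℕ, (∀ φ : IrrCharacter A, classInner ψ (φ : A → ℂ) = (m φ : ℂ)) ∧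
      classInner ψ ψ = ((∑ φ, m φ ^ 2 : ℕ) : ℂ) ∧
      ψ 1 = ∑ φ : IrrCharacter A, (m φ : ℂ) * (φ : A → ℂ) 1 := by
  choose m hm using fun φ : IrrCharacter A => hψ.exists_nat_classInner φ.2.isCharacter
  refine ⟨m, hm, ?_, ?_⟩
  · rw [Char.classInner_eq_sum hψ.isClassFunction, Nat.cast_sum]
    exact Finset.sum_congr rfl fun φ _ => by
      rw [hm, Complex.conj_natCast, Nat.cast_pow, pow_two]
  · conv_lhs => rw [Char.eq_sum_classInner hψ.isClassFunction]
    simp only [Finset.sum_apply, Pi.smul_apply, smul_eq_mul, hm]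

theorem exists_norm {ψ : A → ℂ} (hψ : IsCharacter A ψ) :
    ∃ N : ℕ, classInner ψ ψ = (N : ℂ) ∧ (Nat.card A : ℝ) * N = ∑ a, ‖ψ a‖ ^ 2 := by
  obtain ⟨N, hN⟩ := hψ.exists_nat_classInner hψ
  refine ⟨N, hN, ?_⟩
  have h := hN
  rw [Char.classInner_self] at h
  have h2 : (Nat.card A : ℝ)⁻¹ * ∑ a, ‖ψ a‖ ^ 2 = (N : ℝ) := by exact_mod_cast h
  rw [← h2, mul_inv_cancel_left₀]
  exact Nat.cast_ne_zero.2 Nat.card_pos.ne'

/-- For an abelian group the norm of a character is at least its degree. -/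
theorem degree_le_norm (hc : ∀ a b : A, a * b = b * a) {ψ : A → ℂ} (hψ : IsCharacter A ψ)
    {n N : ℕ} (hn : ψ 1 = (n : ℂ)) (hN : classInner ψ ψ = (N : ℂ)) : n ≤ N := by
  obtain ⟨m, -, hm2, hm1⟩ := exists_mult hψ
  rw [hN] at hm2
  simp only [Char.degree_eq_one_of_comm hc (Subtype.prop _), mul_one, hn] at hm1
  have h2 : N = ∑ φ, m φ ^ 2 := by exact_mod_cast hm2
  have h1 : n = ∑ φ, m φ := by exact_mod_cast hm1
  rw [h1, h2]
  exact Finset.sum_le_sum fun φ _ => Nat.le_self_pow (by norm_num) _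

theorem card_constituents_le {ψ : A → ℂ} (hψ : IsCharacter A ψ) {N : ℕ}
    (hN : classInner ψ ψ = (N : ℂ)) (K : Finset (IrrCharacter A))
    (hK : ∀ φ ∈ K, classInner ψ (φ : A → ℂ) ≠ 0) : K.card ≤ N := by
  obtain ⟨m, hm, hm2, -⟩ := exists_mult hψ
  rw [hN] at hm2
  have h2 : N = ∑ φ, m φ ^ 2 := by exact_mod_cast hm2
  rw [h2, Finset.card_eq_sum_ones]
  refine (Finset.sum_le_sum fun φ hφ => ?_).trans
    (Finset.sum_le_sum_of_subset (Finset.subset_univ K))
  refine Nat.one_le_pow _ _ (Nat.pos_of_ne_zero fun h0 => hK φ hφ ?_)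
  rw [hm, h0, Nat.cast_zero]

theorem card_irr_of_comm (hc : ∀ a b : A, a * b = b * a) :
    Nat.card (IrrCharacter A) = Nat.card A := by
  have h := Char.sum_sq_degree (G := A)
  simp only [Char.degree_eq_one_of_comm hc (Subtype.prop _), one_pow, Finset.sum_const,
    Finset.card_univ, nsmul_eq_mul, mul_one] at h
  rw [Nat.card_eq_fintype_card]
  exact_mod_cast h

theorem card_hom_of_comm (hc : ∀ a b : A, a * b = b * a) :
    Nat.card (A →* ℂˣ) = Nat.card A := by
  rw [Nat.card_congr Char.linearCharEquiv,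
    Nat.card_congr (Equiv.subtypeUnivEquiv fun χ : IrrCharacter A =>
      Char.degree_eq_one_of_comm hc χ.2), card_irr_of_comm hc]

/-- The counting of constituents over a normal abelian subgroup of index two. -/
theorem card_add_fixed_le {ψ : A → ℂ} (hψ : IsCharacter A ψ) {N : ℕ}
    (hN : classInner ψ ψ = (N : ℂ)) (Q : Subgroup A) [Q.Normal] (hidx : Q.index = 2)
    (F : Finset (IrrCharacter Q))
    (hF : ∀ φ ∈ F, classInner (fun x : Q => ψ x) (φ : Q → ℂ) ≠ 0) :
    F.card + Nat.card {φ : IrrCharacter Q // φ ∈ F ∧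
      ∀ g, Char.conjTwist Q (φ : Q → ℂ) g = φ} ≤ 2 * N := by
  classical
  set fixed : IrrCharacter Q → Prop := fun φ => ∀ g, Char.conjTwist Q (φ : Q → ℂ) g = φ with hfix
  have hex : ∀ φ : IrrCharacter Q, ∃ κ : IrrCharacter A, φ ∈ F →
      classInner ψ (κ : A → ℂ) ≠ 0 ∧
      classInner (fun x : Q => (κ : A → ℂ) x) (φ : Q → ℂ) ≠ 0 := fun φ => by
    by_cases h : φ ∈ F
    · obtain ⟨κ, h1, h2⟩ := Char.exists_constituent_of_res Q hψ (hF φ h)
      exact ⟨κ, fun _ => ⟨h1, h2⟩⟩
    · exact ⟨⟨_, Char.isIrrCharacter_one⟩, fun h' => absurd h' h⟩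
  choose cst hcst using hex
  set w : IrrCharacter Q → ℕ := fun φ => if fixed φ then 2 else 1 with hw
  have hsum : F.card + (F.filter fixed).card = ∑ φ ∈ F, w φ := by
    rw [Finset.card_eq_sum_ones F, Finset.card_filter, ← Finset.sum_add_distrib]
    exact Finset.sum_congr rfl fun φ _ => by rw [hw]; dsimp only; split_ifs <;> rfl
  have hcard : Nat.card {φ : IrrCharacter Q // φ ∈ F ∧ fixed φ} = (F.filter fixed).card := by
    rw [Nat.card_eq_fintype_card, Fintype.card_subtype]
    congr 1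
    ext φ
    simp
  rw [hcard, hsum, ← Finset.sum_fiberwise_of_maps_to (t := F.image cst) (g := cst)
    fun φ hφ => Finset.mem_image_of_mem cst hφ]
  have hK : (F.image cst).card ≤ N := card_constituents_le hψ hN _ fun κ hκ => by
    obtain ⟨φ, hφ, rfl⟩ := Finset.mem_image.1 hκ
    exact (hcst φ hφ).1
  refine (Finset.sum_le_card_nsmul _ _ 2 fun κ hκ => ?_).trans (by rw [smul_eq_mul]; omega)
  obtain ⟨φ₀, hφ₀, rfl⟩ := Finset.mem_image.1 hκ
  set S := F.filter fun φ => cst φ = cst φ₀ with hS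
  have horb : ∀ φ ∈ S, (φ : Q → ℂ) ∈ Char.twistOrbit Q (φ₀ : Q → ℂ) := fun φ hφ => by
    rw [hS, Finset.mem_filter] at hφ
    refine Char.mem_twistOrbit_of_constituent Q (cst φ₀).2 φ₀.2 φ.2 (hcst φ₀ hφ₀).2 ?_
    rw [← hφ.2]
    exact (hcst φ hφ.1).2
  by_cases h0 : fixed φ₀
  · have hsub : S ⊆ {φ₀} := fun φ hφ => by
      obtain ⟨g, hg⟩ := (Char.mem_twistOrbit Q).1 (horb φ hφ)
      exact Finset.mem_singleton.2 (Subtype.ext (hg.symm.trans (h0 g)))
    refine (Finset.sum_le_sum_of_subset hsub).trans ?_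
    rw [Finset.sum_singleton, hw]
    dsimp only
    split_ifs <;> norm_num
  · have h1 : ∀ φ ∈ S, w φ = 1 := fun φ hφ => by
      refine if_neg fun hf => h0 ?_
      obtain ⟨g, hg⟩ := (Char.mem_twistOrbit Q).1 (horb φ hφ)
      have : φ = φ₀ := by
        refine Subtype.ext ?_
        have h2 := hf g⁻¹
        rw [← hg, Char.conjTwist_conjTwist, mul_inv_cancel, Char.conjTwist_one] at h2
        rw [← hg, ← h2]
      exact this ▸ hf
    rw [Finset.sum_congr rfl h1, ← Finset.card_eq_sum_ones]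
    have h2 : S.card ≤ (Char.twistOrbit Q (φ₀ : Q → ℂ)).card :=
      Finset.card_le_card_of_injOn (fun φ => (φ : Q → ℂ)) (fun φ hφ => horb φ hφ)
        fun a _ b _ h => Subtype.ext h
    rw [Char.card_twistOrbit] at h2
    refine h2.trans (Nat.le_of_dvd two_pos ?_)
    rw [← hidx]
    exact Subgroup.index_dvd_of_le (Char.le_inertia Q φ₀.2.isClassFunction)

end General

section Setting

variable {p : ℕ} [hp : Fact p.Prime] {G : Type u} [Group G] [Fintype G] (χ : IrrCharacter G)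
  (hfaith : ∀ g : G, (χ : G → ℂ) g = (χ : G → ℂ) 1 → g = 1)
  (hnl : charDegree (χ : G → ℂ) ≠ 1)
  (hnorm : ∀ g : G, p ∣ orderOf g → ‖(χ : G → ℂ) g‖ = 1)
  (P : Subgroup G) [hPn : P.Normal] (hPp : IsPGroup p P) (hPb : P ≠ ⊥)

include hnorm

theorem norm_of_mem {S : Subgroup G} (hS : IsPGroup p S) {x : G} (hx : x ∈ S) (h1 : x ≠ 1) :
    ‖(χ : G → ℂ) x‖ = 1 := by
  refine hnorm x ?_
  obtain ⟨k, hk⟩ := IsPGroup.iff_orderOf.1 hS ⟨x, hx⟩
  rw [Subgroup.orderOf_mk] at hk
  rcases Nat.eq_zero_or_pos k with rfl | hk0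
  · exact absurd (orderOf_eq_one_iff.1 (by rw [hk, pow_zero])) h1
  · rw [hk]
    exact dvd_pow_self _ hk0.ne'

theorem norm_equation {S : Subgroup G} (hS : IsPGroup p S) :
    ∃ N : ℕ, classInner (fun x : S => (χ : G → ℂ) x) (fun x : S => (χ : G → ℂ) x) = (N : ℂ) ∧
      Nat.card S * N + 1 = charDegree (χ : G → ℂ) ^ 2 + Nat.card S := by
  classical
  obtain ⟨N, hN, hsum⟩ := exists_norm (ψ := fun x : S => (χ : G → ℂ) x)
    (χ.2.isCharacter.comp S.subtype)
  refine ⟨N, hN, ?_⟩
  rw [← Finset.add_sum_erase _ _ (Finset.mem_univ (1 : S)),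
    Finset.sum_congr rfl fun (x : S) hx => by
      rw [norm_of_mem χ hnorm hS x.2 fun h => Finset.ne_of_mem_erase hx (Subtype.ext h)],
    Finset.sum_const, Finset.card_erase_of_mem (Finset.mem_univ _), Finset.card_univ,
    ← Nat.card_eq_fintype_card, nsmul_eq_mul, Nat.cast_sub Nat.card_pos, one_pow, mul_one,
    OneMemClass.coe_one, apply_one_eq_charDegree χ, Complex.norm_natCast, Nat.cast_one] at hsum
  have h2 : (Nat.card S : ℝ) * N + 1 = (charDegree (χ : G → ℂ) : ℝ) ^ 2 + Nat.card S := by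
    linarith
  exact_mod_cast h2

include hPp hPb

theorem not_dvd_degree : ¬ p ∣ charDegree (χ : G → ℂ) := by
  intro h
  obtain ⟨N, -, hN⟩ := norm_equation χ hnorm hPp
  haveI : Nontrivial P := (Subgroup.nontrivial_iff_ne_bot P).2 hPb
  obtain ⟨d, hd, hc⟩ := hPp.nontrivial_iff_card.1 inferInstance
  have h1 : p ∣ Nat.card P := by rw [hc]; exact dvd_pow_self _ (Nat.pos_iff_ne_zero.1 hd)
  have h2 : p ∣ Nat.card P * N + 1 :=
    hN ▸ Nat.dvd_add (dvd_pow h two_ne_zero) h1
  exact hp.out.not_dvd_one ((Nat.dvd_add_iff_right (h1.mul_right N)).2 h2)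

include hfaith

theorem comm_of_normal (a b : P) : a * b = b * a := by
  have hres : IsCharacter P (fun x : P => (χ : G → ℂ) x) := χ.2.isCharacter.comp P.subtype
  have h := hres.commutator_mem_ker (fun φ => ?_) a b
  · have h1 := hfaith _ (h.trans (by simp))
    have h2 : a * b * a⁻¹ * b⁻¹ = 1 := Subtype.ext h1
    rw [mul_inv_eq_one, mul_inv_eq_iff_eq_mul] at h2
    exact h2
  · refine or_iff_not_imp_right.2 fun hne => ?_
    push Not at hne
    obtain ⟨inst, hne⟩ := hne
    have hne' : classInner (fun x : P => (χ : G → ℂ) x) (φ : P → ℂ) ≠ 0 := by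
      convert hne using 2
    have hdeg := Char.clifford_degree P χ.2 φ.2 hne'
    obtain ⟨e, he⟩ := hres.exists_nat_classInner φ.2.isCharacter
    rw [he, apply_one_eq_charDegree χ, apply_one_eq_charDegree φ] at hdeg
    have hdvd : charDegree (φ : P → ℂ) ∣ charDegree (χ : G → ℂ) := by
      refine ⟨e * (Char.inertia P (φ : P → ℂ)).index, ?_⟩
      rw [mul_comm]
      exact_mod_cast hdeg
    obtain ⟨k, hk⟩ := hPp.exists_card_eq
    have hcard := charDegree_dvd_card φ
    rw [hk, Nat.dvd_prime_pow hp.out] at hcard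
    obtain ⟨i, -, hi⟩ := hcard
    rcases Nat.eq_zero_or_pos i with rfl | hi0
    · rw [apply_one_eq_charDegree φ, hi, pow_zero, Nat.cast_one]
    · exact absurd ((hi ▸ dvd_pow_self p hi0.ne').trans hdvd)
        (not_dvd_degree χ hnorm P hPp hPb)

include hnl

theorem degree_pos : 0 < charDegree (χ : G → ℂ) := by
  refine Nat.pos_of_ne_zero fun h => χ.2.apply_one_ne_zero ?_
  rw [apply_one_eq_charDegree χ, h, Nat.cast_zero]

/-- The restriction to a normal `p`-subgroup is the regular character less the trivial one. -/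
theorem restriction :
    charDegree (χ : G → ℂ) + 1 = Nat.card P ∧
      (∀ φ : IrrCharacter P, (φ : P → ℂ) ≠ (fun _ => 1) →
        classInner (fun x : P => (χ : G → ℂ) x) (φ : P → ℂ) = 1) ∧
      (∀ φ φ' : IrrCharacter P, (φ : P → ℂ) ≠ (fun _ => 1) → (φ' : P → ℂ) ≠ (fun _ => 1) →
        ∃ g : G, Char.conjTwist P (φ : P → ℂ) g = φ') ∧
      ∃ θ : IrrCharacter P, (θ : P → ℂ) ≠ (fun _ => 1) ∧
        (Char.inertia P (θ : P → ℂ)).index + 1 = Nat.card P := by
  classical
  have hc := comm_of_normal χ hfaith hnorm P hPp hPb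
  have hres : IsCharacter P (fun x : P => (χ : G → ℂ) x) := χ.2.isCharacter.comp P.subtype
  obtain ⟨θ, hθ⟩ := Char.exists_irr_constituent_res P χ.2
  have hθ1 : (θ : P → ℂ) 1 = 1 := Char.degree_eq_one_of_comm hc θ.2
  obtain ⟨e, he⟩ := hres.exists_nat_classInner θ.2.isCharacter
  set O := Char.twistOrbit P (θ : P → ℂ) with hO
  have heO : ∀ φ ∈ O, classInner (fun x : P => (χ : G → ℂ) x) φ = (e : ℂ) := fun φ hφ => by
    obtain ⟨g, rfl⟩ := (Char.mem_twistOrbit P).1 hφ
    conv_lhs => rw [← Char.conjTwist_res P χ.2.isClassFunction g, Char.classInner_conjTwist]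
    exact he
  have hdeg := Char.clifford_degree P χ.2 θ.2 hθ
  rw [he, hθ1, mul_one, apply_one_eq_charDegree χ, ← Char.card_twistOrbit, ← hO] at hdeg
  have hdeg' : charDegree (χ : G → ℂ) = e * O.card := by exact_mod_cast hdeg
  obtain ⟨N, hN, hN'⟩ := norm_equation χ hnorm hPp
  have hNe : N = e * (O.card * e) := by
    have h : classInner (fun x : P => (χ : G → ℂ) x) (fun x : P => (χ : G → ℂ) x) =
        (e : ℂ) * ((O.card : ℂ) * e) := by
      conv_lhs =>
        arg 1
        rw [Char.clifford_res P χ.2 θ.2 hθ, he]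
      rw [Char.classInner_smul_left, ← hO, Char.classInner_sum_left,
        Finset.sum_congr rfl fun φ hφ => by
          rw [← Char.classInner_comm_of_isCharacter hres
            (Char.isIrrCharacter_of_mem_twistOrbit P θ.2 hφ).isCharacter, heO φ hφ],
        Finset.sum_const, nsmul_eq_mul]
    rw [hN] at h
    exact_mod_cast h
  set O' : Finset (IrrCharacter P) := Finset.univ.filter fun φ => (φ : P → ℂ) ∈ O with hO'
  have hcardO : O'.card = O.card := by
    refine Finset.card_bij (fun φ _ => (φ : P → ℂ)) (fun φ hφ => (Finset.mem_filter.1 hφ).2)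
      (fun a _ b _ h => Subtype.ext h) fun φ hφ => ?_
    exact ⟨⟨φ, Char.isIrrCharacter_of_mem_twistOrbit P θ.2 hφ⟩,
      Finset.mem_filter.2 ⟨Finset.mem_univ _, hφ⟩, rfl⟩
  have hirr : (Finset.univ : Finset (IrrCharacter P)).card = Nat.card P := by
    rw [Finset.card_univ, ← Nat.card_eq_fintype_card, card_irr_of_comm hc]
  have hle : O.card ≤ Nat.card P := by
    rw [← hcardO, ← hirr]
    exact Finset.card_le_card (Finset.subset_univ _)
  have he0 : e ≠ 0 := fun h => hθ (by rw [he, h, Nat.cast_zero])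
  have ht0 : 0 < O.card := Finset.card_pos.2 ⟨θ, Char.self_mem_twistOrbit P _⟩
  haveI : Nontrivial P := (Subgroup.nontrivial_iff_ne_bot P).2 hPb
  have hq : 2 ≤ Nat.card P := Finite.one_lt_card
  have hnum : e = 1 ∧ O.card + 1 = Nat.card P := by
    rw [hNe, hdeg'] at hN'
    rw [hdeg'] at hnl
    obtain ⟨d, hd⟩ := Nat.exists_eq_add_of_le hle
    rw [hd] at hN' hq ⊢
    have h1 : e * e * (O.card * d) + 1 = O.card + d := by nlinarith [hN']
    have hd0 : d ≠ 0 := fun h => by rw [h, mul_zero, mul_zero] at h1; omega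
    have he1 : e = 1 := by
      by_contra h
      have h4 : 4 * (O.card * d) ≤ e * e * (O.card * d) :=
        Nat.mul_le_mul_right _ (Nat.mul_le_mul (show 2 ≤ e by omega) (show 2 ≤ e by omega))
      have h5 : O.card ≤ O.card * d := Nat.le_mul_of_pos_right _ (Nat.pos_of_ne_zero hd0)
      have h6 : d ≤ O.card * d := Nat.le_mul_of_pos_left _ ht0
      omega
    subst he1
    refine ⟨rfl, ?_⟩
    rw [one_mul, one_mul] at h1
    rw [one_mul] at hnl
    obtain ⟨t, ht⟩ : ∃ t, O.card = t + 2 := ⟨O.card - 2, by omega⟩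
    rw [ht] at h1 ⊢
    nlinarith
  obtain ⟨he1, hcard⟩ := hnum
  subst he1
  rw [one_mul] at hdeg'
  let triv : IrrCharacter P := ⟨_, Char.isIrrCharacter_one⟩
  have htriv : triv ∉ O' := fun h => by
    obtain ⟨g, hg⟩ := (Char.mem_twistOrbit P).1 (Finset.mem_filter.1 h).2
    have h2 : (θ : P → ℂ) = fun _ => 1 := by
      rw [← Char.conjTwist_one P (θ : P → ℂ), ← mul_inv_cancel g, ← Char.conjTwist_conjTwist, hg]
      rfl
    have h3 : O ⊆ {fun _ => (1 : ℂ)} := fun φ hφ => by
      obtain ⟨k, rfl⟩ := (Char.mem_twistOrbit P).1 hφ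
      rw [Finset.mem_singleton, h2]
      rfl
    have h4 := Finset.card_le_card h3
    rw [Finset.card_singleton] at h4
    omega
  have hall : ∀ φ : IrrCharacter P, (φ : P → ℂ) ≠ (fun _ => 1) → (φ : P → ℂ) ∈ O := by
    intro φ hφ
    have hsub : O' ⊆ Finset.univ.erase triv := fun ψ hψ =>
      Finset.mem_erase.2 ⟨fun h => htriv (h ▸ hψ), Finset.mem_univ _⟩
    have h2 : O' = Finset.univ.erase triv := Finset.eq_of_subset_of_card_le hsub (by
      rw [Finset.card_erase_of_mem (Finset.mem_univ _), hirr, hcardO]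
      omega)
    have h3 : φ ∈ O' := h2 ▸ Finset.mem_erase.2
      ⟨fun h => hφ (congrArg Subtype.val h), Finset.mem_univ _⟩
    exact (Finset.mem_filter.1 h3).2
  refine ⟨by rw [hdeg']; exact hcard, fun φ hφ => by rw [heO φ (hall φ hφ), Nat.cast_one],
    fun φ φ' hφ hφ' => ?_, ⟨θ, fun h => htriv ?_, ?_⟩⟩
  · obtain ⟨g, hg⟩ := (Char.mem_twistOrbit P).1 (hall φ hφ)
    obtain ⟨g', hg'⟩ := (Char.mem_twistOrbit P).1 (hall φ' hφ')
    refine ⟨g⁻¹ * g', ?_⟩
    rw [← hg, Char.conjTwist_conjTwist, mul_inv_cancel_left, hg']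
  · refine Finset.mem_filter.2 ⟨Finset.mem_univ _, ?_⟩
    show (fun _ => (1 : ℂ)) ∈ O
    exact h ▸ Char.self_mem_twistOrbit P _
  · rw [← Char.card_twistOrbit]
    exact hcard

/-- A normal `p`-subgroup is elementary abelian. -/
theorem pow_prime (x : P) : x ^ p = 1 := by
  classical
  have hc := comm_of_normal χ hfaith hnorm P hPp hPb
  obtain ⟨-, -, htrans, -⟩ := restriction χ hfaith hnl hnorm P hPp hPb
  have hcard := card_hom_of_comm hc
  haveI : Finite (P →* ℂˣ) := Nat.finite_of_card_ne_zero (by rw [hcard]; exact Nat.card_pos.ne')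
  haveI : Nontrivial P := (Subgroup.nontrivial_iff_ne_bot P).2 hPb
  obtain ⟨d, hd, hcd⟩ := hPp.nontrivial_iff_card.1 inferInstance
  obtain ⟨f, hf⟩ := exists_prime_orderOf_dvd_card' p
    (hcard.symm ▸ hcd.symm ▸ dvd_pow_self p (Nat.pos_iff_ne_zero.1 hd) :
      p ∣ Nat.card (P →* ℂˣ))
  let φ₀ : IrrCharacter P := ⟨_, Char.isIrrCharacter_linear f⟩
  have hφ₀ : (φ₀ : P → ℂ) ≠ (fun _ => 1) := fun h => by
    have h1 : f = 1 := MonoidHom.ext fun a => Units.ext (congrFun h a)
    rw [h1, orderOf_one] at hf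
    exact hp.out.ne_one hf.symm
  have hker : ∀ a : P, (φ₀ : P → ℂ) (a ^ p) = 1 := fun a => by
    show ((f (a ^ p) : ℂˣ) : ℂ) = 1
    rw [map_pow, ← MonoidHom.pow_apply, ← hf, pow_orderOf_eq_one, MonoidHom.one_apply,
      Units.val_one]
  have hψ : ∀ ψ : IrrCharacter P, (ψ : P → ℂ) (x ^ p) = (ψ : P → ℂ) 1 := fun ψ => by
    rw [Char.degree_eq_one_of_comm hc ψ.2]
    by_cases h : (ψ : P → ℂ) = fun _ => 1
    · rw [h]
    · obtain ⟨g, hg⟩ := htrans φ₀ ψ hφ₀ h
      rw [← hg, Char.conjTwist_apply]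
      have h2 := hker (MulAut.conjNormal g x)
      rw [← map_pow] at h2
      exact h2
  refine Subtype.ext (hfaith _ ?_)
  have h := Char.eq_sum_classInner
    (f := fun y : P => (χ : G → ℂ) y) (χ.2.isCharacter.comp P.subtype).isClassFunction
  calc (χ : G → ℂ) ((x ^ p : P) : G) = (fun y : P => (χ : G → ℂ) y) (x ^ p) := rfl
    _ = (fun y : P => (χ : G → ℂ) y) 1 := by
        rw [h]
        simp only [Finset.sum_apply, Pi.smul_apply, hψ]
    _ = _ := by simp

/-- The centre has order prime to `p`. -/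
theorem not_dvd_center : ¬ p ∣ Nat.card (Subgroup.center G) := by
  intro h
  obtain ⟨z, hz⟩ := exists_prime_orderOf_dvd_card' p h
  have hzo : orderOf (z : G) = p := by rw [orderOf_submonoid z] at *; exact hz
  obtain ⟨c, hc, hcs⟩ := exists_central_scalar χ z.2
  have h1 := hnorm (z : G) (by rw [hzo])
  have h2 := hcs 1
  rw [mul_one] at h2
  rw [h2, norm_mul, Complex.norm_eq_one_of_pow_eq_one hc (by rw [hzo]; exact hp.out.ne_zero),
    apply_one_eq_charDegree χ, Complex.norm_natCast, one_mul] at h1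
  exact hnl (by exact_mod_cast h1)

theorem inf_center : P ⊓ Subgroup.center G = ⊥ := by
  refine Subgroup.inf_eq_bot_of_coprime ?_
  obtain ⟨k, hk⟩ := hPp.exists_card_eq
  rw [hk]
  exact Nat.Coprime.pow_left _ (hp.out.coprime_iff_not_dvd.2
    (not_dvd_center χ hfaith hnl hnorm P hPp hPb))

/-- Elements of order prime to `p` centralizing a normal `p`-subgroup are central. -/
theorem mem_center_of_regular {c : G} (hcC : c ∈ Subgroup.centralizer (P : Set G))
    (hc : ¬ p ∣ orderOf c) : c ∈ Subgroup.center G := by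
  classical
  have hcomm := comm_of_normal χ hfaith hnorm P hPp hPb
  have hexp := pow_prime χ hfaith hnl hnorm P hPp hPb
  obtain ⟨hn, -, -, -⟩ := restriction χ hfaith hnl hnorm P hPp hPb
  have hcj : ∀ (x : P) (j : Subgroup.zpowers c), Commute (x : G) (j : G) := fun x j => by
    obtain ⟨i, hi⟩ := Subgroup.mem_zpowers_iff.1 j.2
    rw [← hi]
    exact Commute.zpow_right (hcC x x.2) i
  let f : (P × Subgroup.zpowers c) →* G :=
    MonoidHom.mk' (fun a => (a.1 : G) * (a.2 : G)) fun a b => by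
      simp only [Prod.fst_mul, Prod.snd_mul, Subgroup.coe_mul]
      exact (hcj b.1 a.2).symm.mul_mul_mul_comm (a.1 : G) (b.2 : G) |>.symm
  have hA : ∀ a b : P × Subgroup.zpowers c, a * b = b * a := fun a b =>
    Prod.ext (hcomm a.1 b.1) (mul_comm' a.2 b.2)
  have hψ : IsCharacter (P × Subgroup.zpowers c) (fun a => (χ : G → ℂ) (f a)) :=
    χ.2.isCharacter.comp f
  obtain ⟨N, hN, hsum⟩ := exists_norm hψ
  have hdeg := degree_le_norm hA hψ (n := charDegree (χ : G → ℂ))
    (by simp [apply_one_eq_charDegree χ]) hN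
  set n := charDegree (χ : G → ℂ) with hndef
  have hval : ∀ (x : P) (j : Subgroup.zpowers c), x ≠ 1 →
      ‖(χ : G → ℂ) (f (x, j))‖ = 1 := fun x j hx => by
    refine hnorm _ ?_
    show p ∣ orderOf ((x : G) * (j : G))
    have hxo : orderOf (x : G) = p := by
      refine orderOf_eq_prime ?_ fun h => hx (Subtype.ext h)
      exact congrArg Subtype.val (hexp x)
    have hjo : ¬ p ∣ orderOf (j : G) := fun h =>
      hc (h.trans ((Subgroup.orderOf_dvd_natCard _ j.2).trans (Nat.card_zpowers c).dvd))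
    rw [(hcj x j).orderOf_mul_eq_mul_orderOf_of_coprime
      (by rw [hxo]; exact hp.out.coprime_iff_not_dvd.2 hjo), hxo]
    exact dvd_mul_right p _
  have hrw : ∑ a, ‖(χ : G → ℂ) (f a)‖ ^ 2 =
      ∑ j : Subgroup.zpowers c, ‖(χ : G → ℂ) j‖ ^ 2 +
        (Fintype.card (Subgroup.zpowers c) : ℝ) * n := by
    rw [Fintype.sum_prod_type_right, ← Finset.card_univ, ← nsmul_eq_mul, ← Finset.sum_const,
      ← Finset.sum_add_distrib]
    refine Finset.sum_congr rfl fun j _ => ?_
    rw [← Finset.add_sum_erase _ _ (Finset.mem_univ (1 : P))]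
    congr 1
    · show ‖(χ : G → ℂ) (((1 : P) : G) * (j : G))‖ ^ 2 = _
      rw [OneMemClass.coe_one, one_mul]
    · rw [Finset.sum_congr rfl fun x hx => by rw [hval x j (Finset.ne_of_mem_erase hx), one_pow],
        Finset.sum_const, Finset.card_erase_of_mem (Finset.mem_univ _), Finset.card_univ,
        ← Nat.card_eq_fintype_card, ← hn, Nat.add_sub_cancel, nsmul_eq_mul, mul_one]
  rw [hrw, Nat.card_prod, ← hn, Nat.card_eq_fintype_card, Nat.cast_mul, Nat.cast_add,
    Nat.cast_one] at hsum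
  have hdegR : (n : ℝ) ≤ N := by exact_mod_cast hdeg
  have hle : ∀ j : Subgroup.zpowers c, ‖(χ : G → ℂ) j‖ ^ 2 ≤ (n : ℝ) ^ 2 := fun j => by
    refine pow_le_pow_left₀ (norm_nonneg _) ?_ 2
    refine (χ.2.isCharacter.norm_le (j : G)).trans ?_
    rw [apply_one_eq_charDegree χ]
    simp [hndef]
  have hz : ∑ j : Subgroup.zpowers c, ((n : ℝ) ^ 2 - ‖(χ : G → ℂ) j‖ ^ 2) = 0 := by
    refine le_antisymm ?_ (Finset.sum_nonneg fun j _ => sub_nonneg.2 (hle j))
    rw [Finset.sum_sub_distrib, Finset.sum_const, Finset.card_univ, nsmul_eq_mul]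
    have hm : (0 : ℝ) ≤ (Fintype.card (Subgroup.zpowers c) : ℝ) * ((n : ℝ) + 1) := by positivity
    nlinarith [mul_le_mul_of_nonneg_left hdegR hm]
  have h1 := (Finset.sum_eq_zero_iff_of_nonneg fun j _ => sub_nonneg.2 (hle j)).1 hz
    ⟨c, Subgroup.mem_zpowers c⟩ (Finset.mem_univ _)
  refine mem_center_of_norm_eq χ.2 hfaith (apply_one_eq_charDegree χ) ?_
  exact (pow_left_inj₀ (norm_nonneg _) (Nat.cast_nonneg _) two_ne_zero).1 (sub_eq_zero.1 h1).symm

end Setting

end Cfsg.Lib.Block.RootValues
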