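import Cfsg.Agent.Lib.Block.CyclicPrimeStructure

/-!
# Degrees and values in a block with a defect group of order `p`
-/

set_option autoImplicit false
set_option linter.unusedSectionVars false
set_option maxHeartbeats 1000000

namespace Cfsg.Lib.Block

open Cfsg
open scoped ComplexConjugate

universe u

noncomputable local instance (priority := high) fintypeSubgroupCyclicPrimeValues {A : Type u}
    [Group A] [Fintype A] (H : Subgroup A) : Fintype H := Fintype.ofFinite H

local notation "C[" P "]" => Subgroup.centralizer (SetLike.coe P)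

variable {p : ℕ} [Fact p.Prime] {M : Ideal AlgInt} {G : Type u} [Group G] [Fintype G]
  (hM : IsPModular p M)

include hM in
/-- An integer in the local ideal is a multiple of `p`. -/
theorem int_dvd_of_memLocalIdeal {m : ℤ} (h : MemLocalIdeal M (m : ℂ)) : (p : ℤ) ∣ m := by
  rw [Int.natCast_dvd]
  refine (memLocalIdeal_natCast_iff hM _).1 ?_
  rcases Int.natAbs_eq m with e | e
  · rw [e] at h
    simpa using h
  · rw [e] at h
    simpa using memLocalIdeal_neg hM h

/-- Conjugate blocks induce the same block. -/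
theorem isInducedBlock_conj_self {B : Set (IrrCharacter G)} {K : Subgroup G} {x : G} (hx : ConjMaps x K K)
    {f : Set (IrrCharacter K)} (hf : IsInducedBlock M K f B) :
    IsInducedBlock M K (conjSet hx f) B := by
  classical
  refine ⟨isPBlock_conjSet hx hf.1, hf.2.1, fun ξ hξ χ hχ g => ?_⟩
  have h := hf.2.2 _ hξ χ hχ g
  convert h using 2
  rw [inducedCentralChar_eq, inducedCentralChar_eq, vec, vec, compIrr_apply, map_one]
  congr 1
  refine (Fintype.sum_equiv (conjIso hx).toEquiv _ _ fun k => ?_).symm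
  have hc : IsConj (k : G) ((conjIso hx k : K) : G) := isConj_iff.2 ⟨x, rfl⟩
  rw [compIrr_apply, MulEquiv.symm_symm]
  congr 1
  exact @if_congr _ _ _ (_) (_) _ _ _ _ ⟨fun h => h.trans hc, fun h => h.trans hc.symm⟩ rfl rfl

variable {B : Set (IrrCharacter G)} {P : Subgroup G} {b : Set (IrrCharacter C[P])}
  (hB : IsPBlock M B) (hD : IsDefectGroup p M B P) (hcard : Nat.card P = p)
  (hind : IsInducedBlock M C[P] b B)

include hM hB hD hcard hind

open Classical in
/-- The value at a section of `P` through the blocks of the centralizer. -/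
theorem apply_section_eq (χ : IrrCharacter G) (hχ : χ ∈ B) (k : C[P])
    (hk : pPt p (k : G) ∈ P) (hk1 : ¬ IsPRegular p (k : G)) :
    (χ : G → ℂ) (k : G) = ∑ η ∈ (indSet M C[P] B).toFinset,
      classInner (fun h : C[P] => (χ : G → ℂ) h) (η : C[P] → ℂ) * (η : C[P] → ℂ) k := by
  have D := cycSystem hM hB hD hcard hind
  rw [sum_indSet_apply hM (fun b hb => D.exists_induced hM hb) hB χ
    (D.centralizer_le (zpowers_eq_of_mem hcard hk fun h => hk1 ((pPt_eq_one_iff _).1 h)).ge),
    if_pos hχ]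

open Classical in
/-- A function invariant under the normalizer sums over the blocks inducing `B` to the index of the
stabilizer times its sum along `b`. -/
theorem sum_indSet_of_inv {θ : IrrCharacter C[P]} (hθ : θ ∈ b) (T : Subgroup G)
    (hT : ∀ g : G, g ∈ T ↔ g ∈ Subgroup.normalizer (P : Set G) ∧ StabilizesBlock C[P] b g)
    (a : IrrCharacter C[P] → ℂ)
    (hinv : ∀ g ∈ Subgroup.normalizer (P : Set G), ∀ (hg : ConjMaps g C[P] C[P])
      (η : IrrCharacter C[P]), a (compIrr (conjIso hg) η) = a η) :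
    ∑ η ∈ (indSet M C[P] B).toFinset, a η =
      (T.relIndex (Subgroup.normalizer (P : Set G)) : ℂ) * ∑ ξ ∈ b.toFinset, a ξ := by
  have D := cycSystem hM hB hD hcard hind
  set N := Subgroup.normalizer (P : Set G) with hN
  have hTN : T ≤ N := fun g hg => ((hT g).1 hg).1
  let tw : N → IrrCharacter C[P] → IrrCharacter C[P] := fun h η =>
    compIrr (conjIso (D.conjMaps_of_normalizer h.2)) η
  replace hinv : ∀ h η, a (tw h η) = a η := fun h η => hinv h h.2 _ η
  have hpair : ∀ η ∈ indSet M C[P] B,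
      (Finset.univ.filter fun h : N => tw h η ∈ b).card = Nat.card T := by
    intro η hη
    obtain ⟨x, hx, hxN, hxb⟩ := D.orbit η hη
    rw [← Fintype.card_subtype, ← Nat.card_eq_fintype_card]
    have hmem : ∀ h : N, tw h η ∈ b ↔ x⁻¹ * (h : G) ∈ T := by
      intro h
      have hg : x⁻¹ * (h : G) ∈ N := mul_mem (inv_mem hxN) h.2
      have hgK : x⁻¹ * (h : G) ∈ Subgroup.normalizer ((C[P] : Subgroup G) : Set G) :=
        Subgroup.mem_normalizer_iff.2 (D.conjMaps_of_normalizer hg)
      have e : compIrr (conjIso (D.conjMaps_of_normalizer hg)) (compIrr (conjIso hx) η) = tw h η := by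
        rw [D.tw_tw _ _ (D.conjMaps_of_normalizer (mul_mem hxN hg))]
        exact D.tw_congr _ _ (by rw [mul_inv_cancel_left]) η
      rw [hT, and_iff_right hg, stabilizesBlock_iff hgK, ← e, D.mem_tw_iff,
        conjSet_congr (D.conjMaps_of_normalizer hg) (conjMaps_normalizer hgK) rfl]
      exact ⟨fun hm => isPBlock_eq_of_mem hM (isPBlock_conjSet _ hind.1) hind.1 hm hxb,
        fun he => he.symm ▸ hxb⟩
    exact Nat.card_congr
      { toFun := fun h => ⟨x⁻¹ * (h.1 : G), (hmem h.1).1 h.2⟩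
        invFun := fun g => ⟨⟨x * (g : G), mul_mem hxN (hTN g.2)⟩,
          (hmem _).2 (by simp)⟩
        left_inv := fun h => Subtype.ext (Subtype.ext (by simp))
        right_inv := fun g => Subtype.ext (by simp) }
  have hto : ∀ (h : N) (ξ : IrrCharacter C[P]), tw h ξ ∈ b → ξ ∈ indSet M C[P] B := by
    intro h ξ hξ
    rw [D.mem_tw_iff] at hξ
    have hc := isInducedBlock_conj_self (D.conjMaps_of_normalizer h.2) hind
    show IsInducedBlock M C[P] (blockOf M (ξ : C[P] → ℂ)) B
    rwa [← eq_blockOf_of_mem hM hc.1 hξ]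
  have h1 : ∀ h : N, ∑ ξ ∈ (indSet M C[P] B).toFinset.filter (fun η => tw h η ∈ b), a ξ =
      ∑ ξ ∈ b.toFinset, a ξ := by
    intro h
    refine Finset.sum_bij' (fun η _ => tw h η) (fun ξ _ => tw h⁻¹ ξ) ?_ ?_ ?_ ?_ ?_
    · exact fun η hη => Set.mem_toFinset.2 (Finset.mem_filter.1 hη).2
    · intro ξ hξ
      have e : tw h (tw h⁻¹ ξ) = ξ := by
        simp only [tw]
        rw [D.tw_tw _ _ (D.conjMaps_of_normalizer (mul_mem (inv_mem h.2) h.2))]
        exact D.tw_of_mem _ (by simp) ξ
      have hm : tw h (tw h⁻¹ ξ) ∈ b := by rw [e]; exact Set.mem_toFinset.1 hξ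
      exact Finset.mem_filter.2 ⟨Set.mem_toFinset.2 (hto h _ hm), hm⟩
    · intro η _
      simp only [tw]
      rw [D.tw_tw _ _ (D.conjMaps_of_normalizer (mul_mem h.2 (inv_mem h.2)))]
      exact D.tw_of_mem _ (by simp) η
    · intro ξ _
      simp only [tw]
      rw [D.tw_tw _ _ (D.conjMaps_of_normalizer (mul_mem (inv_mem h.2) h.2))]
      exact D.tw_of_mem _ (by simp) ξ
    · exact fun η _ => (hinv h η).symm
  have h2 : (Nat.card N : ℂ) * ∑ ξ ∈ b.toFinset, a ξ =
      (Nat.card T : ℂ) * ∑ η ∈ (indSet M C[P] B).toFinset, a η := by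
    rw [Nat.card_eq_fintype_card (α := N), ← Finset.card_univ, ← nsmul_eq_mul, ← Finset.sum_const,
      Finset.mul_sum]
    rw [← Finset.sum_congr rfl fun h (_ : h ∈ Finset.univ) => h1 h]
    simp only [Finset.sum_filter]
    rw [Finset.sum_comm]
    refine Finset.sum_congr rfl fun η hη => ?_
    rw [← Finset.sum_filter, Finset.sum_const, hpair η (Set.mem_toFinset.1 hη), nsmul_eq_mul]
  have hNT : Nat.card N = T.relIndex N * Nat.card T := by
    rw [Subgroup.relIndex, ← Nat.card_congr (Subgroup.subgroupOfEquivOfLe hTN).toEquiv, mul_comm,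
      Subgroup.card_mul_index]
  rw [hNT, Nat.cast_mul] at h2
  refine (mul_left_cancel₀ (Nat.cast_ne_zero.2 Nat.card_pos.ne' : (Nat.card T : ℂ) ≠ 0) ?_).symm
  rw [← h2]
  ring

open Classical in
/-- The coefficients along the blocks inducing `B` add up to the index of the stabilizer times
those along `b`. -/
theorem sum_indSet_coeff {θ : IrrCharacter C[P]} (hθ : θ ∈ b) (T : Subgroup G)
    (hT : ∀ g : G, g ∈ T ↔ g ∈ Subgroup.normalizer (P : Set G) ∧ StabilizesBlock C[P] b g)
    {F : G → ℂ} (hF : IsClassFunction G F) :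
    ∑ η ∈ (indSet M C[P] B).toFinset, classInner (fun k : C[P] => F k) (η : C[P] → ℂ) =
      (T.relIndex (Subgroup.normalizer (P : Set G)) : ℂ) *
        ∑ ξ ∈ b.toFinset, classInner (fun k : C[P] => F k) (ξ : C[P] → ℂ) := by
  have D := cycSystem hM hB hD hcard hind
  refine sum_indSet_of_inv hM hB hD hcard hind hθ T hT
    (fun η => classInner (fun k : C[P] => F k) (η : C[P] → ℂ)) fun g hg hgm η => ?_
  have e : (fun k : C[P] => F k) = fun k => F (conjIso hgm k : G) :=
    funext fun k => (hF (k : G) g).symm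
  conv_lhs => rw [e]
  exact Char.classInner_comp_equiv (conjIso hgm) (fun k : C[P] => F k) (η : C[P] → ℂ)

open Classical in
/-- The degree modulo `M` through the coefficients along `b`. -/
theorem apply_one_sub_mem {θ : IrrCharacter C[P]} (hθ : θ ∈ b) (T : Subgroup G)
    (hT : ∀ g : G, g ∈ T ↔ g ∈ Subgroup.normalizer (P : Set G) ∧ StabilizesBlock C[P] b g)
    {χ : IrrCharacter G} (hχ : χ ∈ B) :
    MemLocalIdeal M ((χ : G → ℂ) 1 - (T.relIndex (Subgroup.normalizer (P : Set G)) : ℂ) *
      (θ : C[P] → ℂ) 1 *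
        ∑ ξ ∈ b.toFinset, classInner (fun k : C[P] => (χ : G → ℂ) k) (ξ : C[P] → ℂ)) := by
  have D := cycSystem hM hB hD hcard hind
  obtain ⟨z, hz1⟩ : ∃ z : P, z ≠ 1 := by
    haveI : Nontrivial P :=
      Finite.one_lt_card_iff_nontrivial.1 (hcard ▸ (Fact.out : p.Prime).one_lt)
    exact exists_ne 1
  let k : C[P] := ⟨z, le_centralizer_self hcard z.2⟩
  obtain ⟨j, hj⟩ := exists_orderOf_eq_pow_of_mem (isPGroup_defectGroup hM hD) z.2
  have hreg1 : IsPRegular p (1 : G) := by simp [IsPRegular, (Fact.out : p.Prime).ne_one]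
  have hz0 : (z : G) ≠ 1 := fun h => hz1 (Subtype.ext h)
  have hns : ¬ IsPRegular p (z : G) := fun h => by
    rcases Nat.eq_zero_or_pos j with h0 | h0
    · rw [h0, pow_zero, orderOf_eq_one_iff] at hj
      exact hz0 hj
    · exact h (hj ▸ dvd_pow_self p h0.ne')
  have hpR : pReg p (z : G) = 1 :=
    (eq_pReg (x := (z : G)) (y := 1) (mul_one _) (Commute.one_right _) hj (by simp [(Fact.out : p.Prime).ne_one])).symm
  have hpP : pPt p (z : G) ∈ P := by
    have := pPt_mul_pReg (p := p) (z : G)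
    rw [hpR, mul_one] at this
    rw [this]; exact z.2
  have h1 : MemLocalIdeal M ((χ : G → ℂ) z - (χ : G → ℂ) 1) := by
    have := charVal_sub_pReg_mem (p := p) hM χ.2.isCharacter (z : G)
    rwa [hpR] at this
  have hpRk : pReg p k = 1 := by
    refine (eq_pReg (x := k) (y := 1) (mul_one _) (Commute.one_right _) (k := j) ?_
      (by simp [(Fact.out : p.Prime).ne_one])).symm
    rw [← orderOf_submonoid]; exact hj
  set U := (indSet M C[P] B).toFinset
  set a : IrrCharacter C[P] → ℂ := fun η => classInner (fun h : C[P] => (χ : G → ℂ) h) (η : C[P] → ℂ)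
  have haint : ∀ η, a η ∈ locRing hM := fun η => by
    obtain ⟨c, hc⟩ := (χ.2.isCharacter.comp (C[P]).subtype).exists_nat_classInner η.2.isCharacter
    show classInner (fun h : C[P] => (χ : G → ℂ) h) (η : C[P] → ℂ) ∈ locRing hM
    rw [show classInner (fun h : C[P] => (χ : G → ℂ) h) (η : C[P] → ℂ) = (c : ℂ) from hc]
    exact natCast_mem _ c
  have hs := apply_section_eq hM hB hD hcard hind χ hχ k hpP hns
  have h2 : MemLocalIdeal M (∑ η ∈ U, a η * (η : C[P] → ℂ) k -
      ∑ η ∈ U, a η * (θ : C[P] → ℂ) 1) := by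
    rw [← Finset.sum_sub_distrib]
    refine memLocalIdeal_sum hM _ _ fun η hη => ?_
    rw [← mul_sub, ← D.degree_eq (Set.mem_toFinset.1 hη) hθ]
    refine memLocalIdeal_mul_left hM (haint η) ?_
    have := charVal_sub_pReg_mem (p := p) hM η.2.isCharacter k
    rwa [hpRk] at this
  rw [← Finset.sum_mul, sum_indSet_coeff hM hB hD hcard hind hθ T hT χ.2.isClassFunction] at h2
  have h3 := memLocalIdeal_sub hM h2 h1
  rw [show (χ : G → ℂ) (z : G) = ∑ η ∈ U, a η * (η : C[P] → ℂ) k from hs] at h3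
  convert h3 using 1
  ring

open Classical in
/-- The degree congruences. -/
theorem degree_congr {θ : IrrCharacter C[P]} (hθ : θ ∈ b) (T : Subgroup G)
    (hT : ∀ g : G, g ∈ T ↔ g ∈ Subgroup.normalizer (P : Set G) ∧ StabilizesBlock C[P] b g)
    {χ : IrrCharacter G} (hχ : χ ∈ B) (d : ℤ)
    (hd : ∑ ξ ∈ b.toFinset, (classInner (fun k : C[P] => (χ : G → ℂ) k) (ξ : C[P] → ℂ) -
      classInner (fun k : C[P] => (χ : G → ℂ) k) (θ : C[P] → ℂ)) = (d : ℂ)) :
    (charDegree (χ : G → ℂ) : ℤ) ≡
      (T.relIndex (Subgroup.normalizer (P : Set G)) : ℤ) *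
        (charDegree (θ : C[P] → ℂ) : ℤ) * d [ZMOD p] := by
  obtain ⟨c, hc⟩ := (χ.2.isCharacter.comp (C[P]).subtype).exists_nat_classInner θ.2.isCharacter
  have hc' : classInner (fun k : C[P] => (χ : G → ℂ) k) (θ : C[P] → ℂ) = (c : ℂ) := hc
  rw [Finset.sum_sub_distrib, Finset.sum_const, nsmul_eq_mul, Set.toFinset_card,
    ← Nat.card_eq_fintype_card, root_card hM hB hD hcard hind, hc', sub_eq_iff_eq_add] at hd
  have h := apply_one_sub_mem hM hB hD hcard hind hθ T hT hχ
  rw [hd, apply_one_eq_charDegree, apply_one_eq_charDegree] at h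
  set r := T.relIndex (Subgroup.normalizer (P : Set G))
  set m := charDegree (θ : C[P] → ℂ)
  have h' : MemLocalIdeal M (((charDegree (χ : G → ℂ) : ℤ) - (r : ℤ) * m * (d + p * c) : ℤ) : ℂ) := by
    push_cast
    exact h
  have h2 := int_dvd_of_memLocalIdeal hM h'
  refine (Int.modEq_iff_dvd.2 ?_).symm
  have h3 := Int.dvd_add h2 (Dvd.intro ((r : ℤ) * m * c) rfl : (p : ℤ) ∣ p * ((r : ℤ) * m * c))
  convert h3 using 1
  ring

open Classical in
/-- The value at a section when a single block of the centralizer induces `B`. -/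
theorem apply_section_single {θ : IrrCharacter C[P]} (hθ : θ ∈ b)
    (hU : ∀ η ∈ indSet M C[P] B, η ∈ b) {χ : IrrCharacter G} (hχ : χ ∈ B) {d : ℂ}
    (hd : ∀ ξ ∈ b, ξ ≠ θ → classInner (fun k : C[P] => (χ : G → ℂ) k) (ξ : C[P] → ℂ) =
      classInner (fun k : C[P] => (χ : G → ℂ) k) (θ : C[P] → ℂ) + d)
    (k : C[P]) (hk : pPt p (k : G) ∈ P) (hk1 : ¬ IsPRegular p (k : G)) :
    (χ : G → ℂ) (k : G) = -d * (θ : C[P] → ℂ) k := by
  have D := cycSystem hM hB hD hcard hind
  have hUb : (indSet M C[P] B).toFinset = b.toFinset := by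
    ext η
    simp only [Set.mem_toFinset]
    exact ⟨hU η, fun h => D.mem_indSet hM h⟩
  have hsum : ∑ ξ ∈ b.toFinset, (ξ : C[P] → ℂ) k = 0 := by
    have h4 := sum_block_mul_conj_eq_zero hM (vInt_indVec hM hind.1) (g := k) (h := 1) (fun hcj => by
      rw [show pPt p (1 : C[P]) = 1 from (pPt_eq_one_iff _).2
        (by simp [(Fact.out : p.Prime).ne_one])] at hcj
      exact hk1 ((isPRegular_coe_iff k).2 ((pPt_eq_one_iff k).1 (isConj_one_left.1 hcj))))
    rw [finsum_mem_eq_toFinset_sum, Finset.sum_congr rfl fun ξ hξ => by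
      rw [root_apply_one hM hB hD hcard hind (Set.mem_toFinset.1 hξ) hθ], ← Finset.sum_mul,
      mul_eq_zero] at h4
    refine h4.resolve_right fun h => θ.2.apply_one_ne_zero ?_
    simpa using congrArg conj h
  rw [apply_section_eq hM hB hD hcard hind χ hχ k hk hk1, hUb,
    ← Finset.add_sum_erase _ _ (Set.mem_toFinset.2 hθ)]
  rw [← Finset.add_sum_erase _ _ (Set.mem_toFinset.2 hθ)] at hsum
  rw [Finset.sum_congr rfl fun ξ hξ => by
    rw [hd ξ (Set.mem_toFinset.1 (Finset.mem_erase.1 hξ).2) (Finset.mem_erase.1 hξ).1],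
    ← Finset.mul_sum, eq_neg_of_add_eq_zero_right hsum]
  ring

end Cfsg.Lib.Block
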