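import Cfsg.Agent.Lib.Block.Induced
import Cfsg.Agent.Lib.Block.Principal
import Cfsg.Agent.Lib.Char.Galois
import Cfsg.Agent.Lib.Core.Cores

/-!
# Defect groups and induced blocks

Defect groups of induced blocks, blocks with a normal defect group, the first main theorem, and
the values of central characters at elements with a given `p`-part.
-/

set_option autoImplicit false
set_option linter.unusedSectionVars false

namespace Cfsg.Lib.Block

open Cfsg
open scoped ComplexConjugate

universe u

variable {p : ℕ} {M : Ideal AlgInt} {G : Type u} [Group G] [Fintype G] [Fact p.Prime]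
  (hM : IsPModular p M)

/-! ## Elementary facts -/

include hM in
/-- An integral central element that is a unit at a character has a class where both factors are
units. -/
theorem exists_coeff_centralChar {v : IrrCharacter G → ℂ} (hv : VInt hM v) {χ : IrrCharacter G}
    (hne : ¬ MemLocalIdeal M (v χ)) : ∃ g : G, ¬ MemLocalIdeal M (zc v g) ∧
      ¬ MemLocalIdeal M (centralChar (χ : G → ℂ) g) := by
  classical
  haveI : Finite (ConjClasses G) := Quotient.finite _
  haveI := Fintype.ofFinite (ConjClasses G)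
  by_contra h
  simp only [not_exists, not_and, not_not] at h
  refine hne ?_
  rw [← congrFun (vec_zc v) χ, sum_mul_char_eq (fun g x => zc_conj_invariant v g x)]
  refine memLocalIdeal_sum hM _ _ fun C _ => ?_
  by_cases hC : MemLocalIdeal M (zc v C.out)
  · exact memLocalIdeal_mul_right hM hC (centralChar_mem_locRing hM χ _)
  · exact memLocalIdeal_mul_left hM (hv _) (h _ hC)

include hM in
/-- Character values only depend modulo `M` on the regular part. -/
theorem charVal_sub_pReg_mem {χ : G → ℂ} (hχ : IsCharacter G χ) (g : G) :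
    MemLocalIdeal M (χ g - χ (pReg p g)) := by
  obtain ⟨n, μ, hμ, hk⟩ := Char.exists_sum_roots hχ g
  obtain ⟨b, hb⟩ : ∃ b : ℕ, g ^ b = pReg p g :=
    mem_powers_iff_mem_zpowers.2 (pReg_mem_zpowers g)
  obtain ⟨a, ha⟩ : ∃ a : ℕ, g ^ a = pPt p g :=
    mem_powers_iff_mem_zpowers.2 (pPt_mem_zpowers g)
  obtain ⟨k, hpk⟩ := exists_pow_pPt (p := p) g
  have h1 := hk 1
  simp only [pow_one] at h1
  rw [← hb, h1, hk b, ← Finset.sum_sub_distrib]
  refine memLocalIdeal_sum hM _ _ fun i _ => ?_
  have e1 : μ i ^ (a + b) = μ i ^ 1 := by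
    have hg : g ^ (a + b) = g ^ 1 := by rw [pow_add, ha, hb, pPt_mul_pReg, pow_one]
    rw [pow_eq_pow_mod (a + b) (hμ i), pow_eq_pow_mod 1 (hμ i), pow_eq_pow_iff_modEq.1 hg]
  rw [pow_one, pow_add] at e1
  have e2 : (μ i ^ a) ^ p ^ k = 1 := by
    obtain ⟨c, hc⟩ := orderOf_dvd_of_pow_eq_one (show g ^ (a * p ^ k) = 1 by rw [pow_mul, ha, hpk])
    rw [← pow_mul, hc, pow_mul, hμ, one_pow]
  have := memLocalIdeal_mul_right hM (memLocalIdeal_sub_one_of_pow_prime_pow hM e2)
    (pow_mem (root_of_unity_mem_locRing hM (orderOf_pos g) (hμ i)) b)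
  rwa [sub_mul, one_mul, e1] at this

include hM in
/-- A block's defect bounds the degrees of its members from below. -/
theorem le_deg_factorization {B : Set (IrrCharacter G)} (hB : IsPBlock M B) {χ : IrrCharacter G}
    (hχ : χ ∈ B) : (Nat.card G).factorization p ≤
      blockDefect p B + (charDegree (χ : G → ℂ)).factorization p := by
  rw [← blockDefect_add_minVal (p := p) (nonempty_of_isPBlock hM hB)]
  exact Nat.add_le_add_left (minVal_le hχ) _

include hM in
/-- With a normal `p`-subgroup of order at least `p ^ d`, a block of defect `d` has central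
characters vanishing off the sections of that subgroup. -/
theorem centralChar_mem_ideal_of_normal_pPt {Q : Subgroup G} [Q.Normal] (hQ : IsPGroup p Q)
    {B : Set (IrrCharacter G)} (hB : IsPBlock M B) (hd : p ^ blockDefect p B ≤ Nat.card Q)
    {ξ : IrrCharacter G} (hξ : ξ ∈ B) {h : G} (hh : pPt p h ∉ Q) :
    MemLocalIdeal M (centralChar (ξ : G → ℂ) h) := by
  classical
  obtain ⟨ψ, hψB, hψ⟩ := exists_trivial_on_mem hM hQ hB
  obtain ⟨φ, hφ, hφψ⟩ := Char.exists_deflate_irr Q ψ.2 hψ
  haveI := Fintype.ofFinite (G ⧸ Q)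
  obtain ⟨k, hk⟩ := IsPGroup.iff_card.1 hQ
  have hp : p.Prime := Fact.out
  have hcard : Nat.card G = Nat.card (G ⧸ Q) * p ^ k := by
    rw [← hk]; exact Subgroup.card_eq_card_quotient_mul_card_subgroup Q
  have hd' : blockDefect p B ≤ k := (Nat.pow_le_pow_iff_right hp.one_lt).1 (hk ▸ hd)
  have hfull : (Nat.card (G ⧸ Q)).factorization p ≤
      (charDegree ((⟨φ, hφ⟩ : IrrCharacter (G ⧸ Q)) : G ⧸ Q → ℂ)).factorization p := by
    have h1 := le_deg_factorization hM hB hψB
    have e : charDegree (ψ : G → ℂ) = charDegree φ := by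
      simp only [charDegree, ← hφψ]; rfl
    rw [hcard, Nat.factorization_mul Nat.card_pos.ne' (pow_pos hp.pos _).ne', Finsupp.add_apply,
      hp.factorization_pow, Finsupp.single_eq_same, e] at h1
    show _ ≤ (charDegree φ).factorization p
    omega
  have hI := vInt_singleton hM (⟨φ, hφ⟩ : IrrCharacter (G ⧸ Q)) hfull
  have hdvd : p ∣ orderOf (h : G ⧸ Q) := by
    by_contra hn
    refine hh ((QuotientGroup.eq_one_iff _).1 ?_)
    obtain ⟨a, ha⟩ : ∃ a : ℕ, h ^ a = pPt p h :=
      mem_powers_iff_mem_zpowers.2 (pPt_mem_zpowers h)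
    obtain ⟨j, hj⟩ := exists_orderOf_pPt (p := p) h
    have h1 : orderOf ((pPt p h : G) : G ⧸ Q) ∣ p ^ j :=
      hj ▸ orderOf_map_dvd (QuotientGroup.mk' Q) (pPt p h)
    have h2 : orderOf ((pPt p h : G) : G ⧸ Q) ∣ orderOf (h : G ⧸ Q) := by
      rw [← ha, QuotientGroup.mk_pow]; exact orderOf_pow_dvd a
    exact orderOf_eq_one_iff.1 (Nat.eq_one_of_dvd_coprimes
      (Nat.Coprime.pow_left j (hp.coprime_iff_not_dvd.2 hn)) h1 h2)
  have h0 := blockCoeff_eq_zero_of_dvd hM hI hdvd
  rw [blockCoeff, finsum_mem_singleton, mul_eq_zero, inv_eq_zero, mul_eq_zero] at h0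
  have h3 : φ (h : G ⧸ Q) = 0 := by
    rcases h0 with h0 | h0 | h0
    · exact absurd h0 (Char.card_cast_ne_zero (G := G ⧸ Q))
    · exact absurd h0 hφ.apply_one_ne_zero
    · simpa using h0
  have := apply_sub_apply_mem hM (vInt_centralChar hM h) (sameBlock_of_mem hM hB hξ hψB)
  simp only [centralChar] at this ⊢
  rw [← hφψ] at this
  simpa [h3] using this

/-! ## Induced blocks and defect groups -/

variable {H : Subgroup G}

include hM in
open Classical in
/-- An induced central character, extended to all integral central elements. -/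
theorem vec_restrict_sub_mem [Fintype H] {b : Set (IrrCharacter H)} {B : Set (IrrCharacter G)}
    (hind : IsInducedBlock M H b B) {ξ : IrrCharacter H} (hξ : ξ ∈ b) {χ : IrrCharacter G}
    (hχ : χ ∈ B) {v : IrrCharacter G → ℂ} (hv : VInt hM v) :
    MemLocalIdeal M (vec (fun h : H => zc v h) ξ - v χ) := by
  haveI : Finite (ConjClasses G) := Quotient.finite _
  haveI := Fintype.ofFinite (ConjClasses G)
  have e : vec (fun h : H => zc v h) ξ =
      ∑ C : ConjClasses G, zc v C.out * inducedCentralChar H (ξ : H → ℂ) C.out := by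
    simp only [inducedCentralChar_eq, vec, mul_div_assoc', Finset.mul_sum, ← Finset.sum_div]
    rw [Finset.sum_comm]
    congr 1
    refine Finset.sum_congr rfl fun h _ => ?_
    have hiff : ∀ C : ConjClasses G, IsConj C.out (h : G) ↔ C = ConjClasses.mk (h : G) := fun C => by
      rw [← ConjClasses.mk_eq_mk_iff_isConj]
      constructor
      · intro hc; rw [← hc]; exact (Quotient.out_eq C).symm
      · intro hc; rw [← hc]; exact Quotient.out_eq C
    rw [Finset.sum_eq_single (ConjClasses.mk (h : G))]
    · rw [if_pos ((hiff _).2 rfl), one_mul, zc_eq_of_isConj v ((hiff _).2 rfl)]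
    · intro C _ hne
      rw [if_neg fun hc => hne ((hiff C).1 hc), zero_mul, mul_zero]
    · simp
  rw [e, ← congrFun (vec_zc v) χ, sum_mul_char_eq (fun g x => zc_conj_invariant v g x),
    ← Finset.sum_sub_distrib]
  refine memLocalIdeal_sum hM _ _ fun C _ => ?_
  rw [← mul_sub]
  exact memLocalIdeal_mul_left hM (hv _) (hind.2.2 ξ hξ χ hχ _)

include hM in
/-- Defect groups of a block lie below those of the induced block. -/
theorem exists_conj_le_of_induced [Fintype H] {b : Set (IrrCharacter H)}
    {B : Set (IrrCharacter G)} (hind : IsInducedBlock M H b B) {D : Subgroup H}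
    (hD : IsDefectGroup p M b D) {E : Subgroup G} (hE : IsDefectGroup p M B E) :
    ∃ x : G, (D.map H.subtype).map (MulAut.conj x).toMonoidHom ≤ E := by
  classical
  obtain ⟨ξ, hξ⟩ := nonempty_of_isPBlock hM hind.1
  obtain ⟨χ, hχ⟩ := nonempty_of_isPBlock hM hind.2.1
  have hc : IsClassFunction H (fun h : H => zc (indVec B) h) := fun h k =>
    zc_conj_invariant (indVec B) (h : G) (k : G)
  have hI := vInt_indVec hM hind.2.1
  have hne : ¬ MemLocalIdeal M (vec (fun h : H => zc (indVec B) h) ξ) := fun h => by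
    have := memLocalIdeal_sub hM h (vec_restrict_sub_mem hM hind hξ hχ hI)
    rw [sub_sub_cancel, indVec, if_pos hχ] at this
    exact not_memLocalIdeal_one hM this
  obtain ⟨h, h1, h2⟩ := exists_coeff_centralChar hM
    (fun k => by rw [zc_vec hc]; exact hI _) hne
  rw [zc_vec hc, zc_indVec] at h1
  obtain ⟨x, hx⟩ := exists_conj_le_of_centralChar hM hind.1 hD hξ h2 default
  set S : Subgroup H := D.map (MulAut.conj x).toMonoidHom with hS
  have hSle : S.map H.subtype ≤ Subgroup.centralizer ({(h : G)} : Set G) := by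
    rintro _ ⟨s, hs, rfl⟩
    refine Subgroup.mem_centralizer_iff.2 fun z hz => ?_
    rw [Set.mem_singleton_iff] at hz
    subst hz
    exact congrArg Subtype.val (Subgroup.mem_centralizer_iff.1 (cenSyl_le h default (hx hs)) h rfl)
  obtain ⟨y, hy⟩ := dClass_of_coeff hM hind.2.1 hE h1 _
    (((isPGroup_defectGroup hM hD).map (MulAut.conj x).toMonoidHom).map H.subtype) hSle
  refine ⟨y * x, ?_⟩
  rintro _ ⟨_, ⟨d, hd, rfl⟩, rfl⟩
  refine hy ⟨_, ⟨_, ⟨d, hd, rfl⟩, rfl⟩, ?_⟩
  simp [mul_assoc]

include hM in
/-- Some defect group of the induced block contains a given defect group. -/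
theorem exists_defectGroup_ge [Fintype H] {b : Set (IrrCharacter H)}
    {B : Set (IrrCharacter G)} (hind : IsInducedBlock M H b B) {D : Subgroup H}
    (hD : IsDefectGroup p M b D) :
    ∃ E : Subgroup G, IsDefectGroup p M B E ∧ D.map H.subtype ≤ E := by
  obtain ⟨E, hE⟩ := exists_defectGroup hM hind.2.1
  obtain ⟨x, hx⟩ := exists_conj_le_of_induced hM hind hD hE
  refine ⟨E.map (MulAut.conj x⁻¹).toMonoidHom, isDefectGroup_conj hM hind.2.1 hE x⁻¹, fun d hd => ?_⟩
  exact ⟨_, hx ⟨d, hd, rfl⟩, by simp [mul_assoc]⟩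

include hM in
theorem blockDefect_le_of_induced [Fintype H] {b : Set (IrrCharacter H)}
    {B : Set (IrrCharacter G)} (hind : IsInducedBlock M H b B) :
    blockDefect p b ≤ blockDefect p B := by
  obtain ⟨D, hD⟩ := exists_defectGroup hM hind.1
  obtain ⟨E, hE, hle⟩ := exists_defectGroup_ge hM hind hD
  have := Subgroup.card_le_of_le hle
  rw [Subgroup.card_map_of_injective (Subgroup.subtype_injective _), card_defectGroup hM hind.1 hD,
    card_defectGroup hM hind.2.1 hE] at this
  exact (Nat.pow_le_pow_iff_right (Fact.out : p.Prime).one_lt).1 this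

/-! ## Normalizers of defect groups -/

/-- Normalizer growth: a `p`-group above `D` with no larger normalizing part equals `D`. -/
theorem eq_of_normalizer_inf_le {D S : Subgroup G} (hS : IsPGroup p S) (hle : D ≤ S)
    (h : S ⊓ Subgroup.normalizer (D : Set G) ≤ D) : S = D := by
  refine le_antisymm ?_ hle
  haveI := hS.isNilpotent
  by_contra hn
  have hlt : D.subgroupOf S < ⊤ := lt_top_iff_ne_top.2 fun he => hn (Subgroup.subgroupOf_eq_top.1 he)
  obtain ⟨s, hs, hs'⟩ := SetLike.exists_of_lt (normalizerCondition_of_isNilpotent _ hlt)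
  refine hs' (Subgroup.mem_subgroupOf.2 (h ⟨s.2, Subgroup.mem_normalizer_iff.2 fun d => ?_⟩))
  rw [Subgroup.mem_normalizer_iff] at hs
  constructor
  · intro hd
    exact Subgroup.mem_subgroupOf.1 ((hs ⟨d, hle hd⟩).1 (Subgroup.mem_subgroupOf.2 hd))
  · intro hd
    have hdS : d ∈ S := by
      have := S.mul_mem (S.mul_mem (S.inv_mem s.2) (hle hd)) s.2
      simpa [mul_assoc] using this
    exact Subgroup.mem_subgroupOf.1 ((hs ⟨d, hdS⟩).2 (Subgroup.mem_subgroupOf.2 hd))

/-- `y` in the centralizer of `D` has `D` as a maximal `p`-subgroup of its centralizer. -/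
theorem eq_of_dClass_normalizer {D : Subgroup G}
    {y : Subgroup.normalizer (D : Set G)}
    (hy : DClass p (D.subgroupOf (Subgroup.normalizer (D : Set G))) y) {S : Subgroup G}
    (hS : IsPGroup p S) (hSy : S ≤ Subgroup.centralizer ({(y : G)} : Set G)) (hDS : D ≤ S) :
    S = D := by
  set N := Subgroup.normalizer (D : Set G) with hN
  refine eq_of_normalizer_inf_le hS hDS ?_
  have h1 : IsPGroup p ((S ⊓ N).subgroupOf N) :=
    (hS.to_le inf_le_left).comap_subtype
  obtain ⟨x, hx⟩ := hy _ h1 (fun s hs => Subgroup.mem_centralizer_iff.2 fun z hz => by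
    rw [Set.mem_singleton_iff] at hz
    subst hz
    exact Subtype.ext (Subgroup.mem_centralizer_iff.1 (hSy (Subgroup.mem_subgroupOf.1 hs).1) _ rfl))
  have h2 : Nat.card (S ⊓ N : Subgroup G) ≤ Nat.card D := by
    have h3 := Subgroup.card_le_of_le hx
    rw [Subgroup.card_map_of_injective (MulAut.conj x).injective,
      Nat.card_congr (Subgroup.subgroupOfEquivOfLe (inf_le_right : S ⊓ N ≤ N)).toEquiv,
      Nat.card_congr (Subgroup.subgroupOfEquivOfLe (Subgroup.le_normalizer : D ≤ N)).toEquiv] at h3
    exact h3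
  exact (Subgroup.eq_of_le_of_card_ge (le_inf hDS Subgroup.le_normalizer) h2).ge

/-- The classes in the centralizer of `D` with `D` a Sylow subgroup of their centralizers fuse
only inside the normalizer. -/
theorem isConj_normalizer_of_isConj {D : Subgroup G} (hD : IsPGroup p D) {y h : G}
    (hy : y ∈ Subgroup.centralizer (D : Set G)) (hh : h ∈ Subgroup.centralizer (D : Set G))
    (hmax : ∀ S : Subgroup G, IsPGroup p S → S ≤ Subgroup.centralizer ({y} : Set G) → D ≤ S → S = D)
    (hc : IsConj y h) : ∃ n ∈ Subgroup.normalizer (D : Set G), n * y * n⁻¹ = h := by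
  have hDy := mem_centralizer_singleton_of hy
  obtain ⟨Q, hQ⟩ := (hD.comap_subtype (K := Subgroup.centralizer ({y} : Set G))).exists_le_sylow
  have hQD : cenSyl y Q = D := hmax _ (isPGroup_cenSyl y Q) (cenSyl_le y Q) fun d hd =>
    ⟨⟨d, hDy hd⟩, hQ (Subgroup.mem_subgroupOf.2 hd), rfl⟩
  obtain ⟨t, rfl⟩ := isConj_iff.1 hc
  have h1 : D.map (MulAut.conj t⁻¹).toMonoidHom ≤ Subgroup.centralizer ({y} : Set G) := by
    have := map_conj_le_centralizer (mem_centralizer_singleton_of hh) t⁻¹
    rwa [show t⁻¹ * (t * y * t⁻¹) * t⁻¹⁻¹ = y by group] at this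
  obtain ⟨c, hc', hle⟩ := exists_conj_le_cenSyl Q (hD.map _) h1
  rw [hQD, map_conj_map_conj] at hle
  refine ⟨t * c⁻¹, ?_, ?_⟩
  · have e := Subgroup.eq_of_le_of_card_ge hle
      (by rw [Subgroup.card_map_of_injective (MulAut.conj _).injective])
    have h2 : c * t⁻¹ ∈ Subgroup.normalizer (D : Set G) := by
      refine Subgroup.mem_normalizer_iff.2 fun d => ?_
      constructor
      · intro hd
        exact e.le ⟨d, hd, by simp [mul_assoc]⟩
      · intro hd
        obtain ⟨d', hd', he⟩ := e.ge hd
        have : d' = d := by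
          have := (MulAut.conj (c * t⁻¹)).injective
            (show MulAut.conj (c * t⁻¹) d' = MulAut.conj (c * t⁻¹) d by simpa [mul_assoc] using he)
          exact this
        exact this ▸ hd'
    have := inv_mem h2
    rwa [mul_inv_rev, inv_inv] at this
  · have h3 : y * c = c * y := Subgroup.mem_centralizer_iff.1 hc' y rfl
    calc t * c⁻¹ * y * (t * c⁻¹)⁻¹ = t * (c⁻¹ * (y * c)) * t⁻¹ := by group
      _ = t * y * t⁻¹ := by rw [h3]; group

variable {D : Subgroup G}

include hM in
open Classical in
/-- At classes with defect group `D`, the Brauer map is bijective. -/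
theorem brauerCentralChar_eq_centralChar [Fintype (Subgroup.normalizer (D : Set G))]
    (hD : IsPGroup p D) (ξ : IrrCharacter (Subgroup.normalizer (D : Set G)))
    {y : Subgroup.normalizer (D : Set G)} (hy : (y : G) ∈ Subgroup.centralizer (D : Set G))
    (hy' : DClass p (D.subgroupOf (Subgroup.normalizer (D : Set G))) y) :
    brauerCentralChar D (Subgroup.normalizer (D : Set G))
      (ξ : Subgroup.normalizer (D : Set G) → ℂ) (y : G) =
      centralChar (ξ : Subgroup.normalizer (D : Set G) → ℂ) y := by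
  have hset : (Set.toFinite {h : (Subgroup.normalizer (D : Set G)) | IsConj (y : G) (h : G) ∧
      (h : G) ∈ Subgroup.centralizer (D : Set G)}).toFinset = Char.classFinset y := by
    ext h
    rw [Set.Finite.mem_toFinset, Set.mem_setOf_eq, Char.mem_classFinset]
    constructor
    · rintro ⟨hc, hh⟩
      obtain ⟨n, hn, he⟩ := isConj_normalizer_of_isConj hD hy hh
        (fun S hS hSy hDS => eq_of_dClass_normalizer hy' hS hSy hDS) hc
      exact isConj_iff.2 ⟨⟨n, hn⟩, Subtype.ext he⟩
    · intro hc
      obtain ⟨n, hn⟩ := isConj_iff.1 hc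
      subst hn
      exact ⟨isConj_iff.2 ⟨(n : G), rfl⟩, centralizer_conj_mem n.2 hy⟩
  rw [brauerCentralChar, finsum_mem_eq_finite_toFinset_sum _ (Set.toFinite _), hset,
    Char.sum_classFinset (f := fun h : (Subgroup.normalizer (D : Set G)) => (ξ : (Subgroup.normalizer (D : Set G)) → ℂ) h / (ξ : (Subgroup.normalizer (D : Set G)) → ℂ) 1)
      (fun h k => by simp only [ξ.2.isClassFunction h k]),
    Char.card_classFinset, centralChar, mul_div_assoc]

include hM in
/-- A block with defect group `D` has a corresponding block of the normalizer. -/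
theorem exists_normalizer_block [Fintype (Subgroup.normalizer (D : Set G))]
    {B : Set (IrrCharacter G)} (hB : IsPBlock M B) (hD : IsDefectGroup p M B D) :
    ∃ b : Set (IrrCharacter (Subgroup.normalizer (D : Set G))),
      IsInducedBlock M (Subgroup.normalizer (D : Set G)) b B ∧
        IsDefectGroup p M b (D.subgroupOf (Subgroup.normalizer (D : Set G))) ∧
        (Cfsg.pCore p (Subgroup.normalizer (D : Set G))).map
          (Subgroup.normalizer (D : Set G)).subtype = D := by
  classical
  set N := Subgroup.normalizer (D : Set G) with hN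
  have hDp := isPGroup_defectGroup hM hD
  have hCN : Subgroup.centralizer (D : Set G) ≤ N := Subgroup.centralizer_le_normalizer _
  obtain ⟨ξ, hξ⟩ := (exists_brVec_iff_coeff hM hDp hCN le_rfl hB).2
    ((exists_coeff_iff_conj_le hM hB hD hDp).2 ⟨1, fun x ⟨d, hd, he⟩ => by
      subst he; simpa using hd⟩)
  obtain ⟨χ, hχ⟩ := exists_char_brauer hM hDp hCN le_rfl ξ
  have hmem : χ ∈ B := by
    by_contra hn
    have := hχ _ (vInt_indVec hM hB)
    rw [hξ, indVec, if_neg hn, res_zero] at this
    exact one_ne_zero this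
  have hb : IsPBlock M (blockOf M (ξ : N → ℂ)) := isPBlock_blockOf ξ
  have hind : IsInducedBlock M N (blockOf M (ξ : N → ℂ)) B :=
    isInducedBlock_of_brRel hM hDp Subgroup.le_normalizer hCN le_rfl hb
      (self_mem_blockOf hM ξ) hB hmem hχ
  obtain ⟨E, hE⟩ := exists_defectGroup hM hb
  obtain ⟨g, hg, S, hS⟩ := isDefectGroup_iff.1 hE
  -- the normal p-core is inside every defect group
  have hcore : Cfsg.pCore p N ≤ E := by
    have hgC : g ∈ Subgroup.centralizer (Cfsg.pCore p N : Set N) := by
      by_contra hn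
      exact hg.2.1 (blockCoeff_eq_zero_of_notMem hM (Lib.Core.pCore_isPGroup p N) hb hn ▸
        memLocalIdeal_zero hM)
    obtain ⟨x, -, hle⟩ := exists_conj_le_cenSyl S (Lib.Core.pCore_isPGroup p N)
      (mem_centralizer_singleton_of hgC)
    intro y hy
    rw [hS]
    refine hle ⟨x⁻¹ * y * x, ?_, by simp [mul_assoc]⟩
    simpa using Subgroup.Normal.conj_mem inferInstance y hy x⁻¹
  haveI : (D.subgroupOf N).Normal := Subgroup.normal_in_normalizer
  have hDcore : D.subgroupOf N ≤ Cfsg.pCore p N :=
    Lib.Core.le_pCore (hDp.comap_subtype) 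
  obtain ⟨E', hE', hle⟩ := exists_defectGroup_ge hM hind hE
  have hcard : Nat.card E ≤ Nat.card (D.subgroupOf N) := by
    rw [Nat.card_congr (Subgroup.subgroupOfEquivOfLe (Subgroup.le_normalizer : D ≤ N)).toEquiv,
      ← Subgroup.card_map_of_injective (K := E) (Subgroup.subtype_injective N),
      card_defectGroup hM hB hD, ← card_defectGroup hM hB hE']
    exact Subgroup.card_le_of_le hle
  have hEq : D.subgroupOf N = E := Subgroup.eq_of_le_of_card_ge (hDcore.trans hcore) hcard
  refine ⟨_, hind, hEq ▸ hE, ?_⟩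
  rw [show Cfsg.pCore p N = D.subgroupOf N from
    le_antisymm (hEq ▸ hcore) hDcore, Subgroup.map_subgroupOf_eq_of_le Subgroup.le_normalizer]

include hM in
/-- A block of the normalizer with defect group `D` induces a block with defect group `D`. -/
theorem isDefectGroup_of_normalizer_block [Fintype (Subgroup.normalizer (D : Set G))]
    (hDp : IsPGroup p D) {b : Set (IrrCharacter (Subgroup.normalizer (D : Set G)))}
    (hbD : IsDefectGroup p M b (D.subgroupOf (Subgroup.normalizer (D : Set G))))
    {B : Set (IrrCharacter G)} (hind : IsInducedBlock M (Subgroup.normalizer (D : Set G)) b B) :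
    IsDefectGroup p M B D := by
  classical
  set N := Subgroup.normalizer (D : Set G) with hN
  have hCN : Subgroup.centralizer (D : Set G) ≤ N := Subgroup.centralizer_le_normalizer _
  obtain ⟨y, hy, S, hS⟩ := isDefectGroup_iff.1 hbD
  obtain ⟨ξ, hξ⟩ := nonempty_of_isPBlock hM hind.1
  obtain ⟨χ, hχ⟩ := nonempty_of_isPBlock hM hind.2.1
  have hdy : DClass p (D.subgroupOf N) y := hS ▸ dClass_cenSyl y S
  have hyC : (y : G) ∈ Subgroup.centralizer (D : Set G) := by
    refine mem_centralizer_of_le fun d hd => Subgroup.mem_centralizer_iff.2 fun z hz => ?_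
    rw [Set.mem_singleton_iff] at hz
    subst hz
    have hmem : (⟨d, Subgroup.le_normalizer hd⟩ : N) ∈ cenSyl y S :=
      hS ▸ (Subgroup.mem_subgroupOf.2 hd)
    exact congrArg Subtype.val (Subgroup.mem_centralizer_iff.1 (cenSyl_le y S hmem) y rfl)
  have hrel := (brRel_iff_centralChar hM hDp hCN le_rfl ξ χ).1
    (brRel_of_isInducedBlock hM hDp Subgroup.le_normalizer hCN le_rfl hind hξ hχ) (y : G)
  rw [brauerCentralChar_eq_centralChar hM hDp ξ hyC hdy] at hrel
  have hne : ¬ MemLocalIdeal M (centralChar (χ : G → ℂ) (y : G)) := fun h => hy.2.2 ξ hξ (by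
    have := memLocalIdeal_add hM hrel h
    rwa [sub_add_cancel] at this)
  obtain ⟨Q, hQ⟩ :=
    (hDp.comap_subtype (K := Subgroup.centralizer ({(y : G)} : Set G))).exists_le_sylow
  have hQD : cenSyl (y : G) Q = D :=
    eq_of_dClass_normalizer hdy (isPGroup_cenSyl _ Q) (cenSyl_le _ Q) fun d hd =>
      ⟨⟨d, mem_centralizer_singleton_of hyC hd⟩, hQ (Subgroup.mem_subgroupOf.2 hd), rfl⟩
  obtain ⟨E, hE, hle⟩ := exists_defectGroup_ge hM hind hbD
  rw [Subgroup.map_subgroupOf_eq_of_le Subgroup.le_normalizer] at hle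
  obtain ⟨x, hx⟩ := exists_conj_le_of_centralChar hM hind.2.1 hE hχ hne Q
  have hc := Subgroup.card_le_of_le hx
  rw [Subgroup.card_map_of_injective (MulAut.conj x).injective, hQD] at hc
  rwa [Subgroup.eq_of_le_of_card_ge hle hc]

include hM in
/-- Blocks of the normalizer with defect group `D` inducing the same block coincide. -/
theorem normalizer_block_unique [Fintype (Subgroup.normalizer (D : Set G))] (hDp : IsPGroup p D)
    {b b' : Set (IrrCharacter (Subgroup.normalizer (D : Set G)))}
    (hbD : IsDefectGroup p M b (D.subgroupOf (Subgroup.normalizer (D : Set G))))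
    {B : Set (IrrCharacter G)} (hind : IsInducedBlock M (Subgroup.normalizer (D : Set G)) b B)
    (hind' : IsInducedBlock M (Subgroup.normalizer (D : Set G)) b' B) : b' = b := by
  classical
  haveI : (D.subgroupOf (Subgroup.normalizer (D : Set G))).Normal := Subgroup.normal_in_normalizer
  have hCN : Subgroup.centralizer (D : Set G) ≤ (Subgroup.normalizer (D : Set G)) := Subgroup.centralizer_le_normalizer _
  obtain ⟨χ, hχ⟩ := nonempty_of_isPBlock hM hind.2.1
  obtain ⟨ξ, hξ⟩ := nonempty_of_isPBlock hM hind.1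
  obtain ⟨ξ', hξ'⟩ := nonempty_of_isPBlock hM hind'.1
  have hI := vInt_indVec hM hind.1
  haveI : Finite (ConjClasses (Subgroup.normalizer (D : Set G))) := Quotient.finite _
  haveI := Fintype.ofFinite (ConjClasses (Subgroup.normalizer (D : Set G)))
  have key : MemLocalIdeal M (indVec b ξ - indVec b ξ') := by
    rw [← congrFun (vec_zc (indVec b)) ξ, ← congrFun (vec_zc (indVec b)) ξ',
      sum_mul_char_eq (fun g x => zc_conj_invariant (indVec b) g x),
      sum_mul_char_eq (fun g x => zc_conj_invariant (indVec b) g x), ← Finset.sum_sub_distrib]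
    refine memLocalIdeal_sum hM _ _ fun C _ => ?_
    rw [← mul_sub]
    set y : (Subgroup.normalizer (D : Set G)) := C.out with hy
    by_cases hu : MemLocalIdeal M (zc (indVec b) y)
    · exact memLocalIdeal_mul_right hM hu
        (sub_mem (centralChar_mem_locRing hM ξ y) (centralChar_mem_locRing hM ξ' y))
    refine memLocalIdeal_mul_left hM (hI _) ?_
    rw [zc_indVec] at hu
    have hdy := dClass_of_coeff hM hind.1 hbD hu
    have hyC : (y : G) ∈ Subgroup.centralizer (D : Set G) := by
      by_contra hn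
      refine hu ?_
      rw [blockCoeff_eq_zero_of_notMem hM (Q := D.subgroupOf (Subgroup.normalizer (D : Set G)))
        hDp.comap_subtype hind.1
        fun h => hn (Subgroup.mem_centralizer_iff.2 fun d hd =>
          congrArg Subtype.val (Subgroup.mem_centralizer_iff.1 h ⟨d, Subgroup.le_normalizer hd⟩
            (Subgroup.mem_subgroupOf.2 hd)))]
      exact memLocalIdeal_zero hM
    have h1 := (brRel_iff_centralChar hM hDp hCN le_rfl ξ χ).1
      (brRel_of_isInducedBlock hM hDp Subgroup.le_normalizer hCN le_rfl hind hξ hχ) (y : G)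
    have h2 := (brRel_iff_centralChar hM hDp hCN le_rfl ξ' χ).1
      (brRel_of_isInducedBlock hM hDp Subgroup.le_normalizer hCN le_rfl hind' hξ' hχ) (y : G)
    rw [brauerCentralChar_eq_centralChar hM hDp _ hyC hdy] at h1 h2
    have := memLocalIdeal_sub hM h1 h2
    rwa [sub_sub_sub_cancel_right] at this
  refine isPBlock_eq_of_mem hM hind'.1 hind.1 hξ' ?_
  by_contra hn
  simp only [indVec, if_pos hξ, if_neg hn, sub_zero] at key
  exact not_memLocalIdeal_one hM key

end Cfsg.Lib.Block
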