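import Cfsg.Agent.Lib.Block.LocalTransfer
import Cfsg.Agent.Lib.FusionSys.Criterion

/-!
# The fusion system of a block
-/

set_option autoImplicit false
set_option linter.unusedSectionVars false
set_option maxHeartbeats 800000

namespace Cfsg.Lib.Block

open Cfsg Cfsg.FusionSystem

universe u

variable {p : ℕ} {M : Ideal AlgInt} {G : Type u} [Group G] [Fintype G] [Fact p.Prime]

noncomputable local instance (priority := high) fintypeSubgroupBlockFusionSys (H : Subgroup G) :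
    Fintype H := Fintype.ofFinite H

local notation "C[" Q "]" => Subgroup.centralizer (SetLike.coe Q)

variable (hM : IsPModular p M)

theorem conjIdx_of_mem {P : Subgroup G} {g : G} (hg : g ∈ P) (e : Set (IrrCharacter C[P])) :
    conjIdx g ⟨P, e⟩ = ⟨P, e⟩ := by
  have hn : g ∈ Subgroup.normalizer (P : Set G) := Subgroup.le_normalizer hg
  rw [conjIdx_eq (map_conj_eq_self hn)]
  refine Sigma.ext rfl (heq_of_eq (eq_of_subgroupBlockCoeff_eq fun y => ?_))
  obtain ⟨k, rfl⟩ : ∃ k, g * k * g⁻¹ = y := ⟨g⁻¹ * y * g, by group⟩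
  rw [subgroupBlockCoeff_conjSet]
  by_cases hk : k ∈ C[P]
  · rw [Subgroup.mem_centralizer_iff.1 hk g hg, mul_inv_cancel_right]
  · simp only [subgroupBlockCoeff]
    rw [dif_neg hk, dif_neg fun h => hk ((centralizer_conj_mem_iff hn).1 h)]

include hM in
/-- The fusion system of a block exists. -/
theorem exists_blockFusion {B : Set (IrrCharacter G)} {P : Subgroup G}
    {e : Set (IrrCharacter C[P])} (hmax : IsMaximalBrauerPair p M B P e) :
    ∃ F : FusionSystem P, IsBlockFusionSystemOn p M B P e F := by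
  have hPe := hmax.1.1
  refine ⟨{
    Hom := fun Q => {φ | Q ≤ P ∧ ∃ g : G, (∀ u : Q, φ u = g * (u : G) * g⁻¹) ∧
        Q.map (MulAut.conj g).toMonoidHom ≤ P ∧
        ∃ f : Set (IrrCharacter C[Q]),
          SubpairLE p M Q f P e ∧
            SubpairLE p M (Q.map (MulAut.conj g).toMonoidHom) (conjBlock Q g f) P e}
    le_of_mem := ?_
    injective_of_mem := ?_
    conj_mem := ?_
    comp_mem := ?_
    inv_mem := ?_ }, hmax, fun Q φ => Iff.rfl⟩
  · rintro Q φ ⟨hQ, g, hg, hle, -⟩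
    exact ⟨hQ, fun x => hle ⟨x, x.2, (hg x).symm⟩⟩
  · rintro Q φ ⟨-, g, hg, -⟩ x y hxy
    rw [hg, hg] at hxy
    exact Subtype.ext (mul_left_cancel (mul_right_cancel hxy))
  · intro Q g hQ hg
    obtain ⟨f, -, hf⟩ := exists_subpair hM hPe hQ
    refine ⟨hQ, g, fun u => rfl, ?_, f, hf, ?_⟩
    · rintro _ ⟨x, hx, rfl⟩
      exact mul_mem (mul_mem hg (hQ hx)) (inv_mem hg)
    · have h := rel_conjIdx hM g (a := ⟨Q, f⟩) (b := ⟨P, e⟩) hf
      rw [conjIdx_of_mem hg] at h
      exact h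
  · rintro R Q φ ψ ⟨hR, g, hg, -, f, hf, hgf⟩ ⟨hQ, h, hh, -, f', hf', hhf⟩ hv
    have hRQ : R.map (MulAut.conj g).toMonoidHom ≤ Q := by
      rintro _ ⟨x, hx, rfl⟩
      have := hv ⟨x, hx⟩
      rwa [hg] at this
    have hQe : IsBrauerPair p M Q f' := isBrauerPair_of_le hf' hPe
    obtain ⟨f₁, -, hf₁⟩ := exists_subpair hM hQe hRQ
    have e1 : f₁ = conjBlock R g f := subpair_unique hM hPe (hf₁.trans hf') hgf
    subst e1
    have h1 : Relation.ReflTransGen (NormalSubpairRel p M) (conjIdx h (conjIdx g ⟨R, f⟩))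
        (conjIdx h ⟨Q, f'⟩) :=
      rel_conjIdx hM h (a := conjIdx g ⟨R, f⟩) (b := ⟨Q, f'⟩) hf₁
    have h2 : Relation.ReflTransGen (NormalSubpairRel p M) (conjIdx (h * g) ⟨R, f⟩) ⟨P, e⟩ := by
      rw [← conjIdx_mul]
      exact h1.trans hhf
    refine ⟨hR, h * g, fun u => ?_, le_of_rel h2, f, hf, h2⟩
    show ψ ⟨φ u, hv u⟩ = _
    rw [hh]
    show h * φ u * h⁻¹ = _
    rw [hg, mul_inv_rev]
    simp only [mul_assoc]
  · intro R φ hφ
    obtain ⟨hR, g, hg, hle, f, hf, hgf⟩ := hφ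
    have hr : φ.range = R.map (MulAut.conj g).toMonoidHom := by
      ext y
      constructor
      · rintro ⟨x, rfl⟩
        exact ⟨x, x.2, (hg x).symm⟩
      · rintro ⟨x, hx, rfl⟩
        exact ⟨⟨x, hx⟩, hg _⟩
    obtain ⟨f', hf'⟩ : ∃ f' : Set (IrrCharacter C[φ.range]),
        conjIdx g ⟨R, f⟩ = ⟨φ.range, f'⟩ := ⟨_, conjIdx_eq hr.symm f⟩
    have h1 : SubpairLE p M φ.range f' P e := by
      show Relation.ReflTransGen _ _ _
      rw [← hf']
      exact hgf
    have h2 : Relation.ReflTransGen (NormalSubpairRel p M)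
        (conjIdx g⁻¹ ⟨φ.range, f'⟩) ⟨P, e⟩ := by
      rw [← hf', conjIdx_mul, inv_mul_cancel, conjIdx_one]
      exact hf
    refine ⟨conjHom _ g⁻¹, ⟨subpairLE_le h1, g⁻¹, fun u => rfl, le_of_rel h2, f', h1, h2⟩,
      fun x => ?_⟩
    show g⁻¹ * φ x * g⁻¹⁻¹ = _
    rw [hg]
    group

variable {B : Set (IrrCharacter G)} {P : Subgroup G} {e : Set (IrrCharacter C[P])}
  {F : FusionSystem P}

include hM in
/-- The automorphisms of `P` in the system come from the stabilizer of the maximal pair. -/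
theorem autGroup_blockFusion {T : Subgroup G} (hF : IsBlockFusionSystemOn p M B P e F)
    (hT : ∀ y : G, y ∈ T ↔ y ∈ Subgroup.normalizer (P : Set G) ∧ StabilizesBlock C[P] e y) :
    F.autGroup P = autInducedBy T P := by
  have hPe := hF.1.1.1
  ext α
  rw [FusionSys.mem_autGroup le_rfl, FusionSys.mem_autInducedBy, FusionSys.IsoIn, hF.2]
  constructor
  · rintro ⟨-, g, hg, -, f, hf, hgf⟩
    have hfe : f = e := subpair_unique hM hPe hf Relation.ReflTransGen.refl
    subst hfe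
    have hgN : g ∈ Subgroup.normalizer (P : Set G) :=
      FusionSys.mem_normalizer_of_aut (α := α) hg
    refine ⟨g, (hT g).2 ⟨hgN, ?_⟩, hg⟩
    rw [stabilizesBlock_iff (mem_normalizer_centralizer hgN)]
    have h1 : Relation.ReflTransGen (NormalSubpairRel p M) (conjIdx g ⟨P, f⟩) ⟨P, f⟩ := hgf
    rw [conjIdx_eq (map_conj_eq_self hgN)] at h1
    exact subpair_unique hM hPe h1 Relation.ReflTransGen.refl
  · rintro ⟨g, hgT, hg⟩
    obtain ⟨hgN, hst⟩ := (hT g).1 hgT
    refine ⟨le_rfl, g, hg, (map_conj_eq_self hgN).le, e, Relation.ReflTransGen.refl, ?_⟩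
    have h1 : conjIdx g ⟨P, e⟩ = ⟨P, e⟩ := by
      rw [conjIdx_eq (map_conj_eq_self hgN)]
      exact Sigma.ext rfl (heq_of_eq
        ((stabilizesBlock_iff (mem_normalizer_centralizer hgN)).1 hst))
    show Relation.ReflTransGen (NormalSubpairRel p M) (conjIdx g ⟨P, e⟩) ⟨P, e⟩
    rw [h1]

include hM in
theorem isFullyAutomized_blockFusion_top (hF : IsBlockFusionSystemOn p M B P e F) :
    F.IsFullyAutomized p P := by
  classical
  have hPe := hF.1.1.1
  let T : Subgroup G := Subgroup.normalizer (P : Set G) ⊓ invStab (indVec e)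
  have hT : ∀ y : G, y ∈ T ↔ y ∈ Subgroup.normalizer (P : Set G) ∧
      StabilizesBlock C[P] e y := fun y => by
    refine and_congr_right fun hy => ?_
    rw [stabilizesBlock_iff_coeff (mem_normalizer_centralizer hy), ← extF_indVec]
    rfl
  obtain ⟨hPT, F₀, hloc, -⟩ := exists_isLocalBlock hM hPe.1 hPe.2 hT
  refine ⟨le_rfl, ?_⟩
  rw [autGroup_blockFusion hM hF hT]
  let f : T →* autInducedBy T P :=
    (P.normalizerMonoidHom.comp (Subgroup.inclusion fun x hx => hloc.le hx)).codRestrict _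
      fun x => FusionSys.conjAut_mem_autInducedBy (hloc.le x.2) x.2
  have hf : Function.Surjective f := by
    rintro ⟨α, hα⟩
    obtain ⟨g, hg, h⟩ := FusionSys.mem_autInducedBy.1 hα
    exact ⟨⟨g, hg⟩, Subtype.ext (MulEquiv.ext fun x => Subtype.ext (h x).symm)⟩
  let X : Subgroup (autInducedBy T P) := (autInducedBy P P).subgroupOf (autInducedBy T P)
  have hX : IsPGroup p X := (FusionSys.isPGroup_autInducedBy hPe.1).comap_subtype
  have hmap : ((P ⊔ C[P]).subgroupOf T).map f = X := by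
    apply le_antisymm
    · rintro _ ⟨x, hx, rfl⟩
      have hx' : (x : G) ∈ P ⊔ C[P] := Subgroup.mem_subgroupOf.1 hx
      rw [← SetLike.mem_coe, Subgroup.coe_mul_of_left_le_normalizer_right P C[P]
        (fun y hy => mem_normalizer_centralizer (Subgroup.le_normalizer hy))] at hx'
      obtain ⟨a, ha, c, hc, hac⟩ := Set.mem_mul.1 hx'
      refine Subgroup.mem_subgroupOf.2 (FusionSys.mem_autInducedBy.2 ⟨a, ha, fun z => ?_⟩)
      show (x : G) * (z : G) * (x : G)⁻¹ = _
      rw [← hac, mul_inv_rev, mul_assoc a c, ← Subgroup.mem_centralizer_iff.1 hc _ z.2]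
      group
    · rintro ⟨α, hα⟩ hαX
      obtain ⟨a, ha, h⟩ := FusionSys.mem_autInducedBy.1 (Subgroup.mem_subgroupOf.1 hαX)
      exact ⟨⟨a, hPT ha⟩, Subgroup.mem_subgroupOf.2 (Subgroup.mem_sup_left ha),
        Subtype.ext (MulEquiv.ext fun x => Subtype.ext (h x).symm)⟩
  have hker : f.ker ≤ (P ⊔ C[P]).subgroupOf T := by
    intro x hx
    refine Subgroup.mem_subgroupOf.2 (Subgroup.mem_sup_right
      (Subgroup.mem_centralizer_iff.2 fun z hz => ?_))
    have h1 : f x = 1 := MonoidHom.mem_ker.1 hx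
    have h2 : (x : G) * z * (x : G)⁻¹ = z :=
      congrArg (fun a : autInducedBy T P => (((a : MulAut P) ⟨z, hz⟩ : P) : G)) h1
    exact (mul_inv_eq_iff_eq_mul.1 h2).symm
  have hidx : ¬ p ∣ X.index := by
    rw [← hmap, Subgroup.index_map_eq _ hf hker]
    exact not_dvd_relIndex_of_maximal hM hF.1 hT
  exact ⟨hX.toSylow hidx, rfl⟩

include hM in
/-- Fully normalized subgroups are receptive. -/
theorem isReceptive_blockFusion (hF : IsBlockFusionSystemOn p M B P e F) {Q : Subgroup G}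
    (hQ : F.IsFullyNormalized Q) : F.IsReceptive Q := by
  classical
  have hmax := hF.1
  have hPe := hmax.1.1
  refine ⟨hQ.1, fun R φ hφ hr => ?_⟩
  obtain ⟨hR, g, hg, -, fR, hfR, hgfR⟩ := (hF.2 R φ).1 hφ
  have hRg : R.map (MulAut.conj g).toMonoidHom = Q := by
    rw [← hr]
    ext y
    constructor
    · rintro ⟨x, hx, rfl⟩
      exact ⟨⟨x, hx⟩, hg _⟩
    · rintro ⟨x, rfl⟩
      exact ⟨x, x.2, (hg x).symm⟩
  obtain ⟨f, hf⟩ : ∃ f : Set (IrrCharacter C[Q]), conjIdx g ⟨R, fR⟩ = ⟨Q, f⟩ :=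
    ⟨_, conjIdx_eq hRg fR⟩
  have hle : SubpairLE p M Q f P e := by
    show Relation.ReflTransGen _ _ _
    rw [← hf]
    exact hgfR
  have hQf : IsBrauerPair p M Q f := isBrauerPair_of_le hle hPe
  let N : Subgroup G := P ⊓ Subgroup.normalizer (Q : Set G)
  let L : Subgroup G := N ⊔ C[Q]
  have hLN : L ≤ Subgroup.normalizer (Q : Set G) :=
    sup_le inf_le_right (Subgroup.centralizer_le_normalizer _)
  have hNL : N ≤ L := le_sup_left
  have hQL : Q ≤ L := (le_inf hQ.1 Subgroup.le_normalizer).trans hNL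
  have hinv : InvOn L C[Q] (indVec f) := invOn_iff_le_invStab.2 (sup_le
    (fun y hy g' => (invOn_indVec_iff (S := N) fun z hz => mem_normalizer_centralizer hz.2).2
      (fun z hz => inf_normalizer_le_stab hM hPe hle hz) y hy g')
    (le_invStab_self _))
  obtain ⟨F₀, hF₀, -, hco⟩ :=
    exists_stabilizer_block hM hQf.1 hQL le_sup_right hLN hQf.2 hinv
  have hloc : IsLocalBlock p M Q L f F₀ := ⟨hF₀, hLN, le_sup_right, hco, hinv⟩
  have hbig : p ^ blockDefect p F₀ ≤ Nat.card ↥(P ⊓ L) := by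
    obtain ⟨x, hx, hcard⟩ := exists_card_inf_eq_defect hM hloc hmax hle
    rw [← hcard]
    have h1 := hQ.2 _ ((blockFusion_isConj_iff hM hF hle _).2 ⟨x, rfl, hx⟩)
    refine le_trans (Subgroup.card_le_of_le (inf_le_inf_left P ?_))
      (h1.trans (Subgroup.card_le_of_le (le_inf inf_le_left hNL)))
    exact (isLocalBlock_conj hM hloc x (conjMaps_map x L)).le
  let X : Subgroup G := extender P R φ
  have hXP : X ≤ P ⊓ Subgroup.normalizer (R : Set G) := FusionSys.extender_le φ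
  have hRX : R ≤ X := FusionSys.le_extender hR (F.le_of_mem hφ).2
  obtain ⟨u, huP, hRu⟩ := normalSubpair_below hM hPe hfR hRX (hXP.trans inf_le_left)
    (hXP.trans inf_le_right)
  obtain ⟨u', hu'⟩ : ∃ u' : Set (IrrCharacter C[X.map (MulAut.conj g).toMonoidHom]),
      conjIdx g ⟨X, u⟩ = ⟨X.map (MulAut.conj g).toMonoidHom, u'⟩ := ⟨_, rfl⟩
  have hn : IsNormalSubpair p M Q f (X.map (MulAut.conj g).toMonoidHom) u' := by
    have := normalSubpairRel_conjIdx hM g (a := ⟨R, fR⟩) (b := ⟨X, u⟩) hRu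
    rw [hf, hu'] at this
    exact this
  have hUL : X.map (MulAut.conj g).toMonoidHom ≤ L := by
    rintro _ ⟨a, ha, rfl⟩
    obtain ⟨haP, haN, h, hh, hah⟩ := FusionSys.mem_extender.1 ha
    have hhN : h ∈ N := by
      refine ⟨hh, Subgroup.mem_normalizer_fintype fun n hn' => ?_⟩
      rw [SetLike.mem_coe, ← hr] at hn' ⊢
      obtain ⟨x, rfl⟩ := hn'
      exact ⟨_, hah x ((Subgroup.mem_normalizer_iff.1 haN _).1 x.2)⟩
    have hc : h⁻¹ * (g * a * g⁻¹) ∈ C[Q] := by
      rw [Subgroup.mem_centralizer_iff]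
      intro q hq
      rw [SetLike.mem_coe, ← hr] at hq
      obtain ⟨x, rfl⟩ := hq
      have h1 := hah x ((Subgroup.mem_normalizer_iff.1 haN _).1 x.2)
      rw [hg, hg] at h1
      rw [hg]
      calc g * (x : G) * g⁻¹ * (h⁻¹ * (g * a * g⁻¹))
          = h⁻¹ * (h * (g * (x : G) * g⁻¹) * h⁻¹) * (g * a * g⁻¹) := by group
        _ = h⁻¹ * (g * (a * (x : G) * a⁻¹) * g⁻¹) * (g * a * g⁻¹) := by rw [h1]
        _ = h⁻¹ * (g * a * g⁻¹) * (g * (x : G) * g⁻¹) := by group
    have := mul_mem (Subgroup.mem_sup_left (T := C[Q]) hhN) (Subgroup.mem_sup_right (S := N) hc)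
    rw [mul_inv_cancel_left] at this
    exact this
  obtain ⟨l, hlL, hl⟩ := exists_conj_in_local hM hmax hloc hQL hle hbig hn hUL
  have hl' : l ∈ ((N ⊔ C[Q] : Subgroup G) : Set G) := hlL
  rw [Subgroup.coe_mul_of_left_le_normalizer_right N C[Q]
    (fun y hy => mem_normalizer_centralizer hy.2)] at hl'
  obtain ⟨n, hn', c, hc, rfl⟩ := Set.mem_mul.1 hl'
  have hkey : Relation.ReflTransGen (NormalSubpairRel p M) (conjIdx (c * g) ⟨X, u⟩) ⟨P, e⟩ := by
    have h1 := rel_conjIdx hM n⁻¹ hl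
    rw [conjIdx_of_mem (inv_mem hn'.1), conjIdx_mul, inv_mul_cancel_left, ← hu',
      conjIdx_mul] at h1
    exact h1
  refine ⟨conjHom X (c * g), (hF.2 _ _).2 ⟨hXP.trans inf_le_left, c * g, fun _ => rfl,
    le_of_rel hkey, u, huP, hkey⟩, fun x hP hN => ?_⟩
  have hq : φ ⟨x, hP⟩ ∈ Q := hr ▸ ⟨_, rfl⟩
  rw [hg] at hq ⊢
  have h4 : g * x * g⁻¹ * c = c * (g * x * g⁻¹) := Subgroup.mem_centralizer_iff.1 hc _ hq
  show (c * g) * x * (c * g)⁻¹ = g * x * g⁻¹
  calc (c * g) * x * (c * g)⁻¹ = c * (g * x * g⁻¹) * c⁻¹ := by group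
    _ = g * x * g⁻¹ := by rw [← h4, mul_inv_cancel_right]

include hM in
/-- The fusion system of a block is saturated. -/
theorem isSaturated_blockFusion (hF : IsBlockFusionSystemOn p M B P e F) : F.IsSaturated p :=
  FusionSys.isSaturated_of_receptive hF.1.1.1.1 (isFullyAutomized_blockFusion_top hM hF)
    fun _ hP => isReceptive_blockFusion hM hF hP

end Cfsg.Lib.Block
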