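import Cfsg.Agent.Lib.Block.SecondMain
import Cfsg.Agent.Lib.Block.BlockTrace
import Cfsg.Agent.Lib.Block.Induced

/-!
# Orthogonality of subsections

For a `p`-element `u` whose centralizer is the subgroup `H`, the sections of the irreducible
characters of `G` at the blocks of `H` are orthogonal, with Gram matrix the kernel of the block.
-/

set_option autoImplicit false
set_option linter.unusedSectionVars false
set_option maxHeartbeats 400000

namespace Cfsg.Lib.Block

open Cfsg
open scoped ComplexConjugate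

universe u

variable {p : ℕ} {M : Ideal AlgInt} {G : Type u} [Group G] [Fintype G] [Fact p.Prime]
  (hM : IsPModular p M)

open Classical in
/-- The kernel of a set of irreducible characters. -/
noncomputable def regKer (b : Set (IrrCharacter G)) (y g : G) : ℂ :=
  ∑ η ∈ b.toFinset, (η : G → ℂ) y * conj ((η : G → ℂ) g)

include hM in
theorem regKer_eq_zero {b : Set (IrrCharacter G)} (hb : VInt hM (indVec b)) {y g : G}
    (hy : IsPRegular p y) (hg : ¬ IsPRegular p g) : regKer b y g = 0 := by
  classical
  rw [regKer, ← finsum_mem_eq_toFinset_sum]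
  exact sum_block_mul_conj_eq_zero hM hb (isConj_pPt_of_reg hy hg)

open Classical in
include hM in
/-- A set of characters closed under lying in the same block is a sum of blocks. -/
theorem vInt_indVec_closed {S : Set (IrrCharacter G)}
    (hS : ∀ η ∈ S, blockOf M (η : G → ℂ) ⊆ S) : VInt hM (indVec S) := by
  have e : indVec S = ∑ b ∈ S.toFinset.image (fun η : IrrCharacter G => blockOf M (η : G → ℂ)),
      indVec b := by
    funext η
    rw [Finset.sum_apply]
    simp only [indVec]
    by_cases hη : η ∈ S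
    · rw [if_pos hη, Finset.sum_eq_single (blockOf M (η : G → ℂ))]
      · rw [if_pos (self_mem_blockOf hM η)]
      · intro b hb hne
        obtain ⟨ψ, -, rfl⟩ := Finset.mem_image.1 hb
        rw [if_neg]
        intro h
        exact hne (eq_blockOf_of_mem hM (isPBlock_blockOf ψ) h)
      · intro h
        exact absurd (Finset.mem_image_of_mem _ (Set.mem_toFinset.2 hη)) h
    · rw [if_neg hη, Finset.sum_eq_zero]
      intro b hb
      obtain ⟨ψ, hψ, rfl⟩ := Finset.mem_image.1 hb
      rw [if_neg]
      exact fun h => hη (hS ψ (Set.mem_toFinset.1 hψ) h)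
  rw [e]
  exact vInt_sum hM _ _ fun b hb => by
    obtain ⟨ψ, -, rfl⟩ := Finset.mem_image.1 hb
    exact vInt_indVec hM (isPBlock_blockOf ψ)

theorem blockPart_eq_regKer_sum (b : Set (IrrCharacter G)) (θ : G → ℂ) (y : G) :
    blockPart b θ y = (Nat.card G : ℂ)⁻¹ * ∑ g : G, θ g * regKer b y g := by
  classical
  simp only [blockPart, finsum_mem_eq_finite_toFinset_sum _ (Set.toFinite b), regKer,
    Finset.mul_sum]
  rw [Finset.sum_comm (s := Finset.univ)]
  refine Finset.sum_congr (by ext; simp) fun χ _ => ?_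
  simp only [classInner, Finset.mul_sum, Finset.sum_mul]
  exact Finset.sum_congr (by ext; simp) fun g _ => by ring

open Classical in
theorem sum_char_mul_regKer (b : Set (IrrCharacter G)) (η : IrrCharacter G) (y : G) :
    (Nat.card G : ℂ)⁻¹ * ∑ g : G, (η : G → ℂ) g * regKer b y g =
      if η ∈ b then (η : G → ℂ) y else 0 := by
  have e : (Nat.card G : ℂ)⁻¹ * ∑ g : G, (η : G → ℂ) g * regKer b y g =
      ∑ φ ∈ b.toFinset, (φ : G → ℂ) y * classInner (η : G → ℂ) (φ : G → ℂ) := by
    simp only [regKer, classInner, Finset.mul_sum]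
    rw [Finset.sum_comm]
    exact Finset.sum_congr rfl fun φ _ => Finset.sum_congr rfl fun g _ => by ring
  rw [e]
  split_ifs with h
  · rw [Finset.sum_eq_single η]
    · rw [Char.classInner_irr_self η.2, mul_one]
    · intro φ _ hne
      rw [Char.classInner_irr_ne η.2 φ.2 (fun h' => hne (Subtype.ext h').symm), mul_zero]
    · exact fun h' => absurd (Set.mem_toFinset.2 h) h'
  · refine Finset.sum_eq_zero fun φ hφ => ?_
    rw [Char.classInner_irr_ne η.2 φ.2
      (fun h' => h (Subtype.ext h' ▸ Set.mem_toFinset.1 hφ)), mul_zero]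

section Section

variable {H : Subgroup G} [Fintype H] {u : G}

/-- A character shifted by a central element of the subgroup. -/
def secFn (u : G) (H : Subgroup G) (χ : G → ℂ) : H → ℂ := fun c => χ (u * (c : G))

theorem isClassFunction_secFn (hHu : ∀ h : H, Commute u (h : G)) (χ : IrrCharacter G) :
    IsClassFunction H (secFn u H (χ : G → ℂ)) := fun c d => by
  have e : u * ((d : G) * (c : G) * (d : G)⁻¹) = (d : G) * (u * (c : G)) * (d : G)⁻¹ := by
    rw [← mul_assoc, ← mul_assoc, (hHu d).eq]
    simp only [mul_assoc]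
  simp only [secFn, Subgroup.coe_mul, InvMemClass.coe_inv, e]
  exact χ.2.isClassFunction _ _

theorem pPt_mul_reg (hu : ∃ k : ℕ, orderOf u = p ^ k) {g : G} (hc : Commute u g)
    (hg : IsPRegular p g) : pPt p (u * g) = u := by
  obtain ⟨k, hk⟩ := hu
  exact (eq_pPt rfl hc hk hg).symm

open Classical in
theorem column_orth_section (hu : ∃ k : ℕ, orderOf u = p ^ k)
    (hHu : ∀ h : H, Commute u (h : G)) (hCH : Subgroup.centralizer ({u} : Set G) ≤ H)
    {g g' : H} (hg : IsPRegular p g) (hg' : IsPRegular p g') :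
    ∑ χ : IrrCharacter G, (χ : G → ℂ) (u * (g : G)) * conj ((χ : G → ℂ) (u * (g' : G))) =
      ∑ η : IrrCharacter H, (η : H → ℂ) g * conj ((η : H → ℂ) g') := by
  have hreg : ∀ x : H, IsPRegular p x → IsPRegular p (x : G) := fun x hx => by
    rwa [IsPRegular, orderOf_submonoid]
  have hmem : ∀ (x : G) (c c' : H), IsPRegular p c → IsPRegular p c' →
      x * (u * (c : G)) * x⁻¹ = u * (c' : G) → x ∈ H := by
    intro x c c' hc hc' he
    have h1 := pPt_conj (p := p) (u * (c : G)) x
    rw [he, pPt_mul_reg hu (hHu c') (hreg c' hc'), pPt_mul_reg hu (hHu c) (hreg c hc)] at h1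
    refine hCH (Subgroup.mem_centralizer_iff.2 fun z hz => ?_)
    rw [Set.mem_singleton_iff] at hz
    subst hz
    exact eq_mul_inv_iff_mul_eq.1 h1
  rw [Char.column_orthogonality, Char.column_orthogonality]
  have hiff : IsConj (u * (g : G)) (u * (g' : G)) ↔ IsConj g g' := by
    constructor
    · intro h
      obtain ⟨x, hx⟩ := isConj_iff.1 h
      have hxH := hmem x g g' hg hg' hx
      refine isConj_iff.2 ⟨⟨x, hxH⟩, Subtype.ext ?_⟩
      have e := (hHu ⟨x, hxH⟩).eq
      simp only at e
      rw [← mul_assoc, ← e, mul_assoc u, mul_assoc u] at hx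
      exact mul_left_cancel hx
    · intro h
      obtain ⟨x, hx⟩ := isConj_iff.1 h
      refine isConj_iff.2 ⟨(x : G), ?_⟩
      rw [← mul_assoc, ← (hHu x).eq, mul_assoc u, mul_assoc u, ← hx]
      rfl
  by_cases h : IsConj g g'
  · rw [if_pos (hiff.2 h), if_pos h, Nat.cast_inj]
    refine Nat.card_congr (Equiv.ofBijective
      (fun x : Subgroup.centralizer ({u * (g : G)} : Set G) =>
        (⟨⟨(x : G), hmem x g g hg hg ?_⟩, ?_⟩ : Subgroup.centralizer ({g} : Set H))) ⟨?_, ?_⟩)
    · have := Subgroup.mem_centralizer_iff.1 x.2 _ rfl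
      rw [← this, mul_inv_cancel_right]
    · refine Subgroup.mem_centralizer_iff.2 fun z hz => ?_
      rw [Set.mem_singleton_iff] at hz
      subst hz
      have hx := Subgroup.mem_centralizer_iff.1 x.2 _ rfl
      have hxu : Commute u (x : G) := hHu ⟨(x : G), hmem x z z hg hg (by
        rw [← hx, mul_inv_cancel_right])⟩
      apply Subtype.ext
      simp only [Subgroup.coe_mul]
      rw [← mul_assoc (x : G) u, ← hxu.eq, mul_assoc, mul_assoc] at hx
      exact mul_left_cancel hx
    · intro a b hab
      exact Subtype.ext (congrArg (fun z : Subgroup.centralizer ({g} : Set H) => ((z : H) : G)) hab)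
    · rintro ⟨x, hx⟩
      refine ⟨⟨(x : G), Subgroup.mem_centralizer_iff.2 fun z hz => ?_⟩, rfl⟩
      rw [Set.mem_singleton_iff] at hz
      subst hz
      have e := congrArg (fun z : H => (z : G)) (Subgroup.mem_centralizer_iff.1 hx g rfl)
      simp only [Subgroup.coe_mul] at e
      rw [mul_assoc, e, ← mul_assoc, ← mul_assoc, (hHu x).eq]
  · rw [if_neg h, if_neg (fun h' => h (hiff.1 h'))]

include hM in
open Classical in
/-- Orthogonality of the sections at two unions of blocks. -/
theorem sum_blockPart_mul_conj (hu : ∃ k : ℕ, orderOf u = p ^ k)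
    (hHu : ∀ h : H, Commute u (h : G)) (hCH : Subgroup.centralizer ({u} : Set G) ≤ H)
    {b b' : Set (IrrCharacter H)} (hb : VInt hM (indVec b)) (hb' : VInt hM (indVec b'))
    {y y' : H} (hy : IsPRegular p y) (hy' : IsPRegular p y') :
    ∑ χ : IrrCharacter G, blockPart b (secFn u H (χ : G → ℂ)) y *
        conj (blockPart b' (secFn u H (χ : G → ℂ)) y') = regKer (b ∩ b') y y' := by
  simp only [blockPart_eq_regKer_sum, map_mul, map_inv₀, map_natCast, map_sum]
  calc ∑ χ : IrrCharacter G, ((Nat.card H : ℂ)⁻¹ * ∑ g : H, secFn u H (χ : G → ℂ) g * regKer b y g) *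
        ((Nat.card H : ℂ)⁻¹ * ∑ g' : H, conj (secFn u H (χ : G → ℂ) g') * conj (regKer b' y' g'))
      = (Nat.card H : ℂ)⁻¹ * (Nat.card H : ℂ)⁻¹ * ∑ g : H, ∑ g' : H,
          regKer b y g * conj (regKer b' y' g') *
            ∑ χ : IrrCharacter G, (χ : G → ℂ) (u * (g : G)) * conj ((χ : G → ℂ) (u * (g' : G))) := by
        simp only [Finset.mul_sum, Finset.sum_mul, secFn]
        conv_rhs => rw [Finset.sum_comm]
        rw [Finset.sum_comm]
        refine Finset.sum_congr rfl fun g _ => ?_
        rw [Finset.sum_comm]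
        exact Finset.sum_congr rfl fun g' _ => Finset.sum_congr rfl fun χ _ => by ring
    _ = (Nat.card H : ℂ)⁻¹ * (Nat.card H : ℂ)⁻¹ * ∑ g : H, ∑ g' : H,
          regKer b y g * conj (regKer b' y' g') *
            ∑ η : IrrCharacter H, (η : H → ℂ) g * conj ((η : H → ℂ) g') := by
        congr 1
        refine Finset.sum_congr rfl fun g _ => Finset.sum_congr rfl fun g' _ => ?_
        by_cases hg : IsPRegular p g
        · by_cases hg' : IsPRegular p g'
          · rw [column_orth_section hu hHu hCH hg hg']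
          · simp [regKer_eq_zero hM hb' hy' hg']
        · simp [regKer_eq_zero hM hb hy hg]
    _ = ∑ η : IrrCharacter H, ((Nat.card H : ℂ)⁻¹ * ∑ g : H, (η : H → ℂ) g * regKer b y g) *
          conj ((Nat.card H : ℂ)⁻¹ * ∑ g' : H, (η : H → ℂ) g' * regKer b' y' g') := by
        simp only [map_mul, map_inv₀, map_natCast, map_sum, Finset.mul_sum, Finset.sum_mul]
        rw [eq_comm]
        conv_rhs => rw [Finset.sum_comm]
        rw [Finset.sum_comm]
        refine Finset.sum_congr rfl fun g _ => ?_
        rw [Finset.sum_comm]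
        exact Finset.sum_congr rfl fun g' _ => Finset.sum_congr rfl fun χ _ => by ring
    _ = _ := by
        simp only [sum_char_mul_regKer]
        rw [regKer, ← Finset.sum_filter_add_sum_filter_not Finset.univ (fun η => η ∈ b ∩ b'),
          Finset.sum_eq_zero (s := Finset.univ.filter fun η => ¬ η ∈ b ∩ b'), add_zero]
        · refine Finset.sum_congr (by ext; simp) fun η hη => ?_
          simp only [Set.mem_toFinset, Set.mem_inter_iff] at hη
          rw [if_pos hη.1, if_pos hη.2]
        · intro η hη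
          simp only [Finset.mem_filter, Set.mem_inter_iff, not_and] at hη
          by_cases h : η ∈ b
          · rw [if_neg (hη.2 h), map_zero, mul_zero]
          · rw [if_neg h, zero_mul]

theorem centralizer_pPt_le (hu : ∃ k : ℕ, orderOf u = p ^ k) (hHu : ∀ h : H, Commute u (h : G))
    (hCH : Subgroup.centralizer ({u} : Set G) ≤ H) {y : H} (hy : IsPRegular p y) (huH : u ∈ H) :
    Subgroup.centralizer ({pPt p (((⟨u, huH⟩ * y : H)) : G)} : Set G) ≤ H := by
  rw [Subgroup.coe_mul, pPt_mul_reg hu (hHu y) (by rwa [IsPRegular, orderOf_submonoid])]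
  exact hCH

include hM in
/-- The section of a character outside the induced block vanishes. -/
theorem blockPart_secFn_eq_zero (hu : ∃ k : ℕ, orderOf u = p ^ k)
    (hHu : ∀ h : H, Commute u (h : G)) (hCH : Subgroup.centralizer ({u} : Set G) ≤ H)
    {b : Set (IrrCharacter H)} {B : Set (IrrCharacter G)} (hind : IsInducedBlock M H b B)
    {χ : IrrCharacter G} (hχ : χ ∉ B) {y : H} (hy : IsPRegular p y) :
    blockPart b (secFn u H (χ : G → ℂ)) y = 0 := by
  classical
  have huH : u ∈ H := hCH (Subgroup.mem_centralizer_iff.2 fun z hz => by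
    rw [Set.mem_singleton_iff] at hz; rw [hz])
  rw [blockPart_eq_sum b (isClassFunction_secFn hHu χ)]
  have h := sum_blockCoeff_mul_char_eq_zero hM hind
    (centralizer_pPt_le hu hHu hCH hy huH) hχ
  rw [← h]
  refine Finset.sum_congr (by ext; simp) fun k _ => ?_
  simp only [secFn, Subgroup.coe_mul]
  rw [← mul_assoc, (hHu k).eq, mul_assoc]

/-- The blocks of the subgroup inducing a given block. -/
def indSet (M : Ideal AlgInt) (H : Subgroup G) (B : Set (IrrCharacter G)) :
    Set (IrrCharacter H) := {η | IsInducedBlock M H (blockOf M (η : H → ℂ)) B}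

include hM in
theorem indSet_closed (B : Set (IrrCharacter G)) :
    ∀ η ∈ indSet M H B, blockOf M (η : H → ℂ) ⊆ indSet M H B := fun η hη ξ hξ => by
  have e := eq_blockOf_of_mem hM (isPBlock_blockOf η) hξ
  simp only [indSet, Set.mem_ofPred_eq] at hη ⊢
  rwa [← e]

include hM in
theorem vInt_indSet (B : Set (IrrCharacter G)) : VInt hM (indVec (indSet M H B)) :=
  vInt_indVec_closed hM (indSet_closed hM B)

include hM in
theorem exists_isInducedBlock_of_centralizer (hu : ∃ k : ℕ, orderOf u = p ^ k)
    (hHu : ∀ h : H, Commute u (h : G)) (hCH : Subgroup.centralizer ({u} : Set G) ≤ H)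
    {b : Set (IrrCharacter H)} (hb : IsPBlock M b) : ∃ B, IsInducedBlock M H b B := by
  classical
  obtain ⟨k, hk⟩ := hu
  have hP : IsPGroup p (Subgroup.zpowers u) :=
    IsPGroup.of_card (by rw [Nat.card_zpowers, hk])
  have huH : u ∈ H := hCH (Subgroup.mem_centralizer_iff.2 fun z hz => by
    rw [Set.mem_singleton_iff] at hz; rw [hz])
  refine exists_isInducedBlock hM hP ?_ ?_ ?_ hb
  · exact Subgroup.zpowers_le.2 huH
  · refine le_trans (fun x hx => ?_) hCH
    exact Subgroup.mem_centralizer_iff.2 fun z hz => by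
      rw [Set.mem_singleton_iff] at hz
      subst hz
      exact Subgroup.mem_centralizer_iff.1 hx z (Subgroup.mem_zpowers z)
  · intro x hx
    refine Subgroup.mem_normalizer_iff.2 fun z => ?_
    have hc : ∀ w ∈ Subgroup.zpowers u, x * w * x⁻¹ = w := by
      rintro _ ⟨n, rfl⟩
      rw [← ((hHu ⟨x, hx⟩).zpow_left n).eq, mul_inv_cancel_right]
    constructor
    · intro hz
      rwa [hc z hz]
    · intro hz
      have : x * (x * z * x⁻¹) * x⁻¹ = x * z * x⁻¹ := hc _ hz
      have e : x * z * x⁻¹ = z := mul_left_cancel (mul_right_cancel this)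
      rwa [e] at hz

include hM in
/-- The section at the blocks inducing `B` reproduces the characters of `B` and kills the others. -/
theorem blockPart_indSet (hu : ∃ k : ℕ, orderOf u = p ^ k)
    (hHu : ∀ h : H, Commute u (h : G)) (hCH : Subgroup.centralizer ({u} : Set G) ≤ H)
    {B : Set (IrrCharacter G)} (hB : IsPBlock M B) (χ : IrrCharacter G) {y : H}
    (hy : IsPRegular p y) [Decidable (χ ∈ B)] :
    blockPart (indSet M H B) (secFn u H (χ : G → ℂ)) y =
      if χ ∈ B then (χ : G → ℂ) (u * (y : G)) else 0 := by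
  classical
  set θ := secFn u H (χ : G → ℂ) with hθ
  set T : IrrCharacter H → ℂ := fun η => classInner θ (η : H → ℂ) * (η : H → ℂ) y with hT
  have hbp : ∀ b : Set (IrrCharacter H), blockPart b θ y = ∑ η ∈ b.toFinset, T η := fun b => by
    simp only [blockPart, finsum_mem_eq_toFinset_sum, hT]
    refine Finset.sum_congr rfl fun η _ => ?_
    congr 1
    simp only [classInner]
    congr 1
    exact Finset.sum_congr (by ext; simp) fun _ _ => rfl
  have hzero : ∀ (b : Set (IrrCharacter H)) (B' : Set (IrrCharacter G)),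
      IsInducedBlock M H b B' → χ ∉ B' → ∑ η ∈ b.toFinset, T η = 0 := fun b B' hb hn => by
    rw [← hbp, hθ]
    exact blockPart_secFn_eq_zero hM hu hHu hCH hb hn hy
  have hfib : ∀ s : Finset (IrrCharacter H), (∀ η ∈ s, ∀ ξ ∈ blockOf M (η : H → ℂ), ξ ∈ s) →
      (∀ η ∈ s, ∃ B', IsInducedBlock M H (blockOf M (η : H → ℂ)) B' ∧ χ ∉ B') →
      ∑ η ∈ s, T η = 0 := by
    intro s hcl hs
    rw [← Finset.sum_fiberwise_of_maps_to (g := fun η : IrrCharacter H => blockOf M (η : H → ℂ))
      (t := s.image fun η : IrrCharacter H => blockOf M (η : H → ℂ))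
      fun η hη => Finset.mem_image_of_mem _ hη]
    refine Finset.sum_eq_zero fun b hb => ?_
    obtain ⟨η, hη, rfl⟩ := Finset.mem_image.1 hb
    obtain ⟨B', hB', hn⟩ := hs η hη
    rw [← hzero _ B' hB' hn]
    refine Finset.sum_congr ?_ fun _ _ => rfl
    ext ξ
    simp only [Finset.mem_filter, Set.mem_toFinset]
    constructor
    · rintro ⟨-, h⟩
      rw [← h]
      exact self_mem_blockOf hM ξ
    · intro h
      exact ⟨hcl η hη ξ h, (eq_blockOf_of_mem hM (isPBlock_blockOf η) h).symm⟩
  have hS : ∀ η ∈ (indSet M H B).toFinset, ∀ ξ ∈ blockOf M (η : H → ℂ),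
      ξ ∈ (indSet M H B).toFinset := fun η hη ξ hξ =>
    Set.mem_toFinset.2 (indSet_closed hM B η (Set.mem_toFinset.1 hη) hξ)
  rw [hbp]
  split_ifs with hχ
  · have hall : ∑ η : IrrCharacter H, T η = (χ : G → ℂ) (u * (y : G)) := by
      have := congrFun (Char.eq_sum_classInner (isClassFunction_secFn hHu χ)) y
      simp only [Finset.sum_apply, Pi.smul_apply, smul_eq_mul] at this
      exact this.symm
    rw [← hall, ← Finset.sum_compl_add_sum (indSet M H B).toFinset, hfib (indSet M H B).toFinsetᶜ ?_ ?_, zero_add]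
    · intro η hη ξ hξ
      rw [Finset.mem_compl] at hη ⊢
      intro h
      have e := eq_blockOf_of_mem hM (isPBlock_blockOf η) hξ
      exact hη (hS ξ h η (e ▸ self_mem_blockOf hM η))
    · intro η hη
      obtain ⟨B', hB'⟩ := exists_isInducedBlock_of_centralizer hM hu hHu hCH (isPBlock_blockOf η)
      refine ⟨B', hB', fun hn => ?_⟩
      rw [Finset.mem_compl, Set.mem_toFinset] at hη
      exact hη (by
        show IsInducedBlock M H (blockOf M (η : H → ℂ)) B
        rwa [isPBlock_eq_of_mem hM hB hB'.2.1 hχ hn])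
  · refine hfib _ hS fun η hη => ⟨B, (Set.mem_toFinset.1 hη : η ∈ indSet M H B), hχ⟩

end Section

end Cfsg.Lib.Block
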