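import Cfsg.Agent.Lib.Block.PairConj
import Cfsg.Agent.Lib.Block.Subsection

/-!
# Maximal Brauer pairs

The subgroup of a maximal pair of a block is a defect group and the maximal pairs are conjugate.
-/

set_option autoImplicit false
set_option linter.unusedSectionVars false
set_option maxHeartbeats 400000

namespace Cfsg.Lib.Block

open Cfsg
open scoped ComplexConjugate

universe u

noncomputable local instance (priority := high) fintypeSubgroupMaxPairs {G : Type u} [Group G]
    [Fintype G] (H : Subgroup G) : Fintype H := Fintype.ofFinite H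

local notation "C[" Q "]" => Subgroup.centralizer (SetLike.coe Q)

variable {p : ℕ} {M : Ideal AlgInt} {G : Type u} [Group G] [Fintype G] [Fact p.Prime]
  (hM : IsPModular p M)

include hM in
/-- Every pair lies below a maximal one. -/
theorem exists_maximal_above {B : Set (IrrCharacter G)} {Q : Subgroup G}
    {f : Set (IrrCharacter C[Q])} (h : IsBrauerPairOf p M B Q f) :
    ∃ (R : Subgroup G) (g : Set (IrrCharacter C[R])),
      SubpairLE p M Q f R g ∧ IsMaximalBrauerPair p M B R g := by
  classical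
  haveI : Fintype (Subgroup G) := Fintype.ofFinite _
  set s := Finset.univ.filter fun R : Subgroup G => ∃ g : Set (IrrCharacter C[R]),
    SubpairLE p M Q f R g ∧ IsBrauerPairOf p M B R g with hs
  have hne : s.Nonempty :=
    ⟨Q, Finset.mem_filter.2 ⟨Finset.mem_univ _, f, Relation.ReflTransGen.refl, h⟩⟩
  obtain ⟨R, hR, hmax⟩ := s.exists_max_image (fun R => Nat.card R) hne
  obtain ⟨g, hle, hg⟩ := (Finset.mem_filter.1 hR).2
  refine ⟨R, g, hle, hg, fun R' g' hg' hle' => ?_⟩
  have := hmax R' (Finset.mem_filter.2 ⟨Finset.mem_univ _, g', hle.trans hle', hg'⟩)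
  exact (Subgroup.eq_of_le_of_card_ge (subpairLE_le hle') this).symm

/-- The members of the conjugates of a block under the normalizer of `P`. -/
def orbitU (P : Subgroup G) (e : Set (IrrCharacter C[P])) : Set (IrrCharacter C[P]) :=
  {η | ∃ (x : G) (h : P.map (MulAut.conj x).toMonoidHom = P),
    η ∈ conjSet (conjMaps_centralizer h) e}

theorem subset_orbitU (P : Subgroup G) (e : Set (IrrCharacter C[P])) : e ⊆ orbitU P e :=
  fun η hη => ⟨1, map_conj_one P, by
    rw [conjSet_of_mem _ (one_mem _)]; exact hη⟩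

include hM in
theorem orbitU_closed {P : Subgroup G} {e : Set (IrrCharacter C[P])} (he : IsPBlock M e) :
    ∀ η ∈ orbitU P e, blockOf M (η : C[P] → ℂ) ⊆ orbitU P e := by
  rintro η ⟨x, h, hη⟩ ξ hξ
  refine ⟨x, h, ?_⟩
  rwa [eq_blockOf_of_mem hM (isPBlock_conjSet _ he) hη]

include hM in
theorem vInt_orbitU {P : Subgroup G} {e : Set (IrrCharacter C[P])} (he : IsPBlock M e) :
    VInt hM (indVec (orbitU P e)) :=
  vInt_indVec_closed hM (orbitU_closed hM he)

theorem conjSet_mono {x : G} {K K' : Subgroup G} (h : ConjMaps x K K')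
    {f f' : Set (IrrCharacter K)} (hff : f ⊆ f') : conjSet h f ⊆ conjSet h f' :=
  fun _ hη => hff hη

theorem invOn_orbitU (P : Subgroup G) (e : Set (IrrCharacter C[P])) :
    InvOn (Subgroup.normalizer (P : Set G)) C[P] (indVec (orbitU P e)) := by
  rw [invOn_indVec_iff fun x hx => mem_normalizer_centralizer hx]
  intro y hy
  rw [stabilizesBlock_iff (mem_normalizer_centralizer hy)]
  have hyP := map_conj_eq_self hy
  ext η
  constructor
  · rintro ⟨x, h, hη⟩
    have h2 : P.map (MulAut.conj (y * x)).toMonoidHom = P := by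
      rw [← map_conj_map_conj, h, hyP]
    refine ⟨y * x, h2, ?_⟩
    have hm : η ∈ conjSet (conjMaps_normalizer (mem_normalizer_centralizer hy))
        (conjSet (conjMaps_centralizer h) e) := hη
    rwa [conjSet_mul] at hm
  · rintro ⟨x, h, hη⟩
    have hy' := map_conj_eq_self (inv_mem hy)
    have h2 : P.map (MulAut.conj (y⁻¹ * x)).toMonoidHom = P := by
      rw [← map_conj_map_conj, h, hy']
    refine conjSet_mono _ (fun ξ hξ => (⟨y⁻¹ * x, h2, hξ⟩ : ξ ∈ orbitU P e)) ?_
    rw [conjSet_mul]
    rwa [conjSet_congr _ (conjMaps_centralizer h) (mul_inv_cancel_left y x)]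

variable {B : Set (IrrCharacter G)} {P : Subgroup G} {e : Set (IrrCharacter C[P])}

include hM in
/-- A maximal pair cannot be enlarged inside its normalizer at a unit coefficient of its orbit. -/
theorem eq_of_orbit_unit (hmax : IsMaximalBrauerPair p M B P e) {Q : Subgroup G}
    (hQ : IsPGroup p Q) (hPQ : P ≤ Q) (hQN : Q ≤ Subgroup.normalizer (P : Set G)) {c : G}
    (hc : c ∈ C[Q])
    (hu : ¬ MemLocalIdeal M (extF C[P] (indVec (orbitU P e)) c)) : Q = P := by
  classical
  obtain ⟨hof, htop⟩ := id hmax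
  have hP : IsPGroup p P := hof.1.1
  have he : IsPBlock M e := hof.1.2
  set v := indVec (orbitU P e) with hv
  have hvI : VInt hM v := vInt_orbitU hM he
  have hvinv : InvOn Q C[P] v := invOn_mono hQN (invOn_orbitU P e)
  have hle := Subgroup.centralizer_le (G := G) hPQ
  have hvid : VSmall M (v * v - v) := by
    rw [hv, indVec_mul_indVec, Set.inter_self, sub_self]; exact vSmall_zero hM
  obtain ⟨ξ, hξ⟩ := exists_res_eq_one hM (c := ⟨c, hc⟩) (vInt_trV hM hle hvI)
    (vSmall_trV_idem hM hQ rfl hle hvI hvinv hvid) (by rwa [zc_trV hle])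
  set g := blockOf M (ξ : C[Q] → ℂ) with hg
  have hQg : IsBrauerPair p M Q g := ⟨hQ, isPBlock_blockOf ξ⟩
  obtain ⟨f, hf, -⟩ := existsUnique_normalSubpair hM hQg hPQ hQN
  obtain ⟨hPf, -, -, -, hfi, hfs⟩ := (isNormalSubpair_iff hM).1 hf
  obtain ⟨η, hη⟩ := nonempty_of_isPBlock hM hPf.2
  have hval := res_trV_eq_of_selected hM hQ rfl hle hvI hvid hvinv hPf.2 hfi
    (hfs ξ (self_mem_blockOf hM ξ)) hη
  rw [hξ, hv, indVec] at hval
  split_ifs at hval with hmem
  swap
  · rw [res_zero] at hval; exact absurd hval one_ne_zero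
  obtain ⟨x, hx, hηx⟩ := hmem
  have hfe : f = conjSet (conjMaps_centralizer hx) e :=
    isPBlock_eq_of_mem hM hPf.2 (isPBlock_conjSet _ he) hη hηx
  have hrel : NormalSubpairRel p M ⟨P, f⟩ ⟨Q, g⟩ := hf
  have hidx : (⟨P, f⟩ : BrauerPairIdx G) = conjIdx x ⟨P, e⟩ := by rw [conjIdx_eq hx, hfe]
  have hpf : IsBrauerPairOf p M B P f := by
    have h := isBrauerPairOf_conjIdx hM x (a := ⟨P, e⟩) hof
    rw [← hidx] at h
    exact h
  have hQB : IsBrauerPairOf p M B Q g := (isBrauerPairOf_iff_of_normal hM hf B).2 hpf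
  have h1 := normalSubpairRel_conjIdx hM x⁻¹ hrel
  rw [hidx, conjIdx_mul, inv_mul_cancel, conjIdx_one] at h1
  have h2 : Q.map (MulAut.conj x⁻¹).toMonoidHom = P :=
    htop _ _ (isBrauerPairOf_conjIdx hM x⁻¹ (a := ⟨Q, g⟩) hQB) (Relation.ReflTransGen.single h1)
  refine (Subgroup.eq_of_le_of_card_ge hPQ (le_of_eq ?_)).symm
  rw [← h2, Subgroup.card_map_of_injective (MulAut.conj x⁻¹).injective]

include hM in
/-- At a unit coefficient of the orbit, the subgroup of a maximal pair is a Sylow subgroup of the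
centralizer. -/
theorem eq_of_orbit_unit_sylow (hmax : IsMaximalBrauerPair p M B P e) {c : G}
    (hu : ¬ MemLocalIdeal M (extF C[P] (indVec (orbitU P e)) c)) {S : Subgroup G}
    (hS : IsPGroup p S) (hSc : S ≤ Subgroup.centralizer ({c} : Set G)) (hPS : P ≤ S) : S = P := by
  refine eq_of_normalizer_inf_le hS hPS (le_of_eq ?_)
  refine eq_of_orbit_unit hM hmax (hS.to_le inf_le_left) (le_inf hPS Subgroup.le_normalizer)
    inf_le_right (mem_centralizer_of_le fun y hy => hSc hy.1) hu

open Classical in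
/-- The indicator of a class of the normalizer inside the centralizer. -/
noncomputable def normClass (P : Subgroup G) (c h : C[P]) : ℂ :=
  if ∃ n ∈ Subgroup.normalizer (P : Set G), n * (c : G) * n⁻¹ = (h : G) then 1 else 0

include hM in
/-- The orbit idempotent takes the same value at every pair of the block at `P`, and some class
carrying it has the defect group `P`. -/
theorem maximal_pair_data (hmax : IsMaximalBrauerPair p M B P e) {χ : IrrCharacter G}
    (hχ : χ ∈ B) :
    (∀ g : Set (IrrCharacter C[P]), IsBrauerPairOf p M B P g → g ⊆ orbitU P e) ∧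
    ∃ c : G, c ∈ C[P] ∧ ¬ MemLocalIdeal M (centralChar (χ : G → ℂ) c) ∧
      ∀ S : Subgroup G, IsPGroup p S → S ≤ Subgroup.centralizer ({c} : Set G) → P ≤ S → S = P := by
  classical
  obtain ⟨hof, -⟩ := id hmax
  have hP : IsPGroup p P := hof.1.1
  have hB : IsPBlock M B := hof.2.1
  have he : IsPBlock M e := hof.1.2
  set v := indVec (orbitU P e) with hv
  have hvI : VInt hM v := vInt_orbitU hM he
  set Rel : C[P] → C[P] → Prop := fun c h =>
    ∃ n ∈ Subgroup.normalizer (P : Set G), n * (c : G) * n⁻¹ = (h : G) with hRel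
  have hrefl : ∀ c, Rel c c := fun c => ⟨1, one_mem _, by group⟩
  have hsymm : ∀ {a b}, Rel a b → Rel b a := by
    rintro a b ⟨n, hn, hn'⟩
    exact ⟨n⁻¹, inv_mem hn, by rw [← hn']; group⟩
  have htrans : ∀ {a b c}, Rel a b → Rel b c → Rel a c := by
    rintro a b c ⟨n, hn, hn'⟩ ⟨k, hk, hk'⟩
    exact ⟨k * n, mul_mem hk hn, by rw [← hk', ← hn']; group⟩
  set cls : C[P] → Finset C[P] := fun c => Finset.univ.filter (Rel c) with hcls
  have hcls_eq : ∀ c h, cls h = cls c ↔ Rel c h := fun c h => by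
    constructor
    · intro e1
      have : h ∈ cls h := Finset.mem_filter.2 ⟨Finset.mem_univ _, hrefl h⟩
      rw [e1] at this
      exact (Finset.mem_filter.1 this).2
    · intro hch
      ext k
      simp only [hcls, Finset.mem_filter, Finset.mem_univ, true_and]
      exact ⟨fun hk => htrans hch hk, fun hk => htrans (hsymm hch) hk⟩
  have hconst : ∀ c h, Rel c h → zc v h = zc v c := by
    rintro c h ⟨n, hn, hn'⟩
    rw [← extF_coe, ← extF_coe, ← hn']
    exact invOn_orbitU P e n hn (c : G)
  have hW : ∀ (c : C[P]) (ξ : IrrCharacter C[P]), vec (normClass P c) ξ ∈ locRing hM := fun c ξ => by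
    refine apply_mem_locRing hM (vInt_vec hM ?_ fun h => ?_) ξ
    · intro h k
      have hk : (k : G) ∈ Subgroup.normalizer (P : Set G) :=
        Subgroup.centralizer_le_normalizer _ k.2
      simp only [normClass, Subgroup.coe_mul, InvMemClass.coe_inv]
      refine if_congr ?_ rfl rfl
      constructor
      · rintro ⟨n, hn, hn'⟩
        exact ⟨(k : G)⁻¹ * n, mul_mem (inv_mem hk) hn, by
          rw [mul_inv_rev, inv_inv,
            show (k : G)⁻¹ * n * (c : G) * (n⁻¹ * k) = (k : G)⁻¹ * (n * c * n⁻¹) * k by group,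
            hn']
          group⟩
      · rintro ⟨n, hn, hn'⟩
        exact ⟨(k : G) * n, mul_mem hk hn, by rw [← hn']; group⟩
    · simp only [normClass]
      split_ifs
      · exact one_mem _
      · exact zero_mem _
  set r : Finset C[P] → C[P] := fun K => if h : ∃ c, cls c = K then h.choose else 1 with hrdef
  have hexp : ∀ ξ : IrrCharacter C[P],
      v ξ = ∑ K ∈ Finset.univ.image cls, zc v (r K) * vec (normClass P (r K)) ξ := by
    intro ξ
    simp only [hrdef]
    conv_lhs => rw [← congrFun (vec_zc v) ξ, vec,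
      ← Finset.sum_fiberwise_of_maps_to (g := cls) (t := Finset.univ.image cls)
        fun h hh => Finset.mem_image_of_mem _ hh, Finset.sum_div]
    refine Finset.sum_congr rfl fun K hK => ?_
    obtain ⟨c₀, -, hc₀⟩ := Finset.mem_image.1 hK
    have hex : ∃ c, cls c = K := ⟨c₀, hc₀⟩
    rw [dif_pos hex]
    set c := hex.choose with hc
    have hcK : cls c = K := hex.choose_spec
    rw [vec, ← mul_div_assoc, Finset.mul_sum]
    congr 1
    rw [← Finset.sum_filter_add_sum_filter_not Finset.univ (fun h => cls h = K)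
        (fun h => zc v c * (normClass P c h * (ξ : C[P] → ℂ) h)),
      Finset.sum_eq_zero (s := Finset.univ.filter fun h => ¬ cls h = K), add_zero]
    · refine Finset.sum_congr rfl fun h hh => ?_
      have hch : Rel c h := (hcls_eq c h).1 (by rw [hcK]; exact (Finset.mem_filter.1 hh).2)
      rw [normClass, if_pos hch, one_mul, hconst c h hch]
    · intro h hh
      have hn : ¬ Rel c h := fun hch => (Finset.mem_filter.1 hh).2 (by
        rw [(hcls_eq c h).2 hch, hcK])
      rw [normClass, if_neg hn, zero_mul, mul_zero]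
  have hom : ∀ (g : Set (IrrCharacter C[P])), IsBrauerPairOf p M B P g → ∀ ξ ∈ g, ∀ c : C[P],
      ¬ MemLocalIdeal M (zc v c) →
      res hM (vec (normClass P c) ξ) = res hM (centralChar (χ : G → ℂ) (c : G)) := by
    intro g hg ξ hξ c hc
    have hbr : BrRel hM P C[P] ξ χ :=
      (brRel_iff_mem hM hP le_rfl (Subgroup.centralizer_le_normalizer _) ξ hB hχ).2
        (((isBrauerPairOf_iff_brU hM B P g).1 hg).2.2 ξ hξ)
    rw [← hbr _ (vInt_centralChar hM (c : G))]
    congr 1
    simp only [brVec, vec]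
    congr 1
    refine Finset.sum_congr rfl fun h _ => ?_
    congr 1
    rw [brF_of_mem h.2, zc_centralChar, normClass]
    by_cases hc' : IsConj (c : G) (h : G)
    · rw [if_pos hc', if_pos]
      exact isConj_normalizer_of_isConj hP c.2 h.2 (fun S hS hSc hPS =>
        eq_of_orbit_unit_sylow hM hmax (by rwa [extF_coe]) hS hSc hPS) hc'
    · rw [if_neg hc', if_neg]
      rintro ⟨n, -, hn⟩
      exact hc' (isConj_iff.2 ⟨n, hn⟩)
  obtain ⟨η, hη⟩ := nonempty_of_isPBlock hM he
  have hvη : v η = 1 := by rw [hv, indVec, if_pos (subset_orbitU P e hη)]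
  have hres : ∀ ξ : IrrCharacter C[P],
      res hM (∑ K ∈ Finset.univ.image cls, zc v (r K) * vec (normClass P (r K)) ξ) =
        ∑ K ∈ Finset.univ.image cls, res hM (zc v (r K)) * res hM (vec (normClass P (r K)) ξ) :=
    fun ξ => by
      rw [res_sum hM _ _ fun K _ => mul_mem (hvI _) (hW _ _)]
      exact Finset.sum_congr rfl fun K _ => res_mul hM (hvI _) (hW _ _)
  constructor
  · intro g hg ξ hξ
    by_contra hn
    have hvξ : v ξ = 0 := by rw [hv, indVec, if_neg hn]
    have h1 : res hM (v η) = res hM (v ξ) := by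
      rw [hexp η, hexp ξ, hres, hres]
      refine Finset.sum_congr rfl fun K _ => ?_
      by_cases hrK : MemLocalIdeal M (zc v (r K))
      · rw [(res_eq_zero_iff hM (hvI _)).2 hrK, zero_mul, zero_mul]
      · rw [hom g hg ξ hξ _ hrK, hom e hof η hη _ hrK]
    rw [hvη, hvξ, res_one, res_zero] at h1
    exact one_ne_zero h1
  · have h1 : res hM (v η) = 1 := by rw [hvη, res_one]
    rw [hexp η, hres] at h1
    obtain ⟨K, -, hK⟩ := Finset.exists_ne_zero_of_sum_ne_zero (h1 ▸ one_ne_zero)
    have hu : ¬ MemLocalIdeal M (zc v (r K)) := fun h =>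
      left_ne_zero_of_mul hK ((res_eq_zero_iff hM (hvI _)).2 h)
    refine ⟨(r K : G), (r K).2, fun h => right_ne_zero_of_mul hK ?_,
      fun S hS hSc hPS => eq_of_orbit_unit_sylow hM hmax (by rwa [extF_coe]) hS hSc hPS⟩
    rw [hom e hof η hη _ hu]
    exact (res_eq_zero_iff hM (centralChar_mem_locRing hM χ _)).2 h

include hM in
/-- The subgroup of a maximal pair is a defect group. -/
theorem isDefectGroup_of_maximal (hmax : IsMaximalBrauerPair p M B P e) :
    IsDefectGroup p M B P := by
  classical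
  obtain ⟨hof, -⟩ := id hmax
  have hB : IsPBlock M B := hof.2.1
  obtain ⟨χ, hχ⟩ := nonempty_of_isPBlock hM hB
  obtain ⟨-, c, hc, hunit, hsyl⟩ := maximal_pair_data hM hmax hχ
  obtain ⟨D, hD⟩ := exists_defectGroup hM hB
  obtain ⟨x, hx⟩ := (exists_pair_iff hM hB hD hof.1.1).1 ⟨e, hof⟩
  obtain ⟨S, hS⟩ := (hof.1.1.comap_subtype (K := Subgroup.centralizer ({c} : Set G))).exists_le_sylow
  have hSP : cenSyl c S = P := hsyl _ (isPGroup_cenSyl c S) (cenSyl_le c S) fun d hd =>
    ⟨⟨d, mem_centralizer_singleton_of hc hd⟩, hS (Subgroup.mem_subgroupOf.2 hd), rfl⟩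
  obtain ⟨y, hy⟩ := exists_conj_le_of_centralChar hM hB hD hχ hunit S
  rw [hSP] at hy
  have h1 := Subgroup.card_le_of_le hx
  have h2 := Subgroup.card_le_of_le hy
  rw [Subgroup.card_map_of_injective (MulAut.conj _).injective] at h1 h2
  have : D.map (MulAut.conj y).toMonoidHom = P := Subgroup.eq_of_le_of_card_ge hy (by
    rw [Subgroup.card_map_of_injective (MulAut.conj y).injective]; exact h1)
  rw [← this]
  exact isDefectGroup_conj hM hB hD y

include hM in
/-- A pair at a defect group is maximal. -/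
theorem maximal_of_defectGroup (h : IsBrauerPairOf p M B P e) (hD : IsDefectGroup p M B P) :
    IsMaximalBrauerPair p M B P e := by
  refine ⟨h, fun R g hg hle => ?_⟩
  obtain ⟨x, hx⟩ := (exists_pair_iff hM h.2.1 hD hg.1.1).1 ⟨g, hg⟩
  refine (Subgroup.eq_of_le_of_card_ge (subpairLE_le hle) ?_).symm
  have := Subgroup.card_le_of_le hx
  rwa [Subgroup.card_map_of_injective (MulAut.conj x).injective] at this

include hM in
/-- The maximal pairs at one subgroup are conjugate under its normalizer. -/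
theorem exists_conj_of_maximal (hmax : IsMaximalBrauerPair p M B P e)
    {g : Set (IrrCharacter C[P])} (hg : IsBrauerPairOf p M B P g) :
    ∃ (x : G) (h : P.map (MulAut.conj x).toMonoidHom = P),
      g = conjSet (conjMaps_centralizer h) e := by
  obtain ⟨χ, hχ⟩ := nonempty_of_isPBlock hM hg.2.1
  obtain ⟨hsub, -⟩ := maximal_pair_data hM hmax hχ
  obtain ⟨ξ, hξ⟩ := nonempty_of_isPBlock hM hg.1.2
  obtain ⟨x, h, hx⟩ := hsub g hg hξ
  exact ⟨x, h, isPBlock_eq_of_mem hM hg.1.2 (isPBlock_conjSet _ hmax.1.1.2) hξ hx⟩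

include hM in
/-- Every pair of the block is conjugate to one below a given maximal pair. -/
theorem exists_conj_le_maximal (hmax : IsMaximalBrauerPair p M B P e) {Q : Subgroup G}
    {f : Set (IrrCharacter C[Q])} (hQ : IsBrauerPairOf p M B Q f) :
    ∃ x : G, Relation.ReflTransGen (NormalSubpairRel p M) (conjIdx x ⟨Q, f⟩) ⟨P, e⟩ := by
  obtain ⟨R, g, hle, hRmax⟩ := exists_maximal_above hM hQ
  obtain ⟨y, hy⟩ := exists_conj_defectGroup hM hQ.2.1 (isDefectGroup_of_maximal hM hRmax)
    (isDefectGroup_of_maximal hM hmax)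
  have h1 := isBrauerPairOf_conjIdx hM y (a := ⟨R, g⟩) hRmax.1
  rw [conjIdx_eq hy] at h1
  dsimp only at h1
  obtain ⟨x, hx, heq⟩ := exists_conj_of_maximal hM hmax h1
  refine ⟨x⁻¹ * y, ?_⟩
  have h2 := rel_conjIdx hM (x⁻¹ * y) (a := ⟨Q, f⟩) (b := ⟨R, g⟩) hle
  rwa [← conjIdx_mul y x⁻¹ ⟨R, g⟩, conjIdx_eq hy, heq, ← conjIdx_eq hx e, conjIdx_mul,
    inv_mul_cancel, conjIdx_one] at h2

end Cfsg.Lib.Block
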