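import Cfsg.Agent.Lib.Block.StarTau
import Cfsg.Agent.Lib.Block.MaxPairs
import Cfsg.Agent.Lib.Block.BlockFusionSys
import Cfsg.Agent.Lib.Char.BrauerInduction
import Mathlib.LinearAlgebra.Trace

/-!
# The product of a block character with a linear character trivial on the focal subgroup

The weighted sum over the pairs at the `p`-part of an element is a generalized character.
-/

set_option autoImplicit false
set_option linter.unusedSectionVars false
set_option maxHeartbeats 1600000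

namespace Cfsg.Lib.Block

open Cfsg
open scoped ComplexConjugate MonoidAlgebra

universe u

variable {p : ℕ} {M : Ideal AlgInt} (hM : IsPModular p M) {G : Type u} [Group G] [Fintype G]
  [Fact p.Prime]

noncomputable local instance (priority := high) fintypeSubgroupStarProduct {A : Type u} [Group A]
    [Fintype A] (H : Subgroup A) : Fintype H := Fintype.ofFinite H

local notation "C[" Q "]" => Subgroup.centralizer (SetLike.coe Q)

variable {B : Set (IrrCharacter G)} {P : Subgroup G} {e : Set (IrrCharacter C[P])}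

/-- A linear character of `P` that is constant on conjugate pairs below `(P, e)`. -/
structure IsFocChar (p : ℕ) (M : Ideal AlgInt) (P : Subgroup G) (e : Set (IrrCharacter C[P]))
    (lam : G → ℂ) : Prop where
  map_mul : ∀ x ∈ P, ∀ y ∈ P, lam (x * y) = lam x * lam y
  map_one : lam 1 = 1
  fusion : ∀ (v g : G) (b : Set (IrrCharacter C[Subgroup.zpowers v])),
    SubpairLE p M (Subgroup.zpowers v) b P e →
    Relation.ReflTransGen (NormalSubpairRel p M) (conjIdx g ⟨Subgroup.zpowers v, b⟩) ⟨P, e⟩ →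
      lam (g * v * g⁻¹) = lam v

/-- A function of `P` that is constant on conjugate pairs below `(P, e)` and restricts to a
generalized character. -/
structure IsFusChar (p : ℕ) (M : Ideal AlgInt) (P : Subgroup G) (e : Set (IrrCharacter C[P]))
    (lam : G → ℂ) : Prop where
  gen : IsGeneralizedCharacter P (fun x : P => lam (x : G))
  fusion : ∀ (v g : G) (b : Set (IrrCharacter C[Subgroup.zpowers v])),
    SubpairLE p M (Subgroup.zpowers v) b P e →
    Relation.ReflTransGen (NormalSubpairRel p M) (conjIdx g ⟨Subgroup.zpowers v, b⟩) ⟨P, e⟩ →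
      lam (g * v * g⁻¹) = lam v

theorem IsFocChar.isFusChar {lam : G → ℂ} (h : IsFocChar p M P e lam) :
    IsFusChar p M P e lam := by
  let φ : P →* ℂ :=
    { toFun := fun x => lam (x : G)
      map_one' := h.map_one
      map_mul' := fun x y => h.map_mul _ x.2 _ y.2 }
  exact ⟨(Char.isIrrCharacter_linear φ.toHomUnits).isGeneralized, h.fusion⟩

open Classical in
/-- The weight of a pair: the value of the linear character at a conjugate below `(P, e)`. -/
noncomputable def lamW (p : ℕ) (M : Ideal AlgInt) (P : Subgroup G) (e : Set (IrrCharacter C[P]))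
    (lam : G → ℂ) (u : G) (i : BrauerPairIdx G) : ℂ :=
  if h : i.1 = Subgroup.zpowers u ∧
      ∃ g : G, Relation.ReflTransGen (NormalSubpairRel p M) (conjIdx g i) ⟨P, e⟩
  then lam (h.2.choose * u * h.2.choose⁻¹) else 0

variable {lam : G → ℂ}

include hM in
theorem lamW_eq (hlam : IsFusChar p M P e lam) {u g : G}
    {b : Set (IrrCharacter C[Subgroup.zpowers u])}
    (hg : Relation.ReflTransGen (NormalSubpairRel p M) (conjIdx g ⟨Subgroup.zpowers u, b⟩) ⟨P, e⟩) :
    lamW p M P e lam u ⟨Subgroup.zpowers u, b⟩ = lam (g * u * g⁻¹) := by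
  classical
  have hex : (⟨Subgroup.zpowers u, b⟩ : BrauerPairIdx G).1 = Subgroup.zpowers u ∧
      ∃ g : G, Relation.ReflTransGen (NormalSubpairRel p M)
        (conjIdx g ⟨Subgroup.zpowers u, b⟩) ⟨P, e⟩ := ⟨rfl, g, hg⟩
  rw [lamW, dif_pos hex]
  have h0 := hex.2.choose_spec
  set g₀ := hex.2.choose
  have hmap := conj_zpowers_map g u
  have e1 : g₀ * u * g₀⁻¹ = g₀ * g⁻¹ * (g * u * g⁻¹) * (g₀ * g⁻¹)⁻¹ := by group
  rw [e1]
  refine hlam.fusion _ _ (conjSet (conjMaps_centralizer hmap) b) ?_ ?_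
  · show Relation.ReflTransGen _ _ _
    rw [← conjIdx_eq hmap b]
    exact hg
  · rw [← conjIdx_eq hmap b, conjIdx_mul, inv_mul_cancel_right]
    exact h0

theorem lamW_eq_zero {u : G} {i : BrauerPairIdx G}
    (h : ∀ g : G, ¬ Relation.ReflTransGen (NormalSubpairRel p M) (conjIdx g i) ⟨P, e⟩) :
    lamW p M P e lam u i = 0 := by
  classical
  rw [lamW, dif_neg]
  exact fun hc => h _ hc.2.choose_spec

include hM in
theorem lamW_conj (hlam : IsFusChar p M P e lam) (a u : G) (i : BrauerPairIdx G) :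
    lamW p M P e lam (a * u * a⁻¹) (conjIdx a i) = lamW p M P e lam u i := by
  classical
  obtain ⟨Q, b⟩ := i
  by_cases hQ : Q = Subgroup.zpowers u
  · subst hQ
    have hmap := conj_zpowers_map a u
    rw [conjIdx_eq hmap b]
    by_cases hex : ∃ g : G, Relation.ReflTransGen (NormalSubpairRel p M)
        (conjIdx g ⟨Subgroup.zpowers u, b⟩) ⟨P, e⟩
    · obtain ⟨g, hg⟩ := hex
      rw [lamW_eq hM hlam hg, lamW_eq hM hlam (g := g * a⁻¹)
        (by rw [← conjIdx_eq hmap b, conjIdx_mul, inv_mul_cancel_right]; exact hg)]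
      group
    · rw [lamW_eq_zero (i := ⟨Subgroup.zpowers u, b⟩) fun g hg => hex ⟨g, hg⟩, lamW_eq_zero]
      intro g hg
      rw [← conjIdx_eq hmap b, conjIdx_mul] at hg
      exact hex ⟨g * a, hg⟩
  · rw [lamW, lamW, dif_neg, dif_neg fun h => hQ h.1]
    intro h
    refine hQ ?_
    have h1 : Q.map (MulAut.conj a).toMonoidHom =
        (Subgroup.zpowers u).map (MulAut.conj a).toMonoidHom := by
      rw [conj_zpowers_map]; exact h.1
    exact Subgroup.map_injective (MulAut.conj a).injective h1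

/-! ### Elementary facts -/

theorem conjA_conjA {R : Type*} [CommRing R] (a b : G) (x : R[G]) :
    conjA R a (conjA R b x) = conjA R (a * b) x := by
  refine MonoidAlgebra.ext (Finsupp.ext fun g => ?_)
  obtain ⟨g, rfl⟩ : ∃ z, a * (b * z * b⁻¹) * a⁻¹ = g := ⟨b⁻¹ * (a⁻¹ * g * a) * b, by group⟩
  rw [coeff_conjA, coeff_conjA,
    show a * (b * g * b⁻¹) * a⁻¹ = (a * b) * g * (a * b)⁻¹ by group, coeff_conjA]

theorem conjA_eq_self {R : Type*} [CommRing R] {H : Subgroup G} {a : G} (ha : a ∈ H) {x : R[G]}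
    (hx : x ∈ invAlg R H) : conjA R a x = x := by
  refine MonoidAlgebra.ext (Finsupp.ext fun g => ?_)
  obtain ⟨g, rfl⟩ : ∃ z, a * z * a⁻¹ = g := ⟨a⁻¹ * g * a, by group⟩
  rw [coeff_conjA, mem_invAlg.1 hx a ha]

theorem conjA_iterate {R : Type*} [CommRing R] (a : G) (i : ℕ) (x : R[G]) :
    (conjA R a)^[i] x = conjA R (a ^ i) x := by
  induction i with
  | zero =>
    rw [Function.iterate_zero, id_eq, pow_zero]
    exact (conjA_eq_self (one_mem (⊥ : Subgroup G)) (mem_invAlg.2 fun h hh y => by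
      rw [Subgroup.mem_bot.1 hh]; simp)).symm
  | succ n ih => rw [Function.iterate_succ_apply', ih, conjA_conjA, ← pow_succ']

theorem brK_zpowers_conjA {k : Type*} [Field k] (q : G) (x : k[G]) :
    brK (Subgroup.zpowers q) (conjA k q x) = brK (Subgroup.zpowers q) x := by
  refine brK_ext fun g hg => ?_
  have h := Subgroup.mem_centralizer_iff.1 hg q (Subgroup.mem_zpowers q)
  conv_lhs => rw [show g = q * g * q⁻¹ by rw [h, mul_inv_cancel_right], coeff_conjA]

theorem isPGroup_exists_orderOf {Q : Subgroup G} (hQ : IsPGroup p Q) {q : G} (hq : q ∈ Q) :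
    ∃ k : ℕ, orderOf q = p ^ k := by
  obtain ⟨k, hk⟩ := IsPGroup.iff_orderOf.1 hQ ⟨q, hq⟩
  exact ⟨k, by rwa [Subgroup.orderOf_mk] at hk⟩

theorem pPt_mul_of_sup {Q R : Subgroup G} (hQ : IsPGroup p Q) (hR : ¬ p ∣ Nat.card R)
    (hQR : ∀ q ∈ Q, ∀ r ∈ R, q * r = r * q) {q r : G} (hq : q ∈ Q) (hr : r ∈ R) :
    pPt p (q * r) = q := by
  obtain ⟨k, hk⟩ := isPGroup_exists_orderOf hQ hq
  exact (eq_pPt rfl (hQR q hq r hr) hk fun h =>
    hR (h.trans (Subgroup.orderOf_dvd_natCard _ hr))).symm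

theorem exists_mul_of_mem_sup {Q R : Subgroup G}
    (hQR : ∀ q ∈ Q, ∀ r ∈ R, q * r = r * q) {g : G} (hg : g ∈ Q ⊔ R) :
    ∃ q ∈ Q, ∃ r ∈ R, q * r = g := by
  rw [← SetLike.mem_coe, Subgroup.coe_mul_of_right_le_normalizer_left Q R
    fun r hr => Subgroup.centralizer_le_normalizer _
      (Subgroup.mem_centralizer_iff.2 fun q hq => hQR q hq r hr)] at hg
  obtain ⟨q, hq, r, hr, h⟩ := Set.mem_mul.1 hg
  exact ⟨q, hq, r, hr, h⟩

theorem pPt_mem_of_sup {Q R : Subgroup G} (hQ : IsPGroup p Q) (hR : ¬ p ∣ Nat.card R)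
    (hQR : ∀ q ∈ Q, ∀ r ∈ R, q * r = r * q) {g : G} (hg : g ∈ Q ⊔ R) : pPt p g ∈ Q := by
  obtain ⟨q, hq, r, hr, rfl⟩ := exists_mul_of_mem_sup hQR hg
  rwa [pPt_mul_of_sup hQ hR hQR hq hr]

theorem pPt_mul_mul {Q R : Subgroup G} (hQ : IsPGroup p Q) (hR : ¬ p ∣ Nat.card R)
    (hQR : ∀ q ∈ Q, ∀ r ∈ R, q * r = r * q) {g h : G} (hg : g ∈ Q ⊔ R) (hh : h ∈ Q ⊔ R) :
    pPt p (g * h) = pPt p g * pPt p h := by
  obtain ⟨q, hq, r, hr, rfl⟩ := exists_mul_of_mem_sup hQR hg
  obtain ⟨q', hq', r', hr', rfl⟩ := exists_mul_of_mem_sup hQR hh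
  rw [show q * r * (q' * r') = q * q' * (r * r') by
    rw [mul_assoc q r, ← mul_assoc r q', ← hQR q' hq' r hr]; simp only [mul_assoc],
    pPt_mul_of_sup hQ hR hQR (mul_mem hq hq') (mul_mem hr hr'),
    pPt_mul_of_sup hQ hR hQR hq hr, pPt_mul_of_sup hQ hR hQR hq' hr']

theorem card_sup_eq {Q R : Subgroup G} (hQ : IsPGroup p Q) (hR : ¬ p ∣ Nat.card R)
    (hQR : ∀ q ∈ Q, ∀ r ∈ R, q * r = r * q) :
    Nat.card ↥(Q ⊔ R) = Nat.card Q * Nat.card R := by
  rw [← Nat.card_prod]
  refine (Nat.card_congr (Equiv.ofBijective (fun x : Q × R =>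
    (⟨x.1 * x.2, mul_mem (Subgroup.mem_sup_left x.1.2) (Subgroup.mem_sup_right x.2.2)⟩ :
      ↥(Q ⊔ R))) ⟨fun x y hxy => ?_, fun z => ?_⟩)).symm
  · have h : (x.1 : G) * x.2 = y.1 * y.2 := congrArg Subtype.val hxy
    have h1 : (x.1 : G) = y.1 := by
      rw [← pPt_mul_of_sup hQ hR hQR x.1.2 x.2.2, h, pPt_mul_of_sup hQ hR hQR y.1.2 y.2.2]
    rw [h1] at h
    exact Prod.ext (Subtype.ext h1) (Subtype.ext (mul_left_cancel h))
  · obtain ⟨q, hq, r, hr, h⟩ := exists_mul_of_mem_sup hQR z.2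
    exact ⟨(⟨q, hq⟩, ⟨r, hr⟩), Subtype.ext h⟩

/-- The values of a character at an invariant idempotent form a character. -/
theorem isCharacter_hatC (χ : IrrCharacter G) {E : Subgroup G} {I : OGA hM G}
    (hI : I ∈ invAlg (locRing hM) E) (hIi : IsIdempotentElem I) :
    IsCharacter E (fun g : E => hatC hM (χ : G → ℂ) I (g : G)) := by
  classical
  obtain ⟨n, ρ, -, hρ⟩ := χ.2
  set Ic : ℂ[G] := MonoidAlgebra.mapRingHom G (locRing hM).subtype I with hIc
  set T : Module.End ℂ (Fin n → ℂ) := ρ.asAlgebraHom Ic with hT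
  have hTi : IsIdempotentElem T := (hIi.map _).map _
  have hcomm : ∀ g ∈ E, Commute (ρ g) T := by
    intro g hg
    have h1 : MonoidAlgebra.single g 1 * I = I * MonoidAlgebra.single g 1 :=
      (Subalgebra.mem_centralizer_iff (locRing hM)).1 hI _ ⟨g, hg, rfl⟩
    have h2 := congrArg ρ.asAlgebraHom
      (congrArg (MonoidAlgebra.mapRingHom G (locRing hM).subtype) h1)
    simp only [map_mul, MonoidAlgebra.mapRingHom_single, map_one,
      Representation.asAlgebraHom_single_one] at h2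
    exact h2
  have htr : ∀ (x : ℂ[G]) (g : G), LinearMap.trace ℂ _ (ρ.asAlgebraHom x * ρ g) =
      ∑ k : G, x.coeff k * (χ : G → ℂ) (k * g) := by
    intro x g
    induction x using MonoidAlgebra.induction_linear with
    | zero => simp
    | add a b ha hb => simp [add_mul, ha, hb, Finset.sum_add_distrib]
    | single m r =>
      rw [Representation.asAlgebraHom_single, smul_mul_assoc, map_smul, ← map_mul,
        Finset.sum_eq_single m (fun k _ hk => by
          rw [MonoidAlgebra.coeff_single, Finsupp.single_eq_of_ne hk, zero_mul])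
          (fun h => absurd (Finset.mem_univ m) h), MonoidAlgebra.coeff_single,
        Finsupp.single_eq_same, smul_eq_mul, ← hρ]
      rfl
  have hinv : ∀ g : E, ∀ x ∈ LinearMap.range T, ρ g x ∈ LinearMap.range T := by
    rintro g _ ⟨y, rfl⟩
    exact ⟨ρ g y, (LinearMap.congr_fun (hcomm g g.2).eq y).symm⟩
  let σ : Representation ℂ E (LinearMap.range T) :=
    { toFun := fun g => (ρ g).restrict (hinv g)
      map_one' := by
        refine LinearMap.ext fun x => Subtype.ext ?_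
        show ρ ((1 : E) : G) x = x
        rw [OneMemClass.coe_one, map_one]
        rfl
      map_mul' := fun a b => by
        refine LinearMap.ext fun x => Subtype.ext ?_
        show ρ ((a * b : E) : G) x = ρ (a : G) (ρ (b : G) x)
        rw [Subgroup.coe_mul, map_mul]
        rfl }
  have hchar : σ.character = fun g : E => hatC hM (χ : G → ℂ) I (g : G) := by
    funext g
    have hrange : ∀ x, (T * ρ g) x ∈ LinearMap.range T := fun x => ⟨ρ g x, rfl⟩
    have hres : σ g = (T * ρ g).restrict fun x _ => hrange x := by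
      refine LinearMap.ext fun x => Subtype.ext ?_
      show ρ (g : G) x = T (ρ (g : G) x)
      obtain ⟨y, hy⟩ := x.2
      have h1 : T (x : Fin n → ℂ) = x := by
        rw [← hy]
        exact LinearMap.congr_fun hTi.eq y
      calc ρ (g : G) x = ρ (g : G) (T x) := by rw [h1]
        _ = T (ρ (g : G) x) := LinearMap.congr_fun (hcomm g g.2).eq (x : Fin n → ℂ)
    show LinearMap.trace ℂ _ (σ g) = _
    rw [hres, LinearMap.trace_restrict_eq_of_forall_mem _ _ hrange, hT, htr, hatC]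
    exact Finset.sum_congr rfl fun k _ => by rw [hIc, MonoidAlgebra.coeff_mapRingHom]; rfl
  rw [← hchar]
  exact Char.isCharacter_character σ

/-! ### The generalized character -/

variable (hmax : IsMaximalBrauerPair p M B P e) (hlam : IsFusChar p M P e lam)

include hmax in
theorem phiFn_point {W : G → BrauerPairIdx G → ℂ} (χ : IrrCharacter G) {E : Subgroup G}
    {Q : Subgroup G} {x : KGA hM G} {f : Set (IrrCharacter C[Q])}
    (hsel : ∀ (R' : Subgroup G) (b : Set (IrrCharacter C[R'])), SubpairLE p M R' b Q f →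
      brK R' x * blkK hM R' b = brK R' x)
    {g : G} (hg : g ∈ E) {I : OGA hM G} (hI : I ∈ invAlg (locRing hM) E) (hIi : IsIdempotentElem I)
    (hIr : red hM I = x) {b : Set (IrrCharacter C[Subgroup.zpowers (pPt p g)])}
    (hb : IsPBlock M b) (hle : SubpairLE p M (Subgroup.zpowers (pPt p g)) b Q f) :
    phiFn hM W (χ : G → ℂ) x g =
      W (pPt p g) ⟨Subgroup.zpowers (pPt p g), b⟩ * hatC hM (χ : G → ℂ) I g := by
  rw [phiFn, phiAt, Finset.sum_eq_single_of_mem b ((mem_blocksOf hM).2 hb) fun b' hb' hne => by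
    rw [← hsel _ b hle, mul_assoc, blkK_mul_of_ne hM hb ((mem_blocksOf hM).1 hb') (Ne.symm hne),
      mul_zero, tau_zero hM χ.2.isClassFunction, mul_zero], hsel _ b hle]
  rw [tau_eq hM χ.2.isClassFunction
    (⟨hIi, invAlg_anti (Subgroup.zpowers_le.2 hg) hI, by rw [hIr]⟩ :
      IsTauLift hM g (brK (Subgroup.zpowers (pPt p g)) x) I)]

include hmax hlam in
theorem isGeneralized_point (χ : IrrCharacter G) {Q R : Subgroup G} (hQ : IsPGroup p Q)
    (hR : ¬ p ∣ Nat.card R) (hQR : ∀ q ∈ Q, ∀ r ∈ R, q * r = r * q) {x : KGA hM G}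
    (hx : IsPrim (invAlg (resField hM) (Q ⊔ R)) x) (hne : brK Q x ≠ 0) :
    IsGeneralizedCharacter ↥(Q ⊔ R)
      (fun g : ↥(Q ⊔ R) => phiFn hM (lamW p M P e lam) (χ : G → ℂ) x (g : G)) := by
  classical
  haveI := isAlgClosed_resField hM
  obtain ⟨f, hf, hsel⟩ := exists_point_pair hM hQ hQR hx hne
  have hQf : IsBrauerPair p M Q f := ⟨hQ, hf⟩
  obtain ⟨I, hI, hIi, hIr⟩ := exists_inv_idem_lift hM hx.mem hx.idem
  have hchar := isCharacter_hatC hM χ hI hIi
  have hsub : ∀ g : ↥(Q ⊔ R), Subgroup.zpowers (pPt p (g : G)) ≤ Q := fun g =>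
    Subgroup.zpowers_le.2 (pPt_mem_of_sup hQ hR hQR g.2)
  by_cases hex : ∃ g₀ : G, Relation.ReflTransGen (NormalSubpairRel p M) (conjIdx g₀ ⟨Q, f⟩) ⟨P, e⟩
  · obtain ⟨g₀, hg₀⟩ := hex
    have hmem : ∀ g : ↥(Q ⊔ R), g₀ * pPt p (g : G) * g₀⁻¹ ∈ P := fun g =>
      le_of_rel hg₀ ⟨_, pPt_mem_of_sup hQ hR hQR g.2, rfl⟩
    let φ : ↥(Q ⊔ R) →* P :=
      { toFun := fun g => ⟨g₀ * pPt p (g : G) * g₀⁻¹, hmem g⟩
        map_one' := Subtype.ext (by
          show g₀ * pPt p ((1 : ↥(Q ⊔ R)) : G) * g₀⁻¹ = 1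
          rw [OneMemClass.coe_one, (pPt_eq_one_iff (1 : G)).2 (by simp [Fact.out (p := p.Prime) |>.ne_one]),
            mul_one, mul_inv_cancel])
        map_mul' := fun g h => Subtype.ext (by
          show g₀ * pPt p ((g * h : ↥(Q ⊔ R)) : G) * g₀⁻¹ =
            (g₀ * pPt p (g : G) * g₀⁻¹) * (g₀ * pPt p (h : G) * g₀⁻¹)
          rw [Subgroup.coe_mul, pPt_mul_mul hQ hR hQR g.2 h.2]
          group) }
    have e1 : (fun g : ↥(Q ⊔ R) => phiFn hM (lamW p M P e lam) (χ : G → ℂ) x (g : G)) =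
        (fun g : ↥(Q ⊔ R) => lam ((φ g : P) : G)) *
          fun g : ↥(Q ⊔ R) => hatC hM (χ : G → ℂ) I (g : G) := by
      funext g
      obtain ⟨b, hb, hle⟩ := exists_subpair hM hQf (hsub g)
      rw [phiFn_point hM hmax χ hsel g.2 hI hIi hIr hb hle,
        lamW_eq hM hlam (g := g₀) ((rel_conjIdx hM g₀ hle).trans hg₀)]
      rfl
    rw [e1]
    exact (hlam.gen.comp φ).mul hchar.isGeneralized
  · have e1 : (fun g : ↥(Q ⊔ R) => phiFn hM (lamW p M P e lam) (χ : G → ℂ) x (g : G)) = 0 := by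
      funext g
      obtain ⟨b, hb, hle⟩ := exists_subpair hM hQf (hsub g)
      rw [phiFn_point hM hmax χ hsel g.2 hI hIi hIr hb hle, lamW_eq_zero, zero_mul]
      · rfl
      intro g₀ hg₀
      have h1 : IsBrauerPairOf p M B (conjIdx g₀ ⟨Subgroup.zpowers (pPt p (g : G)), b⟩).1
          (conjIdx g₀ ⟨Subgroup.zpowers (pPt p (g : G)), b⟩).2 :=
        (isBrauerPairOf_iff_of_le hM hg₀ B).1 hmax.1
      have h2 := isBrauerPairOf_conjIdx hM g₀⁻¹ h1
      rw [conjIdx_mul, inv_mul_cancel, conjIdx_one] at h2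
      exact hex (exists_conj_le_maximal hM hmax ((isBrauerPairOf_iff_of_le hM hle B).2 h2))
    rw [e1]
    exact Char.isGeneralizedCharacter_zero

include hlam in
theorem classInner_green_isInt (χ : IrrCharacter G) {Q R N : Subgroup G} {a : G} {x j : KGA hM G}
    (hQ : IsPGroup p Q) (hR : ¬ p ∣ Nat.card R) (hQR : ∀ q ∈ Q, ∀ r ∈ R, q * r = r * q)
    (hx : x ∈ invAlg (resField hM) (Q ⊔ R))
    (hNQ : N ≤ Q) (haQ : a ∈ Q) (haN : a ∉ N) (hNn : ∀ q ∈ Q, ∀ m ∈ N, q * m * q⁻¹ ∈ N)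
    (hcard : Nat.card Q = p * Nat.card N) (hj : j ∈ invAlg (resField hM) (N ⊔ R))
    (hji : IsIdempotentElem j)
    (horth : ∀ i < p, ∀ l < p, i ≠ l →
      (conjA (resField hM) a)^[i] j * (conjA (resField hM) a)^[l] j = 0)
    (hsum : ∑ i ∈ Finset.range p, (conjA (resField hM) a)^[i] j = x)
    (hΦ : IsGeneralizedCharacter ↥(N ⊔ R)
      (fun g : ↥(N ⊔ R) => phiFn hM (lamW p M P e lam) (χ : G → ℂ) j (g : G))) :
    IsGeneralizedCharacter ↥(Q ⊔ R)
      (fun g : ↥(Q ⊔ R) => phiFn hM (lamW p M P e lam) (χ : G → ℂ) x (g : G)) := by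
  classical
  haveI := charP_resField hM
  have hpr := (Fact.out : p.Prime)
  have hcf := χ.2.isClassFunction
  have hW := lamW_conj hM hlam
  set W := lamW p M P e lam with hWdef
  set J : ℕ → KGA hM G := fun i => conjA (resField hM) (a ^ i) j with hJ
  have hJit : ∀ i, (conjA (resField hM) a)^[i] j = J i := fun i => conjA_iterate a i j
  simp only [hJit] at horth hsum
  have haR : ∀ i : ℕ, ∀ r ∈ R, a ^ i * r = r * a ^ i := fun i => hQR _ (pow_mem haQ i)
  have hnormE : ∀ c ∈ Q, ∀ g ∈ N ⊔ R, c * g * c⁻¹ ∈ N ⊔ R := by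
    intro c hc g hg
    obtain ⟨m, hm, r, hr, rfl⟩ :=
      exists_mul_of_mem_sup (fun q hq => hQR q (hNQ hq)) hg
    rw [show c * (m * r) * c⁻¹ = c * m * c⁻¹ * (c * r * c⁻¹) by group, hQR c hc r hr,
      mul_inv_cancel_right]
    exact mul_mem (Subgroup.mem_sup_left (hNn c hc m hm)) (Subgroup.mem_sup_right hr)
  have hnorm' : ∀ i : ℕ, ∀ g ∈ N ⊔ R, (a ^ i)⁻¹ * g * a ^ i ∈ N ⊔ R := by
    intro i g hg
    simpa using hnormE _ (inv_mem (pow_mem haQ i)) g hg
  have hJmem : ∀ i, J i ∈ invAlg (resField hM) (N ⊔ R) := fun i =>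
    conjA_mem_invAlg _ (hnorm' i) hj
  have hJidem : ∀ i, IsIdempotentElem (J i) := fun i => hji.map _
  -- the quotient is cyclic of order `p`
  haveI hnormal : (N.subgroupOf Q).Normal := ⟨fun m hm q =>
    Subgroup.mem_subgroupOf.2 (hNn q q.2 m (Subgroup.mem_subgroupOf.1 hm))⟩
  have hidx : Nat.card (Q ⧸ N.subgroupOf Q) = p := by
    have h1 := (N.subgroupOf Q).card_mul_index
    rw [Nat.card_congr (Subgroup.subgroupOfEquivOfLe hNQ).toEquiv, hcard, mul_comm p] at h1
    exact Nat.eq_of_mul_eq_mul_left Nat.card_pos h1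
  have hgen : ∀ q ∈ Q, ∃ n : ℕ, ∃ m ∈ N, q = a ^ n * m := by
    intro q hq
    have ha1 : ((⟨a, haQ⟩ : Q) : Q ⧸ N.subgroupOf Q) ≠ 1 := fun h =>
      haN (Subgroup.mem_subgroupOf.1 ((QuotientGroup.eq_one_iff _).1 h))
    obtain ⟨n, hn⟩ := mem_powers_of_prime_card hidx (g' := ((⟨q, hq⟩ : Q) : Q ⧸ N.subgroupOf Q)) ha1
    have hn' : (((⟨a, haQ⟩ : Q) ^ n : Q) : Q ⧸ N.subgroupOf Q) =
        ((⟨q, hq⟩ : Q) : Q ⧸ N.subgroupOf Q) := hn
    have h2 := Subgroup.mem_subgroupOf.1 (QuotientGroup.eq.1 hn')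
    push_cast at h2
    exact ⟨n, _, h2, by group⟩
  have hap : a ^ p ∈ N := by
    have h1 : ((⟨a, haQ⟩ : Q) : Q ⧸ N.subgroupOf Q) ^ p = 1 := by
      have := pow_card_eq_one' (x := ((⟨a, haQ⟩ : Q) : Q ⧸ N.subgroupOf Q))
      rwa [hidx] at this
    rw [← QuotientGroup.mk_pow, QuotientGroup.eq_one_iff] at h1
    simpa using Subgroup.mem_subgroupOf.1 h1
  have hper : ∀ i, J (i + p) = J i := by
    intro i
    simp only [hJ]
    rw [pow_add, ← conjA_conjA, conjA_eq_self (Subgroup.mem_sup_left hap) hj]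
  -- vanishing off the subgroup
  have hzero : ∀ q ∈ Q, q ∉ N → brK (Subgroup.zpowers q) x = 0 := by
    intro q hq hqN
    obtain ⟨n, m, hm, hqe⟩ := hgen q hq
    set v : ℕ → KGA hM G := fun i => brK (Subgroup.zpowers q) (J i) with hv
    have hvp : Function.Periodic v p := fun i => by simp only [hv, hper]
    have hvn : Function.Periodic v n := by
      intro i
      have hmc : (a ^ i)⁻¹ * m * a ^ i ∈ N ⊔ R := hnorm' i m (Subgroup.mem_sup_left hm)
      have h1 : conjA (resField hM) q (J i) = J (i + n) := by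
        simp only [hJ]
        rw [conjA_conjA, hqe, show a ^ n * m * a ^ i = a ^ (i + n) * ((a ^ i)⁻¹ * m * a ^ i) by
          rw [add_comm i n, pow_add]; group, ← conjA_conjA, conjA_eq_self hmc hj]
      simp only [hv]
      rw [← h1, brK_zpowers_conjA]
    have hnp : ¬ p ∣ n := by
      rintro ⟨c, rfl⟩
      exact hqN (by rw [hqe, pow_mul]; exact mul_mem (pow_mem hap c) hm)
    obtain ⟨t, -, ht⟩ := Nat.exists_mul_mod_eq_one_of_coprime
      ((hpr.coprime_iff_not_dvd.2 hnp).symm) hpr.one_lt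
    have hv1 : Function.Periodic v 1 := by
      intro i
      calc v (i + 1) = v (i + 1 + (n * t / p) * p) := ((hvp.nat_mul _) _).symm
        _ = v (i + n * t) := by
          congr 1
          have := Nat.div_add_mod (n * t) p
          rw [ht] at this
          rw [mul_comm (n * t / p) p]
          omega
        _ = v i := by rw [mul_comm n t]; exact hvn.nat_mul t i
    have hconst : ∀ i, v i = v 0 := fun i => by simpa using hv1.nat_mul_eq i
    rw [← hsum, brK_sum, Finset.sum_congr rfl (g := fun _ => v 0) fun i _ => hconst i,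
      Finset.sum_const, Finset.card_range, ← Nat.cast_smul_eq_nsmul (resField hM),
      CharP.cast_eq_zero, zero_smul]
  -- values
  have hsupmem : ∀ g ∈ Q ⊔ R, pPt p g ∈ N → g ∈ N ⊔ R := by
    intro g hg hN
    obtain ⟨q, hq, r, hr, rfl⟩ := exists_mul_of_mem_sup hQR hg
    rw [pPt_mul_of_sup hQ hR hQR hq hr] at hN
    exact mul_mem (Subgroup.mem_sup_left hN) (Subgroup.mem_sup_right hr)
  have hoff : ∀ g ∈ Q ⊔ R, g ∉ N ⊔ R → phiFn hM W (χ : G → ℂ) x g = 0 := by
    intro g hg hgN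
    have hz := hzero _ (pPt_mem_of_sup hQ hR hQR hg) fun h => hgN (hsupmem g hg h)
    refine Finset.sum_eq_zero fun b _ => ?_
    rw [hz, zero_mul, tau_zero hM hcf, mul_zero]
  have hadd : ∀ g ∈ N ⊔ R, ∀ m ≤ p,
      IsIdempotentElem (∑ i ∈ Finset.range m, J i) ∧
      phiFn hM W (χ : G → ℂ) (∑ i ∈ Finset.range m, J i) g =
        ∑ i ∈ Finset.range m, phiFn hM W (χ : G → ℂ) (J i) g := by
    intro g hg m
    induction m with
    | zero =>
      intro _
      simp only [Finset.range_zero, Finset.sum_empty]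
      exact ⟨IsIdempotentElem.zero, phiFn_zero hM W hcf g⟩
    | succ m ih =>
      intro hm
      obtain ⟨hi, he'⟩ := ih (Nat.le_of_succ_le hm)
      have h1 : (∑ i ∈ Finset.range m, J i) * J m = 0 := by
        rw [Finset.sum_mul]
        exact Finset.sum_eq_zero fun i hi' => horth i
          (lt_trans (Finset.mem_range.1 hi') hm) m hm (ne_of_lt (Finset.mem_range.1 hi'))
      have h2 : J m * (∑ i ∈ Finset.range m, J i) = 0 := by
        rw [Finset.mul_sum]
        exact Finset.sum_eq_zero fun i hi' => horth m hm i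
          (lt_trans (Finset.mem_range.1 hi') hm) (ne_of_gt (Finset.mem_range.1 hi'))
      rw [Finset.sum_range_succ, Finset.sum_range_succ]
      refine ⟨by
        show _ * _ = _
        rw [mul_add, add_mul, add_mul, hi.eq, (hJidem m).eq, h1, h2, add_zero, zero_add], ?_⟩
      rw [phiFn_add hM W hcf (invAlg_anti (Subgroup.zpowers_le.2 hg) (sum_mem fun i _ => hJmem i))
        hi (invAlg_anti (Subgroup.zpowers_le.2 hg) (hJmem m)) (hJidem m) h1 h2, he']
  have htrans : ∀ (i : ℕ) (g : G), g ∈ N ⊔ R →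
      phiFn hM W (χ : G → ℂ) (J i) g = phiFn hM W (χ : G → ℂ) j ((a ^ i)⁻¹ * g * a ^ i) := by
    intro i g hg
    have h := phiFn_conjA hM hcf hW (a ^ i) ((a ^ i)⁻¹ * g * a ^ i)
      (invAlg_anti (Subgroup.zpowers_le.2 (hnorm' i g hg)) hj) hji
    rwa [show a ^ i * ((a ^ i)⁻¹ * g * a ^ i) * (a ^ i)⁻¹ = g by group] at h
  have hle : N ⊔ R ≤ Q ⊔ R := sup_le_sup_right hNQ R
  refine Char.isGeneralizedCharacter_iff.2 ⟨fun g h => ?_, fun η hη => ?_⟩
  · show phiFn hM W (χ : G → ℂ) x ((h : G) * g * (h : G)⁻¹) = phiFn hM W (χ : G → ℂ) x g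
    have := phiFn_conjA hM hcf hW (h : G) (g : G)
      (invAlg_anti (Subgroup.zpowers_le.2 g.2) hx)
      (by rw [← hsum]; exact (hadd (1 : G) (one_mem _) p le_rfl).1)
    rwa [conjA_eq_self h.2 hx] at this
  obtain ⟨z, hz⟩ := hΦ.exists_int_classInner
    (hη.isCharacter.comp (Subgroup.inclusion hle)).isGeneralized
  refine ⟨z, ?_⟩
  set Φ : ↥(N ⊔ R) → ℂ := fun g => phiFn hM W (χ : G → ℂ) j (g : G) with hΦd
  have hcardE : Nat.card ↥(Q ⊔ R) = p * Nat.card ↥(N ⊔ R) := by
    rw [card_sup_eq hQ hR hQR, card_sup_eq (hQ.to_le hNQ) hR (fun q hq => hQR q (hNQ hq)), hcard,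
      mul_assoc]
  set S := ∑ g : ↥(N ⊔ R), Φ g * conj (η (Subgroup.inclusion hle g)) with hS
  have hsumE : ∑ g : ↥(Q ⊔ R), phiFn hM W (χ : G → ℂ) x (g : G) * conj (η g) = (p : ℂ) * S := by
    rw [← Finset.sum_subset (Finset.subset_univ
      ((Finset.univ : Finset ↥(N ⊔ R)).image (Subgroup.inclusion hle))) fun g _ hg => ?_,
      Finset.sum_image fun u _ v _ huv => Subgroup.inclusion_injective hle huv]
    · have hexp : ∀ g : ↥(N ⊔ R), phiFn hM W (χ : G → ℂ) x ((Subgroup.inclusion hle g : _) : G) =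
          ∑ i ∈ Finset.range p, Φ ⟨(a ^ i)⁻¹ * g * a ^ i, hnorm' i g g.2⟩ := by
        intro g
        show phiFn hM W (χ : G → ℂ) x (g : G) = _
        rw [← hsum, (hadd g g.2 p le_rfl).2]
        exact Finset.sum_congr rfl fun i _ => htrans i g g.2
      simp only [hexp, Finset.sum_mul]
      rw [Finset.sum_comm, Finset.sum_congr rfl (g := fun _ => S) fun i _ => ?_, Finset.sum_const,
        Finset.card_range, nsmul_eq_mul]
      let σ : ↥(N ⊔ R) ≃ ↥(N ⊔ R) :=
        { toFun := fun g => ⟨(a ^ i)⁻¹ * g * a ^ i, hnorm' i g g.2⟩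
          invFun := fun g => ⟨a ^ i * g * (a ^ i)⁻¹, hnormE _ (pow_mem haQ i) g g.2⟩
          left_inv := fun g => Subtype.ext (by group)
          right_inv := fun g => Subtype.ext (by group) }
      refine Fintype.sum_equiv σ _ _ fun g => ?_
      show Φ (σ g) * _ = Φ (σ g) * _
      congr 2
      have hcl := hη.isClassFunction (Subgroup.inclusion hle (σ g))
        ⟨a ^ i, Subgroup.mem_sup_left (pow_mem haQ i)⟩
      rw [← hcl]
      congr 1
      exact Subtype.ext (show (g : G) = a ^ i * ((a ^ i)⁻¹ * g * a ^ i) * (a ^ i)⁻¹ by group)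
    · rw [hoff g g.2 fun h => hg (Finset.mem_image.2 ⟨⟨g, h⟩, Finset.mem_univ _, rfl⟩), zero_mul]
  rw [← hz]
  show (Nat.card ↥(Q ⊔ R) : ℂ)⁻¹ * _ = (Nat.card ↥(N ⊔ R) : ℂ)⁻¹ * S
  rw [hsumE, hcardE, Nat.cast_mul, mul_inv, mul_mul_mul_comm,
    inv_mul_cancel₀ (Nat.cast_ne_zero.2 hpr.ne_zero), one_mul]

include hmax hlam in
/-- The weighted sums form a generalized character of every product of commuting parts. -/
theorem isGeneralized_phiFn (χ : IrrCharacter G) {R : Subgroup G} (hR : ¬ p ∣ Nat.card R) :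
    ∀ (Q : Subgroup G), IsPGroup p Q → (∀ q ∈ Q, ∀ r ∈ R, q * r = r * q) →
      ∀ x ∈ invAlg (resField hM) (Q ⊔ R), IsIdempotentElem x →
        IsGeneralizedCharacter ↥(Q ⊔ R)
          (fun g : ↥(Q ⊔ R) => phiFn hM (lamW p M P e lam) (χ : G → ℂ) x (g : G)) := by
  classical
  suffices ∀ (n : ℕ) (Q : Subgroup G), Nat.card Q = n → IsPGroup p Q →
      (∀ q ∈ Q, ∀ r ∈ R, q * r = r * q) →
      ∀ x ∈ invAlg (resField hM) (Q ⊔ R), IsIdempotentElem x →
        IsGeneralizedCharacter ↥(Q ⊔ R)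
          (fun g : ↥(Q ⊔ R) => phiFn hM (lamW p M P e lam) (χ : G → ℂ) x (g : G)) from
    fun Q => this _ Q rfl
  intro n
  induction n using Nat.strong_induction_on with
  | _ n ih =>
  intro Q hn hQ hQR x hx hxi
  have hcf := χ.2.isClassFunction
  refine idem_induction (invAlg (resField hM) (Q ⊔ R))
    (P := fun x => IsGeneralizedCharacter ↥(Q ⊔ R)
      (fun g : ↥(Q ⊔ R) => phiFn hM (lamW p M P e lam) (χ : G → ℂ) x (g : G))) ?_ ?_ ?_ hx hxi
  · rw [show (fun g : ↥(Q ⊔ R) => phiFn hM (lamW p M P e lam) (χ : G → ℂ) 0 (g : G)) = 0 from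
      funext fun g => phiFn_zero hM _ hcf g]
    exact Char.isGeneralizedCharacter_zero
  · intro a b ha hb hai hbi hab hba hPa hPb
    rw [show (fun g : ↥(Q ⊔ R) => phiFn hM (lamW p M P e lam) (χ : G → ℂ) (a + b) (g : G)) =
      (fun g : ↥(Q ⊔ R) => phiFn hM (lamW p M P e lam) (χ : G → ℂ) a (g : G)) +
        fun g : ↥(Q ⊔ R) => phiFn hM (lamW p M P e lam) (χ : G → ℂ) b (g : G) from
      funext fun g => phiFn_add hM _ hcf (invAlg_anti (Subgroup.zpowers_le.2 g.2) ha) hai
        (invAlg_anti (Subgroup.zpowers_le.2 g.2) hb) hbi hab hba]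
    exact hPa.add hPb
  · intro a ha
    by_cases hbr : brK Q a = 0
    · haveI := isAlgClosed_resField hM
      obtain ⟨N, c, j, hNQ, hcQ, hcN, hNn, hcard, hj, hji, horth, hsum⟩ :=
        exists_green hQ hR hQR ha hbr
      refine classInner_green_isInt hM hlam χ hQ hR hQR ha.mem hNQ hcQ hcN hNn hcard hj hji horth
        hsum (ih _ ?_ N rfl (hQ.to_le hNQ) (fun q hq => hQR q (hNQ hq)) j hj hji)
      rw [← hn, hcard]
      exact lt_mul_of_one_lt_left Nat.card_pos (Fact.out : p.Prime).one_lt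
    · exact isGeneralized_point hM hmax hlam χ hQ hR hQR ha hbr

/-! ### The star product -/

/-- The product of a character with a linear character of the defect group. -/
noncomputable def starFn (hM : IsPModular p M) (P : Subgroup G) (e : Set (IrrCharacter C[P]))
    (lam : G → ℂ) (χ : IrrCharacter G) (g : G) : ℂ :=
  phiFn hM (lamW p M P e lam) (χ : G → ℂ) 1 g

include hlam in
theorem isClassFunction_starFn (χ : IrrCharacter G) :
    IsClassFunction G (starFn hM P e lam χ) := fun g h => by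
  have := phiFn_conjA hM χ.2.isClassFunction (lamW_conj hM hlam) h g (one_mem _)
    IsIdempotentElem.one
  rwa [map_one] at this

theorem exists_split_elementary {E : Subgroup G} {l : ℕ} (hl : l.Prime)
    (hE : IsElementary l E) :
    ∃ Q R : Subgroup G, IsPGroup p Q ∧ ¬ p ∣ Nat.card R ∧ (∀ q ∈ Q, ∀ r ∈ R, q * r = r * q) ∧
      Q ⊔ R = E := by
  classical
  obtain ⟨x, hxc, hco, k, hk⟩ := hE
  haveI : Fact l.Prime := ⟨hl⟩
  have hcardE : Nat.card E = orderOf x * l ^ k := by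
    rw [← (Subgroup.zpowers x).card_mul_index, Nat.card_zpowers, hk]
  have hcomm : ∀ y ∈ E, y * (x : G) = (x : G) * y := fun y hy =>
    congrArg Subtype.val (Subgroup.mem_center_iff.1 hxc ⟨y, hy⟩)
  have hox : orderOf (x : G) = orderOf x := orderOf_submonoid x
  have hlx : ¬ l ∣ orderOf x := fun h => hl.ne_one
    (Nat.dvd_one.1 (hco ▸ Nat.dvd_gcd h dvd_rfl))
  obtain ⟨S₀⟩ : Nonempty (Sylow l E) := inferInstance
  set S : Subgroup G := (S₀ : Subgroup E).map E.subtype with hS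
  have hSE : S ≤ E := Subgroup.map_subtype_le _
  have hSl : IsPGroup l S := S₀.2.map _
  have hScard : Nat.card S = l ^ k := by
    rw [hS, Subgroup.card_map_of_injective E.subtype_injective, S₀.card_eq_multiplicity, hcardE,
      Nat.factorization_mul (orderOf_pos x).ne' (pow_ne_zero _ hl.ne_zero),
      Finsupp.coe_add, Pi.add_apply, Nat.factorization_eq_zero_of_not_dvd hlx, zero_add,
      hl.factorization_pow, Finsupp.single_eq_same]
  have hxE : Subgroup.zpowers (x : G) ≤ E := Subgroup.zpowers_le.2 x.2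
  have hcz : ∀ s ∈ S, ∀ z ∈ Subgroup.zpowers (x : G), s * z = z * s := by
    rintro s hs _ ⟨i, rfl⟩
    exact ((show Commute s (x : G) from hcomm s (hSE hs)).zpow_right i).eq
  have hSx : S ⊔ Subgroup.zpowers (x : G) = E := by
    refine Subgroup.eq_of_le_of_card_ge (sup_le hSE hxE) ?_
    rw [card_sup_eq hSl (by rw [Nat.card_zpowers, hox]; exact hlx) hcz, hScard, Nat.card_zpowers,
      hox, hcardE, mul_comm]
  by_cases hlp : l = p
  · subst hlp
    exact ⟨S, Subgroup.zpowers (x : G), hSl, by rw [Nat.card_zpowers, hox]; exact hlx, hcz, hSx⟩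
  set a := pPt p (x : G) with ha
  set w := pReg p (x : G) with hw
  have haz : Subgroup.zpowers a ≤ Subgroup.zpowers (x : G) :=
    Subgroup.zpowers_le.2 (pPt_mem_zpowers _)
  have hwz : Subgroup.zpowers w ≤ Subgroup.zpowers (x : G) :=
    Subgroup.zpowers_le.2 (pReg_mem_zpowers _)
  refine ⟨Subgroup.zpowers a, S ⊔ Subgroup.zpowers w, isPGroup_zpowers_pPt _, ?_, ?_, ?_⟩
  · have hwl : ¬ l ∣ Nat.card (Subgroup.zpowers w) := fun h =>
      hlx (hox ▸ Nat.card_zpowers (x : G) ▸ h.trans (Subgroup.card_dvd_of_le hwz))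
    rw [card_sup_eq hSl hwl fun s hs z hz => hcz s hs z (hwz hz), hScard, Nat.card_zpowers]
    intro h
    rcases (Fact.out : p.Prime).dvd_mul.1 h with h | h
    · exact hlp ((Nat.prime_dvd_prime_iff_eq Fact.out hl).1
        ((Fact.out : p.Prime).dvd_of_dvd_pow h)).symm
    · exact not_dvd_orderOf_pReg _ h
  · intro q hq r hr
    obtain ⟨s, hs, z, hz, rfl⟩ :=
      exists_mul_of_mem_sup (fun s hs z hz => hcz s hs z (hwz hz)) hr
    have hqx := haz hq
    obtain ⟨i, rfl⟩ := Subgroup.mem_zpowers_iff.1 hqx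
    obtain ⟨i', rfl⟩ := Subgroup.mem_zpowers_iff.1 (hwz hz)
    have hsx : Commute s (x : G) := hcomm s (hSE hs)
    exact ((hsx.symm.zpow_left i).mul_right ((Commute.refl (x : G)).zpow_zpow i i')).eq
  · refine le_antisymm (sup_le (haz.trans hxE) (sup_le hSE (hwz.trans hxE))) ?_
    rw [← hSx]
    refine sup_le (le_sup_left.trans le_sup_right) (Subgroup.zpowers_le.2 ?_)
    rw [← pPt_mul_pReg (p := p) (x : G)]
    exact mul_mem (Subgroup.mem_sup_left (Subgroup.mem_zpowers _))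
      (Subgroup.mem_sup_right (Subgroup.mem_sup_right (Subgroup.mem_zpowers _)))

include hmax hlam in
/-- The star product is a generalized character. -/
theorem isGeneralizedCharacter_starFn (χ : IrrCharacter G) :
    IsGeneralizedCharacter G (starFn hM P e lam χ) := by
  classical
  refine Char.isGeneralizedCharacter_of_elementary (isClassFunction_starFn hM hlam χ)
    fun E l hl hE => ?_
  obtain ⟨Q, R, hQ, hR, hQR, rfl⟩ := exists_split_elementary (p := p) hl hE
  exact isGeneralized_phiFn hM hmax hlam χ hR Q hQ hQR 1 (one_mem _) IsIdempotentElem.one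

end Cfsg.Lib.Block
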