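import Cfsg.Agent.Lib.Block.InflateDefect
import Cfsg.Agent.Lib.Block.Cartan

/-!
# Regular ranks and inflation
-/

set_option autoImplicit false
set_option linter.unusedSectionVars false

namespace Cfsg.Lib.Block

open Cfsg
open scoped ComplexConjugate

universe u

variable {p : ℕ} [hp : Fact p.Prime] {M : Ideal AlgInt} {G : Type u} [Group G] [Fintype G]

include hp in
/-- The regular rank of a block is that of its deflation when regular elements centralize `N`. -/
theorem blockRank_deflSet (hM : IsPModular p M) (N : Subgroup G) [N.Normal] (hN : IsPGroup p N)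
    (hreg : ∀ g : G, ¬ p ∣ orderOf g → g ∈ Subgroup.centralizer (N : Set G))
    {B : Set (IrrCharacter G)} (hB : IsPBlock M B) :
    blockRank p (deflSet N B) = blockRank p B := by
  classical
  haveI := Fintype.ofFinite (G ⧸ N)
  have hI := vInt_indVec hM hB
  -- pulling back regular functions
  let L : (G ⧸ N → ℂ) →ₗ[ℂ] (G → ℂ) :=
    { toFun := fun f => pRegularPart p (f ∘ QuotientGroup.mk)
      map_add' := fun f f' => funext fun g => by
        by_cases h : IsPRegular p g
        · simp [pRegularPart_of_reg h]
        · simp [pRegularPart_of_sing h]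
      map_smul' := fun c f => funext fun g => by
        by_cases h : IsPRegular p g
        · simp [pRegularPart_of_reg h]
        · simp [pRegularPart_of_sing h] }
  have hmk : ∀ g : G, IsPRegular p g → IsPRegular p (g : G ⧸ N) := fun g hg h =>
    hg (h.trans (orderOf_map_dvd (QuotientGroup.mk' N) g))
  have hL : ∀ φ : IrrCharacter (G ⧸ N),
      L (pRegularPart p (φ : G ⧸ N → ℂ)) = pRegularPart p (infl N φ : G → ℂ) := by
    intro φ
    funext g
    show pRegularPart p (pRegularPart p (φ : G ⧸ N → ℂ) ∘ QuotientGroup.mk) g = _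
    by_cases h : IsPRegular p g
    · rw [pRegularPart_of_reg h, pRegularPart_of_reg h, Function.comp_apply,
        pRegularPart_of_reg (hmk g h), infl_coe, Function.comp_apply]
    · rw [pRegularPart_of_sing h, pRegularPart_of_sing h]
  set S : Submodule ℂ (G ⧸ N → ℂ) := Submodule.span ℂ
    ((fun χ : IrrCharacter (G ⧸ N) => pRegularPart p (χ : G ⧸ N → ℂ)) '' deflSet N B) with hS
  set T : Submodule ℂ (G → ℂ) := Submodule.span ℂ
    ((fun χ : IrrCharacter G => pRegularPart p (χ : G → ℂ)) '' B) with hT
  -- unique regular lifts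
  have huniq : ∀ g h : G, IsPRegular p g → IsPRegular p h → (g : G ⧸ N) = h → g = h := by
    intro g h hg hh he
    by_contra hne
    have hw : h * g⁻¹ ∈ N := by
      rw [← QuotientGroup.eq_one_iff, QuotientGroup.mk_mul, QuotientGroup.mk_inv, he,
        mul_inv_cancel]
    have hd := dvd_orderOf_mul_of_commute (p := p) hg
      (Subgroup.mem_centralizer_iff.1 (hreg g hg) _ hw : Commute (h * g⁻¹) g)
      (exists_orderOf_eq_pow_of_mem hN hw) fun h1 => hne (mul_inv_eq_one.1 h1).symm
    rw [inv_mul_cancel_right] at hd
    exact hh hd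
  have hmem : ∀ χ ∈ B, pRegularPart p (χ : G → ℂ) ∈ S.map L := by
    intro χ hχ
    set f : G ⧸ N → ℂ := fun q => if h : IsPRegular p q then
      (χ : G → ℂ) (exists_regular_lift N q h).choose else 0 with hf
    have hfg : ∀ g : G, IsPRegular p g → f (g : G ⧸ N) = (χ : G → ℂ) g := fun g hg => by
      simp only [hf, dif_pos (hmk g hg)]
      exact congrArg _ (huniq _ _ (exists_regular_lift N _ (hmk g hg)).choose_spec.1 hg
        (exists_regular_lift N _ (hmk g hg)).choose_spec.2)
    have hfc : IsClassFunction (G ⧸ N) f := by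
      intro q r
      by_cases hq : IsPRegular p q
      · obtain ⟨g, hg, rfl⟩ := exists_regular_lift (p := p) N q hq
        induction r using QuotientGroup.induction_on with
        | H x =>
          rw [show ((x : G) : G ⧸ N) * (g : G ⧸ N) * ((x : G) : G ⧸ N)⁻¹ = ((x * g * x⁻¹ : G) : G ⧸ N)
            from by simp, hfg _ ((isPRegular_conj_iff g x).2 hg), hfg g hg, χ.2.isClassFunction g x]
      · simp only [hf, dif_neg hq, dif_neg (mt (isPRegular_conj_iff q r).1 hq)]
    set c : IrrCharacter (G ⧸ N) → ℂ := fun φ => classInner f (φ : G ⧸ N → ℂ) with hc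
    set X : G → ℂ := pRegularPart p (χ : G → ℂ) -
      ∑ φ ∈ (deflSet N B).toFinset, c φ • pRegularPart p (infl N φ : G → ℂ) with hX
    have hX' : X = ∑ φ ∈ Finset.univ \ (deflSet N B).toFinset,
        c φ • pRegularPart p (infl N φ : G → ℂ) := by
      rw [hX, sub_eq_iff_eq_add, Finset.sum_sdiff (Finset.subset_univ _)]
      funext g
      simp only [Finset.sum_apply, Pi.smul_apply, smul_eq_mul]
      by_cases hg : IsPRegular p g
      · rw [pRegularPart_of_reg hg, ← hfg g hg]
        conv_lhs => rw [Char.eq_sum_classInner hfc]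
        simp only [Finset.sum_apply, Pi.smul_apply, smul_eq_mul]
        exact Finset.sum_congr rfl fun φ _ => by
          rw [pRegularPart_of_reg hg, infl_coe, Function.comp_apply]
      · rw [pRegularPart_of_sing hg]
        exact (Finset.sum_eq_zero fun φ _ => by rw [pRegularPart_of_sing hg, mul_zero]).symm
    have hzero : ∀ ψ : IrrCharacter G, classInner X (ψ : G → ℂ) = 0 := by
      intro ψ
      by_cases hψ : ψ ∈ B
      · rw [hX', Char.classInner_sum_left, Finset.sum_eq_zero]
        intro φ hφ
        have hφ' : infl N φ ∉ B := fun h =>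
          (Finset.mem_sdiff.1 hφ).2 (Set.mem_toFinset.2 h)
        rw [Char.classInner_smul_left, ← regInner,
          regInner_eq_zero hM (vInt_indVec hM (isPBlock_blockOf (infl N φ)))
            (self_mem_blockOf hM (infl N φ))
            (fun h => hφ' ((isPBlock_eq_of_mem hM hB (isPBlock_blockOf (infl N φ)) hψ h).symm ▸
              self_mem_blockOf hM (infl N φ))), mul_zero]
      · rw [hX, Char.classInner_sub_left, Char.classInner_sum_left, ← regInner,
          regInner_eq_zero hM hI hχ hψ, zero_sub, neg_eq_zero]
        refine Finset.sum_eq_zero fun φ hφ => ?_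
        rw [Char.classInner_smul_left, ← regInner, regInner_eq_zero hM hI
          ((Set.mem_toFinset (s := deflSet N B)).1 hφ : infl N φ ∈ B) hψ, mul_zero]
    have hXc : IsClassFunction G X := fun g x => by
      simp only [hX', Finset.sum_apply, Pi.smul_apply, smul_eq_mul]
      exact Finset.sum_congr rfl fun φ _ => by
        rw [isClassFunction_pRegularPart (infl N φ).2.isClassFunction g x]
    have hX0 : X = 0 := by
      rw [Char.eq_sum_classInner hXc]
      exact Finset.sum_eq_zero fun ψ _ => by rw [hzero, zero_smul]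
    rw [hX, sub_eq_zero] at hX0
    rw [hX0]
    refine Submodule.sum_mem _ fun φ hφ => Submodule.smul_mem _ _ ?_
    rw [← hL]
    exact Submodule.mem_map_of_mem (Submodule.subset_span ⟨φ, Set.mem_toFinset.1 hφ, rfl⟩)
  have hmap : S.map L = T := by
    refine le_antisymm ?_ (Submodule.span_le.2 ?_)
    · rw [hS, Submodule.map_span, Submodule.span_le]
      rintro _ ⟨_, ⟨φ, hφ, rfl⟩, rfl⟩
      rw [hL]
      exact Submodule.subset_span ⟨_, hφ, rfl⟩
    · rintro _ ⟨χ, hχ, rfl⟩
      exact hmem χ hχ
  have hker : ∀ f ∈ S, L f = 0 → f = 0 := by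
    intro f hf h
    funext q
    by_cases hq : IsPRegular p q
    · obtain ⟨g, hg, rfl⟩ := exists_regular_lift (p := p) N q hq
      have h' := congrFun h g
      rw [show L f g = pRegularPart p (f ∘ QuotientGroup.mk) g from rfl,
        pRegularPart_of_reg hg] at h'
      exact h'
    · clear h
      induction hf using Submodule.span_induction with
      | mem x hx => obtain ⟨φ, -, rfl⟩ := hx; exact pRegularPart_of_sing hq
      | zero => rfl
      | add x y _ _ hx hy => simp only [Pi.add_apply, hx, hy, Pi.zero_apply, add_zero]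
      | smul c x _ hx => simp only [Pi.smul_apply, hx, Pi.zero_apply, smul_zero]
  rw [blockRank, blockRank, ← hS, ← hT, ← hmap]
  refine (LinearEquiv.finrank_eq ((LinearEquiv.ofInjective (L.domRestrict S) fun a b hab => ?_).trans
    (LinearEquiv.ofEq _ _ (LinearMap.range_domRestrict S L))))
  refine Subtype.ext (sub_eq_zero.1 (hker _ (S.sub_mem a.2 b.2) ?_))
  rw [map_sub, sub_eq_zero]
  exact hab

end Cfsg.Lib.Block
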