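import Cfsg.Agent.Lib.Block.ClassCount
import Cfsg.Agent.Lib.Block.Induced
import Cfsg.Agent.Lib.Block.Principal
import Cfsg.Agent.Lib.Char.Gallagher
import Cfsg.Agent.Lib.Char.Quotient

/-!
# Inflation from the quotient by a normal `p`-subgroup

If `N ≤ D` are normal `p`-subgroups and the regular elements centralizing `D / N` centralize `D`,
then inflation gives a bijection between the blocks of `G / N` and those of `G`.
-/

set_option autoImplicit false
set_option linter.unusedSectionVars false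

namespace Cfsg.Lib.Block

open Cfsg
open scoped ComplexConjugate

universe u

variable {p : ℕ} [hp : Fact p.Prime] {M : Ideal AlgInt} {G : Type u} [Group G] [Fintype G]

include hp in
/-- Regular elements of a quotient lift to regular elements. -/
theorem exists_regular_lift (N : Subgroup G) [N.Normal] (q : G ⧸ N) (hq : ¬ p ∣ orderOf q) :
    ∃ g : G, ¬ p ∣ orderOf g ∧ (g : G ⧸ N) = q := by
  induction q using QuotientGroup.induction_on with
  | H x =>
    refine ⟨pReg p x, not_dvd_orderOf_pReg x, ?_⟩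
    obtain ⟨a, ha⟩ : ∃ a : ℕ, x ^ a = pPt p x :=
      mem_powers_iff_mem_zpowers.2 (pPt_mem_zpowers x)
    obtain ⟨j, hj⟩ := exists_orderOf_pPt (p := p) x
    have h1 : orderOf ((pPt p x : G) : G ⧸ N) ∣ p ^ j :=
      hj ▸ orderOf_map_dvd (QuotientGroup.mk' N) (pPt p x)
    have h2 : orderOf ((pPt p x : G) : G ⧸ N) ∣ orderOf (x : G ⧸ N) := by
      rw [← ha, QuotientGroup.mk_pow]; exact orderOf_pow_dvd a
    have h3 : ((pPt p x : G) : G ⧸ N) = 1 := orderOf_eq_one_iff.1 (Nat.eq_one_of_dvd_coprimes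
      (Nat.Coprime.pow_left j (hp.out.coprime_iff_not_dvd.2 hq)) h1 h2)
    conv_rhs => rw [← pPt_mul_pReg (p := p) x]
    rw [QuotientGroup.mk_mul, h3, one_mul]

include hp in
/-- A product with a commuting `p`-element is singular. -/
theorem dvd_orderOf_mul_of_commute {g w : G} (hg : ¬ p ∣ orderOf g) (hc : Commute w g)
    (hw : ∃ k : ℕ, orderOf w = p ^ k) (hw1 : w ≠ 1) : p ∣ orderOf (w * g) := by
  obtain ⟨k, hk⟩ := hw
  rw [hc.orderOf_mul_eq_mul_orderOf_of_coprime
    (hk ▸ Nat.Coprime.pow_left k (hp.out.coprime_iff_not_dvd.2 hg)), hk]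
  rcases Nat.eq_zero_or_pos k with rfl | h
  · exact absurd (orderOf_eq_one_iff.1 (by rw [hk, pow_zero])) hw1
  · exact dvd_mul_of_dvd_left (dvd_pow_self p h.ne') _

include hp in
/-- The centralizer of the image of a regular element centralizing `N`. -/
theorem index_centralizer_mk (N : Subgroup G) [N.Normal] (hN : IsPGroup p N) {g : G}
    (hg : ¬ p ∣ orderOf g) (hgN : g ∈ Subgroup.centralizer (N : Set G)) :
    (Subgroup.centralizer ({(g : G ⧸ N)} : Set (G ⧸ N))).index =
      (Subgroup.centralizer ({g} : Set G)).index := by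
  rw [← Subgroup.index_comap_of_surjective (f := QuotientGroup.mk' N) _
    (QuotientGroup.mk'_surjective N)]
  congr 1
  ext x
  simp only [Subgroup.mem_comap, QuotientGroup.mk'_apply, Subgroup.mem_centralizer_iff,
    Set.mem_singleton_iff, forall_eq]
  refine ⟨fun h => ?_, fun h => by rw [← QuotientGroup.mk_mul, h, QuotientGroup.mk_mul]⟩
  set w := x * g * x⁻¹ * g⁻¹ with hw
  have hwN : w ∈ N := by
    rw [← QuotientGroup.eq_one_iff, hw, QuotientGroup.mk_mul, QuotientGroup.mk_mul,
      QuotientGroup.mk_mul, QuotientGroup.mk_inv, QuotientGroup.mk_inv, ← h]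
    group
  have hc : Commute w g := Subgroup.mem_centralizer_iff.1 hgN w hwN
  have hw1 : w = 1 := by
    by_contra h1
    have hd := dvd_orderOf_mul_of_commute hg hc (exists_orderOf_eq_pow_of_mem hN hwN) h1
    rw [hw, inv_mul_cancel_right, show orderOf (x * g * x⁻¹) = orderOf g from
      (MulAut.conj x).orderOf_eq g] at hd
    exact hg hd
  rw [hw, mul_inv_eq_one, mul_inv_eq_iff_eq_mul] at hw1
  exact hw1.symm

include hp in
/-- Central characters of inflations at regular elements centralizing `N`. -/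
theorem centralChar_inflate_regular (N : Subgroup G) [N.Normal] (hN : IsPGroup p N)
    (χ : G ⧸ N → ℂ) {g : G} (hg : ¬ p ∣ orderOf g)
    (hgN : g ∈ Subgroup.centralizer (N : Set G)) :
    centralChar (χ ∘ QuotientGroup.mk) g = centralChar χ (g : G ⧸ N) := by
  rw [centralChar, centralChar, index_centralizer_mk N hN hg hgN]
  rfl

include hp in
/-- Blocks are separated by the regular classes centralizing a normal `p`-subgroup. -/
theorem sameBlock_of_regular_centralizer (hM : IsPModular p M) (D : Subgroup G) [D.Normal]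
    (hD : IsPGroup p D) {χ ψ : IrrCharacter G}
    (h : ∀ g : G, ¬ p ∣ orderOf g → g ∈ Subgroup.centralizer (D : Set G) →
      MemLocalIdeal M (centralChar (χ : G → ℂ) g - centralChar (ψ : G → ℂ) g)) :
    SameBlock M (χ : G → ℂ) (ψ : G → ℂ) := by
  classical
  haveI : Finite (ConjClasses G) := Quotient.finite _
  haveI := Fintype.ofFinite (ConjClasses G)
  set B := blockOf M (χ : G → ℂ) with hBdef
  have hB : IsPBlock M B := isPBlock_blockOf χ
  set T := Finset.univ.filter fun C : ConjClasses G =>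
    ¬ p ∣ orderOf C.out ∧ C.out ∈ Subgroup.centralizer (D : Set G) with hT
  have hout : ∀ g : G, IsConj g (ConjClasses.mk g).out := fun g =>
    ConjClasses.mk_eq_mk_iff_isConj.1 (Quotient.out_eq (ConjClasses.mk g)).symm
  have hoff : ∀ η : IrrCharacter G, ∀ g : G, ConjClasses.mk g ∉ T →
      MemLocalIdeal M (blockCoeff B g * centralChar (η : G → ℂ) g) := by
    intro η g hgT
    refine memLocalIdeal_mul_right hM ?_ (centralChar_mem_locRing hM η g)
    obtain ⟨c, hc⟩ := isConj_iff.1 (hout g)
    by_cases hd : p ∣ orderOf g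
    · rw [blockCoeff_eq_zero_of_dvd hM (vInt_indVec hM hB) hd]
      exact memLocalIdeal_zero hM
    by_cases hgC : g ∈ Subgroup.centralizer (D : Set G)
    · refine absurd (Finset.mem_filter.2 ⟨Finset.mem_univ _, ?_, ?_⟩) hgT
      · rwa [← hc, show orderOf (c * g * c⁻¹) = orderOf g from (MulAut.conj c).orderOf_eq g]
      · rw [← hc]
        exact centralizer_conj_mem (by rw [Subgroup.normalizer_eq_top]; trivial) hgC
    · rw [blockCoeff_eq_zero_of_notMem hM hD hB hgC]
      exact memLocalIdeal_zero hM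
  have h1 := indVec_sub_sum_mem hM hB T χ (hoff χ)
  have h2 := indVec_sub_sum_mem hM hB T ψ (hoff ψ)
  rw [if_pos (self_mem_blockOf hM χ)] at h1
  by_contra hn
  rw [if_neg (fun hψ : ψ ∈ B => hn ((mem_blockOf).1 hψ)), zero_sub] at h2
  have h3 : MemLocalIdeal M (∑ C ∈ T, blockCoeff B C.out *
      (centralChar (χ : G → ℂ) C.out - centralChar (ψ : G → ℂ) C.out)) :=
    memLocalIdeal_sum hM _ _ fun C hC => memLocalIdeal_mul_left hM
      (blockCoeff_mem_locRing hM hB _)
      (h _ (Finset.mem_filter.1 hC).2.1 (Finset.mem_filter.1 hC).2.2)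
  simp only [mul_sub, Finset.sum_sub_distrib] at h3
  have h4 := memLocalIdeal_add hM (memLocalIdeal_sub hM h1 h2) h3
  exact natCast_not_ideal hM (n := 1) hp.out.not_dvd_one (by
    rw [Nat.cast_one]
    convert h4 using 1
    ring)

include hp in
/-- Inflation respects and reflects blocks. -/
theorem sameBlock_inflate_iff (hM : IsPModular p M) (N D : Subgroup G) [N.Normal] [D.Normal]
    (hD : IsPGroup p D) (hND : N ≤ D)
    (hlift : ∀ g : G, ¬ p ∣ orderOf g → (g : G ⧸ N) ∈ Subgroup.centralizer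
      ((D.map (QuotientGroup.mk' N) : Subgroup (G ⧸ N)) : Set (G ⧸ N)) →
        g ∈ Subgroup.centralizer (D : Set G))
    (χ ψ : IrrCharacter (G ⧸ N)) :
    SameBlock M (χ : G ⧸ N → ℂ) (ψ : G ⧸ N → ℂ) ↔
      SameBlock M ((χ : G ⧸ N → ℂ) ∘ QuotientGroup.mk) ((ψ : G ⧸ N → ℂ) ∘ QuotientGroup.mk) := by
  classical
  haveI := Fintype.ofFinite (G ⧸ N)
  have hN : IsPGroup p N := hD.to_le hND
  constructor
  · intro h
    refine sameBlock_of_regular_centralizer hM D hD
      (χ := ⟨_, Char.isIrrCharacter_inflate N χ.2⟩) (ψ := ⟨_, Char.isIrrCharacter_inflate N ψ.2⟩)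
      fun g hg hgD => ?_
    have hgN := Subgroup.centralizer_le (s := (N : Set G)) hND hgD
    show MemLocalIdeal M (centralChar ((χ : G ⧸ N → ℂ) ∘ QuotientGroup.mk) g -
      centralChar ((ψ : G ⧸ N → ℂ) ∘ QuotientGroup.mk) g)
    rw [centralChar_inflate_regular N hN _ hg hgN, centralChar_inflate_regular N hN _ hg hgN]
    exact h _
  · intro h
    haveI : (D.map (QuotientGroup.mk' N)).Normal :=
      Subgroup.Normal.map inferInstance _ (QuotientGroup.mk'_surjective N)
    refine sameBlock_of_regular_centralizer hM _ (hD.map (QuotientGroup.mk' N)) fun q hq hqD => ?_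
    obtain ⟨g, hg, rfl⟩ := exists_regular_lift N q hq
    have hgD := hlift g hg hqD
    have hgN := Subgroup.centralizer_le (s := (N : Set G)) hND hgD
    rw [← centralChar_inflate_regular N hN _ hg hgN, ← centralChar_inflate_regular N hN _ hg hgN]
    exact h g

include hp in
/-- Every block contains an inflation. -/
theorem exists_inflate_mem (hM : IsPModular p M) (N D : Subgroup G) [N.Normal] [D.Normal]
    (hD : IsPGroup p D) (hND : N ≤ D) {B : Set (IrrCharacter G)} (hB : IsPBlock M B) :
    ∃ χ : IrrCharacter (G ⧸ N), ∃ θ ∈ B,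
      (θ : G → ℂ) = (χ : G ⧸ N → ℂ) ∘ QuotientGroup.mk := by
  classical
  haveI := Fintype.ofFinite N
  have hN : IsPGroup p N := hD.to_le hND
  by_contra hcon
  obtain ⟨g, hg⟩ := exists_isDefectClass hM hB
  have hgN : g ∈ Subgroup.centralizer (N : Set G) := by
    by_contra hn
    exact hg.2.1 (blockCoeff_eq_zero_of_notMem hM hN hB hn ▸ memLocalIdeal_zero hM)
  have hgp : ¬ p ∣ orderOf g := not_dvd_orderOf_defectClass hM hB hg
  have hcases : ∀ χ ∈ B, ∑ n : N, conj ((χ : G → ℂ) ((n : G) * g)) = 0 := by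
    intro χ hχ
    rcases Char.sum_coset_char_cases N χ.2 with h | ⟨h, -⟩
    · rw [← map_sum, h, map_zero]
    · obtain ⟨ψ, hψ, hψe⟩ := Char.exists_deflate_irr N χ.2 fun n hn => h ⟨n, hn⟩
      exact absurd ⟨⟨ψ, hψ⟩, χ, hχ, funext fun x => (hψe x).symm⟩ hcon
  have hsum : ∑ n : N, blockCoeff B ((n : G) * g) = 0 := by
    simp only [blockCoeff, finsum_mem_eq_finite_toFinset_sum _ (Set.toFinite B), ← Finset.mul_sum]
    rw [Finset.sum_comm, Finset.sum_eq_zero fun χ hχ => ?_, mul_zero]
    rw [← Finset.mul_sum, hcases χ ((Set.Finite.mem_toFinset _).1 hχ), mul_zero]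
  rw [Finset.sum_eq_single (1 : N) (fun n _ hn => ?_)
    (fun h => absurd (Finset.mem_univ _) h), OneMemClass.coe_one, one_mul] at hsum
  · exact hg.2.1 (hsum ▸ memLocalIdeal_zero hM)
  · exact blockCoeff_eq_zero_of_dvd hM (vInt_indVec hM hB) (dvd_orderOf_mul_of_commute hgp
      (Subgroup.mem_centralizer_iff.1 hgN n n.2) (exists_orderOf_eq_pow_of_mem hN n.2)
      fun h => hn (Subtype.ext h))

end Cfsg.Lib.Block
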