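import Cfsg.Agent.Lib.Block.RegInt
import Cfsg.Agent.Lib.Char.BrauerInduction
import Cfsg.Agent.Lib.Char.ElementaryPart

/-!
# Characters of the regular parts

Composing a character with the map to the regular part gives a generalized character.
-/

set_option autoImplicit false
set_option linter.unusedSectionVars false

namespace Cfsg.Lib.Block

open Cfsg

universe u

variable {G : Type u} [Group G] [Fintype G] {p : ℕ} [hp : Fact p.Prime]

/-- The regular part as a power. -/
theorem pReg_eq_pow {m n k k' : ℕ} (hG : Nat.card G = m * n) (hm : ∃ a, m = p ^ a)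
    (hn : ¬ p ∣ n) (hk : k ≡ 1 [MOD m] ∧ k ≡ 0 [MOD n])
    (hk' : k' ≡ 0 [MOD m] ∧ k' ≡ 1 [MOD n]) (hkk : k + k' ≡ 1 [MOD m * n]) (g : G) :
    pReg p g = g ^ k' := by
  have hdvd : Nat.card G ∣ m * n := hG ▸ dvd_rfl
  obtain ⟨a, rfl⟩ := hm
  have h1 : (g ^ k) ^ p ^ a = 1 := by
    rw [← pow_mul, ← pow_zero g]
    refine Char.pow_eq_pow_of_card_dvd hdvd ?_ g
    rw [mul_comm k]
    simpa using hk.2.mul_left' (p ^ a)
  have h2 : (g ^ k') ^ n = 1 := by
    rw [← pow_mul, ← pow_zero g]
    refine Char.pow_eq_pow_of_card_dvd hdvd ?_ g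
    rw [mul_comm (p ^ a) n]
    rw [mul_comm k']
    simpa using hk'.1.mul_left' n
  obtain ⟨j, -, hj⟩ := (Nat.dvd_prime_pow hp.out).1 (orderOf_dvd_of_pow_eq_one h1)
  refine (eq_pReg (x := g ^ k) ?_ (Commute.pow_pow_self g k k') hj fun h => hn ?_).symm
  · rw [← pow_add, Char.pow_eq_pow_of_card_dvd hdvd hkk g, pow_one]
  · exact h.trans (orderOf_dvd_of_pow_eq_one h2)

/-- A character of the regular part is a generalized character. -/
theorem isGeneralized_comp_pReg {θ : G → ℂ} (hθ : IsCharacter G θ) :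
    IsGeneralizedCharacter G (fun g => θ (pReg p g)) := by
  set m := p ^ (Nat.card G).factorization p with hm
  set n := Nat.card G / m with hn
  have hG : Nat.card G = m * n := by
    rw [hn, Nat.mul_div_cancel' (Nat.ordProj_dvd _ _)]
  have hpn : ¬ p ∣ n := Nat.not_dvd_ordCompl hp.out Nat.card_pos.ne'
  have hmn : m.Coprime n := (hp.out.coprime_iff_not_dvd.2 hpn).pow_left _
  obtain ⟨k, k', hk, hk', hkk⟩ := Char.exists_part_exponents hmn
  refine Char.isGeneralizedCharacter_of_elementary (fun g x => ?_) fun E l hl hE => ?_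
  · show θ _ = θ _
    rw [pReg_conj]
    exact hθ.conj_invariant _ _
  · have hdvd : Nat.card E ∣ n * m := by
      rw [mul_comm, ← hG]; exact E.card_subgroup_dvd_card
    have e : (fun x : E => θ (pReg p (x : G))) =
        fun x => θ ((E.subtype.comp (Char.partHom hl hE hmn.symm hdvd ⟨hk'.2, hk'.1⟩)) x) := by
      funext x
      rw [pReg_eq_pow hG ⟨_, hm⟩ hpn hk hk' hkk]
      rfl
    rw [e]
    exact (hθ.comp _).isGeneralized

end Cfsg.Lib.Block
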