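import Cfsg.Agent.Lib.Block.FormBound
import Cfsg.Agent.Lib.Block.PartReg
import Cfsg.Agent.Lib.Block.InflateRank
import Cfsg.Agent.Lib.Block.InflateRegular

/-!
# The form of a block and of the block below it modulo a central `p`-subgroup

A block has a single block below it modulo a central `p`-subgroup, with the image as defect group,
the same regular rank and the same values of the form.
-/

set_option autoImplicit false
set_option linter.unusedSectionVars false
set_option maxHeartbeats 800000

namespace Cfsg.Lib.Block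

open Cfsg
open scoped ComplexConjugate

universe u

variable {p : ℕ} [hp : Fact p.Prime] {M : Ideal AlgInt} {G : Type u} [Group G] [Fintype G]
  {N : Subgroup G} [N.Normal]

theorem centralizer_of_le_center (hNc : N ≤ Subgroup.center G) (g : G) :
    g ∈ Subgroup.centralizer (N : Set G) :=
  Subgroup.mem_centralizer_iff.2 fun n hn => ((Subgroup.mem_center_iff.1 (hNc hn)) g).symm

include hp in
/-- The block below a block modulo a central `p`-subgroup. -/
theorem deflSet_central (hM : IsPModular p M) (hN : IsPGroup p N) (hNc : N ≤ Subgroup.center G)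
    {B : Set (IrrCharacter G)} (hB : IsPBlock M B) :
    IsPBlock M (deflSet N B) ∧ ∀ P : Subgroup G, IsDefectGroup p M B P →
      IsDefectGroup p M (deflSet N B) (P.map (QuotientGroup.mk' N)) := by
  classical
  haveI := Fintype.ofFinite (G ⧸ N)
  obtain ⟨b, hb, hsub, hdef⟩ := exists_block_image hM N hN hB
  have hall : deflSet N B ⊆ b := by
    intro χ hχ
    obtain ⟨φ, hφ⟩ := nonempty_of_isPBlock hM hb
    have hsame : SameBlock M (φ : G ⧸ N → ℂ) (χ : G ⧸ N → ℂ) := by
      refine (sameBlock_inflate_iff hM N N hN le_rfl (fun g _ _ => centralizer_of_le_center hNc g)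
        φ χ).2 ?_
      have h1 : infl N φ ∈ B := hsub hφ
      have h2 : infl N χ ∈ B := hχ
      rw [eq_blockOf_of_mem hM hB h1] at h2
      exact h2
    rw [eq_blockOf_of_mem hM hb hφ]
    exact hsame
  obtain rfl : b = deflSet N B := Set.Subset.antisymm hsub hall
  exact ⟨hb, fun P hP => (hdef _).2 ⟨P, hP, rfl⟩⟩

include hp in
theorem card_map_mk_mul {P : Subgroup G} (hNP : N ≤ P) :
    Nat.card (P.map (QuotientGroup.mk' N)) * Nat.card N = Nat.card P := by
  have h1 : (P.map (QuotientGroup.mk' N)).index = P.index :=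
    P.index_map_eq (QuotientGroup.mk'_surjective N) (by rwa [QuotientGroup.ker_mk'])
  have h2 := (P.map (QuotientGroup.mk' N)).card_mul_index
  rw [h1, ← Subgroup.index_eq_card] at h2
  refine Nat.eq_of_mul_eq_mul_right (Nat.pos_of_ne_zero (Subgroup.index_ne_zero_of_finite (H := P))) ?_
  rw [P.card_mul_index, ← N.card_mul_index, ← h2]
  ring

include hp in
/-- Regular elements have unique regular lifts modulo a central `p`-subgroup. -/
theorem eq_of_regular_lift (hN : IsPGroup p N) (hNc : N ≤ Subgroup.center G) {g h : G}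
    (hg : IsPRegular p g) (hh : IsPRegular p h) (he : (g : G ⧸ N) = h) : g = h := by
  by_contra hne
  have hw : h * g⁻¹ ∈ N := by
    rw [← QuotientGroup.eq_one_iff, QuotientGroup.mk_mul, QuotientGroup.mk_inv, he,
      mul_inv_cancel]
  have hd := dvd_orderOf_mul_of_commute (p := p) hg
    (Subgroup.mem_centralizer_iff.1 (centralizer_of_le_center hNc g) _ hw : Commute (h * g⁻¹) g)
    (exists_orderOf_eq_pow_of_mem hN hw) fun h1 => hne (mul_inv_eq_one.1 h1).symm
  rw [inv_mul_cancel_right] at hd
  exact hh hd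

theorem classInner_comp_mk [Fintype (G ⧸ N)] (f k : G ⧸ N → ℂ) :
    classInner (fun g : G => f g) (fun g : G => k g) = classInner f k := by
  classical
  have hsum : ∀ F : G ⧸ N → ℂ, ∑ g : G, F g = (Nat.card N : ℂ) * ∑ q, F q := by
    intro F
    rw [← Finset.sum_fiberwise Finset.univ (fun g : G => (g : G ⧸ N)), Finset.mul_sum]
    refine Finset.sum_congr rfl fun q _ => ?_
    rw [Finset.sum_congr rfl (g := fun _ => F q) fun g hg => by rw [(Finset.mem_filter.1 hg).2],
      Finset.sum_const, nsmul_eq_mul]
    congr 2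
    induction q using QuotientGroup.induction_on with
    | H x =>
      rw [← Fintype.card_subtype, ← Nat.card_eq_fintype_card]
      refine Nat.card_congr
        { toFun := fun g => ⟨x⁻¹ * g, QuotientGroup.eq.1 g.2.symm⟩
          invFun := fun n => ⟨x * n, (QuotientGroup.eq.2 (by simp)).symm⟩
          left_inv := fun g => Subtype.ext (mul_inv_cancel_left x g.1)
          right_inv := fun n => Subtype.ext (inv_mul_cancel_left x n.1) }
  simp only [classInner]
  rw [hsum (fun q => f q * conj (k q)), ← mul_assoc,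
    Subgroup.card_eq_card_quotient_mul_card_subgroup N, Nat.cast_mul, mul_inv, mul_assoc
    ((Nat.card (G ⧸ N) : ℂ))⁻¹, inv_mul_cancel₀ (Nat.cast_ne_zero.2 Nat.card_pos.ne'), mul_one]

open Classical in
include hp in
/-- A lower bound of the form passes to the block above. -/
theorem formLB_of_deflSet [Fintype (G ⧸ N)] (hM : IsPModular p M) (hN : IsPGroup p N)
    (hNc : N ≤ Subgroup.center G) {B : Set (IrrCharacter G)} (hB : IsPBlock M B)
    (hd : p ^ blockDefect p (deflSet N B) * Nat.card N = p ^ blockDefect p B)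
    {L : ℤ} (h : FormLB p (deflSet N B) L) : FormLB p B L := by
  intro w v hne hv
  set θ : G → ℂ := ∑ χ ∈ B.toFinset, (w χ : ℂ) • (χ : G → ℂ) with hθ
  -- the combination of the regular parts is constant on the cosets
  set Θ : G → ℂ := fun g => θ (pReg p g) with hΘ
  have hΘN : ∀ (g : G) (n : G), n ∈ N → Θ (g * n) = Θ g := by
    intro g n hn
    show θ _ = θ _
    congr 1
    obtain ⟨k, hk⟩ := exists_orderOf_pPt (p := p) g
    obtain ⟨j, hj⟩ := exists_orderOf_eq_pow_of_mem hN hn
    have hc : ∀ x : G, Commute x n := fun x => (Subgroup.mem_center_iff.1 (hNc hn) x)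
    obtain ⟨i, hi⟩ : ∃ i : ℕ, orderOf (pPt p g * n) = p ^ i := by
      obtain ⟨i, -, hi⟩ := (Nat.dvd_prime_pow hp.out).1 (orderOf_dvd_of_pow_eq_one (x := pPt p g * n)
        (n := p ^ (k + j)) (by
          rw [(hc _).mul_pow, pow_add, pow_mul, ← hk, pow_orderOf_eq_one, one_pow, one_mul,
            mul_comm, pow_mul, ← hj, pow_orderOf_eq_one, one_pow]))
      exact ⟨i, hi⟩
    refine (eq_pReg (x := pPt p g * n) ?_ ?_ hi (not_dvd_orderOf_pReg g)).symm
    · rw [mul_assoc, ← (hc _).eq, ← mul_assoc, pPt_mul_pReg]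
    · exact (pPt_commute_pReg g).mul_left (hc _).symm
  set f : G ⧸ N → ℂ := fun q => Θ q.out with hf
  have hfmk : ∀ g : G, f (g : G ⧸ N) = Θ g := fun g => by
    obtain ⟨n, hn⟩ := QuotientGroup.mk_out_eq_mul N g
    rw [hf]; simp only [hn]
    exact hΘN g n n.2
  have hΘgen : IsGeneralizedCharacter G Θ := by
    have e : Θ = ∑ χ ∈ B.toFinset, (w χ : ℂ) • fun g => (χ : G → ℂ) (pReg p g) := by
      funext g; simp [hΘ, hθ, Finset.sum_apply]
    rw [e]
    exact IsGeneralizedCharacter.sum _ _ fun χ _ =>
      (isGeneralized_comp_pReg χ.2.isCharacter).intCast_smul _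
  have hint : ∀ φ : IrrCharacter (G ⧸ N), ∃ n : ℤ, classInner f (φ : G ⧸ N → ℂ) = n := by
    intro φ
    obtain ⟨n, hn⟩ := (Char.isGeneralizedCharacter_iff.1 hΘgen).2 _ (infl N φ).2
    refine ⟨n, ?_⟩
    rw [← hn, ← classInner_comp_mk]
    congr 1
    funext g
    exact hfmk g
  choose c hc using hint
  have hfc : IsClassFunction (G ⧸ N) f := by
    intro q r
    induction q using QuotientGroup.induction_on with
    | H x =>
      induction r using QuotientGroup.induction_on with
      | H y =>
        rw [← QuotientGroup.mk_inv, ← QuotientGroup.mk_mul, ← QuotientGroup.mk_mul, hfmk, hfmk]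
        exact (Char.isGeneralizedCharacter_iff.1 hΘgen).1 x y
  -- expansion on regular elements
  have hF : regComb p B w = ∑ φ : IrrCharacter (G ⧸ N),
      (c φ : ℂ) • pRegularPart p (infl N φ : G → ℂ) := by
    funext g
    simp only [regComb, Finset.sum_apply, Pi.smul_apply, smul_eq_mul, ← hθ]
    by_cases hg : IsPRegular p g
    · rw [pRegularPart_of_reg hg]
      have h1 : Θ g = θ g := by
        show θ _ = θ _
        congr 1
        conv_rhs => rw [← pPt_mul_pReg (p := p) g, (pPt_eq_one_iff g).2 hg, one_mul]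
      rw [← h1, ← hfmk]
      conv_lhs => rw [Char.eq_sum_classInner hfc]
      simp only [Finset.sum_apply, Pi.smul_apply, smul_eq_mul, hc]
      exact Finset.sum_congr rfl fun φ _ => by
        rw [pRegularPart_of_reg hg, infl_coe, Function.comp_apply]
    · rw [pRegularPart_of_sing hg]
      exact (Finset.sum_eq_zero fun φ _ => by rw [pRegularPart_of_sing hg, mul_zero]).symm
  set F₁ : G → ℂ := ∑ φ ∈ (deflSet N B).toFinset, (c φ : ℂ) • pRegularPart p (infl N φ : G → ℂ)
    with hF₁
  have hX' : regComb p B w - F₁ = ∑ φ ∈ Finset.univ \ (deflSet N B).toFinset,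
      (c φ : ℂ) • pRegularPart p (infl N φ : G → ℂ) := by
    rw [hF, sub_eq_iff_eq_add, hF₁, Finset.sum_sdiff (Finset.subset_univ _)]
  have hI := vInt_indVec hM hB
  have hzero : ∀ ψ : IrrCharacter G, classInner (regComb p B w - F₁) (ψ : G → ℂ) = 0 := by
    intro ψ
    by_cases hψ : ψ ∈ B
    · rw [hX', Char.classInner_sum_left, Finset.sum_eq_zero]
      intro φ hφ
      have hφ' : infl N φ ∉ B := fun h =>
        (Finset.mem_sdiff.1 hφ).2 (Set.mem_toFinset.2 h)
      rw [Char.classInner_smul_left, ← regInner,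
        regInner_eq_zero hM (vInt_indVec hM (isPBlock_blockOf (infl N φ)))
          (self_mem_blockOf hM (infl N φ))
          (fun h => hφ' ((isPBlock_eq_of_mem hM hB (isPBlock_blockOf (infl N φ)) hψ h).symm ▸
            self_mem_blockOf hM (infl N φ))), mul_zero]
    · rw [Char.classInner_sub_left, regComb, pRegularPart_sum, hF₁, Char.classInner_sum_left,
        Char.classInner_sum_left]
      rw [Finset.sum_eq_zero, Finset.sum_eq_zero, sub_zero]
      · intro φ hφ
        rw [Char.classInner_smul_left, ← regInner, regInner_eq_zero hM hI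
          ((Set.mem_toFinset (s := deflSet N B)).1 hφ : infl N φ ∈ B) hψ, mul_zero]
      · intro χ hχ
        rw [Char.classInner_smul_left, ← regInner,
          regInner_eq_zero hM hI (Set.mem_toFinset.1 hχ) hψ, mul_zero]
  have hcl : IsClassFunction G (regComb p B w - F₁) := fun g x => by
    simp only [hX', Finset.sum_apply, Pi.smul_apply, smul_eq_mul]
    exact Finset.sum_congr rfl fun φ _ => by
      rw [isClassFunction_pRegularPart (infl N φ).2.isClassFunction g x]
  have hX0 : regComb p B w = F₁ := by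
    rw [← sub_eq_zero, Char.eq_sum_classInner hcl]
    exact Finset.sum_eq_zero fun ψ _ => by rw [hzero, zero_smul]
  -- the combination below
  set Fb := regComb p (deflSet N B) c with hFb
  have hmk : ∀ g : G, IsPRegular p g → IsPRegular p (g : G ⧸ N) := fun g hg h =>
    hg (h.trans (orderOf_map_dvd (QuotientGroup.mk' N) g))
  have heq : ∀ g : G, IsPRegular p g → regComb p B w g = Fb (g : G ⧸ N) := by
    intro g hg
    rw [hX0, hF₁, hFb, regComb, pRegularPart_of_reg (hmk g hg)]
    simp only [Finset.sum_apply, Pi.smul_apply, smul_eq_mul]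
    exact Finset.sum_congr rfl fun φ _ => by
      rw [pRegularPart_of_reg hg, infl_coe, Function.comp_apply]
  have hsum : ∑ g : G, regComb p B w g * conj (regComb p B w g) =
      ∑ q : G ⧸ N, Fb q * conj (Fb q) := by
    have e1 : ∀ g : G, ¬ IsPRegular p g → regComb p B w g = 0 := fun g hg =>
      pRegularPart_of_sing hg
    have e2 : ∀ q : G ⧸ N, ¬ IsPRegular p q → Fb q = 0 := fun q hq => pRegularPart_of_sing hq
    rw [← Finset.sum_filter_add_sum_filter_not Finset.univ (fun g : G => IsPRegular p g),
      ← Finset.sum_filter_add_sum_filter_not Finset.univ (fun q : G ⧸ N => IsPRegular p q),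
      Finset.sum_eq_zero (s := Finset.filter (fun g : G => ¬ IsPRegular p g) _)
        (fun g hg => by rw [e1 g (Finset.mem_filter.1 hg).2, zero_mul]),
      Finset.sum_eq_zero (s := Finset.filter (fun q : G ⧸ N => ¬ IsPRegular p q) _)
        (fun q hq => by rw [e2 q (Finset.mem_filter.1 hq).2, zero_mul]), add_zero, add_zero]
    refine Finset.sum_bij (fun g _ => (g : G ⧸ N)) (fun g hg => ?_) (fun g hg g' hg' he => ?_)
      (fun q hq => ?_) fun g hg => by rw [heq g (Finset.mem_filter.1 hg).2]
    · exact Finset.mem_filter.2 ⟨Finset.mem_univ _, hmk g (Finset.mem_filter.1 hg).2⟩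
    · exact eq_of_regular_lift hN hNc (Finset.mem_filter.1 hg).2 (Finset.mem_filter.1 hg').2 he
    · obtain ⟨g, hg, rfl⟩ := exists_regular_lift N q (Finset.mem_filter.1 hq).2
      exact ⟨g, Finset.mem_filter.2 ⟨Finset.mem_univ _, hg⟩, rfl⟩
  have hN0 : (Nat.card N : ℂ) ≠ 0 := Nat.cast_ne_zero.2 Nat.card_pos.ne'
  have hinner : (Nat.card N : ℂ) * classInner (regComb p B w) (regComb p B w) =
      classInner Fb Fb := by
    simp only [classInner, hsum]
    rw [← mul_assoc, Subgroup.card_eq_card_quotient_mul_card_subgroup N, Nat.cast_mul, mul_inv,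
      mul_comm ((Nat.card (G ⧸ N) : ℂ))⁻¹, ← mul_assoc, mul_inv_cancel₀ hN0, one_mul]
  refine h c v (fun h0 => hne ?_) ?_
  · refine Char.eq_zero_of_classInner_self (mul_left_cancel₀ hN0 ?_)
    rw [hinner, hFb, h0, mul_zero]
    simp [classInner]
  · rw [← hFb, ← hinner, ← mul_assoc, ← Nat.cast_mul, hd, hv]

end Cfsg.Lib.Block
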