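import Cfsg.Agent.Lib.Block.Supp
import Cfsg.Agent.Lib.Block.Principal

/-!
# The Brauer homomorphism and induced blocks

For a `p`-subgroup `P` and `C(P) ≤ H ≤ N(P)`, truncation to the centralizer of `P` is
multiplicative modulo `M` from the centre of the group ring of `G` to that of `H`.
-/

set_option autoImplicit false
set_option linter.unusedSectionVars false

namespace Cfsg.Lib.Block

open Cfsg
open scoped ComplexConjugate

universe u

variable {p : ℕ} {M : Ideal AlgInt} {G : Type u} [Group G] [Fintype G] [Fact p.Prime]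
  (hM : IsPModular p M)

theorem vInt_vec {f : G → ℂ} (hf : IsClassFunction G f) (hint : ∀ g, f g ∈ locRing hM) :
    VInt hM (vec f) := fun g => by rw [zc_vec hf]; exact hint g

theorem vec_sub_fun (f f' : G → ℂ) (χ : IrrCharacter G) :
    vec (f - f') χ = vec f χ - vec f' χ := by
  simp only [vec, Pi.sub_apply, sub_mul, Finset.sum_sub_distrib, sub_div]

/-! ## Normal `p`-subgroups -/

include hM in
/-- Class functions vanishing on the centralizer of a normal `p`-subgroup have central characters
in the ideal. -/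
theorem vec_mem_ideal_of_vanish {Q : Subgroup G} [Q.Normal] (hQ : IsPGroup p Q) {f : G → ℂ}
    (hf : IsClassFunction G f) (hint : ∀ g, f g ∈ locRing hM)
    (hzero : ∀ g ∈ Subgroup.centralizer (Q : Set G), f g = 0) (χ : IrrCharacter G) :
    MemLocalIdeal M (vec f χ) := by
  classical
  haveI : Finite (ConjClasses G) := Quotient.finite _
  haveI := Fintype.ofFinite (ConjClasses G)
  obtain ⟨ψ, hψB, hψ⟩ := exists_trivial_on_mem hM hQ (isPBlock_blockOf (M := M) χ)
  have h1 := apply_sub_apply_mem hM (vInt_vec hM hf hint) hψB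
  have h2 : MemLocalIdeal M (vec f ψ) := by
    rw [sum_mul_char_eq hf]
    refine memLocalIdeal_sum hM _ _ fun C _ => ?_
    by_cases hC : C.out ∈ Subgroup.centralizer (Q : Set G)
    · rw [hzero _ hC, zero_mul]; exact memLocalIdeal_zero hM
    · exact memLocalIdeal_mul_left hM (hint _) (centralChar_inflated_mem_ideal hM hQ hψ hC)
  have := memLocalIdeal_add hM h1 h2
  rwa [sub_add_cancel] at this

theorem centralizer_conj_mem {Q : Subgroup G} {x g : G}
    (hx : x ∈ Subgroup.normalizer (Q : Set G)) (hg : g ∈ Subgroup.centralizer (Q : Set G)) :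
    x * g * x⁻¹ ∈ Subgroup.centralizer (Q : Set G) := by
  refine Subgroup.mem_centralizer_iff.2 fun q hq => ?_
  have hq' : x⁻¹ * q * x ∈ Q := by
    have h := (Subgroup.mem_normalizer_iff.1 (inv_mem hx) q).1 hq
    rwa [inv_inv] at h
  have h := Subgroup.mem_centralizer_iff.1 hg _ hq'
  calc q * (x * g * x⁻¹) = x * ((x⁻¹ * q * x) * g) * x⁻¹ := by group
    _ = x * (g * (x⁻¹ * q * x)) * x⁻¹ := by rw [h]
    _ = x * g * x⁻¹ * q := by group

theorem centralizer_conj_mem_iff {Q : Subgroup G} {x g : G}
    (hx : x ∈ Subgroup.normalizer (Q : Set G)) :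
    x * g * x⁻¹ ∈ Subgroup.centralizer (Q : Set G) ↔ g ∈ Subgroup.centralizer (Q : Set G) := by
  refine ⟨fun h => ?_, centralizer_conj_mem hx⟩
  have := centralizer_conj_mem (inv_mem hx) h
  simpa [mul_assoc] using this

/-! ## Truncation -/

open Classical in
/-- Truncation of a function on `G` to the centralizer of `P` inside `H`. -/
noncomputable def brF (P H : Subgroup G) (f : G → ℂ) : H → ℂ :=
  fun h => if (h : G) ∈ Subgroup.centralizer (P : Set G) then f h else 0

theorem brF_of_mem {P H : Subgroup G} {f : G → ℂ} {h : H}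
    (hh : (h : G) ∈ Subgroup.centralizer (P : Set G)) : brF P H f h = f h := by
  classical
  exact if_pos hh

theorem brF_of_notMem {P H : Subgroup G} {f : G → ℂ} {h : H}
    (hh : (h : G) ∉ Subgroup.centralizer (P : Set G)) : brF P H f h = 0 := by
  classical
  exact if_neg hh

theorem brF_mem_locRing {P H : Subgroup G} {f : G → ℂ} (hf : ∀ g, f g ∈ locRing hM) (h : H) :
    brF P H f h ∈ locRing hM := by
  classical
  rw [brF]
  split_ifs
  · exact hf _
  · exact zero_mem _

theorem isClassFunction_brF {P H : Subgroup G} (hHN : H ≤ Subgroup.normalizer (P : Set G))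
    {f : G → ℂ} (hf : IsClassFunction G f) : IsClassFunction H (brF P H f) := by
  intro a k
  by_cases ha : (a : G) ∈ Subgroup.centralizer (P : Set G)
  · rw [brF_of_mem ha, brF_of_mem (h := k * a * k⁻¹) (centralizer_conj_mem (hHN k.2) ha)]
    exact hf _ _
  · rw [brF_of_notMem ha,
      brF_of_notMem (h := k * a * k⁻¹) fun h => ha ((centralizer_conj_mem_iff (hHN k.2)).1 h)]

/-- The image of a central element under the Brauer map, as a vector for `H`. -/
noncomputable def brVec (P H : Subgroup G) [Fintype H] (v : IrrCharacter G → ℂ) :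
    IrrCharacter H → ℂ :=
  vec (brF P H (zc v))

variable {P H : Subgroup G} [Fintype H]

theorem zc_brVec (hHN : H ≤ Subgroup.normalizer (P : Set G)) (v : IrrCharacter G → ℂ) (h : H) :
    zc (brVec P H v) h = brF P H (zc v) h :=
  zc_vec (isClassFunction_brF hHN fun g x => zc_conj_invariant v g x) h

theorem vInt_brVec (hHN : H ≤ Subgroup.normalizer (P : Set G)) {v : IrrCharacter G → ℂ}
    (hv : VInt hM v) : VInt hM (brVec P H v) := fun h => by
  rw [zc_brVec hHN]; exact brF_mem_locRing hM hv h

theorem brVec_sub (v w : IrrCharacter G → ℂ) :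
    brVec P H (v - w) = brVec P H v - brVec P H w := by
  funext ξ
  rw [Pi.sub_apply, brVec, brVec, brVec, ← vec_sub_fun]
  congr 1
  funext h
  by_cases hh : (h : G) ∈ Subgroup.centralizer (P : Set G)
  · simp [brF_of_mem hh, zc_sub]
  · simp [brF_of_notMem hh]

theorem brVec_smul (c : ℂ) (v : IrrCharacter G → ℂ) :
    brVec P H (c • v) = c • brVec P H v := by
  funext ξ
  simp only [Pi.smul_apply, smul_eq_mul, brVec, vec, ← mul_div_assoc, Finset.mul_sum]
  congr 1
  refine Finset.sum_congr rfl fun h _ => ?_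
  by_cases hh : (h : G) ∈ Subgroup.centralizer (P : Set G)
  · rw [brF_of_mem hh, brF_of_mem hh, zc_smul, mul_assoc]
  · rw [brF_of_notMem hh, brF_of_notMem hh]; simp

theorem brVec_one (hHN : H ≤ Subgroup.normalizer (P : Set G)) :
    brVec P H (1 : IrrCharacter G → ℂ) = 1 := by
  classical
  refine zc_injective fun h => ?_
  rw [zc_brVec hHN, zc_one]
  by_cases hh : (h : G) ∈ Subgroup.centralizer (P : Set G)
  · rw [brF_of_mem hh, zc_one]
    simp
  · rw [brF_of_notMem hh, if_neg fun h1 => hh (by rw [h1]; simp)]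

include hM in
/-- The Brauer map is multiplicative modulo `M`. -/
theorem vSmall_brVec_mul (hP : IsPGroup p P) (hCH : Subgroup.centralizer (P : Set G) ≤ H)
    (hHN : H ≤ Subgroup.normalizer (P : Set G)) {v w : IrrCharacter G → ℂ} (hv : VInt hM v)
    (hw : VInt hM w) : VSmall M (brVec P H (v * w) - brVec P H v * brVec P H w) := by
  classical
  intro h
  rw [zc_sub, zc_brVec hHN, zc_mul]
  simp only [zc_brVec hHN]
  by_cases hh : (h : G) ∈ Subgroup.centralizer (P : Set G)
  · rw [brF_of_mem hh, zc_mul]
    have hint : ∀ x, zc v x * zc w (x⁻¹ * h) ∈ locRing hM := fun x => mul_mem (hv x) (hw _)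
    have hint' : ∀ x : H, brF P H (zc v) x * brF P H (zc w) (x⁻¹ * h) ∈ locRing hM := fun x =>
      mul_mem (brF_mem_locRing hM hv _) (brF_mem_locRing hM hw _)
    rw [← res_eq_zero_iff hM (sub_mem (sum_mem fun x _ => hint x) (sum_mem fun x _ => hint' x)),
      res_sub hM (sum_mem fun x _ => hint x) (sum_mem fun x _ => hint' x),
      res_sum_centralizer hM P hP (fun x => zc v x * zc w (x⁻¹ * h)) hint (fun s hs x => ?_),
      res_sum hM _ _ fun x _ => hint' x, sub_eq_zero]
    · have hsub : ∀ x : H,
          res hM (brF P H (zc v) x * brF P H (zc w) (x⁻¹ * h)) =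
            if (x : G) ∈ Subgroup.centralizer (P : Set G) then
              res hM (zc v x * zc w ((x : G)⁻¹ * h)) else 0 := fun x => by
        split_ifs with hx
        · rw [brF_of_mem hx, brF_of_mem (h := x⁻¹ * h) (mul_mem (inv_mem hx) hh)]
          rfl
        · rw [brF_of_notMem hx, zero_mul, res_zero]
      rw [Finset.sum_congr rfl fun x _ => hsub x, ← Finset.sum_filter]
      exact Finset.sum_bij' (fun x hx => (⟨x, hCH (Finset.mem_filter.1 hx).2⟩ : H))
        (fun x _ => (x : G)) (fun x hx => Finset.mem_filter.2 ⟨Finset.mem_univ _, (Finset.mem_filter.1 hx).2⟩)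
        (fun x hx => Finset.mem_filter.2 ⟨Finset.mem_univ _, (Finset.mem_filter.1 hx).2⟩)
        (fun _ _ => rfl) (fun _ _ => rfl) (fun _ _ => rfl)
    · show zc v (s * x * s⁻¹) * zc w ((s * x * s⁻¹)⁻¹ * h) = zc v x * zc w (x⁻¹ * h)
      rw [zc_conj_invariant, ← zc_conj_invariant w (x⁻¹ * h) s]
      congr 2
      have hc : (h : G) * s = s * h := (Subgroup.mem_centralizer_iff.1 hh s hs).symm
      calc (s * x * s⁻¹)⁻¹ * (h : G) = s * x⁻¹ * (s⁻¹ * h) := by group
        _ = s * x⁻¹ * (h * s⁻¹) := by
            congr 1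
            rw [eq_mul_inv_iff_mul_eq, mul_assoc, hc, inv_mul_cancel_left]
        _ = s * (x⁻¹ * h) * s⁻¹ := by group
  · rw [brF_of_notMem hh, Finset.sum_eq_zero fun x _ => ?_, sub_zero]
    · exact memLocalIdeal_zero hM
    · by_cases hx : (x : G) ∈ Subgroup.centralizer (P : Set G)
      · rw [brF_of_notMem (h := x⁻¹ * h) fun h' => hh (by
          have := mul_mem hx h'
          simpa using this), mul_zero]
      · rw [brF_of_notMem hx, zero_mul]

include hM in
theorem res_brVec_mul (hP : IsPGroup p P) (hCH : Subgroup.centralizer (P : Set G) ≤ H)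
    (hHN : H ≤ Subgroup.normalizer (P : Set G)) {v w : IrrCharacter G → ℂ} (hv : VInt hM v)
    (hw : VInt hM w) (ξ : IrrCharacter H) :
    res hM (brVec P H (v * w) ξ) = res hM (brVec P H v ξ) * res hM (brVec P H w ξ) := by
  have hiv := apply_mem_locRing hM (vInt_brVec hM hHN hv) ξ
  have hiw := apply_mem_locRing hM (vInt_brVec hM hHN hw) ξ
  rw [← res_mul hM hiv hiw, res_eq_iff hM
    (apply_mem_locRing hM (vInt_brVec hM hHN (vInt_mul hM hv hw)) ξ) (mul_mem hiv hiw)]
  classical
  haveI : Finite (ConjClasses H) := Quotient.finite _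
  haveI := Fintype.ofFinite (ConjClasses H)
  have h := vSmall_brVec_mul hM hP hCH hHN hv hw
  have h2 : MemLocalIdeal M ((brVec P H (v * w) - brVec P H v * brVec P H w) ξ) := by
    rw [← congrFun (vec_zc (brVec P H (v * w) - brVec P H v * brVec P H w)) ξ,
      sum_mul_char_eq (fun g x => zc_conj_invariant _ g x)]
    exact memLocalIdeal_sum hM _ _ fun C _ =>
      memLocalIdeal_mul_right hM (h _) (centralChar_mem_locRing hM ξ _)
  exact h2

omit [Fact p.Prime] in
/-- A homomorphism from integral central elements to the residue field is a central character. -/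
theorem exists_char_of_hom (φ : (IrrCharacter G → ℂ) → resField hM)
    (hadd : ∀ v w, VInt hM v → VInt hM w → φ (v - w) = φ v - φ w)
    (hmul : ∀ v w, VInt hM v → VInt hM w → φ (v * w) = φ v * φ w)
    (hconst : ∀ c, c ∈ locRing hM → φ (c • 1) = res hM c) :
    ∃ χ : IrrCharacter G, ∀ v, VInt hM v → φ v = res hM (v χ) := by
  classical
  have hone : φ 1 = 1 := by
    have := hconst 1 (one_mem _)
    rwa [one_smul, res_one] at this
  have hzero : φ 0 = 0 := by
    have := hadd 1 1 (vInt_one hM) (vInt_one hM)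
    rwa [sub_self, sub_self] at this
  have hprod : ∀ (s : Finset (IrrCharacter G)) (f : IrrCharacter G → IrrCharacter G → ℂ),
      (∀ i ∈ s, VInt hM (f i)) → φ (∏ i ∈ s, f i) = ∏ i ∈ s, φ (f i) := fun s f hf => by
    induction s using Finset.induction_on with
    | empty => simpa using hone
    | insert a s ha ih =>
      rw [Finset.prod_insert ha, Finset.prod_insert ha,
        hmul _ _ (hf a (Finset.mem_insert_self _ _))
          (vInt_prod hM _ _ fun i hi => hf i (Finset.mem_insert_of_mem hi)),
        ih fun i hi => hf i (Finset.mem_insert_of_mem hi)]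
  -- a value of `φ` is always a value of a character
  have hval : ∀ v, VInt hM v → ∃ χ, φ v = res hM (v χ) := by
    intro v hv
    have hI : ∀ χ ∈ Finset.univ, VInt hM (v - v χ • 1) := fun χ _ =>
      vInt_sub hM hv (vInt_smul hM (apply_mem_locRing hM hv χ) (vInt_one hM))
    have h0 : (∏ χ : IrrCharacter G, (v - v χ • 1)) = 0 := by
      funext ψ
      rw [Finset.prod_apply]
      exact Finset.prod_eq_zero (Finset.mem_univ ψ) (by simp)
    have h := hprod Finset.univ _ hI
    rw [h0, hzero, eq_comm, Finset.prod_eq_zero_iff] at h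
    obtain ⟨χ, -, hχ⟩ := h
    refine ⟨χ, ?_⟩
    rwa [hadd _ _ hv (vInt_smul hM (apply_mem_locRing hM hv χ) (vInt_one hM)),
      hconst _ (apply_mem_locRing hM hv χ), sub_eq_zero] at hχ
  -- some block idempotent maps to one
  have hex : ∃ χ : IrrCharacter G, φ (indVec (blockOf M (χ : G → ℂ))) ≠ 0 := by
    by_contra h
    simp only [not_exists, not_not] at h
    have hI : ∀ χ ∈ (Finset.univ : Finset (IrrCharacter G)),
        VInt hM (1 - indVec (blockOf M (χ : G → ℂ))) := fun χ _ =>
      vInt_sub hM (vInt_one hM) (vInt_indVec hM (isPBlock_blockOf χ))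
    have h0 : (∏ χ : IrrCharacter G, (1 - indVec (blockOf M (χ : G → ℂ)))) =
        (0 : IrrCharacter G → ℂ) := by
      funext ψ
      rw [Finset.prod_apply]
      refine Finset.prod_eq_zero (Finset.mem_univ ψ) ?_
      simp [indVec, self_mem_blockOf hM ψ]
    have h2 := hprod Finset.univ _ hI
    rw [h0, hzero, eq_comm, Finset.prod_eq_zero_iff] at h2
    obtain ⟨χ, -, hχ⟩ := h2
    rw [hadd _ _ (vInt_one hM) (vInt_indVec hM (isPBlock_blockOf χ)), h χ, hone, sub_zero] at hχ
    exact one_ne_zero hχ
  obtain ⟨χ, hχ⟩ := hex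
  have hBi : VInt hM (indVec (blockOf M (χ : G → ℂ))) := vInt_indVec hM (isPBlock_blockOf χ)
  set e := indVec (blockOf M (χ : G → ℂ))
  have he : φ e = 1 := by
    have hee : e * e = e := funext fun ψ => by
      simp only [Pi.mul_apply, e, indVec]; split_ifs <;> simp
    have := hmul e e hBi hBi
    rw [hee] at this
    exact (mul_left_cancel₀ hχ (this.symm.trans (mul_one _).symm))
  refine ⟨χ, fun v hv => ?_⟩
  obtain ⟨ψ, hψ⟩ := hval _ (vInt_mul hM (vInt_sub hM hv
    (vInt_smul hM (apply_mem_locRing hM hv χ) (vInt_one hM))) hBi)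
  rw [hmul _ _ (vInt_sub hM hv (vInt_smul hM (apply_mem_locRing hM hv χ) (vInt_one hM))) hBi, he,
    mul_one, hadd _ _ hv (vInt_smul hM (apply_mem_locRing hM hv χ) (vInt_one hM)),
    hconst _ (apply_mem_locRing hM hv χ)] at hψ
  have h0 : res hM (((v - v χ • 1) * e) ψ) = 0 := by
    simp only [Pi.mul_apply, Pi.sub_apply, Pi.smul_apply, Pi.one_apply, smul_eq_mul, mul_one, e,
      indVec]
    split_ifs with hmem
    · rw [mul_one, res_sub hM (apply_mem_locRing hM hv ψ) (apply_mem_locRing hM hv χ),
        res_apply_eq hM hv hmem, sub_self]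
    · rw [mul_zero, res_zero]
  rw [h0, sub_eq_zero] at hψ
  exact hψ

include hM in
/-- Each character of `H` determines a character of `G` through the Brauer map. -/
theorem exists_char_brauer (hP : IsPGroup p P) (hCH : Subgroup.centralizer (P : Set G) ≤ H)
    (hHN : H ≤ Subgroup.normalizer (P : Set G)) (ξ : IrrCharacter H) :
    ∃ χ : IrrCharacter G, ∀ v, VInt hM v → res hM (brVec P H v ξ) = res hM (v χ) := by
  refine exists_char_of_hom hM (fun v => res hM (brVec P H v ξ)) (fun v w hv hw => ?_)
    (fun v w hv hw => res_brVec_mul hM hP hCH hHN hv hw ξ) fun c hc => ?_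
  · show res hM (brVec P H (v - w) ξ) = _
    rw [brVec_sub, Pi.sub_apply, res_sub hM (apply_mem_locRing hM (vInt_brVec hM hHN hv) ξ)
      (apply_mem_locRing hM (vInt_brVec hM hHN hw) ξ)]
  · show res hM (brVec P H (c • 1) ξ) = _
    rw [brVec_smul, brVec_one hHN, Pi.smul_apply, Pi.one_apply, smul_eq_mul, mul_one]

open Classical in
theorem brauerCentralChar_eq (ξ : IrrCharacter H) (g : G) :
    brauerCentralChar P H (ξ : H → ℂ) g =
      brVec P H (fun χ : IrrCharacter G => centralChar (χ : G → ℂ) g) ξ := by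
  rw [brauerCentralChar, finsum_mem_eq_finite_toFinset_sum _ (Set.toFinite _), brVec, vec,
    Finset.sum_div]
  rw [← Finset.sum_subset (Finset.subset_univ _) (fun h _ hh => ?_)]
  · refine Finset.sum_congr rfl fun h hh => ?_
    simp only [Set.Finite.mem_toFinset, Set.mem_setOf_eq] at hh
    rw [brF_of_mem hh.2, zc_centralChar, if_pos hh.1, one_mul]
  · simp only [Set.Finite.mem_toFinset, Set.mem_setOf_eq, not_and] at hh
    by_cases hc : (h : G) ∈ Subgroup.centralizer (P : Set G)
    · rw [brF_of_mem hc, zc_centralChar, if_neg fun h1 => hh h1 hc, zero_mul, zero_div]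
    · rw [brF_of_notMem hc, zero_mul, zero_div]

open Classical in
theorem inducedCentralChar_eq (ξ : IrrCharacter H) (g : G) :
    inducedCentralChar H (ξ : H → ℂ) g =
      vec (fun h : H => if IsConj g (h : G) then (1 : ℂ) else 0) ξ := by
  rw [inducedCentralChar, finsum_mem_eq_finite_toFinset_sum _ (Set.toFinite _), vec,
    Finset.sum_div]
  rw [← Finset.sum_subset (Finset.subset_univ _) (fun h _ hh => ?_)]
  · refine Finset.sum_congr rfl fun h hh => ?_
    simp only [Set.Finite.mem_toFinset, Set.mem_setOf_eq] at hh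
    rw [if_pos hh, one_mul]
  · simp only [Set.Finite.mem_toFinset, Set.mem_setOf_eq] at hh
    rw [if_neg hh, zero_mul, zero_div]

include hM in
/-- The induced central character agrees with the Brauer map. -/
theorem inducedCentralChar_sub_brauer (hP : IsPGroup p P) (hPH : P ≤ H)
    (hHN : H ≤ Subgroup.normalizer (P : Set G)) (ξ : IrrCharacter H) (g : G) :
    MemLocalIdeal M
      (inducedCentralChar H (ξ : H → ℂ) g - brauerCentralChar P H (ξ : H → ℂ) g) := by
  classical
  rw [inducedCentralChar_eq, brauerCentralChar_eq, brVec, ← vec_sub_fun]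
  haveI : (P.subgroupOf H).Normal := Subgroup.normal_subgroupOf_iff_le_normalizer hPH |>.2 hHN
  have hcls : IsClassFunction G fun x : G => if IsConj g x then (1 : ℂ) else 0 := fun x k =>
    if_congr ⟨fun h => h.trans (isConj_iff.2 ⟨k⁻¹, by group⟩),
      fun h => h.trans (isConj_iff.2 ⟨k, rfl⟩)⟩ rfl rfl
  have hclsH : IsClassFunction H fun h : H => if IsConj g (h : G) then (1 : ℂ) else 0 :=
    fun h k => hcls (h : G) (k : G)
  have hzc : zc (fun χ : IrrCharacter G => centralChar (χ : G → ℂ) g) =
      fun x : G => if IsConj g x then (1 : ℂ) else 0 := funext fun x => zc_centralChar g x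
  rw [hzc]
  refine vec_mem_ideal_of_vanish hM (Q := P.subgroupOf H) hP.comap_subtype
    (fun a k => ?_) (fun a => ?_) (fun a ha => ?_) ξ
  · rw [Pi.sub_apply, Pi.sub_apply, isClassFunction_brF hHN hcls a k]
    exact congrArg (· - _) (hclsH a k)
  · refine sub_mem ?_ (brF_mem_locRing hM (fun x => ?_) a)
    · show (if IsConj g (a : G) then (1 : ℂ) else 0) ∈ locRing hM
      split_ifs
      · exact one_mem _
      · exact zero_mem _
    · split_ifs
      · exact one_mem _
      · exact zero_mem _
  · rw [Pi.sub_apply, brF_of_mem, sub_self]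
    refine Subgroup.mem_centralizer_iff.2 fun q hq => ?_
    have := Subgroup.mem_centralizer_iff.1 ha ⟨q, hPH hq⟩ hq
    exact congrArg Subtype.val this

end Cfsg.Lib.Block
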