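import Cfsg.Agent.Lib.Block.Vanish
import Cfsg.Prelude.Def_BlockRank

/-!
# Defect, height and the regular part of a character

The key congruence: on every class, the idempotent coefficient of a block is proportional to
`|C(g)| ω(g⁻¹)` modulo the terms of higher height.  Consequences: defect classes have centralizer
`p`-part `p ^ d`, the exact power of `p` in the degree square sum, and the unit
criterion for height zero through sums over `p`-regular elements.
-/

set_option autoImplicit false
set_option linter.unusedSectionVars false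

namespace Cfsg.Lib.Block

open Cfsg
open scoped ComplexConjugate

universe u

variable {p : ℕ} {M : Ideal AlgInt}

/-! ## Valuations of natural numbers -/

theorem natCast_not_ideal (hM : IsPModular p M) {n : ℕ} (h : ¬ p ∣ n) :
    ¬ MemLocalIdeal M (n : ℂ) := fun h' => h ((memLocalIdeal_natCast_iff hM n).1 h')

/-- Quotient of natural numbers with nonnegative valuation. -/
theorem natCast_div_mem (hM : IsPModular p M) {a b : ℕ} (hb : b ≠ 0)
    (h : a = 0 ∨ b.factorization p ≤ a.factorization p) : (a : ℂ) / b ∈ locRing hM := by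
  rcases h with rfl | h
  · simp
  rcases eq_or_ne a 0 with rfl | ha
  · simp
  have hp := hM.1
  have e : (a : ℂ) / b = ((p : ℂ) ^ (a.factorization p - b.factorization p) *
      (ordCompl[p] a : ℕ)) * ((ordCompl[p] b : ℕ) : ℂ)⁻¹ := by
    have hA : (a : ℂ) = (p : ℂ) ^ a.factorization p * (ordCompl[p] a : ℕ) := by
      exact_mod_cast (Nat.ordProj_mul_ordCompl_eq_self a p).symm
    have hB : (b : ℂ) = (p : ℂ) ^ b.factorization p * (ordCompl[p] b : ℕ) := by
      exact_mod_cast (Nat.ordProj_mul_ordCompl_eq_self b p).symm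
    have hp0 : (p : ℂ) ≠ 0 := by exact_mod_cast hp.ne_zero
    obtain ⟨d, hd⟩ := Nat.exists_eq_add_of_le h
    rw [hA, hB]
    generalize (ordCompl[p] a : ℕ) = A at *
    generalize (ordCompl[p] b : ℕ) = B at *
    rw [hd, Nat.add_sub_cancel_left, pow_add, div_eq_mul_inv, mul_inv]
    field_simp
  rw [e]
  exact mul_mem (mul_mem (pow_mem (natCast_mem _ _) _) (natCast_mem _ _))
    (inv_natCast_mem_locRing hM (Nat.not_dvd_ordCompl hp hb))

theorem natCast_div_mem_ideal (hM : IsPModular p M) {a b : ℕ} (hb : b ≠ 0)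
    (h : a = 0 ∨ b.factorization p < a.factorization p) : MemLocalIdeal M ((a : ℂ) / b) := by
  rcases h with rfl | h
  · simp [memLocalIdeal_zero hM]
  have hp := hM.1
  have hbp : b * p ≠ 0 := Nat.mul_ne_zero hb hp.ne_zero
  have hfac : (b * p).factorization p ≤ a.factorization p := by
    rw [Nat.factorization_mul hb hp.ne_zero, Finsupp.add_apply, hp.factorization_self]
    omega
  have e : (a : ℂ) / b = (a : ℂ) / ((b * p : ℕ) : ℂ) * (p : ℂ) := by
    have hp0 : (p : ℂ) ≠ 0 := by exact_mod_cast hp.ne_zero
    push_cast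
    field_simp
  rw [e]
  exact memLocalIdeal_mul_left hM (natCast_div_mem hM hbp (Or.inr hfac))
    ((memLocalIdeal_natCast_iff hM p).2 dvd_rfl)

theorem natCast_div_not_ideal (hM : IsPModular p M) {a b : ℕ} (ha : a ≠ 0) (hb : b ≠ 0)
    (h : a.factorization p = b.factorization p) : ¬ MemLocalIdeal M ((a : ℂ) / b) := by
  intro h'
  have h1 : (b : ℂ) / a ∈ locRing hM := natCast_div_mem hM ha (Or.inr h.le)
  have h2 := memLocalIdeal_mul_left hM h1 h'
  rw [div_mul_div_cancel₀ (by exact_mod_cast ha), div_self (by exact_mod_cast hb)] at h2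
  exact natCast_not_ideal hM hM.1.not_dvd_one (by simpa using h2)

theorem not_ideal_of_mul_not_ideal (hM : IsPModular p M) {x y : ℂ} (hx : x ∈ locRing hM)
    (h : ¬ MemLocalIdeal M (x * y)) : ¬ MemLocalIdeal M y :=
  fun h' => h (memLocalIdeal_mul_left hM hx h')

theorem mul_not_ideal (hM : IsPModular p M) {x y : ℂ} (hx : x ∈ locRing hM) (hy : y ∈ locRing hM)
    (hx' : ¬ MemLocalIdeal M x) (hy' : ¬ MemLocalIdeal M y) : ¬ MemLocalIdeal M (x * y) :=
  fun h => ((memLocalIdeal_mul_iff hM hx hy).1 h).elim hx' hy'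

variable {G : Type u} [Group G]

/-- The least exponent of `p` in the degrees of a set of characters. -/
noncomputable def minVal (p : ℕ) (B : Set (IrrCharacter G)) : ℕ :=
  sInf ((fun χ : IrrCharacter G => (charDegree (χ : G → ℂ)).factorization p) '' B)

theorem blockDefect_eq (B : Set (IrrCharacter G)) :
    blockDefect p B = (Nat.card G).factorization p - minVal p B := rfl

theorem blockHeight_eq (B : Set (IrrCharacter G)) (χ : G → ℂ) :
    blockHeight p B χ = (charDegree χ).factorization p - minVal p B := rfl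

theorem minVal_le {B : Set (IrrCharacter G)} {χ : IrrCharacter G} (hχ : χ ∈ B) :
    minVal p B ≤ (charDegree (χ : G → ℂ)).factorization p :=
  Nat.sInf_le ⟨χ, hχ, rfl⟩

theorem exists_minVal {B : Set (IrrCharacter G)} (hB : B.Nonempty) :
    ∃ χ ∈ B, (charDegree (χ : G → ℂ)).factorization p = minVal p B :=
  Nat.sInf_mem (hB.image _)

theorem blockHeight_eq_zero_iff {B : Set (IrrCharacter G)} {χ : IrrCharacter G} (hχ : χ ∈ B) :
    blockHeight p B (χ : G → ℂ) = 0 ↔
      (charDegree (χ : G → ℂ)).factorization p = minVal p B := by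
  have := minVal_le (p := p) hχ
  rw [blockHeight_eq]; omega

theorem minVal_le_card [Finite G] {B : Set (IrrCharacter G)} (hB : B.Nonempty) :
    minVal p B ≤ (Nat.card G).factorization p := by
  obtain ⟨χ, hχ⟩ := hB
  exact (minVal_le hχ).trans
    (((Nat.factorization_le_iff_dvd (charDegree_pos χ).ne' Nat.card_pos.ne').2
      (charDegree_dvd_card χ)) p)

theorem blockDefect_add_minVal [Finite G] {B : Set (IrrCharacter G)} (hB : B.Nonempty) :
    blockDefect p B + minVal p B = (Nat.card G).factorization p := by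
  have := minVal_le_card (p := p) hB
  rw [blockDefect_eq]; omega

variable [Fintype G]

/-- The order of the centralizer. -/
noncomputable def cenCard (g : G) : ℕ := Nat.card (Subgroup.centralizer ({g} : Set G))

theorem cenCard_pos (g : G) : 0 < cenCard g := Nat.card_pos

theorem cenCard_inv (g : G) : cenCard g⁻¹ = cenCard g := by
  refine Nat.card_congr (Equiv.subtypeEquivRight fun x => ?_)
  simp only [Subgroup.mem_centralizer_iff, Set.mem_singleton_iff, forall_eq]
  exact ⟨fun h => (Commute.inv_left_iff.1 h : Commute g x), fun h => (Commute.inv_left h : _)⟩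

theorem cenCard_one : cenCard (1 : G) = Nat.card G :=
  Nat.card_congr (Equiv.subtypeUnivEquiv fun x => by simp [Subgroup.mem_centralizer_iff])

theorem factorization_cenCard_le (g : G) :
    (cenCard g).factorization p ≤ (Nat.card G).factorization p :=
  (Nat.factorization_le_iff_dvd (cenCard_pos g).ne' Nat.card_pos.ne').2
    (Subgroup.card_subgroup_dvd_card _) p

theorem centralChar_mul_eq (χ : G → ℂ) (g : G) :
    centralChar χ g * (cenCard g : ℂ) = (Nat.card G : ℂ) * χ g / χ 1 := by
  have h : ((Subgroup.centralizer ({g} : Set G)).index : ℂ) * (cenCard g : ℂ) = Nat.card G := by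
    exact_mod_cast Subgroup.index_mul_card (Subgroup.centralizer ({g} : Set G))
  rw [centralChar, div_mul_eq_mul_div, mul_right_comm, h]

theorem charVal_eq (χ : IrrCharacter G) (g : G) :
    (χ : G → ℂ) g = centralChar (χ : G → ℂ) g *
      (((charDegree (χ : G → ℂ) * cenCard g : ℕ) : ℂ) / (Nat.card G : ℕ)) := by
  have h := centralChar_mul_eq (χ : G → ℂ) g
  have h1 := χ.2.apply_one_ne_zero
  rw [apply_one_eq_charDegree χ] at h h1
  push_cast
  field_simp at h ⊢
  linear_combination -h

theorem conjVal_eq (χ : IrrCharacter G) (g : G) :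
    conj ((χ : G → ℂ) g) = centralChar (χ : G → ℂ) g⁻¹ *
      (((charDegree (χ : G → ℂ) * cenCard g : ℕ) : ℂ) / (Nat.card G : ℕ)) := by
  rw [← χ.2.isCharacter.apply_inv, ← cenCard_inv g, ← charVal_eq]

variable [Fact p.Prime]

/-- Multiplicity of the trivial character in the restriction to a Sylow subgroup. -/
theorem exists_restrict_mult (χ : IrrCharacter G) (P : Subgroup G) :
    ∃ n : ℕ, ∑ᶠ y : P, (χ : G → ℂ) y = (Nat.card P : ℂ) * n := by
  haveI := Fintype.ofFinite P
  rw [finsum_eq_sum_of_fintype]
  obtain ⟨n, hn⟩ := (χ.2.isCharacter.comp P.subtype).exists_nat_classInner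
    (Char.isCharacter_one (G := P))
  refine ⟨n, ?_⟩
  rw [← hn, classInner, ← mul_assoc, mul_inv_cancel₀ Char.card_cast_ne_zero, one_mul]
  simp

theorem dvd_orderOf_of_mem_pgroup {P : Subgroup G} (hP : IsPGroup p P) {y : G} (hy : y ∈ P)
    (hne : y ≠ 1) : p ∣ orderOf y := by
  obtain ⟨k, hk⟩ := hP ⟨y, hy⟩
  rw [Subtype.ext_iff] at hk
  simp only [SubmonoidClass.coe_pow, OneMemClass.coe_one] at hk
  obtain ⟨j, -, hj⟩ := (Nat.dvd_prime_pow (Fact.out : p.Prime)).1 (orderOf_dvd_of_pow_eq_one hk)
  rcases Nat.eq_zero_or_pos j with rfl | hj0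
  · exact absurd (orderOf_eq_one_iff.1 (by simpa using hj)) hne
  · rw [hj]; exact dvd_pow_self p hj0.ne'

variable (hM : IsPModular p M)

open Classical in
include hM in
/-- Block coefficients vanish at singular elements. -/
theorem blockCoeff_eq_zero_of_dvd {B : Set (IrrCharacter G)} (hB : VInt hM (indVec B)) {g : G}
    (hg : p ∣ orderOf g) : blockCoeff B g = 0 := by
  rw [blockCoeff, sum_block_mul_conj_eq_zero hM hB
    (not_isConj_pPt_of_dvd (by simpa using (Fact.out : p.Prime).ne_one) hg), mul_zero]

/-- The multiplicity of the trivial character on a fixed Sylow subgroup. -/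
noncomputable def sylMult (p : ℕ) [Fact p.Prime] (χ : IrrCharacter G) : ℕ :=
  (exists_restrict_mult χ ((default : Sylow p G) : Subgroup G)).choose

open Classical in
include hM in
/-- Block coefficients as integral combinations of character values. -/
theorem card_mul_blockCoeff {B : Set (IrrCharacter G)} (hB : VInt hM (indVec B)) {g : G}
    (hg : ¬ p ∣ orderOf g) :
    (Nat.card G : ℂ) * blockCoeff B g = ((p ^ (Nat.card G).factorization p : ℕ) : ℂ) *
      ∑ χ ∈ B.toFinset, (sylMult p χ : ℂ) * conj ((χ : G → ℂ) g) := by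
  haveI := Fintype.ofFinite (default : Sylow p G)
  set P : Subgroup G := ((default : Sylow p G) : Subgroup G) with hP
  have hcard : Nat.card P = p ^ (Nat.card G).factorization p :=
    Sylow.card_eq_multiplicity (default : Sylow p G)
  have hmult : ∀ χ : IrrCharacter G, ∑ y : P, (χ : G → ℂ) y = (Nat.card P : ℂ) * sylMult p χ :=
    fun χ => by
      rw [← finsum_eq_sum_of_fintype]
      exact (exists_restrict_mult χ P).choose_spec
  have hvan : ∀ y : P, (y : G) ≠ 1 →
      ∑ χ ∈ B.toFinset, (χ : G → ℂ) (y : G) * conj ((χ : G → ℂ) g) = 0 := fun y hy => by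
    rw [← finsum_mem_eq_toFinset_sum]
    exact sum_block_mul_conj_eq_zero hM hB fun hc => not_isConj_pPt_of_dvd hg
      (dvd_orderOf_of_mem_pgroup (default : Sylow p G).isPGroup' y.2 hy) hc.symm
  have key : ∑ χ ∈ B.toFinset, (Nat.card P : ℂ) * sylMult p χ * conj ((χ : G → ℂ) g) =
      ∑ χ ∈ B.toFinset, (χ : G → ℂ) 1 * conj ((χ : G → ℂ) g) := by
    simp only [← hmult, Finset.sum_mul]
    rw [Finset.sum_comm, Finset.sum_eq_single 1]
    · simp
    · exact fun y _ hy => hvan y (by simpa using hy)
    · simp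
  rw [blockCoeff, finsum_mem_eq_toFinset_sum, ← mul_assoc,
    mul_inv_cancel₀ Char.card_cast_ne_zero, one_mul, ← key, ← hcard, Finset.mul_sum]
  exact Finset.sum_congr rfl fun χ _ => by ring

open Classical in
include hM in
/-- Block coefficients in terms of central characters. -/
theorem blockCoeff_eq_sum {B : Set (IrrCharacter G)} (hB : VInt hM (indVec B)) {g : G}
    (hg : ¬ p ∣ orderOf g) :
    blockCoeff B g = ((ordCompl[p] (Nat.card G) : ℕ) : ℂ)⁻¹ *
      ∑ χ ∈ B.toFinset, (sylMult p χ : ℂ) * (centralChar (χ : G → ℂ) g⁻¹ *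
        (((charDegree (χ : G → ℂ) * cenCard g : ℕ) : ℂ) / (Nat.card G : ℕ))) := by
  have h := card_mul_blockCoeff hM hB hg
  have hG : (Nat.card G : ℂ) = ((p ^ (Nat.card G).factorization p : ℕ) : ℂ) *
      ((ordCompl[p] (Nat.card G) : ℕ) : ℂ) := by
    exact_mod_cast (Nat.ordProj_mul_ordCompl_eq_self (Nat.card G) p).symm
  simp only [← conjVal_eq]
  have h1 : ((p ^ (Nat.card G).factorization p : ℕ) : ℂ) ≠ 0 := by
    exact_mod_cast (pow_pos hM.1.pos _).ne'
  have h2 : ((ordCompl[p] (Nat.card G) : ℕ) : ℂ) ≠ 0 := by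
    exact_mod_cast (Nat.ordCompl_pos p Nat.card_pos.ne').ne'
  rw [hG, mul_assoc] at h
  rw [← mul_left_cancel₀ h1 h, inv_mul_cancel_left₀ h2]

theorem ordCompl_card_inv_mem : ((ordCompl[p] (Nat.card G) : ℕ) : ℂ)⁻¹ ∈ locRing hM :=
  inv_natCast_mem_locRing hM (Nat.not_dvd_ordCompl hM.1 Nat.card_pos.ne')

theorem factorization_deg_mul_cen (χ : IrrCharacter G) (g : G) :
    (charDegree (χ : G → ℂ) * cenCard g).factorization p =
      (charDegree (χ : G → ℂ)).factorization p + (cenCard g).factorization p := by
  rw [Nat.factorization_mul (charDegree_pos χ).ne' (cenCard_pos g).ne', Finsupp.add_apply]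

include hM in
/-- Classes with centralizer bigger than the defect carry no idempotent coefficient. -/
theorem blockCoeff_mem_ideal_of_lt {B : Set (IrrCharacter G)} (hB : IsPBlock M B) {g : G}
    (hlt : blockDefect p B < (cenCard g).factorization p) : MemLocalIdeal M (blockCoeff B g) := by
  classical
  have hI := vInt_indVec hM hB
  by_cases hg : p ∣ orderOf g
  · rw [blockCoeff_eq_zero_of_dvd hM hI hg]; exact memLocalIdeal_zero hM
  rw [blockCoeff_eq_sum hM hI hg]
  refine memLocalIdeal_mul_left hM (ordCompl_card_inv_mem hM)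
    (memLocalIdeal_sum hM _ _ fun χ hχ => ?_)
  rw [Set.mem_toFinset] at hχ
  refine memLocalIdeal_mul_left hM (natCast_mem _ _)
    (memLocalIdeal_mul_left hM (centralChar_mem_locRing hM χ _)
      (natCast_div_mem_ideal hM Nat.card_pos.ne' (Or.inr ?_)))
  have h1 := minVal_le (p := p) hχ
  have h2 := blockDefect_add_minVal (p := p) (nonempty_of_isPBlock hM hB)
  rw [factorization_deg_mul_cen]; omega

include hM in
/-- Central characters vanish on classes with centralizer smaller than the defect. -/
theorem centralChar_mem_ideal_of_lt {B : Set (IrrCharacter G)} (hB : IsPBlock M B)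
    {χ : IrrCharacter G} (hχ : χ ∈ B) {g : G}
    (hlt : (cenCard g).factorization p < blockDefect p B) :
    MemLocalIdeal M (centralChar (χ : G → ℂ) g) := by
  obtain ⟨ψ, hψ, hψmin⟩ := exists_minVal (p := p) (nonempty_of_isPBlock hM hB)
  have key : MemLocalIdeal M (centralChar (ψ : G → ℂ) g) := by
    have h2 := blockDefect_add_minVal (p := p) (nonempty_of_isPBlock hM hB)
    have hne : charDegree (ψ : G → ℂ) * cenCard g ≠ 0 :=
      Nat.mul_ne_zero (charDegree_pos ψ).ne' (cenCard_pos g).ne'
    have hne' : ((charDegree (ψ : G → ℂ) * cenCard g : ℕ) : ℂ) ≠ 0 := by exact_mod_cast hne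
    have e : centralChar (ψ : G → ℂ) g =
        (ψ : G → ℂ) g * (((Nat.card G : ℕ) : ℂ) / (charDegree (ψ : G → ℂ) * cenCard g : ℕ)) := by
      conv_rhs => rw [charVal_eq ψ g]
      field_simp [Char.card_cast_ne_zero (G := G)]
    rw [e]
    refine memLocalIdeal_mul_left hM (charVal_mem_locRing hM ψ g)
      (natCast_div_mem_ideal hM hne (Or.inr ?_))
    rw [factorization_deg_mul_cen]; omega
  have h1 := sameBlock_of_mem hM hB hχ hψ g
  have := memLocalIdeal_add hM h1 key
  rwa [sub_add_cancel] at this

include hM in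
theorem exists_isDefectClass {B : Set (IrrCharacter G)} (hB : IsPBlock M B) :
    ∃ g : G, IsDefectClass M B g := by
  classical
  haveI : Finite (ConjClasses G) := Quotient.finite _
  haveI := Fintype.ofFinite (ConjClasses G)
  obtain ⟨χ, hχ⟩ := nonempty_of_isPBlock hM hB
  have h1 : vec (blockCoeff B) χ = 1 := by
    have : blockCoeff B = zc (indVec B) := funext fun g => (zc_indVec B g).symm
    rw [this, vec_zc, indVec, if_pos hχ]
  rw [sum_mul_char_eq (fun g x => blockCoeff_conj_invariant B g x)] at h1
  by_contra hnone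
  simp only [not_exists] at hnone
  refine natCast_not_ideal hM hM.1.not_dvd_one ?_
  rw [Nat.cast_one, ← h1]
  refine memLocalIdeal_sum hM _ _ fun C _ => ?_
  by_cases he : MemLocalIdeal M (blockCoeff B C.out)
  · exact memLocalIdeal_mul_right hM he (centralChar_mem_locRing hM χ _)
  · refine memLocalIdeal_mul_left hM (blockCoeff_mem_locRing hM hB _) ?_
    by_contra hω
    refine hnone C.out ⟨blockCoeff_mem_locRing hM hB _, he, fun ψ hψ h => hω ?_⟩
    have := memLocalIdeal_add hM (sameBlock_of_mem hM hB hχ hψ C.out) h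
    rwa [sub_add_cancel] at this

include hM in
/-- A defect class has centralizer of `p`-part exactly the defect. -/
theorem factorization_cenCard_defectClass {B : Set (IrrCharacter G)} (hB : IsPBlock M B) {g : G}
    (hg : IsDefectClass M B g) : (cenCard g).factorization p = blockDefect p B := by
  obtain ⟨χ, hχ⟩ := nonempty_of_isPBlock hM hB
  refine le_antisymm ?_ ?_
  · by_contra h
    exact hg.2.1 (blockCoeff_mem_ideal_of_lt hM hB (not_le.1 h))
  · by_contra h
    exact hg.2.2 χ hχ (centralChar_mem_ideal_of_lt hM hB hχ (not_le.1 h))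

include hM in
theorem not_dvd_orderOf_defectClass {B : Set (IrrCharacter G)} (hB : IsPBlock M B) {g : G}
    (hg : IsDefectClass M B g) : ¬ p ∣ orderOf g := fun h => hg.2.1 (by
  rw [blockCoeff_eq_zero_of_dvd hM (vInt_indVec hM hB) h]; exact memLocalIdeal_zero hM)

include hM in
/-- The idempotent coefficient is proportional to a central character value on big classes. -/
theorem blockCoeff_sub_mem_ideal {B : Set (IrrCharacter G)} (hB : IsPBlock M B)
    {χ : IrrCharacter G} (hχ : χ ∈ B) {g : G} (hg : ¬ p ∣ orderOf g)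
    (hge : blockDefect p B ≤ (cenCard g).factorization p) :
    MemLocalIdeal M (blockCoeff B g - centralChar (χ : G → ℂ) g⁻¹ *
      (cenCard g : ℂ) / (Nat.card G : ℂ) * blockCoeff B 1) := by
  classical
  have hI := vInt_indVec hM hB
  rw [blockCoeff_eq_sum hM hI hg, blockCoeff_eq_sum hM hI (g := 1) (by simpa using hM.1.ne_one)]
  have e : ∀ ψ : IrrCharacter G, centralChar (χ : G → ℂ) g⁻¹ * (cenCard g : ℂ) / (Nat.card G : ℂ) *
      ((sylMult p ψ : ℂ) * (centralChar (ψ : G → ℂ) (1 : G)⁻¹ *
        (((charDegree (ψ : G → ℂ) * cenCard (1 : G) : ℕ) : ℂ) / (Nat.card G : ℕ)))) =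
      (sylMult p ψ : ℂ) * (centralChar (χ : G → ℂ) g⁻¹ *
        (((charDegree (ψ : G → ℂ) * cenCard g : ℕ) : ℂ) / (Nat.card G : ℕ))) := fun ψ => by
    rw [inv_one, centralChar_one_elt, cenCard_one]
    push_cast
    field_simp [Char.card_cast_ne_zero (G := G)]
  rw [mul_left_comm (centralChar (χ : G → ℂ) g⁻¹ * (cenCard g : ℂ) / (Nat.card G : ℂ)),
    ← mul_sub, Finset.mul_sum, ← Finset.sum_sub_distrib]
  refine memLocalIdeal_mul_left hM (ordCompl_card_inv_mem hM)
    (memLocalIdeal_sum hM _ _ fun ψ hψ => ?_)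
  rw [Set.mem_toFinset] at hψ
  rw [e ψ, ← mul_sub, ← sub_mul]
  refine memLocalIdeal_mul_left hM (natCast_mem _ _) (memLocalIdeal_mul_right hM
    (sameBlock_of_mem hM hB hψ hχ g⁻¹) ?_)
  refine natCast_div_mem hM Nat.card_pos.ne' (Or.inr ?_)
  have h1 := minVal_le (p := p) hψ
  have h2 := blockDefect_add_minVal (p := p) (nonempty_of_isPBlock hM hB)
  rw [factorization_deg_mul_cen]; omega

open Classical in
/-- The coefficient at `1` of a block, as a rational number. -/
theorem blockCoeff_one (B : Set (IrrCharacter G)) :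
    blockCoeff B 1 =
      ((∑ χ ∈ B.toFinset, charDegree (χ : G → ℂ) ^ 2 : ℕ) : ℂ) / (Nat.card G : ℂ) := by
  rw [blockCoeff, finsum_mem_eq_toFinset_sum, Nat.cast_sum, div_eq_inv_mul]
  congr 1
  refine Finset.sum_congr rfl fun χ _ => ?_
  rw [conj_apply_one, apply_one_eq_charDegree, Nat.cast_pow, sq]

open Classical in
include hM in
/-- The exact power of `p` in the sum of squares of the degrees in a block. -/
theorem factorization_sum_sq {B : Set (IrrCharacter G)} (hB : IsPBlock M B) :
    (∑ χ ∈ B.toFinset, charDegree (χ : G → ℂ) ^ 2).factorization p =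
      2 * (Nat.card G).factorization p - blockDefect p B := by
  classical
  obtain ⟨g, hg⟩ := exists_isDefectClass hM hB
  obtain ⟨χ, hχ, hχmin⟩ := exists_minVal (p := p) (nonempty_of_isPBlock hM hB)
  have hd := factorization_cenCard_defectClass hM hB hg
  have hreg := not_dvd_orderOf_defectClass hM hB hg
  have hadd := blockDefect_add_minVal (p := p) (nonempty_of_isPBlock hM hB)
  set S := ∑ χ ∈ B.toFinset, charDegree (χ : G → ℂ) ^ 2 with hS
  have hS0 : S ≠ 0 := fun h => by
    have := (Finset.sum_eq_zero_iff.1 h) χ (Set.mem_toFinset.2 hχ)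
    exact (charDegree_pos χ).ne' (by simpa using this)
  have hsub := blockCoeff_sub_mem_ideal hM hB hχ hreg hd.ge
  have hunit : ¬ MemLocalIdeal M (centralChar (χ : G → ℂ) g⁻¹ *
      (cenCard g : ℂ) / (Nat.card G : ℂ) * blockCoeff B 1) := fun h => hg.2.1 (by
    have := memLocalIdeal_add hM hsub h
    rwa [sub_add_cancel] at this)
  rw [blockCoeff_one, ← hS, mul_div_assoc, mul_assoc] at hunit
  have h2 := not_ideal_of_mul_not_ideal hM (centralChar_mem_locRing hM χ _) hunit
  rw [div_mul_div_comm, ← Nat.cast_mul, ← Nat.cast_mul] at h2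
  -- lower bound
  have hmem := blockCoeff_mem_locRing hM hB (1 : G)
  set N := (Nat.card G).factorization p
  have hfs : (cenCard g * S).factorization p = blockDefect p B + S.factorization p := by
    rw [Nat.factorization_mul (cenCard_pos g).ne' hS0, Finsupp.add_apply, hd]
  have hfG : (Nat.card G * Nat.card G).factorization p = 2 * N := by
    rw [Nat.factorization_mul Nat.card_pos.ne' Nat.card_pos.ne', Finsupp.add_apply]; omega
  rcases lt_trichotomy (blockDefect p B + S.factorization p) (2 * N) with h | h | h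
  · exfalso
    -- the sum of squares is at least that divisible, by the integrality of the coefficient
    have hge : ∀ ψ ∈ B.toFinset, p ^ (2 * minVal p B) ∣ charDegree (ψ : G → ℂ) ^ 2 := fun ψ hψ => by
      rw [mul_comm 2, pow_mul]
      exact pow_dvd_pow_of_dvd (((Fact.out : p.Prime).pow_dvd_iff_le_factorization
        (charDegree_pos ψ).ne').2 (minVal_le (Set.mem_toFinset.1 hψ))) 2
    have h3 : 2 * minVal p B ≤ S.factorization p :=
      ((Fact.out : p.Prime).pow_dvd_iff_le_factorization hS0).1 (Finset.dvd_sum hge)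
    have hgen := blockCoeff_sub_mem_ideal hM hB hχ hreg hd.ge
    have h4 : MemLocalRing M (((cenCard g * S : ℕ) : ℂ) / (Nat.card G * Nat.card G : ℕ)) := by
      have e : ((cenCard g * S : ℕ) : ℂ) / (Nat.card G * Nat.card G : ℕ) =
          ((ordCompl[p] (Nat.card G) : ℕ) : ℂ)⁻¹ * ∑ ψ ∈ B.toFinset, (sylMult p ψ : ℂ) *
            (((charDegree (ψ : G → ℂ) * cenCard g : ℕ) : ℂ) / (Nat.card G : ℕ)) := by
        have hb := blockCoeff_eq_sum hM (vInt_indVec hM hB) (g := (1 : G))
          (by simpa using hM.1.ne_one)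
        rw [blockCoeff_one, inv_one] at hb
        simp only [centralChar_one_elt, one_mul, cenCard_one] at hb
        rw [Nat.cast_mul, Nat.cast_mul, mul_comm (cenCard g : ℂ) (S : ℂ),
          ← div_mul_div_comm, hS, hb, mul_assoc, Finset.sum_mul]
        congr 1
        refine Finset.sum_congr rfl fun ψ _ => ?_
        push_cast
        field_simp [Char.card_cast_ne_zero (G := G)]
      rw [← mem_locRing hM, e]
      refine mul_mem (ordCompl_card_inv_mem hM) (sum_mem fun ψ hψ => ?_)
      refine mul_mem (natCast_mem _ _) (natCast_div_mem hM Nat.card_pos.ne' (Or.inr ?_))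
      have := minVal_le (p := p) (Set.mem_toFinset.1 hψ)
      rw [factorization_deg_mul_cen]; omega
    have h5 := memLocalIdeal_mul_left hM ((mem_locRing hM).2 h4)
      (natCast_div_mem_ideal hM (Nat.mul_ne_zero (cenCard_pos g).ne' hS0)
        (a := Nat.card G * Nat.card G) (Or.inr (by omega)))
    rw [div_mul_div_comm, mul_comm, div_self] at h5
    · exact natCast_not_ideal hM hM.1.not_dvd_one (by simpa using h5)
    · exact mul_ne_zero (by exact_mod_cast Nat.mul_ne_zero Nat.card_pos.ne' Nat.card_pos.ne')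
        (by exact_mod_cast Nat.mul_ne_zero (cenCard_pos g).ne' hS0)
  · omega
  · exact absurd (natCast_div_mem_ideal hM (Nat.mul_ne_zero Nat.card_pos.ne' Nat.card_pos.ne')
      (Or.inr (by omega))) h2


/-- A character of full `p`-degree is alone in its block. -/
theorem vInt_singleton (χ : IrrCharacter G)
    (h : (Nat.card G).factorization p ≤ (charDegree (χ : G → ℂ)).factorization p) :
    VInt hM (indVec {χ}) := fun g => by
  rw [zc_indVec, blockCoeff, finsum_mem_singleton, apply_one_eq_charDegree, ← mul_assoc,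
    inv_mul_eq_div]
  exact mul_mem (natCast_div_mem hM Nat.card_pos.ne' (Or.inr h))
    (by rw [← χ.2.isCharacter.apply_inv]; exact charVal_mem_locRing hM χ _)

include hM in
theorem blockOf_eq_singleton_of_full (χ : IrrCharacter G)
    (h : (Nat.card G).factorization p ≤ (charDegree (χ : G → ℂ)).factorization p) :
    blockOf M (χ : G → ℂ) = {χ} :=
  Set.Subset.antisymm (blockOf_subset_of_vInt hM (vInt_singleton hM χ h) rfl)
    (Set.singleton_subset_iff.2 (self_mem_blockOf hM χ))

include hM in
theorem dvd_degree_of_singleton_block (χ : IrrCharacter G) (h : VInt hM (indVec {χ})) :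
    p ^ (Nat.card G).factorization p ∣ charDegree (χ : G → ℂ) := by
  classical
  have key := card_mul_blockCoeff hM h (g := 1) (by simpa using hM.1.ne_one)
  rw [blockCoeff, finsum_mem_singleton, conj_apply_one, apply_one_eq_charDegree, ← mul_assoc,
    mul_inv_cancel₀ Char.card_cast_ne_zero, one_mul, Set.toFinset_singleton, Finset.sum_singleton,
    conj_apply_one, apply_one_eq_charDegree, ← mul_assoc] at key
  have h0 : (charDegree (χ : G → ℂ) : ℂ) ≠ 0 := by exact_mod_cast (charDegree_pos χ).ne'
  have := mul_right_cancel₀ h0 key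
  exact ⟨sylMult p χ, by exact_mod_cast this⟩

include hM in
theorem blockOf_eq_singleton_iff (χ : IrrCharacter G) :
    blockOf M (χ : G → ℂ) = {χ} ↔
      (charDegree (χ : G → ℂ)).factorization p = (Nat.card G).factorization p := by
  have hle : (charDegree (χ : G → ℂ)).factorization p ≤ (Nat.card G).factorization p :=
    ((Nat.factorization_le_iff_dvd (charDegree_pos χ).ne' Nat.card_pos.ne').2
      (charDegree_dvd_card χ)) p
  refine ⟨fun h => le_antisymm hle ?_, fun h => blockOf_eq_singleton_of_full hM χ h.ge⟩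
  rw [← (Fact.out : p.Prime).pow_dvd_iff_le_factorization (charDegree_pos χ).ne']
  exact dvd_degree_of_singleton_block hM χ (h ▸ vInt_indVec hM (isPBlock_blockOf χ))

include hM in
theorem blockDefect_eq_zero_iff {B : Set (IrrCharacter G)} (hB : IsPBlock M B) :
    blockDefect p B = 0 ↔
      ∃ χ : IrrCharacter G, B = {χ} ∧
        (charDegree (χ : G → ℂ)).factorization p = (Nat.card G).factorization p := by
  constructor
  · intro h
    obtain ⟨χ, hχ, hmin⟩ := exists_minVal (p := p) (nonempty_of_isPBlock hM hB)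
    have := blockDefect_add_minVal (p := p) (nonempty_of_isPBlock hM hB)
    have hf : (charDegree (χ : G → ℂ)).factorization p = (Nat.card G).factorization p := by omega
    exact ⟨χ, by rw [eq_blockOf_of_mem hM hB hχ, (blockOf_eq_singleton_iff hM χ).2 hf], hf⟩
  · rintro ⟨χ, rfl, hf⟩
    have h1 : minVal p ({χ} : Set (IrrCharacter G)) = (Nat.card G).factorization p := by
      rw [minVal, Set.image_singleton, csInf_singleton, hf]
    rw [blockDefect_eq, h1, Nat.sub_self]

end Cfsg.Lib.Block
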