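import Cfsg.Agent.Lib.Block.Conj
import Cfsg.Agent.Lib.Block.Subsection
import Cfsg.Agent.Lib.Block.BrauerHom
import Cfsg.Agent.Lib.Block.Defect
import Cfsg.Agent.Lib.Char.Clifford
import Cfsg.Agent.Lib.Char.Constituents
import Cfsg.Agent.Lib.Char.Quotient

/-!
# Blocks of normal subgroups: the elementary theory of covering
-/

set_option autoImplicit false
set_option linter.unusedSectionVars false
set_option maxHeartbeats 800000

namespace Cfsg.Lib.Block

open Cfsg
open scoped ComplexConjugate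

universe u

variable {p : ℕ} {M : Ideal AlgInt} {G : Type u} [Group G] [Fintype G]

/-- The average of a function over a conjugation orbit. -/
theorem sum_conj_eq (F : G → ℂ) (g : G) :
    ∑ x : G, F (x⁻¹ * g * x) =
      (Nat.card (Subgroup.centralizer ({g} : Set G)) : ℂ) * ∑ y ∈ Char.classFinset g, F y := by
  classical
  rw [Finset.mul_sum, ← Finset.sum_fiberwise_of_maps_to (s := Finset.univ)
    (t := Char.classFinset g) (g := fun x : G => x⁻¹ * g * x)
    fun x _ => Char.mem_classFinset.2 (isConj_iff.2 ⟨x⁻¹, by simp⟩)]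
  refine Finset.sum_congr rfl fun y hy => ?_
  rw [Finset.sum_congr rfl (g := fun _ => F y) fun x hx => by rw [(Finset.mem_filter.1 hx).2],
    Finset.sum_const, nsmul_eq_mul]
  congr 2
  obtain ⟨c, hc⟩ := isConj_iff.1 (Char.mem_classFinset.1 hy)
  rw [Nat.card_eq_fintype_card, ← Finset.card_univ]
  symm
  refine Finset.card_bij (fun z _ => (z : G) * c⁻¹) (fun z _ => ?_) (fun a _ b _ h => ?_)
    fun x hx => ?_
  · refine Finset.mem_filter.2 ⟨Finset.mem_univ _, ?_⟩
    have hz := Subgroup.mem_centralizer_iff.1 z.2 g rfl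
    rw [← hc, mul_inv_rev, inv_inv]
    have hz' : (z : G)⁻¹ * g * (z : G) = g := by rw [mul_assoc, hz, inv_mul_cancel_left]
    calc c * (z : G)⁻¹ * g * ((z : G) * c⁻¹) = c * ((z : G)⁻¹ * g * (z : G)) * c⁻¹ := by group
      _ = c * g * c⁻¹ := by rw [hz']
  · exact Subtype.ext (mul_right_cancel h)
  · have hx' := (Finset.mem_filter.1 hx).2
    rw [← hc] at hx'
    refine ⟨⟨x * c, ?_⟩, Finset.mem_univ _, by simp⟩
    rw [Subgroup.mem_centralizer_iff]
    intro y hy
    rw [Set.mem_singleton_iff.1 hy]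
    calc g * (x * c) = x * (x⁻¹ * g * x) * c := by group
      _ = x * (c * g * c⁻¹) * c := by rw [hx']
      _ = x * c * g := by group

/-- The central character of an induced character. -/
theorem inducedCentralChar_eq_ind (H : Subgroup G) (ξ : H → ℂ) (g : G) :
    inducedCentralChar H ξ g = centralChar (indFun H ξ) g := by
  classical
  haveI := Fintype.ofFinite H
  rw [inducedCentralChar, finsum_mem_eq_finite_toFinset_sum _ (Set.toFinite _), ← Finset.sum_div,
    centralChar, Char.indFun_apply_one, indFun, sum_conj_eq]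
  have e : ∑ y ∈ Char.classFinset g, extendByZero H ξ y =
      ∑ h ∈ (Set.toFinite {h : H | IsConj g (h : G)}).toFinset, ξ h := by
    rw [← Finset.sum_filter_add_sum_filter_not (Char.classFinset g) (· ∈ H),
      Finset.sum_eq_zero (s := (Char.classFinset g).filter fun y => ¬ y ∈ H)
        fun y hy => Char.extendByZero_of_notMem H ξ (Finset.mem_filter.1 hy).2, add_zero]
    refine (Finset.sum_bij (fun (h : H) _ => (h : G)) (fun h hh => ?_)
      (fun a _ b _ h => Subtype.ext h)
      (fun y hy => ?_) fun h _ => (Char.extendByZero_coe H ξ h).symm).symm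
    · have hh' : h ∈ {h : H | IsConj g (h : G)} := (Set.Finite.mem_toFinset _).1 hh
      exact Finset.mem_filter.2 ⟨Char.mem_classFinset.2 hh', h.2⟩
    · obtain ⟨hy1, hy2⟩ := Finset.mem_filter.1 hy
      exact ⟨⟨y, hy2⟩, (Set.Finite.mem_toFinset _).2 (Char.mem_classFinset.1 hy1), rfl⟩
  rw [e]
  set C := Subgroup.centralizer ({g} : Set G)
  have h1 : (C.index : ℂ) * (Nat.card C : ℂ) = (Nat.card G : ℂ) := by
    rw [← Nat.cast_mul, Subgroup.index_mul_card]
  have h2 : (H.index : ℂ) * (Nat.card H : ℂ) = (Nat.card G : ℂ) := by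
    rw [← Nat.cast_mul, Subgroup.index_mul_card]
  have hH : (Nat.card H : ℂ) ≠ 0 := by exact_mod_cast Nat.card_pos.ne'
  have hI : (H.index : ℂ) ≠ 0 := by exact_mod_cast H.index_ne_zero_of_finite
  generalize ∑ h ∈ (Set.toFinite {h : H | IsConj g (h : G)}).toFinset, ξ h = S
  rw [show (C.index : ℂ) * ((Nat.card H : ℂ)⁻¹ * ((Nat.card C : ℂ) * S)) =
      (C.index : ℂ) * (Nat.card C : ℂ) * (Nat.card H : ℂ)⁻¹ * S by ring, h1, ← h2,
    mul_assoc (H.index : ℂ), mul_inv_cancel₀ hH, mul_one, mul_div_mul_left _ _ hI]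

variable (N : Subgroup G) [hN : N.Normal] [Fintype N]

/-- The conjugate of an irreducible character of a normal subgroup. -/
def twistIrr (g : G) (θ : IrrCharacter N) : IrrCharacter N :=
  compIrr (MulAut.conjNormal g : N ≃* N) θ

theorem twistIrr_apply (g : G) (θ : IrrCharacter N) (n : N) :
    (twistIrr N g θ : N → ℂ) n = (θ : N → ℂ) ⟨g * n * g⁻¹, hN.conj_mem n n.2 g⟩ := rfl

theorem coe_twistIrr (g : G) (θ : IrrCharacter N) :
    (twistIrr N g θ : N → ℂ) = Char.conjTwist N (θ : N → ℂ) g := rfl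

theorem twistIrr_inv (g : G) (θ : IrrCharacter N) : twistIrr N g⁻¹ (twistIrr N g θ) = θ :=
  Subtype.ext (by
    rw [coe_twistIrr, coe_twistIrr, Char.conjTwist_conjTwist]
    simp [Char.conjTwist_one])

theorem sameBlock_twistIrr (g : G) (θ ψ : IrrCharacter N) :
    SameBlock M (twistIrr N g θ : N → ℂ) (twistIrr N g ψ : N → ℂ) ↔
      SameBlock M (θ : N → ℂ) (ψ : N → ℂ) :=
  sameBlock_compIrr _ θ ψ

theorem classInner_twistIrr (χ : IrrCharacter G) (g : G) (θ : IrrCharacter N) :
    classInner (fun n : N => (χ : G → ℂ) n) (twistIrr N g θ : N → ℂ) =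
      classInner (fun n : N => (χ : G → ℂ) n) (θ : N → ℂ) := by
  conv_lhs =>
    rw [coe_twistIrr, ← Char.conjTwist_res N χ.2.isClassFunction g, Char.classInner_conjTwist]

/-- Constituents of the restriction compute the central character. -/
theorem centralChar_eq_of_constituent {χ : IrrCharacter G} {θ : IrrCharacter N}
    (hc : classInner (fun n : N => (χ : G → ℂ) n) (θ : N → ℂ) ≠ 0) (n : N) :
    centralChar (χ : G → ℂ) (n : G) = inducedCentralChar N (θ : N → ℂ) (n : G) := by
  classical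
  rw [inducedCentralChar_eq_ind]
  have h1 := Char.clifford_res N χ.2 θ.2 hc
  have h2 := Char.indFun_res_orbit N (θ : N → ℂ)
  have e1 := congrFun h1 n
  have e2 := congrFun h2 n
  have e3 := congrFun h1 1
  have e4 := congrFun h2 1
  simp only [Pi.smul_apply, smul_eq_mul, OneMemClass.coe_one] at e1 e2 e3 e4
  have hne : ((Nat.card (Char.inertia N (θ : N → ℂ)) : ℂ) / (Nat.card N : ℂ)) ≠ 0 :=
    div_ne_zero (by exact_mod_cast Nat.card_pos.ne') (by exact_mod_cast Nat.card_pos.ne')
  simp only [centralChar]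
  rw [e1, e2, e3, e4, mul_left_comm, mul_div_mul_left _ _ hc,
    mul_left_comm _ (_ / _ : ℂ), mul_div_mul_left _ _ hne]

theorem exists_over (θ : IrrCharacter N) : ∃ χ : IrrCharacter G,
    classInner (fun n : N => (χ : G → ℂ) n) (θ : N → ℂ) ≠ 0 := by
  have hne : indFun N (θ : N → ℂ) 1 ≠ 0 := by
    rw [Char.indFun_apply_one]
    exact mul_ne_zero (by exact_mod_cast N.index_ne_zero_of_finite) θ.2.apply_one_ne_zero
  obtain ⟨χ, hχ⟩ := Char.exists_constituent (Char.isCharacter_indFun N θ.2.isCharacter) hne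
  refine ⟨χ, fun h => hχ ?_⟩
  rw [← Char.classInner_conj_symm, Char.classInner_indFun_right N _ χ.2.isClassFunction, h,
    map_zero]

/-- A character with the central character of `θ` on `N` lies over `θ`. -/
theorem classInner_ne_of_centralChar (χ : IrrCharacter G) (θ : IrrCharacter N)
    (h : ∀ n : N, centralChar (χ : G → ℂ) (n : G) = inducedCentralChar N (θ : N → ℂ) (n : G)) :
    classInner (fun n : N => (χ : G → ℂ) n) (θ : N → ℂ) ≠ 0 := by
  intro h0
  set c : ℂ := indFun N (θ : N → ℂ) 1 / (χ : G → ℂ) 1 with hc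
  have hne : indFun N (θ : N → ℂ) 1 ≠ 0 := by
    rw [Char.indFun_apply_one]
    exact mul_ne_zero (by exact_mod_cast N.index_ne_zero_of_finite) θ.2.apply_one_ne_zero
  have e : (fun n : N => indFun N (θ : N → ℂ) n) = c • fun n : N => (χ : G → ℂ) n := by
    funext n
    have hn := h n
    rw [inducedCentralChar_eq_ind] at hn
    simp only [centralChar, mul_div_assoc] at hn
    have hn' := mul_left_cancel₀ (by exact_mod_cast Subgroup.index_ne_zero_of_finite) hn
    rw [div_eq_div_iff χ.2.apply_one_ne_zero hne] at hn'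
    simp only [Pi.smul_apply, smul_eq_mul, hc]
    rw [div_mul_eq_mul_div, eq_div_iff χ.2.apply_one_ne_zero, ← hn', mul_comm]
  have h1 : classInner (indFun N (θ : N → ℂ)) (indFun N (θ : N → ℂ)) = 0 := by
    rw [Char.classInner_indFun_right N _ (Char.isClassFunction_indFun N _), e,
      Char.classInner_smul_left, h0, mul_zero]
  exact hne (congrFun (Char.eq_zero_of_classInner_self h1) 1)

/-- The union of the conjugates of a block of `N`. -/
def orbitSet (b : Set (IrrCharacter N)) : Set (IrrCharacter N) := {ψ | ∃ g : G, twistIrr N g ψ ∈ b}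

theorem self_subset_orbitSet (b : Set (IrrCharacter N)) : b ⊆ orbitSet N b := fun ψ hψ =>
  ⟨1, by
    rw [show twistIrr N 1 ψ = ψ from Subtype.ext (by rw [coe_twistIrr, Char.conjTwist_one])]
    exact hψ⟩

variable [Fact p.Prime]

/-- Functions supported in `N` take congruent values at congruent characters. -/
theorem vec_sub_mem_of_supported (hM : IsPModular p M) {f : G → ℂ} (hf : IsClassFunction G f)
    (hint : ∀ g, f g ∈ locRing hM) (hsupp : ∀ g, g ∉ N → f g = 0) {χ χ' : IrrCharacter G}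
    (h : ∀ n : N, MemLocalIdeal M (centralChar (χ : G → ℂ) (n : G) -
      centralChar (χ' : G → ℂ) (n : G))) :
    MemLocalIdeal M (vec f χ - vec f χ') := by
  classical
  haveI : Finite (ConjClasses G) := Quotient.finite _
  haveI := Fintype.ofFinite (ConjClasses G)
  rw [sum_mul_char_eq hf, sum_mul_char_eq hf, ← Finset.sum_sub_distrib]
  refine memLocalIdeal_sum hM _ _ fun C _ => ?_
  rw [← mul_sub]
  by_cases hC : C.out ∈ N
  · exact memLocalIdeal_mul_left hM (hint _) (h ⟨_, hC⟩)
  · rw [hsupp _ hC, zero_mul]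
    exact memLocalIdeal_zero hM

/-- Congruent induced central characters only occur for conjugate blocks. -/
theorem exists_twist_mem (hM : IsPModular p M) {b : Set (IrrCharacter N)} (hb : IsPBlock M b)
    {θ ψ : IrrCharacter N} (hθ : θ ∈ b)
    (h : ∀ n : N, MemLocalIdeal M (inducedCentralChar N (θ : N → ℂ) (n : G) -
      inducedCentralChar N (ψ : N → ℂ) (n : G))) :
    ∃ g : G, twistIrr N g ψ ∈ b := by
  classical
  by_contra hcon
  set S := orbitSet N b with hS
  have hclosed : ∀ η ∈ S, blockOf M (η : N → ℂ) ⊆ S := by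
    rintro η ⟨g, hg⟩ η' hη'
    exact ⟨g, mem_of_sameBlock hM hb hg ((sameBlock_twistIrr N g η η').2 hη')⟩
  set f := zc (indVec S) with hf
  have hint : ∀ n, f n ∈ locRing hM := vInt_indVec_closed hM hclosed
  have hinv : ∀ (g : G) (n : N), f (MulAut.conjNormal g n) = f n := by
    intro g n
    simp only [hf, zc]
    congr 1
    refine Fintype.sum_equiv (irrEquiv (MulAut.conjNormal g : N ≃* N)) _ _ fun η => ?_
    have hmem : compIrr (MulAut.conjNormal g : N ≃* N) η ∈ S ↔ η ∈ S := by
      constructor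
      · rintro ⟨x, hx⟩
        refine ⟨g * x, ?_⟩
        convert hx using 1
        refine Subtype.ext (funext fun m => ?_)
        rw [twistIrr_apply, twistIrr_apply, compIrr_apply]
        exact congrArg _ (Subtype.ext (by simp [MulAut.conjNormal_apply, mul_assoc]))
      · rintro ⟨x, hx⟩
        refine ⟨g⁻¹ * x, ?_⟩
        convert hx using 1
        refine Subtype.ext (funext fun m => ?_)
        rw [twistIrr_apply, twistIrr_apply, compIrr_apply]
        exact congrArg _ (Subtype.ext (by simp [MulAut.conjNormal_apply, mul_assoc]))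
    show indVec S η * (η : N → ℂ) 1 * (η : N → ℂ) (MulAut.conjNormal g n)⁻¹ =
      indVec S (compIrr (MulAut.conjNormal g : N ≃* N) η) *
        (compIrr (MulAut.conjNormal g : N ≃* N) η : N → ℂ) 1 *
        (compIrr (MulAut.conjNormal g : N ≃* N) η : N → ℂ) n⁻¹
    simp only [indVec, hmem, compIrr_apply, map_one, map_inv]
  have key : MemLocalIdeal M (vec f θ - vec f ψ) := by
    simp only [vec, Finset.sum_div, ← Finset.sum_sub_distrib]
    haveI : Finite (ConjClasses G) := Quotient.finite _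
    haveI := Fintype.ofFinite (ConjClasses G)
    rw [← Finset.sum_fiberwise Finset.univ fun m : N => ConjClasses.mk (m : G)]
    refine memLocalIdeal_sum hM _ _ fun C _ => ?_
    by_cases hC : ∃ n : N, ConjClasses.mk (n : G) = C
    · obtain ⟨n, rfl⟩ := hC
      have hval : ∀ m : N, ConjClasses.mk (m : G) = ConjClasses.mk (n : G) → f m = f n := by
        intro m hm
        obtain ⟨c, hc⟩ := isConj_iff.1 (ConjClasses.mk_eq_mk_iff_isConj.1 hm)
        rw [← hinv c m]
        exact congrArg f (Subtype.ext hc)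
      have hsum : ∀ η : IrrCharacter N,
          ∑ m ∈ Finset.univ.filter (fun m : N => ConjClasses.mk (m : G) = ConjClasses.mk (n : G)),
            f m * (η : N → ℂ) m / (η : N → ℂ) 1 =
          f n * inducedCentralChar N (η : N → ℂ) (n : G) := fun η => by
        rw [inducedCentralChar, finsum_mem_eq_finite_toFinset_sum _ (Set.toFinite _),
          Finset.mul_sum]
        refine Finset.sum_congr ?_ fun m hm => ?_
        · ext m
          simp only [Finset.mem_filter, Finset.mem_univ, true_and, Set.Finite.mem_toFinset,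
            Set.mem_setOf_eq, ConjClasses.mk_eq_mk_iff_isConj]
          exact isConj_comm
        · rw [hval m (ConjClasses.mk_eq_mk_iff_isConj.2
            (((Set.Finite.mem_toFinset _).1 hm).symm)), mul_div_assoc]
      rw [Finset.sum_sub_distrib, hsum, hsum, ← mul_sub]
      exact memLocalIdeal_mul_left hM (hint n) (h n)
    · rw [Finset.sum_eq_zero fun m hm => absurd ⟨m, (Finset.mem_filter.1 hm).2⟩ hC]
      exact memLocalIdeal_zero hM
  rw [hf, congrFun (vec_zc _) θ, congrFun (vec_zc _) ψ, indVec, indVec,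
    if_pos (self_subset_orbitSet N b hθ), if_neg (show ψ ∉ S from hcon), sub_zero] at key
  exact not_memLocalIdeal_one hM key

/-- Induced central characters are constant on blocks modulo `M`. -/
theorem inducedCentralChar_congr (hM : IsPModular p M) {θ θ' : IrrCharacter N}
    (h : SameBlock M (θ : N → ℂ) (θ' : N → ℂ)) (g : G) :
    MemLocalIdeal M (inducedCentralChar N (θ : N → ℂ) g -
      inducedCentralChar N (θ' : N → ℂ) g) := by
  classical
  set f : N → ℂ := fun m => if IsConj g (m : G) then 1 else 0 with hf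
  have hfc : IsClassFunction N f := fun m x => by
    simp only [hf]
    refine if_congr ?_ rfl rfl
    have hc : IsConj (m : G) ((x * m * x⁻¹ : N) : G) := isConj_iff.2 ⟨x, rfl⟩
    exact ⟨fun h => h.trans hc.symm, fun h => h.trans hc⟩
  have hv := vInt_vec (hM := hM) hfc fun m => by
    simp only [hf]; split_ifs
    exacts [(locRing hM).one_mem, (locRing hM).zero_mem]
  have e : ∀ η : IrrCharacter N, vec f η = inducedCentralChar N (η : N → ℂ) g := fun η => by
    rw [inducedCentralChar, finsum_mem_eq_finite_toFinset_sum _ (Set.toFinite _), vec,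
      Finset.sum_div]
    simp only [hf, ite_mul, one_mul, zero_mul, ite_div, zero_div, ← Finset.sum_filter]
    exact Finset.sum_congr (by ext; simp) fun _ _ => rfl
  rw [← e, ← e]
  exact apply_sub_apply_mem hM hv h

theorem covers_iff (hM : IsPModular p M) {B : Set (IrrCharacter G)} (hB : IsPBlock M B)
    {b : Set (IrrCharacter N)} (hb : IsPBlock M b) :
    (∃ χ ∈ B, ∃ θ ∈ b, classInner (fun n : N => (χ : G → ℂ) n) (θ : N → ℂ) ≠ 0) ↔
      ∀ χ ∈ B, ∀ θ ∈ b, ∀ n : N, MemLocalIdeal M (centralChar (χ : G → ℂ) (n : G) -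
        inducedCentralChar N (θ : N → ℂ) (n : G)) := by
  constructor
  · rintro ⟨χ, hχ, θ, hθ, hc⟩ χ' hχ' θ' hθ' n
    have h1 := sameBlock_of_mem hM hB hχ' hχ (n : G)
    have h2 := inducedCentralChar_congr N hM (sameBlock_of_mem hM hb hθ hθ') (n : G)
    rw [← centralChar_eq_of_constituent N hc n] at h2
    simpa using memLocalIdeal_add hM h1 h2
  · intro h
    obtain ⟨χ, hχ⟩ := nonempty_of_isPBlock hM hB
    obtain ⟨θ, hθ⟩ := nonempty_of_isPBlock hM hb
    obtain ⟨ψ, hψ⟩ := Char.exists_irr_constituent_res N χ.2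
    obtain ⟨g, hg⟩ := exists_twist_mem N hM hb (θ := θ) (ψ := ψ) hθ fun n => by
      rw [← centralChar_eq_of_constituent N hψ n]
      simpa using memLocalIdeal_neg hM (h χ hχ θ hθ n)
    exact ⟨χ, hχ, _, hg, by rwa [classInner_twistIrr]⟩

theorem constituent_conj (hM : IsPModular p M) {B : Set (IrrCharacter G)} (hB : IsPBlock M B)
    {b : Set (IrrCharacter N)} (hb : IsPBlock M b) {χ : IrrCharacter G} (hχ : χ ∈ B)
    {θ : IrrCharacter N} (hθ : θ ∈ b)
    (hc : classInner (fun n : N => (χ : G → ℂ) n) (θ : N → ℂ) ≠ 0) {χ' : IrrCharacter G}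
    (hχ' : χ' ∈ B) {ψ : IrrCharacter N}
    (hψ : classInner (fun n : N => (χ' : G → ℂ) n) (ψ : N → ℂ) ≠ 0) :
    ∃ g : G, twistIrr N g ψ ∈ b :=
  exists_twist_mem N hM hb hθ fun n => by
    rw [← centralChar_eq_of_constituent N hc n, ← centralChar_eq_of_constituent N hψ n]
    exact sameBlock_of_mem hM hB hχ hχ' (n : G)

/-- Characters of a block share their constituents on a normal `p'`-subgroup. -/
theorem constituent_of_sameBlock (hM : IsPModular p M) (hNp : ¬ p ∣ Nat.card N)
    {χ χ' : IrrCharacter G} (h : SameBlock M (χ : G → ℂ) (χ' : G → ℂ)) {θ : IrrCharacter N}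
    (hc : classInner (fun n : N => (χ : G → ℂ) n) (θ : N → ℂ) ≠ 0) :
    classInner (fun n : N => (χ' : G → ℂ) n) (θ : N → ℂ) ≠ 0 := by
  obtain ⟨ψ, hψ⟩ := Char.exists_irr_constituent_res N χ'.2
  obtain ⟨g, hg⟩ := constituent_conj N hM (isPBlock_blockOf χ) (isPBlock_blockOf θ)
    (self_mem_blockOf hM χ) (self_mem_blockOf hM θ) hc h hψ
  rw [blockOf_eq_singleton_of_full hM θ (by rw [Nat.factorization_eq_zero_of_not_dvd hNp]; omega),
    Set.mem_singleton_iff] at hg
  rw [← hg, classInner_twistIrr]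
  exact hψ

/-- A normal subgroup of `p`-power index has one block above each of its blocks. -/
theorem existsUnique_over (hM : IsPModular p M) (hidx : ∃ k : ℕ, N.index = p ^ k)
    {b : Set (IrrCharacter N)} (hb : IsPBlock M b) :
    ∃! B : Set (IrrCharacter G), IsPBlock M B ∧
      ∃ χ ∈ B, ∃ θ ∈ b, classInner (fun n : N => (χ : G → ℂ) n) (θ : N → ℂ) ≠ 0 := by
  classical
  obtain ⟨θ, hθ⟩ := nonempty_of_isPBlock hM hb
  obtain ⟨χ, hχ⟩ := exists_over N θ
  refine ⟨blockOf M (χ : G → ℂ),
    ⟨isPBlock_blockOf χ, χ, self_mem_blockOf hM χ, θ, hθ, hχ⟩, ?_⟩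
  rintro B ⟨hB, χ', hχ', θ', hθ', hc⟩
  set B₀ := blockOf M (χ : G → ℂ) with hB₀
  refine eq_blockOf_of_mem hM hB ?_
  by_contra hcon
  have hnot : χ' ∉ B₀ := fun hmem => hcon (isPBlock_eq_of_mem hM hB (isPBlock_blockOf χ) hχ' hmem ▸
    self_mem_blockOf hM χ)
  have hv := vInt_indVec hM (isPBlock_blockOf (M := M) χ)
  have hsupp : ∀ g, g ∉ N → blockCoeff B₀ g = 0 := fun g hg => by
    refine blockCoeff_eq_zero_of_dvd hM hv ?_
    by_contra hdvd
    obtain ⟨k, hk⟩ := hidx
    refine hg ?_
    rw [← QuotientGroup.eq_one_iff, ← orderOf_eq_one_iff]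
    have h1 : orderOf (g : G ⧸ N) ∣ p ^ k := hk ▸ orderOf_dvd_natCard _
    have h2 : orderOf (g : G ⧸ N) ∣ orderOf g := orderOf_map_dvd (QuotientGroup.mk' N) g
    exact Nat.eq_one_of_dvd_coprimes
      (Nat.Coprime.pow_left k ((Fact.out : p.Prime).coprime_iff_not_dvd.2 hdvd)) h1 h2
  have key := vec_sub_mem_of_supported N hM
    (f := zc (indVec B₀)) (fun g x => zc_conj_invariant _ g x) hv
    (fun g hg => by rw [zc_indVec]; exact hsupp g hg) (χ := χ) (χ' := χ') fun n => by
      rw [centralChar_eq_of_constituent N hχ n, centralChar_eq_of_constituent N hc n]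
      exact inducedCentralChar_congr N hM (sameBlock_of_mem hM hb hθ hθ') (n : G)
  rw [congrFun (vec_zc _) χ, congrFun (vec_zc _) χ', indVec, indVec,
    if_pos (self_mem_blockOf hM χ), if_neg hnot, sub_zero] at key
  exact not_memLocalIdeal_one hM key

/-- A block containing a character trivial on a normal `p'`-subgroup is trivial on it. -/
theorem trivial_of_sameBlock (hM : IsPModular p M) (hNp : ¬ p ∣ Nat.card N)
    {χ ψ : IrrCharacter G} (h : SameBlock M (χ : G → ℂ) (ψ : G → ℂ))
    (hχ : ∀ n ∈ N, (χ : G → ℂ) n = (χ : G → ℂ) 1) :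
    ∀ n ∈ N, (ψ : G → ℂ) n = (ψ : G → ℂ) 1 := by
  have hone : classInner (fun n : N => (χ : G → ℂ) n) (trivChar N : N → ℂ) ≠ 0 := by
    rw [classInner, Finset.sum_congr rfl (g := fun _ => (χ : G → ℂ) 1) fun n _ => by
      rw [hχ n n.2, trivChar_coe]; simp]
    simp [χ.2.apply_one_ne_zero, Char.card_cast_ne_zero]
  have hone' := constituent_of_sameBlock N hM hNp h hone
  have h1 := Char.clifford_res N ψ.2 (trivChar N).2 hone'
  have horb : ∀ φ ∈ Char.twistOrbit N (trivChar N : N → ℂ), φ = fun _ => 1 := by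
    intro φ hφ
    obtain ⟨g, rfl⟩ := (Char.mem_twistOrbit N).1 hφ
    funext m
    simp [Char.conjTwist_apply, trivChar_coe]
  intro n hn
  have e1 := congrFun h1 ⟨n, hn⟩
  have e2 := congrFun h1 1
  simp only [Pi.smul_apply, Finset.sum_apply, smul_eq_mul, OneMemClass.coe_one] at e1 e2
  rw [e1, e2]
  exact congrArg _ (Finset.sum_congr rfl fun φ hφ => by rw [horb φ hφ])

omit [Fintype N] in
/-- The preimage of a class of the quotient computes the central character of an inflation. -/
theorem vec_classPre (χ : IrrCharacter (G ⧸ N)) (η : IrrCharacter G)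
    (hη : (η : G → ℂ) = (χ : G ⧸ N → ℂ) ∘ QuotientGroup.mk) (q : G ⧸ N)
    [DecidablePred fun g : G => IsConj q (g : G ⧸ N)] :
    vec (fun g : G => if IsConj q (g : G ⧸ N) then (1 : ℂ) else 0) η =
      (Nat.card N : ℂ) * centralChar (χ : G ⧸ N → ℂ) q := by
  classical
  haveI := Fintype.ofFinite (G ⧸ N)
  rw [vec, centralChar, ← Char.card_classFinset, ← Char.sum_classFinset χ.2.isClassFunction]
  have h1 : (η : G → ℂ) 1 = (χ : G ⧸ N → ℂ) 1 := congrFun hη 1
  rw [h1, ← mul_div_assoc]
  congr 1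
  rw [← Finset.sum_fiberwise Finset.univ (fun g : G => (g : G ⧸ N)), Finset.mul_sum,
    ← Finset.sum_filter_add_sum_filter_not Finset.univ (fun x : G ⧸ N => IsConj q x),
    Finset.sum_eq_zero (s := Finset.univ.filter fun x : G ⧸ N => ¬ IsConj q x) fun x hx =>
      Finset.sum_eq_zero fun g hg => by
        rw [if_neg, zero_mul]
        rw [(Finset.mem_filter.1 hg).2]
        exact (Finset.mem_filter.1 hx).2, add_zero]
  refine Finset.sum_congr (by ext; simp [Char.mem_classFinset]) fun x hx => ?_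
  rw [Finset.sum_congr rfl (g := fun _ => (χ : G ⧸ N → ℂ) x) fun g hg => by
    have hg' := (Finset.mem_filter.1 hg).2
    rw [congrFun hη g, Function.comp_apply, if_pos (hg'.symm ▸ Char.mem_classFinset.1 hx),
      one_mul]
    exact congrArg _ hg', Finset.sum_const, nsmul_eq_mul]
  congr 2
  induction x using QuotientGroup.induction_on with
  | H c =>
    rw [← Fintype.card_subtype, ← Nat.card_eq_fintype_card]
    refine Nat.card_congr (Equiv.symm
      { toFun := fun n => ⟨c * n, by simp [QuotientGroup.eq]⟩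
        invFun := fun g => ⟨c⁻¹ * g.1, by
          have := g.2
          rw [eq_comm, QuotientGroup.eq] at this
          exact this⟩
        left_inv := fun n => Subtype.ext (inv_mul_cancel_left _ _)
        right_inv := fun g => Subtype.ext (mul_inv_cancel_left _ _) })

/-- Blocks of the quotient by a normal `p'`-subgroup. -/
theorem exists_deflate_sameBlock (hM : IsPModular p M) (hNp : ¬ p ∣ Nat.card N)
    (χ : IrrCharacter (G ⧸ N)) {ψ : IrrCharacter G}
    (hψ : ψ ∈ blockOf M ((χ : G ⧸ N → ℂ) ∘ QuotientGroup.mk)) :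
    ∃ ψ' : IrrCharacter (G ⧸ N), (ψ : G → ℂ) = (ψ' : G ⧸ N → ℂ) ∘ QuotientGroup.mk ∧
      SameBlock M (χ : G ⧸ N → ℂ) (ψ' : G ⧸ N → ℂ) := by
  classical
  let χ₀ : IrrCharacter G := ⟨_, Char.isIrrCharacter_inflate N χ.2⟩
  have h0 : (χ₀ : G → ℂ) = (χ : G ⧸ N → ℂ) ∘ QuotientGroup.mk := rfl
  have hsb : SameBlock M (χ₀ : G → ℂ) (ψ : G → ℂ) := hψ
  have htriv := trivial_of_sameBlock N hM hNp hsb fun n hn => by
    rw [h0, Function.comp_apply, Function.comp_apply, (QuotientGroup.eq_one_iff n).2 hn]; rfl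
  obtain ⟨ψ', hψ', hψe⟩ := Char.exists_deflate_irr N ψ.2 htriv
  have hψf : (ψ : G → ℂ) = ψ' ∘ QuotientGroup.mk := funext fun x => (hψe x).symm
  refine ⟨⟨ψ', hψ'⟩, hψf, fun q => ?_⟩
  have hv := vInt_vec (hM := hM) (f := fun g : G => if IsConj q (g : G ⧸ N) then (1 : ℂ) else 0)
    (fun g x => by
      refine if_congr ?_ rfl rfl
      have hc : IsConj (g : G ⧸ N) ((x * g * x⁻¹ : G) : G ⧸ N) := isConj_iff.2 ⟨x, by simp⟩
      exact ⟨fun h => h.trans hc.symm, fun h => h.trans hc⟩)
    (fun g => by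
      split_ifs
      exacts [(locRing hM).one_mem, (locRing hM).zero_mem])
  have key := apply_sub_apply_mem hM hv hsb
  rw [vec_classPre N χ χ₀ h0 q, vec_classPre N ⟨ψ', hψ'⟩ ψ hψf q, ← mul_sub] at key
  have := memLocalIdeal_mul_left hM (inv_natCast_mem_locRing hM hNp) key
  rwa [← mul_assoc, inv_mul_cancel₀ (by exact_mod_cast Nat.card_pos.ne'), one_mul] at this

/-- The kernel of a block. -/
theorem exists_blockKer (hM : IsPModular p M) {B : Set (IrrCharacter G)} (hB : IsPBlock M B)
    {χ : IrrCharacter G} (hχ : χ ∈ B) :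
    ∃ K : Subgroup G, K.Normal ∧ (K : Set G) = blockKer B ∧ ¬ p ∣ Nat.card K ∧
      (∀ g ∈ K, (χ : G → ℂ) g = (χ : G → ℂ) 1) ∧
      ∀ L : Subgroup G, L.Normal → ¬ p ∣ Nat.card L →
        (∀ g ∈ L, (χ : G → ℂ) g = (χ : G → ℂ) 1) → L ≤ K := by
  classical
  set K := ⨅ ψ : B, Char.charKer ψ.1.2.isCharacter with hK
  have hmem : ∀ g : G, g ∈ K ↔ g ∈ blockKer B := fun g => by
    simp only [hK, Subgroup.mem_iInf, Char.mem_charKer]
    exact ⟨fun h ψ hψ => h ⟨ψ, hψ⟩, fun h ψ => h ψ.1 ψ.2⟩
  refine ⟨K, ⟨fun a ha c => ?_⟩, Set.ext hmem, fun hdvd => ?_, fun g hg => (hmem g).1 hg χ hχ,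
    fun L hL hLp hLχ n hn => (hmem n).2 fun ψ hψ => ?_⟩
  · refine (hmem _).2 fun ψ hψ => ?_
    rw [ψ.2.isClassFunction a c]
    exact (hmem a).1 ha ψ hψ
  · obtain ⟨x, hx⟩ := exists_prime_orderOf_dvd_card' p hdvd
    rw [← Subgroup.orderOf_coe] at hx
    have h1 : ¬ p ∣ orderOf (1 : G) := by
      rw [orderOf_one]; exact (Fact.out : p.Prime).not_dvd_one
    have h := sum_block_mul_conj_eq_zero hM (vInt_indVec hM hB) (g := (x : G)) (h := 1)
      fun h => not_isConj_pPt_of_dvd h1 (by rw [hx]) h.symm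
    rw [finsum_mem_eq_finite_toFinset_sum _ (Set.toFinite B), Finset.sum_congr rfl
      (g := fun ψ : IrrCharacter G => ((charDegree (ψ : G → ℂ) * charDegree (ψ : G → ℂ) : ℕ) : ℂ))
      fun ψ hψ => by
        rw [(hmem _).1 x.2 ψ ((Set.Finite.mem_toFinset _).1 hψ), conj_apply_one,
          apply_one_eq_charDegree ψ, Nat.cast_mul],
      ← Nat.cast_sum, Nat.cast_eq_zero, Finset.sum_eq_zero_iff] at h
    exact (Nat.mul_pos (charDegree_pos χ) (charDegree_pos χ)).ne'
      (h χ ((Set.Finite.mem_toFinset _).2 hχ))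
  · haveI := hL
    haveI := Fintype.ofFinite L
    exact trivial_of_sameBlock L hM hLp (sameBlock_of_mem hM hB hχ hψ) hLχ n hn

end Cfsg.Lib.Block
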