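import Cfsg.Agent.Lib.Block.PrincipalFree

/-!
# The characters of the principal block with free inertial quotient
-/

set_option autoImplicit false
set_option linter.unusedSectionVars false
set_option maxHeartbeats 1600000

namespace Cfsg.Lib.Block

open Cfsg
open scoped ComplexConjugate

universe u

variable {p : ℕ} {M : Ideal AlgInt} {G : Type u} [Group G] [Fintype G] [Fact p.Prime]

noncomputable local instance (priority := high) fintypeSubgroupPrincipalFreeShape (H : Subgroup G) :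
    Fintype H := Fintype.ofFinite H

/-- The nonexceptional characters `n` and the exceptional ones `y` of the principal block. -/
structure FreeShape (M : Ideal AlgInt) (P : Sylow p G) [IsMulCommutative (P : Subgroup G)]
    (m : ℕ) (y : HomOrb P → IrrCharacter G)
    (n : IrrCharacter G → ℤ) (δ w : ℤ) : Prop where
  inj : Function.Injective y
  mem : ∀ j, y j ∈ principalBlock M G
  sign : δ = 1 ∨ δ = -1
  coeff : ∀ (ψ : {ψ : (P : Subgroup G) →* ℂˣ // ψ ≠ 1}) (j : HomOrb P),
    homMult P ψ.1 (y j) = ((w + if (Quotient.mk _ ψ : HomOrb P) = j then δ else 0 : ℤ) : ℂ)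
  coeffX : ∀ χ ∈ principalBlock M G, χ ∉ Set.range y →
    ∀ ψ : {ψ : (P : Subgroup G) →* ℂˣ // ψ ≠ 1}, homMult P ψ.1 χ = (n χ : ℂ)
  regEq : ∀ i j g, IsPRegular p g → (y i : G → ℂ) g = (y j : G → ℂ) g
  ne_zero : ∀ χ ∈ principalBlock M G, χ ∉ Set.range y → n χ ≠ 0
  card_le : Nat.card ↑(principalBlock M G \ Set.range y) ≤ m

variable (hM : IsPModular p M) {P : Sylow p G} [IsMulCommutative (P : Subgroup G)]
  (hfree : FreeAction P) {m : ℕ}
  (hCN : (Subgroup.centralizer ((P : Subgroup G) : Set G)).relIndex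
    (Subgroup.normalizer ((P : Subgroup G) : Set G)) = m)

include hM in
theorem blockDefect_principal_pos (hP : Nat.card (P : Subgroup G) ≠ 1) :
    0 < blockDefect p (principalBlock M G) := by
  refine Nat.pos_of_ne_zero fun h => hP ?_
  rw [card_defectGroup hM isPBlock_principal (isDefectGroup_principal_sylow hM P), h, pow_zero]

include hM hfree hCN in
theorem exists_freeShape (hP : Nat.card (P : Subgroup G) ≠ 1) (h2 : 2 ≤ Fintype.card (HomOrb P)) :
    ∃ y n δ w, FreeShape M P m y n δ w := by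
  classical
  have V := cycVectors_homTau hM hfree hCN
  obtain ⟨y, n, δ, w, hinj, hyB, hδ, hY, hX, -, hreg⟩ := V.shape h2
  have hB : IsPBlock M (principalBlock M G) := isPBlock_principal
  have hd := blockDefect_principal_pos hM hP
  have hrep : ∀ (ψ : {ψ : (P : Subgroup G) →* ℂˣ // ψ ≠ 1}) (χ : IrrCharacter G),
      χ ∈ principalBlock M G →
        homMult P ψ.1 χ = classInner (homTau P M (Quotient.mk _ ψ)) (χ : G → ℂ) := fun ψ χ hχ => by
    rw [classInner_homTau, if_pos hχ]
    exact homMult_conjHom (ConjHom.symm (Quotient.mk_out (s := homSetoid P) ψ)) χ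
  refine ⟨y, n, δ, w, hinj, hyB, hδ, fun ψ j => by rw [hrep ψ _ (hyB j), hY],
    fun χ hχ hn ψ => by rw [hrep ψ χ hχ, hX χ hn], hreg, fun χ hχ hn h0 => ?_, ?_⟩
  · obtain ⟨i, hi⟩ := V.exists_ne_zero hM hB hd hχ
    exact hi (by rw [hX χ hn, h0, Int.cast_zero])
  · have h1 := V.rank_add hM hB
    haveI : Nonempty (HomOrb P) := Fintype.card_pos_iff.1 (by omega)
    have hle := (V.rank_le hM hB hd inferInstance).1
    have hsub : Set.range y ⊆ principalBlock M G := by rintro _ ⟨j, rfl⟩; exact hyB j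
    rw [Nat.card_coe_set_eq, Set.ncard_sdiff hsub, Set.ncard_range_of_injective hinj,
      ← Nat.card_coe_set_eq, ← h1, Nat.card_eq_fintype_card]
    omega

namespace FreeShape

variable {y : HomOrb P → IrrCharacter G} {n : IrrCharacter G → ℤ} {δ w : ℤ}
  (S : FreeShape M P m y n δ w)

include S

include hM in
theorem triv_not_range (h2 : 2 ≤ Fintype.card (HomOrb P)) : trivChar G ∉ Set.range y := by
  rintro ⟨j, hj⟩
  obtain ⟨i, hi⟩ := Fintype.exists_ne_of_one_lt_card (by omega : 1 < Fintype.card (HomOrb P)) j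
  induction i using Quotient.inductionOn with
  | h ψ =>
    induction j using Quotient.inductionOn with
    | h φ =>
      have e1 := S.coeff ψ (Quotient.mk _ φ)
      have e2 := S.coeff φ (Quotient.mk _ φ)
      rw [if_neg hi, hj, homMult_trivChar P ψ.2] at e1
      rw [if_pos rfl, hj, homMult_trivChar P φ.2] at e2
      have h1 : w + 0 = -1 := by exact_mod_cast e1.symm
      have h2' : w + δ = -1 := by exact_mod_cast e2.symm
      rcases S.sign with h | h <;> omega

include hM in
theorem n_triv (h2 : 2 ≤ Fintype.card (HomOrb P)) : n (trivChar G) = -1 := by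
  obtain ⟨j⟩ : Nonempty (HomOrb P) := Fintype.card_pos_iff.1 (by omega)
  induction j using Quotient.inductionOn with
  | h ψ =>
    have h := S.coeffX _ (trivChar_mem_principal hM) (S.triv_not_range hM h2) ψ
    rw [homMult_trivChar P ψ.2] at h
    exact_mod_cast h.symm

omit S in
theorem apply_eq_sum_homMult (χ : IrrCharacter G) {v : (P : Subgroup G)} (hv : v ≠ 1)
    [DecidablePred fun ψ : (P : Subgroup G) →* ℂˣ => ψ ≠ 1] :
    (χ : G → ℂ) v = ∑ ψ ∈ Finset.univ.filter (fun ψ : (P : Subgroup G) →* ℂˣ => ψ ≠ 1),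
      homMult P ψ χ * (ψ v : ℂ) := by
  rw [apply_eq_sum_diff (sylow_comm P) (fun a : (P : Subgroup G) => (χ : G → ℂ) a) hv]
  exact Finset.sum_congr (by ext; simp) fun _ _ => rfl

omit S in
theorem sum_nontrivial {v : (P : Subgroup G)} (hv : v ≠ 1)
    [DecidablePred fun ψ : (P : Subgroup G) →* ℂˣ => ψ ≠ 1] :
    ∑ ψ ∈ Finset.univ.filter (fun ψ : (P : Subgroup G) →* ℂˣ => ψ ≠ 1), (ψ v : ℂ) = -1 := by
  have h := hom_sum_eq_zero (sylow_comm P) hv
  rw [← Finset.sum_filter_add_sum_filter_not Finset.univ (fun ψ : (P : Subgroup G) →* ℂˣ => ψ ≠ 1),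
    show (Finset.univ.filter fun ψ : (P : Subgroup G) →* ℂˣ => ¬ ψ ≠ 1) = {1} by ext; simp,
    Finset.sum_singleton] at h
  simp only [MonoidHom.one_apply, Units.val_one] at h
  linear_combination h

open Classical in
include hM hfree in
theorem value_X {χ : IrrCharacter G} (hχ : χ ∈ principalBlock M G) (hn : χ ∉ Set.range y)
    {z u : G} (hz : IsPPart p z u) (hu : u ∈ (P : Subgroup G)) (hu1 : u ≠ 1) :
    (χ : G → ℂ) z = ((-n χ : ℤ) : ℂ) := by
  have hv : (⟨u, hu⟩ : (P : Subgroup G)) ≠ 1 := fun h => hu1 (congrArg Subtype.val h)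
  rw [principal_value_pPart hM hfree hχ hz hu hu1,
    show (χ : G → ℂ) u = (χ : G → ℂ) ((⟨u, hu⟩ : (P : Subgroup G)) : G) from rfl,
    apply_eq_sum_homMult χ hv, Finset.sum_congr rfl fun ψ hψ => by
      rw [S.coeffX χ hχ hn ⟨ψ, (Finset.mem_filter.1 hψ).2⟩], ← Finset.mul_sum, sum_nontrivial hv]
  push_cast
  ring

open Classical in
include hM hfree in
theorem value_Y (ψ : {ψ : (P : Subgroup G) →* ℂˣ // ψ ≠ 1}) {z : G} {v : (P : Subgroup G)}
    (hz : IsPPart p z (v : G)) (hv : (v : G) ≠ 1) :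
    (y (Quotient.mk _ ψ) : G → ℂ) z =
      ((-w : ℤ) : ℂ) + (δ : ℂ) * ∑ᶠ φ ∈ {φ | ConjHom P ψ.1 φ}, ((φ v : ℂˣ) : ℂ) := by
  have hv' : v ≠ 1 := fun h => hv (by rw [h]; rfl)
  rw [principal_value_pPart hM hfree (S.mem _) hz v.2 hv, apply_eq_sum_homMult _ hv',
    finsum_mem_eq_toFinset_sum]
  have hterm : ∀ φ ∈ Finset.univ.filter (fun φ : (P : Subgroup G) →* ℂˣ => φ ≠ 1),
      homMult P φ (y (Quotient.mk _ ψ)) * (φ v : ℂ) =
        (w : ℂ) * (φ v : ℂ) + if ConjHom P ψ.1 φ then (δ : ℂ) * (φ v : ℂ) else 0 := by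
    intro φ hφ
    have hiff : (Quotient.mk _ ⟨φ, (Finset.mem_filter.1 hφ).2⟩ : HomOrb P) = Quotient.mk _ ψ ↔
        ConjHom P ψ.1 φ := Quotient.eq.trans ⟨ConjHom.symm, ConjHom.symm⟩
    rw [S.coeff ⟨φ, (Finset.mem_filter.1 hφ).2⟩]
    simp only [hiff]
    split_ifs <;> push_cast <;> ring
  rw [Finset.sum_congr rfl hterm, Finset.sum_add_distrib, ← Finset.mul_sum, sum_nontrivial hv',
    ← Finset.sum_filter, Finset.filter_filter, ← Finset.mul_sum,
    show (Finset.univ.filter fun φ : (P : Subgroup G) →* ℂˣ => φ ≠ 1 ∧ ConjHom P ψ.1 φ) =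
      {φ | ConjHom P ψ.1 φ}.toFinset from Finset.ext fun φ => by
        simp only [Finset.mem_filter, Finset.mem_univ, true_and, Set.mem_toFinset,
          Set.mem_ofPred_eq]
        exact ⟨And.right, fun h => ⟨h.ne_one ψ.2, h⟩⟩]
  push_cast
  ring

open Classical in
include hM hfree hCN in
theorem norm_eq (h2 : 2 ≤ Fintype.card (HomOrb P)) :
    (-w - δ) ^ 2 + ((Fintype.card (HomOrb P) : ℤ) - 1) * (-w) ^ 2 +
      ∑ χ ∈ (principalBlock M G \ Set.range y).toFinset, (-n χ) ^ 2 = (m : ℤ) + 1 := by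
  obtain ⟨j₀⟩ : Nonempty (HomOrb P) := Fintype.card_pos_iff.1 (by omega)
  induction j₀ using Quotient.inductionOn with
  | h ψ =>
    have h := sum_homMult_mul hM hfree hCN ψ.2 ψ.2
    rw [if_pos (conjHom_refl P ψ.1)] at h
    have hset : (principalBlock M G).toFinset =
        (principalBlock M G \ Set.range y).toFinset ∪ Finset.univ.image y := by
      ext χ
      simp only [Set.mem_toFinset, Finset.mem_union, Set.mem_sdiff, Finset.mem_image,
        Finset.mem_univ, true_and, Set.mem_range]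
      refine ⟨fun hχ => ?_, fun hχ => hχ.elim And.left fun ⟨j, hj⟩ => hj ▸ S.mem j⟩
      by_cases hr : ∃ j, y j = χ
      · exact Or.inr hr
      · exact Or.inl ⟨hχ, hr⟩
    rw [hset, Finset.sum_union (Finset.disjoint_left.2 fun χ h1 h2' => by
      obtain ⟨j, -, rfl⟩ := Finset.mem_image.1 h2'
      exact (Set.mem_toFinset.1 h1).2 ⟨j, rfl⟩), Finset.sum_image fun a _ b _ h => S.inj h,
      Finset.sum_congr rfl (g := fun χ => (((-n χ) ^ 2 : ℤ) : ℂ)) (fun χ hχ => by
        rw [S.coeffX χ (Set.mem_toFinset.1 hχ).1 (Set.mem_toFinset.1 hχ).2]; push_cast; ring),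
      Finset.sum_congr rfl (g := fun j => (((w ^ 2 : ℤ) : ℂ) +
        if (Quotient.mk _ ψ : HomOrb P) = j then ((δ ^ 2 + 2 * w * δ : ℤ) : ℂ) else 0))
        (fun j _ => by rw [S.coeff]; split_ifs <;> push_cast <;> ring),
      Finset.sum_add_distrib, Finset.sum_const, Finset.card_univ, nsmul_eq_mul,
      Finset.sum_ite_eq, if_pos (Finset.mem_univ _), ← Int.cast_sum] at h
    have h' : ∑ χ ∈ (principalBlock M G \ Set.range y).toFinset, (-n χ) ^ 2 +
        ((Fintype.card (HomOrb P) : ℤ) * w ^ 2 + (δ ^ 2 + 2 * w * δ)) = (m : ℤ) + 1 := by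
      exact_mod_cast h
    linear_combination h'

open Classical in
include hM hfree hCN in
theorem relation (j : HomOrb P) {g : G} (hg : IsPRegular p g) :
    (((Fintype.card (HomOrb P) : ℕ) : ℂ) * ((-w : ℤ) : ℂ) - (δ : ℂ)) * (y j : G → ℂ) g +
      ∑ χ ∈ (principalBlock M G \ Set.range y).toFinset, ((-n χ : ℤ) : ℂ) * (χ : G → ℂ) g = 0 := by
  induction j using Quotient.inductionOn with
  | h ψ =>
    have h := (cycVectors_homTau hM hfree hCN).regular (Quotient.mk _ ψ) g hg
    have hψ : ∀ χ, homMult P (Quotient.mk (homSetoid P) ψ).out.1 χ = homMult P ψ.1 χ :=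
      homMult_conjHom (Quotient.mk_out (s := homSetoid P) ψ)
    have hset : (principalBlock M G).toFinset =
        (principalBlock M G \ Set.range y).toFinset ∪ Finset.univ.image y := by
      ext χ
      simp only [Set.mem_toFinset, Finset.mem_union, Set.mem_sdiff, Finset.mem_image,
        Finset.mem_univ, true_and, Set.mem_range]
      refine ⟨fun hχ => ?_, fun hχ => hχ.elim And.left fun ⟨j, hj⟩ => hj ▸ S.mem j⟩
      by_cases hr : ∃ j, y j = χ
      · exact Or.inr hr
      · exact Or.inl ⟨hχ, hr⟩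
    rw [homTau, Finset.sum_congr (s₂ := (principalBlock M G).toFinset) (by ext; simp)
      fun χ _ => by rw [hψ χ]] at h
    rw [hset, Finset.sum_union (Finset.disjoint_left.2 fun χ h1 h2' => by
      obtain ⟨j, -, rfl⟩ := Finset.mem_image.1 h2'
      exact (Set.mem_toFinset.1 h1).2 ⟨j, rfl⟩), Finset.sum_image fun a _ b _ h => S.inj h,
      Finset.sum_congr rfl (g := fun χ : IrrCharacter G => -(((-n χ : ℤ) : ℂ) * (χ : G → ℂ) g))
        (fun χ hχ => by
          rw [S.coeffX χ (Set.mem_toFinset.1 hχ).1 (Set.mem_toFinset.1 hχ).2]; push_cast; ring),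
      Finset.sum_congr rfl (g := fun i => ((w : ℂ) * (y (Quotient.mk _ ψ) : G → ℂ) g) +
        if (Quotient.mk _ ψ : HomOrb P) = i then (δ : ℂ) * (y (Quotient.mk _ ψ) : G → ℂ) g else 0)
        (fun i _ => by
          rw [S.coeff, S.regEq i (Quotient.mk _ ψ) g hg]; split_ifs <;> push_cast <;> ring),
      Finset.sum_add_distrib, Finset.sum_const, Finset.card_univ, nsmul_eq_mul,
      Finset.sum_ite_eq, if_pos (Finset.mem_univ _), Finset.sum_neg_distrib] at h
    push_cast at h ⊢
    linear_combination -h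

end FreeShape

end Cfsg.Lib.Block
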