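import Cfsg.Agent.Lib.Block.CyclicStructure
import Cfsg.Agent.Lib.Block.Correspondence

/-!
# Consequences of the structure of blocks with cyclic defect groups
-/

set_option autoImplicit false
set_option linter.unusedSectionVars false
set_option maxHeartbeats 1000000

namespace Cfsg.Lib.Block

open Cfsg

universe u

noncomputable local instance (priority := high) fintypeSubgroupCyclicStructureApps {A : Type u}
    [Group A] [Fintype A] (H : Subgroup A) : Fintype H := Fintype.ofFinite H

local notation "C[" P "]" => Subgroup.centralizer (SetLike.coe P)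

variable {p : ℕ} [Fact p.Prime] {M : Ideal AlgInt} {G : Type u} [Group G] [Fintype G]

/-- Stabilizing a block, said with all conjugates. -/
theorem stabilizesBlock_iff_forall_cyclicStructureApps {K : Subgroup G} {f : Set (IrrCharacter K)} {g : G}
    (hg : g ∈ Subgroup.normalizer (K : Set G)) :
    (∀ θ ∈ f, ∀ θ' : IrrCharacter K, (∀ k k' : K, (k' : G) = g * k * g⁻¹ →
      (θ' : K → ℂ) k' = (θ : K → ℂ) k) → θ' ∈ f) ↔ StabilizesBlock K f g := by
  set hm := conjMaps_normalizer hg
  constructor
  · intro h
    refine ⟨hg, fun χ hχ => ⟨compIrr (conjIso hm).symm χ, h χ hχ _ ?_, ?_⟩⟩ <;>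
    · intro k k' hk
      rw [compIrr_apply]
      exact congrArg (χ : K → ℂ) ((conjIso hm).symm_apply_eq.2 (Subtype.ext hk))
  · rintro ⟨-, h⟩ θ hθ θ' hθ'
    obtain ⟨χ', hχ', hc⟩ := h θ hθ
    have e : θ' = χ' := Subtype.ext (funext fun k' => by
      have h1 : (k' : G) = g * (((conjIso hm).symm k' : K) : G) * g⁻¹ :=
        (congrArg Subtype.val ((conjIso hm).apply_symm_apply k')).symm
      rw [hθ' _ _ h1, hc _ _ h1])
    exact e ▸ hχ'

variable (hM : IsPModular p M) {B : Set (IrrCharacter G)} {P : Subgroup G}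

include hM in
/-- A block with cyclic defect group is nilpotent exactly when it has rank one. -/
theorem cyclic_nilpotent_iff (hB : IsPBlock M B) (hD : IsDefectGroup p M B P)
    (hcyc : IsCyclic P) : IsNilpotentBlock p M B ↔ blockRank p B = 1 := by
  classical
  have hab := comm_of_isCyclic hcyc
  refine ⟨fun h => (rank_one_of_nilpotent_abelian hM h hD hab).1, fun h1 => ?_⟩
  obtain ⟨c, hmax⟩ := exists_pair_at_defect hM hB hD
  have hc : IsInducedBlock M C[P] c B :=
    isInducedBlock_of_isBrauerPairOf hM (le_centralizer_of_abelian hab le_rfl) hmax.1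
  refine (nilpotent_iff_inertial hM hab hmax).2 fun x hxN hxS => ?_
  rcases eq_or_ne P ⊥ with rfl | hP
  · exact Subgroup.mem_centralizer_iff.2 fun y hy => by
      rw [Subgroup.mem_bot.1 hy, one_mul, mul_one]
  let T : Subgroup G := Subgroup.normalizer (P : Set G) ⊓ invStab (indVec c)
  have hT : ∀ y : G, y ∈ T ↔ y ∈ Subgroup.normalizer (P : Set G) ∧
      StabilizesBlock C[P] c y := fun y => by
    refine and_congr_right fun hy => ?_
    rw [stabilizesBlock_iff_coeff (mem_normalizer_centralizer hy), ← extF_indVec]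
    rfl
  rw [cyclic_rank hM hB hD hcyc hc hT hP, Subgroup.relIndex_eq_one] at h1
  exact h1 ((hT x).2 ⟨hxN, hxS⟩)

end Cfsg.Lib.Block
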