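import Cfsg.Agent.Lib.Block.FreeCount
import Cfsg.Agent.Lib.Block.CyclicStructureApps

/-!
# Two-blocks whose abelian defect group has three involutions

An automorphism of odd order fixing one involution is trivial, so the inertial quotient acts freely
and has order one or three.
-/

set_option autoImplicit false
set_option linter.unusedSectionVars false
set_option maxHeartbeats 800000

namespace Cfsg.Lib.Block

open Cfsg Cfsg.Lib.Char

universe u

noncomputable local instance (priority := high) fintypeSubgroupHomocyclicTwo {A : Type u}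
    [Group A] [Fintype A] (H : Subgroup A) : Fintype H := Fintype.ofFinite H

local notation "C[" Q "]" => Subgroup.centralizer (SetLike.coe Q)

/-- An automorphism of odd order fixing the involutions of an abelian two-group is trivial. -/
theorem aut_eq_one_of_fix_involutions {A : Type u} [CommGroup A] (hA : IsPGroup 2 A)
    (σ : MulAut A) {e : ℕ} (he : Odd e) (hσ : σ ^ e = 1) (h : ∀ z : A, z ^ 2 = 1 → σ z = z) :
    σ = 1 := by
  have key : ∀ k : ℕ, ∀ y : A, y ^ 2 ^ k = 1 → σ y = y := by
    intro k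
    induction k with
    | zero => intro y hy; rw [pow_zero, pow_one] at hy; rw [hy, map_one]
    | succ k ih =>
      intro y hy
      have hy2 : σ (y ^ 2) = y ^ 2 := ih _ (by rw [← pow_mul, ← pow_succ', hy])
      obtain ⟨z, hz⟩ : ∃ z, z = σ y * y⁻¹ := ⟨_, rfl⟩
      have hσy : σ y = z * y := by rw [hz, inv_mul_cancel_right]
      have hz2 : z ^ 2 = 1 := by
        rw [hz, mul_pow, ← map_pow, hy2, inv_pow, mul_inv_cancel]
      have hj : ∀ j : ℕ, (σ ^ j) y = z ^ j * y := by
        intro j
        induction j with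
        | zero => simp
        | succ j ihj =>
          rw [pow_succ', MulAut.mul_apply, ihj, map_mul, map_pow, h z hz2, hσy, pow_succ, mul_assoc]
      have h1 := hj e
      rw [hσ, MulAut.one_apply, right_eq_mul] at h1
      obtain ⟨j, rfl⟩ := he
      rw [pow_succ, pow_mul, hz2, one_pow, one_mul] at h1
      rw [hσy, h1, one_mul]
  refine MulEquiv.ext fun y => ?_
  obtain ⟨k, hk⟩ := hA y
  exact key k y hk

theorem natCard_two_torsion_zmod {n : ℕ} [NeZero n] :
    Nat.card {a : ZMod n // a + a = 0} ≤ 2 := by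
  have h : ∀ a : ZMod n, a + a = 0 → a.val = 0 ∨ 2 * a.val = n := fun a ha => by
    have h1 := congrArg ZMod.val ha
    rw [ZMod.val_add, ZMod.val_zero] at h1
    obtain ⟨k, hk⟩ := Nat.dvd_of_mod_eq_zero h1
    have h2 := ZMod.val_lt a
    have hk2 : k < 2 := by
      by_contra hk2
      have : n * 2 ≤ n * k := Nat.mul_le_mul_left n (by omega)
      omega
    rcases (by omega : k = 0 ∨ k = 1) with rfl | rfl <;> omega
  refine (Nat.card_le_card_of_injective (fun a => decide (a.1.val = 0)) ?_).trans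
    (by simp [Nat.card_eq_fintype_card])
  intro a b hab
  refine Subtype.ext (ZMod.val_injective n ?_)
  have hn := NeZero.ne n
  rcases h a.1 a.2 with ha | ha <;> rcases h b.1 b.2 with hb | hb <;>
    simp only [decide_eq_decide] at hab <;> omega

/-- A group of odd index over the centralizer normalizing an abelian two-group with at most three
involutions acts freely on it, with at most three cosets. -/
theorem free_three_involutions {G : Type u} [Group G] [Fintype G] {D T : Subgroup G}
    (hTN : T ≤ Subgroup.normalizer (D : Set G))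
    (hab : ∀ x ∈ D, ∀ y ∈ D, x * y = y * x) (hDp : IsPGroup 2 D) (hD1 : D ≠ ⊥)
    (hodd : Odd ((C[D]).relIndex T)) (hinv : Nat.card {x : D // x ^ 2 = 1} ≤ 4) :
    (∀ g ∈ T, ∀ x ∈ D, x ≠ 1 → g * x * g⁻¹ = x → g ∈ C[D]) ∧ (C[D]).relIndex T ≤ 3 := by
  classical
  letI : CommGroup D :=
    { (inferInstance : Group D) with mul_comm := fun a b => Subtype.ext (hab _ a.2 _ b.2) }
  haveI : ((C[D]).subgroupOf T).Normal := Subgroup.normal_subgroupOf_of_le_normalizer
    fun y hy => mem_normalizer_centralizer (hTN hy)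
  have hnorm : ∀ t : T, (t : G) ∈ Subgroup.normalizer (D : Set G) := fun t => hTN t.2
  let tw : T → MulAut D := fun t => D.normalizerMonoidHom ⟨t, hnorm t⟩
  have htw : ∀ (t : T) (y : D), ((tw t y : D) : G) = (t : G) * (y : G) * (t : G)⁻¹ := fun _ _ => rfl
  have htwpow : ∀ (t : T) (j : ℕ), tw (t ^ j) = tw t ^ j := fun t j => by
    show D.normalizerMonoidHom _ = D.normalizerMonoidHom _ ^ j
    rw [← map_pow]
    rfl
  have hker : ∀ t : T, tw t = 1 → (t : G) ∈ C[D] := fun t h =>
    Subgroup.mem_centralizer_iff.2 fun y hy => by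
      have h1 : (t : G) * y * (t : G)⁻¹ = y :=
        congrArg Subtype.val (DFunLike.congr_fun h (⟨y, hy⟩ : D))
      exact (mul_inv_eq_iff_eq_mul.1 h1).symm
  have hpow : ∀ t : T, tw t ^ (C[D]).relIndex T = 1 := fun t => by
    rw [← htwpow]
    have h6 : ((t : T) : T ⧸ (C[D]).subgroupOf T) ^ (C[D]).relIndex T = 1 := pow_card_eq_one'
    rw [← QuotientGroup.mk_pow, QuotientGroup.eq_one_iff, Subgroup.mem_subgroupOf] at h6
    refine MulEquiv.ext fun y => Subtype.ext ?_
    rw [htw, ← Subgroup.mem_centralizer_iff.1 h6 _ y.2, mul_inv_cancel_right]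
    rfl
  -- fixing an involution
  have hfix1 : ∀ (t : T) (x : D), x ^ 2 = 1 → x ≠ 1 → tw t x = x → (t : G) ∈ C[D] := by
    intro t x hx2 hx1 hfx
    have hsq : ∀ y : D, y ^ 2 = 1 → (tw t ^ 2) y = y := by
      intro y hy
      obtain ⟨σ, hσ⟩ : ∃ σ, σ = tw t := ⟨_, rfl⟩
      rw [← hσ] at hfx ⊢
      rw [pow_two, MulAut.mul_apply]
      by_cases hy1 : y = 1
      · rw [hy1, map_one, map_one]
      by_cases hyx : y = x
      · rw [hyx, hfx, hfx]
      by_contra hne
      have h1 : σ y ≠ 1 := fun h => hy1 (σ.injective (h.trans (map_one σ).symm))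
      have h1' : σ (σ y) ≠ 1 := fun h => h1 (σ.injective (h.trans (map_one σ).symm))
      have h2 : σ y ≠ x := fun h => hyx (σ.injective (h.trans hfx.symm))
      have h2' : σ (σ y) ≠ x := fun h => h2 (σ.injective (h.trans hfx.symm))
      have h3 : σ y ≠ y := fun h => hne (by rw [h, h])
      have h4 : σ (σ y) ≠ σ y := fun h => h3 (σ.injective h)
      have hsub : ({1, x, y, σ y, σ (σ y)} : Finset D) ⊆
          Finset.univ.filter fun z : D => z ^ 2 = 1 := by
        intro z hz
        simp only [Finset.mem_insert, Finset.mem_singleton] at hz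
        refine Finset.mem_filter.2 ⟨Finset.mem_univ _, ?_⟩
        rcases hz with rfl | rfl | rfl | rfl | rfl
        · exact one_pow 2
        · exact hx2
        · exact hy
        · rw [← map_pow, hy, map_one]
        · rw [← map_pow, ← map_pow, hy, map_one, map_one]
      have hcard := Finset.card_le_card hsub
      rw [Finset.card_insert_of_notMem (by simp [Ne.symm hx1, Ne.symm hy1, Ne.symm h1, Ne.symm h1']),
        Finset.card_insert_of_notMem (by simp [Ne.symm hyx, Ne.symm h2, Ne.symm h2']),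
        Finset.card_insert_of_notMem (by simp [Ne.symm h3, Ne.symm hne]),
        Finset.card_insert_of_notMem (by simp [Ne.symm h4]), Finset.card_singleton,
        ← Fintype.card_subtype, ← Nat.card_eq_fintype_card] at hcard
      omega
    have h2 : tw t ^ 2 = 1 := aut_eq_one_of_fix_involutions hDp _ hodd
      (by rw [← pow_mul, mul_comm, pow_mul, hpow, one_pow]) hsq
    refine hker t ?_
    obtain ⟨j, hj⟩ := hodd
    have h := hpow t
    rwa [hj, pow_succ, pow_mul, h2, one_pow, one_mul] at h
  have hfree : ∀ g ∈ T, ∀ x ∈ D, x ≠ 1 → g * x * g⁻¹ = x → g ∈ C[D] := by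
    intro g hg x hx hx1 hgx
    obtain ⟨y, hy⟩ : ∃ y : D, y = ⟨x, hx⟩ := ⟨_, rfl⟩
    have hy1 : y ≠ 1 := fun h => hx1 (by rw [hy] at h; exact congrArg Subtype.val h)
    obtain ⟨k, hk⟩ := IsPGroup.iff_orderOf.1 hDp y
    have hk0 : k ≠ 0 := fun h => hy1 (orderOf_eq_one_iff.1 (by rw [hk, h, pow_zero]))
    have hfy : tw ⟨g, hg⟩ y = y := Subtype.ext (by rw [htw, hy]; exact hgx)
    refine hfix1 ⟨g, hg⟩ (y ^ 2 ^ (k - 1)) ?_ ?_ (by rw [map_pow, hfy])
    · rw [← pow_mul, ← pow_succ, Nat.sub_add_cancel (Nat.one_le_iff_ne_zero.2 hk0), ← hk,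
        pow_orderOf_eq_one]
    · exact pow_ne_one_of_lt_orderOf (by positivity)
        (by rw [hk]; exact Nat.pow_lt_pow_right one_lt_two (by omega))
  -- at most three cosets
  have hle : (C[D]).relIndex T ≤ 3 := by
    obtain ⟨x, hx2⟩ : ∃ x : D, orderOf x = 2 := by
      obtain ⟨d, hd⟩ : ∃ d, Nat.card D = 2 ^ d := IsPGroup.iff_card.1 hDp
      refine exists_prime_orderOf_dvd_card' 2 ?_
      rw [hd]
      refine dvd_pow_self 2 fun h => hD1 ?_
      rw [h, pow_zero] at hd
      exact Subgroup.eq_bot_of_card_eq _ hd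
    have hx1 : x ≠ 1 := fun h => by rw [h, orderOf_one] at hx2; omega
    have hx : x ^ 2 = 1 := by rw [← hx2, pow_orderOf_eq_one]
    have hmem : ∀ t : T, (tw t x) ^ 2 = 1 ∧ tw t x ≠ 1 := fun t =>
      ⟨by rw [← map_pow, hx, map_one], fun h => hx1 ((tw t).injective (h.trans (map_one _).symm))⟩
    have hinj : ∀ a b : T, tw a x = tw b x → a⁻¹ * b ∈ (C[D]).subgroupOf T := by
      intro a b h
      refine Subgroup.mem_subgroupOf.2 (hfree _ (a⁻¹ * b).2 _ x.2 (fun e => hx1 (Subtype.ext e)) ?_)
      have h' := congrArg Subtype.val h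
      rw [htw, htw] at h'
      push_cast
      calc (a : G)⁻¹ * (b : G) * (x : G) * ((a : G)⁻¹ * (b : G))⁻¹
          = (a : G)⁻¹ * ((b : G) * (x : G) * (b : G)⁻¹) * (a : G) := by group
        _ = _ := by rw [← h']; group
    rw [Subgroup.relIndex, Subgroup.index]
    have h1 : Nat.card (T ⧸ (C[D]).subgroupOf T) ≤
        Nat.card {z : {z : D // z ^ 2 = 1} // z ≠ ⟨1, one_pow 2⟩} :=
      Nat.card_le_card_of_injective (fun q => ⟨⟨tw q.out x, (hmem _).1⟩,
        fun e => (hmem _).2 (congrArg Subtype.val e)⟩) fun q q' h => by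
          have h' := hinj _ _ (congrArg Subtype.val (congrArg Subtype.val h))
          rw [← QuotientGroup.out_eq' q, ← QuotientGroup.out_eq' q']
          exact QuotientGroup.eq.2 h'
    refine h1.trans ?_
    rw [Nat.card_eq_fintype_card, Fintype.card_subtype_compl, Fintype.card_subtype_eq,
      ← Nat.card_eq_fintype_card]
    omega
  exact ⟨hfree, hle⟩

variable {M : Ideal AlgInt} [Fact (Nat.Prime 2)] {G : Type u} [Group G] [Fintype G]

/-- The invariants of a two-block whose abelian defect group has at most three involutions and is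
not trivial. -/
theorem three_involutions_invariants (hM : IsPModular 2 M) {B : Set (IrrCharacter G)}
    (hB : IsPBlock M B) {D : Subgroup G} (hD : IsDefectGroup 2 M B D)
    (hab : ∀ x ∈ D, ∀ y ∈ D, x * y = y * x) (hD1 : D ≠ ⊥)
    (hinv : Nat.card {x : D // x ^ 2 = 1} ≤ 4) :
    ∃ e : ℕ, (e = 1 ∨ e = 3) ∧ blockRank 2 B = e ∧
      Nat.card B = e + (Nat.card D - 1) / e ∧ e ∣ Nat.card D - 1 := by
  classical
  obtain ⟨c, hmax⟩ := exists_pair_at_defect hM hB hD
  have hc : IsInducedBlock M C[D] c B :=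
    isInducedBlock_of_isBrauerPairOf hM (le_centralizer_of_abelian hab le_rfl) hmax.1
  let T : Subgroup G := Subgroup.normalizer (D : Set G) ⊓ invStab (indVec c)
  have hT : ∀ y : G, y ∈ T ↔ y ∈ Subgroup.normalizer (D : Set G) ∧
      StabilizesBlock C[D] c y := fun y => by
    refine and_congr_right fun hy => ?_
    rw [stabilizesBlock_iff_coeff (mem_normalizer_centralizer hy), ← extF_indVec]
    rfl
  have hDp : IsPGroup 2 D := isPGroup_defectGroup hM hD
  have hodd : Odd ((C[D]).relIndex T) := by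
    rw [Nat.odd_iff]
    by_contra h
    refine not_dvd_relIndex_of_maximal hM hmax hT ?_
    rw [sup_eq_right.2 (le_centralizer_of_abelian hab le_rfl)]
    omega
  obtain ⟨hfree, hle⟩ := free_three_involutions (fun y hy => ((hT y).1 hy).1) hab hDp hD1 hodd hinv
  have S : FreeSetup 2 M B D c T := ⟨hM, hB, hD, hab, hc, hT, hfree⟩
  obtain ⟨-, hk, hl⟩ := S.free_count hD1
  obtain ⟨ι, _, _, τ, -, hcard⟩ := S.exists_cycVectors
  refine ⟨(C[D]).relIndex T, ?_, hl hle, by rw [hk, hl hle], ⟨_, hcard.symm.trans (mul_comm _ _)⟩⟩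
  obtain ⟨j, hj⟩ := hodd
  omega

end Cfsg.Lib.Block
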