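import Cfsg.Agent.Lib.Block.PrincipalFreeThree
import Cfsg.Agent.Lib.Block.HomocyclicTwo
import Cfsg.Agent.Lib.Fusion.Basic

/-!
# Homocyclic Sylow two-subgroups of rank two

With inertial index three the values of the principal block at an involution and at an element of
order at least four, and the absence of products of two involutions conjugate to the latter, give an
equation whose only solution makes the two nonexceptional nonprincipal characters linear.
-/

set_option autoImplicit false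
set_option linter.unusedSectionVars false
set_option maxHeartbeats 1600000

namespace Cfsg.Lib.Block

open Cfsg
open scoped ComplexConjugate

universe u

noncomputable local instance (priority := high) fintypeSubgroupHomocyclicSylow {A : Type u}
    [Group A] [Fintype A] (H : Subgroup A) : Fintype H := Fintype.ofFinite H

local notation "C[" Q "]" => Subgroup.centralizer (SetLike.coe Q)

/-- The only solution of the degree equation. -/
theorem homocyclic_equation {A B : ℤ} (hA : A ≡ 1 [ZMOD 16]) (hB : B ≡ 1 [ZMOD 16])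
    (h : (A * B + A + B) * (1 + A + B) = 9 * (A * B)) : A = 1 ∧ B = 1 := by
  have hA' : A % 16 = 1 := hA
  have hB' : B % 16 = 1 := hB
  have main : ∀ a b : ℤ, 15 ≤ a → 1 ≤ b → a % 16 = 15 → b % 16 = 1 →
      (-a * b + -a + b) * (1 + -a + b) ≠ 9 * (-a * b) := by
    intro a b ha hb ha' hb' e
    have e' : (a - 1) * (b + 1) * (b - a) = 8 * (a * b) := by linear_combination -e
    have hpos : 0 < b - a := by
      by_contra hle
      nlinarith [mul_nonneg (mul_nonneg (by linarith : (0 : ℤ) ≤ a - 1) (by linarith : (0 : ℤ) ≤ b + 1))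
        (by linarith : (0 : ℤ) ≤ a - b), mul_pos (by linarith : (0 : ℤ) < a) (by linarith : (0 : ℤ) < b)]
    have hlow : 14 * (a * b) ≤ 15 * ((a - 1) * (b + 1)) := by nlinarith
    have hlt : b - a < 18 := by
      by_contra hge
      nlinarith [mul_le_mul_of_nonneg_left (by linarith : (18 : ℤ) ≤ b - a)
        (by nlinarith : (0 : ℤ) ≤ (a - 1) * (b + 1)),
        mul_pos (by linarith : (0 : ℤ) < a) (by linarith : (0 : ℤ) < b)]
    have hk : b = a + 2 := by omega
    subst hk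
    nlinarith
  rcases lt_or_gt_of_ne (show A ≠ 0 by omega) with ha | ha <;>
    rcases lt_or_gt_of_ne (show B ≠ 0 by omega) with hb | hb
  · exfalso
    have e : (1 - -A) * (1 - -B) * (A + B) = 8 * (A * B) := by linear_combination h
    nlinarith [mul_nonneg (by omega : (0 : ℤ) ≤ -A - 1) (by omega : (0 : ℤ) ≤ -B - 1),
      mul_pos (neg_pos.2 ha) (neg_pos.2 hb)]
  · exact absurd (by linear_combination h) (main (-A) B (by omega) (by omega) (by omega) hB')
  · exact absurd (by linear_combination h) (main (-B) A (by omega) (by omega) (by omega) hA')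
  · have e : (1 + A) * (1 + B) * (A + B) = 8 * (A * B) := by linear_combination h
    by_contra hne
    have hS : 18 ≤ A + B := by omega
    nlinarith [mul_pos ha hb, mul_le_mul_of_nonneg_left hS
      (mul_nonneg (by linarith : (0 : ℤ) ≤ 1 + A) (by linarith : (0 : ℤ) ≤ 1 + B))]

/-- A normal subgroup containing a Sylow two-subgroup and having a complement is that subgroup when
there is no normal subgroup of odd order. -/
theorem eq_sylow_of_complement {G : Type u} [Group G] [Finite G] [Fact (Nat.Prime 2)]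
    (P : Sylow 2 G) (hO : ∀ N : Subgroup G, N.Normal → Odd (Nat.card N) → N = ⊥)
    (K : Subgroup G) (hK : K.Normal) (hPK : (P : Subgroup G) ≤ K)
    (h : HasNormalPComplement 2 K) : K = (P : Subgroup G) := by
  obtain ⟨Q, N, hN, hQN⟩ := h
  have hQc : Nat.card (Q : Subgroup K) = Nat.card (P : Subgroup G) := by
    rw [Nat.card_congr (Q.equiv (P.subtype hPK)).toEquiv, Sylow.coe_subtype,
      Nat.card_congr (Subgroup.subgroupOfEquivOfLe hPK).toEquiv]
  have hNc : Nat.card N * Nat.card (Q : Subgroup K) = Nat.card K := hQN.card_mul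
  have hodd : Odd (Nat.card N) := by
    rw [← Nat.not_even_iff_odd, even_iff_two_dvd]
    intro hd
    refine Q.not_dvd_index' Nat.card_pos.ne' ?_
    rwa [hQN.index_eq_card]
  have hmem : ∀ x : K, x ∈ N ↔ Odd (orderOf x) := by
    intro x
    refine ⟨fun hx => hodd.of_dvd_nat (Subgroup.orderOf_dvd_natCard N hx), fun hx => ?_⟩
    rw [← QuotientGroup.eq_one_iff, ← orderOf_eq_one_iff]
    obtain ⟨k, hk⟩ := IsPGroup.iff_card.1 Q.isPGroup'
    refine Nat.eq_one_of_dvd_coprimes ((Nat.coprime_two_right.2 hx).pow_right k)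
      (orderOf_map_dvd (QuotientGroup.mk' N) x) ?_
    rw [← hk, ← hQN.symm.index_eq_card]
    exact orderOf_dvd_natCard _
  have hbot : N.map K.subtype = ⊥ := by
    refine hO _ ⟨?_⟩ (by rwa [Subgroup.card_map_of_injective K.subtype_injective])
    rintro - ⟨x, hx, rfl⟩ g
    refine ⟨⟨g * x * g⁻¹, hK.conj_mem _ x.2 g⟩, (hmem _).2 ?_, rfl⟩
    have h := (hmem x).1 hx
    rw [← orderOf_submonoid] at h ⊢
    rwa [show ((⟨g * x * g⁻¹, hK.conj_mem _ x.2 g⟩ : K) : G) = MulAut.conj g (x : G) from rfl,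
      MulEquiv.orderOf_eq]
  rw [Subgroup.map_eq_bot_iff_of_injective _ K.subtype_injective] at hbot
  rw [hbot, Subgroup.card_bot, one_mul, hQc] at hNc
  exact (Subgroup.eq_of_le_of_card_ge hPK hNc.ge).symm

section Three

variable {M : Ideal AlgInt} {G : Type u} [Group G] [Fintype G] [Fact (Nat.Prime 2)]
  (hM : IsPModular 2 M) {P : Sylow 2 G} [IsMulCommutative (P : Subgroup G)]
  (hfree : FreeAction P)
  (hCN : (Subgroup.centralizer ((P : Subgroup G) : Set G)).relIndex
    (Subgroup.normalizer ((P : Subgroup G) : Set G)) = 3)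

open Classical in
include hM hfree hCN in
/-- The principal block has a nonprincipal linear character that is one on the Sylow subgroup. -/
theorem homocyclic_linear (hq : 16 ∣ Nat.card (P : Subgroup G))
    (hinv : Nat.card {x : (P : Subgroup G) // x ^ 2 = 1} ≤ 4) {u : (P : Subgroup G)}
    (hu : u ^ 2 ≠ 1) :
    ∃ χ : IrrCharacter G, χ ∈ principalBlock M G ∧ χ ≠ trivChar G ∧ (χ : G → ℂ) 1 = 1 ∧
      ∀ v ∈ (P : Subgroup G), v ≠ 1 → (χ : G → ℂ) v = 1 := by
  have hq4 : 3 + 1 < Nat.card (P : Subgroup G) := by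
    have := Nat.le_of_dvd Nat.card_pos hq
    omega
  obtain ⟨y, n, δ, S, h2, hX3, hn⟩ := exists_freeShape_three hM hfree hCN hq4
  -- the values
  have hpart : ∀ v : (P : Subgroup G), IsPPart 2 (v : G) (v : G) := fun v =>
    ⟨1, mul_one _, Commute.one_right _, orderOf_sylow P v.2, by simp⟩
  have hXv : ∀ χ ∈ principalBlock M G, χ ∉ Set.range y → ∀ v : (P : Subgroup G), (v : G) ≠ 1 →
      (χ : G → ℂ) v = ((-n χ : ℤ) : ℂ) := fun χ hχ hr v hv =>
    S.value_X hM hfree hχ hr (hpart v) v.2 hv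
  have htriv : trivChar G ∈ (principalBlock M G \ Set.range y).toFinset :=
    Set.mem_toFinset.2 ⟨trivChar_mem_principal hM, S.triv_not_range hM h2⟩
  obtain ⟨x₁, x₂, hx12, hset⟩ : ∃ x₁ x₂, x₁ ≠ x₂ ∧
      (principalBlock M G \ Set.range y).toFinset.erase (trivChar G) = {x₁, x₂} := by
    refine Finset.card_eq_two.1 ?_
    rw [Finset.card_erase_of_mem htriv, ← Nat.card_eq_card_toFinset, hX3]
  have hx1 : x₁ ∈ (principalBlock M G \ Set.range y).toFinset.erase (trivChar G) :=
    hset ▸ Finset.mem_insert_self _ _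
  have hx2 : x₂ ∈ (principalBlock M G \ Set.range y).toFinset.erase (trivChar G) :=
    hset ▸ Finset.mem_insert_of_mem (Finset.mem_singleton_self _)
  obtain ⟨hx1t, hx1m⟩ := Finset.mem_erase.1 hx1
  obtain ⟨hx2t, hx2m⟩ := Finset.mem_erase.1 hx2
  rw [Set.mem_toFinset] at hx1m hx2m
  have hXeq : (principalBlock M G \ Set.range y).toFinset = {trivChar G, x₁, x₂} := by
    rw [← Finset.insert_erase htriv, hset]
  -- three involutions
  obtain ⟨k, hk⟩ := IsPGroup.iff_orderOf.1 P.isPGroup' u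
  have hu1 : (u : G) ≠ 1 := fun h => hu (by rw [show u = 1 from Subtype.ext h, one_pow])
  obtain ⟨J, hJ2⟩ : ∃ J : (P : Subgroup G), orderOf J = 2 :=
    exists_prime_orderOf_dvd_card' 2 ((show 2 ∣ 16 by norm_num).trans hq)
  have hJ1 : J ≠ 1 := fun h => by rw [h, orderOf_one] at hJ2; omega
  have hJ : J ^ 2 = 1 := by
    have h := pow_orderOf_eq_one J
    rwa [hJ2] at h
  obtain ⟨N, hN⟩ : ∃ N, N = Subgroup.normalizer ((P : Subgroup G) : Set G) := ⟨_, rfl⟩
  haveI hnor : ((C[(P : Subgroup G)]).subgroupOf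
      (Subgroup.normalizer ((P : Subgroup G) : Set G))).Normal :=
    Subgroup.normal_subgroupOf_of_le_normalizer fun z hz => mem_normalizer_centralizer hz
  obtain ⟨t, ht⟩ : ∃ t : Subgroup.normalizer ((P : Subgroup G) : Set G),
      t ∉ (C[(P : Subgroup G)]).subgroupOf (Subgroup.normalizer ((P : Subgroup G) : Set G)) := by
    by_contra hall
    push Not at hall
    have : (C[(P : Subgroup G)]).relIndex (Subgroup.normalizer ((P : Subgroup G) : Set G)) = 1 :=
      Subgroup.relIndex_eq_one.2 fun z hz => hall ⟨z, hz⟩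
    omega
  have ht3 : ∀ i j : ℕ, i < 3 → j < 3 → t ^ i * (t ^ j)⁻¹ ∈ (C[(P : Subgroup G)]).subgroupOf
      (Subgroup.normalizer ((P : Subgroup G) : Set G)) → i = j := by
    intro i j hi hj h
    rw [← QuotientGroup.eq_one_iff, QuotientGroup.mk_mul, QuotientGroup.mk_inv, mul_inv_eq_one,
      QuotientGroup.mk_pow, QuotientGroup.mk_pow] at h
    have ho : orderOf (t : Subgroup.normalizer ((P : Subgroup G) : Set G) ⧸
        (C[(P : Subgroup G)]).subgroupOf
          (Subgroup.normalizer ((P : Subgroup G) : Set G))) = 3 := by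
      refine orderOf_eq_prime ?_ fun h1 => ht ((QuotientGroup.eq_one_iff t).1 h1)
      have := pow_card_eq_one' (x := (t : Subgroup.normalizer ((P : Subgroup G) : Set G) ⧸
        (C[(P : Subgroup G)]).subgroupOf (Subgroup.normalizer ((P : Subgroup G) : Set G))))
      rwa [show Nat.card _ = 3 from hCN] at this
    exact (pow_injOn_Iio_orderOf (Set.mem_Iio.2 (by rw [ho]; exact hi)) (Set.mem_Iio.2 (by rw [ho]; exact hj)) h)
  have hcover : ∀ x : Subgroup.normalizer ((P : Subgroup G) : Set G), ∃ i < 3,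
      conjSyl P x = conjSyl P (t ^ i) := by
    intro x
    obtain ⟨f, hf⟩ : ∃ f : Fin 3 → Subgroup.normalizer ((P : Subgroup G) : Set G) ⧸
        (C[(P : Subgroup G)]).subgroupOf (Subgroup.normalizer ((P : Subgroup G) : Set G)),
        f = fun i : Fin 3 => ((t ^ i.val : Subgroup.normalizer ((P : Subgroup G) : Set G)) :
          Subgroup.normalizer ((P : Subgroup G) : Set G) ⧸
            (C[(P : Subgroup G)]).subgroupOf (Subgroup.normalizer ((P : Subgroup G) : Set G))) :=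
      ⟨_, rfl⟩
    have hb : Function.Bijective f := by
      refine (Nat.bijective_iff_injective_and_card f).2 ⟨fun i j h => ?_, by
        rw [Nat.card_fin]; exact hCN.symm⟩
      rw [hf] at h
      refine Fin.ext (ht3 i j i.2 j.2 ?_)
      rw [← QuotientGroup.eq_one_iff, QuotientGroup.mk_mul, QuotientGroup.mk_inv, mul_inv_eq_one]
      exact h
    obtain ⟨i, hi⟩ := hb.2 x
    rw [hf] at hi
    refine ⟨i, i.2, ?_⟩
    obtain ⟨c, hc, rfl⟩ : ∃ c ∈ (C[(P : Subgroup G)]).subgroupOf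
        (Subgroup.normalizer ((P : Subgroup G) : Set G)), x = t ^ (i : ℕ) * c :=
      ⟨_, QuotientGroup.eq.1 hi, by group⟩
    rw [← conjSyl_mul, comp_conjSyl_of_mem (Subgroup.mem_subgroupOf.1 hc), MonoidHom.comp_id]
  have hmove : ∀ (i j : ℕ) (a : (P : Subgroup G)), (a : G) ≠ 1 → i < 3 → j < 3 →
      conjSyl P (t ^ i) a = conjSyl P (t ^ j) a → i = j := by
    intro i j a ha hi hj h
    have h' := congrArg Subtype.val h
    rw [conjSyl_val, conjSyl_val] at h'
    refine (ht3 j i hj hi ?_).symm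
    have hmem : (((t ^ j)⁻¹ * t ^ i : Subgroup.normalizer ((P : Subgroup G) : Set G)) : G) ∈
        C[(P : Subgroup G)] := by
      refine (hfree a a.2 ha).le (Subgroup.mem_inf.2 ⟨Subgroup.mem_centralizer_singleton_iff.2 ?_,
        ((t ^ j)⁻¹ * t ^ i).2⟩)
      push_cast at h' ⊢
      calc ((t : G) ^ j)⁻¹ * (t : G) ^ i * a
          = ((t : G) ^ j)⁻¹ * ((t : G) ^ i * a * ((t : G) ^ i)⁻¹) * (t : G) ^ i := by group
        _ = a * (((t : G) ^ j)⁻¹ * (t : G) ^ i) := by rw [h']; group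
    have h2 : t ^ i * (t ^ j)⁻¹ ∈ (C[(P : Subgroup G)]).subgroupOf
        (Subgroup.normalizer ((P : Subgroup G) : Set G)) :=
      hnor.mem_comm (Subgroup.mem_subgroupOf.2 hmem)
    simpa using inv_mem h2
  obtain ⟨J', hJ'⟩ : ∃ J', J' = conjSyl P t J := ⟨_, rfl⟩
  have hJ'2 : J' ^ 2 = 1 := by rw [hJ', ← map_pow, hJ, map_one]
  have hJG : (J : G) ≠ 1 := fun h => hJ1 (Subtype.ext h)
  have hc1 : conjSyl P (t ^ 0) J = J := by rw [pow_zero, conjSyl_one]; rfl
  have hJne : J' ≠ J := fun h => by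
    have := hmove 1 0 J hJG (by norm_num) (by norm_num) (by rw [pow_one, hc1, ← hJ', h])
    omega
  have hJ'1 : J' ≠ 1 := fun h => hJ1 ((conjSyl_bij P t).1 ((hJ' ▸ h).trans (map_one _).symm))
  obtain ⟨J'', hJ''⟩ : ∃ J'', J'' = conjSyl P (t ^ 2) J := ⟨_, rfl⟩
  have hJ''eq : J'' = J * J' := by
    letI : CommGroup (P : Subgroup G) :=
      { (inferInstance : Group (P : Subgroup G)) with mul_comm := sylow_comm P }
    by_contra hne
    have h1 : J'' ≠ 1 := fun h =>
      hJ1 ((conjSyl_bij P (t ^ 2)).1 ((hJ'' ▸ h).trans (map_one _).symm))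
    have h2 : J'' ≠ J := fun h => by
      have := hmove 2 0 J hJG (by norm_num) (by norm_num) (by rw [← hJ'', h, hc1])
      omega
    have h3 : J'' ≠ J' := fun h => by
      have := hmove 2 1 J hJG (by norm_num) (by norm_num) (by rw [← hJ'', h, pow_one, hJ'])
      omega
    have h4 : J * J' ≠ 1 := fun h => hJne (by
      rw [mul_eq_one_iff_inv_eq] at h
      rw [← h, inv_eq_of_mul_eq_one_right (by rw [← pow_two, hJ])])
    have hsub : ({1, J, J', J'', J * J'} : Finset (P : Subgroup G)) ⊆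
        Finset.univ.filter fun z : (P : Subgroup G) => z ^ 2 = 1 := by
      intro z hz
      simp only [Finset.mem_insert, Finset.mem_singleton] at hz
      refine Finset.mem_filter.2 ⟨Finset.mem_univ _, ?_⟩
      rcases hz with rfl | rfl | rfl | rfl | rfl
      · exact one_pow 2
      · exact hJ
      · exact hJ'2
      · rw [hJ'', ← map_pow, hJ, map_one]
      · rw [mul_pow, hJ, hJ'2, one_mul]
    have hcard := Finset.card_le_card hsub
    rw [Finset.card_insert_of_notMem (by simp [Ne.symm hJ1, Ne.symm hJ'1, Ne.symm h1, Ne.symm h4]),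
      Finset.card_insert_of_notMem (by simp [Ne.symm hJne, Ne.symm h2, Ne.symm hJ'1, hJ'1]),
      Finset.card_insert_of_notMem (by simp [Ne.symm h3, hJ1, Ne.symm hJ1]),
      Finset.card_insert_of_notMem (by simp [hne]), Finset.card_singleton,
      ← Fintype.card_subtype, ← Nat.card_eq_fintype_card] at hcard
    omega
  -- the exceptional values
  have hY : ∀ (ψ : {ψ : (P : Subgroup G) →* ℂˣ // ψ ≠ 1}) (v : (P : Subgroup G)), (v : G) ≠ 1 →
      (y (Quotient.mk _ ψ) : G → ℂ) v = (δ : ℂ) * ∑ i ∈ Finset.range 3,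
        ((ψ.1 (conjSyl P (t ^ i) v) : ℂˣ) : ℂ) := by
    intro ψ v hv
    have hset' : {φ : (P : Subgroup G) →* ℂˣ | ConjHom P ψ.1 φ} =
        ↑((Finset.range 3).image fun i => ψ.1.comp (conjSyl P (t ^ i))) := by
      ext φ
      simp only [Set.mem_ofPred_eq, Finset.coe_image, Set.mem_image, Finset.mem_coe, Finset.mem_range]
      constructor
      · intro h
        obtain ⟨x, hx⟩ := (conjHom_iff P).1 h.symm
        obtain ⟨i, hi, e⟩ := hcover x
        exact ⟨i, hi, by rw [← e, hx]⟩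
      · rintro ⟨i, -, rfl⟩
        exact ConjHom.symm ((conjHom_iff P).2 ⟨t ^ i, rfl⟩)
    rw [S.value_Y hM hfree ψ (hpart v) hv, neg_zero, Int.cast_zero, zero_add, hset',
      finsum_mem_coe_finset, Finset.sum_image fun i hi j hj e => ?_]
    · rfl
    · have e' : ψ.1.comp (conjSyl P (t ^ i)) = ψ.1.comp (conjSyl P (t ^ j)) := e
      have hmem := mem_centralizer_of_fix hfree (x := t ^ i * (t ^ j)⁻¹) (ψ := ψ.1) (by
        rw [← conjSyl_mul, ← MonoidHom.comp_assoc, e', MonoidHom.comp_assoc, conjSyl_mul,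
          mul_inv_cancel, conjSyl_one, MonoidHom.comp_id]) ψ.2
      exact ht3 i j (Finset.mem_range.1 hi) (Finset.mem_range.1 hj) (Subgroup.mem_subgroupOf.2 hmem)
  have hYJ : ∀ ψ : {ψ : (P : Subgroup G) →* ℂˣ // ψ ≠ 1},
      (y (Quotient.mk _ ψ) : G → ℂ) J ^ 2 = 3 + 2 * ((ψ.1 J : ℂˣ) : ℂ) + 2 * ((ψ.1 J' : ℂˣ) : ℂ) +
        2 * ((ψ.1 (J * J') : ℂˣ) : ℂ) := by
    intro ψ
    have hsq : ∀ z : (P : Subgroup G), z ^ 2 = 1 →
        ((ψ.1 z : ℂˣ) : ℂ) = 1 ∨ ((ψ.1 z : ℂˣ) : ℂ) = -1 := fun z hz => mul_self_eq_one_iff.1 (by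
      rw [← Units.val_mul, ← map_mul, ← pow_two, hz, map_one, Units.val_one])
    have hδ2 : (δ : ℂ) * δ = 1 := by rcases S.sign with h | h <;> simp [h]
    rw [hY ψ J hJG, Finset.sum_range_succ, Finset.sum_range_succ, Finset.sum_range_one, hc1,
      pow_one, ← hJ', ← hJ'', hJ''eq, mul_pow, pow_two (δ : ℂ), hδ2, one_mul, map_mul,
      Units.val_mul]
    rcases hsq J hJ with e | e <;> rcases hsq J' hJ'2 with e' | e' <;> rw [e, e'] <;> norm_num
  -- no product of two involutions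
  have hsum0 : ∑ χ ∈ (principalBlock M G).toFinset,
      ((χ : G → ℂ) J ^ 2 / (χ : G → ℂ) 1) * (χ : G → ℂ) (u : G) = 0 := by
    refine Cfsg.Agent.S4722.block_sum_eq_zero hM isPBlock_principal _ (orderOf_sylow P u.2)
      fun g hg => ?_
    have hJJ : (J : G) * J = 1 := congrArg Subtype.val ((pow_two J).symm.trans hJ)
    have hempty : ((Char.classFinset (J : G) ×ˢ Char.classFinset (J : G)).filter
        fun q => q.1 * q.2 = g) = ∅ := by
      refine Finset.filter_eq_empty_iff.2 fun q hq hab => hu ?_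
      obtain ⟨a, b⟩ := q
      have ha := Char.mem_classFinset.1 (Finset.mem_product.1 hq).1
      have hb := Char.mem_classFinset.1 (Finset.mem_product.1 hq).2
      have hinv2 : ∀ c : G, IsConj (J : G) c → c⁻¹ = c := fun c hc => by
        obtain ⟨x, rfl⟩ := isConj_iff.1 hc
        rw [mul_inv_rev, mul_inv_rev, inv_inv, inv_eq_of_mul_eq_one_right hJJ, mul_assoc]
      have hab' : a * b = g := hab
      have hag : a * g * a⁻¹ = g⁻¹ := by
        rw [← hab', mul_inv_rev, hinv2 b hb, ← mul_assoc,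
          show a * a = 1 by nth_rw 1 [← hinv2 a ha]; exact inv_mul_cancel a, one_mul]
      obtain ⟨x, hx⟩ := isConj_iff.1 hg
      have hainv : a * pPt 2 g * a⁻¹ = (pPt 2 g)⁻¹ := by rw [← pPt_conj, hag, pPt_inv]
      have h1 : IsConj (pPt 2 g) (pPt 2 g)⁻¹ := isConj_iff.2 ⟨a, hainv⟩
      have h2 : IsConj (pPt 2 g)⁻¹ (u : G) := isConj_iff.2 ⟨x, by rw [← conj_inv, hx, inv_inv]⟩
      have h3 := mul_self_eq_one_of_real hfree hCN (hg.symm.trans (h1.trans h2))
      exact Subtype.ext (by rw [SubgroupClass.coe_pow, pow_two]; exact h3)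
    have h := Char.card_class_product (J : G) J g
    rw [hempty, Finset.card_empty, Nat.cast_zero] at h
    have hne : ((Char.classFinset (J : G)).card : ℂ) * (Char.classFinset (J : G)).card /
        (Nat.card G : ℂ) ≠ 0 :=
      div_ne_zero (mul_ne_zero (Nat.cast_ne_zero.2 (Finset.card_ne_zero.2
        ⟨_, Char.mem_classFinset.2 (IsConj.refl _)⟩)) (Nat.cast_ne_zero.2 (Finset.card_ne_zero.2
        ⟨_, Char.mem_classFinset.2 (IsConj.refl _)⟩))) Char.card_cast_ne_zero
    rw [← (mul_eq_zero.1 h.symm).resolve_left hne]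
    exact Finset.sum_congr rfl fun χ _ => by ring
  -- the exceptional sum
  obtain ⟨j⟩ : Nonempty (HomOrb P) := Fintype.card_pos_iff.1 (by omega)
  have hdeg : ∀ i, (y i : G → ℂ) 1 = (y j : G → ℂ) 1 := fun i =>
    S.regEq i j 1 (by simp [IsPRegular])
  have hYsum : ∑ i, (y i : G → ℂ) J ^ 2 * (y i : G → ℂ) u = -9 * (δ : ℂ) := by
    have key : ∀ ψ : {ψ : (P : Subgroup G) →* ℂˣ // ψ ≠ 1},
        (y (Quotient.mk _ ψ) : G → ℂ) J ^ 2 * ((δ : ℂ) * ((ψ.1 u : ℂˣ) : ℂ)) =
          (δ : ℂ) * (3 * ((ψ.1 u : ℂˣ) : ℂ) + 2 * ((ψ.1 (J * u) : ℂˣ) : ℂ) +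
            2 * ((ψ.1 (J' * u) : ℂˣ) : ℂ) + 2 * ((ψ.1 (J * J' * u) : ℂˣ) : ℂ)) := fun ψ => by
      rw [hYJ]
      simp only [map_mul, Units.val_mul]
      ring
    have hne : ∀ z : (P : Subgroup G), z ^ 2 = 1 → z * u ≠ 1 := fun z hz h => hu (by
      rw [← inv_eq_of_mul_eq_one_right h, inv_pow, hz, inv_one])
    have hone : ∀ z : (P : Subgroup G), z ≠ 1 →
        ∑ ψ : {ψ : (P : Subgroup G) →* ℂˣ // ψ ≠ 1}, ((ψ.1 z : ℂˣ) : ℂ) = -1 := fun z hz => by
      rw [← FreeShape.sum_nontrivial hz]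
      exact (Finset.sum_subtype _ (fun ψ => by simp) fun ψ : (P : Subgroup G) →* ℂˣ => ((ψ z : ℂˣ) : ℂ)).symm
    have hJJ'2 : (J * J') ^ 2 = 1 := by
      rw [← hJ''eq, hJ'', ← map_pow, hJ, map_one]
    have hu' : u ≠ 1 := fun h => hu (by rw [h, one_pow])
    have htot : ∑ ψ : {ψ : (P : Subgroup G) →* ℂˣ // ψ ≠ 1},
        (y (Quotient.mk _ ψ) : G → ℂ) J ^ 2 * ((δ : ℂ) * ((ψ.1 u : ℂˣ) : ℂ)) = -9 * (δ : ℂ) := by
      simp only [key, mul_add, Finset.sum_add_distrib, ← Finset.mul_sum, hone u hu',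
        hone _ (hne J hJ), hone _ (hne J' hJ'2), hone _ (hne _ hJJ'2)]
      ring
    rw [← htot, ← Finset.sum_fiberwise (g := fun ψ : {ψ : (P : Subgroup G) →* ℂˣ // ψ ≠ 1} =>
      (Quotient.mk _ ψ : HomOrb P))]
    refine Finset.sum_congr rfl fun i _ => ?_
    induction i using Quotient.inductionOn with
    | h φ =>
      rw [Finset.sum_congr rfl (g := fun ψ : {ψ : (P : Subgroup G) →* ℂˣ // ψ ≠ 1} =>
        (y (Quotient.mk _ φ) : G → ℂ) J ^ 2 * ((δ : ℂ) * ((ψ.1 u : ℂˣ) : ℂ)))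
        (fun ψ hψ => by rw [(Finset.mem_filter.1 hψ).2]), ← Finset.mul_sum]
      congr 1
      rw [S.value_Y hM hfree φ (hpart u) hu1, neg_zero, Int.cast_zero, zero_add, ← Finset.mul_sum]
      congr 1
      rw [finsum_mem_eq_toFinset_sum]
      refine (Finset.sum_bij (fun ψ _ => ψ.1) (fun ψ hψ => ?_) (fun a _ b _ e => Subtype.ext e)
        (fun ξ hξ => ?_) fun _ _ => rfl).symm
      · rw [Set.mem_toFinset]
        exact ConjHom.symm (Quotient.exact (Finset.mem_filter.1 hψ).2)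
      · rw [Set.mem_toFinset] at hξ
        exact ⟨⟨ξ, ConjHom.ne_one hξ φ.2⟩, Finset.mem_filter.2 ⟨Finset.mem_univ _,
          Quotient.sound (ConjHom.symm hξ)⟩, rfl⟩
  -- both relations
  have hB : (principalBlock M G).toFinset =
      (principalBlock M G \ Set.range y).toFinset ∪ Finset.univ.image y := by
    ext χ
    simp only [Set.mem_toFinset, Finset.mem_union, Set.mem_sdiff, Finset.mem_image,
      Finset.mem_univ, true_and, Set.mem_range]
    refine ⟨fun hχ => ?_, fun hχ => hχ.elim And.left fun ⟨j, hj⟩ => hj ▸ S.mem j⟩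
    by_cases hr : ∃ j, y j = χ
    · exact Or.inr hr
    · exact Or.inl ⟨hχ, hr⟩
  obtain ⟨a₁, ha₁⟩ : ∃ a, a = -n x₁ := ⟨_, rfl⟩
  obtain ⟨a₂, ha₂⟩ : ∃ a, a = -n x₂ := ⟨_, rfl⟩
  obtain ⟨d₁, hd₁⟩ : ∃ d, d = charDegree (x₁ : G → ℂ) := ⟨_, rfl⟩
  obtain ⟨d₂, hd₂⟩ : ∃ d, d = charDegree (x₂ : G → ℂ) := ⟨_, rfl⟩
  obtain ⟨d₃, hd₃⟩ : ∃ d, d = charDegree (y j : G → ℂ) := ⟨_, rfl⟩
  have hs1 : a₁ = 1 ∨ a₁ = -1 := by rcases hn x₁ hx1m.1 hx1m.2 with h | h <;> omega
  have hs2 : a₂ = 1 ∨ a₂ = -1 := by rcases hn x₂ hx2m.1 hx2m.2 with h | h <;> omega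
  have hnt : -n (trivChar G) = 1 := by rw [S.n_triv hM h2]; rfl
  have q0 : 1 + (a₁ : ℂ) * d₁ + (a₂ : ℂ) * d₂ = (δ : ℂ) * d₃ := by
    have h := S.relation hM hfree hCN j (g := 1) (by simp [IsPRegular])
    rw [hXeq, Finset.sum_insert (by simp [Ne.symm hx1t, Ne.symm hx2t]), Finset.sum_pair hx12,
      hnt, ← ha₁, ← ha₂, trivChar_coe, apply_one_eq_charDegree, apply_one_eq_charDegree,
      apply_one_eq_charDegree, ← hd₁, ← hd₂, ← hd₃] at h
    push_cast at h
    linear_combination h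
  have q1 : 1 + (a₁ : ℂ) / d₁ + (a₂ : ℂ) / d₂ = 9 * (δ : ℂ) / d₃ := by
    rw [hB, Finset.sum_union (Finset.disjoint_left.2 fun χ h1 h2' => by
      obtain ⟨j, -, rfl⟩ := Finset.mem_image.1 h2'
      exact (Set.mem_toFinset.1 h1).2 ⟨j, rfl⟩), Finset.sum_image fun a _ b _ h => S.inj h,
      hXeq, Finset.sum_insert (by simp [Ne.symm hx1t, Ne.symm hx2t]), Finset.sum_pair hx12,
      Finset.sum_congr rfl (g := fun i => ((y j : G → ℂ) 1)⁻¹ *
        ((y i : G → ℂ) J ^ 2 * (y i : G → ℂ) u)) (fun i _ => by rw [hdeg i]; ring),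
      ← Finset.mul_sum, hYsum, hXv x₁ hx1m.1 hx1m.2 J hJG, hXv x₁ hx1m.1 hx1m.2 u hu1,
      hXv x₂ hx2m.1 hx2m.2 J hJG, hXv x₂ hx2m.1 hx2m.2 u hu1, ← ha₁, ← ha₂, trivChar_coe,
      apply_one_eq_charDegree, apply_one_eq_charDegree, apply_one_eq_charDegree, ← hd₁, ← hd₂,
      ← hd₃] at hsum0
    rcases hs1 with e | e <;> rcases hs2 with e' | e' <;> rw [e, e'] at hsum0 ⊢ <;>
      push_cast at hsum0 ⊢ <;> linear_combination hsum0
  -- congruences
  have hcong : ∀ χ : IrrCharacter G, χ ∈ principalBlock M G → χ ∉ Set.range y →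
      (16 : ℤ) ∣ (charDegree (χ : G → ℂ) : ℤ) - -n χ := by
    intro χ hχ hr
    obtain ⟨r, hr'⟩ := (χ.2.isCharacter.comp (P : Subgroup G).subtype).exists_nat_classInner
      (Char.isCharacter_one (G := (P : Subgroup G)))
    have h : ∑ v : (P : Subgroup G), (χ : G → ℂ) v = (Nat.card (P : Subgroup G) : ℂ) * r := by
      have e := hr'
      rw [Char.classInner_one_right] at e
      rw [← e, ← mul_assoc, mul_inv_cancel₀ Char.card_cast_ne_zero, one_mul]
      rfl
    rw [← Finset.add_sum_erase _ _ (Finset.mem_univ 1), Finset.sum_congr rfl fun v hv => hXv χ hχ hr v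
        fun e => (Finset.mem_erase.1 hv).1 (Subtype.ext e), Finset.sum_const,
      Finset.card_erase_of_mem (Finset.mem_univ _), Finset.card_univ, ← Nat.card_eq_fintype_card,
      nsmul_eq_mul, Nat.cast_sub (Nat.card_pos), OneMemClass.coe_one, apply_one_eq_charDegree] at h
    have h' : (charDegree (χ : G → ℂ) : ℤ) - -n χ =
        (Nat.card (P : Subgroup G) : ℤ) * ((r : ℤ) - -n χ) := by
      apply Int.cast_injective (α := ℂ)
      push_cast at h ⊢
      linear_combination h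
    rw [h']
    exact (Int.natCast_dvd_natCast.2 hq).mul_right _
  have hmod : ∀ (a : ℤ) (d : ℕ), (a = 1 ∨ a = -1) → (16 : ℤ) ∣ (d : ℤ) - a →
      a * d ≡ 1 [ZMOD 16] := by
    intro a d ha h
    refine (Int.modEq_iff_dvd.2 ?_).symm
    rcases ha with rfl | rfl
    · simpa using h
    · have : (-1 : ℤ) * d - 1 = -((d : ℤ) - -1) := by ring
      rw [this]
      exact dvd_neg.2 h
  have hp₁ : (d₁ : ℂ) ≠ 0 := Nat.cast_ne_zero.2 (hd₁ ▸ (charDegree_pos x₁).ne')
  have hp₂ : (d₂ : ℂ) ≠ 0 := Nat.cast_ne_zero.2 (hd₂ ▸ (charDegree_pos x₂).ne')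
  have hp₃ : (d₃ : ℂ) ≠ 0 := Nat.cast_ne_zero.2 (hd₃ ▸ (charDegree_pos (y j)).ne')
  have heq : ((a₁ * d₁) * (a₂ * d₂) + a₁ * d₁ + a₂ * d₂) * (1 + a₁ * d₁ + a₂ * d₂) =
      9 * ((a₁ * d₁) * (a₂ * d₂)) := by
    apply Int.cast_injective (α := ℂ)
    push_cast
    have hδ2 : (δ : ℂ) * δ = 1 := by rcases S.sign with h | h <;> simp [h]
    have e1 : (a₁ : ℂ) * a₁ = 1 := by rcases hs1 with h | h <;> simp [h]
    have e2 : (a₂ : ℂ) * a₂ = 1 := by rcases hs2 with h | h <;> simp [h]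
    have k1 : (1 + (a₁ : ℂ) / d₁ + (a₂ : ℂ) / d₂) * ((a₁ * d₁) * (a₂ * d₂)) =
        (a₁ * d₁) * (a₂ * d₂) + a₁ * d₁ + a₂ * d₂ := by
      field_simp
      linear_combination ((d₂ : ℂ) * a₂) * e1 + ((d₁ : ℂ) * a₁) * e2
    rw [← k1, q1, q0]
    field_simp
    linear_combination ((a₁ : ℂ) * a₂) * hδ2
  obtain ⟨hA, -⟩ := homocyclic_equation
    (hmod a₁ d₁ hs1 (hd₁ ▸ ha₁ ▸ hcong x₁ hx1m.1 hx1m.2))
    (hmod a₂ d₂ hs2 (hd₂ ▸ ha₂ ▸ hcong x₂ hx2m.1 hx2m.2)) heq
  have hA' : a₁ = 1 ∧ d₁ = 1 := by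
    rcases hs1 with h | h <;> rw [h] at hA <;> first | omega | exact ⟨h, by omega⟩
  refine ⟨x₁, hx1m.1, hx1t, by rw [apply_one_eq_charDegree, ← hd₁, hA'.2, Nat.cast_one],
    fun v hv hv1 => ?_⟩
  rw [hXv x₁ hx1m.1 hx1m.2 ⟨v, hv⟩ hv1, ← ha₁, hA'.1, Int.cast_one]

end Three

/-- Brauer's theorem on homocyclic Sylow two-subgroups of rank two. -/
theorem homocyclic_sylow_two {M : Ideal AlgInt} {G : Type u} [Group G] [Fintype G]
    [Fact (Nat.Prime 2)] (hM : IsPModular 2 M) (P : Sylow 2 G) [IsMulCommutative (P : Subgroup G)]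
    (hq : 16 ∣ Nat.card (P : Subgroup G))
    (hinv : Nat.card {x : (P : Subgroup G) // x ^ 2 = 1} ≤ 4)
    {u : (P : Subgroup G)} (hu : u ^ 2 ≠ 1)
    (hO : ∀ N : Subgroup G, N.Normal → Odd (Nat.card N) → N = ⊥) :
    (P : Subgroup G).Normal ∧ C[(P : Subgroup G)] = (P : Subgroup G) ∧
      ((P : Subgroup G).index = 1 ∨ (P : Subgroup G).index = 3) := by
  classical
  have hab : ∀ x ∈ (P : Subgroup G), ∀ z ∈ (P : Subgroup G), x * z = z * x := fun x hx z hz =>
    congrArg Subtype.val (sylow_comm P ⟨x, hx⟩ ⟨z, hz⟩)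
  have hPC := sylow_le_centralizer P
  have hCN := Subgroup.centralizer_le_normalizer (s := ((P : Subgroup G) : Set G))
  have hodd : Odd ((C[(P : Subgroup G)]).relIndex
      (Subgroup.normalizer ((P : Subgroup G) : Set G))) := by
    rw [← Nat.not_even_iff_odd, even_iff_two_dvd]
    intro h
    refine P.not_dvd_index' Nat.card_pos.ne' (h.trans ?_)
    exact (Dvd.intro_left _ (Subgroup.relIndex_mul_relIndex _ _ _ hPC hCN)).trans
      (Subgroup.relIndex_dvd_index_of_le Subgroup.le_normalizer)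
  have hne : (P : Subgroup G) ≠ ⊥ := fun h => by
    rw [h, Subgroup.card_bot] at hq
    omega
  obtain ⟨hfix, hle⟩ := free_three_involutions le_rfl hab P.isPGroup' hne hodd hinv
  have hfree : FreeAction P := fun z hz hz1 => le_antisymm
    (fun g hg => hfix g hg.2 z hz hz1 (mul_inv_eq_iff_eq_mul.2
      (Subgroup.mem_centralizer_singleton_iff.1 hg.1)))
    fun g hg => ⟨Subgroup.mem_centralizer_singleton_iff.2
      (Subgroup.mem_centralizer_iff.1 hg z hz).symm, hCN hg⟩
  -- it is enough that the Sylow subgroup is normal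
  suffices hnormal : (P : Subgroup G).Normal by
    haveI := hnormal
    have hC : C[(P : Subgroup G)] = (P : Subgroup G) := by
      refine eq_sylow_of_complement P hO _ inferInstance hPC
        (Fusion.hasNormalPComplement_of_normalizer_le_centralizer (P.subtype hPC) fun g hg => ?_)
      exact Subgroup.mem_centralizer_iff.2 fun z hz =>
        Subtype.ext (Subgroup.mem_centralizer_iff.1 g.2 (z : G) hz)
    refine ⟨hnormal, hC, ?_⟩
    have e : (P : Subgroup G).index =
        (C[(P : Subgroup G)]).relIndex (Subgroup.normalizer ((P : Subgroup G) : Set G)) := by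
      rw [hC, Subgroup.normalizer_eq_top, Subgroup.relIndex_top_right]
    rw [← e] at hle hodd
    obtain ⟨k, hk⟩ := hodd
    omega
  by_cases h1 : (C[(P : Subgroup G)]).relIndex (Subgroup.normalizer ((P : Subgroup G) : Set G)) = 1
  · have h := eq_sylow_of_complement P hO ⊤ inferInstance le_top
      (Fusion.hasNormalPComplement_of_surjective (Subgroup.topEquiv (G := G)).symm.toMonoidHom
        (Subgroup.topEquiv (G := G)).symm.surjective
        (Fusion.hasNormalPComplement_of_normalizer_le_centralizer P (Subgroup.relIndex_eq_one.1 h1)))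
    rw [← h]
    infer_instance
  have h3 : (C[(P : Subgroup G)]).relIndex (Subgroup.normalizer ((P : Subgroup G) : Set G)) = 3 := by
    obtain ⟨k, hk⟩ := hodd
    omega
  obtain ⟨χ, hχ, hχ1, hdeg, hval⟩ := homocyclic_linear hM hfree h3 hq hinv hu
  obtain ⟨K, hK⟩ : ∃ K, K = Char.charKer χ.2.isCharacter := ⟨_, rfl⟩
  have hmem : ∀ g, g ∈ K ↔ (χ : G → ℂ) g = 1 := fun g => by
    rw [hK, Char.mem_charKer, hdeg]
  haveI hKn : K.Normal := hK ▸ Char.charKer_normal χ.2.isCharacter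
  have hPK : (P : Subgroup G) ≤ K := fun v hv => (hmem v).2 (by
    by_cases hv1 : v = 1
    · rw [hv1, hdeg]
    · exact hval v hv hv1)
  have hCK : C[(P : Subgroup G)] ≤ K := by
    intro c hc
    obtain ⟨z, hz, hcm, ⟨k, hk⟩, hzr⟩ := isPPart_pPt (p := 2) c
    have hzP : ∀ s ∈ C[(P : Subgroup G)], (∃ k : ℕ, orderOf s = 2 ^ k) → s ∈ (P : Subgroup G) := by
      intro s hs hsp
      obtain ⟨m, hm⟩ := hsp
      have hp : IsPGroup 2 ↥((P : Subgroup G) ⊔ Subgroup.zpowers s) :=
        P.isPGroup'.to_sup_of_normal_left'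
          (IsPGroup.of_card (n := m) (by rw [Nat.card_zpowers, hm]))
          (Subgroup.zpowers_le.2 (hCN hs))
      rw [← P.is_maximal' hp le_sup_left]
      exact Subgroup.mem_sup_right (Subgroup.mem_zpowers s)
    have hpc : pPt 2 c ∈ C[(P : Subgroup G)] :=
      Subgroup.zpowers_le.2 hc (pPt_mem_zpowers c)
    have hzC : z ∈ C[(P : Subgroup G)] := by
      have : z = (pPt 2 c)⁻¹ * c := by rw [eq_inv_mul_iff_mul_eq, hz]
      rw [this]
      exact mul_mem (inv_mem hpc) hc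
    have hu1 : (u : G) ≠ 1 := fun h => hu (by rw [show u = 1 from Subtype.ext h, one_pow])
    have hlin : ∀ a b : G, (χ : G → ℂ) (a * b) = (χ : G → ℂ) a * (χ : G → ℂ) b := fun a b => by
      obtain ⟨φ, hφ⟩ := Char.exists_hom_of_degree_one χ.2.isCharacter hdeg
      simp [hφ]
    have hzK : z ∈ K := (hmem z).2 (by
      have h := principal_value_free hM hfree hχ u.2 hu1
        (Subgroup.mem_centralizer_iff.1 hzC u u.2) hzr
      rwa [hlin, hval u u.2 hu1, one_mul] at h)
    rw [← hz]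
    exact mul_mem (hPK (hzP _ hpc ⟨k, hk⟩)) hzK
  have hKne : K ≠ ⊤ := fun h => hχ1 (Subtype.ext (funext fun g => by
    rw [trivChar_coe]; exact (hmem g).1 (h ▸ Subgroup.mem_top g)))
  have hfrat : K ⊔ Subgroup.normalizer ((P : Subgroup G) : Set G) = ⊤ := by
    have h := Sylow.normalizer_sup_eq_top (P.subtype hPK)
    rw [Sylow.coe_subtype, Subgroup.map_subgroupOf_eq_of_le hPK] at h
    rw [sup_comm, h]
  have hNK : ∀ g ∈ Subgroup.normalizer ((P : Subgroup G) : Set G), g ∈ K → g ∈ C[(P : Subgroup G)] := by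
    intro g hg hgK
    by_contra hgC
    refine hKne (eq_top_iff.2 (hfrat.ge.trans (sup_le le_rfl ?_)))
    intro x hx
    haveI : ((C[(P : Subgroup G)]).subgroupOf
        (Subgroup.normalizer ((P : Subgroup G) : Set G))).Normal :=
      Subgroup.normal_subgroupOf_of_le_normalizer fun z hz => mem_normalizer_centralizer hz
    haveI : Fact (Nat.Prime 3) := ⟨Nat.prime_three⟩
    obtain ⟨i, hi⟩ := Subgroup.mem_zpowers_iff.1 (mem_zpowers_of_prime_card (p := 3) h3
      (g := ((⟨g, hg⟩ : Subgroup.normalizer ((P : Subgroup G) : Set G)) : _ ⧸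
        (C[(P : Subgroup G)]).subgroupOf (Subgroup.normalizer ((P : Subgroup G) : Set G))))
      (g' := ((⟨x, hx⟩ : Subgroup.normalizer ((P : Subgroup G) : Set G)) : _ ⧸
        (C[(P : Subgroup G)]).subgroupOf (Subgroup.normalizer ((P : Subgroup G) : Set G))))
      fun h => hgC (Subgroup.mem_subgroupOf.1 ((QuotientGroup.eq_one_iff _).1 h)))
    rw [← QuotientGroup.mk_zpow, QuotientGroup.eq] at hi
    have hi' : (g ^ i)⁻¹ * x ∈ C[(P : Subgroup G)] := Subgroup.mem_subgroupOf.1 hi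
    have := mul_mem (zpow_mem hgK i) (hCK hi')
    rwa [mul_inv_cancel_left] at this
  have hKP : K = (P : Subgroup G) := by
    refine eq_sylow_of_complement P hO K hKn hPK
      (Fusion.hasNormalPComplement_of_normalizer_le_centralizer (P.subtype hPK) fun g hg => ?_)
    rw [Sylow.coe_subtype] at hg ⊢
    have hgN : (g : G) ∈ Subgroup.normalizer ((P : Subgroup G) : Set G) := by
      refine Subgroup.mem_normalizer_iff.2 fun x => ⟨fun hx => ?_, fun hx => ?_⟩
      · exact (Subgroup.mem_normalizer_iff.1 hg ⟨x, hPK hx⟩).1 hx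
      · have hxK : x ∈ K := by
          have h := K.mul_mem (K.mul_mem (K.inv_mem g.2) (hPK hx)) g.2
          simpa [mul_assoc] using h
        exact (Subgroup.mem_normalizer_iff.1 hg ⟨x, hxK⟩).2 hx
    exact Subgroup.mem_centralizer_iff.2 fun x hx =>
      Subtype.ext (Subgroup.mem_centralizer_iff.1 (hNK g hgN g.2) (x : G) hx)
  exact hKP ▸ hKn

end Cfsg.Lib.Block
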