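import Cfsg.Agent.Lib.Block.DefectLocal
import Cfsg.Agent.Lib.Block.RegInt

/-!
# Consequences of the first main theorem

Central characters and the centre of a defect group, and Knörr's vanishing criterion.
-/

set_option autoImplicit false
set_option linter.unusedSectionVars false

namespace Cfsg.Lib.Block

open Cfsg
open scoped ComplexConjugate

universe u

variable {p : ℕ} {M : Ideal AlgInt} {G : Type u} [Group G] [Fintype G] [Fact p.Prime]
  (hM : IsPModular p M)

theorem coe_pPt {H : Subgroup G} (h : H) : ((pPt p h : H) : G) = pPt p (h : G) := by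
  obtain ⟨k, hk⟩ := exists_orderOf_pPt (p := p) h
  refine eq_pPt (y := ((pReg p h : H) : G)) ?_ ?_ (k := k) ?_ ?_
  · exact congrArg Subtype.val (pPt_mul_pReg (p := p) h)
  · exact (pPt_commute_pReg (p := p) h).map H.subtype
  · rw [orderOf_submonoid, hk]
  · rw [orderOf_submonoid]; exact not_dvd_orderOf_pReg h

include hM in
open Classical in
/-- A class with unit central character meets the centralizer of the defect group, in an element
whose `p`-part lies in it. -/
theorem exists_conj_pPt_mem {B : Set (IrrCharacter G)} (hB : IsPBlock M B) {D : Subgroup G}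
    (hD : IsDefectGroup p M B D) {χ : IrrCharacter G} (hχ : χ ∈ B) {g : G}
    (hne : ¬ MemLocalIdeal M (centralChar (χ : G → ℂ) g)) :
    ∃ x : G, IsConj g x ∧ x ∈ Subgroup.centralizer (D : Set G) ∧ pPt p x ∈ D := by
  haveI := Fintype.ofFinite (Subgroup.normalizer (D : Set G))
  have hDp := isPGroup_defectGroup hM hD
  obtain ⟨b, hind, hbD, -⟩ := exists_normalizer_block hM hB hD
  obtain ⟨ξ, hξ⟩ := nonempty_of_isPBlock hM hind.1
  have hCN : Subgroup.centralizer (D : Set G) ≤ Subgroup.normalizer (D : Set G) :=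
    Subgroup.centralizer_le_normalizer _
  have h1 := (brRel_iff_centralChar hM hDp hCN le_rfl ξ χ).1
    (brRel_of_isInducedBlock hM hDp Subgroup.le_normalizer hCN le_rfl hind hξ hχ) g
  rw [brauerCentralChar_eq] at h1
  have h2 : ¬ MemLocalIdeal M (brVec D (Subgroup.normalizer (D : Set G))
      (fun χ : IrrCharacter G => centralChar (χ : G → ℂ) g) ξ) := fun h => hne (by
    have := memLocalIdeal_sub hM h h1
    rwa [sub_sub_cancel] at this)
  obtain ⟨h, hh, hω⟩ := exists_coeff_centralChar hM
    (vInt_brVec hM le_rfl (vInt_centralChar hM g)) h2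
  rw [zc_brVec le_rfl] at hh
  have hhC : (h : G) ∈ Subgroup.centralizer (D : Set G) := by
    by_contra hn
    exact hh (brF_of_notMem (f := zc fun χ : IrrCharacter G => centralChar (χ : G → ℂ) g) hn ▸
      memLocalIdeal_zero hM)
  rw [brF_of_mem hhC, zc_centralChar] at hh
  have hc : IsConj g (h : G) := by
    by_contra hn
    exact hh (by rw [if_neg hn]; exact memLocalIdeal_zero hM)
  refine ⟨h, hc, hhC, ?_⟩
  haveI : (D.subgroupOf (Subgroup.normalizer (D : Set G))).Normal := Subgroup.normal_in_normalizer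
  by_contra hn
  refine hω (centralChar_mem_ideal_of_normal_pPt hM
    (Q := D.subgroupOf (Subgroup.normalizer (D : Set G))) hDp.comap_subtype hind.1
    (card_defectGroup hM hind.1 hbD).ge hξ fun hmem => hn ?_)
  rw [← coe_pPt]
  exact Subgroup.mem_subgroupOf.1 hmem

theorem commute_of_mem_centralizer_of_mem_zpowers {S : Set G} {x z : G}
    (hx : x ∈ Subgroup.centralizer S) (hz : z ∈ Subgroup.zpowers x) {w : G} (hw : w ∈ S) :
    z * w = w * z :=
  (Subgroup.mem_centralizer_iff.1 ((Subgroup.zpowers_le.2 hx) hz) w hw).symm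

include hM in
/-- Height zero characters are units at defect classes. -/
theorem charVal_defectClass_not_mem {B : Set (IrrCharacter G)} (hB : IsPBlock M B) {y : G}
    (hy : IsDefectClass M B y) {χ : IrrCharacter G} (hχ : χ ∈ B)
    (h0 : blockHeight p B (χ : G → ℂ) = 0) : ¬ MemLocalIdeal M ((χ : G → ℂ) y) := by
  have hv := (blockHeight_eq_zero_iff hχ).1 h0
  have hd := blockDefect_add_minVal (p := p) (nonempty_of_isPBlock hM hB)
  have hcy := factorization_cenCard_defectClass hM hB hy
  have hne : charDegree (χ : G → ℂ) * cenCard y ≠ 0 :=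
    Nat.mul_ne_zero (charDegree_pos χ).ne' (cenCard_pos y).ne'
  rw [charVal_eq χ y]
  refine mul_not_ideal hM (centralChar_mem_locRing hM χ y)
    (natCast_div_mem hM Nat.card_pos.ne' (Or.inr ?_)) (hy.2.2 χ hχ)
    (natCast_div_not_ideal hM hne Nat.card_pos.ne' ?_) <;>
  · rw [factorization_deg_mul_cen]; omega

include hM in
/-- Products of a defect class with an element of its defect group. -/
theorem charVal_mul_defectClass_not_mem {B : Set (IrrCharacter G)} (hB : IsPBlock M B) {y : G}
    (hy : IsDefectClass M B y) (P : Sylow p (Subgroup.centralizer ({y} : Set G))) {x : G}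
    (hx : x ∈ cenSyl y P) :
    (∀ χ ∈ B, blockHeight p B (χ : G → ℂ) = 0 →
      ¬ MemLocalIdeal M ((χ : G → ℂ) (x * y))) ∧
    ((∀ w ∈ cenSyl y P, x * w = w * x) →
      ∀ χ ∈ B, ¬ MemLocalIdeal M (centralChar (χ : G → ℂ) (x * y))) := by
  have hcomm : Commute x y := (Subgroup.mem_centralizer_iff.1 (cenSyl_le y P hx) y rfl).symm
  obtain ⟨k, hk⟩ : ∃ k, orderOf x = p ^ k :=
    exists_orderOf_eq_pow_of_mem (isPGroup_cenSyl y P) hx
  have hreg := not_dvd_orderOf_defectClass hM hB hy
  have hpr : pReg p (x * y) = y := (eq_pReg rfl hcomm hk hreg).symm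
  have hval : ∀ χ ∈ B, blockHeight p B (χ : G → ℂ) = 0 →
      ¬ MemLocalIdeal M ((χ : G → ℂ) (x * y)) := fun χ hχ h0 h => by
    have h1 := charVal_sub_pReg_mem (p := p) hM χ.2.isCharacter (x * y)
    rw [hpr] at h1
    have := memLocalIdeal_sub hM h h1
    rw [sub_sub_cancel] at this
    exact charVal_defectClass_not_mem hM hB hy hχ h0 this
  refine ⟨hval, fun hc χ hχ => ?_⟩
  obtain ⟨ψ, hψ, hψmin⟩ := exists_minVal (p := p) (nonempty_of_isPBlock hM hB)
  have h0 : blockHeight p B (ψ : G → ℂ) = 0 := (blockHeight_eq_zero_iff hψ).2 hψmin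
  have hd := blockDefect_add_minVal (p := p) (nonempty_of_isPBlock hM hB)
  have hcxy : (cenCard (x * y)).factorization p = blockDefect p B := by
    have hle : Subgroup.centralizer ({x * y} : Set G) ≤ Subgroup.centralizer ({y} : Set G) :=
      fun w hw => Subgroup.mem_centralizer_iff.2 fun z hz => by
        rw [Set.mem_singleton_iff] at hz
        rw [hz, ← hpr]
        exact Commute.eq (Subgroup.mem_centralizer_iff.1
          (Subgroup.zpowers_le.2 (Subgroup.mem_centralizer_iff.2 fun a ha => by
            rw [Set.mem_singleton_iff] at ha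
            rw [ha]; exact (Subgroup.mem_centralizer_iff.1 hw (x * y) rfl).symm :
              x * y ∈ Subgroup.centralizer ({w} : Set G))
            (pReg_mem_zpowers (p := p) (x * y))) w rfl).symm
    have hge : cenSyl y P ≤ Subgroup.centralizer ({x * y} : Set G) := fun w hw =>
      Subgroup.mem_centralizer_iff.2 fun z hz => by
        rw [Set.mem_singleton_iff] at hz
        rw [hz]
        exact (Commute.mul_left (hc w hw) (Subgroup.mem_centralizer_iff.1 (cenSyl_le y P hw) y rfl)).eq
    have h1 : (cenCard (x * y)).factorization p ≤ (cenCard y).factorization p :=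
      (Nat.factorization_le_iff_dvd (cenCard_pos _).ne' (cenCard_pos _).ne').2
        (Subgroup.card_dvd_of_le hle) p
    have h2 := Subgroup.card_dvd_of_le hge
    rw [card_defectGroup hM hB (isDefectGroup_iff.2 ⟨y, hy, P, rfl⟩)] at h2
    have h3 := (Nat.Prime.pow_dvd_iff_le_factorization Fact.out (cenCard_pos (x * y)).ne').1 h2
    rw [factorization_cenCard_defectClass hM hB hy] at h1
    omega
  have hne : charDegree (ψ : G → ℂ) * cenCard (x * y) ≠ 0 :=
    Nat.mul_ne_zero (charDegree_pos ψ).ne' (cenCard_pos _).ne'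
  intro h
  refine hval ψ hψ h0 ?_
  rw [charVal_eq ψ (x * y)]
  refine memLocalIdeal_mul_right hM ?_ (natCast_div_mem hM Nat.card_pos.ne' (Or.inr ?_))
  · have := memLocalIdeal_add hM
      (apply_sub_apply_mem hM (vInt_centralChar hM (x * y)) (sameBlock_of_mem hM hB hψ hχ)) h
    simpa using this
  · rw [factorization_deg_mul_cen]; omega

include hM in
open Classical in
/-- Central elements of a defect group of an induced block fuse into the inducing defect group. -/
theorem exists_conj_center_of_induced {H : Subgroup G} [Fintype H] {b : Set (IrrCharacter H)}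
    {B : Set (IrrCharacter G)} (hind : IsInducedBlock M H b B) {D : Subgroup H}
    (hD : IsDefectGroup p M b D) {P : Subgroup G} (hP : IsDefectGroup p M B P) {x : G}
    (hx : x ∈ P) (hxc : ∀ w ∈ P, x * w = w * x) :
    ∃ g : G, g * x * g⁻¹ ∈ D.map H.subtype ∧
      ∀ w ∈ D.map H.subtype, (g * x * g⁻¹) * w = w * (g * x * g⁻¹) := by
  obtain ⟨y, hy, S, rfl⟩ := isDefectGroup_iff.1 hP
  obtain ⟨ξ, hξ⟩ := nonempty_of_isPBlock hM hind.1
  obtain ⟨χ, hχ⟩ := nonempty_of_isPBlock hM hind.2.1
  have hω := (charVal_mul_defectClass_not_mem hM hind.2.1 hy S hx).2 hxc χ hχ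
  have hv := vInt_centralChar hM (x * y)
  have hc : IsClassFunction H (fun h : H => zc (fun χ : IrrCharacter G =>
      centralChar (χ : G → ℂ) (x * y)) h) := fun h k =>
    zc_conj_invariant _ (h : G) (k : G)
  have h2 : ¬ MemLocalIdeal M (vec (fun h : H => zc (fun χ : IrrCharacter G =>
      centralChar (χ : G → ℂ) (x * y)) h) ξ) := fun h => hω (by
    have := memLocalIdeal_sub hM h (vec_restrict_sub_mem hM hind hξ hχ hv)
    rwa [sub_sub_cancel] at this)
  obtain ⟨h, h1, hω'⟩ := exists_coeff_centralChar hM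
    (fun k => by rw [zc_vec hc]; exact hv _) h2
  rw [zc_vec hc, zc_centralChar] at h1
  have hconj : IsConj (x * y) (h : G) := by
    by_contra hn
    exact h1 (by rw [if_neg hn]; exact memLocalIdeal_zero hM)
  obtain ⟨k, hhk, hkC, hkD⟩ := exists_conj_pPt_mem hM hind.1 hD hξ hω'
  have hck : IsConj (x * y) (k : G) := hconj.trans (H.subtype.map_isConj hhk)
  obtain ⟨g, hg⟩ := isConj_iff.1 hck
  have hcomm : Commute x y := (Subgroup.mem_centralizer_iff.1 (cenSyl_le y S hx) y rfl).symm
  obtain ⟨e, he⟩ : ∃ e, orderOf x = p ^ e :=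
    exists_orderOf_eq_pow_of_mem (isPGroup_cenSyl y S) hx
  have hxy : pPt p (x * y) = x :=
    (eq_pPt rfl hcomm he (not_dvd_orderOf_defectClass hM hind.2.1 hy)).symm
  have hgx : g * x * g⁻¹ = ((pPt p k : H) : G) := by
    rw [coe_pPt, ← hg, pPt_conj, hxy]
  refine ⟨g, hgx ▸ ⟨pPt p k, hkD, rfl⟩, ?_⟩
  rintro _ ⟨w, hw, rfl⟩
  rw [hgx]
  exact congrArg Subtype.val
    (commute_of_mem_centralizer_of_mem_zpowers hkC (pPt_mem_zpowers k) hw)

include hM in
/-- Induction preserves and reflects defect zero. -/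
theorem blockDefect_eq_zero_iff_of_induced {H : Subgroup G} [Fintype H]
    {b : Set (IrrCharacter H)} {B : Set (IrrCharacter G)} (hind : IsInducedBlock M H b B) :
    blockDefect p b = 0 ↔ blockDefect p B = 0 := by
  refine ⟨fun h0 => ?_, fun h => Nat.le_zero.1 (h ▸ blockDefect_le_of_induced hM hind)⟩
  obtain ⟨D, hD⟩ := exists_defectGroup hM hind.1
  obtain ⟨P, hP⟩ := exists_defectGroup hM hind.2.1
  have hDbot : D = ⊥ := Subgroup.card_eq_one.1 (by rw [card_defectGroup hM hind.1 hD, h0, pow_zero])
  by_contra hne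
  haveI : Nontrivial P := by
    rw [← Finite.one_lt_card_iff_nontrivial, card_defectGroup hM hind.2.1 hP]
    exact Nat.one_lt_pow hne (Fact.out : p.Prime).one_lt
  haveI := (isPGroup_defectGroup hM hP).center_nontrivial
  obtain ⟨⟨x, hxc⟩, hx1⟩ := exists_ne (1 : Subgroup.center P)
  obtain ⟨g, hg, -⟩ := exists_conj_center_of_induced hM hind hD hP x.2 fun w hw =>
    congrArg Subtype.val (Subgroup.mem_center_iff.1 hxc ⟨w, hw⟩).symm
  rw [hDbot, Subgroup.map_bot, Subgroup.mem_bot] at hg
  refine hx1 (Subtype.ext (Subtype.ext ?_))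
  have := congrArg (fun t => g⁻¹ * t * g) hg
  simpa [mul_assoc] using this

/-- Elements of order `p` in a nontrivial `p`-group's centre are not divisible by `p` in number. -/
theorem exists_class_count_not_dvd {D : Subgroup G} (hD : IsPGroup p D) (hne : D ≠ ⊥) :
    ∃ z : G, orderOf z = p ∧ ¬ p ∣ Nat.card {h : G // h ∈ D ∧
      h ∈ Subgroup.centralizer (D : Set G) ∧ IsConj z h} := by
  classical
  haveI : Finite (ConjClasses G) := Quotient.finite _
  haveI := Fintype.ofFinite (ConjClasses G)
  have hp : p.Prime := Fact.out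
  let T : Finset G := Finset.univ.filter fun h =>
    h ∈ D ∧ h ∈ Subgroup.centralizer (D : Set G) ∧ h ^ p = 1
  let Z : Subgroup G :=
    { carrier := {h | h ∈ D ∧ h ∈ Subgroup.centralizer (D : Set G) ∧ h ^ p = 1}
      one_mem' := ⟨one_mem _, one_mem _, one_pow _⟩
      mul_mem' := fun {a b} ha hb => ⟨mul_mem ha.1 hb.1, mul_mem ha.2.1 hb.2.1, by
        rw [Commute.mul_pow (show Commute a b from
          (Subgroup.mem_centralizer_iff.1 hb.2.1 a ha.1)), ha.2.2, hb.2.2, one_mul]⟩
      inv_mem' := fun {a} ha => ⟨inv_mem ha.1, inv_mem ha.2.1, by rw [inv_pow, ha.2.2, inv_one]⟩ }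
  haveI : Nontrivial D := (Subgroup.nontrivial_iff_ne_bot D).2 hne
  haveI := hD.center_nontrivial
  have hdvd : p ∣ Nat.card (Subgroup.center D) := by
    obtain ⟨n, hn⟩ := IsPGroup.iff_card.1 (hD.to_subgroup (Subgroup.center D))
    rcases Nat.eq_zero_or_pos n with rfl | hn0
    · rw [pow_zero] at hn
      exact absurd hn (Finite.one_lt_card_iff_nontrivial.2 inferInstance).ne'
    · exact hn ▸ dvd_pow_self p hn0.ne'
  obtain ⟨c, hc⟩ := exists_prime_orderOf_dvd_card' p hdvd
  have hcZ : ((c : D) : G) ∈ Z := ⟨(c : D).2, Subgroup.mem_centralizer_iff.2 fun w hw =>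
      congrArg Subtype.val (Subgroup.mem_center_iff.1 c.2 ⟨w, hw⟩), by
    rw [← hc, ← SubmonoidClass.coe_pow, ← SubmonoidClass.coe_pow, pow_orderOf_eq_one]; rfl⟩
  have hoc : orderOf ((c : D) : G) = p := by rw [orderOf_submonoid, orderOf_submonoid, hc]
  have hTcard : T.card = Nat.card Z := by
    rw [Nat.card_eq_fintype_card, Fintype.card_of_subtype T (fun x => by simp [T, Z])]
  have hpT : p ∣ T.card := by
    rw [hTcard, ← hoc, ← Subgroup.orderOf_mk ((c : D) : G) hcZ]
    exact orderOf_dvd_natCard _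
  by_contra h
  simp only [not_exists, not_and, not_not] at h
  have h1 : ∀ C : ConjClasses G, C ≠ ConjClasses.mk 1 →
      p ∣ (T.filter fun a => ConjClasses.mk a = C).card := by
    intro C hC
    rcases (T.filter fun a => ConjClasses.mk a = C).eq_empty_or_nonempty with he | ⟨z, hz⟩
    · simp [he]
    · simp only [Finset.mem_filter, T, Finset.mem_univ, true_and] at hz
      obtain ⟨⟨hzD, hzC, hzp⟩, rfl⟩ := hz
      have hz1 : z ≠ 1 := fun he => hC (by rw [he])
      have hzord : orderOf z = p := orderOf_eq_prime hzp hz1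
      refine (h z hzord).trans (dvd_of_eq ?_)
      rw [Nat.card_eq_fintype_card, Fintype.card_of_subtype
        (T.filter fun a => ConjClasses.mk a = ConjClasses.mk z) fun x => ?_]
      simp only [Finset.mem_filter, T, Finset.mem_univ, true_and, ConjClasses.mk_eq_mk_iff_isConj]
      refine ⟨fun hx => ⟨hx.1.1, hx.1.2.1, hx.2.symm⟩, fun hx => ⟨⟨hx.1, hx.2.1, ?_⟩, hx.2.2.symm⟩⟩
      obtain ⟨t, rfl⟩ := isConj_iff.1 hx.2.2
      rw [conj_pow, hzp, mul_one, mul_inv_cancel]
  have h2 : (T.filter fun a => ConjClasses.mk a = ConjClasses.mk (1 : G)) = {1} := by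
    ext x
    simp only [Finset.mem_filter, T, Finset.mem_univ, true_and, ConjClasses.mk_eq_mk_iff_isConj,
      isConj_one_left, Finset.mem_singleton]
    exact ⟨fun hx => hx.2, fun hx => by subst hx; exact ⟨⟨one_mem _, one_mem _, one_pow _⟩, rfl⟩⟩
  have hs := Finset.card_eq_sum_card_fiberwise (s := T) (t := Finset.univ)
    (f := ConjClasses.mk) fun x _ => Finset.mem_univ _
  rw [← Finset.sum_erase_add _ _ (Finset.mem_univ (ConjClasses.mk (1 : G))), h2,
    Finset.card_singleton] at hs
  have h3 : p ∣ ∑ C ∈ (Finset.univ : Finset (ConjClasses G)).erase (ConjClasses.mk 1),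
      (T.filter fun a => ConjClasses.mk a = C).card :=
    Finset.dvd_sum fun C hC => h1 C (Finset.ne_of_mem_erase hC)
  exact hp.one_lt.ne' (Nat.dvd_one.1 ((Nat.dvd_add_right h3).1 (hs ▸ hpT)))

include hM in
open Classical in
/-- Knörr: a character vanishing on elements of order `p` has defect zero. -/
theorem blockDefect_eq_zero_of_vanish (χ : IrrCharacter G)
    (hvan : ∀ g : G, orderOf g = p → (χ : G → ℂ) g = 0) :
    blockDefect p (blockOf M (χ : G → ℂ)) = 0 := by
  have hB : IsPBlock M (blockOf M (χ : G → ℂ)) := isPBlock_blockOf χ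
  by_contra hne
  obtain ⟨D, hD⟩ := exists_defectGroup hM hB
  have hDp := isPGroup_defectGroup hM hD
  obtain ⟨z, hz, hcount⟩ := exists_class_count_not_dvd hDp fun h => hne <| by
    have := card_defectGroup hM hB hD
    rw [h, Subgroup.card_bot] at this
    exact ((Nat.pow_eq_one.1 this.symm).resolve_left (Fact.out : p.Prime).ne_one)
  haveI := Fintype.ofFinite (Subgroup.normalizer (D : Set G))
  obtain ⟨b, hind, hbD, -⟩ := exists_normalizer_block hM hB hD
  haveI : (D.subgroupOf (Subgroup.normalizer (D : Set G))).Normal := Subgroup.normal_in_normalizer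
  obtain ⟨ψ, hψb, hψ⟩ := exists_trivial_on_mem hM
    (Q := D.subgroupOf (Subgroup.normalizer (D : Set G))) hDp.comap_subtype hind.1
  have hCN : Subgroup.centralizer (D : Set G) ≤ Subgroup.normalizer (D : Set G) :=
    Subgroup.centralizer_le_normalizer _
  have h1 := (brRel_iff_centralChar hM hDp hCN le_rfl ψ χ).1
    (brRel_of_isInducedBlock hM hDp Subgroup.le_normalizer hCN le_rfl hind hψb
      (self_mem_blockOf hM χ)) z
  rw [show centralChar (χ : G → ℂ) z = 0 by simp [centralChar, hvan z hz], sub_zero] at h1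
  let f : Subgroup.normalizer (D : Set G) → ℂ := fun h =>
    if IsConj z (h : G) ∧ (h : G) ∈ Subgroup.centralizer (D : Set G) ∧ (h : G) ∉ D then 1 else 0
  have hfc : IsClassFunction _ f := fun h k => by
    simp only [f, Subgroup.coe_mul, InvMemClass.coe_inv]
    refine if_congr (and_congr ?_ (and_congr ?_ (not_congr ?_))) rfl rfl
    · exact ⟨fun hc => hc.trans (isConj_iff.2 ⟨(k : G), rfl⟩).symm,
        fun hc => hc.trans (isConj_iff.2 ⟨(k : G), rfl⟩)⟩
    · exact centralizer_conj_mem_iff k.2
    · exact (Subgroup.mem_normalizer_iff.1 k.2 _).symm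
  have h2 : MemLocalIdeal M (vec f ψ) := by
    haveI : Finite (ConjClasses (Subgroup.normalizer (D : Set G))) := Quotient.finite _
    haveI := Fintype.ofFinite (ConjClasses (Subgroup.normalizer (D : Set G)))
    rw [sum_mul_char_eq hfc]
    refine memLocalIdeal_sum hM _ _ fun C _ => ?_
    by_cases hC : IsConj z ((C.out : Subgroup.normalizer (D : Set G)) : G) ∧
        ((C.out : Subgroup.normalizer (D : Set G)) : G) ∈ Subgroup.centralizer (D : Set G) ∧
        ((C.out : Subgroup.normalizer (D : Set G)) : G) ∉ D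
    · simp only [f, if_pos hC, one_mul]
      refine centralChar_mem_ideal_of_normal_pPt hM
        (Q := D.subgroupOf (Subgroup.normalizer (D : Set G))) hDp.comap_subtype hind.1
        (card_defectGroup hM hind.1 hbD).ge hψb fun hmem => hC.2.2 ?_
      have hpp : pPt p ((C.out : Subgroup.normalizer (D : Set G)) : G) =
          ((C.out : Subgroup.normalizer (D : Set G)) : G) := by
        obtain ⟨t, ht⟩ := isConj_iff.1 hC.1
        refine (eq_pPt (mul_one _) (Commute.one_right _) (k := 1) ?_ ?_).symm
        · rw [← ht, pow_one]; exact ((MulAut.conj t).orderOf_eq z).trans hz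
        · simpa using (Fact.out : p.Prime).ne_one
      rw [← hpp, ← coe_pPt]
      exact Subgroup.mem_subgroupOf.1 hmem
    · simp only [f, if_neg hC, zero_mul]
      exact memLocalIdeal_zero hM
  have e : brauerCentralChar D (Subgroup.normalizer (D : Set G))
      (ψ : Subgroup.normalizer (D : Set G) → ℂ) z =
      (Nat.card {h : G // h ∈ D ∧ h ∈ Subgroup.centralizer (D : Set G) ∧ IsConj z h} : ℂ) +
        vec f ψ := by
    have hbij : Nat.card {h : G // h ∈ D ∧ h ∈ Subgroup.centralizer (D : Set G) ∧ IsConj z h} =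
        (Finset.univ.filter fun h : Subgroup.normalizer (D : Set G) =>
          IsConj z (h : G) ∧ (h : G) ∈ Subgroup.centralizer (D : Set G) ∧ (h : G) ∈ D).card := by
      rw [← Fintype.card_subtype, ← Nat.card_eq_fintype_card]
      exact Nat.card_congr
        { toFun := fun h => ⟨⟨h.1, Subgroup.le_normalizer h.2.1⟩, h.2.2.2, h.2.2.1, h.2.1⟩
          invFun := fun h => ⟨h.1, h.2.2.2, h.2.2.1, h.2.1⟩
          left_inv := fun _ => rfl
          right_inv := fun _ => rfl }
    rw [hbij, ← Finset.sum_boole, brauerCentralChar,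
      finsum_mem_eq_finite_toFinset_sum _ (Set.toFinite _), vec, Finset.sum_div,
      ← Finset.sum_add_distrib,
      ← Finset.sum_subset (Finset.subset_univ _) (s₁ := (Set.toFinite {h : Subgroup.normalizer
          (D : Set G) | IsConj z (h : G) ∧ (h : G) ∈ Subgroup.centralizer (D : Set G)}).toFinset)
        fun h _ hh => ?_]
    · refine Finset.sum_congr rfl fun h hh => ?_
      simp only [Set.Finite.mem_toFinset, Set.mem_setOf_eq] at hh
      by_cases hd : (h : G) ∈ D
      · have hv := hψ h (Subgroup.mem_subgroupOf.2 hd)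
        simp [f, hh.2, hd, hv, ψ.2.apply_one_ne_zero, isConj_iff.1 hh.1]
      · simp [f, hh.2, hd, isConj_iff.1 hh.1]
    · simp only [Set.Finite.mem_toFinset, Set.mem_setOf_eq, not_and] at hh
      simp only [f]
      rw [if_neg fun h' => hh h'.1 h'.2.1, if_neg fun h' => hh h'.1 h'.2.1]
      simp
  rw [e] at h1
  have := memLocalIdeal_sub hM h1 h2
  rw [add_sub_cancel_right, memLocalIdeal_natCast_iff hM] at this
  exact hcount this

end Cfsg.Lib.Block
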