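import Cfsg.Agent.Lib.Block.CyclicPrimeValues
import Cfsg.Agent.Lib.Block.ThirdMain

/-!
# Groups with a Sylow subgroup of order `p`: stabilizers and the principal block
-/

set_option autoImplicit false
set_option linter.unusedSectionVars false
set_option maxHeartbeats 1000000

namespace Cfsg.Lib.Block

open Cfsg
open scoped ComplexConjugate

universe u

noncomputable local instance (priority := high) fintypeSubgroupCyclicPrimeApps {A : Type u}
    [Group A] [Fintype A] (H : Subgroup A) : Fintype H := Fintype.ofFinite H

local notation "C[" P "]" => Subgroup.centralizer (SetLike.coe P)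

variable {p : ℕ} [Fact p.Prime] {M : Ideal AlgInt} {G : Type u} [Group G] [Fintype G]
  (hM : IsPModular p M) {B : Set (IrrCharacter G)} {P : Subgroup G}
  {b : Set (IrrCharacter C[P])}

include hM in
/-- In a normalizer, stabilizing the root and fixing its member trivial on `P` are the same. -/
theorem stabilizes_iff_fix (hB : IsPBlock M B) (hD : IsDefectGroup p M B P)
    (hcard : Nat.card P = p) (hind : IsInducedBlock M C[P] b B) {θ : IrrCharacter C[P]}
    (hθ : θ ∈ b) (hθP : ∀ z : C[P], (z : G) ∈ P → (θ : C[P] → ℂ) z = (θ : C[P] → ℂ) 1) {g : G}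
    (hg : g ∈ Subgroup.normalizer (P : Set G)) :
    StabilizesBlock C[P] b g ↔ ∀ c c' : C[P], (c' : G) = g * c * g⁻¹ →
      (θ : C[P] → ℂ) c' = (θ : C[P] → ℂ) c := by
  refine ⟨fun h c c' e => root_trivial_fixed hM hB hD hcard hind hθ hθP hg h c c' e, fun h => ?_⟩
  have D := cycSystem hM hB hD hcard hind
  have hgK : g ∈ Subgroup.normalizer ((C[P] : Subgroup G) : Set G) :=
    Subgroup.mem_normalizer_iff.2 (D.conjMaps_of_normalizer hg)
  refine (stabilizesBlock_iff hgK).2 ?_
  have hm : θ ∈ conjSet (conjMaps_normalizer hgK) b := by
    show compIrr (conjIso (conjMaps_normalizer hgK)).symm.symm θ ∈ b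
    rw [MulEquiv.symm_symm]
    convert hθ using 1
    exact Subtype.ext (funext fun k => h k _ rfl)
  exact isPBlock_eq_of_mem hM (isPBlock_conjSet _ hind.1) hind.1 hm hθ

include hM in
/-- The defect groups of the principal block are the Sylow subgroups. -/
theorem isDefectGroup_principal_sylow (S : Sylow p G) :
    IsDefectGroup p M (principalBlock M G) S := by
  have hB : IsPBlock M (principalBlock M G) := isPBlock_principal
  have hm : trivChar G ∈ principalBlock M G := trivChar_mem_principal hM
  have h0 : minVal p (principalBlock M G) = 0 := by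
    have h := minVal_le (p := p) hm
    rw [charDegree_eq_of_apply_one (χ := ((trivChar G : IrrCharacter G) : G → ℂ)) (n := 1)
      (by rw [trivChar_coe, Nat.cast_one]), Nat.factorization_one] at h
    simpa using h
  have hd := blockDefect_add_minVal (p := p) (nonempty_of_isPBlock hM hB)
  rw [h0, add_zero] at hd
  obtain ⟨D, hD⟩ := exists_defectGroup hM hB
  have hc := card_defectGroup hM hB hD
  rw [hd] at hc
  let D' : Sylow p G := Sylow.ofCard D hc
  obtain ⟨x, hx⟩ := MulAction.exists_smul_eq G D' S
  have h := isDefectGroup_conj hM hB hD x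
  rwa [← hx, Sylow.coe_subgroup_smul]

include hM in
/-- The principal block of the centralizer is the only one inducing the principal block. -/
theorem principal_root (hP : IsPGroup p P) (hPC : P ≤ C[P]) :
    IsInducedBlock M C[P] (principalBlock M C[P]) (principalBlock M G) ∧
      ∀ η ∈ indSet M C[P] (principalBlock M G), η ∈ principalBlock M C[P] := by
  have hex : ∀ c : Set (IrrCharacter C[P]), IsPBlock M c → InducedBlockDefined M C[P] c :=
    fun c hc => exists_isInducedBlock hM hP hPC le_rfl (Subgroup.centralizer_le_normalizer _) hc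
  refine ⟨(isInducedBlock_principal_iff hM (hex _ isPBlock_principal)).2 rfl, fun η hη => ?_⟩
  have h := (isInducedBlock_principal_iff hM (hex _ (isPBlock_blockOf η))).1 hη
  rw [← h]
  exact self_mem_blockOf hM η

end Cfsg.Lib.Block
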