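import Cfsg.Agent.Lib.Block.SubsectionApps

/-!
# Columns of the principal block at elements of prime power order
-/

set_option autoImplicit false
set_option linter.unusedSectionVars false
set_option maxHeartbeats 800000

namespace Cfsg.Lib.Block

open Cfsg
open scoped ComplexConjugate

universe u

variable {p : ℕ} {M : Ideal AlgInt} {G : Type u} [Group G] [Fintype G] [Fact p.Prime]

/-- The sum of the squares of the degrees in the principal block of a subgroup. -/
noncomputable def principalDegSq (M : Ideal AlgInt) (K : Subgroup G) : ℂ :=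
  ∑ᶠ ψ ∈ principalBlock M K, (charDegree (ψ : K → ℂ) : ℂ) ^ 2

variable (hM : IsPModular p M)

include hM in
theorem principal_column {u v : G} (hu : ∃ k : ℕ, orderOf u = p ^ k)
    (hv : ∃ k : ℕ, orderOf v = p ^ k) [Decidable (IsConj u v)] :
    ∑ᶠ χ ∈ principalBlock M G, (χ : G → ℂ) u * conj ((χ : G → ℂ) v) =
      if IsConj u v then principalDegSq M (Subgroup.centralizer ({u} : Set G)) else 0 := by
  classical
  have hpp : ∀ {w : G}, (∃ k : ℕ, orderOf w = p ^ k) → pPt p w = w := fun {w} ⟨k, hk⟩ =>
    (eq_pPt (mul_one w) (Commute.one_right w) hk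
      (by rw [orderOf_one, Nat.dvd_one]; exact hM.1.ne_one)).symm
  split_ifs with hc
  · set C := Subgroup.centralizer ({u} : Set G) with hC
    letI : Fintype C := Fintype.ofFinite _
    have hHu : ∀ h : C, Commute u (h : G) := fun h =>
      (Subgroup.mem_centralizer_singleton_iff.1 h.2).symm
    have h1 : IsPRegular p (1 : C) := by
      rw [IsPRegular, orderOf_one, Nat.dvd_one]; exact hM.1.ne_one
    have h := sum_block_mul_conj hM hu hHu (le_refl C) (isPBlock_principal (M := M) (G := G)) h1 h1
    rw [indSet_principal hM hu hHu (le_refl C)] at h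
    simp only [OneMemClass.coe_one, mul_one] at h
    obtain ⟨g, rfl⟩ := isConj_iff.1 hc
    rw [finsum_mem_eq_toFinset_sum]
    calc _ = _ := Finset.sum_congr rfl fun χ _ => by rw [χ.2.isClassFunction u g]
      _ = _ := h
      _ = principalDegSq M C := by
        rw [principalDegSq, regKer, finsum_mem_eq_toFinset_sum]
        exact Finset.sum_congr rfl fun η _ => by
          rw [conj_apply_one, apply_one_eq_charDegree, pow_two]
  · exact sum_block_mul_conj_eq_zero hM (vInt_indVec hM isPBlock_principal)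
      (by rwa [hpp hu, hpp hv])

omit [Fact p.Prime] in
theorem extendByZero_apply (H : Subgroup G) (θ : H → ℂ) (x : H) :
    extendByZero H θ (x : G) = θ x :=
  Subtype.val_injective.extend_apply θ 0 x

open Classical in
theorem sum_conj_orbit {P N : Subgroup G} [Fintype P] [Fintype N]
    (hNN : N ≤ Subgroup.normalizer (P : Set G)) {y : P}
    (hfus : ∀ g : G, g * (y : G) * g⁻¹ ∈ (P : Set G) →
      ∃ n ∈ N, n * (y : G) * n⁻¹ = g * (y : G) * g⁻¹) (η : P → ℂ) :
    ∑ x : N, extendByZero P η ((x : G) * (y : G) * (x : G)⁻¹) =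
      (Nat.card ↥(N ⊓ Subgroup.centralizer ({(y : G)} : Set G)) : ℂ) *
        ∑ b : P, if IsConj (y : G) (b : G) then η b else 0 := by
  set f : N → P := fun x => ⟨(x : G) * (y : G) * (x : G)⁻¹,
    (Subgroup.mem_normalizer_iff.1 (hNN x.2) y).1 y.2⟩ with hf
  rw [Finset.mul_sum, ← Finset.sum_fiberwise Finset.univ f
    (fun x => extendByZero P η ((x : G) * (y : G) * (x : G)⁻¹))]
  refine Finset.sum_congr rfl fun b _ => ?_
  have hv : ∀ x ∈ Finset.univ.filter (fun x : N => f x = b),
      extendByZero P η ((x : G) * (y : G) * (x : G)⁻¹) = η b := fun x hx => by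
    rw [← extendByZero_apply P η b, ← (Finset.mem_filter.1 hx).2]
  rw [Finset.sum_congr rfl hv, Finset.sum_const, nsmul_eq_mul, mul_ite, mul_zero]
  split_ifs with hc
  · congr 2
    obtain ⟨g, hg⟩ := isConj_iff.1 hc
    obtain ⟨n, hn, hn'⟩ := hfus g (by rw [hg]; exact b.2)
    rw [hg] at hn'
    rw [← Fintype.card_subtype, ← Nat.card_eq_fintype_card]
    refine Nat.card_congr ?_
    refine ⟨fun x => ⟨n⁻¹ * (x.1 : G), ⟨N.mul_mem (N.inv_mem hn) x.1.2, ?_⟩⟩,
      fun c => ⟨⟨n * (c : G), N.mul_mem hn c.2.1⟩, ?_⟩, fun x => ?_, fun c => ?_⟩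
    · refine Subgroup.mem_centralizer_singleton_iff.2 ?_
      have hx : (x.1 : G) * (y : G) * (x.1 : G)⁻¹ = n * (y : G) * n⁻¹ := by
        rw [hn']; exact congrArg Subtype.val x.2
      calc n⁻¹ * (x.1 : G) * (y : G)
          = n⁻¹ * ((x.1 : G) * (y : G) * (x.1 : G)⁻¹) * (x.1 : G) := by group
        _ = (y : G) * (n⁻¹ * (x.1 : G)) := by rw [hx]; group
    · have hc' := Subgroup.mem_centralizer_singleton_iff.1 c.2.2
      apply Subtype.ext
      show n * (c : G) * (y : G) * (n * (c : G))⁻¹ = (b : G)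
      rw [← hn']
      calc n * (c : G) * (y : G) * (n * (c : G))⁻¹
          = n * ((c : G) * (y : G)) * (c : G)⁻¹ * n⁻¹ := by group
        _ = n * (y : G) * n⁻¹ := by rw [hc']; group
    · apply Subtype.ext; apply Subtype.ext; simp
    · apply Subtype.ext; simp
  · have he : (Finset.univ.filter fun x : N => f x = b) = ∅ :=
      Finset.filter_eq_empty_iff.2 fun x _ hx =>
        hc (isConj_iff.2 ⟨(x : G), congrArg Subtype.val hx⟩)
    rw [he, Finset.card_empty, Nat.cast_zero, zero_mul]

end Cfsg.Lib.Block
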