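import Cfsg.Agent.Lib.Block.PairApps
import Cfsg.Agent.Lib.Block.SubsectionApps
import Cfsg.Agent.Lib.Fusion.Alperin
import Cfsg.Prelude.Def_BlockRank

/-!
# When the principal block is nilpotent
-/

set_option autoImplicit false
set_option linter.unusedSectionVars false
set_option maxHeartbeats 400000

namespace Cfsg.Lib.Block

open Cfsg
open scoped ComplexConjugate

universe u

variable {p : ℕ} {M : Ideal AlgInt} {G : Type u} [Group G] [Fintype G] [Fact p.Prime]

noncomputable local instance (priority := high) fintypeSubgroupPrincipalNilpotent (H : Subgroup G) :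
    Fintype H := Fintype.ofFinite H

local notation "C[" Q "]" => Subgroup.centralizer (SetLike.coe Q)

variable (hM : IsPModular p M)

theorem coprime_orderOf_iff (x : G) : (orderOf x).Coprime p ↔ IsPRegular p x := by
  rw [Nat.coprime_comm, (Fact.out : p.Prime).coprime_iff_not_dvd]
  rfl

include hM in
/-- The normalizer of `Q` fixes the principal block of the centralizer of `Q`. -/
theorem stabilizes_principal {Q : Subgroup G} (hQ : IsPGroup p Q) {x : G}
    (hx : x ∈ Subgroup.normalizer (Q : Set G)) :
    StabilizesBlock C[Q] (principalBlock M C[Q]) x := by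
  rw [stabilizesBlock_iff (mem_normalizer_centralizer hx)]
  have h0 : IsBrauerPairOf p M (principalBlock M G) Q (principalBlock M C[Q]) :=
    (isBrauerPairOf_principal_iff hM hQ isPBlock_principal).2 rfl
  have h1 := isBrauerPairOf_conjIdx hM x (a := ⟨Q, principalBlock M C[Q]⟩) h0
  rw [conjIdx_eq (map_conj_eq_self hx)] at h1
  exact eq_principal_of_pair hM h1

include hM in
/-- The principal block is nilpotent exactly when there is a normal complement. -/
theorem hasNormalPComplement_iff_nilpotent :
    HasNormalPComplement p G ↔ IsNilpotentBlock p M (principalBlock M G) := by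
  constructor
  · exact fun h => ⟨isPBlock_principal, fun Q e he x hx _ hreg =>
      Fusion.mem_centralizer_of_hasNormalPComplement h he.1.1 hx ((coprime_orderOf_iff x).2 hreg)⟩
  · intro h
    obtain ⟨P⟩ : Nonempty (Sylow p G) := inferInstance
    refine (Fusion.frobenius P).2 fun Q hQ g hg hco => ?_
    have hQp : IsPGroup p Q := P.isPGroup'.to_le hQ
    exact h.2 Q _ ((isBrauerPairOf_principal_iff hM hQp isPBlock_principal).2 rfl) g hg
      (stabilizes_principal hM hQp hg) ((coprime_orderOf_iff g).1 hco)

include hM in
/-- The principal block has rank one exactly when there is a normal complement. -/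
theorem hasNormalPComplement_iff_rank_one :
    HasNormalPComplement p G ↔ blockRank p (principalBlock M G) = 1 := by
  classical
  constructor
  · intro h
    have hN : ¬ p ∣ Nat.card (pResidual p G) := fun hd => by
      obtain ⟨g, hg⟩ := exists_prime_orderOf_dvd_card' p hd
      have h1 := (Fusion.mem_pResidual_iff_coprime h (g : G)).1 g.2
      rw [Subgroup.orderOf_coe, hg] at h1
      exact (Fact.out : p.Prime).ne_one ((Nat.coprime_self p).1 h1)
    refine le_antisymm ?_ (blockRank_pos hM isPBlock_principal)
    refine finrank_le_one ⟨pRegularPart p ((trivChar G : IrrCharacter G) : G → ℂ),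
      Submodule.subset_span ⟨_, trivChar_mem_principal hM, rfl⟩⟩ fun w => ?_
    have key : Submodule.span ℂ ((fun χ : IrrCharacter G => pRegularPart p (χ : G → ℂ)) ''
        principalBlock M G) ≤
        Submodule.span ℂ {pRegularPart p ((trivChar G : IrrCharacter G) : G → ℂ)} := by
      rw [Submodule.span_le]
      rintro _ ⟨χ, hχ, rfl⟩
      refine Submodule.mem_span_singleton.2 ⟨(χ : G → ℂ) 1, funext fun g => ?_⟩
      by_cases hg : IsPRegular p g
      · simp only [Pi.smul_apply, pRegularPart_of_reg hg, trivChar_coe, smul_eq_mul, mul_one]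
        exact (principal_trivial_on hM hN hχ g
          ((Fusion.mem_pResidual_iff_coprime h g).2 ((coprime_orderOf_iff g).2 hg))).symm
      · simp only [Pi.smul_apply, pRegularPart_of_sing hg, smul_zero]
    obtain ⟨c, hc⟩ := Submodule.mem_span_singleton.1 (key w.2)
    exact ⟨c, Subtype.ext hc⟩
  · intro h1
    have hv : (⟨pRegularPart p ((trivChar G : IrrCharacter G) : G → ℂ),
        Submodule.subset_span ⟨_, trivChar_mem_principal hM, rfl⟩⟩ : Submodule.span ℂ
        ((fun χ : IrrCharacter G => pRegularPart p (χ : G → ℂ)) '' principalBlock M G)) ≠ 0 := by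
      intro h0
      have := congrFun (congrArg Subtype.val h0) (1 : G)
      simp only [ZeroMemClass.coe_zero, Pi.zero_apply,
        pRegularPart_of_reg (show IsPRegular p (1 : G) by simp [IsPRegular, hM.1.ne_one]),
        trivChar_coe] at this
      exact one_ne_zero this
    have hker : ∀ χ ∈ principalBlock M G, ∀ g, IsPRegular p g →
        (χ : G → ℂ) g = (χ : G → ℂ) 1 := by
      intro χ hχ g hg
      obtain ⟨c, hc⟩ := (finrank_eq_one_iff_of_nonzero' _ hv).1 h1
        ⟨pRegularPart p (χ : G → ℂ), Submodule.subset_span ⟨χ, hχ, rfl⟩⟩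
      have e1 := congrFun (congrArg Subtype.val hc) g
      have e2 := congrFun (congrArg Subtype.val hc) (1 : G)
      simp only [Submodule.coe_smul_of_tower, Pi.smul_apply, pRegularPart_of_reg hg,
        pRegularPart_of_reg (show IsPRegular p (1 : G) by simp [IsPRegular, hM.1.ne_one]),
        trivChar_coe] at e1 e2
      rw [← e1, ← e2]
    let N : Subgroup G := ⨅ χ ∈ principalBlock M G, Char.charKer χ.2.isCharacter
    have hmem : ∀ g, g ∈ N ↔ IsPRegular p g := by
      intro g
      simp only [N, Subgroup.mem_iInf, Char.mem_charKer]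
      refine ⟨fun hg hd => ?_, fun hg χ hχ => hker χ hχ g hg⟩
      have h0 := blockCoeff_eq_zero_of_dvd hM
        (vInt_indVec hM (isPBlock_principal (M := M) (G := G))) hd
      rw [blockCoeff, finsum_mem_eq_toFinset_sum, mul_eq_zero, inv_eq_zero] at h0
      rcases h0 with h0 | h0
      · exact Char.card_cast_ne_zero h0
      · rw [Finset.sum_congr rfl (fun χ hχ => by
          rw [hg χ (Set.mem_toFinset.1 hχ), conj_apply_one, apply_one_eq_charDegree,
            ← Nat.cast_mul]), ← Nat.cast_sum, Nat.cast_eq_zero,
          Finset.sum_eq_zero_iff] at h0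
        have := h0 _ (Set.mem_toFinset.2 (trivChar_mem_principal hM))
        exact (Nat.mul_ne_zero (charDegree_pos _).ne' (charDegree_pos _).ne') this
    haveI : N.Normal := ⟨fun a ha x => (hmem _).2 (by
      rw [IsPRegular, show x * a * x⁻¹ = MulAut.conj x a from rfl, MulEquiv.orderOf_eq]
      exact (hmem a).1 ha)⟩
    refine Fusion.hasNormalPComplement_of_normal N ?_ ?_
    · rw [Nat.coprime_comm, (Fact.out : p.Prime).coprime_iff_not_dvd]
      intro hd
      obtain ⟨g, hg⟩ := exists_prime_orderOf_dvd_card' p hd
      exact (hmem g).1 g.2 (by rw [Subgroup.orderOf_coe, hg])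
    · intro a
      obtain ⟨g, rfl⟩ := QuotientGroup.mk_surjective a
      obtain ⟨k, hk⟩ := exists_pow_pPt (p := p) g
      refine ⟨k, ?_⟩
      rw [← QuotientGroup.mk_pow, QuotientGroup.eq_one_iff, hmem]
      exact fun hd => by
        have h1 : orderOf (g ^ p ^ k) ∣ orderOf (pReg p g) := by
          rw [← pPt_mul_pReg (p := p) g, (pPt_commute_pReg g).mul_pow, hk, one_mul,
            pPt_mul_pReg]
          exact orderOf_pow_dvd _
        exact (not_dvd_orderOf_pReg g) (hd.trans h1)

end Cfsg.Lib.Block
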