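import Cfsg.Agent.Lib.Block.CycShape
import Cfsg.Agent.Lib.Block.RankOne
import Cfsg.Agent.Lib.Block.PrincipalNilpotent
import Cfsg.Agent.Lib.Block.PrincipalColumns
import Cfsg.Agent.Lib.Block.CyclicPrimeApps
import Cfsg.Agent.Lib.Char.Linear
import Cfsg.Agent.Lib.Fusion.Abelian

/-!
# The principal block with an abelian Sylow subgroup on which the inertial quotient acts freely

The differences of two linear characters of the Sylow subgroup give generalized characters of the
principal block with Gram matrix `I + m J`.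
-/

set_option autoImplicit false
set_option linter.unusedSectionVars false
set_option maxHeartbeats 1600000

namespace Cfsg.Lib.Block

open Cfsg
open scoped ComplexConjugate

universe u

variable {p : ℕ} {M : Ideal AlgInt} {G : Type u} [Group G] [Fintype G] [Fact p.Prime]

noncomputable local instance (priority := high) fintypeSubgroupPrincipalFree (H : Subgroup G) :
    Fintype H := Fintype.ofFinite H

local notation "C[" Q "]" => Subgroup.centralizer (SetLike.coe Q)

/-! ## Linear characters of an abelian group -/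

section Linear

variable {A : Type u} [Group A] [Fintype A]

noncomputable instance fintypeLinearHom : Fintype (A →* ℂˣ) :=
  Fintype.ofEquiv _ (Char.linearCharEquiv (G := A)).symm

/-- The irreducible characters of an abelian group are the homomorphisms into `ℂˣ`. -/
noncomputable def linIrrPrincipalFree (hc : ∀ a b : A, a * b = b * a) : (A →* ℂˣ) ≃ IrrCharacter A :=
  Char.linearCharEquiv.trans (Equiv.subtypeUnivEquiv fun χ => Char.degree_eq_one_of_comm hc χ.2)

theorem linIrr_apply (hc : ∀ a b : A, a * b = b * a) (ψ : A →* ℂˣ) :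
    (linIrrPrincipalFree hc ψ : A → ℂ) = fun a => (ψ a : ℂ) := rfl

theorem hom_orth (hc : ∀ a b : A, a * b = b * a) (φ ψ : A →* ℂˣ) [Decidable (φ = ψ)] :
    ∑ a, (φ a : ℂ) * conj (ψ a : ℂ) = if φ = ψ then (Nat.card A : ℂ) else 0 := by
  have key : ∑ a, (φ a : ℂ) * conj (ψ a : ℂ) =
      (Nat.card A : ℂ) * classInner (linIrrPrincipalFree hc φ : A → ℂ) (linIrrPrincipalFree hc ψ : A → ℂ) := by
    rw [classInner, ← mul_assoc, mul_inv_cancel₀ Char.card_cast_ne_zero, one_mul]
    rfl
  rw [key]
  split_ifs with h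
  · subst h; rw [Char.classInner_irr_self (linIrrPrincipalFree hc φ).2, mul_one]
  · rw [Char.classInner_irr_ne (linIrrPrincipalFree hc φ).2 (linIrrPrincipalFree hc ψ).2
      (fun h' => h ((linIrrPrincipalFree hc).injective (Subtype.ext h'))), mul_zero]

theorem hom_sum_eq_zero (hc : ∀ a b : A, a * b = b * a) {a : A} (ha : a ≠ 1) :
    ∑ ψ : A →* ℂˣ, (ψ a : ℂ) = 0 := by
  classical
  have h := Char.column_orthogonality a (1 : A)
  rw [if_neg fun h' => ha (isConj_one_left.1 h')] at h
  rw [← h]
  exact Fintype.sum_equiv (linIrrPrincipalFree hc) _ _ fun ψ => by simp [linIrr_apply]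

open Classical in
/-- A function is determined away from the identity by differences of its coefficients. -/
theorem apply_eq_sum_diff (hc : ∀ a b : A, a * b = b * a) (f : A → ℂ) {a : A} (ha : a ≠ 1) :
    f a = ∑ ψ ∈ Finset.univ.filter (fun ψ : A →* ℂˣ => ψ ≠ 1),
      (classInner f (fun x => (ψ x : ℂ)) - classInner f (fun _ => 1)) * (ψ a : ℂ) := by
  have hf : IsClassFunction A f := fun x y => by rw [hc y x, mul_inv_cancel_right]
  rw [Finset.sum_filter_of_ne (s := Finset.univ) (p := fun ψ : A →* ℂˣ => ψ ≠ 1)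
    fun ψ _ hψ h => hψ (by subst h; simp)]
  simp only [sub_mul, Finset.sum_sub_distrib, ← Finset.mul_sum, hom_sum_eq_zero hc ha, mul_zero,
    sub_zero]
  have h := congrFun (Char.eq_sum_classInner hf) a
  rw [Finset.sum_apply] at h
  rw [h]
  exact (Fintype.sum_equiv (linIrrPrincipalFree hc) _ _ fun ψ => by simp [linIrr_apply, smul_eq_mul]).symm

end Linear

/-! ## The local principal blocks -/

variable (hM : IsPModular p M) (P : Sylow p G)

include hM in
omit [Fintype G] in
theorem exists_conj_mem_sylow [Finite G] {x : G} (hx : ∃ k : ℕ, orderOf x = p ^ k) :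
    ∃ g : G, g * x * g⁻¹ ∈ (P : Subgroup G) := by
  obtain ⟨k, hk⟩ := hx
  obtain ⟨S, hS⟩ := (IsPGroup.of_card (p := p) (G := Subgroup.zpowers x) (n := k)
    (by rw [Nat.card_zpowers, hk])).exists_le_sylow
  obtain ⟨g, hg⟩ := MulAction.exists_smul_eq G S P
  refine ⟨g, ?_⟩
  rw [← hg, Sylow.coe_subgroup_smul]
  exact ⟨x, hS (Subgroup.mem_zpowers x), rfl⟩

variable [IsMulCommutative (P : Subgroup G)]

theorem sylow_comm (a b : (P : Subgroup G)) : a * b = b * a := mul_comm' a b

theorem sylow_le_centralizer_singleton {u : G} (hu : u ∈ (P : Subgroup G)) :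
    (P : Subgroup G) ≤ Subgroup.centralizer ({u} : Set G) := fun x hx =>
  Subgroup.mem_centralizer_singleton_iff.2 (congrArg Subtype.val (sylow_comm P ⟨x, hx⟩ ⟨u, hu⟩))

theorem orderOf_sylow {u : G} (hu : u ∈ (P : Subgroup G)) : ∃ k : ℕ, orderOf u = p ^ k := by
  obtain ⟨k, hk⟩ := IsPGroup.iff_orderOf.1 P.isPGroup' ⟨u, hu⟩
  exact ⟨k, by rwa [Subgroup.orderOf_mk] at hk⟩

theorem sylow_le_centralizer : (P : Subgroup G) ≤ C[(P : Subgroup G)] := fun x hx =>
  Subgroup.mem_centralizer_iff.2 fun y hy => congrArg Subtype.val (sylow_comm P ⟨y, hy⟩ ⟨x, hx⟩)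

/-- The inertial quotient of the Sylow subgroup acts freely. -/
def FreeAction : Prop :=
  ∀ y : G, y ∈ (P : Subgroup G) → y ≠ 1 → Subgroup.centralizer ({y} : Set G) ⊓
    Subgroup.normalizer ((P : Subgroup G) : Set G) = Subgroup.centralizer ((P : Subgroup G) : Set G)

variable {P} (hfree : FreeAction P)

include hfree in
theorem normalizer_le_centralizer_free {u : G} (hu : u ∈ (P : Subgroup G)) (hu1 : u ≠ 1) :
    Subgroup.normalizer (((P.subtype (sylow_le_centralizer_singleton P hu)) :
      Subgroup (Subgroup.centralizer ({u} : Set G))) : Set (Subgroup.centralizer ({u} : Set G))) ≤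
      Subgroup.centralizer (((P.subtype (sylow_le_centralizer_singleton P hu)) :
        Subgroup (Subgroup.centralizer ({u} : Set G))) :
          Set (Subgroup.centralizer ({u} : Set G))) := by
  have hle := sylow_le_centralizer_singleton P hu
  intro g hg
  rw [Sylow.coe_subtype] at hg ⊢
  have hgN : (g : G) ∈ Subgroup.normalizer ((P : Subgroup G) : Set G) := by
    refine Subgroup.mem_normalizer_iff.2 fun x => ⟨fun hx => ?_, fun hx => ?_⟩
    · have h := (Subgroup.mem_normalizer_iff.1 hg ⟨x, hle hx⟩).1 hx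
      exact h
    · have hxC : x ∈ Subgroup.centralizer ({u} : Set G) := by
        have h := Subgroup.mul_mem _ (Subgroup.mul_mem _ (Subgroup.inv_mem _ g.2) (hle hx)) g.2
        simpa [mul_assoc] using h
      exact (Subgroup.mem_normalizer_iff.1 hg ⟨x, hxC⟩).2 hx
  have hgC : (g : G) ∈ C[(P : Subgroup G)] := hfree u hu hu1 ▸ Subgroup.mem_inf.2 ⟨g.2, hgN⟩
  exact Subgroup.mem_centralizer_iff.2 fun x hx =>
    Subtype.ext (Subgroup.mem_centralizer_iff.1 hgC (x : G) hx)

include hfree in
/-- The centralizer of a nontrivial element of the Sylow subgroup has a normal complement. -/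
theorem complement_centralizer_free {u : G} (hu : u ∈ (P : Subgroup G)) (hu1 : u ≠ 1) :
    HasNormalPComplement p (Subgroup.centralizer ({u} : Set G)) :=
  Fusion.hasNormalPComplement_of_normalizer_le_centralizer _
    (normalizer_le_centralizer_free hfree hu hu1)

include hM hfree in
theorem rank_principal_centralizer {u : G} (hu : u ∈ (P : Subgroup G)) (hu1 : u ≠ 1) :
    blockRank p (principalBlock M (Subgroup.centralizer ({u} : Set G))) = 1 :=
  (hasNormalPComplement_iff_rank_one hM).1 (complement_centralizer_free hfree hu hu1)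

include hM hfree in
/-- The principal block is constant on the sections of the Sylow subgroup. -/
theorem principal_value_free {χ : IrrCharacter G} (hχ : χ ∈ principalBlock M G) {u y : G}
    (hu : u ∈ (P : Subgroup G)) (hu1 : u ≠ 1) (hy : Commute u y) (hyr : ¬ p ∣ orderOf y) :
    (χ : G → ℂ) (u * y) = (χ : G → ℂ) u := by
  classical
  set H := Subgroup.centralizer ({u} : Set G) with hH
  have hHu : ∀ h : H, Commute u (h : G) := fun h =>
    (Subgroup.mem_centralizer_singleton_iff.1 h.2).symm
  have hyH : y ∈ H := Subgroup.mem_centralizer_singleton_iff.2 hy.symm.eq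
  have hreg : IsPRegular p (⟨y, hyH⟩ : H) := by rwa [IsPRegular, Subgroup.orderOf_mk]
  have h1 : IsPRegular p (1 : H) := by simp [IsPRegular, hM.1.ne_one]
  have key : ∀ z : H, IsPRegular p z → (χ : G → ℂ) (u * (z : G)) =
      blockPart (principalBlock M H) (secFn u H (χ : G → ℂ)) z := fun z hz => by
    have h := blockPart_indSet hM (orderOf_sylow P hu) hHu le_rfl
      (isPBlock_principal (M := M) (G := G)) χ hz
    rw [if_pos hχ, indSet_principal hM (orderOf_sylow P hu) hHu le_rfl] at h
    exact h.symm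
  have hl := rank_principal_centralizer hM hfree hu hu1
  rw [show u * y = u * ((⟨y, hyH⟩ : H) : G) from rfl, key _ hreg]
  conv_rhs => rw [← mul_one u, show u * 1 = u * ((1 : H) : G) from rfl, key _ h1]
  simp only [blockPart, finsum_mem_eq_toFinset_sum]
  refine Finset.sum_congr rfl fun η hη => ?_
  have h := congrFun (regPart_eq_of_rank_one hl (Set.mem_toFinset.1 hη)
    (trivChar_mem_principal hM)) ⟨y, hyH⟩
  rw [Pi.smul_apply, pRegularPart_of_reg hreg, pRegularPart_of_reg hreg] at h
  simp only [trivChar_coe, div_one, smul_eq_mul, mul_one] at h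
  rw [← h]

include hM hfree in
/-- The value at an element with nontrivial `p`-part in the Sylow subgroup. -/
theorem principal_value_pPart {χ : IrrCharacter G} (hχ : χ ∈ principalBlock M G) {z u : G}
    (hz : IsPPart p z u) (hu : u ∈ (P : Subgroup G)) (hu1 : u ≠ 1) :
    (χ : G → ℂ) z = (χ : G → ℂ) u := by
  obtain ⟨y, rfl, hc, -, hy⟩ := hz
  exact principal_value_free hM hfree hχ hu hu1 hc hy

include hM hfree in
theorem principalDegSq_free {u : G} (hu : u ∈ (P : Subgroup G)) (hu1 : u ≠ 1) :
    principalDegSq M (Subgroup.centralizer ({u} : Set G)) = (Nat.card (P : Subgroup G) : ℂ) := by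
  classical
  set H := Subgroup.centralizer ({u} : Set G) with hH
  have hB : IsPBlock M (principalBlock M H) := isPBlock_principal
  have h := sum_sq_rank_one hM hB (rank_principal_centralizer hM hfree hu hu1)
  have hg : ((principalBlock M H).toFinset.gcd fun χ => charDegree (χ : H → ℂ)) = 1 := by
    refine Nat.dvd_one.1 ?_
    have h1 : charDegree ((trivChar H : IrrCharacter H) : H → ℂ) = 1 :=
      charDegree_eq_of_apply_one (by rw [trivChar_coe, Nat.cast_one])
    exact h1 ▸ Finset.gcd_dvd (Set.mem_toFinset.2 (trivChar_mem_principal hM))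
  rw [hg, one_pow, mul_one, ← card_defectGroup hM hB
    (isDefectGroup_principal_sylow hM (P.subtype (sylow_le_centralizer_singleton P hu))),
    Sylow.coe_subtype,
    Nat.card_congr (Subgroup.subgroupOfEquivOfLe (sylow_le_centralizer_singleton P hu)).toEquiv]
    at h
  rw [principalDegSq, finsum_mem_eq_toFinset_sum, ← h, Nat.cast_sum]
  exact Finset.sum_congr (by ext; simp) fun χ _ => by rw [Nat.cast_pow]

/-! ## The action on linear characters -/

variable (P)

/-- The action of the normalizer on the Sylow subgroup. -/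
def conjSyl (x : Subgroup.normalizer ((P : Subgroup G) : Set G)) :
    (P : Subgroup G) →* (P : Subgroup G) where
  toFun v := ⟨x * v * (x : G)⁻¹, (Subgroup.mem_normalizer_iff.1 x.2 v).1 v.2⟩
  map_one' := Subtype.ext (by simp)
  map_mul' a b := Subtype.ext (by simp [mul_assoc])

theorem conjSyl_val (x : Subgroup.normalizer ((P : Subgroup G) : Set G)) (v : (P : Subgroup G)) :
    (conjSyl P x v : G) = x * v * (x : G)⁻¹ := rfl

theorem conjSyl_one : conjSyl P 1 = MonoidHom.id _ :=
  MonoidHom.ext fun v => Subtype.ext (by simp [conjSyl_val])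

theorem conjSyl_mul (x y : Subgroup.normalizer ((P : Subgroup G) : Set G)) :
    (conjSyl P x).comp (conjSyl P y) = conjSyl P (x * y) :=
  MonoidHom.ext fun v => Subtype.ext (by simp [conjSyl_val, mul_assoc])

theorem conjSyl_bij (x : Subgroup.normalizer ((P : Subgroup G) : Set G)) :
    Function.Bijective (conjSyl P x) :=
  (Finite.injective_iff_bijective).1 fun a b h => by
    have h' := congrArg Subtype.val h
    simp only [conjSyl_val] at h'
    exact Subtype.ext (mul_left_cancel (mul_right_cancel h'))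

/-- Conjugacy of linear characters under the normalizer. -/
def ConjHom (ψ ψ' : (P : Subgroup G) →* ℂˣ) : Prop :=
  ∃ n : G, n ∈ Subgroup.normalizer ((P : Subgroup G) : Set G) ∧
    ∀ w w' : (P : Subgroup G), (w' : G) = n * w * n⁻¹ → ψ' w' = ψ w

theorem conjHom_iff {ψ ψ' : (P : Subgroup G) →* ℂˣ} :
    ConjHom P ψ ψ' ↔ ∃ x, ψ'.comp (conjSyl P x) = ψ := by
  constructor
  · rintro ⟨n, hn, h⟩
    exact ⟨⟨n, hn⟩, MonoidHom.ext fun w => h w _ rfl⟩
  · rintro ⟨x, rfl⟩
    refine ⟨x, x.2, fun w w' h => ?_⟩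
    show ψ' w' = ψ' (conjSyl P x w)
    exact congrArg ψ' (Subtype.ext (h.trans (conjSyl_val P x w).symm))

theorem conjHom_refl (ψ : (P : Subgroup G) →* ℂˣ) : ConjHom P ψ ψ :=
  (conjHom_iff P).2 ⟨1, by rw [conjSyl_one, MonoidHom.comp_id]⟩

variable {P}

theorem ConjHom.symm {ψ ψ' : (P : Subgroup G) →* ℂˣ} (h : ConjHom P ψ ψ') : ConjHom P ψ' ψ := by
  obtain ⟨x, rfl⟩ := (conjHom_iff P).1 h
  exact (conjHom_iff P).2 ⟨x⁻¹, by
    rw [MonoidHom.comp_assoc, conjSyl_mul, mul_inv_cancel, conjSyl_one, MonoidHom.comp_id]⟩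

theorem ConjHom.trans {ψ ψ' ψ'' : (P : Subgroup G) →* ℂˣ} (h : ConjHom P ψ ψ')
    (h' : ConjHom P ψ' ψ'') : ConjHom P ψ ψ'' := by
  obtain ⟨x, rfl⟩ := (conjHom_iff P).1 h
  obtain ⟨y, rfl⟩ := (conjHom_iff P).1 h'
  exact (conjHom_iff P).2 ⟨y * x, by rw [MonoidHom.comp_assoc, conjSyl_mul]⟩

theorem ConjHom.ne_one {ψ ψ' : (P : Subgroup G) →* ℂˣ} (h : ConjHom P ψ ψ') (hψ : ψ ≠ 1) :
    ψ' ≠ 1 := by
  rintro rfl
  obtain ⟨x, rfl⟩ := (conjHom_iff P).1 h
  exact hψ (MonoidHom.one_comp _)

variable (P) in
/-- Nontrivial linear characters up to conjugacy. -/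
@[reducible]
def homSetoid : Setoid {ψ : (P : Subgroup G) →* ℂˣ // ψ ≠ 1} where
  r a b := ConjHom P a.1 b.1
  iseqv := ⟨fun a => conjHom_refl P a.1, ConjHom.symm, ConjHom.trans⟩

variable (P) in
/-- The classes of nontrivial linear characters. -/
abbrev HomOrb : Type u := Quotient (homSetoid P)

noncomputable instance : Fintype (HomOrb P) :=
  haveI : Finite {ψ : (P : Subgroup G) →* ℂˣ // ψ ≠ 1} := inferInstance
  Fintype.ofFinite _

noncomputable instance : DecidableEq (HomOrb P) := Classical.decEq _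

include hfree in
theorem mem_centralizer_of_fix {x : Subgroup.normalizer ((P : Subgroup G) : Set G)}
    {ψ : (P : Subgroup G) →* ℂˣ} (h : ψ.comp (conjSyl P x) = ψ) (hψ : ψ ≠ 1) :
    (x : G) ∈ C[(P : Subgroup G)] := by
  by_contra hx
  refine hψ (MonoidHom.ext fun v => ?_)
  have hinj : Function.Injective fun w : (P : Subgroup G) => conjSyl P x w * w⁻¹ := by
    intro a b hab
    have e : conjSyl P x (a * b⁻¹) = a * b⁻¹ := by
      have hab' : conjSyl P x a * a⁻¹ = conjSyl P x b * b⁻¹ := hab
      rw [map_mul, map_inv]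
      calc conjSyl P x a * (conjSyl P x b)⁻¹
          = conjSyl P x a * a⁻¹ * (a * (conjSyl P x b)⁻¹) := by group
        _ = a * (conjSyl P x b)⁻¹ * (conjSyl P x b * b⁻¹) := by rw [hab', sylow_comm P]
        _ = a * b⁻¹ := by group
    by_contra hne
    refine hx ?_
    rw [← hfree _ (a * b⁻¹).2 fun h1 => hne (mul_inv_eq_one.1 (Subtype.ext h1))]
    refine Subgroup.mem_inf.2 ⟨Subgroup.mem_centralizer_singleton_iff.2 ?_, x.2⟩
    exact mul_inv_eq_iff_eq_mul.1 (congrArg Subtype.val e)
  obtain ⟨w, rfl⟩ := (Finite.injective_iff_surjective.1 hinj) v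
  show ψ (conjSyl P x w * w⁻¹) = 1
  rw [map_mul, show ψ (conjSyl P x w) = ψ w from DFunLike.congr_fun h w, map_inv, mul_inv_cancel]

theorem comp_conjSyl_of_mem {x : Subgroup.normalizer ((P : Subgroup G) : Set G)}
    (hx : (x : G) ∈ C[(P : Subgroup G)]) : conjSyl P x = MonoidHom.id _ :=
  MonoidHom.ext fun v => Subtype.ext (by
    rw [conjSyl_val, ← Subgroup.mem_centralizer_iff.1 hx v v.2, mul_inv_cancel_right]
    rfl)

open Classical in
include hfree in
/-- The number of elements of the normalizer carrying one character to another. -/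
theorem card_conj_filter {φ ψ : (P : Subgroup G) →* ℂˣ} (hψ : ψ ≠ 1) :
    (Finset.univ.filter fun x : Subgroup.normalizer ((P : Subgroup G) : Set G) =>
      φ.comp (conjSyl P x) = ψ).card =
        if ConjHom P ψ φ then Nat.card C[(P : Subgroup G)] else 0 := by
  split_ifs with h
  · obtain ⟨x₀, hx₀⟩ := (conjHom_iff P).1 h
    have hC : C[(P : Subgroup G)] ≤ Subgroup.normalizer ((P : Subgroup G) : Set G) :=
      Subgroup.centralizer_le_normalizer _
    rw [← Fintype.card_subtype, ← Nat.card_eq_fintype_card]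
    refine Nat.card_congr ⟨fun x => ⟨((x₀⁻¹ * x.1 : Subgroup.normalizer _) : G), ?_⟩,
      fun c => ⟨x₀ * ⟨c, hC c.2⟩, ?_⟩, fun x => Subtype.ext (Subtype.ext (by simp)),
      fun c => Subtype.ext (by simp)⟩
    · refine mem_centralizer_of_fix hfree (ψ := ψ) ?_ hψ
      nth_rewrite 1 [← hx₀]
      rw [MonoidHom.comp_assoc, conjSyl_mul, mul_inv_cancel_left, x.2]
    · rw [← conjSyl_mul, comp_conjSyl_of_mem (x := ⟨(c : G), hC c.2⟩) c.2, MonoidHom.comp_id, hx₀]
  · refine Finset.card_eq_zero.2 (Finset.filter_eq_empty_iff.2 fun x _ hx => h ?_)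
    exact (conjHom_iff P).2 ⟨x, hx⟩

variable {m : ℕ} (hCN : (Subgroup.centralizer ((P : Subgroup G) : Set G)).relIndex
  (Subgroup.normalizer ((P : Subgroup G) : Set G)) = m)

include hCN in
theorem card_normalizer_eq :
    Nat.card (Subgroup.normalizer ((P : Subgroup G) : Set G)) =
      m * Nat.card C[(P : Subgroup G)] := by
  rw [← hCN, mul_comm, ← Subgroup.relIndex_bot_left, ← Subgroup.relIndex_bot_left,
    Subgroup.relIndex_mul_relIndex _ _ _ bot_le (Subgroup.centralizer_le_normalizer _)]

include hfree hCN in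
/-- There are `(q - 1) / m` classes of nontrivial characters. -/
theorem card_homOrb : Nat.card (HomOrb P) * m = Nat.card (P : Subgroup G) - 1 := by
  classical
  have hU : Nat.card {ψ : (P : Subgroup G) →* ℂˣ // ψ ≠ 1} = Nat.card (P : Subgroup G) - 1 := by
    rw [Nat.card_eq_fintype_card, Fintype.card_subtype_compl, Fintype.card_subtype_eq,
      Fintype.card_congr (linIrrPrincipalFree (sylow_comm P))]
    congr 1
    have h : (Fintype.card (IrrCharacter (P : Subgroup G)) : ℂ) =
        (Nat.card (P : Subgroup G) : ℂ) := by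
      rw [← Char.sum_sq_degree, Finset.sum_congr rfl fun χ _ => by
        rw [Char.degree_eq_one_of_comm (sylow_comm P) χ.2, one_pow], Finset.sum_const,
        Finset.card_univ, nsmul_eq_mul, mul_one]
    exact_mod_cast h
  rw [← hU, Nat.card_eq_fintype_card, Nat.card_eq_fintype_card, ← Finset.card_univ,
    ← Finset.card_univ (α := {ψ : (P : Subgroup G) →* ℂˣ // ψ ≠ 1}),
    Finset.card_eq_sum_card_fiberwise (f := fun ψ => (Quotient.mk _ ψ : HomOrb P))
      (t := Finset.univ) fun _ _ => Finset.mem_univ _,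
    Finset.sum_congr rfl (g := fun _ => m) fun j _ => ?_, Finset.sum_const, smul_eq_mul]
  induction j using Quotient.inductionOn with
  | h φ =>
    have hsum := Finset.card_eq_sum_card_fiberwise
      (s := (Finset.univ : Finset (Subgroup.normalizer ((P : Subgroup G) : Set G))))
      (f := fun x => (⟨φ.1.comp (conjSyl P x), ((conjHom_iff P).2 ⟨x, rfl⟩ :
        ConjHom P (φ.1.comp (conjSyl P x)) φ.1).symm.ne_one φ.2⟩ :
          {ψ : (P : Subgroup G) →* ℂˣ // ψ ≠ 1}))
      (t := Finset.univ) fun _ _ => Finset.mem_univ _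
    simp only [Subtype.ext_iff] at hsum
    rw [Finset.sum_congr rfl fun ψ _ => card_conj_filter hfree ψ.2, ← Finset.sum_filter,
      Finset.sum_const, smul_eq_mul, Finset.card_univ, ← Nat.card_eq_fintype_card,
      card_normalizer_eq hCN] at hsum
    have e : (Finset.univ.filter fun ψ => (Quotient.mk _ ψ : HomOrb P) = Quotient.mk _ φ) =
        Finset.univ.filter fun ψ : {ψ : (P : Subgroup G) →* ℂˣ // ψ ≠ 1} => ConjHom P ψ.1 φ.1 :=
      Finset.filter_congr fun ψ _ => Quotient.eq
    rw [e]
    exact (Nat.eq_of_mul_eq_mul_right Nat.card_pos hsum).symm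

/-! ## The generalized characters -/

variable (P)

/-- The difference of the multiplicities of a linear character and of the trivial one. -/
noncomputable def homMult (ψ : (P : Subgroup G) →* ℂˣ) (χ : IrrCharacter G) : ℂ :=
  classInner (fun v : (P : Subgroup G) => (χ : G → ℂ) v) (fun v => (ψ v : ℂ)) -
    classInner (fun v : (P : Subgroup G) => (χ : G → ℂ) v) (fun _ => 1)

theorem homMult_eq (ψ : (P : Subgroup G) →* ℂˣ) (χ : IrrCharacter G) :
    homMult P ψ χ = (Nat.card (P : Subgroup G) : ℂ)⁻¹ *
      ∑ v : (P : Subgroup G), (χ : G → ℂ) v * conj ((ψ v : ℂ) - 1) := by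
  simp only [homMult, classInner, ← mul_sub, ← Finset.sum_sub_distrib, map_sub]

theorem exists_int_homMult (ψ : (P : Subgroup G) →* ℂˣ) (χ : IrrCharacter G) :
    ∃ k : ℤ, homMult P ψ χ = k := by
  have hc := χ.2.isCharacter.comp (P : Subgroup G).subtype
  obtain ⟨a, ha⟩ := hc.exists_nat_classInner (Char.isIrrCharacter_linear ψ).isCharacter
  obtain ⟨b, hb⟩ := hc.exists_nat_classInner (Char.isCharacter_one (G := (P : Subgroup G)))
  exact ⟨(a : ℤ) - b, by push_cast; rw [← ha, ← hb]; rfl⟩

theorem conj_homMult (ψ : (P : Subgroup G) →* ℂˣ) (χ : IrrCharacter G) :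
    conj (homMult P ψ χ) = homMult P ψ χ := by
  obtain ⟨k, hk⟩ := exists_int_homMult P ψ χ
  rw [hk, map_intCast]

theorem homMult_trivChar {ψ : (P : Subgroup G) →* ℂˣ} (hψ : ψ ≠ 1) :
    homMult P ψ (trivChar G) = -1 := by
  classical
  have h1 := hom_orth (sylow_comm P) 1 ψ
  rw [if_neg hψ.symm] at h1
  simp only [MonoidHom.one_apply, Units.val_one, one_mul] at h1
  rw [homMult_eq]
  simp only [trivChar_coe, one_mul, map_sub, map_one, Finset.sum_sub_distrib, h1, Finset.sum_const,
    Finset.card_univ, nsmul_eq_mul, mul_one, zero_sub, mul_neg, ← Nat.card_eq_fintype_card]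
  rw [inv_mul_cancel₀ Char.card_cast_ne_zero]

variable {P}

theorem homMult_conjHom {ψ φ : (P : Subgroup G) →* ℂˣ} (h : ConjHom P ψ φ) (χ : IrrCharacter G) :
    homMult P ψ χ = homMult P φ χ := by
  obtain ⟨x, rfl⟩ := (conjHom_iff P).1 h
  rw [homMult_eq, homMult_eq]
  refine congrArg _ (Fintype.sum_bijective _ (conjSyl_bij P x) _ _ fun v => ?_)
  rw [conjSyl_val, χ.2.isClassFunction]
  rfl

open Classical in
include hM hfree hCN in
/-- The Gram matrix. -/
theorem sum_homMult_mul {ψ φ : (P : Subgroup G) →* ℂˣ} (hψ : ψ ≠ 1) (hφ : φ ≠ 1) :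
    ∑ χ ∈ (principalBlock M G).toFinset, homMult P ψ χ * homMult P φ χ =
      (m : ℂ) + if ConjHom P ψ φ then 1 else 0 := by
  set q : ℂ := (Nat.card (P : Subgroup G) : ℂ) with hq
  set c : ℂ := (Nat.card C[(P : Subgroup G)] : ℂ) with hc
  have hq0 : q ≠ 0 := Char.card_cast_ne_zero
  have hc0 : c ≠ 0 := Char.card_cast_ne_zero
  -- one column
  have hcol : ∀ v w : (P : Subgroup G), (v : G) ≠ 1 →
      ∑ χ ∈ (principalBlock M G).toFinset, (χ : G → ℂ) v * conj ((χ : G → ℂ) w) =
        if IsConj (v : G) (w : G) then q else 0 := fun v w hv => by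
    rw [← finsum_mem_eq_toFinset_sum,
      principal_column hM (orderOf_sylow P v.2) (orderOf_sylow P w.2)]
    exact if_congr Iff.rfl (principalDegSq_free hM hfree v.2 hv) rfl
  have hexp : ∑ χ ∈ (principalBlock M G).toFinset, homMult P ψ χ * homMult P φ χ =
      q⁻¹ * q⁻¹ * ∑ v : (P : Subgroup G), conj ((ψ v : ℂ) - 1) * ∑ w : (P : Subgroup G),
        ((φ w : ℂ) - 1) * ∑ χ ∈ (principalBlock M G).toFinset,
          (χ : G → ℂ) v * conj ((χ : G → ℂ) w) := by
    have step : ∀ χ : IrrCharacter G, homMult P ψ χ * homMult P φ χ =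
        q⁻¹ * q⁻¹ * ∑ v : (P : Subgroup G), ∑ w : (P : Subgroup G), conj ((ψ v : ℂ) - 1) *
          (((φ w : ℂ) - 1) * ((χ : G → ℂ) v * conj ((χ : G → ℂ) w))) := fun χ => by
      rw [← conj_homMult P φ χ, homMult_eq, homMult_eq, map_mul, map_inv₀, map_natCast,
        map_sum, ← hq, mul_mul_mul_comm, Finset.sum_mul_sum]
      refine congrArg _ (Finset.sum_congr rfl fun v _ => Finset.sum_congr rfl fun w _ => ?_)
      rw [map_mul, Complex.conj_conj]
      ring
    rw [Finset.sum_congr rfl fun χ _ => step χ, ← Finset.mul_sum]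
    congr 1
    rw [Finset.sum_comm]
    refine Finset.sum_congr rfl fun v _ => ?_
    rw [Finset.sum_comm, Finset.mul_sum]
    refine Finset.sum_congr rfl fun w _ => ?_
    rw [Finset.mul_sum, Finset.mul_sum]
  have horb : ∀ v : (P : Subgroup G),
      conj ((ψ v : ℂ) - 1) * ∑ w : (P : Subgroup G), ((φ w : ℂ) - 1) *
        ∑ χ ∈ (principalBlock M G).toFinset, (χ : G → ℂ) v * conj ((χ : G → ℂ) w) =
      q * c⁻¹ * ∑ x : Subgroup.normalizer ((P : Subgroup G) : Set G),
        conj ((ψ v : ℂ) - 1) * ((φ (conjSyl P x v) : ℂ) - 1) := by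
    intro v
    by_cases hv : (v : G) = 1
    · have : v = 1 := Subtype.ext hv
      subst this
      simp
    rw [Finset.sum_congr rfl fun w _ => by rw [hcol v w hv]]
    have h := sum_conj_orbit (P := (P : Subgroup G))
      (N := Subgroup.normalizer ((P : Subgroup G) : Set G)) le_rfl (y := v)
      (fun g hg => Fusion.exists_normalizer_conj_of_abelian P v.2 hg)
      fun w => (φ w : ℂ) - 1
    rw [inf_comm, hfree _ v.2 hv] at h
    simp only [← Finset.mul_sum, mul_left_comm _ (conj ((ψ v : ℂ) - 1))]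
    congr 1
    rw [Finset.sum_congr rfl fun (x : Subgroup.normalizer ((P : Subgroup G) : Set G)) _ => show
      (φ (conjSyl P x v) : ℂ) - 1 = extendByZero (P : Subgroup G) (fun w => (φ w : ℂ) - 1)
        ((x : G) * v * (x : G)⁻¹) from
          (extendByZero_apply (P : Subgroup G) (fun w => (φ w : ℂ) - 1) (conjSyl P x v)).symm,
      h, ← hc,
      mul_assoc, inv_mul_cancel_left₀ hc0, Finset.mul_sum]
    exact Finset.sum_congr (by ext; simp) fun w _ => by split_ifs <;> ring
  rw [hexp, Finset.sum_congr rfl fun v _ => horb v, ← Finset.mul_sum, Finset.sum_comm]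
  have hterm : ∀ x : Subgroup.normalizer ((P : Subgroup G) : Set G),
      ∑ v : (P : Subgroup G), conj ((ψ v : ℂ) - 1) * ((φ (conjSyl P x v) : ℂ) - 1) =
        q * (1 + if φ.comp (conjSyl P x) = ψ then 1 else 0) := by
    intro x
    have hne : φ.comp (conjSyl P x) ≠ 1 :=
      ((conjHom_iff P).2 ⟨x, rfl⟩ : ConjHom P (φ.comp (conjSyl P x)) φ).symm.ne_one hφ
    have e1 := hom_orth (sylow_comm P) (φ.comp (conjSyl P x)) ψ
    have e2 := hom_orth (sylow_comm P) 1 ψ
    have e3 := hom_orth (sylow_comm P) (φ.comp (conjSyl P x)) 1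
    rw [if_neg hψ.symm] at e2
    rw [if_neg hne] at e3
    simp only [MonoidHom.one_apply, Units.val_one, one_mul, map_one, mul_one,
      MonoidHom.comp_apply, ← hq] at e1 e2 e3
    simp only [map_sub, map_one, sub_mul, mul_sub, Finset.sum_sub_distrib, one_mul, mul_one,
      Finset.sum_const, Finset.card_univ, nsmul_eq_mul, ← Nat.card_eq_fintype_card, e2, e3, ← hq]
    rw [Finset.sum_congr rfl fun v _ => mul_comm _ _, e1]
    split_ifs <;> ring
  rw [Finset.sum_congr rfl fun x _ => hterm x, ← Finset.mul_sum, Finset.sum_add_distrib,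
    Finset.sum_const, Finset.card_univ, nsmul_eq_mul, mul_one, Finset.sum_boole,
    card_conj_filter hfree hψ, ← Nat.card_eq_fintype_card, card_normalizer_eq hCN]
  push_cast
  rw [← hc]
  split_ifs <;> field_simp <;> ring

variable (P) in
/-- The generalized character of a class of linear characters. -/
noncomputable def homTau (M : Ideal AlgInt) (j : HomOrb P) : G → ℂ :=
  haveI := Classical.decPred (· ∈ principalBlock M G)
  fun g => ∑ χ ∈ (principalBlock M G).toFinset, homMult P j.out.1 χ * (χ : G → ℂ) g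

open Classical in
theorem classInner_homTau (j : HomOrb P) (χ : IrrCharacter G) :
    classInner (homTau P M j) (χ : G → ℂ) =
      if χ ∈ principalBlock M G then homMult P j.out.1 χ else 0 := by
  have e : homTau P M j = ∑ η ∈ (principalBlock M G).toFinset,
      homMult P j.out.1 η • (η : G → ℂ) := funext fun g => by
    rw [Finset.sum_apply, homTau]
    exact Finset.sum_congr (by ext; simp) fun _ _ => rfl
  rw [e, Char.classInner_sum_left]
  simp only [Char.classInner_smul_left]
  split_ifs with h
  · rw [Finset.sum_eq_single χ, Char.classInner_irr_self χ.2, mul_one]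
    · intro η _ hne
      rw [Char.classInner_irr_ne η.2 χ.2 fun h' => hne (Subtype.ext h'), mul_zero]
    · exact fun h' => absurd (Set.mem_toFinset.2 h) h'
  · refine Finset.sum_eq_zero fun η hη => ?_
    rw [Char.classInner_irr_ne η.2 χ.2 fun h' => h (Subtype.ext h' ▸ Set.mem_toFinset.1 hη),
      mul_zero]

open Classical in
include hM hfree hCN in
theorem cycVectors_homTau : CycVectors p (principalBlock M G) m (homTau P M) where
  gen j := by
    have e : homTau P M j = fun g => ∑ χ ∈ (principalBlock M G).toFinset,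
        homMult P j.out.1 χ * (χ : G → ℂ) g := funext fun g => by
      rw [homTau]
    rw [e, show (fun g => ∑ χ ∈ (principalBlock M G).toFinset,
      homMult P j.out.1 χ * (χ : G → ℂ) g) = ∑ χ ∈ (principalBlock M G).toFinset,
        homMult P j.out.1 χ • (χ : G → ℂ) from funext fun g => by simp [Finset.sum_apply]]
    refine IsGeneralizedCharacter.sum _ _ fun χ _ => ?_
    obtain ⟨k, hk⟩ := exists_int_homMult P j.out.1 χ
    rw [hk]
    exact χ.2.isGeneralized.intCast_smul k
  regular j g hg := by
    rw [homTau]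
    simp only [homMult_eq, mul_assoc, ← Finset.mul_sum, Finset.sum_mul]
    rw [Finset.sum_comm, Finset.sum_eq_zero, mul_zero]
    intro v _
    by_cases hv : (v : G) = 1
    · have : v = 1 := Subtype.ext hv
      subst this
      simp
    · have hp : ¬ IsConj (pPt p (v : G)) (pPt p g)⁻¹ := by
        rw [(pPt_eq_one_iff g).2 hg, inv_one, isConj_one_left]
        intro h
        obtain ⟨k, hk⟩ := orderOf_sylow P v.2
        refine (pPt_eq_one_iff _).1 h ?_
        rw [hk]
        refine dvd_pow_self p fun hk0 => hv ?_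
        rwa [hk0, pow_zero, orderOf_eq_one_iff] at hk
      have h0 := sum_block_mul_eq_zero hM (vInt_indVec hM (isPBlock_principal (G := G))) hp
      rw [finsum_mem_eq_toFinset_sum] at h0
      rw [← mul_zero (conj ((j.out.1 v : ℂ) - 1)), ← h0, Finset.mul_sum]
      exact Finset.sum_congr (by ext; simp) fun χ _ => by ring
  outside j χ hχ := by rw [classInner_homTau, if_neg hχ]
  gram i j := by
    have e : homTau P M i = ∑ η ∈ (principalBlock M G).toFinset,
        homMult P i.out.1 η • (η : G → ℂ) := funext fun g => by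
      rw [Finset.sum_apply, homTau]
      exact Finset.sum_congr (by ext; simp) fun _ _ => rfl
    rw [e, Char.classInner_sum_left]
    simp only [Char.classInner_smul_left]
    have hij : i = j ↔ ConjHom P i.out.1 j.out.1 := by
      conv_lhs => rw [← Quotient.out_eq i, ← Quotient.out_eq j]
      exact Quotient.eq
    rw [Finset.sum_congr rfl (g := fun η => homMult P i.out.1 η * homMult P j.out.1 η) fun η hη => by
      rw [← Char.classInner_conj_symm, classInner_homTau, if_pos (Set.mem_toFinset.1 hη),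
        conj_homMult], sum_homMult_mul hM hfree hCN i.out.2 j.out.2]
    exact congrArg _ (if_congr hij.symm rfl rfl)
  complete c hc g hg := by
    set F : G → ℂ := fun g => ∑ᶠ χ ∈ principalBlock M G, c χ * (χ : G → ℂ) g with hF
    have hF' : ∀ g, F g = ∑ χ ∈ (principalBlock M G).toFinset, c χ * (χ : G → ℂ) g := fun g =>
      finsum_mem_eq_toFinset_sum _ _
    have hdiff : ∀ ψ : (P : Subgroup G) →* ℂˣ, ψ ≠ 1 →
        classInner (fun v : (P : Subgroup G) => F v) (fun v => (ψ v : ℂ)) -
          classInner (fun v : (P : Subgroup G) => F v) (fun _ => 1) = 0 := by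
      intro ψ hψ
      obtain ⟨j, hj⟩ : ∃ j : HomOrb P, j = Quotient.mk _ ⟨ψ, hψ⟩ := ⟨_, rfl⟩
      have hj' : ConjHom P j.out.1 ψ := by
        have := Quotient.mk_out (s := homSetoid P) ⟨ψ, hψ⟩
        rw [hj]
        exact this
      have h := hc j
      rw [show F = ∑ χ ∈ (principalBlock M G).toFinset, c χ • (χ : G → ℂ) from funext fun g => by
          rw [Finset.sum_apply, hF']; rfl, Char.classInner_sum_left] at h
      simp only [Char.classInner_smul_left] at h
      rw [Finset.sum_congr rfl (g := fun η => c η * homMult P ψ η) fun η hη => by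
        rw [← Char.classInner_conj_symm, classInner_homTau, if_pos (Set.mem_toFinset.1 hη),
          conj_homMult, homMult_conjHom hj']] at h
      rw [← h, show (fun v : (P : Subgroup G) => F v) =
        ∑ χ ∈ (principalBlock M G).toFinset, c χ • fun v : (P : Subgroup G) => (χ : G → ℂ) v from
          funext fun v => by simp [hF', Finset.sum_apply], Char.classInner_sum_left,
        Char.classInner_sum_left, ← Finset.sum_sub_distrib]
      simp only [Char.classInner_smul_left, ← mul_sub]
      rfl
    obtain ⟨h, hh⟩ := exists_conj_mem_sylow hM P (exists_orderOf_pPt (p := p) g)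
    set v : G := h * pPt p g * h⁻¹ with hv
    have hv1 : v ≠ 1 := fun h' => hg ((pPt_eq_one_iff g).1 (conj_eq_one_iff.1 h'))
    have hFv : F v = 0 := by
      rw [apply_eq_sum_diff (sylow_comm P) (fun w : (P : Subgroup G) => F w)
        (a := ⟨v, hh⟩) fun h' => hv1 (congrArg Subtype.val h'),
        Finset.sum_eq_zero fun ψ hψ => by rw [hdiff ψ (Finset.mem_filter.1 hψ).2, zero_mul]]
    rw [← hFv, hF']
    show F g = _
    rw [hF']
    refine Finset.sum_congr rfl fun χ hχ => ?_
    congr 1
    rw [← χ.2.isClassFunction g h]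
    refine principal_value_pPart hM hfree (Set.mem_toFinset.1 hχ) ?_ hh hv1
    obtain ⟨y, he, hcm, ⟨k, hk⟩, hy⟩ := isPPart_pPt (p := p) g
    refine ⟨h * y * h⁻¹, ?_, ?_, ⟨k, ?_⟩, ?_⟩
    · calc v * (h * y * h⁻¹) = h * (pPt p g * y) * h⁻¹ := by rw [hv]; group
        _ = h * g * h⁻¹ := by rw [he]
    · exact hcm.map (MulAut.conj h).toMonoidHom
    · rw [hv, show h * pPt p g * h⁻¹ = MulAut.conj h (pPt p g) from rfl, MulEquiv.orderOf_eq, hk]
    · rwa [show h * y * h⁻¹ = MulAut.conj h y from rfl, MulEquiv.orderOf_eq]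

end Cfsg.Lib.Block
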