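import Cfsg.Agent.Lib.Block.DihedralLocal
import Cfsg.Agent.Lib.Block.PrincipalFree
import Cfsg.Agent.Lib.Block.DefectApps
import Cfsg.Agent.Lib.Block.BlockTrace
import Mathlib.RingTheory.RootsOfUnity.Complex

/-!
# The columns of the principal two-block at a dihedral Sylow two-subgroup

The multiplicities of the rotation give integers `w j χ` with Gram matrix
`2 + [j = k] + [j + k = m]` on the principal block, killing the regular values.
-/

set_option autoImplicit false
set_option linter.unusedSectionVars false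
set_option maxHeartbeats 800000

namespace Cfsg.Lib.Block

open Cfsg
open scoped ComplexConjugate

universe u

noncomputable local instance (priority := high) fintypeSubgroupDihedralColumns {A : Type u}
    [Group A] [Fintype A] (H : Subgroup A) : Fintype H := Fintype.ofFinite H

variable {G : Type u} [Group G] [Fintype G] {M : Ideal AlgInt}

section General

variable {p : ℕ} [Fact p.Prime] (hM : IsPModular p M)

include hM in
/-- The principal block is constant on the section of an element whose centralizer has a normal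
complement. -/
theorem principal_value_of_complement {u y : G} (hu : ∃ k : ℕ, orderOf u = p ^ k)
    (hc : HasNormalPComplement p (Subgroup.centralizer ({u} : Set G))) {χ : IrrCharacter G}
    (hχ : χ ∈ principalBlock M G) (hy : Commute u y) (hyr : ¬ p ∣ orderOf y) :
    (χ : G → ℂ) (u * y) = (χ : G → ℂ) u := by
  classical
  set H := Subgroup.centralizer ({u} : Set G) with hH
  have hHu : ∀ h : H, Commute u (h : G) := fun h =>
    (Subgroup.mem_centralizer_singleton_iff.1 h.2).symm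
  have hyH : y ∈ H := Subgroup.mem_centralizer_singleton_iff.2 hy.symm.eq
  have hreg : IsPRegular p (⟨y, hyH⟩ : H) := by rwa [IsPRegular, Subgroup.orderOf_mk]
  have h1 : IsPRegular p (1 : H) := by simp [IsPRegular, hM.1.ne_one]
  have key : ∀ z : H, IsPRegular p z → (χ : G → ℂ) (u * (z : G)) =
      blockPart (principalBlock M H) (secFn u H (χ : G → ℂ)) z := fun z hz => by
    have h := blockPart_indSet hM hu hHu le_rfl (isPBlock_principal (M := M) (G := G)) χ hz
    rw [if_pos hχ, indSet_principal hM hu hHu le_rfl] at h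
    exact h.symm
  have hl := (hasNormalPComplement_iff_rank_one hM).1 hc
  rw [show u * y = u * ((⟨y, hyH⟩ : H) : G) from rfl, key _ hreg]
  conv_rhs => rw [← mul_one u, show u * 1 = u * ((1 : H) : G) from rfl, key _ h1]
  simp only [blockPart, finsum_mem_eq_toFinset_sum]
  refine Finset.sum_congr rfl fun η hη => ?_
  have h := congrFun (regPart_eq_of_rank_one hl (Set.mem_toFinset.1 hη)
    (trivChar_mem_principal hM)) ⟨y, hyH⟩
  rw [Pi.smul_apply, pRegularPart_of_reg hreg, pRegularPart_of_reg hreg] at h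
  simp only [trivChar_coe, div_one, smul_eq_mul, mul_one] at h
  rw [← h]

include hM in
/-- The squares of the degrees of the principal block of a group with normal complement. -/
theorem principalDegSq_of_complement {K : Subgroup G} (hc : HasNormalPComplement p K)
    (R : Sylow p K) : principalDegSq M K = (Nat.card (R : Subgroup K) : ℂ) := by
  classical
  have hB : IsPBlock M (principalBlock M K) := isPBlock_principal
  have h := sum_sq_rank_one hM hB ((hasNormalPComplement_iff_rank_one hM).1 hc)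
  have hg : ((principalBlock M K).toFinset.gcd fun χ => charDegree (χ : K → ℂ)) = 1 := by
    refine Nat.dvd_one.1 ?_
    have h1 : charDegree ((trivChar K : IrrCharacter K) : K → ℂ) = 1 :=
      charDegree_eq_of_apply_one (by rw [trivChar_coe, Nat.cast_one])
    exact h1 ▸ Finset.gcd_dvd (Set.mem_toFinset.2 (trivChar_mem_principal hM))
  rw [hg, one_pow, mul_one, ← card_defectGroup hM hB (isDefectGroup_principal_sylow hM R)] at h
  rw [principalDegSq, finsum_mem_eq_toFinset_sum, ← h, Nat.cast_sum]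
  exact Finset.sum_congr (by ext; simp) fun χ _ => by rw [Nat.cast_pow]

end General

/-! ## Roots of unity -/

theorem sum_zpow_mul_eq {m : ℕ} {ζ : ℂ} (hζ : IsPrimitiveRoot ζ m) (hm : 0 < m) (d : ℤ) :
    ∑ l ∈ Finset.range m, ζ ^ (d * l) = if (m : ℤ) ∣ d then (m : ℂ) else 0 := by
  have e : ∀ l : ℕ, ζ ^ (d * l) = (ζ ^ d) ^ l := fun l => by rw [zpow_mul, zpow_natCast]
  rw [Finset.sum_congr rfl fun l _ => e l]
  have hpow : (ζ ^ d) ^ m = 1 := by
    rw [← zpow_natCast, ← zpow_mul, mul_comm, zpow_mul, zpow_natCast, hζ.pow_eq_one, one_zpow]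
  split_ifs with hd
  · rw [(hζ.zpow_eq_one_iff_dvd d).2 hd]
    simp
  · have hne : ζ ^ d ≠ 1 := fun h => hd ((hζ.zpow_eq_one_iff_dvd d).1 h)
    rw [geom_sum_eq hne, hpow, sub_self, zero_div]

/-- The eigenvalue multiplicities of a character at an element. -/
theorem exists_multiplicity (χ : IrrCharacter G) {g : G} {m : ℕ} {ζ : ℂ} (hζ : IsPrimitiveRoot ζ m)
    (hm : 0 < m) (hg : g ^ m = 1) :
    ∃ N : ℕ → ℕ, ∀ l : ℕ, (χ : G → ℂ) (g ^ l) = ∑ j ∈ Finset.range m, (N j : ℂ) * ζ ^ (j * l) := by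
  classical
  haveI : NeZero m := ⟨hm.ne'⟩
  obtain ⟨n, ρ, hρ, hχ⟩ := χ.2
  obtain ⟨μ, hμ, -, -, hpow, -⟩ := Char.character_eq_sum_roots ρ g
  have hk : ∀ i, ∃ k < m, ζ ^ k = μ i := fun i => hζ.eq_pow_of_pow_eq_one (by
    obtain ⟨c, hc⟩ := orderOf_dvd_of_pow_eq_one hg
    rw [hc, pow_mul, hμ i, one_pow])
  choose k hkm hkμ using hk
  refine ⟨fun j => (Finset.univ.filter fun i => k i = j).card, fun l => ?_⟩
  rw [show (χ : G → ℂ) (g ^ l) = ρ.character (g ^ l) from (congrFun hχ _).symm, hpow,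
    ← Finset.sum_fiberwise_of_maps_to (g := k) (fun i _ => Finset.mem_range.2 (hkm i))]
  refine Finset.sum_congr rfl fun j _ => ?_
  rw [Finset.sum_congr rfl (g := fun _ => ζ ^ (j * l)) fun i hi => by
    rw [← hkμ i, (Finset.mem_filter.1 hi).2, pow_mul], Finset.sum_const, nsmul_eq_mul]

/-- The parity of the value at an involution. -/
theorem exists_value_parity (χ : IrrCharacter G) {g : G} (hg : g * g = 1) :
    ∃ k : ℤ, (χ : G → ℂ) g = k ∧ Even (k - charDegree (χ : G → ℂ)) := by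
  obtain ⟨N, hN⟩ := exists_multiplicity χ (ζ := -1) (m := 2) (g := g)
    (IsPrimitiveRoot.neg_one 0 (by norm_num)) two_pos (by rw [pow_two, hg])
  have h1 := hN 1
  have h0 := hN 0
  simp only [Finset.sum_range_succ, Finset.sum_range_zero, zero_mul, one_mul, pow_zero, mul_one,
    pow_one, zero_add, mul_zero] at h1 h0
  rw [apply_one_eq_charDegree] at h0
  refine ⟨(N 0 : ℤ) - N 1, by rw [h1]; push_cast; ring, ⟨-(N 1 : ℤ), ?_⟩⟩
  have h0' : (charDegree (χ : G → ℂ) : ℤ) = N 0 + N 1 := by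
    apply Int.cast_injective (α := ℂ)
    push_cast
    exact h0
  omega

namespace DihSylow

variable {P : Sylow 2 G} {σ τ : G} {h : ℕ} [Fact (Nat.Prime 2)] (hM : IsPModular 2 M)
  (D : DihSylow P σ τ h)

include D

theorem pow_ne_one {l : ℕ} (hl0 : 0 < l) (hl : l < 2 * h) : σ ^ l ≠ 1 :=
  pow_ne_one_of_lt_orderOf hl0.ne' (by rwa [D.orderσ])

theorem exists_order {u : G} (hu : u ∈ (P : Subgroup G)) : ∃ k : ℕ, orderOf u = 2 ^ k := by
  obtain ⟨k, hk⟩ := IsPGroup.iff_orderOf.1 P.2 ⟨u, hu⟩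
  exact ⟨k, by rwa [Subgroup.orderOf_mk] at hk⟩

theorem mem_pow (l : ℕ) : σ ^ l ∈ Subgroup.zpowers σ := ⟨l, zpow_natCast σ l⟩

open Classical in
include hM in
/-- The principal block columns at powers of the rotation. -/
theorem column_pow {a b : ℕ} (ha0 : 0 < a) (ha : a < 2 * h) (hb0 : 0 < b) (hb : b < 2 * h) :
    ∑ χ ∈ (principalBlock M G).toFinset, (χ : G → ℂ) (σ ^ a) * conj ((χ : G → ℂ) (σ ^ b)) =
      (2 * h : ℕ) * ((if a = b then (1 : ℂ) else 0) + if a + b = 2 * h then 1 else 0) := by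
  have hh := D.two_le
  have hua := D.mem_pow a
  have hub := D.mem_pow b
  rw [← finsum_mem_eq_toFinset_sum,
    principal_column hM (D.exists_order (D.zpowers_le hua)) (D.exists_order (D.zpowers_le hub))]
  have hsq : ∀ c : ℕ, 0 < c → c < 2 * h → (σ ^ c * σ ^ c = 1 ↔ c = h) := by
    intro c hc0 hc
    rw [← pow_add, ← orderOf_dvd_iff_pow_eq_one, D.orderσ]
    refine ⟨fun ⟨k, hk⟩ => ?_, fun e => ⟨1, by omega⟩⟩
    have : k = 1 := by
      rcases k with _ | _ | k
      · omega
      · rfl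
      · nlinarith
    subst this
    omega
  have hinj : ∀ c d : ℕ, c < 2 * h → d < 2 * h → σ ^ c = σ ^ d → c = d := fun c d hc hd e =>
    pow_injOn_Iio_orderOf (Set.mem_Iio.2 (by rw [D.orderσ]; exact hc))
      (Set.mem_Iio.2 (by rw [D.orderσ]; exact hd)) e
  have hinvb : (σ ^ b)⁻¹ = σ ^ (2 * h - b) := by
    refine inv_eq_of_mul_eq_one_right ?_
    rw [← pow_add, show b + (2 * h - b) = 2 * h by omega, ← D.orderσ, pow_orderOf_eq_one]
  by_cases hah : a = h
  · subst hah
    have hiff : IsConj (σ ^ a) (σ ^ b) ↔ a = b := by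
      refine ⟨fun hc => ?_, fun e => e ▸ IsConj.refl _⟩
      obtain ⟨g, hg⟩ := isConj_iff.1 hc
      refine ((hsq b hb0 hb).1 ?_).symm
      rw [← hg, show g * σ ^ a * g⁻¹ * (g * σ ^ a * g⁻¹) = g * (σ ^ a * σ ^ a) * g⁻¹ by group,
        (hsq a ha0 ha).2 rfl, mul_one, mul_inv_cancel]
    let R := P.subtype D.le_centralizer_central
    rw [principalDegSq_of_complement hM (D.complement (D.zpowers_le hua) (D.pow_ne_one ha0 ha)) R,
      Sylow.coe_subtype, Nat.card_congr (Subgroup.subgroupOfEquivOfLe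
        D.le_centralizer_central).toEquiv, D.card]
    by_cases hab : a = b
    · subst hab
      rw [if_pos (hiff.2 rfl), if_pos rfl, if_pos (by omega)]
      push_cast; ring
    · rw [if_neg (mt hiff.1 hab), if_neg hab, if_neg (by omega)]
      simp
  · have ha2 : σ ^ a * σ ^ a ≠ 1 := mt (hsq a ha0 ha).1 hah
    have hiff : IsConj (σ ^ a) (σ ^ b) ↔ (a = b ∨ a + b = 2 * h) := by
      refine ⟨fun hc => ?_, ?_⟩
      · obtain ⟨g, hg⟩ := isConj_iff.1 hc.symm
        rcases D.conj_rotation hub hua ha2 hg with e | e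
        · exact Or.inl (hinj a b ha hb e)
        · rw [hinvb] at e
          have := hinj a _ ha (by omega) e
          exact Or.inr (by omega)
      · rintro (e | e)
        · exact e ▸ IsConj.refl _
        · refine isConj_iff.2 ⟨τ, ?_⟩
          rw [D.τ_conj hua]
          refine inv_eq_of_mul_eq_one_right ?_
          rw [← pow_add, e, ← D.orderσ, pow_orderOf_eq_one]
    obtain ⟨R, hR⟩ := D.exists_sylow_rotation hua ha2
    rw [principalDegSq_of_complement hM (D.complement (D.zpowers_le hua) (D.pow_ne_one ha0 ha)) R,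
      ← Subgroup.card_map_of_injective (Subgroup.subtype_injective _), hR, Nat.card_zpowers,
      D.orderσ]
    by_cases hab : a = b
    · rw [if_pos (hiff.2 (Or.inl hab)), if_pos hab, if_neg (by omega)]
      simp
    · by_cases hab' : a + b = 2 * h
      · rw [if_pos (hiff.2 (Or.inr hab')), if_neg hab, if_pos hab']
        simp
      · rw [if_neg (mt hiff.1 (by simp [hab, hab'])), if_neg hab, if_neg hab']
        simp

open Classical in
include hM in
/-- The multiplicity differences of the rotation on the principal block. -/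
theorem exists_weights {ζ : ℂ} (hζ : IsPrimitiveRoot ζ (2 * h)) :
    ∃ w : ℕ → IrrCharacter G → ℤ,
      (∀ j, 0 < j → j < 2 * h → w j (trivChar G) = -1) ∧
      (∀ (χ : IrrCharacter G) (l : ℕ), 0 < l → l < 2 * h → (χ : G → ℂ) (σ ^ l) =
        ∑ j ∈ Finset.Ioo 0 (2 * h), (w j χ : ℂ) * ζ ^ (j * l)) ∧
      (∀ χ : IrrCharacter G, ∃ k : ℤ, (χ : G → ℂ) (σ ^ h) = k ∧
        Even (k - charDegree (χ : G → ℂ))) ∧
      (∀ j k, 0 < j → j < 2 * h → 0 < k → k < 2 * h →
        ∑ χ ∈ (principalBlock M G).toFinset, w j χ * w k χ =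
          2 + (if j = k then 1 else 0) + if j + k = 2 * h then 1 else 0) ∧
      ∀ j, 0 < j → j < 2 * h → ∀ ρ : G, IsPRegular 2 ρ →
        ∑ χ ∈ (principalBlock M G).toFinset, (w j χ : ℂ) * (χ : G → ℂ) ρ = 0 := by
  have hh := D.two_le
  have hm : 0 < 2 * h := by omega
  have hN : ∀ χ : IrrCharacter G, ∃ N : ℕ → ℕ, ∀ l : ℕ, (χ : G → ℂ) (σ ^ l) =
      ∑ j ∈ Finset.range (2 * h), (N j : ℂ) * ζ ^ (j * l) := fun χ =>
    exists_multiplicity χ hζ hm (by rw [← D.orderσ, pow_orderOf_eq_one])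
  choose N hN using hN
  have horth : ∀ d : ℤ, -((2 * h : ℕ) : ℤ) < d → d < (2 * h : ℕ) →
      ∑ l ∈ Finset.range (2 * h), ζ ^ (d * l) = if d = 0 then ((2 * h : ℕ) : ℂ) else 0 := by
    intro d h1 h2
    rw [sum_zpow_mul_eq hζ hm]
    refine if_congr ⟨fun ⟨c, hc⟩ => ?_, fun e => e ▸ dvd_zero _⟩ rfl rfl
    have : c = 0 := by
      rcases lt_trichotomy c 0 with hc0 | hc0 | hc0
      · nlinarith
      · exact hc0
      · nlinarith
    rw [hc, this, mul_zero]
  have hnat : ∀ j l : ℕ, ζ ^ (j * l) = ζ ^ ((j : ℤ) * l) := fun j l => by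
    rw [← Int.natCast_mul, zpow_natCast]
  have hζ0 : ζ ≠ 0 := hζ.ne_zero hm.ne'
  -- inversion
  have hinv : ∀ (χ : IrrCharacter G) (j : ℕ), j < 2 * h →
      ∑ l ∈ Finset.range (2 * h), (χ : G → ℂ) (σ ^ l) * ζ ^ (-(j : ℤ) * l) =
        (2 * h : ℕ) * (N χ j : ℂ) := by
    intro χ j hj
    simp only [hN, Finset.sum_mul]
    rw [Finset.sum_comm, Finset.sum_eq_single j]
    · rw [Finset.sum_congr rfl (g := fun _ => (N χ j : ℂ)) fun l _ => by
        rw [mul_assoc, hnat, ← zpow_add₀ hζ0, show (j : ℤ) * l + -(j : ℤ) * l = 0 by ring,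
          zpow_zero, mul_one], Finset.sum_const, Finset.card_range, nsmul_eq_mul]
    · intro i hi hne
      rw [Finset.sum_congr rfl (g := fun l : ℕ => (N χ i : ℂ) * ζ ^ (((i : ℤ) - j) * l))
        fun l _ => by
          rw [mul_assoc, hnat, ← zpow_add₀ hζ0]
          congr 2
          ring, ← Finset.mul_sum,
        horth _ (by have := Finset.mem_range.1 hi; omega) (by have := Finset.mem_range.1 hi; omega),
        if_neg (by omega), mul_zero]
    · exact fun hnot => absurd (Finset.mem_range.2 hj) hnot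
  have hsumN : ∀ χ : IrrCharacter G,
      (charDegree (χ : G → ℂ) : ℂ) = ∑ j ∈ Finset.range (2 * h), (N χ j : ℂ) := fun χ => by
    have h0 := hN χ 0
    simp only [pow_zero, mul_zero, mul_one] at h0
    rw [← h0, apply_one_eq_charDegree]
  obtain ⟨w, hw⟩ : ∃ w : ℕ → IrrCharacter G → ℤ, w = fun j χ => (N χ j : ℤ) - N χ 0 := ⟨_, rfl⟩
  have hwC : ∀ (χ : IrrCharacter G) (j : ℕ), j < 2 * h → (w j χ : ℂ) =
      ((2 * h : ℕ) : ℂ)⁻¹ * ∑ l ∈ Finset.range (2 * h),
        (χ : G → ℂ) (σ ^ l) * (ζ ^ (-(j : ℤ) * l) - 1) := by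
    intro χ j hj
    have h0 := hinv χ 0 hm
    simp only [Nat.cast_zero, neg_zero, zero_mul, zpow_zero, mul_one] at h0
    simp only [hw, mul_sub, mul_one, Finset.sum_sub_distrib, hinv χ j hj, h0,
      inv_mul_cancel_left₀ (Nat.cast_ne_zero.2 hm.ne' : ((2 * h : ℕ) : ℂ) ≠ 0)]
    push_cast
    ring
  refine ⟨w, fun j hj0 hj => ?_, fun χ l hl0 hl => ?_, fun χ => ?_, fun j k hj0 hj hk0 hk => ?_,
    fun j hj0 hj ρ hρ => ?_⟩
  · apply Int.cast_injective (α := ℂ)
    rw [hwC _ j hj]
    simp only [trivChar_coe, one_mul, Finset.sum_sub_distrib, horth _ (by omega : -((2 * h : ℕ) : ℤ) < -(j : ℤ))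
      (by omega), if_neg (by omega : ¬ -(j : ℤ) = 0), Finset.sum_const, Finset.card_range,
      nsmul_eq_mul, mul_one, zero_sub, mul_neg]
    rw [inv_mul_cancel₀ (Nat.cast_ne_zero.2 hm.ne')]
    simp
  · have h0 : ∑ i ∈ Finset.range (2 * h), ζ ^ (i * l) = 0 := by
      rw [Finset.sum_congr rfl (g := fun i : ℕ => ζ ^ ((l : ℤ) * i)) fun i _ => by
        rw [mul_comm i l, hnat], horth _ (by omega) (by omega), if_neg (by omega)]
    rw [hN, show Finset.Ioo 0 (2 * h) = (Finset.range (2 * h)).erase 0 by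
        ext; simp; omega, Finset.sum_erase _ (by simp [hw])]
    simp only [hw, Int.cast_sub, Int.cast_natCast, sub_mul, Finset.sum_sub_distrib, ← Finset.mul_sum, h0,
      mul_zero, sub_zero]
  · have hh' : (χ : G → ℂ) (σ ^ h) =
        ∑ j ∈ Finset.range (2 * h), (N χ j : ℂ) * (-1) ^ j := by
      have hneg : ζ ^ h = -1 :=
        (hζ.pow (a := h) hm (mul_comm 2 h)).eq_neg_one_of_two_right
      rw [hN]
      exact Finset.sum_congr rfl fun j _ => by rw [mul_comm j h, pow_mul, hneg]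
    refine ⟨∑ j ∈ Finset.range (2 * h), (N χ j : ℤ) * (-1) ^ j, by rw [hh']; push_cast; rfl, ?_⟩
    have hd : (charDegree (χ : G → ℂ) : ℤ) = ∑ j ∈ Finset.range (2 * h), (N χ j : ℤ) := by
      apply Int.cast_injective (α := ℂ)
      push_cast
      exact hsumN χ
    rw [hd, ← Finset.sum_sub_distrib]
    refine Finset.even_sum _ fun j _ => ?_
    rcases Nat.even_or_odd j with hj | hj
    · rw [hj.neg_one_pow]; simp
    · rw [hj.neg_one_pow]
      exact ⟨-(N χ j : ℤ), by ring⟩
  · -- the Gram matrix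
    obtain ⟨f, hf⟩ : ∃ f : ℕ → ℕ → ℂ, f = fun (j l : ℕ) => ζ ^ (-(j : ℤ) * l) - 1 := ⟨_, rfl⟩
    have hf0 : ∀ i, f i 0 = 0 := fun i => by simp [hf]
    have hconjζ : ∀ d : ℤ, conj (ζ ^ d) = ζ ^ (-d) := fun d => by
      have h1 : ‖ζ‖ = 1 := Complex.norm_eq_one_of_pow_eq_one hζ.pow_eq_one hm.ne'
      rw [map_zpow₀, ← Complex.inv_eq_conj h1, inv_zpow, zpow_neg]
    have hfm : ∀ l, l ≤ 2 * h → f k (2 * h - l) = conj (f k l) := fun l hl => by
      simp only [hf, map_sub, map_one, hconjζ]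
      congr 1
      rw [show -(k : ℤ) * ((2 * h - l : ℕ) : ℤ) = -(-(k : ℤ) * l) + ((2 * h : ℕ) : ℤ) * -(k : ℤ) by
        rw [Nat.cast_sub hl]; ring, zpow_add₀ hζ0, zpow_mul ζ ((2 * h : ℕ) : ℤ), zpow_natCast,
        hζ.pow_eq_one, one_zpow, mul_one]
    have key : ∀ a ∈ Finset.range (2 * h),
        f j a * ∑ b ∈ Finset.range (2 * h), conj (f k b) *
          ∑ χ ∈ (principalBlock M G).toFinset, (χ : G → ℂ) (σ ^ a) * conj ((χ : G → ℂ) (σ ^ b)) =
        f j a * ((2 * h : ℕ) * (conj (f k a) + f k a)) := by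
      intro a ha
      by_cases ha0 : a = 0
      · simp [ha0, hf0]
      have ha' := Finset.mem_range.1 ha
      rw [Finset.sum_congr rfl (g := fun b => (2 * h : ℕ) * ((if a = b then conj (f k b) else 0) +
          if 2 * h - a = b then conj (f k b) else 0)) fun b hb => ?_, ← Finset.mul_sum,
        Finset.sum_add_distrib, Finset.sum_ite_eq, Finset.sum_ite_eq, if_pos ha,
        if_pos (Finset.mem_range.2 (by omega)), hfm a ha'.le, Complex.conj_conj]
      by_cases hb0 : b = 0
      · simp [hb0, hf0]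
      · rw [D.column_pow hM (Nat.pos_of_ne_zero ha0) ha' (Nat.pos_of_ne_zero hb0)
          (Finset.mem_range.1 hb)]
        have hiff : a + b = 2 * h ↔ 2 * h - a = b := by omega
        simp only [hiff]
        split_ifs <;> ring
    apply Int.cast_injective (α := ℂ)
    push_cast
    have hconjw : ∀ χ : IrrCharacter G, (w k χ : ℂ) = conj (w k χ : ℂ) := fun χ =>
      (map_intCast _ _).symm
    rw [Finset.sum_congr rfl (g := fun χ : IrrCharacter G => ((2 * h : ℕ) : ℂ)⁻¹ *
        ((2 * h : ℕ) : ℂ)⁻¹ * ∑ a ∈ Finset.range (2 * h), f j a * ∑ b ∈ Finset.range (2 * h),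
          conj (f k b) * ((χ : G → ℂ) (σ ^ a) * conj ((χ : G → ℂ) (σ ^ b)))) fun χ _ => by
      rw [hconjw, hwC χ j hj, hwC χ k hk, map_mul, map_inv₀, map_natCast, map_sum,
        mul_mul_mul_comm, Finset.sum_mul_sum, hf]
      refine congrArg _ (Finset.sum_congr rfl fun a _ => ?_)
      rw [Finset.mul_sum]
      exact Finset.sum_congr rfl fun b _ => by rw [map_mul]; ring,
      ← Finset.mul_sum, Finset.sum_comm]
    simp only [← Finset.mul_sum]
    rw [Finset.sum_congr rfl (g := fun a => f j a * ((2 * h : ℕ) * (conj (f k a) + f k a)))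
      fun a ha => by
        rw [← key a ha, Finset.sum_comm]
        exact congrArg _ (Finset.sum_congr rfl fun b _ => (Finset.mul_sum _ _ _).symm)]
    simp only [hf, map_sub, map_one, hconjζ]
    rw [Finset.sum_congr rfl (g := fun a : ℕ => ((2 * h : ℕ) : ℂ) * (ζ ^ (((k : ℤ) - j) * a) +
        ζ ^ ((-(k : ℤ) - j) * a) - 2 * ζ ^ (-(j : ℤ) * a) - ζ ^ ((k : ℤ) * a) -
        ζ ^ (-(k : ℤ) * a) + 2)) fun a _ => by
      rw [show ((k : ℤ) - j) * a = -(j : ℤ) * a + -(-(k : ℤ) * a) by ring,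
        show (-(k : ℤ) - j) * a = -(j : ℤ) * a + -(k : ℤ) * a by ring,
        show (k : ℤ) * a = -(-(k : ℤ) * a) by ring, zpow_add₀ hζ0, zpow_add₀ hζ0]
      ring, ← Finset.mul_sum]
    have hneg : ∑ a ∈ Finset.range (2 * h), ζ ^ ((-(k : ℤ) - j) * a) =
        if j + k = 2 * h then ((2 * h : ℕ) : ℂ) else 0 := by
      rw [sum_zpow_mul_eq hζ hm]
      refine if_congr ⟨fun ⟨c, hc⟩ => ?_, fun e => ⟨-1, by omega⟩⟩ rfl rfl
      have : c = -1 := by
        push_cast at hc
        rcases lt_trichotomy c (-1) with hc0 | hc0 | hc0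
        · have : c ≤ -2 := by omega
          nlinarith
        · exact hc0
        · have : 0 ≤ c := by omega
          nlinarith
      rw [this] at hc
      omega
    simp only [Finset.sum_add_distrib, Finset.sum_sub_distrib, ← Finset.mul_sum, hneg,
      horth _ (by omega : -((2 * h : ℕ) : ℤ) < (k : ℤ) - j) (by omega),
      horth _ (by omega : -((2 * h : ℕ) : ℤ) < -(j : ℤ)) (by omega),
      horth _ (by omega : -((2 * h : ℕ) : ℤ) < -(k : ℤ)) (by omega),
      horth _ (by omega : -((2 * h : ℕ) : ℤ) < (k : ℤ)) (by omega), Finset.sum_const,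
      Finset.card_range, nsmul_eq_mul, if_neg (by omega : ¬ -(j : ℤ) = 0),
      if_neg (by omega : ¬ -(k : ℤ) = 0), if_neg (by omega : ¬ (k : ℤ) = 0)]
    have hne : ((2 * h : ℕ) : ℂ) ≠ 0 := Nat.cast_ne_zero.2 hm.ne'
    have hiff : ((k : ℤ) - j = 0) ↔ j = k := by omega
    simp only [hiff]
    split_ifs <;> field_simp <;> ring
  · rw [Finset.sum_congr rfl (g := fun χ : IrrCharacter G => ((2 * h : ℕ) : ℂ)⁻¹ *
        ∑ l ∈ Finset.range (2 * h), (ζ ^ (-(j : ℤ) * l) - 1) *
          ((χ : G → ℂ) (σ ^ l) * (χ : G → ℂ) ρ)) fun χ _ => by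
      rw [hwC χ j hj, mul_assoc, Finset.sum_mul]
      exact congrArg _ (Finset.sum_congr rfl fun l _ => by ring),
      ← Finset.mul_sum, Finset.sum_comm, Finset.sum_eq_zero, mul_zero]
    intro l hl
    rw [← Finset.mul_sum]
    by_cases hl0 : l = 0
    · simp [hl0]
    have hne1 := D.pow_ne_one (Nat.pos_of_ne_zero hl0) (Finset.mem_range.1 hl)
    have hnc : ¬ IsConj (pPt 2 (σ ^ l)) (pPt 2 ρ)⁻¹ := by
      rw [(pPt_eq_one_iff ρ).2 hρ, inv_one, isConj_one_left]
      intro e
      obtain ⟨k, hk⟩ := D.exists_order (D.zpowers_le (D.mem_pow l))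
      refine (pPt_eq_one_iff _).1 e ?_
      rw [hk]
      exact dvd_pow_self 2 fun h0 => hne1 (orderOf_eq_one_iff.1 (by rw [hk, h0, pow_zero]))
    have h0 := sum_block_mul_eq_zero hM (vInt_indVec hM (isPBlock_principal (G := G))) hnc
    rw [finsum_mem_eq_toFinset_sum] at h0
    rw [h0, mul_zero]

end DihSylow

end Cfsg.Lib.Block
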