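import Cfsg.Agent.Lib.Char.Galois
import Cfsg.Agent.Lib.Char.Central
import Mathlib.RingTheory.Norm.Transitivity
import Mathlib.Analysis.SpecialFunctions.Log.Basic

/-!
# Square sums of nonzero cyclotomic integers

A rational sum of squared absolute values of nonzero algebraic integers of a cyclotomic field is
at least the number of terms.
-/

set_option autoImplicit false
set_option linter.unusedSectionVars false
set_option maxHeartbeats 400000

namespace Cfsg.Lib.Block

open Cfsg Cfsg.Lib.Char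
open scoped ComplexConjugate

theorem sub_card_nonneg_of_prod {ι : Type*} (s : Finset ι) (x : ι → ℝ) (hpos : ∀ i ∈ s, 0 < x i)
    (hprod : 1 ≤ ∏ i ∈ s, x i) : (s.card : ℝ) ≤ ∑ i ∈ s, x i := by
  have h1 : ∑ i ∈ s, Real.log (x i) ≤ ∑ i ∈ s, (x i - 1) :=
    Finset.sum_le_sum fun i hi => Real.log_le_sub_one_of_pos (hpos i hi)
  rw [← Real.log_prod (fun i hi => (hpos i hi).ne')] at h1
  have h2 := Real.log_nonneg hprod
  rw [Finset.sum_sub_distrib, Finset.sum_const, nsmul_eq_mul, mul_one] at h1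
  linarith

/-- Embeddings of a cyclotomic field commute with complex conjugation. -/
theorem exists_conj_commute (N : ℕ) [NeZero N] :
    ∀ z : cycField N, ∃ w : cycField N, (w : ℂ) = conj (z : ℂ) ∧
      ∀ σ : cycField N →ₐ[ℚ] ℂ, σ w = conj (σ z) := by
  have hζ := Complex.isPrimitiveRoot_exp N (NeZero.ne N)
  let c : ℂ →ₐ[ℚ] ℂ := (Complex.conjAe.toAlgHom).restrictScalars ℚ
  have hle : cycField N ≤ (cycField N).comap c := by
    refine IntermediateField.adjoin_le_iff.2 ?_
    rintro z hz
    rw [Set.mem_singleton_iff] at hz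
    subst hz
    show c _ ∈ cycField N
    refine mem_cycField ?_
    rw [← map_pow, hζ.pow_eq_one, map_one]
  let cj : cycField N →ₐ[ℚ] cycField N :=
    (c.comp (cycField N).val).codRestrict (cycField N).toSubalgebra fun z => hle z.2
  intro z
  refine ⟨cj z, rfl, fun σ => ?_⟩
  have e : σ.comp cj = c.comp σ := by
    refine IntermediateField.algHom_ext_of_eq_adjoin (F := ℚ) rfl ?_
    intro x hx
    obtain ⟨k, -, hk⟩ := exists_actsAsPow σ
    have hroot : ∀ y : cycField N, (y : ℂ) ^ N = 1 → σ (cj y) = c (σ y) := fun y hy => by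
      have h2 : ((cj y : cycField N) : ℂ) ^ N = 1 := by
        show (c (y : ℂ)) ^ N = 1
        rw [← map_pow, hy, map_one]
      rw [hk _ h2, hk _ hy, map_pow]
      rfl
    refine hroot _ ?_
    rw [Set.mem_singleton_iff] at hx
    show x ^ N = 1
    rw [hx]
    exact hζ.pow_eq_one
  exact DFunLike.congr_fun e z

/-- Nonzero cyclotomic integers whose squared absolute values add up to a natural number are at
most that many. -/
theorem card_le_of_sum_sq {N : ℕ} [NeZero N] {ι : Type*} (s : Finset ι) (z : ι → cycField N)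
    (hint : ∀ i ∈ s, IsIntegral ℤ (z i : ℂ)) (hne : ∀ i ∈ s, z i ≠ 0) {q : ℕ}
    (hq : ∑ i ∈ s, (z i : ℂ) * conj (z i : ℂ) = (q : ℂ)) : s.card ≤ q := by
  classical
  haveI := finiteDimensional_cycField N
  choose w hw hwσ using exists_conj_commute N
  set n := Fintype.card (cycField N →ₐ[ℚ] ℂ) with hn
  have hall : ∀ σ : cycField N →ₐ[ℚ] ℂ, ∑ i ∈ s, ‖σ (z i)‖ ^ 2 = (q : ℝ) := by
    intro σ
    have e : ∑ i ∈ s, z i * w (z i) = (q : cycField N) := by
      apply Subtype.ext
      push_cast
      rw [← hq]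
      exact Finset.sum_congr rfl fun i _ => by rw [hw]
    have h := congrArg σ e
    rw [map_sum, map_natCast] at h
    simp only [map_mul, hwσ, Complex.mul_conj'] at h
    exact_mod_cast h
  have hterm : ∀ i ∈ s, (n : ℝ) ≤ ∑ σ : cycField N →ₐ[ℚ] ℂ, ‖σ (z i)‖ ^ 2 := by
    intro i hi
    refine sub_card_nonneg_of_prod Finset.univ _ (fun σ _ => ?_) ?_
    · have : σ (z i) ≠ 0 := fun h => hne i hi (σ.toRingHom.injective (h.trans (map_zero σ).symm))
      positivity
    · have hai : IsIntegral ℤ (z i) :=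
        (isIntegral_algHom_iff (algebraMap (cycField N) ℂ).toIntAlgHom
          (algebraMap (cycField N) ℂ).injective).mp (hint i hi)
      have hnorm := Algebra.norm_eq_prod_embeddings ℚ ℂ (z i)
      obtain ⟨k, hk⟩ := exists_int_of_isIntegral_rat
        (q := Algebra.norm ℚ (z i)) ((Algebra.isIntegral_norm ℚ hai).algebraMap (B := ℂ))
      have hk0 : k ≠ 0 := by
        intro h
        rw [h, Int.cast_zero] at hk
        exact hne i hi (Algebra.norm_eq_zero_iff.mp hk)
      rw [Finset.prod_pow, ← norm_prod, ← hnorm, hk]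
      have h1 : (1 : ℤ) ≤ |k| := Int.one_le_abs hk0
      have h2 : (1 : ℝ) ≤ |(k : ℝ)| := by exact_mod_cast h1
      refine one_le_pow₀ ?_
      simpa [Complex.norm_intCast] using h2
  have htot : (s.card : ℝ) * n ≤ (q : ℝ) * n := by
    calc (s.card : ℝ) * n = ∑ _i ∈ s, (n : ℝ) := by rw [Finset.sum_const, nsmul_eq_mul]
      _ ≤ ∑ i ∈ s, ∑ σ : cycField N →ₐ[ℚ] ℂ, ‖σ (z i)‖ ^ 2 := Finset.sum_le_sum hterm
      _ = (q : ℝ) * n := by
        rw [Finset.sum_comm, Finset.sum_congr rfl fun σ _ => hall σ, Finset.sum_const,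
          Finset.card_univ, nsmul_eq_mul, mul_comm]
  haveI : Nonempty (cycField N →ₐ[ℚ] ℂ) := ⟨(cycField N).val⟩
  have hn0 : (0 : ℝ) < n := by rw [hn]; exact_mod_cast Fintype.card_pos
  exact_mod_cast le_of_mul_le_mul_right htot hn0

end Cfsg.Lib.Block
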