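import Cfsg.Agent.Lib.Block.CentralDefect
import Cfsg.Agent.Lib.Block.CycEstimate

/-!
# Contributions at a subsection

The contribution matrix of a subsection is `p ^ d` times an idempotent of trace the rank of the
block of the centralizer. For a major subsection its entries at height zero characters are
nonzero cyclotomic integers.
-/

set_option autoImplicit false
set_option linter.unusedSectionVars false
set_option maxHeartbeats 400000

namespace Cfsg.Lib.Block

open Cfsg
open scoped ComplexConjugate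

universe u

variable {p : ℕ} {M : Ideal AlgInt} {G : Type u} [Group G] [Fintype G] [Fact p.Prime]
  (hM : IsPModular p M)

include hM in
/-- Regular inner products in a block have rank one modulo the prime. -/
theorem regN_sub_mem_ideal {B : Set (IrrCharacter G)} (hB : IsPBlock M B) {χ₀ : IrrCharacter G}
    (hχ₀ : χ₀ ∈ B) (h0 : blockHeight p B (χ₀ : G → ℂ) = 0) {χ η : IrrCharacter G}
    (hχ : χ ∈ B) (hη : η ∈ B) :
    MemLocalIdeal M (regN p B χ η - regN p B χ₀ χ₀ *
      ((χ : G → ℂ) 1 / (χ₀ : G → ℂ) 1) * ((η : G → ℂ) 1 / (χ₀ : G → ℂ) 1)) := by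
  have hmin := (blockHeight_eq_zero_iff hχ₀).1 h0
  have hratio : ∀ {a b : IrrCharacter G}, a ∈ B → b ∈ B → blockHeight p B (b : G → ℂ) = 0 →
      (a : G → ℂ) 1 / (b : G → ℂ) 1 ∈ locRing hM := by
    intro a b ha hb hb0
    rw [apply_one_eq_charDegree a, apply_one_eq_charDegree b]
    exact natCast_div_mem hM (charDegree_pos b).ne'
      (Or.inr (((blockHeight_eq_zero_iff hb).1 hb0).le.trans (minVal_le (p := p) ha)))
  have hrow : ∀ {a b c : IrrCharacter G}, a ∈ B → b ∈ B → c ∈ B →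
      MemLocalIdeal M (regN p B a c * ((c : G → ℂ) 1 / (a : G → ℂ) 1) -
        regN p B b c * ((c : G → ℂ) 1 / (b : G → ℂ) 1)) := by
    intro a b c ha hb hc
    rw [regN_mul_div, regN_mul_div]
    exact apply_sub_apply_mem hM (vInt_regElt hM (degFactor_mem hM hB hc))
      (sameBlock_of_mem hM hB ha hb)
  have d0 : (χ₀ : G → ℂ) 1 ≠ 0 := χ₀.2.apply_one_ne_zero
  have hcol : ∀ {a : IrrCharacter G}, a ∈ B →
      MemLocalIdeal M (regN p B a χ₀ - regN p B χ₀ χ₀ * ((a : G → ℂ) 1 / (χ₀ : G → ℂ) 1)) := by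
    intro a ha
    have h := memLocalIdeal_mul_right hM (hrow ha hχ₀ hχ₀) (hratio ha hχ₀ h0)
    have d1 : (a : G → ℂ) 1 ≠ 0 := a.2.apply_one_ne_zero
    convert h using 1
    field_simp
  have hint : ∀ {a b : IrrCharacter G}, a ∈ B → b ∈ B → regN p B a b ∈ locRing hM := by
    intro a b ha hb
    obtain ⟨n, hn, -, -⟩ := exists_int_regN hM hB ha hb
    rw [hn]
    exact mul_mem (intCast_mem _ _) (natCast_mem _ _)
  rcases Nat.eq_zero_or_pos (blockHeight p B (η : G → ℂ)) with hη0 | hηpos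
  · have h := memLocalIdeal_mul_right hM (hrow hχ hχ₀ hη) (hratio hχ hη hη0)
    have h2 := memLocalIdeal_mul_left hM (hratio hχ hχ₀ h0) (hcol hη)
    have h3 := memLocalIdeal_add hM h h2
    have d1 : (χ : G → ℂ) 1 ≠ 0 := χ.2.apply_one_ne_zero
    have d2 : (η : G → ℂ) 1 ≠ 0 := η.2.apply_one_ne_zero
    convert h3 using 1
    rw [regN_symm (p := p) B η χ₀]
    field_simp
    ring
  · obtain ⟨n, hn, -, -⟩ := exists_int_regN hM hB hχ hη
    refine memLocalIdeal_sub hM ?_ (memLocalIdeal_mul_left hM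
      (mul_mem (hint hχ₀ hχ₀) (hratio hχ hχ₀ h0)) ?_)
    · rw [hn]
      refine memLocalIdeal_mul_left hM (intCast_mem _ _) ((memLocalIdeal_natCast_iff hM _).2 ?_)
      exact dvd_pow_self p hηpos.ne'
    · rw [apply_one_eq_charDegree η, apply_one_eq_charDegree χ₀]
      refine natCast_div_mem_ideal hM (charDegree_pos χ₀).ne' (Or.inr ?_)
      have := minVal_le (p := p) hη
      rw [blockHeight_eq] at hηpos
      omega

section Section

variable {H : Subgroup G} [Fintype H] {u : G}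

theorem blockPart_idem (b : Set (IrrCharacter H)) (θ : H → ℂ) (y : H) :
    (Nat.card H : ℂ)⁻¹ * ∑ g : H, blockPart b θ g * regKer b y g = blockPart b θ y := by
  classical
  have e : ∀ g : H, blockPart b θ g = ∑ η ∈ b.toFinset, classInner θ (η : H → ℂ) * (η : H → ℂ) g := by
    intro g
    simp only [blockPart, finsum_mem_eq_toFinset_sum]
    refine Finset.sum_congr rfl fun η _ => ?_
    congr 1
    simp only [classInner]
    congr 1
    exact Finset.sum_congr (by ext; simp) fun _ _ => rfl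
  simp only [e, Finset.sum_mul]
  rw [Finset.sum_comm, Finset.mul_sum]
  refine Finset.sum_congr rfl fun η hη => ?_
  simp only [mul_assoc, ← Finset.mul_sum]
  rw [mul_left_comm, sum_char_mul_regKer, if_pos (Set.mem_toFinset.1 hη)]

/-- The contribution of a pair of characters at a subsection. -/
noncomputable def contr (p d : ℕ) (u : G) (b : Set (IrrCharacter H)) (χ η : IrrCharacter G) : ℂ :=
  ((p ^ d : ℕ) : ℂ) * classInner (pRegularPart p (blockPart b (secFn u H (χ : G → ℂ))))
    (blockPart b (secFn u H (η : G → ℂ)))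

theorem contr_conj (d : ℕ) (b : Set (IrrCharacter H)) (χ η : IrrCharacter G) :
    conj (contr p d u b χ η) = contr p d u b η χ := by
  simp only [contr, classInner, map_mul, map_natCast, map_inv₀, map_sum]
  congr 2
  refine Finset.sum_congr rfl fun g _ => ?_
  by_cases hg : IsPRegular p g
  · rw [pRegularPart_of_reg hg, pRegularPart_of_reg hg, Complex.conj_conj, mul_comm]
  · rw [pRegularPart_of_sing hg, pRegularPart_of_sing hg]; simp

variable {b : Set (IrrCharacter H)} {B : Set (IrrCharacter G)}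

open Classical in
include hM in
theorem sum_contr_mul (hu : ∃ k : ℕ, orderOf u = p ^ k) (hHu : ∀ h : H, Commute u (h : G))
    (hCH : Subgroup.centralizer ({u} : Set G) ≤ H) (hind : IsInducedBlock M H b B) (d : ℕ)
    (χ : IrrCharacter G) :
    ∑ η ∈ B.toFinset, contr p d u b χ η * contr p d u b η χ =
      ((p ^ d : ℕ) : ℂ) * contr p d u b χ χ := by
  simp only [contr, classInner, Finset.mul_sum, Finset.sum_mul]
  rw [Finset.sum_comm]
  refine Finset.sum_congr rfl fun t _ => ?_
  rw [Finset.sum_comm]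
  by_cases ht : IsPRegular p t
  · have hid := blockPart_idem b (secFn u H (χ : G → ℂ)) t
    simp only [Finset.mul_sum] at hid
    conv_rhs => rw [pRegularPart_of_reg ht]
    generalize hT : conj (blockPart b (secFn u H (χ : G → ℂ)) t) = T
    rw [← hid]
    simp only [Finset.mul_sum, Finset.sum_mul]
    refine Finset.sum_congr rfl fun s _ => ?_
    by_cases hs : IsPRegular p s
    · rw [← sum_blockPart_mul_conj_block hM hu hHu hCH hind ht hs]
      simp only [Finset.mul_sum, Finset.sum_mul]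
      refine Finset.sum_congr rfl fun η _ => ?_
      rw [pRegularPart_of_reg ht, pRegularPart_of_reg hs]
      ring
    · rw [regKer_eq_zero hM (vInt_indVec hM hind.1) ht hs]
      simp [pRegularPart_of_sing hs]
  · conv_rhs => rw [pRegularPart_of_sing ht]
    simp [pRegularPart_of_sing ht]

open Classical in
include hM in
theorem sum_contr_diag (hu : ∃ k : ℕ, orderOf u = p ^ k) (hHu : ∀ h : H, Commute u (h : G))
    (hCH : Subgroup.centralizer ({u} : Set G) ≤ H) (hind : IsInducedBlock M H b B) (d : ℕ) :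
    ∑ χ ∈ B.toFinset, contr p d u b χ χ = ((p ^ d : ℕ) : ℂ) * (blockRank p b : ℂ) := by
  have h := sum_reg_regKer (p := p) hM (vInt_indVec hM hind.1)
  have hl : (blockRank p b : ℂ) =
      (Nat.card H : ℂ)⁻¹ * ∑ᶠ y : H, pRegularPart p (fun y : H => regKer b y y) y := by
    rw [h, inv_mul_cancel_left₀ Char.card_cast_ne_zero]
  rw [hl, finsum_eq_sum_of_fintype]
  simp only [contr, classInner, Finset.mul_sum]
  rw [Finset.sum_comm]
  refine Finset.sum_congr rfl fun y _ => ?_
  by_cases hy : IsPRegular p y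
  · rw [pRegularPart_of_reg (χ := fun y : H => regKer b y y) hy,
      ← sum_blockPart_mul_conj_block hM hu hHu hCH hind hy hy, Finset.mul_sum, Finset.mul_sum]
    exact Finset.sum_congr rfl fun χ _ => by rw [pRegularPart_of_reg hy]
  · rw [pRegularPart_of_sing hy]
    simp [pRegularPart_of_sing hy]

open Classical in
include hM in
theorem contr_eq_sum (hb : IsPBlock M b) (d : ℕ) (hd : blockDefect p b = d)
    (χ η : IrrCharacter G) :
    contr p d u b χ η = ∑ ξ ∈ b.toFinset, ∑ ξ' ∈ b.toFinset,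
      classInner (secFn u H (χ : G → ℂ)) (ξ : H → ℂ) *
        conj (classInner (secFn u H (η : G → ℂ)) (ξ' : H → ℂ)) * regN p b ξ ξ' := by
  have e : ∀ θ : H → ℂ, blockPart b θ =
      ∑ ξ ∈ b.toFinset, classInner θ (ξ : H → ℂ) • (ξ : H → ℂ) := fun θ => by
    funext c
    simp only [blockPart, finsum_mem_eq_toFinset_sum, Finset.sum_apply, Pi.smul_apply, smul_eq_mul]
    refine Finset.sum_congr rfl fun φ _ => ?_
    congr 1
    simp only [classInner]
    congr 1
    exact Finset.sum_congr (by ext; simp) fun _ _ => rfl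
  have e2 : pRegularPart p (blockPart b (secFn u H (χ : G → ℂ))) =
      ∑ ξ ∈ b.toFinset, classInner (secFn u H (χ : G → ℂ)) (ξ : H → ℂ) •
        pRegularPart p (ξ : H → ℂ) := by
    funext c
    rw [e]
    simp only [Finset.sum_apply, Pi.smul_apply, smul_eq_mul]
    by_cases hc : IsPRegular p c
    · simp [pRegularPart_of_reg hc]
    · simp [pRegularPart_of_sing hc]
  rw [contr, e2, e (secFn u H (η : G → ℂ)), Char.classInner_sum_left, Finset.mul_sum]
  refine Finset.sum_congr rfl fun ξ _ => ?_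
  rw [Char.classInner_smul_left, Char.classInner_sum_right, Finset.mul_sum, Finset.mul_sum]
  refine Finset.sum_congr rfl fun ξ' _ => ?_
  rw [Char.classInner_smul_right, regN, hd, regInner]
  ring

theorem classInner_secFn (huH : u ∈ H) (hHu : ∀ h : H, Commute u (h : G)) (χ : IrrCharacter G)
    (ξ : IrrCharacter H) :
    ∃ c : ℂ, c ^ orderOf u = 1 ∧ classInner (secFn u H (χ : G → ℂ)) (ξ : H → ℂ) =
      c * classInner (fun h : H => (χ : G → ℂ) h) (ξ : H → ℂ) := by
  set z : H := ⟨u, huH⟩ with hz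
  have hzc : z⁻¹ ∈ Subgroup.center H := by
    refine inv_mem (Subgroup.mem_center_iff.2 fun g => Subtype.ext ?_)
    simp only [hz, Subgroup.coe_mul]
    exact (hHu g).eq.symm
  obtain ⟨c, hc, hcg⟩ := exists_central_scalar ξ hzc
  rw [orderOf_inv, hz, Subgroup.orderOf_mk] at hc
  refine ⟨conj c, by rw [← map_pow, hc, map_one], ?_⟩
  simp only [classInner, Finset.mul_sum]
  refine Fintype.sum_equiv (Equiv.mulLeft z) _ _ fun g => ?_
  simp only [Equiv.coe_mulLeft, secFn, Subgroup.coe_mul]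
  have h := hcg (z * g)
  rw [inv_mul_cancel_left] at h
  rw [h, map_mul]
  simp only [hz]
  ring

open Classical in
include hM in
theorem regVal_eq_sum (hb : IsPBlock M b) (ξ₀ : IrrCharacter H) (hξ₀ : ξ₀ ∈ b)
    (χ : IrrCharacter G) :
    regVal p ξ₀ (fun h : H => (χ : G → ℂ) h) =
      (((Nat.card H : ℕ) : ℂ) / ((charDegree (ξ₀ : H → ℂ) * p ^ blockDefect p b : ℕ) : ℂ)) *
        ∑ ξ ∈ b.toFinset, classInner (fun h : H => (χ : G → ℂ) h) (ξ : H → ℂ) * regN p b ξ ξ₀ := by
  have hreal : ∀ ξ : IrrCharacter H,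
      conj (classInner (fun h : H => (χ : G → ℂ) h) (ξ : H → ℂ)) =
        classInner (fun h : H => (χ : G → ℂ) h) (ξ : H → ℂ) := fun ξ => by
    obtain ⟨n, hn⟩ := (χ.2.isCharacter.comp H.subtype).exists_nat_classInner ξ.2.isCharacter
    rw [show classInner (fun h : H => (χ : G → ℂ) h) (ξ : H → ℂ) = n from hn, map_natCast]
  have hres : (fun h : H => (χ : G → ℂ) h) =
      ∑ ξ : IrrCharacter H, classInner (fun h : H => (χ : G → ℂ) h) (ξ : H → ℂ) • (ξ : H → ℂ) :=
    Char.eq_sum_classInner (fun a k => by simpa using χ.2.isClassFunction (a : G) (k : G))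
  rw [regVal]
  conv_lhs => arg 1; arg 2; rw [hres, regInner_sum_right]
  rw [← Finset.sum_subset (Finset.subset_univ b.toFinset) (fun ξ _ hξ => by
    rw [regInner_eq_zero hM (vInt_indVec hM hb) hξ₀ (fun h => hξ (Set.mem_toFinset.2 h)),
      mul_zero]), Finset.mul_sum, Finset.sum_div, Finset.mul_sum]
  refine Finset.sum_congr rfl fun ξ _ => ?_
  rw [hreal, regN_symm, regN, apply_one_eq_charDegree ξ₀]
  have hq : ((p ^ blockDefect p b : ℕ) : ℂ) ≠ 0 := by
    exact_mod_cast (pow_pos (Fact.out : p.Prime).pos _).ne'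
  have hd : ((charDegree (ξ₀ : H → ℂ) : ℕ) : ℂ) ≠ 0 := by exact_mod_cast (charDegree_pos ξ₀).ne'
  push_cast at hq ⊢
  field_simp

open Classical in
include hM in
/-- The bound for a block of height zero characters at a major subsection. -/
theorem card_sq_le_of_major (hu : ∃ k : ℕ, orderOf u = p ^ k) (hHu : ∀ h : H, Commute u (h : G))
    (hCH : Subgroup.centralizer ({u} : Set G) ≤ H) (hind : IsInducedBlock M H b B) {d : ℕ}
    (hbd : blockDefect p b = d) (hh : ∀ χ ∈ B, blockHeight p B (χ : G → ℂ) = 0) :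
    Nat.card B ^ 2 ≤ p ^ (2 * d) * blockRank p b := by
  have huH : u ∈ H := hCH (Subgroup.mem_centralizer_iff.2 fun z hz => by
    rw [Set.mem_singleton_iff] at hz; rw [hz])
  obtain ⟨e, he⟩ := hu
  obtain ⟨ξ₀, hξ₀, hmin⟩ := exists_minVal (p := p) (nonempty_of_isPBlock hM hind.1)
  have h0 : blockHeight p b (ξ₀ : H → ℂ) = 0 := (blockHeight_eq_zero_iff hξ₀).2 hmin
  choose c hc hcχ using fun (χ : IrrCharacter G) (ξ : IrrCharacter H) =>
    classInner_secFn huH hHu χ ξ
  have hnat : ∀ (χ : IrrCharacter G) (ξ : IrrCharacter H),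
      ∃ n : ℕ, classInner (fun h : H => (χ : G → ℂ) h) (ξ : H → ℂ) = n :=
    fun χ ξ => (χ.2.isCharacter.comp H.subtype).exists_nat_classInner ξ.2.isCharacter
  choose n hn using hnat
  obtain ⟨m, hm⟩ := exists_regForm hM hind.1
  -- the entries as cyclotomic integers
  haveI : NeZero (Nat.card G) := ⟨Nat.card_pos.ne'⟩
  have hcK : ∀ χ ξ, c χ ξ ^ Nat.card G = 1 := fun χ ξ => by
    obtain ⟨j, hj⟩ := orderOf_dvd_natCard u
    rw [hj, pow_mul, hc, one_pow]
  have hcbar : ∀ χ ξ, conj (c χ ξ) ^ Nat.card G = 1 := fun χ ξ => by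
    rw [← map_pow, hcK, map_one]
  let z : IrrCharacter G × IrrCharacter G → Char.cycField (Nat.card G) := fun q =>
    ∑ ξ ∈ b.toFinset, ∑ ξ' ∈ b.toFinset,
      ((n q.1 ξ * n q.2 ξ' : ℕ) : Char.cycField (Nat.card G)) *
        (⟨c q.1 ξ, Char.mem_cycField (hcK q.1 ξ)⟩ *
          ⟨conj (c q.2 ξ'), Char.mem_cycField (hcbar q.2 ξ')⟩) *
        ((m ξ ξ' : ℤ) : Char.cycField (Nat.card G))
  have hz : ∀ χ η, (z (χ, η) : ℂ) = contr p d u b χ η := by
    intro χ η
    rw [contr_eq_sum hM hind.1 d hbd]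
    simp only [z]
    push_cast
    refine Finset.sum_congr rfl fun ξ hξ => Finset.sum_congr rfl fun ξ' hξ' => ?_
    rw [hcχ, hcχ, hn, hn, map_mul, map_natCast,
      hm.eq ξ (Set.mem_toFinset.1 hξ) ξ' (Set.mem_toFinset.1 hξ')]
    ring
  have hzint : ∀ q, IsIntegral ℤ (z q : ℂ) := by
    intro q
    simp only [z]
    push_cast
    refine IsIntegral.sum _ fun ξ _ => IsIntegral.sum _ fun ξ' _ => ?_
    refine ((isIntegral_natCast _).mul (isIntegral_natCast _)).mul
      ((IsIntegral.of_pow Nat.card_pos ((hcK q.1 ξ).symm ▸ isIntegral_one)).mul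
        (IsIntegral.of_pow Nat.card_pos ((hcbar q.2 ξ').symm ▸ isIntegral_one))) |>.mul
      (isIntegral_intCast _)
  -- reduction modulo the prime
  set N00 := regN p b ξ₀ ξ₀ with hN00
  set A : IrrCharacter G → ℂ := fun χ =>
    ∑ ξ ∈ b.toFinset, (n χ ξ : ℂ) * ((ξ : H → ℂ) 1 / (ξ₀ : H → ℂ) 1) with hA
  have hratio : ∀ ξ ∈ b.toFinset, (ξ : H → ℂ) 1 / (ξ₀ : H → ℂ) 1 ∈ locRing hM := fun ξ hξ => by
    rw [apply_one_eq_charDegree ξ, apply_one_eq_charDegree ξ₀]
    exact natCast_div_mem hM (charDegree_pos ξ₀).ne'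
      (Or.inr (hmin.le.trans (minVal_le (p := p) (Set.mem_toFinset.1 hξ))))
  have hNmem : N00 ∈ locRing hM := by
    rw [hN00, hm.eq ξ₀ hξ₀ ξ₀ hξ₀]; exact intCast_mem _ _
  have hAmem : ∀ χ, A χ ∈ locRing hM := fun χ =>
    sum_mem fun ξ hξ => mul_mem (natCast_mem _ _) (hratio ξ hξ)
  have hunit : ∀ χ ∈ B, ¬ MemLocalIdeal M (N00 * A χ) := by
    intro χ hχ hcon
    refine regVal_restrict_not_mem hM (restrictRel_of_induced hM hind hξ₀ hχ) hind.2.1 hχ hχ
      (hh χ hχ) ?_
    rw [regVal_eq_sum hM hind.1 ξ₀ hξ₀]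
    refine memLocalIdeal_mul_left hM (natCast_div_mem hM
      (Nat.mul_ne_zero (charDegree_pos ξ₀).ne' (pow_ne_zero _ hM.1.ne_zero)) (Or.inr ?_)) ?_
    · rw [factorization_deg_pow, hmin]
      have := blockDefect_add_minVal (p := p) (nonempty_of_isPBlock hM hind.1)
      omega
    · have hs : MemLocalIdeal M (∑ ξ ∈ b.toFinset, (n χ ξ : ℂ) *
          (regN p b ξ ξ₀ - N00 * ((ξ : H → ℂ) 1 / (ξ₀ : H → ℂ) 1) *
            ((ξ₀ : H → ℂ) 1 / (ξ₀ : H → ℂ) 1))) :=
        memLocalIdeal_sum hM _ _ fun ξ hξ => memLocalIdeal_mul_left hM (natCast_mem _ _)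
          (regN_sub_mem_ideal hM hind.1 hξ₀ h0 (Set.mem_toFinset.1 hξ) hξ₀)
      have h2 := memLocalIdeal_add hM hs hcon
      simp only [hA, div_self ξ₀.2.apply_one_ne_zero, mul_one, mul_sub, Finset.sum_sub_distrib,
        Finset.mul_sum] at h2
      convert h2 using 1
      rw [sub_add, sub_eq_self.2]
      · exact Finset.sum_congr rfl fun ξ _ => by rw [hn]
      · rw [sub_eq_zero]
        exact Finset.sum_congr rfl fun ξ _ => by ring
  have hcong : ∀ χ η, MemLocalIdeal M (contr p d u b χ η - N00 * A χ * A η) := by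
    intro χ η
    have e₁ : contr p d u b χ η - N00 * A χ * A η = ∑ ξ ∈ b.toFinset, ∑ ξ' ∈ b.toFinset,
        ((n χ ξ : ℂ) * (n η ξ' : ℂ)) * ((regN p b ξ ξ' - N00 * ((ξ : H → ℂ) 1 / (ξ₀ : H → ℂ) 1) *
          ((ξ' : H → ℂ) 1 / (ξ₀ : H → ℂ) 1)) + (c χ ξ * conj (c η ξ') - 1) * regN p b ξ ξ') := by
      rw [contr_eq_sum hM hind.1 d hbd]
      simp only [hA, Finset.mul_sum, Finset.sum_mul]
      rw [Finset.sum_comm (f := fun ξ' ξ => N00 * ((n χ ξ : ℂ) * _) * ((n η ξ' : ℂ) * _)),
        ← Finset.sum_sub_distrib]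
      refine Finset.sum_congr rfl fun ξ _ => ?_
      rw [← Finset.sum_sub_distrib]
      refine Finset.sum_congr rfl fun ξ' _ => ?_
      rw [hcχ, hcχ, hn, hn, map_mul, map_natCast]
      ring
    rw [e₁]
    refine memLocalIdeal_sum hM _ _ fun ξ hξ => memLocalIdeal_sum hM _ _ fun ξ' hξ' => ?_
    refine memLocalIdeal_mul_left hM (mul_mem (natCast_mem _ _) (natCast_mem _ _))
      (memLocalIdeal_add hM
        (regN_sub_mem_ideal hM hind.1 hξ₀ h0 (Set.mem_toFinset.1 hξ) (Set.mem_toFinset.1 hξ'))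
        (memLocalIdeal_mul_right hM ?_ ?_))
    · refine memLocalIdeal_sub_one_of_pow_prime_pow hM (k := e) ?_
      rw [mul_pow, ← map_pow, ← he, hc, hc, map_one, mul_one]
    · rw [hm.eq ξ (Set.mem_toFinset.1 hξ) ξ' (Set.mem_toFinset.1 hξ')]
      exact intCast_mem _ _
  have hne : ∀ q ∈ B.toFinset ×ˢ B.toFinset, z q ≠ 0 := by
    rintro ⟨χ, η⟩ hq h
    rw [Finset.mem_product, Set.mem_toFinset, Set.mem_toFinset] at hq
    have h1 := hcong χ η
    rw [← hz χ η, h] at h1
    have h2 := memLocalIdeal_mul_left hM (neg_mem hNmem) h1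
    refine mul_not_ideal hM (mul_mem hNmem (hAmem χ)) (mul_mem hNmem (hAmem η))
      (hunit χ hq.1) (hunit η hq.2) ?_
    convert h2 using 1
    push_cast
    ring
  have hsum : ∑ q ∈ B.toFinset ×ˢ B.toFinset, (z q : ℂ) * conj (z q : ℂ) =
      ((p ^ d * p ^ d * blockRank p b : ℕ) : ℂ) := by
    rw [Finset.sum_product]
    simp only [hz, contr_conj]
    rw [Finset.sum_congr rfl fun χ _ => sum_contr_mul hM ⟨e, he⟩ hHu hCH hind d χ,
      ← Finset.mul_sum, sum_contr_diag hM ⟨e, he⟩ hHu hCH hind d]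
    push_cast
    ring
  have hk := card_le_of_sum_sq (B.toFinset ×ˢ B.toFinset) z (fun q _ => hzint q) hne hsum
  rw [Finset.card_product, Set.toFinset_card, ← Nat.card_eq_fintype_card] at hk
  rw [sq, two_mul, pow_add]
  exact hk

end Section

end Cfsg.Lib.Block
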