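import Cfsg.Agent.Lib.Block.KleinData
import Cfsg.Agent.Lib.Char.Indicator

/-!
# Indicators in the principal 2-block for a four-group Sylow subgroup
-/

set_option autoImplicit false
set_option linter.unusedSectionVars false
set_option maxHeartbeats 800000

namespace Cfsg.Lib.Block

open Cfsg
open scoped ComplexConjugate

universe u

variable {G : Type u} [Group G] [Fintype G] {P : Sylow 2 G} {M : Ideal AlgInt}
  (hM : IsPModular 2 M) (hP : KleinCond P) {z : G} (hz : orderOf z = 2)

include hP in
theorem klein_sq_regular (s : G) : IsPRegular 2 (s * s) := by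
  haveI : Fact (Nat.Prime 2) := ⟨Nat.prime_two⟩
  obtain ⟨k, hk⟩ := exists_orderOf_pPt (p := 2) s
  have h1 := hP.sq_of_two_power hk
  have h2 : s * s = pReg 2 s ^ 2 := by
    calc s * s = (pPt 2 s * pReg 2 s) ^ 2 := by rw [pPt_mul_pReg, pow_two]
      _ = pPt 2 s ^ 2 * pReg 2 s ^ 2 := (pPt_commute_pReg s).mul_pow 2
      _ = pReg 2 s ^ 2 := by rw [pow_two (pPt 2 s), h1, one_mul]
  rw [h2, IsPRegular]
  exact fun hd => not_dvd_orderOf_pReg (p := 2) s (hd.trans (orderOf_pow_dvd 2))

include hP in
open Classical in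
/-- Square roots of an element of odd order. -/
theorem klein_card_sqrt {y : G} (hy : IsPRegular 2 y) :
    (Finset.univ.filter fun s : G => s * s = y).card =
      (Finset.univ.filter fun t : G => t * t = 1 ∧ Commute y t).card := by
  haveI : Fact (Nat.Prime 2) := ⟨Nat.prime_two⟩
  obtain ⟨m, hm⟩ : Odd (orderOf y) := Nat.not_even_iff_odd.1 fun h => hy (even_iff_two_dvd.1 h)
  have hroot : (y ^ (m + 1)) * (y ^ (m + 1)) = y := by
    rw [← pow_add, show m + 1 + (m + 1) = (2 * m + 1) + 1 by ring, ← hm, pow_succ,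
      pow_orderOf_eq_one, one_mul]
  refine Finset.card_nbij' (fun s => pPt 2 s) (fun t => t * y ^ (m + 1)) ?_ ?_ ?_ ?_
  · intro s hs
    have hsy : s * s = y := (Finset.mem_filter.1 hs).2
    obtain ⟨k, hk⟩ := exists_orderOf_pPt (p := 2) s
    refine Finset.mem_filter.2 ⟨Finset.mem_univ _, hP.sq_of_two_power hk, ?_⟩
    rw [← hsy]
    have h : Commute s (pPt 2 s) := by
      nth_rw 1 [← pPt_mul_pReg (p := 2) s]
      exact (Commute.refl _).mul_left (pPt_commute_pReg s).symm
    exact h.mul_left h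
  · intro t ht
    obtain ⟨-, ht1, htc⟩ := Finset.mem_filter.1 ht
    refine Finset.mem_filter.2 ⟨Finset.mem_univ _, ?_⟩
    have hc : Commute (y ^ (m + 1)) t := htc.pow_left _
    calc t * y ^ (m + 1) * (t * y ^ (m + 1))
        = t * (y ^ (m + 1) * t) * y ^ (m + 1) := by group
      _ = (t * t) * (y ^ (m + 1) * y ^ (m + 1)) := by rw [hc.eq]; group
      _ = y := by rw [ht1, one_mul, hroot]
  · intro s hs
    have hsy : s * s = y := (Finset.mem_filter.1 hs).2
    obtain ⟨k, hk⟩ := exists_orderOf_pPt (p := 2) s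
    have h1 := hP.sq_of_two_power hk
    set r := pReg 2 s with hr
    have hr2 : r * r = y := by
      rw [← hsy]
      calc r * r = pPt 2 s ^ 2 * r ^ 2 := by rw [pow_two, pow_two, h1, one_mul]
        _ = (pPt 2 s * r) ^ 2 := ((pPt_commute_pReg s).mul_pow 2).symm
        _ = s * s := by rw [hr, pPt_mul_pReg, pow_two]
    obtain ⟨j, hj⟩ : Odd (orderOf r) :=
      Nat.not_even_iff_odd.1 fun h => not_dvd_orderOf_pReg (p := 2) s (even_iff_two_dvd.1 h)
    have hord : orderOf y = orderOf r := by
      rw [← hr2, ← pow_two]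
      exact Nat.Coprime.orderOf_pow (by rw [hj]; simp)
    have hyr : y ^ (m + 1) = r := by
      rw [← hr2, ← pow_two, ← pow_mul, show 2 * (m + 1) = (2 * m + 1) + 1 by ring, ← hm, hord,
        pow_succ, pow_orderOf_eq_one, one_mul]
    show pPt 2 s * y ^ (m + 1) = s
    rw [hyr, hr, pPt_mul_pReg]
  · intro t ht
    obtain ⟨-, ht1, htc⟩ := Finset.mem_filter.1 ht
    show pPt 2 (t * y ^ (m + 1)) = t
    have hpow : ∃ k : ℕ, orderOf t = 2 ^ k := by
      obtain ⟨k, -, hk⟩ := (Nat.dvd_prime_pow Nat.prime_two).1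
        (show orderOf t ∣ 2 ^ 1 by rw [pow_one]; exact orderOf_dvd_of_pow_eq_one (by rw [pow_two, ht1]))
      exact ⟨k, hk⟩
    exact pPt_mul_reg hpow (htc.pow_left _).symm
      (fun hd => hy (hd.trans (orderOf_pow_dvd _)))

include hM hP hz in
open Classical in
/-- The indicator sum of a character of the block. -/
theorem klein_indicator {χ : IrrCharacter G} (hχ : χ ∈ principalBlock M G) :
    ∑ s, (χ : G → ℂ) (s * s) =
      ∑ g, (χ : G → ℂ) g +
        ((Char.classFinset z).card : ℂ) *
          (∑ g ∈ Finset.univ.filter (fun g : G => Commute g z), (χ : G → ℂ) g) -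
        (Nat.card G : ℂ) * (χ : G → ℂ) z := by
  set T := Finset.univ.filter (fun t : G => t * t = 1) with hT
  set F : G → ℂ := fun g => ((Finset.univ.filter fun s : G => s * s = g).card : ℂ) -
    ((T.filter fun t => Commute g t).card : ℂ) with hF
  have hF0 : ∀ g, IsPRegular 2 g → F g = 0 := fun g hg => by
    simp only [hF]
    rw [klein_card_sqrt hP hg, sub_eq_zero, hT, Finset.filter_filter]
  have hTe : T = insert 1 (Char.classFinset z) := by
    ext t
    simp only [hT, Finset.mem_filter, Finset.mem_univ, true_and, Finset.mem_insert,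
      Char.mem_classFinset]
    constructor
    · intro ht
      by_cases h1 : t = 1
      · exact Or.inl h1
      · exact Or.inr (hP.fuse _ _ hz (orderOf_eq_two_of_sq ht h1))
    · rintro (rfl | h)
      · exact one_mul 1
      · obtain ⟨c, rfl⟩ := isConj_iff.1 h
        rw [show c * z * c⁻¹ * (c * z * c⁻¹) = c * (z * z) * c⁻¹ by group, ← pow_two, ← hz,
          pow_orderOf_eq_one, mul_one, mul_inv_cancel]
  have h1T : (1 : G) ∉ Char.classFinset z := by
    rw [Char.mem_classFinset]
    intro hc
    obtain ⟨c, hc⟩ := isConj_iff.1 hc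
    have e : z = 1 := conj_eq_one_iff.1 hc
    rw [e, orderOf_one] at hz
    omega
  have hconst : ∀ (η : IrrCharacter G) (t : G), t ∈ Char.classFinset z →
      ∑ g ∈ Finset.univ.filter (fun g : G => Commute g t), (η : G → ℂ) g =
        ∑ g ∈ Finset.univ.filter (fun g : G => Commute g z), (η : G → ℂ) g := by
    intro η t ht
    obtain ⟨c, rfl⟩ := isConj_iff.1 (Char.mem_classFinset.1 ht)
    simp only [Finset.sum_filter]
    refine (Fintype.sum_equiv (MulAut.conj c).toEquiv _ _ fun g => ?_).symm
    have : Commute (c * g * c⁻¹) (c * z * c⁻¹) ↔ Commute g z := by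
      simp only [Commute, SemiconjBy, conj_mul]
      simp
    simp only [MulEquiv.toEquiv_eq_coe, EquivLike.coe_coe, MulAut.conj_apply, this,
      η.2.isClassFunction g c]
  have htot : ∀ η : IrrCharacter G, ∑ g, F g * (η : G → ℂ) g =
      ∑ s, (η : G → ℂ) (s * s) - (∑ g, (η : G → ℂ) g + ((Char.classFinset z).card : ℂ) *
        (∑ g ∈ Finset.univ.filter (fun g : G => Commute g z), (η : G → ℂ) g)) := by
    intro η
    simp only [hF, sub_mul, Finset.sum_sub_distrib]
    congr 1
    · simp only [← nsmul_eq_mul, ← Finset.sum_const]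
      rw [← Finset.sum_fiberwise Finset.univ (fun s : G => s * s) fun s => (η : G → ℂ) (s * s)]
      refine Finset.sum_congr rfl fun g _ => Finset.sum_congr rfl fun s hs => ?_
      rw [(Finset.mem_filter.1 hs).2]
    · simp only [← nsmul_eq_mul, ← Finset.sum_const, Finset.sum_filter]
      rw [Finset.sum_comm, hTe, Finset.sum_insert h1T]
      simp only [Commute.one_right, if_true]
      congr 1
      simp only [← Finset.sum_filter]
      rw [Finset.sum_congr rfl (hconst η), Finset.sum_const, nsmul_eq_mul]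
  have hsing : ∀ {η : IrrCharacter G}, η ∈ principalBlock M G →
      ∑ g, F g * (η : G → ℂ) g = (∑ g, F g) * (η : G → ℂ) z := by
    intro η hη
    rw [Finset.sum_mul]
    refine Finset.sum_congr rfl fun g _ => ?_
    by_cases hg : IsPRegular 2 g
    · rw [hF0 g hg, zero_mul, zero_mul]
    · rw [klein_apply_singular hM hP hz hη hg]
  have hK : ∑ g, F g = -(Nat.card G : ℂ) := by
    have h := htot (trivChar G)
    rw [hsing (trivChar_mem_principal hM)] at h
    simp only [trivChar_coe, mul_one, Finset.sum_const, nsmul_eq_mul, Finset.card_univ,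
      ← Nat.card_eq_fintype_card] at h
    rw [h, ← Nat.cast_mul, Char.card_classFinset,
      show (Finset.univ.filter fun g : G => Commute g z).card =
        Nat.card (Subgroup.centralizer ({z} : Set G)) by
        rw [← Fintype.card_subtype, ← Nat.card_eq_fintype_card]
        exact Nat.card_congr (Equiv.subtypeEquivRight fun g =>
          Subgroup.mem_centralizer_singleton_iff.symm),
      Subgroup.index_mul_card]
    ring
  have h := htot χ
  rw [hsing hχ, hK] at h
  linear_combination -h

include hM hP hz in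
open Classical in
/-- In the block the indicator is non-negative, and `1` where the value at `z` is `-1`. -/
theorem klein_indicator_cases {χ : IrrCharacter G} (hχ : χ ∈ principalBlock M G) :
    (∑ s, (χ : G → ℂ) (s * s) = (Nat.card G : ℂ)) ∨
      ((¬ ∀ s, ((χ : G → ℂ) s).im = 0) ∧ (χ : G → ℂ) z = 1 ∧
        ∑ s, (χ : G → ℂ) (s * s) = 0) := by
  haveI : Fact (Nat.Prime 2) := ⟨Nat.prime_two⟩
  by_cases ht : χ = trivChar G
  · subst ht
    left
    simp [trivChar_coe, Nat.card_eq_fintype_card]
  obtain ⟨Q, hzQ, hQ⟩ := hP.exists_sylow hz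
  let C := Subgroup.centralizer ({z} : Set G)
  obtain ⟨O, hOn, hOd, hOi, -⟩ : ∃ O : Subgroup C, O.Normal ∧ ¬ 2 ∣ Nat.card O ∧ O.index = 4 ∧ _ :=
    hQ.exists_complement hzQ hz
  letI : Fintype C := Fintype.ofFinite _
  letI : Fintype O := Fintype.ofFinite _
  have hidx : ∃ k : ℕ, O.index = 2 ^ k := ⟨2, by rw [hOi]; norm_num⟩
  obtain ⟨n, hn⟩ := ((χ.2.isCharacter.comp C.subtype).comp O.subtype).exists_nat_classInner
    (Char.isCharacter_one (G := O))
  simp only [classInner, map_one, mul_one, Subgroup.coe_subtype] at hn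
  rw [inv_mul_eq_iff_eq_mul₀ (Nat.cast_ne_zero.2 Nat.card_pos.ne')] at hn
  have hC : ∑ g ∈ Finset.univ.filter (fun g : G => Commute g z), (χ : G → ℂ) g =
      (Nat.card O : ℂ) * ((n : ℂ) + 3 * (χ : G → ℂ) z) := by
    have hCO : (Nat.card C : ℕ) = 4 * Nat.card O := by rw [← O.card_mul_index, hOi, mul_comm]
    rw [Finset.sum_subtype (p := fun g => g ∈ C) _ (fun g => by
      simp only [Finset.mem_filter, Finset.mem_univ, true_and, C,
        Subgroup.mem_centralizer_singleton_iff]
      rfl),
      ← Finset.sum_filter_add_sum_filter_not Finset.univ (fun g : C => g ∈ O)]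
    rw [← Finset.sum_subtype (Finset.univ.filter fun g : C => g ∈ O) (by simp)
      (fun g : C => (χ : G → ℂ) (g : G))] at hn
    rw [hn, Finset.sum_congr rfl (fun g hg => klein_apply_singular hM hP hz hχ (fun hr => by
      refine (Finset.mem_filter.1 hg).2 ((mem_iff_isPRegular hM hOd hidx g).2 ?_)
      unfold IsPRegular at hr ⊢
      rwa [orderOf_submonoid] at hr)), Finset.sum_const, nsmul_eq_mul]
    have hcnt : (Finset.univ.filter fun g : C => ¬ g ∈ O).card = 3 * Nat.card O := by
      have := Finset.card_filter_add_card_filter_not (s := (Finset.univ : Finset C))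
        (fun g : C => g ∈ O)
      rw [Finset.card_univ, ← Fintype.card_subtype, ← Nat.card_eq_fintype_card,
        ← Nat.card_eq_fintype_card, hCO] at this
      have e : Nat.card {g : C // g ∈ O} = Nat.card O := rfl
      omega
    rw [hcnt]
    push_cast
    ring
  have hsum : ∑ g, (χ : G → ℂ) g = 0 := by rw [sum_irr_eq_card, if_neg ht]
  have h := klein_indicator hM hP hz hχ
  rw [hsum, hC, zero_add] at h
  have hG : ((Char.classFinset z).card : ℂ) * (4 * (Nat.card O : ℂ)) = (Nat.card G : ℂ) := by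
    rw [Char.card_classFinset,
      show (4 : ℂ) * (Nat.card O : ℂ) = ((O.index * Nat.card O : ℕ) : ℂ) by rw [hOi]; norm_num,
      Subgroup.index_mul_card, ← Nat.cast_mul, Subgroup.index_mul_card]
  have h4 : 4 * ∑ s, (χ : G → ℂ) (s * s) = (Nat.card G : ℂ) * ((n : ℂ) - (χ : G → ℂ) z) := by
    rw [h, ← hG]; ring
  have hG0 : (Nat.card G : ℂ) ≠ 0 := Char.card_cast_ne_zero
  obtain ⟨hsg, -⟩ := klein_signs hM hP hz
  rcases Char.indicator_cases χ.2 with ⟨hr, hS⟩ | ⟨-, hS | ⟨hS, -⟩⟩
  · rw [hS, mul_zero, eq_comm, mul_eq_zero, or_iff_right hG0, sub_eq_zero] at h4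
    rcases hsg χ hχ with e | e
    · exact Or.inr ⟨hr, e, hS⟩
    · exfalso
      rw [e] at h4
      have := congrArg Complex.re h4
      simp only [Complex.natCast_re, Complex.neg_re, Complex.one_re] at this
      linarith [Nat.cast_nonneg (α := ℝ) n]
  · exact Or.inl hS
  · exfalso
    rw [hS] at h4
    have h5 : (n : ℂ) - (χ : G → ℂ) z = -4 := by
      apply mul_left_cancel₀ hG0
      linear_combination -h4
    have h6 := congrArg Complex.re h5
    rcases hsg χ hχ with e | e <;> rw [e] at h6 <;> simp at h6 <;>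
      linarith [Nat.cast_nonneg (α := ℝ) n]

include hM hP hz in
open Classical in
/-- The signed sum of the indicators vanishes. -/
theorem klein_indicator_sum :
    ∑ χ ∈ (principalBlock M G).toFinset, (χ : G → ℂ) z * ∑ s, (χ : G → ℂ) (s * s) = 0 := by
  have hG : (Nat.card G : ℂ) ≠ 0 := Char.card_cast_ne_zero
  have h0 : ∑ g ∈ Finset.univ.filter (fun g : G => ¬ IsPRegular 2 g), ∑ s : G,
      ∑ χ : IrrCharacter G, (χ : G → ℂ) g * conj ((χ : G → ℂ) (s * s)) = 0 := by
    refine Finset.sum_eq_zero fun g hg => Finset.sum_eq_zero fun s _ => ?_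
    rw [Char.column_orthogonality, if_neg]
    intro hc
    obtain ⟨c, hc⟩ := isConj_iff.1 hc
    refine (Finset.mem_filter.1 hg).2 ?_
    rw [← isPRegular_conj_iff g c, hc]
    exact klein_sq_regular hP s
  simp only [Finset.sum_comm (t := (Finset.univ : Finset (IrrCharacter G)))] at h0
  simp only [← Finset.mul_sum, ← Finset.sum_mul] at h0
  have h1 := congrArg (fun t => 4 * t) h0
  simp only [Finset.mul_sum (s := (Finset.univ : Finset (IrrCharacter G))), mul_zero, ← mul_assoc,
    klein_sum_singular hM hP hz] at h1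
  simp only [mul_ite, ite_mul, mul_zero, zero_mul, ← Finset.sum_filter, mul_assoc,
    ← Finset.mul_sum] at h1
  rw [mul_eq_zero, or_iff_right hG] at h1
  have h2 := congrArg conj h1
  rw [map_zero, map_sum] at h2
  refine Eq.trans (Finset.sum_congr (by ext; simp) fun χ _ => ?_) h2
  obtain ⟨m, hm⟩ := int_value_involution χ hz
  rw [map_mul, hm, map_intCast, map_sum]
  simp only [Complex.conj_conj]

include hM hP hz in
open Classical in
/-- The two characters with sign `1` have the same degree. -/
theorem klein_degree_eq {χ₁ χ₂ χ₃ : IrrCharacter G}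
    (hB : principalBlock M G = {χ : IrrCharacter G |
      (χ : G → ℂ) = (fun _ => 1) ∨ χ = χ₁ ∨ χ = χ₂ ∨ χ = χ₃})
    (hdist : (χ₁ : G → ℂ) ≠ (fun _ => 1) ∧ (χ₂ : G → ℂ) ≠ (fun _ => 1) ∧
      (χ₃ : G → ℂ) ≠ (fun _ => 1) ∧ χ₁ ≠ χ₂ ∧ χ₁ ≠ χ₃ ∧ χ₂ ≠ χ₃)
    (h1 : (χ₁ : G → ℂ) z = 1) (h2 : (χ₂ : G → ℂ) z = 1) (h3 : (χ₃ : G → ℂ) z = -1) :
    charDegree (χ₁ : G → ℂ) = charDegree (χ₂ : G → ℂ) := by
  have hG : (Nat.card G : ℂ) ≠ 0 := Char.card_cast_ne_zero
  have hs := klein_indicator_sum hM hP hz
  rw [sum_block_four hB hdist, h1, h2, h3] at hs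
  simp only [trivChar_coe, Finset.sum_const, Finset.card_univ, nsmul_eq_mul, mul_one, one_mul,
    ← Nat.card_eq_fintype_card] at hs
  have hm : ∀ i, i = χ₁ ∨ i = χ₂ ∨ i = χ₃ → i ∈ principalBlock M G := fun i hi => by
    rw [hB]; exact Or.inr hi
  have c3 : ∑ s, (χ₃ : G → ℂ) (s * s) = (Nat.card G : ℂ) := by
    rcases klein_indicator_cases hM hP hz (hm χ₃ (Or.inr (Or.inr rfl))) with h | ⟨-, h, -⟩
    · exact h
    · rw [h3] at h; norm_num at h
  rw [c3] at hs
  rcases klein_indicator_cases hM hP hz (hm χ₁ (Or.inl rfl)) with a1 | ⟨nr, -, a1⟩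
  · exfalso
    rcases klein_indicator_cases hM hP hz (hm χ₂ (Or.inr (Or.inl rfl))) with a2 | ⟨-, -, a2⟩
    · rw [a1, a2] at hs
      exact hG (by linear_combination hs / 2)
    · rw [a1, a2] at hs
      exact hG (by linear_combination hs)
  · let ψ : IrrCharacter G :=
      ⟨fun g => conj ((χ₁ : G → ℂ) g), Char.isIrrCharacter_conjFn χ₁.2⟩
    have hψB : ψ ∈ principalBlock M G := by
      refine mem_principal_of_regSum_ne hM ψ fun h => klein_regSum_ne hM hP hz
        (hm χ₁ (Or.inl rfl)) ?_
      have e : ∑ g, pRegularPart 2 (ψ : G → ℂ) g = conj (∑ g, pRegularPart 2 (χ₁ : G → ℂ) g) := by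
        rw [map_sum]
        refine Finset.sum_congr rfl fun g _ => ?_
        simp only [pRegularPart]
        split_ifs
        · rfl
        · simp
      rw [e] at h
      have h' := congrArg conj h
      rwa [Complex.conj_conj, map_zero] at h'
    have hψz : (ψ : G → ℂ) z = 1 := by
      show conj ((χ₁ : G → ℂ) z) = 1
      rw [h1, map_one]
    rw [hB] at hψB
    rcases hψB with e | e | e | e
    · exfalso
      refine hdist.1 (funext fun g => ?_)
      have := congrArg conj (congrFun e g)
      simpa [ψ] using this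
    · exfalso
      refine nr fun s => Complex.conj_eq_iff_im.1 ?_
      exact congrFun (congrArg Subtype.val e) s
    · rw [← e]
      apply charDegree_eq_of_apply_one (χ := (χ₁ : G → ℂ))
      show (χ₁ : G → ℂ) 1 = _
      rw [← apply_one_eq_charDegree]
      exact (conj_apply_one χ₁).symm
    · exfalso
      rw [e, h3] at hψz
      norm_num at hψz

end Cfsg.Lib.Block
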