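import Cfsg.Agent.Lib.Block.NilpotentPairs
import Cfsg.Agent.Lib.Block.SubsectionApps

/-!
# Local blocks of a block with abelian defect group
-/

set_option autoImplicit false
set_option linter.unusedSectionVars false
set_option maxHeartbeats 800000

namespace Cfsg.Lib.Block

open Cfsg

universe u

variable {p : ℕ} {M : Ideal AlgInt} {G : Type u} [Group G] [Fintype G] [Fact p.Prime]

noncomputable local instance (priority := high) fintypeSubgroupAbelianLocal {A : Type u}
    [Group A] [Fintype A] (H : Subgroup A) : Fintype H := Fintype.ofFinite H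

local notation "C[" Q "]" => Subgroup.centralizer (SetLike.coe Q)

theorem cen_map_le {Q : Subgroup G} {U' : Subgroup C[Q]} (hU : Q ≤ U'.map C[Q].subtype) :
    C[U'.map C[Q].subtype] ≤ C[Q] :=
  Subgroup.centralizer_le (SetLike.coe_subset_coe.2 hU)

theorem isInducedBlockIn_iff_up {Q : Subgroup G} {f : Set (IrrCharacter C[Q])}
    {U' : Subgroup C[Q]} (h : C[U'.map C[Q].subtype] ≤ C[Q])
    (c : Set (IrrCharacter C[U'.map C[Q].subtype])) :
    IsInducedBlockIn M C[Q] C[U'.map C[Q].subtype] c f ↔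
      IsInducedBlock M (Subgroup.centralizer (U' : Set C[Q])) (pullSet (cenUp U' h) c) f := by
  have key : ∀ (ξ : IrrCharacter C[U'.map C[Q].subtype]) (g : C[Q]),
      inducedCentralCharIn C[Q] C[U'.map C[Q].subtype] (ξ : _ → ℂ) (g : G) =
        inducedCentralChar (Subgroup.centralizer (U' : Set C[Q]))
          (compIrr (cenUp U' h) ξ : _ → ℂ) g := by
    intro ξ g
    refine (finsum_mem_eq_of_bijOn (cenUp U' h) ⟨?_, (cenUp U' h).injective.injOn, ?_⟩
      fun z _ => ?_).symm
    · intro z hz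
      obtain ⟨x, hx⟩ := isConj_iff.1 (IsConj.symm (show IsConj g (z : C[Q]) from hz))
      exact ⟨x, congrArg Subtype.val hx⟩
    · rintro k ⟨x, hx⟩
      refine ⟨(cenUp U' h).symm k, IsConj.symm (isConj_iff.2 ⟨x, Subtype.ext ?_⟩),
        (cenUp U' h).apply_symm_apply k⟩
      exact hx
    · rw [compIrr_apply, compIrr_apply, map_one]
  constructor
  · rintro ⟨hc, hf, hs⟩
    refine ⟨isPBlock_pullSet _ hc, hf, fun η hη χ hχ g => ?_⟩
    have h1 := hs _ (show compIrr (cenUp U' h).symm η ∈ c from hη) χ hχ g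
    rwa [key, compIrr_compIrr_symm] at h1
  · rintro ⟨hc, hf, hs⟩
    refine ⟨by rw [← pullSet_symm (cenUp U' h) c]; exact isPBlock_pullSet _ hc, hf,
      fun ξ hξ χ hχ g => ?_⟩
    rw [key]
    exact hs _ (mem_pullSet.2 hξ) χ hχ g

variable (hM : IsPModular p M)

include hM in
/-- Induction inside the centralizer of `Q` is inclusion of pairs. -/
theorem isInducedBlockIn_iff_subpair {Q : Subgroup G} {f : Set (IrrCharacter C[Q])}
    {U' : Subgroup C[Q]} (hU : Q ≤ U'.map C[Q].subtype) (hUp : IsPGroup p U')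
    (hab : U' ≤ Subgroup.centralizer (U' : Set C[Q])) (hQf : IsBrauerPair p M Q f)
    {c : Set (IrrCharacter C[U'.map C[Q].subtype])} (hc : IsPBlock M c) :
    IsInducedBlockIn M C[Q] C[U'.map C[Q].subtype] c f ↔
      IsNormalSubpair p M Q f (U'.map C[Q].subtype) c := by
  have h := cen_map_le hU
  have hloc := isLocalBlock_centralizer hM hQf.2
  have hup : upBlock U' (hloc.cen_up hU) (pullSet (cenUp U' h) c) = c := pullSet_symm _ _
  rw [isInducedBlockIn_iff_up h c,
    ← isBrauerPairOf_iff_induced hM hUp le_rfl hab (Subgroup.centralizer_le_normalizer _)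
      (fun v => invOn_self v) (isPBlock_pullSet _ hc) (isPBlock_pullSet _ hc) (fun _ => rfl)
      hQf.2,
    isBrauerPairOf_local_iff hM hloc hQf hU, hup]

variable {B : Set (IrrCharacter G)} {P : Subgroup G} {c : Set (IrrCharacter C[P])}

include hM in
/-- A root of a block at an abelian defect group is a maximal pair. -/
theorem maximal_of_root (hB : IsPBlock M B) (hD : IsDefectGroup p M B P)
    (hab : ∀ x ∈ P, ∀ y ∈ P, x * y = y * x) (hc : IsInducedBlock M C[P] c B) :
    IsMaximalBrauerPair p M B P c := by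
  refine maximal_of_defectGroup hM ?_ hD
  exact (isBrauerPairOf_iff_induced hM (isPGroup_defectGroup hM hD) le_rfl
    (le_centralizer_of_abelian hab le_rfl) (Subgroup.centralizer_le_normalizer _)
    (fun v => invOn_self v) hc.1 hc.1 (fun _ => rfl) hB).2 hc

include hM in
/-- The subpairs of a root are the induced blocks. -/
theorem isInducedBlockIn_iff_le (hPc : IsBrauerPair p M P c)
    (hab : ∀ x ∈ P, ∀ y ∈ P, x * y = y * x) {Q : Subgroup G} (hQP : Q ≤ P)
    (f : Set (IrrCharacter C[Q])) :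
    IsInducedBlockIn M C[Q] C[P] c f ↔ SubpairLE p M Q f P c := by
  have hPC := le_centralizer_of_abelian hab hQP
  obtain ⟨P', hP'⟩ : ∃ P' : Subgroup C[Q], P'.map C[Q].subtype = P :=
    ⟨P.subgroupOf C[Q], Subgroup.map_subgroupOf_eq_of_le hPC⟩
  subst hP'
  have hPp : IsPGroup p P' :=
    hPc.1.of_equiv (P'.equivMapOfInjective C[Q].subtype C[Q].subtype_injective).symm
  have habP : P' ≤ Subgroup.centralizer (P' : Set C[Q]) := fun x hx =>
    Subgroup.mem_centralizer_iff.2 fun y hy => Subtype.ext (hab y ⟨y, hy, rfl⟩ x ⟨x, hx, rfl⟩)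
  constructor
  · intro h
    exact Relation.ReflTransGen.single ((isInducedBlockIn_iff_subpair hM hQP hPp habP
      ⟨hPc.1.to_le hQP, h.2.1⟩ hPc.2).1 h : IsNormalSubpair p M Q f _ c)
  · intro h
    obtain ⟨g, hg, hn⟩ := normalSubpair_below hM hPc h hQP le_rfl
      (hPC.trans (Subgroup.centralizer_le_normalizer _))
    cases subpair_unique hM hPc hg Relation.ReflTransGen.refl
    exact (isInducedBlockIn_iff_subpair hM hQP hPp habP hn.1 hPc.2).2 hn

include hM in
/-- The local block at `Q` is nilpotent when the inertial group meets `C(Q)` in `C(P)`. -/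
theorem nilpotent_subpair_iff (hmax : IsMaximalBrauerPair p M B P c)
    (hab : ∀ x ∈ P, ∀ y ∈ P, x * y = y * x) {Q : Subgroup G}
    {f : Set (IrrCharacter C[Q])} (hle : SubpairLE p M Q f P c) :
    IsNilpotentBlock p M f ↔ ∀ g : G, g ∈ C[Q] → g ∈ Subgroup.normalizer (P : Set G) →
      StabilizesBlock C[P] c g → g ∈ C[P] := by
  classical
  have hPc := hmax.1.1
  have hQP := subpairLE_le hle
  have hPC := le_centralizer_of_abelian hab hQP
  have hQf := isBrauerPair_of_le hle hPc
  have hloc := isLocalBlock_centralizer hM hQf.2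
  have hbig : p ^ blockDefect p f ≤ Nat.card ↥(P ⊓ C[Q]) := by
    obtain ⟨z, -, hz⟩ := exists_card_inf_eq_defect hM hloc hmax hle
    rw [← hz, inf_eq_left.2 hPC]
    exact Subgroup.card_le_of_le inf_le_left
  have hD := (isDefectGroup_inf_iff hM hloc hPc hle).2 hbig
  obtain ⟨g₀, hg, hn⟩ := normalSubpair_below hM hPc hle hQP le_rfl
    (hPC.trans (Subgroup.centralizer_le_normalizer _))
  have hg₀ : g₀ = c := subpair_unique hM hPc hg Relation.ReflTransGen.refl
  rw [hg₀] at hn
  rw [inf_eq_left.2 hPC] at hD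
  obtain ⟨P', hP'⟩ : ∃ P' : Subgroup C[Q], P'.map C[Q].subtype = P :=
    ⟨P.subgroupOf C[Q], Subgroup.map_subgroupOf_eq_of_le hPC⟩
  subst hP'
  have h := cen_map_le hQP
  have eD : (P'.map C[Q].subtype).subgroupOf C[Q] = P' :=
    Subgroup.comap_map_eq_self_of_injective C[Q].subtype_injective P'
  rw [eD] at hD
  have hab' : ∀ x ∈ P', ∀ y ∈ P', x * y = y * x := fun x hx y hy =>
    Subtype.ext (hab x ⟨x, hx, rfl⟩ y ⟨y, hy, rfl⟩)
  have hup : upBlock P' (hloc.cen_up hQP) (pullSet (cenUp P' h) c) = c := pullSet_symm _ _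
  have hmax' : IsMaximalBrauerPair p M f P' (pullSet (cenUp P' h) c) :=
    maximal_of_defectGroup hM
      ((isBrauerPairOf_local_iff hM hloc hQf hQP _).2 (by rwa [hup])) hD
  rw [nilpotent_iff_inertial hM hab' hmax']
  have hco : ∀ x : C[Q], subgroupBlockCoeff C[P'.map C[Q].subtype] c (x : G) =
      subgroupBlockCoeff (Subgroup.centralizer (P' : Set C[Q])) (pullSet (cenUp P' h) c) x :=
    fun x => by
      conv_lhs => rw [← hup]
      exact subgroupBlockCoeff_upBlock _ _ x
  have hnorm : ∀ x : C[Q], x ∈ Subgroup.normalizer (P' : Set C[Q]) ↔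
      (x : G) ∈ Subgroup.normalizer (P'.map C[Q].subtype : Set G) := by
    intro x
    refine ⟨fun hx => Subgroup.le_normalizer_map C[Q].subtype ⟨x, hx, rfl⟩, fun hx => ?_⟩
    refine Subgroup.mem_normalizer_iff.2 fun y => ?_
    rw [← Subgroup.mem_map_iff_mem C[Q].subtype_injective,
      ← Subgroup.mem_map_iff_mem C[Q].subtype_injective (x := x * y * x⁻¹)]
    exact Subgroup.mem_normalizer_iff.1 hx (y : G)
  have hstab : ∀ x : C[Q], x ∈ Subgroup.normalizer (P' : Set C[Q]) →
      (StabilizesBlock (Subgroup.centralizer (P' : Set C[Q])) (pullSet (cenUp P' h) c) x ↔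
        StabilizesBlock C[P'.map C[Q].subtype] c (x : G)) := by
    intro x hx
    rw [stabilizesBlock_iff_coeff (mem_normalizer_centralizer hx),
      stabilizesBlock_iff_coeff (mem_normalizer_centralizer ((hnorm x).1 hx))]
    constructor
    · intro hs g
      by_cases hg' : g ∈ C[Q]
      · have e1 := hs ⟨g, hg'⟩
        rw [← hco, ← hco] at e1
        exact e1
      · have hle' : C[P'.map C[Q].subtype] ≤ C[Q] := h
        have e2 : (x : G) * g * (x : G)⁻¹ ∉ C[P'.map C[Q].subtype] := fun hh => hg' (by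
          simpa [mul_assoc] using mul_mem (mul_mem (inv_mem x.2) (hle' hh)) x.2)
        rw [subgroupBlockCoeff, subgroupBlockCoeff, dif_neg e2, dif_neg fun hh => hg' (hle' hh)]
    · intro hs g
      rw [← hco, ← hco]
      exact hs (g : G)
  constructor
  · intro hl g hgQ hgN hgS
    exact ((cenUp P' h) ⟨⟨g, hgQ⟩, hl ⟨g, hgQ⟩ ((hnorm ⟨g, hgQ⟩).2 hgN)
      ((hstab ⟨g, hgQ⟩ ((hnorm ⟨g, hgQ⟩).2 hgN)).2 hgS)⟩).2
  · intro hl x hxN hxS
    exact ((cenUp P' h).symm
      ⟨(x : G), hl x x.2 ((hnorm x).1 hxN) ((hstab x hxN).1 hxS)⟩).2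

end Cfsg.Lib.Block
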