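import Cfsg.Agent.Lib.Block.LocalMax
import Cfsg.Agent.Lib.Block.CentralDefect

/-!
# The criterion for a pair to be maximal
-/

set_option autoImplicit false
set_option linter.unusedSectionVars false
set_option maxHeartbeats 800000

namespace Cfsg.Lib.Block

open Cfsg
open scoped ComplexConjugate Pointwise

universe u

variable {p : ℕ} {M : Ideal AlgInt} {G : Type u} [Group G] [Fintype G] [Fact p.Prime]

noncomputable local instance (priority := high) fintypeSubgroupMaximalIff (H : Subgroup G) :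
    Fintype H := Fintype.ofFinite H

local notation "C[" Q "]" => Subgroup.centralizer (SetLike.coe Q)

variable (hM : IsPModular p M)

open Classical in
include hM in
/-- A character of full degree modulo a central `p`-subgroup lies in a block of that defect. -/
theorem pow_blockDefect_of_full {A : Type u} [Group A] [Fintype A] {Z : Subgroup A}
    (hZp : IsPGroup p Z) (hZ : Z ≤ Subgroup.center A) {B : Set (IrrCharacter A)}
    (hB : IsPBlock M B) {θ : IrrCharacter A} (hθB : θ ∈ B)
    (hθ : ∀ z ∈ Z, (θ : A → ℂ) z = (θ : A → ℂ) 1)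
    (hdeg : (charDegree (θ : A → ℂ)).factorization p + (Nat.card Z).factorization p =
      (Nat.card A).factorization p) :
    p ^ blockDefect p B = Nat.card Z := by
  haveI : Z.Normal := ⟨fun a ha x => by
    rw [Subgroup.mem_center_iff.1 (hZ ha) x, mul_inv_cancel_right]; exact ha⟩
  have hp : p.Prime := Fact.out
  obtain ⟨k, hk⟩ := IsPGroup.iff_card.1 hZp
  obtain ⟨φ, hφ, hφθ⟩ := Char.exists_deflate_irr Z θ.2 hθ
  haveI := Fintype.ofFinite (A ⧸ Z)
  have hcard : Nat.card A = Nat.card (A ⧸ Z) * p ^ k := by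
    rw [← hk]; exact Subgroup.card_eq_card_quotient_mul_card_subgroup Z
  rw [hk, hp.factorization_pow, Finsupp.single_eq_same] at hdeg
  have e : charDegree (θ : A → ℂ) = charDegree φ := by simp only [charDegree, ← hφθ]; rfl
  have hfull : (Nat.card (A ⧸ Z)).factorization p ≤
      (charDegree ((⟨φ, hφ⟩ : IrrCharacter (A ⧸ Z)) : A ⧸ Z → ℂ)).factorization p := by
    show _ ≤ (charDegree φ).factorization p
    have h1 := hdeg
    rw [hcard, Nat.factorization_mul Nat.card_pos.ne' (pow_pos hp.pos _).ne', Finsupp.add_apply,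
      hp.factorization_pow, Finsupp.single_eq_same, e] at h1
    omega
  have hI := vInt_singleton hM (⟨φ, hφ⟩ : IrrCharacter (A ⧸ Z)) hfull
  have hvan : ∀ h : A, pPt p h ∉ Z → (θ : A → ℂ) h = 0 := by
    intro h hh
    have hdvd : p ∣ orderOf (h : A ⧸ Z) := by
      by_contra hn
      refine hh ((QuotientGroup.eq_one_iff _).1 ?_)
      obtain ⟨a, ha⟩ : ∃ a : ℕ, h ^ a = pPt p h :=
        mem_powers_iff_mem_zpowers.2 (pPt_mem_zpowers h)
      obtain ⟨j, hj⟩ := exists_orderOf_pPt (p := p) h
      have h1 : orderOf ((pPt p h : A) : A ⧸ Z) ∣ p ^ j :=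
        hj ▸ orderOf_map_dvd (QuotientGroup.mk' Z) (pPt p h)
      have h2 : orderOf ((pPt p h : A) : A ⧸ Z) ∣ orderOf (h : A ⧸ Z) := by
        rw [← ha, QuotientGroup.mk_pow]; exact orderOf_pow_dvd a
      exact orderOf_eq_one_iff.1 (Nat.eq_one_of_dvd_coprimes
        (Nat.Coprime.pow_left j (hp.coprime_iff_not_dvd.2 hn)) h1 h2)
    have h0 := blockCoeff_eq_zero_of_dvd hM hI hdvd
    rw [blockCoeff, finsum_mem_singleton, mul_eq_zero, inv_eq_zero, mul_eq_zero] at h0
    rw [← hφθ h]
    rcases h0 with h0 | h0 | h0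
    · exact absurd h0 Char.card_cast_ne_zero
    · exact absurd h0 hφ.apply_one_ne_zero
    · simpa using h0
  have htriv : ∀ z ∈ Z, ∀ y : A, (θ : A → ℂ) (z * y) = (θ : A → ℂ) y := fun z hz y => by
    rw [← hφθ, ← hφθ, QuotientGroup.mk_mul, (QuotientGroup.eq_one_iff z).2 hz, one_mul]
  set F : A → ℂ := fun g => (θ : A → ℂ) g * conj ((θ : A → ℂ) g) with hF
  set S : ℂ := ∑ g : A, if IsPRegular p g then F g else 0 with hS
  have hfib : ∀ z ∈ Z, ∑ g ∈ Finset.univ.filter (fun g => pPt p g = z), F g = S := by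
    intro z hz
    obtain ⟨j, hj⟩ := IsPGroup.iff_orderOf.1 hZp ⟨z, hz⟩
    rw [Subgroup.orderOf_mk] at hj
    rw [sum_pPt_eq (H := (⊤ : Subgroup A)) ⟨j, hj⟩
      (fun h => (Subgroup.mem_center_iff.1 (hZ hz) h).symm) le_top F, hS]
    refine Fintype.sum_equiv Subgroup.topEquiv.toEquiv _ _ fun y => ?_
    simp only [MulEquiv.toEquiv_eq_coe, EquivLike.coe_coe, Subgroup.topEquiv_apply,
      IsPRegular, orderOf_submonoid, hF]
    split_ifs with h
    · rfl
    · rw [htriv z hz]
  have htot : ∑ g, F g = (Nat.card A : ℂ) := by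
    have := Char.classInner_irr_self θ.2
    rw [classInner, inv_mul_eq_one₀ Char.card_cast_ne_zero] at this
    exact this.symm
  have hsum : ∑ g, F g = (Nat.card Z : ℂ) * S := by
    rw [← Finset.sum_filter_add_sum_filter_not Finset.univ (fun g => pPt p g ∈ Z),
      Finset.sum_eq_zero (s := Finset.univ.filter fun g => ¬ pPt p g ∈ Z), add_zero,
      ← Finset.sum_fiberwise_of_maps_to (g := fun g => pPt p g) (t := (Z : Set A).toFinset)
        (fun g hg => by simpa using (Finset.mem_filter.1 hg).2)]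
    · rw [Finset.sum_congr rfl (fun z hz => ?_), Finset.sum_const, nsmul_eq_mul, Set.toFinset_card,
        ← Nat.card_eq_fintype_card]
      · rfl
      · rw [← hfib z (by simpa using hz)]
        refine Finset.sum_congr ?_ fun _ _ => rfl
        ext g
        simp only [Finset.mem_filter, Finset.mem_univ, true_and]
        exact ⟨fun h => h.2, fun h => ⟨h ▸ (by simpa using hz), h⟩⟩
    · intro g hg
      simp only [hF, hvan g (Finset.mem_filter.1 hg).2, zero_mul]
  have hR : (Nat.card Z : ℂ) * regInner p (θ : A → ℂ) (θ : A → ℂ) = 1 := by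
    have e : regInner p (θ : A → ℂ) (θ : A → ℂ) = (Nat.card A : ℂ)⁻¹ * S := by
      simp only [regInner, classInner, hS, hF]
      congr 1
      refine Finset.sum_congr rfl fun g _ => ?_
      by_cases hg : IsPRegular p g
      · rw [pRegularPart_of_reg hg, if_pos hg]
      · rw [pRegularPart_of_sing hg, if_neg hg, zero_mul]
    rw [e, mul_left_comm, ← hsum, htot, inv_mul_cancel₀ Char.card_cast_ne_zero]
  have hd := blockDefect_add_minVal (p := p) (nonempty_of_isPBlock hM hB)
  have hle := minVal_le (p := p) hθB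
  obtain ⟨n, hn, hn1, -⟩ := exists_int_regN hM hB hθB hθB
  have hhe : blockHeight p B (θ : A → ℂ) = blockDefect p B - k := by rw [blockHeight_eq]; omega
  have key : ((p ^ k : ℕ) : ℤ) * n * ((p ^ blockHeight p B (θ : A → ℂ) : ℕ) : ℤ) =
      ((p ^ blockDefect p B : ℕ) : ℤ) := by
    have h1 := congrArg (fun t => ((p ^ k : ℕ) : ℂ) * t) hn
    simp only [regN] at h1
    rw [hk] at hR
    rw [mul_left_comm, hR, mul_one, ← mul_assoc] at h1
    exact_mod_cast h1.symm
  have hn' : n = 1 := by
    have e : p ^ blockDefect p B = p ^ k * p ^ blockHeight p B (θ : A → ℂ) := by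
      rw [← pow_add, hhe]; congr 1; omega
    rw [e, Nat.cast_mul, mul_right_comm] at key
    exact (mul_eq_left₀ (by exact_mod_cast (Nat.mul_ne_zero (pow_pos hp.pos k).ne'
      (pow_pos hp.pos _).ne'))).1 key
  have h0 : blockHeight p B (θ : A → ℂ) = 0 := by
    by_contra hne
    have h1 := hn1 (Nat.pos_of_ne_zero hne)
    rw [hn'] at h1
    exact (Nat.prime_iff_prime_int.1 hp).not_unit (isUnit_of_dvd_one h1)
  rw [hk]
  congr 1
  omega

include hM in
/-- Maximal pairs are recognised in the centralizer and the stabilizer. -/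
theorem maximal_iff_character {Q : Subgroup G} {e : Set (IrrCharacter C[Q])}
    (he : IsBrauerPair p M Q e) :
    (∃ B : Set (IrrCharacter G), IsMaximalBrauerPair p M B Q e) ↔
      ∃ θ ∈ e, (∀ z : C[Q], (z : G) ∈ Q → (θ : C[Q] → ℂ) z = (θ : C[Q] → ℂ) 1) ∧
        (charDegree (θ : C[Q] → ℂ)).factorization p +
          (Nat.card ↥(Q ⊓ C[Q])).factorization p = (Nat.card C[Q]).factorization p ∧
        (∀ g : G, g ∈ Subgroup.normalizer (Q : Set G) → StabilizesBlock C[Q] e g →
          (∃ k : ℕ, orderOf g = p ^ k) → g ∈ Q ⊔ C[Q]) := by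
  classical
  have hp : p.Prime := Fact.out
  let Z : Subgroup C[Q] := (Q ⊓ C[Q]).subgroupOf C[Q]
  have hZp : IsPGroup p Z := (he.1.to_le inf_le_left).comap_subtype
  have hZc : Z ≤ Subgroup.center C[Q] := fun z hz => Subgroup.mem_center_iff.2 fun y =>
    Subtype.ext (Subgroup.mem_centralizer_iff.1 y.2 (z : G) (Subgroup.mem_subgroupOf.1 hz).1).symm
  have hZcard : Nat.card Z = Nat.card ↥(Q ⊓ C[Q]) :=
    Nat.card_congr (Subgroup.subgroupOfEquivOfLe (inf_le_right : Q ⊓ C[Q] ≤ C[Q])).toEquiv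
  have hmemZ : ∀ z : C[Q], z ∈ Z ↔ (z : G) ∈ Q := fun z =>
    ⟨fun h => (Subgroup.mem_subgroupOf.1 h).1, fun h => Subgroup.mem_subgroupOf.2 ⟨h, z.2⟩⟩
  constructor
  · rintro ⟨B, hmax⟩
    have hde := defect_centralizer_of_maximal hM hmax
    haveI : Z.Normal := ⟨fun a ha x => by
      rw [Subgroup.mem_center_iff.1 (hZc ha) x, mul_inv_cancel_right]; exact ha⟩
    obtain ⟨θ, hθe, hθ⟩ := exists_trivial_on_mem hM hZp he.2
    refine ⟨θ, hθe, fun z hz => hθ z ((hmemZ z).2 hz), ?_, fun g hgN hgS hgp => ?_⟩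
    · obtain ⟨φ, hφ, hφθ⟩ := Char.exists_deflate_irr Z θ.2 hθ
      haveI := Fintype.ofFinite (C[Q] ⧸ Z)
      have e1 : charDegree (θ : C[Q] → ℂ) = charDegree φ := by
        simp only [charDegree, ← hφθ]; rfl
      have h1 := (Nat.factorization_le_iff_dvd
        (charDegree_pos (⟨φ, hφ⟩ : IrrCharacter (C[Q] ⧸ Z))).ne' Nat.card_pos.ne').2
        (charDegree_dvd_card (⟨φ, hφ⟩ : IrrCharacter (C[Q] ⧸ Z))) p
      have h2 := le_deg_factorization (p := p) hM he.2 hθe
      have hcard := congrArg (fun n => n.factorization p)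
        (Subgroup.card_eq_card_quotient_mul_card_subgroup Z)
      simp only [hZcard, hde, Nat.factorization_mul Nat.card_pos.ne' (pow_pos hp.pos _).ne',
        Finsupp.add_apply, hp.factorization_pow, Finsupp.single_eq_same] at hcard
      rw [hde, hp.factorization_pow, Finsupp.single_eq_same, e1]
      rw [e1] at h2
      simp only at h1
      omega
    · by_contra hgQ
      let T : Subgroup G := Subgroup.normalizer (Q : Set G) ⊓ invStab (indVec e)
      have hT : ∀ y : G, y ∈ T ↔ y ∈ Subgroup.normalizer (Q : Set G) ∧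
          StabilizesBlock C[Q] e y := fun y => by
        refine and_congr_right fun hy => ?_
        rw [stabilizesBlock_iff_coeff (mem_normalizer_centralizer hy), ← extF_indVec]
        rfl
      have hgT : g ∈ T := (hT g).2 ⟨hgN, hgS⟩
      have hn : T ≤ Subgroup.normalizer ((Q ⊔ C[Q] : Subgroup G) : Set G) := fun y hy => by
        have hyQ := map_conj_eq_self hy.1
        have hyC : C[Q].map (MulAut.conj y).toMonoidHom = C[Q] := by
          rw [map_centralizer_conj, hyQ]
        refine Subgroup.mem_normalizer_iff.2 fun a => ?_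
        have e3 : (Q ⊔ C[Q]).map (MulAut.conj y).toMonoidHom = Q ⊔ C[Q] := by
          rw [Subgroup.map_sup, hyQ, hyC]
        constructor
        · intro ha
          rw [← e3]
          exact ⟨a, ha, rfl⟩
        · intro ha
          rw [← e3] at ha
          obtain ⟨b, hb, hba⟩ := ha
          rwa [← (MulAut.conj y).injective hba]
      haveI : ((Q ⊔ C[Q]).subgroupOf T).Normal :=
        Subgroup.normal_subgroupOf_of_le_normalizer hn
      refine not_dvd_relIndex_of_maximal hM hmax hT ?_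
      obtain ⟨k, hk⟩ := hgp
      have h1 : orderOf (((⟨g, hgT⟩ : T) : T ⧸ (Q ⊔ C[Q]).subgroupOf T)) ∣ p ^ k := by
        rw [← hk, ← Subgroup.orderOf_mk g hgT]
        exact orderOf_map_dvd (QuotientGroup.mk' _) (⟨g, hgT⟩ : T)
      obtain ⟨j, -, hj⟩ := (Nat.dvd_prime_pow hp).1 h1
      have hj0 : j ≠ 0 := fun h => hgQ (by
        rw [h, pow_zero, orderOf_eq_one_iff, QuotientGroup.eq_one_iff] at hj
        exact Subgroup.mem_subgroupOf.1 hj)
      calc p ∣ p ^ j := dvd_pow_self _ hj0
        _ ∣ _ := hj ▸ orderOf_dvd_natCard _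
  · rintro ⟨θ, hθe, hθ, hdeg, hstab⟩
    have hd : p ^ blockDefect p e = Nat.card Z :=
      pow_blockDefect_of_full hM hZp hZc he.2 hθe (fun z hz => hθ z ((hmemZ z).1 hz))
        (by rw [hZcard]; exact hdeg)
    obtain ⟨B, hB⟩ := exists_block_of_pair hM he
    obtain ⟨R, g, hle, hmax⟩ := exists_maximal_above hM hB
    have hQR := subpairLE_le hle
    rcases hQR.eq_or_lt with h | hlt
    · cases h
      cases subpair_unique hM hmax.1.1 hle
        (Relation.ReflTransGen.refl : SubpairLE p M Q g Q g)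
      exact ⟨B, hmax⟩
    · exfalso
      obtain ⟨D, hD, hRD⟩ :=
        le_defectGroup_of_subpair hM (isLocalBlock_centralizer hM he.2) hmax.1.1 hle
      have hcard : Nat.card ↥(R ⊓ C[Q]) ≤ Nat.card ↥(Q ⊓ C[Q]) := by
        rw [← Nat.card_congr (Subgroup.subgroupOfEquivOfLe
          (inf_le_right : R ⊓ C[Q] ≤ C[Q])).toEquiv, ← hZcard, ← hd,
          ← card_defectGroup hM he.2 hD]
        exact Subgroup.card_le_of_le hRD
      have heq : Q ⊓ C[Q] = R ⊓ C[Q] :=
        Subgroup.eq_of_le_of_card_ge (inf_le_inf_right _ hQR) hcard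
      refine (lt_inf_normalizer hmax.1.1.1 hlt).not_ge fun y hy => ?_
      obtain ⟨k, hk⟩ := IsPGroup.iff_orderOf.1 hmax.1.1.1 ⟨y, hy.1⟩
      rw [Subgroup.orderOf_mk] at hk
      have h1 := hstab y hy.2 (inf_normalizer_le_stab hM hmax.1.1 hle hy) ⟨k, hk⟩
      rw [← SetLike.mem_coe, Subgroup.coe_mul_of_left_le_normalizer_right Q C[Q]
        (fun x hx => mem_normalizer_centralizer (Subgroup.le_normalizer hx))] at h1
      obtain ⟨q, hq, c, hc, rfl⟩ := Set.mem_mul.1 h1
      have hcR : c ∈ R ⊓ C[Q] := by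
        refine ⟨?_, hc⟩
        simpa using mul_mem (inv_mem (hQR hq)) hy.1
      rw [← heq] at hcR
      exact mul_mem hq hcR.1

end Cfsg.Lib.Block
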