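import Cfsg.Agent.Lib.Block.DefectPairs
import Cfsg.Agent.Lib.Block.ThirdMain

/-!
# Applications of Brauer pairs

Pairs of the principal block, the blocks of `P · C(P)` and the coprime centralizer argument.
-/

set_option autoImplicit false
set_option linter.unusedSectionVars false
set_option maxHeartbeats 400000

namespace Cfsg.Lib.Block

open Cfsg
open scoped ComplexConjugate

universe u

noncomputable local instance (priority := high) fintypeSubgroupPairApps {G : Type u} [Group G]
    [Fintype G] (H : Subgroup G) : Fintype H := Fintype.ofFinite H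

local notation "C[" Q "]" => Subgroup.centralizer (SetLike.coe Q)

variable {p : ℕ} {M : Ideal AlgInt} {G : Type u} [Group G] [Fintype G] [Fact p.Prime]
  (hM : IsPModular p M)

/-- A coprime automorphism centralizing a subgroup together with its centralizer in a `p`-group
centralizes the `p`-group. -/
theorem le_centralizer_of_centralizer {P A : Subgroup G} (hP : IsPGroup p P) (hAP : A ≤ P) {n : G}
    (hn : n ∈ Subgroup.normalizer (P : Set G)) (hreg : ¬ p ∣ orderOf n)
    (hA : ∀ a ∈ A, Commute n a)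
    (hC : ∀ x ∈ P, (∀ a ∈ A, Commute x a) → Commute n x) : ∀ x ∈ P, Commute n x := by
  set W := P ⊓ Subgroup.centralizer ({n} : Set G) with hW
  have hWmem : ∀ {x : G}, x ∈ W ↔ x ∈ P ∧ Commute n x := fun {x} => by
    simp [hW, Subgroup.mem_inf, Subgroup.mem_centralizer_iff, Commute, SemiconjBy]
  suffices h : P = W from fun x hx => (hWmem.1 (h ▸ hx)).2
  refine eq_of_normalizer_inf_le hP inf_le_left fun x hx => ?_
  obtain ⟨hxP, hxN⟩ := Subgroup.mem_inf.1 hx
  refine hWmem.2 ⟨hxP, ?_⟩
  have hnW : ∀ w ∈ W, n * w * n⁻¹ = w := fun w hw => by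
    rw [(hWmem.1 hw).2.eq, mul_inv_cancel_right]
  set y := x⁻¹ * (n * x * n⁻¹) with hy
  have hxP' : n * x * n⁻¹ ∈ P := (Subgroup.mem_normalizer_iff.1 hn x).1 hxP
  have hyP : y ∈ P := P.mul_mem (P.inv_mem hxP) hxP'
  have hyn : Commute n y := by
    refine hC y hyP fun a ha => ?_
    have haW : a ∈ W := hWmem.2 ⟨hAP ha, hA a ha⟩
    have h1 : x * a * x⁻¹ ∈ W := (Subgroup.mem_normalizer_iff.1 hxN a).1 haW
    have h2 := hnW _ h1
    have h3 : n * x * n⁻¹ * a * (n * x * n⁻¹)⁻¹ = x * a * x⁻¹ := by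
      calc n * x * n⁻¹ * a * (n * x * n⁻¹)⁻¹ = n * x * (n⁻¹ * a * n) * x⁻¹ * n⁻¹ := by group
        _ = n * (x * a * x⁻¹) * n⁻¹ := by
            rw [show n⁻¹ * a * n = a by rw [mul_assoc, ← (hA a ha).eq, inv_mul_cancel_left]]
            group
        _ = x * a * x⁻¹ := h2
    have h4 : y * a * y⁻¹ = a := by
      rw [hy, show x⁻¹ * (n * x * n⁻¹) * a * (x⁻¹ * (n * x * n⁻¹))⁻¹ =
        x⁻¹ * (n * x * n⁻¹ * a * (n * x * n⁻¹)⁻¹) * x by group, h3]
      group
    exact mul_inv_eq_iff_eq_mul.1 h4
  have hstep : n * x * n⁻¹ = x * y := by rw [hy, mul_inv_cancel_left]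
  have hiter : ∀ k : ℕ, n ^ k * x * (n ^ k)⁻¹ = x * y ^ k := by
    intro k
    induction k with
    | zero => simp
    | succ k ih =>
      have hfix : n * y ^ k * n⁻¹ = y ^ k := by rw [(hyn.pow_right k).eq, mul_inv_cancel_right]
      calc n ^ (k + 1) * x * (n ^ (k + 1))⁻¹ = n * (n ^ k * x * (n ^ k)⁻¹) * n⁻¹ := by
            rw [pow_succ' n k]; group
        _ = (n * x * n⁻¹) * (n * y ^ k * n⁻¹) := by rw [ih]; group
        _ = x * y ^ (k + 1) := by rw [hstep, hfix, pow_succ' y k]; group
  have hord := hiter (orderOf n)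
  rw [pow_orderOf_eq_one, one_mul, inv_one, mul_one, eq_comm, mul_eq_left] at hord
  obtain ⟨j, hj⟩ := IsPGroup.iff_orderOf.1 hP ⟨y, hyP⟩
  rw [Subgroup.orderOf_mk] at hj
  have hy1 : y = 1 := by
    have hdvd : p ^ j ∣ orderOf n := hj ▸ orderOf_dvd_of_pow_eq_one hord
    rcases Nat.eq_zero_or_pos j with rfl | hpos
    · exact orderOf_eq_one_iff.1 hj
    · exact absurd ((dvd_pow_self p hpos.ne').trans hdvd) hreg
  rw [hy1, mul_one] at hstep
  exact mul_inv_eq_iff_eq_mul.1 hstep

include hM in
/-- Block idempotents of a normalizer of a chain of `p`-groups live on the centralizer of the last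
member. -/
theorem blockCoeff_chain_eq_zero {m : ℕ} (Q : Fin (m + 1) → Subgroup G) (hQ : StrictMono Q)
    (hQp : ∀ i, IsPGroup p (Q i)) {N : Subgroup G}
    (hN : ∀ g : G, g ∈ N ↔ ∀ i, g ∈ Subgroup.normalizer (Q i : Set G))
    {E : Set (IrrCharacter N)} (hE : IsPBlock M E) {n : N}
    (hn : (n : G) ∉ Subgroup.centralizer (Q (Fin.last m) : Set G)) : blockCoeff E n = 0 := by
  by_contra hne
  have hreg : ¬ p ∣ orderOf (n : G) := fun h => hne
    (blockCoeff_eq_zero_of_dvd hM (vInt_indVec hM hE) (by rwa [orderOf_submonoid] at h))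
  have hR : ∀ i, ∀ x ∈ Q i, x ∈ N → Commute (n : G) x := by
    intro i x hx hxN
    haveI : ((Q i).subgroupOf N).Normal := ⟨fun q hq t => by
      have := (Subgroup.mem_normalizer_iff.1 ((hN t).1 t.2 i) (q : G)).1 hq
      simpa [Subgroup.mem_subgroupOf] using this⟩
    by_contra hcon
    refine hne (blockCoeff_eq_zero_of_notMem hM (Q := (Q i).subgroupOf N) (hQp i).comap_subtype hE
      fun hc => hcon ?_)
    have := Subgroup.mem_centralizer_iff.1 hc ⟨x, hxN⟩ (Subgroup.mem_subgroupOf.2 hx)
    exact (congrArg (fun z : N => (z : G)) this).symm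
  have key : ∀ k (hk : k < m + 1), ∀ x ∈ Q ⟨k, hk⟩, Commute (n : G) x := by
    intro k
    induction k with
    | zero =>
      intro hk x hx
      refine hR _ x hx ((hN x).2 fun i => Subgroup.le_normalizer (hQ.monotone (Fin.mk_le_of_le_val ?_) hx))
      exact Nat.zero_le _
    | succ k ih =>
      intro hk
      have hk' : k < m + 1 := Nat.lt_of_succ_lt hk
      refine le_centralizer_of_centralizer (A := Q ⟨k, hk'⟩ ⊔ (Q ⟨k + 1, hk⟩ ⊓ N)) (hQp _)
        (sup_le (hQ.monotone (Fin.mk_le_mk.2 (Nat.le_succ k))) inf_le_left)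
        ((hN _).1 n.2 _) hreg (fun a ha => ?_) fun x hx hxA => ?_
      · have hle : Q ⟨k, hk'⟩ ⊔ (Q ⟨k + 1, hk⟩ ⊓ N) ≤ Subgroup.centralizer ({(n : G)} : Set G) := by
          refine sup_le (fun z hz => ?_) fun z hz => ?_
          · exact Subgroup.mem_centralizer_iff.2 fun w hw => by
              rw [Set.mem_singleton_iff] at hw; rw [hw]; exact (ih hk' z hz).eq
          · exact Subgroup.mem_centralizer_iff.2 fun w hw => by
              rw [Set.mem_singleton_iff] at hw; rw [hw]; exact (hR _ z hz.1 hz.2).eq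
        exact Subgroup.mem_centralizer_iff.1 (hle ha) _ rfl
      · refine hR _ x hx ((hN x).2 fun i => ?_)
        by_cases hi : (i : ℕ) ≤ k
        · refine Subgroup.centralizer_le_normalizer _ (Subgroup.mem_centralizer_iff.2 fun z hz => ?_)
          exact (hxA z (Subgroup.mem_sup_left
            (hQ.monotone (show i ≤ ⟨k, hk'⟩ from hi) hz))).eq.symm
        · exact Subgroup.le_normalizer
            (hQ.monotone (show (⟨k + 1, hk⟩ : Fin (m + 1)) ≤ i from not_le.1 hi) hx)
  refine hn (Subgroup.mem_centralizer_iff.2 fun z hz => ?_)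
  exact ((key m (Nat.lt_succ_self m)) z hz).eq.symm

include hM in
/-- A pair of the principal block is principal. -/
theorem eq_principal_of_pair {Q : Subgroup G} {e : Set (IrrCharacter C[Q])}
    (h : IsBrauerPairOf p M (principalBlock M G) Q e) : e = principalBlock M C[Q] :=
  (isBrauerPairOf_principal_iff hM h.1.1 h.1.2).1 h

/-- The subgroup generated by `P` and its centralizer fixes every central element of the group
ring of the centralizer. -/
theorem invOn_sup_centralizer (P : Subgroup G) (v : IrrCharacter C[P] → ℂ) :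
    InvOn (P ⊔ C[P]) C[P] v :=
  invOn_iff_le_invStab.2 (sup_le (invOn_iff_le_invStab.1 (invOn_centralized le_rfl v))
    (le_invStab_self v))

theorem sup_centralizer_le_normalizer (P : Subgroup G) :
    P ⊔ C[P] ≤ Subgroup.normalizer (P : Set G) :=
  sup_le Subgroup.le_normalizer (Subgroup.centralizer_le_normalizer _)

variable {P L : Subgroup G}

theorem liftV_mul {C : Subgroup G} (hCL : C ≤ L) {v w : IrrCharacter C → ℂ}
    (hv : InvOn L C v) (hw : InvOn L C w) :
    liftV L (v * w) = liftV L v * liftV L w := by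
  refine eq_of_extF_eq fun g => ?_
  rw [extF_liftV hCL (invOn_mul hv hw), extF_mul, extF_mul]
  simp only [extF_liftV hCL hv, extF_liftV hCL hw]

theorem vSmall_liftV {C : Subgroup G} (hM : IsPModular p M) {v : IrrCharacter C → ℂ}
    (hv : InvOn L C v) (hs : VSmall M v) : VSmall M (liftV L v) := fun t => by
  rw [zc_liftV hv]
  by_cases h : (t : G) ∈ C
  · rw [extF_of_mem _ h]; exact hs _
  · rw [extF_of_notMem _ h]; exact memLocalIdeal_zero hM

include hM in
/-- A block of `P · C(P)` with the idempotent of a block of the centralizer induces exactly the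
blocks of which that block is a pair. -/
theorem isBrauerPairOf_iff_induced (hP : IsPGroup p P) (hCL : C[P] ≤ L) (hPL : P ≤ L)
    (hLN : L ≤ Subgroup.normalizer (P : Set G))
    (hinv : ∀ v : IrrCharacter C[P] → ℂ, InvOn L C[P] v) {f : Set (IrrCharacter C[P])}
    (hf : IsPBlock M f) {F : Set (IrrCharacter L)} (hF : IsPBlock M F)
    (hcoeff : ∀ g, subgroupBlockCoeff L F g = subgroupBlockCoeff C[P] f g)
    {B : Set (IrrCharacter G)} (hB : IsPBlock M B) :
    IsBrauerPairOf p M B P f ↔ IsInducedBlock M L F B := by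
  classical
  have hu : brVec P L (indVec B) = liftV L (brU P B) := by
    refine eq_of_extF_eq fun g => ?_
    rw [extF_liftV hCL (hinv _), extF_brU]
    by_cases hg : g ∈ L
    · rw [extF_of_mem _ hg, zc_brVec hLN]
      by_cases hgC : g ∈ C[P]
      · rw [brF_of_mem (h := (⟨g, hg⟩ : L)) hgC, zc_indVec, if_pos hgC]
      · rw [brF_of_notMem (h := (⟨g, hg⟩ : L)) hgC, if_neg hgC]
    · rw [extF_of_notMem _ hg, if_neg fun h => hg (hCL h)]
  have hFv : indVec F = liftV L (indVec f) := eq_of_extF_eq fun g => by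
    rw [extF_liftV hCL (hinv _), extF_indVec, extF_indVec, hcoeff]
  obtain ⟨η, hη⟩ := nonempty_of_isPBlock hM hf
  obtain ⟨χ, hχ⟩ := nonempty_of_isPBlock hM hB
  have hbU := vInt_brU hM P hB
  have hfI := vInt_indVec hM hf
  have key : ∀ ξ ∈ F, res hM (brVec P L (indVec B) ξ) =
      if res hM (brU P B η) = 1 then 1 else 0 := by
    intro ξ hξ
    have hval : indVec F ξ = 1 := by simp [indVec, hξ]
    have hm : res hM (brVec P L (indVec B) ξ) = res hM (liftV L (brU P B * indVec f) ξ) := by
      rw [liftV_mul hCL (hinv _) (hinv _), Pi.mul_apply, ← hFv, hval, mul_one, hu]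
    have hs := vSmall_liftV hM (hinv _)
      (vSmall_mul_indVec hM hbU (vSmall_brU_idem hM hP hB) hf hη)
    have hI : ∀ v : IrrCharacter C[P] → ℂ, VInt hM v → VInt hM (liftV L v) := fun v hv t => by
      rw [zc_liftV (hinv v)]; exact extF_mem_locRing hM hv _
    split_ifs at hs ⊢ with h1
    · have e : liftV L (brU P B * indVec f - indVec f) =
          liftV L (brU P B * indVec f) - liftV L (indVec f) := eq_of_extF_eq fun g => by
        rw [extF_liftV hCL (hinv _), extF_sub, extF_sub, extF_liftV hCL (hinv _),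
          extF_liftV hCL (hinv _)]
      rw [e] at hs
      rw [hm, res_eq_of_vSmall_sub hM (hI _ (vInt_mul hM hbU hfI)) (hI _ hfI) hs ξ, ← hFv, hval,
        res_one]
    · rw [sub_zero] at hs
      rw [hm, (res_eq_zero_iff hM (apply_mem_locRing hM (hI _ (vInt_mul hM hbU hfI)) ξ)).2
        (apply_mem_of_vSmall hM hs ξ)]
  obtain ⟨ξ, hξ⟩ := nonempty_of_isPBlock hM hF
  constructor
  · intro h
    refine isInducedBlock_of_brRel hM hP hPL hCL hLN hF hξ hB hχ
      ((brRel_iff_mem hM hP hCL hLN ξ hB hχ).2 ?_)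
    rw [key ξ hξ, if_pos (((isBrauerPairOf_iff_brU hM B P f).1 h).2.2 η hη)]
  · intro h
    have h1 := (brRel_iff_mem hM hP hCL hLN ξ hB hχ).1
      (brRel_of_isInducedBlock hM hP hPL hCL hLN h hξ hχ)
    rw [key ξ hξ] at h1
    split_ifs at h1 with h2
    · refine (isBrauerPairOf_iff_brU hM B P f).2 ⟨⟨hP, hf⟩, hB, fun ζ hζ => ?_⟩
      rw [← h2]
      exact res_apply_eq hM hbU (sameBlock_of_mem hM hf hζ hη)
    · exact absurd h1 zero_ne_one

include hM in
/-- Every block of `P · C(P)` has the idempotent of a block of the centralizer. -/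
theorem exists_centralizer_block (hP : IsPGroup p P) (hCL : C[P] ≤ L) (hPL : P ≤ L)
    (hLN : L ≤ Subgroup.normalizer (P : Set G))
    (hinv : ∀ v : IrrCharacter C[P] → ℂ, InvOn L C[P] v) {b : Set (IrrCharacter L)}
    (hb : IsPBlock M b) :
    ∃ f : Set (IrrCharacter C[P]), IsPBlock M f ∧
      ∀ g, subgroupBlockCoeff L b g = subgroupBlockCoeff C[P] f g := by
  classical
  haveI : Fintype {f : Set (IrrCharacter C[P]) // IsPBlock M f} := Fintype.ofFinite _
  obtain ⟨ξ, hξ⟩ := nonempty_of_isPBlock hM hb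
  have hone : ∑ f : {f : Set (IrrCharacter C[P]) // IsPBlock M f}, liftV L (indVec f.1) =
      (1 : IrrCharacter L → ℂ) := by
    refine eq_of_extF_eq fun g => ?_
    rw [extF_sum, Finset.sum_congr rfl fun f _ => extF_liftV hCL (hinv _) g, ← extF_sum,
      sum_indVec_blocks hM, extF_one, extF_one]
  have h1 := congrFun hone ξ
  rw [Finset.sum_apply, Pi.one_apply] at h1
  obtain ⟨f, -, hf⟩ := Finset.exists_ne_zero_of_sum_ne_zero (h1 ▸ one_ne_zero)
  obtain ⟨F, hF, -, hcoeff⟩ := exists_stabilizer_block hM hP hPL hCL hLN f.2 (hinv _)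
  have hFv : indVec F = liftV L (indVec f.1) := eq_of_extF_eq fun g => by
    rw [extF_liftV hCL (hinv _), extF_indVec, extF_indVec, hcoeff]
  have hξF : ξ ∈ F := by
    by_contra hn
    exact hf (by rw [← hFv]; simp [indVec, hn])
  exact ⟨f.1, f.2, isPBlock_eq_of_mem hM hb hF hξ hξF ▸ hcoeff⟩

include hM in
/-- With a maximal pair the block of `P · C(P)` has defect group `P`. -/
theorem isDefectGroup_local_of_maximal {B : Set (IrrCharacter G)} {T : Subgroup G}
    {f : Set (IrrCharacter C[P])} {F : Set (IrrCharacter T)}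
    (hT : IsLocalBlock p M P T f F) (hPT : P ≤ T) (hmax : IsMaximalBrauerPair p M B P f) :
    IsDefectGroup p M F (P.subgroupOf T) := by
  obtain ⟨D, hD, hge⟩ := le_defectGroup_of_subpair hM hT hmax.1.1
    (Relation.ReflTransGen.refl : SubpairLE p M P f P f)
  rw [inf_eq_left.2 hPT] at hge
  obtain ⟨x, hx, hrest⟩ := exists_conj_local_defect hM hT hmax
    (Relation.ReflTransGen.refl : SubpairLE p M P f P f)
  have hmap : ConjMaps x T (T.map (MulAut.conj x).toMonoidHom) := fun g => by
    constructor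
    · intro hg; exact ⟨g, hg, rfl⟩
    · rintro ⟨k, hk, he⟩
      rwa [(MulAut.conj x).injective (show MulAut.conj x k = MulAut.conj x g from he)] at hk
  obtain ⟨hblk, -, hdef⟩ := hrest _ hmap
  have hle : P ≤ T.map (MulAut.conj x).toMonoidHom := by
    refine le_of_eq_of_le ?_ (Subgroup.map_mono hPT)
    have h1 : P.map (MulAut.conj x).toMonoidHom ≤ P := le_of_rel hx
    exact (Subgroup.eq_of_le_of_card_ge h1
      (by rw [Subgroup.card_map_of_injective (MulAut.conj x).injective])).symm
  have hcard : Nat.card D = Nat.card P := by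
    have hd : blockDefect p (conjSet hmap F) = blockDefect p F := blockDefect_pullSet p _ F
    rw [card_defectGroup hM hT.block hD, ← hd, ← card_defectGroup hM hblk hdef,
      inf_eq_left.2 hle, Nat.card_congr (Subgroup.subgroupOfEquivOfLe hle).toEquiv]
  rwa [Subgroup.eq_of_le_of_card_ge hge (by
    rw [hcard, Nat.card_congr (Subgroup.subgroupOfEquivOfLe hPT).toEquiv])]

end Cfsg.Lib.Block
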