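import Cfsg.Agent.Lib.Block.CoverApps
import Cfsg.Agent.Lib.Block.AbelianLocal
import Cfsg.Agent.Lib.Block.MaximalIff
import Cfsg.Agent.Lib.Block.PairApps
import Cfsg.Agent.Lib.Block.CentralDefect

/-!
# Blocks with abelian defect group over normal subgroups with `p`-power quotient

If `G = N P` with `P` an abelian defect group of `B` and all `p`-regular elements lie in `N`, then
every coset of `N` supports a central element that is a unit at `B`, so the characters of `B`
restrict irreducibly to `N`.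
-/

set_option autoImplicit false
set_option linter.unusedSectionVars false
set_option maxHeartbeats 800000

namespace Cfsg.Lib.Block

open Cfsg
open scoped ComplexConjugate

universe u

variable {p : ℕ} [hp : Fact p.Prime] {M : Ideal AlgInt} {G : Type u} [Group G] [Fintype G]

noncomputable local instance (priority := high) fintypeSubgroupAbelianExtension {A : Type u}
    [Group A] [Fintype A] (H : Subgroup A) : Fintype H := Fintype.ofFinite H

local notation "C[" Q "]" => Subgroup.centralizer (SetLike.coe Q)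

/-- An induced function as a sum over coset representatives. -/
theorem indFun_eq_sum_out (T : Subgroup G) [Fintype (G ⧸ T)] {f : T → ℂ}
    (hf : IsClassFunction T f) (g : G) :
    (indFun T f g = ∑ q : G ⧸ T, extendByZero T f (q.out⁻¹ * g * q.out)) ∧
      ∀ (x : G), extendByZero T f (x⁻¹ * g * x) =
        extendByZero T f ((x : G ⧸ T).out⁻¹ * g * (x : G ⧸ T).out) := by
  classical
  set F : G → ℂ := fun x => extendByZero T f (x⁻¹ * g * x) with hF
  have hconst : ∀ (x : G) (t : T), F (x * t) = F x := fun x t => by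
    have e : (x * (t : G))⁻¹ * g * (x * (t : G)) = (t : G)⁻¹ * (x⁻¹ * g * x) * (t : G) := by group
    simp only [hF, e]
    by_cases h : x⁻¹ * g * x ∈ T
    · have h' : (t : G)⁻¹ * (x⁻¹ * g * x) * (t : G) ∈ T :=
        T.mul_mem (T.mul_mem (T.inv_mem t.2) h) t.2
      rw [Char.extendByZero_of_mem T f h, Char.extendByZero_of_mem T f h',
        show (⟨(t : G)⁻¹ * (x⁻¹ * g * x) * (t : G), h'⟩ : T) = t⁻¹ * ⟨_, h⟩ * (t⁻¹)⁻¹ from
          Subtype.ext (by simp)]
      exact hf _ _
    · have h' : ¬ (t : G)⁻¹ * (x⁻¹ * g * x) * (t : G) ∈ T := fun h' => h (by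
        simpa [mul_assoc] using T.mul_mem (T.mul_mem t.2 h') (T.inv_mem t.2))
      rw [Char.extendByZero_of_notMem T f h, Char.extendByZero_of_notMem T f h']
  have hrep : ∀ x : G, F x = F (x : G ⧸ T).out := fun x => by
    obtain ⟨t, ht⟩ := QuotientGroup.mk_out_eq_mul T x
    rw [ht, hconst]
  refine ⟨?_, hrep⟩
  show (Nat.card T : ℂ)⁻¹ * ∑ x : G, F x = _
  rw [inv_mul_eq_iff_eq_mul₀ (by exact_mod_cast Nat.card_pos.ne'), Finset.mul_sum,
    ← Finset.sum_fiberwise Finset.univ (fun x : G => (x : G ⧸ T)) F]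
  refine Finset.sum_congr rfl fun q _ => ?_
  rw [Nat.card_eq_fintype_card, ← Finset.card_univ, ← nsmul_eq_mul, ← Finset.sum_const]
  symm
  refine Finset.sum_bij (fun (t : T) _ => q.out * (t : G)) (fun t _ => ?_)
    (fun a _ b _ h => Subtype.ext (mul_left_cancel h)) (fun x hx => ?_)
    fun t _ => (hconst _ t).symm
  · refine Finset.mem_filter.2 ⟨Finset.mem_univ _, ?_⟩
    rw [QuotientGroup.mk_mul_of_mem _ t.2, QuotientGroup.out_eq']
  · have hx' := (Finset.mem_filter.1 hx).2
    refine ⟨⟨q.out⁻¹ * x, QuotientGroup.eq.1 ?_⟩, Finset.mem_univ _, by simp⟩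
    rw [QuotientGroup.out_eq', hx']

variable {N : Subgroup G} [hN : N.Normal]

include hp in
/-- Each coset of `N` by an element of the abelian defect group supports a unit central element. -/
theorem exists_coset_unit (hM : IsPModular p M) {B : Set (IrrCharacter G)} (hB : IsPBlock M B)
    {P : Subgroup G} (hD : IsDefectGroup p M B P) (hab : ∀ x ∈ P, ∀ y ∈ P, x * y = y * x)
    (hNP : N ⊔ P = ⊤) (hreg : ∀ g : G, ¬ p ∣ orderOf g → g ∈ N) {x : G} (hx : x ∈ P) :
    ∃ W : G → ℂ, IsClassFunction G W ∧ (∀ g, W g ≠ 0 → x⁻¹ * g ∈ N) ∧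
      ∀ χ ∈ B, vec W χ ≠ 0 := by
  classical
  have hPp : IsPGroup p P := isPGroup_defectGroup hM hD
  obtain ⟨e, he⟩ := (exists_pair_iff hM hB hD hPp).2 ⟨1, by
    intro g hg; obtain ⟨a, ha, rfl⟩ := hg; simpa using ha⟩
  have hmax := maximal_of_defectGroup hM he hD
  have heb : IsPBlock M e := he.1.2
  have hPC : P ≤ C[P] := le_centralizer_of_abelian hab le_rfl
  have hCN : C[P] ≤ Subgroup.normalizer (P : Set G) := Subgroup.centralizer_le_normalizer _
  -- the defect group of `e` is `P`
  have hde : p ^ blockDefect p e = Nat.card P := by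
    rw [← defect_centralizer_of_maximal hM hmax, inf_eq_left.2 hPC]
  obtain ⟨De, hDe⟩ := exists_defectGroup hM heb
  have hPDe : P.subgroupOf C[P] ≤ De := by
    obtain ⟨g₀, hg₀, S, hS⟩ := isDefectGroup_iff.1 hDe
    subst hS
    set Z := P.subgroupOf C[P] with hZ
    have hZc : Z ≤ Subgroup.center C[P] := fun z hz => Subgroup.mem_center_iff.2 fun y =>
      Subtype.ext (Subgroup.mem_centralizer_iff.1 y.2 (z : G) (Subgroup.mem_subgroupOf.1 hz)).symm
    have hZp : IsPGroup p Z := hPp.comap_subtype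
    have hle : Z ≤ Subgroup.centralizer ({g₀} : Set C[P]) :=
      hZc.trans (Subgroup.center_le_centralizer _)
    obtain ⟨y, hy⟩ := exists_conj_le_cenSyl S hZp hle
    intro z hz
    obtain ⟨-, hy'⟩ := hy
    have h1 := hy' ⟨z, hz, rfl⟩
    rwa [show (MulAut.conj y).toMonoidHom z = z by
      show y * z * y⁻¹ = z
      rw [Subgroup.mem_center_iff.1 (hZc hz) y, mul_inv_cancel_right]] at h1
  have hDeP : De = P.subgroupOf C[P] := by
    refine (Subgroup.eq_of_le_of_card_ge hPDe ?_).symm
    rw [card_defectGroup hM heb hDe, hde, Nat.card_congr (Subgroup.subgroupOfEquivOfLe hPC).toEquiv]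
  -- the induced element
  set x' : C[P] := ⟨x, hPC hx⟩ with hx'
  set f : C[P] → ℂ := fun c => zc (indVec e) (x'⁻¹ * c) with hf
  have hxc : ∀ c : C[P], c * x'⁻¹ = x'⁻¹ * c := fun c => by
    refine Subtype.ext ?_
    show (c : G) * x⁻¹ = x⁻¹ * (c : G)
    exact (Subgroup.mem_centralizer_iff.1 c.2 x⁻¹ (P.inv_mem hx)).symm
  have hfc : IsClassFunction C[P] f := fun c k => by
    simp only [hf]
    rw [show x'⁻¹ * (k * c * k⁻¹) = k * (x'⁻¹ * c) * k⁻¹ by
      rw [← mul_assoc, ← mul_assoc, ← hxc k, mul_assoc k x'⁻¹ c]]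
    exact zc_conj_invariant _ _ _
  have hfi : ∀ c, f c ∈ locRing hM := fun c => vInt_indVec hM heb _
  haveI := Fintype.ofFinite (G ⧸ C[P])
  set W := indFun C[P] f with hW
  have hWc : IsClassFunction G W := Char.isClassFunction_indFun C[P] f
  have hWi : ∀ g, W g ∈ locRing hM := indFun_mem_locRing C[P] hM hfc hfi
  have hWs : ∀ g, W g ≠ 0 → x⁻¹ * g ∈ N := by
    intro g hg
    rw [hW, (indFun_eq_sum_out C[P] hfc g).1] at hg
    obtain ⟨q, -, hq⟩ := Finset.exists_ne_zero_of_sum_ne_zero hg
    have hmem : q.out⁻¹ * g * q.out ∈ C[P] := by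
      by_contra hn
      exact hq (Char.extendByZero_of_notMem _ f hn)
    rw [Char.extendByZero_of_mem _ f hmem, hf] at hq
    dsimp only at hq
    rw [zc_indVec] at hq
    have hr : x⁻¹ * (q.out⁻¹ * g * q.out) ∈ N := by
      refine hreg _ fun hdvd => hq (blockCoeff_eq_zero_of_dvd hM (vInt_indVec hM heb) ?_)
      rw [show orderOf (x'⁻¹ * ⟨_, hmem⟩ : C[P]) = orderOf (x⁻¹ * (q.out⁻¹ * g * q.out)) from
        (Subgroup.orderOf_coe _).symm]
      exact hdvd
    obtain ⟨n, hn, s, hs, he'⟩ := Subgroup.mem_sup_of_normal_left.1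
      (hNP ▸ Subgroup.mem_top (q.out : G) : q.out ∈ N ⊔ P)
    rw [← QuotientGroup.eq_one_iff] at hr hn ⊢
    rw [← he'] at hr
    simp only [QuotientGroup.mk_mul, QuotientGroup.mk_inv, hn, one_mul, inv_one, mul_one,
      mul_inv_rev] at hr ⊢
    have hcomm : (s : G ⧸ N) * (x : G ⧸ N) = (x : G ⧸ N) * s := by
      rw [← QuotientGroup.mk_mul, ← QuotientGroup.mk_mul, hab s hs x hx]
    have h2 : (g : G ⧸ N) = (s : G ⧸ N) * x * (s : G ⧸ N)⁻¹ := by
      have h3 : ((x : G ⧸ N))⁻¹ * ((s : G ⧸ N)⁻¹ * g * s) = 1 := by simpa [mul_assoc] using hr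
      rw [inv_mul_eq_one] at h3
      rw [h3]
      group
    rw [h2, hcomm, mul_inv_cancel_right, inv_mul_cancel]
  refine ⟨W, hWc, hWs, fun χ hχ h0 => ?_⟩
  -- the Brauer homomorphism at `P`
  obtain ⟨ξ, hξ⟩ := nonempty_of_isPBlock hM heb
  have hind : IsInducedBlock M C[P] e B :=
    (isBrauerPairOf_iff_induced hM hPp le_rfl hPC hCN (fun v => invOn_self v) heb heb
      (fun _ => rfl) hB).1 he
  have hbr := brRel_of_isInducedBlock hM hPp hPC le_rfl hCN hind hξ hχ
  have hres0 := hbr (vec W) (vInt_vec (hM := hM) hWc hWi)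
  rw [h0, res_zero] at hres0
  have hWz : zc (vec W) = W := funext (zc_vec hWc)
  -- truncation to the centraliser
  let G0 : Finset (G ⧸ C[P]) := Finset.univ.filter fun q => q.out ∈ Subgroup.normalizer (P : Set G)
  set F : G ⧸ C[P] → C[P] → ℂ := fun q c => extendByZero C[P] f (q.out⁻¹ * (c : G) * q.out) with hF
  have hFi : ∀ q c, F q c ∈ locRing hM := fun q c => by
    by_cases h : q.out⁻¹ * (c : G) * q.out ∈ C[P]
    · rw [hF]; dsimp only; rw [Char.extendByZero_of_mem _ f h]; exact hfi _
    · rw [hF]; dsimp only; rw [Char.extendByZero_of_notMem _ f h]; exact Subring.zero_mem _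
  have htrunc : ∀ c : C[P], MemLocalIdeal M (W (c : G) - ∑ q ∈ G0, F q c) := by
    intro c
    rw [hW, (indFun_eq_sum_out C[P] hfc (c : G)).1, ← Finset.sum_filter_add_sum_filter_not
      Finset.univ (fun q : G ⧸ C[P] => q.out ∈ Subgroup.normalizer (P : Set G)), add_sub_cancel_left]
    set R : G ⧸ C[P] → ℂ := fun q =>
      if q.out ∈ Subgroup.normalizer (P : Set G) ∨ MemLocalIdeal M (F q c) then 0 else F q c with hR
    have hinvF : ∀ (s : P) (q : G ⧸ C[P]), F (s • q) c = F q c := by
      intro s q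
      have h1 := (indFun_eq_sum_out C[P] hfc (c : G)).2 ((s : G) * q.out)
      rw [show (((s : G) * q.out : G) : G ⧸ C[P]) = s • q by
        conv_rhs => rw [← QuotientGroup.out_eq' q]
        rfl] at h1
      simp only [hF]
      rw [← h1]
      congr 1
      rw [show ((s : G) * q.out)⁻¹ * (c : G) * ((s : G) * q.out) =
        q.out⁻¹ * ((s : G)⁻¹ * (c : G) * (s : G)) * q.out by group,
        mul_assoc (s : G)⁻¹, ← Subgroup.mem_centralizer_iff.1 c.2 (s : G) s.2, inv_mul_cancel_left]
    have hmemN : ∀ (s : P) (q : G ⧸ C[P]),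
        (s • q).out ∈ Subgroup.normalizer (P : Set G) ↔ q.out ∈ Subgroup.normalizer (P : Set G) := by
      intro s q
      obtain ⟨t, ht⟩ := QuotientGroup.mk_out_eq_mul C[P] ((s : G) * q.out)
      rw [show (((s : G) * q.out : G) : G ⧸ C[P]) = s • q by
        conv_rhs => rw [← QuotientGroup.out_eq' q]
        rfl] at ht
      rw [ht, Subgroup.mul_mem_cancel_right _ (hCN t.2),
        Subgroup.mul_mem_cancel_left _ (Subgroup.le_normalizer s.2)]
    have hsum : MemLocalIdeal M ((∑ q, R q) / ((1 : ℕ) : ℂ)) := by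
      refine orbit_sum_mem hM (K := P) R (fun s q => ?_) (fun q => ?_) one_ne_zero fun q hq => ?_
      · simp only [hR, hinvF, hmemN]
      · simp only [hR]; split_ifs
        exacts [Subring.zero_mem _, hFi q c]
      · have hq' : q.out ∉ Subgroup.normalizer (P : Set G) ∧ ¬ MemLocalIdeal M (F q c) :=
          not_or.1 fun h => hq (if_pos h)
        rw [Nat.factorization_one, Finsupp.zero_apply, add_zero]
        obtain ⟨k, hk⟩ := hPp.exists_card_eq
        obtain ⟨i, hik, hi⟩ := (Nat.dvd_prime_pow hp.out).1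
          (hk ▸ Subgroup.card_subgroup_dvd_card (MulAction.stabilizer P q))
        rw [hk, hi, hp.out.factorization_pow, hp.out.factorization_pow, Finsupp.single_eq_same,
          Finsupp.single_eq_same]
        refine lt_of_le_of_ne hik fun heq => hq'.1 ?_
        have htop : MulAction.stabilizer P q = ⊤ :=
          Subgroup.eq_top_of_card_eq _ (by rw [hi, hk, heq])
        have hconj : ∀ s ∈ P, q.out⁻¹ * s * q.out ∈ C[P] := fun s hs => by
          have h1 : (⟨s, hs⟩ : P) • q = q :=
            (htop ▸ Subgroup.mem_top (⟨s, hs⟩ : P) : (⟨s, hs⟩ : P) ∈ MulAction.stabilizer P q)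
          rw [← QuotientGroup.out_eq' q] at h1
          have h2 : q.out⁻¹ * (s * q.out) ∈ C[P] := QuotientGroup.eq.1
            (h1 : (((s * q.out : G)) : G ⧸ C[P]) = ((q.out : G) : G ⧸ C[P])).symm
          rwa [← mul_assoc] at h2
        have hmem : q.out⁻¹ * (c : G) * q.out ∈ C[P] := by
          by_contra hn
          refine hq'.2 ?_
          rw [hF]; dsimp only
          rw [Char.extendByZero_of_notMem _ f hn]
          exact memLocalIdeal_zero hM
        have hu : ¬ MemLocalIdeal M (blockCoeff e (x'⁻¹ * ⟨_, hmem⟩)) := by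
          rw [← zc_indVec]
          have h2 := hq'.2
          rw [hF] at h2; dsimp only at h2
          rwa [Char.extendByZero_of_mem _ f hmem, hf] at h2
        set S : Subgroup C[P] :=
          (P.map (MulAut.conj q.out⁻¹).toMonoidHom).subgroupOf C[P] with hS
        have hSp : IsPGroup p S :=
          (hPp.map (MulAut.conj q.out⁻¹).toMonoidHom).comap_subtype
        have hSle : S ≤ Subgroup.centralizer ({x'⁻¹ * ⟨_, hmem⟩} : Set C[P]) := by
          intro s hs
          obtain ⟨s₀, hs₀, hs'⟩ := Subgroup.mem_subgroupOf.1 hs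
          refine Subgroup.mem_centralizer_iff.2 fun z hz => ?_
          rw [Set.mem_singleton_iff] at hz
          subst hz
          refine Subtype.ext ?_
          show x⁻¹ * (q.out⁻¹ * (c : G) * q.out) * (s : G) =
            (s : G) * (x⁻¹ * (q.out⁻¹ * (c : G) * q.out))
          have h3 : (q.out⁻¹ * (c : G) * q.out) * (s : G) = (s : G) * (q.out⁻¹ * (c : G) * q.out) := by
            rw [← hs']
            show (q.out⁻¹ * (c : G) * q.out) * (q.out⁻¹ * s₀ * q.out⁻¹⁻¹) =
              (q.out⁻¹ * s₀ * q.out⁻¹⁻¹) * (q.out⁻¹ * (c : G) * q.out)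
            have h4 := Subgroup.mem_centralizer_iff.1 c.2 s₀ hs₀
            calc (q.out⁻¹ * (c : G) * q.out) * (q.out⁻¹ * s₀ * q.out⁻¹⁻¹)
                = q.out⁻¹ * ((c : G) * s₀) * q.out := by group
              _ = q.out⁻¹ * (s₀ * (c : G)) * q.out := by rw [h4]
              _ = _ := by group
          have h5 : x⁻¹ * (s : G) = (s : G) * x⁻¹ :=
            Subgroup.mem_centralizer_iff.1 s.2 x⁻¹ (P.inv_mem hx)
          rw [mul_assoc, h3, ← mul_assoc, h5, mul_assoc]
        obtain ⟨y, hy⟩ := dClass_of_coeff hM heb hDe hu S hSp hSle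
        refine (Subgroup.inv_mem_iff _).1 ?_
        have hle : P.map (MulAut.conj q.out⁻¹).toMonoidHom ≤ P := by
          intro g hg
          obtain ⟨s₀, hs₀, rfl⟩ := hg
          have hmemC : (MulAut.conj q.out⁻¹).toMonoidHom s₀ ∈ C[P] := by
            simpa [mul_assoc] using hconj s₀ hs₀
          have h6 := hy ⟨⟨_, hmemC⟩, Subgroup.mem_subgroupOf.2 ⟨s₀, hs₀, rfl⟩, rfl⟩
          rw [hDeP, Subgroup.mem_subgroupOf] at h6
          have h7 : (y : G) * (MulAut.conj q.out⁻¹).toMonoidHom s₀ * (y : G)⁻¹ ∈ P := h6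
          exact (Subgroup.mem_normalizer_iff.1 (hCN y.2) _).2 h7
        have heq' : P.map (MulAut.conj q.out⁻¹).toMonoidHom = P :=
          Subgroup.eq_of_le_of_card_ge hle (le_of_eq
            (Subgroup.card_map_of_injective (MulAut.conj q.out⁻¹).injective).symm)
        refine Subgroup.mem_normalizer_iff.2 fun a => ⟨fun ha => hle ⟨a, ha, rfl⟩, fun ha => ?_⟩
        obtain ⟨b, hb, hba⟩ := (SetLike.ext_iff.1 heq' _).2 ha
        rwa [← (MulAut.conj q.out⁻¹).injective hba]
    rw [Nat.cast_one, div_one] at hsum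
    have hdiff : MemLocalIdeal M
        ((∑ q ∈ Finset.univ.filter fun q : G ⧸ C[P] => ¬ q.out ∈ Subgroup.normalizer (P : Set G),
          F q c) - ∑ q, R q) := by
      rw [Finset.sum_filter, ← Finset.sum_sub_distrib]
      refine memLocalIdeal_sum hM _ _ fun q _ => ?_
      simp only [hR]
      by_cases h1 : q.out ∈ Subgroup.normalizer (P : Set G)
      · simp [h1, memLocalIdeal_zero hM]
      · by_cases h2 : MemLocalIdeal M (F q c)
        · simp [h1, h2]
        · simp [h1, h2, memLocalIdeal_zero hM]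
    simpa [hF] using memLocalIdeal_add hM hdiff hsum
  -- the stabiliser of `e`
  let T : Subgroup G := Subgroup.normalizer (P : Set G) ⊓ invStab (indVec e)
  have hT : ∀ y : G, y ∈ T ↔ y ∈ Subgroup.normalizer (P : Set G) ∧
      StabilizesBlock C[P] e y := fun y => by
    refine and_congr_right fun hy => ?_
    rw [stabilizesBlock_iff_coeff (mem_normalizer_centralizer hy), ← extF_indVec]
    rfl
  have hrel := not_dvd_relIndex_of_maximal hM hmax hT
  rw [sup_eq_right.2 hPC] at hrel
  -- the value of each term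
  have hterm : ∀ q ∈ G0, MemLocalIdeal M
      ((∑ c : C[P], F q c * (ξ : C[P] → ℂ) c) / (ξ : C[P] → ℂ) 1 - if q.out ∈ T then 1 else 0) := by
    intro q hq
    have hqN : q.out ∈ Subgroup.normalizer (P : Set G) := (Finset.mem_filter.1 hq).2
    have hqC := mem_normalizer_centralizer hqN
    set hmaps := conjMaps_normalizer hqC
    set σ := (conjIso hmaps).symm with hσ
    have hσval : ∀ c : C[P], ((σ c : C[P]) : G) = q.out⁻¹ * (c : G) * q.out := fun c => rfl
    set y := σ.symm x' with hy
    have hyc : y ∈ Subgroup.center C[P] := by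
      refine Subgroup.mem_center_iff.2 fun c => ?_
      apply σ.injective
      rw [map_mul, map_mul, hy, MulEquiv.apply_symm_apply]
      refine Subtype.ext ?_
      show ((σ c : C[P]) : G) * x = x * ((σ c : C[P]) : G)
      exact (Subgroup.mem_centralizer_iff.1 (σ c).2 x hx).symm
    obtain ⟨l, hl, hlmul⟩ := exists_central_scalar ξ hyc
    have hsum : ∑ c : C[P], F q c * (ξ : C[P] → ℂ) c =
        l * ∑ c : C[P], zc (indVec (pullSet σ e)) c * (ξ : C[P] → ℂ) c := by
      rw [Finset.mul_sum]
      symm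
      refine Fintype.sum_equiv (Equiv.mulLeft y) _ _ fun c => ?_
      have h1 : q.out⁻¹ * ((y * c : C[P]) : G) * q.out ∈ C[P] := by
        rw [← hσval]; exact (σ (y * c)).2
      simp only [hF, Equiv.coe_mulLeft]
      rw [Char.extendByZero_of_mem _ f h1, hlmul,
        show (⟨_, h1⟩ : C[P]) = x' * σ c from
          (Subtype.ext (hσval (y * c)).symm).trans (by rw [map_mul, hy, MulEquiv.apply_symm_apply]),
        hf]
      dsimp only
      rw [inv_mul_cancel_left, zc_indVec, zc_indVec, blockCoeff_pullSet]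
      ring
    have hval := congrFun (vec_zc (indVec (pullSet σ e))) ξ
    rw [vec] at hval
    rw [hsum, mul_div_assoc, hval, indVec]
    have hiff : ξ ∈ pullSet σ e ↔ q.out ∈ T := by
      rw [hT, and_iff_right hqN, stabilizesBlock_iff hqC]
      show _ ↔ pullSet σ e = e
      exact ⟨fun h => isPBlock_eq_of_mem hM (isPBlock_pullSet _ heb) heb h hξ, fun h => h.symm ▸ hξ⟩
    by_cases hqT : q.out ∈ T
    · rw [if_pos hqT, if_pos (hiff.2 hqT), mul_one]
      obtain ⟨k, hk⟩ := hPp.exists_card_eq
      refine memLocalIdeal_sub_one_of_pow_prime_pow hM (k := k) ?_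
      have hord : orderOf y ∣ p ^ k := by
        rw [hy, MulEquiv.orderOf_eq, ← hk, show orderOf x' = orderOf x from
          (Subgroup.orderOf_coe x').symm, ← Subgroup.orderOf_mk x hx]
        exact orderOf_dvd_natCard _
      obtain ⟨d, hd⟩ := hord
      rw [hd, pow_mul, hl, one_pow]
    · rw [if_neg hqT, if_neg fun h => hqT (hiff.1 h), mul_zero, sub_zero]
      exact memLocalIdeal_zero hM
  -- counting the cosets inside the stabiliser
  have hCT : C[P] ≤ T := le_inf hCN (le_invStab_self _)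
  set m := (Finset.univ.filter fun q : G ⧸ C[P] => q.out ∈ T).card with hm
  have hcount : m = C[P].relIndex T := by
    rw [hm, Subgroup.relIndex, Subgroup.index, ← Nat.card_eq_finsetCard]
    refine Nat.card_congr
      { toFun := fun q => ((⟨q.1.out, (Finset.mem_filter.1 q.2).2⟩ : T) : T ⧸ C[P].subgroupOf T)
        invFun := fun r => ⟨((r.out : T) : G), Finset.mem_filter.2 ⟨Finset.mem_univ _, by
          obtain ⟨t, ht⟩ := QuotientGroup.mk_out_eq_mul C[P] ((r.out : T) : G)
          rw [ht]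
          exact T.mul_mem (r.out : T).2 (hCT t.2)⟩⟩
        left_inv := fun q => Subtype.ext ?_
        right_inv := fun r => ?_ }
    · show ((((((⟨q.1.out, _⟩ : T) : T ⧸ C[P].subgroupOf T)).out : T) : G) : G ⧸ C[P]) = q.1
      obtain ⟨t, ht⟩ := QuotientGroup.mk_out_eq_mul (C[P].subgroupOf T)
        (⟨q.1.out, (Finset.mem_filter.1 q.2).2⟩ : T)
      rw [ht]
      show (((q.1.out * ((t : T) : G) : G)) : G ⧸ C[P]) = q.1
      rw [QuotientGroup.mk_mul_of_mem _ (Subgroup.mem_subgroupOf.1 t.2), QuotientGroup.out_eq']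
    · conv_rhs => rw [← QuotientGroup.out_eq' r]
      refine QuotientGroup.eq.2 (Subgroup.mem_subgroupOf.2 ?_)
      obtain ⟨t, ht⟩ := QuotientGroup.mk_out_eq_mul C[P] ((r.out : T) : G)
      show (((r.out : T) : G) : G ⧸ C[P]).out⁻¹ * ((r.out : T) : G) ∈ C[P]
      rw [ht, mul_inv_rev, mul_assoc, inv_mul_cancel, mul_one]
      exact C[P].inv_mem t.2
  -- conclusion
  have hkey : MemLocalIdeal M (brVec P C[P] (vec W) ξ - (m : ℂ)) := by
    have e1 : brVec P C[P] (vec W) ξ =
        (∑ c : C[P], W (c : G) * (ξ : C[P] → ℂ) c) / (ξ : C[P] → ℂ) 1 := by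
      rw [brVec, vec]
      congr 1
      refine Finset.sum_congr rfl fun c _ => ?_
      rw [brF_of_mem c.2, hWz]
    have hvec : MemLocalIdeal M
        ((∑ c : C[P], (W (c : G) - ∑ q ∈ G0, F q c) * (ξ : C[P] → ℂ) c) / (ξ : C[P] → ℂ) 1) := by
      set D : C[P] → ℂ := fun c => W (c : G) - ∑ q ∈ G0, F q c with hDdef
      have hDc : IsClassFunction C[P] D := fun c k => by
        simp only [hDdef]
        rw [Subgroup.coe_mul, Subgroup.coe_mul, Subgroup.coe_inv, hWc]
        congr 1
        refine Finset.sum_congr rfl fun q hq => ?_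
        have hqC := mem_normalizer_centralizer (Finset.mem_filter.1 hq).2
        set σ := (conjIso (conjMaps_normalizer hqC)).symm
        have hval : ∀ d : C[P], F q d = f (σ d) := fun d => by
          have h1 : q.out⁻¹ * (d : G) * q.out ∈ C[P] := (σ d).2
          simp only [hF]
          rw [Char.extendByZero_of_mem _ f h1]
          rfl
        rw [hval, hval, map_mul, map_mul, map_inv, hfc]
      exact apply_mem_ideal hM (v := vec D) (fun c => by rw [zc_vec hDc]; exact htrunc c) ξ
    have e2 : brVec P C[P] (vec W) ξ - (m : ℂ) =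
        (∑ c : C[P], (W (c : G) - ∑ q ∈ G0, F q c) * (ξ : C[P] → ℂ) c) / (ξ : C[P] → ℂ) 1 +
          ∑ q ∈ G0, ((∑ c : C[P], F q c * (ξ : C[P] → ℂ) c) / (ξ : C[P] → ℂ) 1 -
            if q.out ∈ T then 1 else 0) := by
      have e3 : (m : ℂ) = ∑ q ∈ G0, if q.out ∈ T then (1 : ℂ) else 0 := by
        rw [Finset.sum_boole, hm]
        congr 2
        ext q
        simp only [G0, Finset.mem_filter, Finset.mem_univ, true_and]
        exact ⟨fun h => ⟨h.1, h⟩, fun h => h.2⟩
      rw [e1, e3, Finset.sum_sub_distrib, ← Finset.sum_div, Finset.sum_comm]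
      simp only [sub_mul, Finset.sum_sub_distrib, ← Finset.sum_mul]
      ring
    rw [e2]
    exact memLocalIdeal_add hM hvec (memLocalIdeal_sum hM _ _ hterm)
  rw [(res_eq_iff hM (apply_mem_locRing hM (vInt_brVec hM hCN (vInt_vec (hM := hM) hWc hWi)) ξ)
    (natCast_mem_locRing hM m)).2 hkey, res_eq_zero_iff hM (natCast_mem_locRing hM m),
    memLocalIdeal_natCast_iff hM, hcount] at hres0
  exact hrel hres0

end Cfsg.Lib.Block
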