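import Cfsg.Agent.Lib.Block.AbelianNilpotent
import Mathlib.GroupTheory.SpecificGroups.KleinFour

/-!
# Blocks with a Klein four defect group

The local blocks have rank one, so there are at most four characters; the pairings of the
characters at an involution of the defect group are nonzero integers with four as sum of squares,
so there are exactly four.
-/

set_option autoImplicit false
set_option linter.unusedSectionVars false
set_option maxHeartbeats 800000

namespace Cfsg.Lib.Block

open Cfsg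
open scoped ComplexConjugate

universe u

noncomputable local instance (priority := high) fintypeSubgroupAbelianKlein {A : Type u}
    [Group A] [Fintype A] (H : Subgroup A) : Fintype H := Fintype.ofFinite H

local notation "C[" Q "]" => Subgroup.centralizer (SetLike.coe Q)

variable {M : Ideal AlgInt} [Fact (Nat.Prime 2)] (hM : IsPModular 2 M)
  {G : Type u} [Group G] [Fintype G]

include hM in
open Classical in
/-- A major subsection at an involution with a block of rank one of defect two. -/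
theorem card_eq_four_of_involution {v : G} (hv2 : orderOf v = 2) {H : Subgroup G}
    (hH : H = Subgroup.centralizer ({v} : Set G)) {B : Set (IrrCharacter G)}
    (hk : 2 ≤ Nat.card B) {f : Set (IrrCharacter H)} (hind : IsInducedBlock M H f B)
    (hfd : blockDefect 2 f = 2) (hBd : blockDefect 2 B = 2) (hl : blockRank 2 f = 1)
    (hkf : Nat.card f = 4) : Nat.card B = 4 := by
  subst hH
  obtain ⟨H, hHdef⟩ : ∃ H : Subgroup G, H = Subgroup.centralizer ({v} : Set G) := ⟨_, rfl⟩
  revert f
  rw [← hHdef]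
  intro f hind hfd hl hkf
  have hHv : ∀ h : H, Commute v (h : G) := fun h => by
    have := h.2
    simp only [hHdef, Subgroup.mem_centralizer_singleton_iff] at this
    exact this.symm
  have hCH : Subgroup.centralizer ({v} : Set G) ≤ H := hHdef.ge
  have hu : ∃ k : ℕ, orderOf v = 2 ^ k := ⟨1, by rw [hv2, pow_one]⟩
  obtain ⟨m, hm⟩ := exists_regForm hM hind.1
  have hS : MajorSetup (p := 2) M 0 v f B m :=
    ⟨by rw [zero_add, pow_one, ← hv2, pow_orderOf_eq_one], hHv, hCH, hind, by rw [hfd, hBd], hm⟩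
  obtain ⟨φ, hφ, h0, -, -⟩ := hS.exists_height_zero hM
  -- the form at `φ`
  have hone : regN 2 f φ φ = 1 := by
    have h1 := blockRank_eq_sum_regInner hM (p := 2) (vInt_indVec hM hind.1)
    have hk4 : Nat.card f = 2 ^ blockDefect 2 f := by rw [hkf, hfd]; norm_num
    rw [hl, Finset.sum_congr rfl (g := fun _ => regInner 2 (φ : H → ℂ) (φ : H → ℂ)) fun ψ hψ => by
      have e : pRegularPart 2 (ψ : H → ℂ) = pRegularPart 2 (φ : H → ℂ) := funext fun x => by
        by_cases hx : IsPRegular 2 x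
        · rw [pRegularPart_of_reg hx, pRegularPart_of_reg hx,
            reg_eq_of_rank_one hM hind.1 hl hk4 (Set.mem_toFinset.1 hψ) hφ hx]
        · rw [pRegularPart_of_sing hx, pRegularPart_of_sing hx]
      have e2 : regInner 2 (ψ : H → ℂ) (ψ : H → ℂ) = regInner 2 (φ : H → ℂ) (ψ : H → ℂ) := by
        rw [regInner, regInner, e]
      rw [e2, regInner_symm, regInner, e, ← regInner], Finset.sum_const, ← Nat.card_eq_card_toFinset,
      hkf, nsmul_eq_mul, Nat.cast_one] at h1
    rw [regN, hfd]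
    push_cast at h1 ⊢
    linear_combination -h1
  have horth := sum_secT_mul_conj hM hu hHv hCH hind hfd hφ hφ
  rw [hone, map_one, mul_one] at horth
  -- the pairings are nonzero integers
  have hint : ∀ χ : IrrCharacter G, ∃ a : ℤ, secT 2 2 v χ φ = (a : ℂ) := by
    intro χ
    have hci : ∀ ξ : IrrCharacter H, ∃ a : ℤ,
        classInner (secFn v H (χ : G → ℂ)) (ξ : H → ℂ) = (a : ℂ) := by
      intro ξ
      obtain ⟨z, hz, hzχ⟩ := classInner_secFn hS.mem hHv χ ξ
      obtain ⟨n, hn⟩ := (χ.2.isCharacter.comp H.subtype).exists_nat_classInner ξ.2.isCharacter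
      have hn' : classInner (fun h : H => (χ : G → ℂ) h) (ξ : H → ℂ) = n := hn
      rw [hn'] at hzχ
      rw [hv2, sq_eq_one_iff] at hz
      rcases hz with rfl | rfl
      · exact ⟨n, by rw [hzχ]; push_cast; ring⟩
      · exact ⟨-n, by rw [hzχ]; push_cast; ring⟩
    choose a ha using hci
    refine ⟨∑ ξ ∈ f.toFinset, a ξ * m ξ φ, ?_⟩
    rw [secT_eq_sum hM hHv hind.1 hfd χ hφ]
    push_cast
    exact Finset.sum_congr rfl fun ξ hξ => by rw [ha, hm.eq ξ (Set.mem_toFinset.1 hξ) φ hφ]
  choose a ha using hint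
  have hne : ∀ χ ∈ B, a χ ≠ 0 := fun χ hχ h => by
    have h1 := (hS.secT_scaled hM hχ φ).2 ⟨hφ, h0⟩
    rw [hfd, ha, h, Int.cast_zero, zero_div] at h1
    exact h1 (memLocalIdeal_zero hM)
  have hsum : ∑ χ ∈ B.toFinset, a χ * a χ = 4 := by
    apply Int.cast_injective (α := ℂ)
    push_cast
    rw [← show ((2 ^ 2 : ℕ) : ℂ) = (4 : ℂ) by norm_num, ← horth]
    exact Finset.sum_congr rfl fun χ _ => by rw [ha, map_intCast]
  rw [Nat.card_eq_card_toFinset] at hk ⊢
  have hsq : ∀ χ ∈ B.toFinset, a χ * a χ = 1 := by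
    intro χ hχ
    have hchi : 1 ≤ a χ * a χ := by
      have := mul_self_pos.2 (hne χ (Set.mem_toFinset.1 hχ))
      omega
    by_contra hne1
    have h4 : 4 ≤ a χ * a χ := by
      by_contra hlt
      have hb : -1 ≤ a χ ∧ a χ ≤ 1 := ⟨by nlinarith, by nlinarith⟩
      obtain ⟨x, hx⟩ : ∃ x, a χ = x := ⟨_, rfl⟩
      rw [hx] at hb hne1 hchi
      obtain ⟨h1, h2⟩ := hb
      interval_cases x <;> simp_all
    obtain ⟨η, hη, hηne⟩ := Finset.exists_mem_ne (Finset.one_lt_card.2
      (Finset.one_lt_card.1 (by omega : 1 < B.toFinset.card))) χ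
    have h5 : 1 ≤ a η * a η := by
      have := mul_self_pos.2 (hne η (Set.mem_toFinset.1 hη))
      omega
    have h6 : a χ * a χ + a η * a η ≤ ∑ ξ ∈ B.toFinset, a ξ * a ξ := by
      rw [← Finset.sum_pair (f := fun ξ => a ξ * a ξ) hηne.symm]
      refine Finset.sum_le_sum_of_subset_of_nonneg (fun ξ hξ => ?_) fun ξ _ _ => mul_self_nonneg _
      rcases Finset.mem_insert.1 hξ with rfl | h
      · exact hχ
      · rwa [Finset.mem_singleton.1 h]
    omega
  rw [Finset.sum_congr rfl hsq, Finset.sum_const, nsmul_eq_mul, mul_one] at hsum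
  exact_mod_cast hsum

include hM in
/-- The stabilizer of a root of a block with a Klein four defect group acts freely on it. -/
theorem klein_free {B : Set (IrrCharacter G)} {P : Subgroup G} (hB : IsPBlock M B)
    (hD : IsDefectGroup 2 M B P) (hV : IsKleinFour P) {c : Set (IrrCharacter C[P])}
    (hc : IsInducedBlock M C[P] c B) {T : Subgroup G}
    (hT : ∀ g : G, g ∈ T ↔ g ∈ Subgroup.normalizer (P : Set G) ∧ StabilizesBlock C[P] c g) :
    ∀ g ∈ T, ∀ x ∈ P, x ≠ 1 → g * x * g⁻¹ = x → g ∈ C[P] := by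
  classical
  haveI := hV
  have hab : ∀ x ∈ P, ∀ y ∈ P, x * y = y * x := fun x hx y hy => by
    have h := mul_comm_of_exponent_two (IsKleinFour.exponent_two (G := P)) ⟨x, hx⟩ ⟨y, hy⟩
    exact congrArg Subtype.val h
  have hmax := maximal_of_root hM hB hD hab hc
  have hodd : ¬ 2 ∣ (C[P]).relIndex T := by
    have h := not_dvd_relIndex_of_maximal hM hmax hT
    rwa [sup_eq_right.2 (le_centralizer_of_abelian hab le_rfl)] at h
  haveI hnT : ((C[P]).subgroupOf T).Normal := Subgroup.normal_subgroupOf_of_le_normalizer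
    fun y hy => mem_normalizer_centralizer ((hT y).1 hy).1
  intro g hg x hx hx1 hfix
  have hgN := ((hT g).1 hg).1
  let σ : MulAut P := P.normalizerMonoidHom ⟨g, hgN⟩
  have hσ : ∀ y : P, ((σ y : P) : G) = g * y * g⁻¹ := fun y => rfl
  have hcent : g ^ 2 ∈ C[P] := by
    refine Subgroup.mem_centralizer_iff.2 fun y hy => ?_
    suffices h : σ (σ ⟨y, hy⟩) = ⟨y, hy⟩ by
      have h' : g * (g * y * g⁻¹) * g⁻¹ = y := congrArg Subtype.val h
      calc y * g ^ 2 = g * (g * y * g⁻¹) * g⁻¹ * g ^ 2 := by rw [h']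
        _ = g ^ 2 * y := by rw [pow_two]; group
    have hσx : σ ⟨x, hx⟩ = ⟨x, hx⟩ := Subtype.ext hfix
    by_cases hy1 : (⟨y, hy⟩ : P) = 1
    · rw [hy1, map_one, map_one]
    by_cases hyx : (⟨y, hy⟩ : P) = ⟨x, hx⟩
    · rw [hyx, hσx, hσx]
    -- the two remaining elements
    have hx' : (⟨x, hx⟩ : P) ≠ 1 := fun h => hx1 (congrArg Subtype.val h)
    have h1 : σ ⟨y, hy⟩ ≠ 1 := fun h => hy1 (σ.injective (h.trans (map_one σ).symm))
    have h2 : σ ⟨y, hy⟩ ≠ ⟨x, hx⟩ := fun h => hyx (σ.injective (h.trans hσx.symm))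
    by_cases h3 : σ ⟨y, hy⟩ = ⟨y, hy⟩
    · rw [h3, h3]
    have h4 : σ ⟨y, hy⟩ = ⟨x, hx⟩ * ⟨y, hy⟩ :=
      IsKleinFour.eq_mul_of_ne_all hx' hy1 (Ne.symm hyx) h1 h2 h3
    rw [h4, map_mul, hσx, h4, ← mul_assoc, IsKleinFour.mul_self, one_mul]
  obtain ⟨j, hj⟩ := Nat.not_even_iff_odd.1 fun h => hodd (even_iff_two_dvd.1 h)
  have h5 : ((⟨g, hg⟩ : T) : T ⧸ (C[P]).subgroupOf T) ^ 2 = 1 := by
    rw [← QuotientGroup.mk_pow, QuotientGroup.eq_one_iff]
    exact Subgroup.mem_subgroupOf.2 hcent
  have h6 : ((⟨g, hg⟩ : T) : T ⧸ (C[P]).subgroupOf T) ^ (C[P]).relIndex T = 1 :=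
    pow_card_eq_one'
  rw [hj, pow_succ, pow_mul, h5, one_pow, one_mul, QuotientGroup.eq_one_iff] at h6
  exact Subgroup.mem_subgroupOf.1 h6

include hM in
/-- The invariants of a block with a Klein four defect group. -/
theorem klein_block_invariants {B : Set (IrrCharacter G)} {P : Subgroup G} (hB : IsPBlock M B)
    (hD : IsDefectGroup 2 M B P) (hV : IsKleinFour P) {c : Set (IrrCharacter C[P])}
    (hc : IsInducedBlock M C[P] c B) {T : Subgroup G}
    (hT : ∀ g : G, g ∈ T ↔ g ∈ Subgroup.normalizer (P : Set G) ∧ StabilizesBlock C[P] c g) :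
    ((C[P]).relIndex T = 1 ∨ (C[P]).relIndex T = 3) ∧ Nat.card B = 4 ∧
      blockRank 2 B = (C[P]).relIndex T := by
  classical
  haveI := hV
  have hab : ∀ x ∈ P, ∀ y ∈ P, x * y = y * x := fun x hx y hy => by
    have h := mul_comm_of_exponent_two (IsKleinFour.exponent_two (G := P)) ⟨x, hx⟩ ⟨y, hy⟩
    exact congrArg Subtype.val h
  have hcard : Nat.card P = 4 := IsKleinFour.card_four
  have hmax := maximal_of_root hM hB hD hab hc
  have hfree := klein_free hM hB hD hV hc hT
  obtain ⟨N, hN, heq⟩ := card_eq_rank_add_free hM hB hD hab hc hT hfree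
  rw [hcard] at hN
  have hpos := blockRank_pos hM hB
  have hBd : blockDefect 2 B = 2 := by
    have h := card_defectGroup hM hB hD
    rw [hcard] at h
    exact Nat.pow_right_injective le_rfl (show 2 ^ blockDefect 2 B = 2 ^ 2 by omega)
  haveI : Nontrivial P := Finite.one_lt_card_iff_nontrivial.1 (by rw [hcard]; norm_num)
  obtain ⟨v, hv⟩ := exists_ne (1 : P)
  have hv2 : orderOf (v : G) = 2 := by
    rw [orderOf_submonoid]
    exact orderOf_eq_prime (by rw [pow_two]; exact IsKleinFour.mul_self v) hv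
  obtain ⟨f, hf, hle⟩ := exists_subpair hM hmax.1.1 (Subgroup.zpowers_le.2 v.2)
  have hQC : Subgroup.zpowers (v : G) ≤ C[Subgroup.zpowers (v : G)] :=
    le_centralizer_of_abelian (fun a ha a' ha' => hab a (Subgroup.zpowers_le.2 v.2 ha) a'
      (Subgroup.zpowers_le.2 v.2 ha')) le_rfl
  have hind := isInducedBlock_of_isBrauerPairOf hM hQC
    ((isBrauerPairOf_iff_of_le hM hle B).1 hmax.1)
  obtain ⟨-, hfl, hfk⟩ := local_rank_one hM hB hD hab hc hT hfree
    (fun h => hv (Subtype.ext (Subgroup.zpowers_eq_bot.1 h))) hle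
  have hfD := subpair_defect hM hmax hab hle
  have hfd : blockDefect 2 f = 2 := by
    have h := card_defectGroup hM hf hfD
    rw [Nat.card_congr (Subgroup.subgroupOfEquivOfLe
      (le_centralizer_of_abelian hab (Subgroup.zpowers_le.2 v.2))).toEquiv, hcard] at h
    exact Nat.pow_right_injective le_rfl (show 2 ^ blockDefect 2 f = 2 ^ 2 by omega)
  have hup := card_le_of_major_rank hM v.2 (fun d hd => hab d hd v v.2) hB hD hind hfD (by omega)
  rw [hcard] at hup
  have he : (C[P]).relIndex T ∣ 3 := Dvd.intro_left N hN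
  have h4 : Nat.card B = 4 := by
    refine card_eq_four_of_involution hM hv2 (centralizer_singleton_eq (v : G)).symm ?_ hind hfd
      hBd hfl (hfk.trans hcard)
    have : 1 ≤ N := Nat.pos_of_ne_zero fun h => by rw [h] at hN; simp at hN
    omega
  refine ⟨(Nat.dvd_prime Nat.prime_three).1 he, h4, ?_⟩
  rcases (Nat.dvd_prime Nat.prime_three).1 he with h | h <;> rw [h] at hN ⊢ <;> omega

end Cfsg.Lib.Block
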