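import Cfsg.Agent.Lib.Block.SubsectionApps

/-!
# Counting by sections

Sums over a group grouped by the conjugacy class of the `p`-part, and the count of the
characters of a block by subsections.
-/

set_option autoImplicit false
set_option linter.unusedSectionVars false
set_option maxHeartbeats 400000

namespace Cfsg.Lib.Block

open Cfsg
open scoped ComplexConjugate

universe u

variable {p : ℕ} {M : Ideal AlgInt} {G : Type u} [Group G] [Fintype G] [Fact p.Prime]

open Classical in
theorem card_mul_sum_pPt_conj {F : G → ℂ} (hF : IsClassFunction G F) (x : G) :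
    (Nat.card (Subgroup.centralizer ({x} : Set G)) : ℂ) *
        ∑ g ∈ Finset.univ.filter (fun g => IsConj (pPt p g) x), F g =
      (Nat.card G : ℂ) * ∑ g ∈ Finset.univ.filter (fun g => pPt p g = x), F g := by
  have hcount : ∀ g : G, (Finset.univ.filter fun k : G => pPt p (k * g * k⁻¹) = x).card =
      if IsConj (pPt p g) x then Nat.card (Subgroup.centralizer ({x} : Set G)) else 0 := by
    intro g
    split_ifs with h
    · obtain ⟨k0, hk0⟩ := isConj_iff.1 h
      rw [← Fintype.card_subtype, ← Nat.card_eq_fintype_card]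
      refine Nat.card_congr (Equiv.subtypeEquiv (Equiv.mulRight k0⁻¹) fun k => ?_)
      rw [pPt_conj, Subgroup.mem_centralizer_iff]
      simp only [Set.mem_singleton_iff, forall_eq, Equiv.coe_mulRight]
      rw [← hk0]
      constructor
      · intro h'
        calc k0 * pPt p g * k0⁻¹ * (k * k0⁻¹)
            = k * pPt p g * k⁻¹ * (k * k0⁻¹) := by rw [h']
          _ = k * k0⁻¹ * (k0 * pPt p g * k0⁻¹) := by group
      · intro h'
        calc k * pPt p g * k⁻¹ = k * k0⁻¹ * (k0 * pPt p g * k0⁻¹) * (k * k0⁻¹)⁻¹ := by group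
          _ = k0 * pPt p g * k0⁻¹ := by rw [← h', mul_inv_cancel_right]
    · refine Finset.card_eq_zero.2 (Finset.filter_eq_empty_iff.2 fun k _ hk => h ?_)
      rw [pPt_conj] at hk
      exact isConj_iff.2 ⟨k, hk⟩
  calc (Nat.card (Subgroup.centralizer ({x} : Set G)) : ℂ) *
        ∑ g ∈ Finset.univ.filter (fun g => IsConj (pPt p g) x), F g
      = ∑ g : G, ((Finset.univ.filter fun k : G => pPt p (k * g * k⁻¹) = x).card : ℂ) * F g := by
        rw [Finset.mul_sum, Finset.sum_filter]
        refine Finset.sum_congr rfl fun g _ => ?_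
        rw [hcount g]
        split_ifs with h <;> simp
    _ = ∑ g : G, ∑ k : G, if pPt p (k * g * k⁻¹) = x then F (k * g * k⁻¹) else 0 := by
        refine Finset.sum_congr rfl fun g _ => ?_
        rw [← nsmul_eq_mul, ← Finset.sum_const, Finset.sum_filter]
        refine Finset.sum_congr rfl fun k _ => ?_
        rw [hF g k]
    _ = ∑ k : G, ∑ g : G, if pPt p g = x then F g else 0 := by
        rw [Finset.sum_comm]
        exact Finset.sum_congr rfl fun k _ =>
          Fintype.sum_equiv (MulAut.conj k).toEquiv _ _ fun g => rfl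
    _ = _ := by
        rw [Finset.sum_const, Finset.card_univ, nsmul_eq_mul, Nat.card_eq_fintype_card,
          ← Finset.sum_filter]

open Classical in
theorem sum_pPt_eq {x : G} (hx : ∃ k : ℕ, orderOf x = p ^ k) {H : Subgroup G} [Fintype H]
    (hHx : ∀ h : H, Commute x (h : G)) (hCH : Subgroup.centralizer ({x} : Set G) ≤ H) (F : G → ℂ) :
    ∑ g ∈ Finset.univ.filter (fun g => pPt p g = x), F g =
      ∑ y : H, if IsPRegular p y then F (x * (y : G)) else 0 := by
  rw [← Finset.sum_filter]
  refine (Finset.sum_bij (fun (y : H) _ => x * (y : G)) ?_ ?_ ?_ fun _ _ => rfl).symm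
  · intro y hy
    have hyr : IsPRegular p (y : G) := by
      have := (Finset.mem_filter.1 hy).2
      rwa [IsPRegular, orderOf_submonoid]
    exact Finset.mem_filter.2 ⟨Finset.mem_univ _, pPt_mul_reg hx (hHx y) hyr⟩
  · intro a _ b _ h
    exact Subtype.ext (mul_left_cancel h)
  · intro g hg
    have hg' : pPt p g = x := (Finset.mem_filter.1 hg).2
    have hm : pReg p g ∈ H := hCH (Subgroup.mem_centralizer_iff.2 fun z hz => by
      rw [Set.mem_singleton_iff] at hz
      subst hz
      rw [← hg']
      exact (pPt_commute_pReg g).eq)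
    refine ⟨⟨pReg p g, hm⟩, Finset.mem_filter.2 ⟨Finset.mem_univ _, ?_⟩, ?_⟩
    · show ¬ p ∣ orderOf (⟨pReg p g, hm⟩ : H)
      rw [Subgroup.orderOf_mk]
      exact not_dvd_orderOf_pReg g
    · show x * pReg p g = g
      rw [← hg', pPt_mul_pReg]

variable (hM : IsPModular p M)

open Classical in
include hM in
/-- The rank of the union of the blocks inducing `B`. -/
theorem blockRank_indSet {H : Subgroup G} [Fintype H] (B : Set (IrrCharacter G)) :
    (blockRank p (indSet M H B) : ℂ) =
      ((∑ᶠ b ∈ {b : Set (IrrCharacter H) | IsInducedBlock M H b B}, blockRank p b : ℕ) : ℂ) := by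
  have hfin : {b : Set (IrrCharacter H) | IsInducedBlock M H b B} =
      ↑((indSet M H B).toFinset.image fun η : IrrCharacter H => blockOf M (η : H → ℂ)) := by
    ext b
    simp only [Set.mem_ofPred_eq, Finset.coe_image, Set.coe_toFinset, Set.mem_image]
    constructor
    · intro h
      obtain ⟨η, hη⟩ := nonempty_of_isPBlock hM h.1
      refine ⟨η, ?_, (eq_blockOf_of_mem hM h.1 hη).symm⟩
      show IsInducedBlock M H (blockOf M (η : H → ℂ)) B
      rwa [← eq_blockOf_of_mem hM h.1 hη]
    · rintro ⟨η, hη, rfl⟩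
      exact hη
  rw [hfin, finsum_mem_coe_finset, Nat.cast_sum,
    blockRank_eq_sum_regInner hM (vInt_indSet hM B),
    ← Finset.sum_fiberwise_of_maps_to (g := fun η : IrrCharacter H => blockOf M (η : H → ℂ))
      (t := (indSet M H B).toFinset.image fun η : IrrCharacter H => blockOf M (η : H → ℂ))
      fun η hη => Finset.mem_image_of_mem _ hη]
  refine Finset.sum_congr rfl fun b hb => ?_
  obtain ⟨η, hη, rfl⟩ := Finset.mem_image.1 hb
  rw [blockRank_eq_sum_regInner hM (vInt_indVec hM (isPBlock_blockOf η))]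
  refine Finset.sum_congr ?_ fun _ _ => rfl
  ext ξ
  simp only [Finset.mem_filter, Set.mem_toFinset]
  constructor
  · rintro ⟨-, h⟩
    rw [← h]
    exact self_mem_blockOf hM ξ
  · intro h
    exact ⟨indSet_closed hM B η (Set.mem_toFinset.1 hη) h,
      (eq_blockOf_of_mem hM (isPBlock_blockOf η) h).symm⟩

include hM in
/-- Brauer's count of the characters in a block by subsections. -/
theorem card_block_eq_sum_rank {B : Set (IrrCharacter G)} (hB : IsPBlock M B) (X : Finset G)
    (hX : ∀ x ∈ X, ∃ k : ℕ, orderOf x = p ^ k)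
    (hXrep : ∀ g : G, (∃ k : ℕ, orderOf g = p ^ k) → ∃! x, x ∈ X ∧ IsConj g x) :
    Nat.card B = ∑ x ∈ X, ∑ᶠ b ∈ {b : Set (IrrCharacter (Subgroup.centralizer ({x} : Set G))) |
      IsInducedBlock M (Subgroup.centralizer ({x} : Set G)) b B}, blockRank p b := by
  classical
  have hG : (Nat.card G : ℂ) ≠ 0 := Char.card_cast_ne_zero
  apply Nat.cast_injective (R := ℂ)
  apply mul_left_cancel₀ hG
  set F : G → ℂ := fun g => ∑ χ ∈ B.toFinset, (χ : G → ℂ) g * conj ((χ : G → ℂ) g) with hFdef
  have hF : IsClassFunction G F := fun g k => by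
    simp only [hFdef]
    exact Finset.sum_congr rfl fun χ _ => by rw [χ.2.isClassFunction g k]
  have htot : ∑ g, F g = (Nat.card G : ℂ) * (Nat.card B : ℂ) := by
    simp only [hFdef]
    rw [Finset.sum_comm, Finset.sum_congr rfl (fun (χ : IrrCharacter G) (_ : χ ∈ B.toFinset) => show
      ∑ g, (χ : G → ℂ) g * conj ((χ : G → ℂ) g) = (Nat.card G : ℂ) from ?_), Finset.sum_const,
      nsmul_eq_mul, Set.toFinset_card, Nat.card_eq_fintype_card (α := B), mul_comm]
    have := Char.classInner_irr_self χ.2
    rw [classInner, inv_mul_eq_one₀ Char.card_cast_ne_zero] at this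
    exact this.symm
  rw [← htot, Nat.cast_sum, Finset.mul_sum]
  have hrep : ∀ g : G, ∃! x, x ∈ X ∧ IsConj (pPt p g) x :=
    fun g => hXrep _ (exists_orderOf_pPt g)
  choose r hr hr' using hrep
  rw [← Finset.sum_fiberwise_of_maps_to (g := r) (t := X) fun g _ => (hr g).1]
  refine Finset.sum_congr rfl fun x hx => ?_
  set C : Subgroup G := Subgroup.centralizer ({x} : Set G) with hC
  have hHx : ∀ h : C, Commute x (h : G) := fun h => Subgroup.mem_centralizer_iff.1 h.2 x rfl
  have hfil : (Finset.univ.filter fun g => r g = x) =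
      Finset.univ.filter fun g => IsConj (pPt p g) x := by
    ext g
    simp only [Finset.mem_filter, Finset.mem_univ, true_and]
    exact ⟨fun h => h ▸ (hr g).2, fun h => (hr' g x ⟨hx, h⟩).symm⟩
  rw [← blockRank_indSet hM B, hfil]
  apply mul_left_cancel₀ (Char.card_cast_ne_zero (G := C))
  rw [card_mul_sum_pPt_conj hF x, sum_pPt_eq (hX x hx) hHx le_rfl F, mul_left_comm,
    ← sum_reg_regKer hM (vInt_indSet hM B), finsum_eq_sum_of_fintype]
  congr 1
  refine Finset.sum_congr rfl fun y _ => ?_
  by_cases hy : IsPRegular p y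
  · rw [if_pos hy, pRegularPart_of_reg hy]
    exact sum_block_mul_conj hM (hX x hx) hHx le_rfl hB hy hy
  · rw [if_neg hy, pRegularPart_of_sing hy]

end Cfsg.Lib.Block
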