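import Cfsg.Agent.Lib.Block.AbelianLocal
import Cfsg.Agent.Lib.Block.SectionCount

/-!
# The subsections of a block with abelian defect group and free inertial action

Two pairs below the maximal pair `(P, c)` that are conjugate in `G` are conjugate under the
stabilizer of `(P, c)`.  When that stabilizer acts freely, the nontrivial subsections of the block
correspond to its orbits on `P \ {1}`.
-/

set_option autoImplicit false
set_option linter.unusedSectionVars false
set_option maxHeartbeats 1600000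

namespace Cfsg.Lib.Block

open Cfsg

universe u

noncomputable local instance (priority := high) fintypeSubgroupAbelianSections {A : Type u}
    [Group A] [Fintype A] (H : Subgroup A) : Fintype H := Fintype.ofFinite H

local notation "C[" Q "]" => Subgroup.centralizer (SetLike.coe Q)

variable {p : ℕ} {M : Ideal AlgInt} {G : Type u} [Group G] [Fintype G] [Fact p.Prime]

theorem centralizer_singleton_eq (x : G) :
    Subgroup.centralizer ({x} : Set G) = C[Subgroup.zpowers x] := by
  rw [Subgroup.zpowers_eq_closure, Subgroup.centralizer_closure]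

theorem conj_zpowers_map (g x : G) :
    (Subgroup.zpowers x).map (MulAut.conj g).toMonoidHom = Subgroup.zpowers (g * x * g⁻¹) := by
  rw [MonoidHom.map_zpowers]
  rfl

theorem conjIdx_eq_self_of_mem {Q : Subgroup G} {z : G} (hz : z ∈ C[Q])
    (f : Set (IrrCharacter C[Q])) : conjIdx z ⟨Q, f⟩ = ⟨Q, f⟩ := by
  rw [conjIdx_eq (map_conj_eq_self (Subgroup.centralizer_le_normalizer _ hz))]
  exact Sigma.ext rfl (heq_of_eq (conjSet_of_mem _ hz f))

theorem sigma_zpowers_ext {a x : G} {b : Set (IrrCharacter C[Subgroup.zpowers a])}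
    {b' : Set (IrrCharacter C[Subgroup.zpowers x])} (h : a = x)
    (h2 : (⟨Subgroup.zpowers a, b⟩ : BrauerPairIdx G) = ⟨Subgroup.zpowers x, b'⟩) :
    (⟨a, b⟩ : Σ z : G, Set (IrrCharacter C[Subgroup.zpowers z])) = ⟨x, b'⟩ := by
  subst h
  simpa using h2

theorem blockRank_pullSet {A : Type u} {A' : Type u} [Group A] [Group A'] [Fintype A] [Fintype A']
    (e : A ≃* A') (b : Set (IrrCharacter A')) : blockRank p (pullSet e b) = blockRank p b := by
  have hreg : ∀ a : A, IsPRegular p (e a) ↔ IsPRegular p a := fun a => by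
    rw [IsPRegular, IsPRegular, e.orderOf_eq]
  let L : (A' → ℂ) ≃ₗ[ℂ] (A → ℂ) := LinearEquiv.funCongrLeft ℂ ℂ e.toEquiv
  have hL : ∀ χ : IrrCharacter A', L (pRegularPart p (χ : A' → ℂ)) =
      pRegularPart p (compIrr e χ : A → ℂ) := fun χ => funext fun a => by
    show pRegularPart p (χ : A' → ℂ) (e a) = _
    by_cases h : IsPRegular p a
    · rw [pRegularPart_of_reg h, pRegularPart_of_reg ((hreg a).2 h), compIrr_apply]
    · rw [pRegularPart_of_sing h, pRegularPart_of_sing fun h' => h ((hreg a).1 h')]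
  have himg : (fun χ : IrrCharacter A => pRegularPart p (χ : A → ℂ)) '' pullSet e b =
      (L : (A' → ℂ) →ₗ[ℂ] (A → ℂ)) ''
        ((fun χ : IrrCharacter A' => pRegularPart p (χ : A' → ℂ)) '' b) := by
    ext F
    constructor
    · rintro ⟨χ, hχ, rfl⟩
      refine ⟨_, ⟨compIrr e.symm χ, hχ, rfl⟩, ?_⟩
      rw [LinearEquiv.coe_coe, hL, compIrr_compIrr_symm]
    · rintro ⟨_, ⟨χ, hχ, rfl⟩, rfl⟩
      exact ⟨compIrr e χ, mem_pullSet.2 hχ, (hL χ).symm⟩
  rw [blockRank, blockRank, himg, ← Submodule.map_span]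
  exact LinearEquiv.finrank_map_eq L _

theorem blockRank_conjSet {x : G} {K K' : Subgroup G} (h : ConjMaps x K K')
    (f : Set (IrrCharacter K)) : blockRank p (conjSet h f) = blockRank p f :=
  blockRank_pullSet _ f

variable (hM : IsPModular p M) {B : Set (IrrCharacter G)} {P : Subgroup G}
  {c : Set (IrrCharacter C[P])}

include hM in
/-- Conjugate pairs below an abelian maximal pair are conjugate under its stabilizer. -/
theorem exists_conj_factor (hmax : IsMaximalBrauerPair p M B P c)
    (hab : ∀ x ∈ P, ∀ y ∈ P, x * y = y * x) {Q Q' : Subgroup G} {f : Set (IrrCharacter C[Q])}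
    {f' : Set (IrrCharacter C[Q'])} (hle : SubpairLE p M Q f P c)
    (hle' : SubpairLE p M Q' f' P c) {g : G} (hg : conjIdx g ⟨Q, f⟩ = ⟨Q', f'⟩) :
    ∃ y w : G, conjIdx y ⟨P, c⟩ = ⟨P, c⟩ ∧ w ∈ C[Q] ∧ g = y * w := by
  classical
  have hPe := hmax.1.1
  have hQP := subpairLE_le hle
  have hQP' := subpairLE_le hle'
  have hPC := le_centralizer_of_abelian hab hQP
  have hPC' := le_centralizer_of_abelian hab hQP'
  have hQf := isBrauerPair_of_le hle hPe
  have hx : conjIdx g⁻¹ ⟨Q', f'⟩ = ⟨Q, f⟩ := by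
    rw [← hg, conjIdx_mul, inv_mul_cancel, conjIdx_one]
  have hQx : Q'.map (MulAut.conj g⁻¹).toMonoidHom = Q := congrArg Sigma.fst hx
  obtain ⟨n, hnP, hn⟩ := normalSubpair_below hM hPe hle' hQP' le_rfl
    (hPC'.trans (Subgroup.centralizer_le_normalizer _))
  have hge : n = c := subpair_unique hM hPe hnP Relation.ReflTransGen.refl
  subst hge
  obtain ⟨e', he'⟩ : ∃ e' : Set (IrrCharacter C[P.map (MulAut.conj g⁻¹).toMonoidHom]),
      conjIdx g⁻¹ ⟨P, n⟩ = ⟨P.map (MulAut.conj g⁻¹).toMonoidHom, e'⟩ := ⟨_, rfl⟩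
  have hn' : IsNormalSubpair p M Q f (P.map (MulAut.conj g⁻¹).toMonoidHom) e' := by
    have h := normalSubpairRel_conjIdx hM g⁻¹ (a := ⟨Q', f'⟩) (b := ⟨P, n⟩) hn
    rw [hx, he'] at h
    exact h
  have hUL : P.map (MulAut.conj g⁻¹).toMonoidHom ≤ C[Q] := by
    have h := Subgroup.map_mono (f := (MulAut.conj g⁻¹).toMonoidHom) hPC'
    rwa [map_centralizer_conj, hQx] at h
  have hloc := isLocalBlock_centralizer hM hQf.2
  have hbig : p ^ blockDefect p f ≤ Nat.card ↥(P ⊓ C[Q]) := by
    obtain ⟨z, -, hz⟩ := exists_card_inf_eq_defect hM hloc hmax hle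
    rw [← hz, inf_eq_left.2 hPC]
    exact Subgroup.card_le_of_le inf_le_left
  obtain ⟨l, hl, hrel⟩ := exists_conj_in_local hM hmax hloc (hQP.trans hPC) hle hbig hn' hUL
  rw [← he', conjIdx_mul] at hrel
  have hfix : conjIdx (l * g⁻¹) ⟨P, n⟩ = ⟨P, n⟩ := by
    have hcard : P.map (MulAut.conj (l * g⁻¹)).toMonoidHom = P :=
      Subgroup.eq_of_le_of_card_ge (le_of_rel hrel)
        (by rw [Subgroup.card_map_of_injective (MulAut.conj (l * g⁻¹)).injective])
    rw [conjIdx_eq hcard] at hrel ⊢
    exact Sigma.ext rfl (heq_of_eq (subpair_unique hM hPe hrel Relation.ReflTransGen.refl))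
  refine ⟨(l * g⁻¹)⁻¹, l, ?_, hl, by group⟩
  conv_lhs => rw [← hfix]
  rw [conjIdx_mul, inv_mul_cancel, conjIdx_one]

include hM in
/-- Pairs at a cyclic subgroup are the blocks of the centralizer inducing the block. -/
theorem isBrauerPairOf_zpowers_iff (hB : IsPBlock M B) {x : G} (hx : ∃ k : ℕ, orderOf x = p ^ k)
    {b : Set (IrrCharacter C[Subgroup.zpowers x])} (hb : IsPBlock M b) :
    IsBrauerPairOf p M B (Subgroup.zpowers x) b ↔ IsInducedBlock M C[Subgroup.zpowers x] b B := by
  obtain ⟨k, hk⟩ := hx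
  refine isBrauerPairOf_iff_induced hM
    (IsPGroup.of_card (n := k) (by rw [Nat.card_zpowers, hk])) le_rfl ?_
    (Subgroup.centralizer_le_normalizer _) (fun v => invOn_self v) hb hb (fun _ => rfl) hB
  refine le_centralizer_of_abelian (fun a ha a' ha' => ?_) le_rfl
  obtain ⟨i, rfl⟩ := Subgroup.mem_zpowers_iff.1 ha
  obtain ⟨j, rfl⟩ := Subgroup.mem_zpowers_iff.1 ha'
  exact ((Commute.refl x).zpow_zpow i j).eq

include hM in
/-- The rank of the block as the term of the identity in the subsection count. -/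
theorem blockRank_indSet_one (hB : IsPBlock M B) :
    blockRank p (indSet M (Subgroup.centralizer ({(1 : G)} : Set G)) B) = blockRank p B := by
  classical
  obtain ⟨C, hC⟩ : ∃ C : Subgroup G, C = Subgroup.centralizer ({(1 : G)} : Set G) := ⟨_, rfl⟩
  rw [← hC]
  have htop : ∀ g : G, g ∈ C := fun g => by
    rw [hC]; exact Subgroup.mem_centralizer_singleton_iff.2 (by simp)
  let φ : C ≃ G := ⟨fun x => (x : G), fun g => ⟨g, htop g⟩, fun _ => rfl, fun _ => rfl⟩
  have hcard : Nat.card C = Nat.card G := Nat.card_congr φ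
  have hu : ∃ k : ℕ, orderOf (1 : G) = p ^ k := ⟨0, by simp⟩
  have key := sum_reg_regKer hM (H := C) (vInt_indSet hM (H := C) B)
  rw [finsum_eq_sum_of_fintype, hcard] at key
  have h2 := card_mul_blockRank hM (vInt_indVec hM hB)
  have e : ∑ y : C, pRegularPart p (fun y : C => regKer (indSet M C B) y y) y =
      ∑ x : G, ∑ᶠ χ ∈ B, pRegularPart p (χ : G → ℂ) x * (starRingEnd ℂ) ((χ : G → ℂ) x) := by
    refine Fintype.sum_equiv φ _ _ fun y => ?_
    rw [finsum_mem_eq_toFinset_sum]
    by_cases hy : IsPRegular p y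
    · have hy' : IsPRegular p (y : G) := by rwa [IsPRegular, orderOf_submonoid]
      rw [pRegularPart_of_reg hy, ← sum_block_mul_conj hM hu (fun h => Commute.one_left _)
        (fun g _ => htop g) hB hy hy]
      refine Finset.sum_congr rfl fun χ _ => ?_
      rw [one_mul, show φ y = (y : G) from rfl, pRegularPart_of_reg hy']
    · have hy' : ¬ IsPRegular p (y : G) := by rwa [IsPRegular, orderOf_submonoid]
      rw [pRegularPart_of_sing hy, Finset.sum_eq_zero fun χ _ => ?_]
      rw [show φ y = (y : G) from rfl, pRegularPart_of_sing hy', zero_mul]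
  rw [e, ← h2] at key
  exact_mod_cast (mul_left_cancel₀ Char.card_cast_ne_zero key).symm

variable (hB : IsPBlock M B) (hD : IsDefectGroup p M B P)
  (hab : ∀ x ∈ P, ∀ y ∈ P, x * y = y * x) (hc : IsInducedBlock M C[P] c B)
  {T : Subgroup G} (hT : ∀ g : G, g ∈ T ↔ g ∈ Subgroup.normalizer (P : Set G) ∧
    StabilizesBlock C[P] c g)

include hT in
theorem mem_stab_iff {g : G} : g ∈ T ↔ conjIdx g ⟨P, c⟩ = ⟨P, c⟩ := by
  rw [hT, conjIdx_eq_self_iff]

include hT in
theorem centralizer_le_stab : C[P] ≤ T := fun _ hg =>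
  (mem_stab_iff hT).2 (conjIdx_eq_self_of_mem hg c)

include hM hB hD hab hc hT in
/-- The nontrivial subsections are the free orbits of the stabilizer of the maximal pair. -/
theorem exists_subsection_orbits
    (hfree : ∀ g ∈ T, ∀ x ∈ P, x ≠ 1 → g * x * g⁻¹ = x → g ∈ C[P]) :
    ∃ N : ℕ, N * (C[P]).relIndex T = Nat.card P - 1 ∧ blockRank p B + N ≤ Nat.card B ∧
      ((∀ u ∈ P, u ≠ 1 → ∀ f : Set (IrrCharacter C[Subgroup.zpowers u]),
          SubpairLE p M (Subgroup.zpowers u) f P c → blockRank p f = 1) →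
        Nat.card B = blockRank p B + N) := by
  classical
  have hPp := isPGroup_defectGroup hM hD
  have hmax := maximal_of_root hM hB hD hab hc
  have hPe := hmax.1.1
  have horder : ∀ u ∈ P, ∃ k : ℕ, orderOf u = p ^ k := fun u hu => by
    obtain ⟨k, hk⟩ := IsPGroup.iff_orderOf.1 hPp ⟨u, hu⟩
    exact ⟨k, by rwa [Subgroup.orderOf_mk] at hk⟩
  -- representatives of the classes of `p`-elements
  let r : G → G := fun g =>
    if IsConj g 1 then 1 else Quotient.out (s := IsConj.setoid G) (Quotient.mk _ g)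
  have hr : ∀ g : G, IsConj g (r g) := fun g => by
    simp only [r]
    split_ifs with h
    · exact h
    · exact (Quotient.mk_out (s := IsConj.setoid G) g).symm
  have hr' : ∀ g h : G, IsConj g h → r g = r h := fun g h hgh => by
    simp only [r]
    have he : IsConj g 1 ↔ IsConj h 1 := ⟨fun h' => hgh.symm.trans h', fun h' => hgh.trans h'⟩
    have hq : Quotient.mk (IsConj.setoid G) g = Quotient.mk (IsConj.setoid G) h :=
      Quotient.sound hgh
    rw [hq]
    exact if_congr he rfl rfl
  have hr1 : r 1 = 1 := by simp [r]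
  set X : Finset G :=
    (Finset.univ.filter fun g : G => ∃ k : ℕ, orderOf g = p ^ k).image r with hXdef
  have hord : ∀ g h : G, IsConj g h → orderOf g = orderOf h := fun g h hgh => by
    obtain ⟨w, rfl⟩ := isConj_iff.1 hgh
    exact ((MulAut.conj w).orderOf_eq g).symm
  have hXp : ∀ x ∈ X, ∃ k : ℕ, orderOf x = p ^ k := fun x hx => by
    obtain ⟨g, hg, rfl⟩ := Finset.mem_image.1 hx
    obtain ⟨k, hk⟩ := (Finset.mem_filter.1 hg).2
    exact ⟨k, by rw [← hord g _ (hr g), hk]⟩
  have hrX : ∀ x ∈ X, r x = x := fun x hx => by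
    obtain ⟨g, -, rfl⟩ := Finset.mem_image.1 hx
    exact (hr' g _ (hr g)).symm
  have hXrep : ∀ g : G, (∃ k : ℕ, orderOf g = p ^ k) → ∃! x, x ∈ X ∧ IsConj g x := fun g hg =>
    ⟨r g, ⟨Finset.mem_image.2 ⟨g, Finset.mem_filter.2 ⟨Finset.mem_univ _, hg⟩, rfl⟩, hr g⟩,
      fun x ⟨hx, hgx⟩ => by rw [← hrX x hx]; exact (hr' g x hgx).symm⟩
  have h1X : (1 : G) ∈ X :=
    Finset.mem_image.2 ⟨1, Finset.mem_filter.2 ⟨Finset.mem_univ _, ⟨0, by simp⟩⟩, hr1⟩
  -- the subsections
  let S : ∀ x : G, Set (Set (IrrCharacter C[Subgroup.zpowers x])) := fun x =>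
    {b | IsInducedBlock M C[Subgroup.zpowers x] b B}
  have hbridge : ∀ x : G,
      ∑ᶠ b ∈ {b : Set (IrrCharacter (Subgroup.centralizer ({x} : Set G))) |
          IsInducedBlock M (Subgroup.centralizer ({x} : Set G)) b B}, blockRank p b =
        ∑ b ∈ (S x).toFinset, blockRank p b := by
    intro x
    rw [← finsum_mem_eq_toFinset_sum]
    suffices ∀ H : Subgroup G, H = C[Subgroup.zpowers x] →
        ∑ᶠ b ∈ {b : Set (IrrCharacter H) | IsInducedBlock M H b B}, blockRank p b =
          ∑ᶠ b ∈ S x, blockRank p b from this _ (centralizer_singleton_eq x)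
    intro H hH
    subst hH
    rfl
  have htot := card_block_eq_sum_rank hM hB X hXp hXrep
  rw [Finset.sum_congr rfl (fun x _ => hbridge x), ← Finset.add_sum_erase _ _ h1X] at htot
  have hone : ∑ b ∈ (S 1).toFinset, blockRank p b = blockRank p B := by
    rw [← hbridge 1]
    exact_mod_cast (blockRank_indSet hM (H := Subgroup.centralizer ({(1 : G)} : Set G)) B).symm.trans
      (congrArg (Nat.cast (R := ℂ)) (blockRank_indSet_one hM hB))
  rw [hone] at htot
  set Pairs := (X.erase 1).sigma fun x => (S x).toFinset with hPairs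
  refine ⟨Pairs.card, ?_, ?_, fun hrk => ?_⟩
  · -- the orbits
    let U := {u : G // u ∈ P ∧ u ≠ 1}
    have hex : ∀ u : U, ∃ f : Set (IrrCharacter C[Subgroup.zpowers (u : G)]),
        IsPBlock M f ∧ SubpairLE p M (Subgroup.zpowers (u : G)) f P c := fun u =>
      exists_subpair hM hPe (Subgroup.zpowers_le.2 u.2.1)
    choose fu hfu hfle using hex
    have hk : ∀ u : U, ∃ k : G, k * (u : G) * k⁻¹ = r (u : G) := fun u => isConj_iff.1 (hr _)
    choose k hk using hk
    have hb : ∀ u : U, ∃ b : Set (IrrCharacter C[Subgroup.zpowers (r (u : G))]),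
        conjIdx (k u) ⟨Subgroup.zpowers (u : G), fu u⟩ = ⟨Subgroup.zpowers (r (u : G)), b⟩ :=
      fun u => ⟨_, conjIdx_eq (by rw [conj_zpowers_map, hk]) _⟩
    choose bu hbu using hb
    let π : U → (Σ x : G, Set (IrrCharacter C[Subgroup.zpowers x])) := fun u =>
      ⟨r (u : G), bu u⟩
    have hπS : ∀ u : U, π u ∈ Pairs := by
      intro u
      refine Finset.mem_sigma.2 ⟨Finset.mem_erase.2 ⟨fun h => u.2.2 ?_, ?_⟩, ?_⟩
      · have := hk u
        rw [show r (u : G) = 1 from h, conj_eq_one_iff] at this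
        exact this
      · exact Finset.mem_image.2 ⟨_, Finset.mem_filter.2 ⟨Finset.mem_univ _, horder _ u.2.1⟩, rfl⟩
      · rw [Set.mem_toFinset]
        show IsInducedBlock M _ (bu u) B
        have h1 : IsBrauerPairOf p M B (Subgroup.zpowers (u : G)) (fu u) :=
          (isBrauerPairOf_iff_of_le hM (hfle u) B).1 hmax.1
        have h2 := isBrauerPairOf_conjIdx hM (k u) (a := ⟨Subgroup.zpowers (u : G), fu u⟩) h1
        rw [hbu u] at h2
        refine (isBrauerPairOf_zpowers_iff hM hB ⟨(horder _ u.2.1).choose, ?_⟩ h2.1.2).1 h2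
        rw [← hord _ _ (hr (u : G))]
        exact (horder _ u.2.1).choose_spec
    have hfib : ∀ u v : U, π v = π u ↔ ∃ y ∈ T, y * (u : G) * y⁻¹ = (v : G) := by
      intro u v
      constructor
      · intro h
        have hx : r (v : G) = r (u : G) := congrArg Sigma.fst h
        have hg : conjIdx ((k v)⁻¹ * k u) ⟨Subgroup.zpowers (u : G), fu u⟩ =
            ⟨Subgroup.zpowers (v : G), fu v⟩ := by
          rw [← conjIdx_mul, hbu u]
          have h' : (⟨Subgroup.zpowers (r (u : G)), bu u⟩ : BrauerPairIdx G) =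
              ⟨Subgroup.zpowers (r (v : G)), bu v⟩ :=
            congrArg (fun q : Σ x : G, Set (IrrCharacter C[Subgroup.zpowers x]) =>
              (⟨Subgroup.zpowers q.1, q.2⟩ : BrauerPairIdx G)) h.symm
          rw [h', ← hbu v, conjIdx_mul, inv_mul_cancel, conjIdx_one]
        obtain ⟨y, w, hy, hw, hyw⟩ := exists_conj_factor hM hmax hab (hfle u) (hfle v) hg
        refine ⟨y, (mem_stab_iff hT).2 hy, ?_⟩
        have hwu : w * (u : G) * w⁻¹ = (u : G) := by
          rw [← Subgroup.mem_centralizer_iff.1 hw (u : G) (Subgroup.mem_zpowers _),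
            mul_inv_cancel_right]
        have e1 : ((k v)⁻¹ * k u) * (u : G) * ((k v)⁻¹ * k u)⁻¹ = (v : G) := by
          rw [show ((k v)⁻¹ * k u) * (u : G) * ((k v)⁻¹ * k u)⁻¹ =
            (k v)⁻¹ * (k u * (u : G) * (k u)⁻¹) * k v by group, hk u, ← hx, ← hk v]
          group
        rw [← e1, hyw, show y * w * (u : G) * (y * w)⁻¹ = y * (w * (u : G) * w⁻¹) * y⁻¹ by group,
          hwu]
      · rintro ⟨y, hy, hyu⟩
        have hx : r (v : G) = r (u : G) := (hr' _ _ (isConj_iff.2 ⟨y, hyu⟩)).symm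
        have h1 : conjIdx y ⟨Subgroup.zpowers (u : G), fu u⟩ =
            ⟨Subgroup.zpowers (v : G), fu v⟩ := by
          have hmap : (Subgroup.zpowers (u : G)).map (MulAut.conj y).toMonoidHom =
              Subgroup.zpowers (v : G) := by rw [conj_zpowers_map, hyu]
          rw [conjIdx_eq hmap]
          refine Sigma.ext rfl (heq_of_eq (subpair_unique hM hPe ?_ (hfle v)))
          have h := rel_conjIdx hM y (a := ⟨Subgroup.zpowers (u : G), fu u⟩) (b := ⟨P, c⟩) (hfle u)
          rw [(mem_stab_iff hT).1 hy, conjIdx_eq hmap] at h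
          exact h
        have hz : k v * y * (k u)⁻¹ ∈ C[Subgroup.zpowers (r (u : G))] := by
          rw [← centralizer_singleton_eq, Subgroup.mem_centralizer_singleton_iff]
          have e : k v * y * (k u)⁻¹ * r (u : G) = r (v : G) * (k v * y * (k u)⁻¹) := by
            rw [← hk u, ← hk v, ← hyu]
            group
          rwa [hx] at e
        have h2 : (⟨Subgroup.zpowers (r (v : G)), bu v⟩ : BrauerPairIdx G) =
            ⟨Subgroup.zpowers (r (u : G)), bu u⟩ := by
          rw [← hbu v, ← h1, conjIdx_mul,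
            show k v * y = k v * y * (k u)⁻¹ * k u by group, ← conjIdx_mul, hbu u,
            conjIdx_eq_self_of_mem hz]
        exact sigma_zpowers_ext hx h2
    have hcardfib : ∀ q ∈ Pairs,
        ((Finset.univ : Finset U).filter fun v => π v = q).card = (C[P]).relIndex T := by
      intro q hq
      obtain ⟨hx, hbq⟩ := Finset.mem_sigma.1 hq
      obtain ⟨x, b⟩ := q
      rw [Set.mem_toFinset] at hbq
      obtain ⟨hx1, hxX⟩ := Finset.mem_erase.1 hx
      have hbr := (isBrauerPairOf_zpowers_iff hM hB (hXp x hxX) hbq.1).2 hbq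
      obtain ⟨g, hg⟩ := exists_conj_le_maximal hM hmax hbr
      have hu : g * x * g⁻¹ ∈ P := le_of_rel hg
        ⟨x, Subgroup.mem_zpowers x, rfl⟩
      let u : U := ⟨g * x * g⁻¹, hu, fun h => hx1 (conj_eq_one_iff.1 h)⟩
      have hru : r (u : G) = x := by
        rw [← hrX x hxX]; exact (hr' _ _ (isConj_iff.2 ⟨g, rfl⟩)).symm
      have hπu : π u = ⟨x, b⟩ := by
        have hmap : (Subgroup.zpowers x).map (MulAut.conj g).toMonoidHom =
            Subgroup.zpowers (u : G) := conj_zpowers_map g x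
        have h1 : conjIdx g ⟨Subgroup.zpowers x, b⟩ = ⟨Subgroup.zpowers (u : G), fu u⟩ := by
          rw [conjIdx_eq hmap] at hg ⊢
          exact Sigma.ext rfl (heq_of_eq (subpair_unique hM hPe hg (hfle u)))
        have hz : k u * g ∈ C[Subgroup.zpowers x] := by
          rw [← centralizer_singleton_eq, Subgroup.mem_centralizer_singleton_iff]
          have e : k u * g * x = r (u : G) * (k u * g) := by
            rw [← hk u]
            show k u * g * x = k u * (g * x * g⁻¹) * (k u)⁻¹ * (k u * g)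
            group
          rwa [hru] at e
        have h2 : (⟨Subgroup.zpowers (r (u : G)), bu u⟩ : BrauerPairIdx G) =
            ⟨Subgroup.zpowers x, b⟩ := by
          rw [← hbu u, ← h1, conjIdx_mul, conjIdx_eq_self_of_mem hz]
        exact sigma_zpowers_ext hru h2
      rw [← Fintype.card_subtype, ← Nat.card_eq_fintype_card, Subgroup.relIndex,
        ← hπu, Subgroup.index]
      have hmk : ∀ y : T, (y : G) * (u : G) * (y : G)⁻¹ ∈ P ∧
          (y : G) * (u : G) * (y : G)⁻¹ ≠ 1 := fun y =>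
        ⟨(Subgroup.mem_normalizer_iff.1 ((hT _).1 y.2).1 _).1 u.2.1,
          fun h => u.2.2 (conj_eq_one_iff.1 h)⟩
      let F : T → {v : U // π v = π u} := fun y =>
        ⟨⟨(y : G) * (u : G) * (y : G)⁻¹, hmk y⟩, (hfib u _).2 ⟨y, y.2, rfl⟩⟩
      have hF : ∀ a b : T, F a = F b ↔ a⁻¹ * b ∈ (C[P]).subgroupOf T := by
        intro a b
        rw [Subgroup.mem_subgroupOf, Subtype.ext_iff, Subtype.ext_iff]
        constructor
        · intro h
          have h' : (a : G) * (u : G) * (a : G)⁻¹ = (b : G) * (u : G) * (b : G)⁻¹ := h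
          refine hfree _ (a⁻¹ * b).2 _ u.2.1 u.2.2 ?_
          push_cast
          calc (a : G)⁻¹ * (b : G) * (u : G) * ((a : G)⁻¹ * (b : G))⁻¹
              = (a : G)⁻¹ * ((b : G) * (u : G) * (b : G)⁻¹) * (a : G) := by group
            _ = _ := by rw [← h']; group
        · intro h
          have h' : ((a : G)⁻¹ * (b : G)) * (u : G) * ((a : G)⁻¹ * (b : G))⁻¹ = (u : G) := by
            have h0 : (u : G) * ((a : G)⁻¹ * (b : G)) = (a : G)⁻¹ * (b : G) * (u : G) :=
              Subgroup.mem_centralizer_iff.1 h (u : G) u.2.1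
            rw [← h0, mul_inv_cancel_right]
          show (a : G) * (u : G) * (a : G)⁻¹ = (b : G) * (u : G) * (b : G)⁻¹
          conv_lhs => rw [← h']
          group
      refine (Nat.card_congr (Equiv.ofBijective
        (Quotient.lift F fun a b h => (hF a b).2 (QuotientGroup.leftRel_apply.1 h)) ⟨?_, ?_⟩)).symm
      · intro a b
        induction a using Quotient.inductionOn with
        | h a =>
          induction b using Quotient.inductionOn with
          | h b => exact fun h => Quotient.sound (QuotientGroup.leftRel_apply.2 ((hF a b).1 h))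
      · rintro ⟨v, hv⟩
        obtain ⟨y, hy, hyu⟩ := (hfib u v).1 hv
        exact ⟨Quotient.mk _ ⟨y, hy⟩, Subtype.ext (Subtype.ext hyu)⟩
    have hU : Nat.card U = Nat.card P - 1 := by
      have e : Nat.card U + 1 = Nat.card P := by
        have e1 : U ≃ {x : P // x ≠ 1} :=
          ⟨fun u => ⟨⟨u.1, u.2.1⟩, fun h => u.2.2 (congrArg Subtype.val h)⟩,
            fun x => ⟨x.1.1, x.1.2, fun h => x.2 (Subtype.ext h)⟩, fun _ => rfl, fun _ => rfl⟩
        rw [Nat.card_congr e1, Nat.card_eq_fintype_card, Nat.card_eq_fintype_card,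
          Fintype.card_subtype_compl, Fintype.card_subtype_eq]
        exact Nat.sub_add_cancel Fintype.card_pos
      omega
    rw [← hU, Nat.card_eq_fintype_card, ← Finset.card_univ,
      Finset.card_eq_sum_card_fiberwise (t := Pairs) (fun u _ => hπS u),
      Finset.sum_congr rfl hcardfib, Finset.sum_const, smul_eq_mul]
  · rw [htot, hPairs, Finset.card_sigma]
    refine Nat.add_le_add_left (Finset.sum_le_sum fun x _ => ?_) _
    rw [Finset.card_eq_sum_ones]
    refine Finset.sum_le_sum fun b hb => ?_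
    rw [Set.mem_toFinset] at hb
    exact blockRank_pos hM hb.1
  · rw [htot, hPairs, Finset.card_sigma]
    congr 1
    refine Finset.sum_congr rfl fun x hx => ?_
    rw [Finset.card_eq_sum_ones]
    refine Finset.sum_congr rfl fun b hb => ?_
    rw [Set.mem_toFinset] at hb
    obtain ⟨hx1, hxX⟩ := Finset.mem_erase.1 hx
    have hbr := (isBrauerPairOf_zpowers_iff hM hB (hXp x hxX) hb.1).2 hb
    obtain ⟨g, hg⟩ := exists_conj_le_maximal hM hmax hbr
    rw [conjIdx_eq (conj_zpowers_map g x)] at hg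
    have h1 := hrk (g * x * g⁻¹) (le_of_rel hg (Subgroup.mem_zpowers _))
      (fun h => hx1 (conj_eq_one_iff.1 h)) _ hg
    rwa [blockRank_conjSet] at h1

end Cfsg.Lib.Block
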