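import Cfsg.Agent.Lib.Block.PrincipalFree

/-!
# Generalized characters of abelian groups of absolute value one outside a subgroup

Outside a proper subgroup such a character is a sign times a linear character.
-/

set_option autoImplicit false
set_option linter.unusedSectionVars false
set_option maxHeartbeats 800000

namespace Cfsg.Lib.Block

open Cfsg
open scoped ComplexConjugate

universe u

noncomputable local instance (priority := high) fintypeSubgroupAbelianUnit {A : Type u}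
    [Group A] [Fintype A] (H : Subgroup A) : Fintype H := Fintype.ofFinite H

section Hom

variable {A : Type u} [Group A] [Fintype A]

theorem conj_hom_mul_self (l : A →* ℂˣ) (x : A) : conj (l x : ℂ) * (l x : ℂ) = 1 := by
  have h : ((l x : ℂˣ) : ℂ) ^ orderOf x = 1 := by
    rw [← Units.val_pow_eq_pow_val, ← map_pow, pow_orderOf_eq_one, map_one, Units.val_one]
  rw [mul_comm]
  exact conj_mul_self_of_pow_eq_one (orderOf_pos x).ne' h

theorem int_sq_sum_one {ι : Type*} [Fintype ι] [DecidableEq ι] (a : ι → ℤ)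
    (h : ∑ i, a i ^ 2 = 1) : ∃ i₀, (a i₀ = 1 ∨ a i₀ = -1) ∧ ∀ i, i ≠ i₀ → a i = 0 := by
  obtain ⟨i₀, -, hi₀⟩ := Finset.exists_ne_zero_of_sum_ne_zero (s := Finset.univ)
    (f := fun i => a i ^ 2) (by rw [h]; norm_num)
  have hs := Finset.add_sum_erase Finset.univ (fun i => a i ^ 2) (Finset.mem_univ i₀)
  have hpos : 1 ≤ a i₀ ^ 2 := by
    have := sq_nonneg (a i₀)
    omega
  have hrest : 0 ≤ ∑ i ∈ Finset.univ.erase i₀, a i ^ 2 :=
    Finset.sum_nonneg fun i _ => sq_nonneg _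
  refine ⟨i₀, sq_eq_one_iff.1 (by omega), fun i hi => ?_⟩
  have h0 := (Finset.sum_eq_zero_iff_of_nonneg (fun i _ => sq_nonneg (a i))).1
    (show ∑ i ∈ Finset.univ.erase i₀, a i ^ 2 = 0 by omega) i
    (Finset.mem_erase.2 ⟨hi, Finset.mem_univ _⟩)
  exact pow_eq_zero_iff (n := 2) two_ne_zero |>.1 h0

open Classical in
/-- Parseval for an integral combination of the linear characters. -/
theorem sum_hom_comb_mul_conj (hc : ∀ a b : A, a * b = b * a) (a : (A →* ℂˣ) → ℤ) :
    ∑ x : A, (∑ μ : A →* ℂˣ, (a μ : ℂ) * (μ x : ℂ)) *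
      conj (∑ μ : A →* ℂˣ, (a μ : ℂ) * (μ x : ℂ)) =
      (Nat.card A : ℂ) * ((∑ μ, a μ ^ 2 : ℤ) : ℂ) := by
  simp only [map_sum, map_mul, map_intCast, Finset.sum_mul_sum]
  rw [Finset.sum_comm, Int.cast_sum, Finset.mul_sum]
  refine Finset.sum_congr rfl fun μ _ => ?_
  rw [Finset.sum_comm, Finset.sum_eq_single μ]
  · rw [Finset.sum_congr rfl fun x _ => show (a μ : ℂ) * (μ x : ℂ) * ((a μ : ℂ) * conj (μ x : ℂ)) =
      (a μ : ℂ) ^ 2 * ((μ x : ℂ) * conj (μ x : ℂ)) by ring, ← Finset.mul_sum, hom_orth hc, if_pos rfl]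
    push_cast
    ring
  · intro ν _ hν
    rw [Finset.sum_congr rfl fun x _ => show (a μ : ℂ) * (μ x : ℂ) * ((a ν : ℂ) * conj (ν x : ℂ)) =
      (a μ : ℂ) * (a ν : ℂ) * ((μ x : ℂ) * conj (ν x : ℂ)) by ring, ← Finset.mul_sum, hom_orth hc,
      if_neg (Ne.symm hν), mul_zero]
  · simp

open Classical in
/-- An integral combination of linear characters of absolute value one off the identity. -/
theorem exists_sign_of_unit (hc : ∀ a b : A, a * b = b * a) (hA : 1 < Nat.card A)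
    (a : (A →* ℂˣ) → ℤ)
    (h : ∀ x : A, x ≠ 1 → (∑ μ : A →* ℂˣ, (a μ : ℂ) * (μ x : ℂ)) *
      conj (∑ μ : A →* ℂˣ, (a μ : ℂ) * (μ x : ℂ)) = 1) :
    ∃ (ε : ℤ) (μ₀ : A →* ℂˣ), (ε = 1 ∨ ε = -1) ∧
      ∀ x : A, x ≠ 1 → ∑ μ : A →* ℂˣ, (a μ : ℂ) * (μ x : ℂ) = (ε : ℂ) * (μ₀ x : ℂ) := by
  obtain ⟨n, hn⟩ : ∃ n : ℕ, n = Nat.card A := ⟨_, rfl⟩
  have hcardHom : (Fintype.card (A →* ℂˣ) : ℤ) = n := by
    letI : CommGroup A := { (inferInstance : Group A) with mul_comm := hc }
    rw [hn, ← Nat.card_eq_fintype_card, Char.card_monoidHom_units]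
  -- shift the value at the identity into the central window
  obtain ⟨m, hm⟩ : ∃ m : ℤ, 2 * |∑ μ, a μ + m * n| ≤ n := by
    have hn0 : (0 : ℤ) < n := by exact_mod_cast (by omega : 0 < n)
    obtain ⟨s, hs⟩ : ∃ s, s = ∑ μ, a μ := ⟨_, rfl⟩
    rw [← hs]
    have h1 := Int.emod_add_mul_ediv s n
    have h2 := Int.emod_nonneg s hn0.ne'
    have h3 := Int.emod_lt_of_pos s hn0
    by_cases hlt : 2 * (s % n) ≤ n
    · refine ⟨-(s / n), ?_⟩
      rw [show s + -(s / n) * n = s % n by linarith, abs_of_nonneg h2]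
      exact hlt
    · refine ⟨-(s / n) - 1, ?_⟩
      rw [show s + (-(s / n) - 1) * n = s % n - n by linarith, abs_of_nonpos (by linarith)]
      linarith
  set b : (A →* ℂˣ) → ℤ := fun μ => a μ + m with hb
  have hval : ∀ x : A, x ≠ 1 → ∑ μ : A →* ℂˣ, (b μ : ℂ) * (μ x : ℂ) =
      ∑ μ : A →* ℂˣ, (a μ : ℂ) * (μ x : ℂ) := fun x hx => by
    simp only [hb, Int.cast_add, add_mul, Finset.sum_add_distrib, ← Finset.mul_sum,
      hom_sum_eq_zero hc hx, mul_zero, add_zero]
  have hsb : ∑ μ, b μ = ∑ μ, a μ + m * n := by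
    simp only [hb, Finset.sum_add_distrib, Finset.sum_const, Finset.card_univ, nsmul_eq_mul]
    rw [hcardHom]; ring
  have hpar : (∑ μ, b μ) ^ 2 + ((n : ℤ) - 1) = (n : ℤ) * ∑ μ, b μ ^ 2 := by
    apply Int.cast_injective (α := ℂ)
    have e := sum_hom_comb_mul_conj hc b
    have e1 : ∑ x ∈ Finset.univ.erase (1 : A), (∑ μ : A →* ℂˣ, (b μ : ℂ) * (μ x : ℂ)) *
        conj (∑ μ : A →* ℂˣ, (b μ : ℂ) * (μ x : ℂ)) = ∑ _x ∈ Finset.univ.erase (1 : A), (1 : ℂ) :=
      Finset.sum_congr rfl fun x hx => by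
        rw [hval x (Finset.mem_erase.1 hx).1, h x (Finset.mem_erase.1 hx).1]
    rw [← Finset.add_sum_erase _ _ (Finset.mem_univ (1 : A)), e1,
      Finset.sum_const, Finset.card_erase_of_mem (Finset.mem_univ _), Finset.card_univ,
      nsmul_eq_mul, mul_one, ← Nat.card_eq_fintype_card, ← hn,
      Nat.cast_sub (show 1 ≤ n by omega)] at e
    simp only [map_one, Units.val_one, mul_one, map_sum, map_intCast] at e
    push_cast at e ⊢
    linear_combination e
  have habs : |∑ μ, b μ| ≤ ∑ μ, b μ ^ 2 :=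
    (Finset.abs_sum_le_sum_abs _ _).trans (Finset.sum_le_sum fun μ _ =>
      (Int.le_self_sq _).trans_eq (sq_abs _))
  rw [← hsb] at hm
  obtain ⟨s, hs⟩ : ∃ s, s = |∑ μ, b μ| := ⟨_, rfl⟩
  rw [← hs] at hm habs
  rw [← sq_abs, ← hs] at hpar
  have hn2 : (2 : ℤ) ≤ n := by exact_mod_cast (by omega : 2 ≤ n)
  have hs0 : 0 ≤ s := hs ▸ abs_nonneg _
  have hfac : 0 ≤ (s - 1) * (s - ((n : ℤ) - 1)) := by nlinarith
  have hs1 : s ≤ 1 := by
    by_contra hlt
    rw [not_le] at hlt
    nlinarith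
  have hS1 : s = 1 := by
    rcases (by omega : s = 0 ∨ s = 1) with e | e
    · exfalso
      subst e
      have hdvd : (n : ℤ) ∣ 1 := ⟨1 - ∑ μ, b μ ^ 2, by linarith⟩
      have := Int.le_of_dvd one_pos hdvd
      omega
    · exact e
  have hsq : ∑ μ, b μ ^ 2 = 1 := by
    subst hS1
    have h3 : (n : ℤ) * (∑ μ, b μ ^ 2 - 1) = 0 := by linarith
    rcases mul_eq_zero.1 h3 with e | e <;> omega
  obtain ⟨μ₀, hμ₀, hμ⟩ := int_sq_sum_one b hsq
  refine ⟨b μ₀, μ₀, hμ₀, fun x hx => ?_⟩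
  rw [← hval x hx, Finset.sum_eq_single μ₀ (fun μ _ hne => by rw [hμ μ hne, Int.cast_zero, zero_mul])
    (by simp)]

/-- A linear character of a subgroup of an abelian group extends. -/
theorem exists_hom_extension (hc : ∀ a b : A, a * b = b * a) (Q : Subgroup A) (ν : Q →* ℂˣ) :
    ∃ l : A →* ℂˣ, ∀ z : Q, l (z : A) = ν z := by
  letI : CommGroup A := { (inferInstance : Group A) with mul_comm := hc }
  haveI : NeZero (Monoid.exponent A) := ⟨Monoid.exponent_ne_zero_of_finite⟩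
  obtain ⟨l, hl⟩ := MonoidHom.restrict_surjective ℂ Q ν
  exact ⟨l, fun z => DFunLike.congr_fun hl z⟩

open Classical in
/-- A generalized character supported on a subgroup has value at the identity divisible by the
index. -/
theorem exists_dvd_apply_one (hc : ∀ a b : A, a * b = b * a) (Q : Subgroup A) {D : A → ℂ}
    (hD : IsGeneralizedCharacter A D) (h0 : ∀ w : A, w ∉ Q → D w = 0) :
    ∃ m : ℤ, D 1 = (Q.index : ℂ) * (m : ℂ) := by
  have hcQ : ∀ a b : Q, a * b = b * a := fun a b => Subtype.ext (hc a b)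
  have hDQ : IsClassFunction Q (fun z : Q => D (z : A)) := fun x y => by
    rw [hcQ y x, mul_inv_cancel_right]
  have key : ∀ θ : IrrCharacter Q, ∃ k : ℤ,
      classInner (fun z : Q => D (z : A)) (θ : Q → ℂ) = (Q.index : ℂ) * (k : ℂ) := by
    intro θ
    obtain ⟨ν, hν⟩ := Char.exists_hom_of_degree_one θ.2.isCharacter
      (Char.degree_eq_one_of_comm hcQ θ.2)
    obtain ⟨l, hl⟩ := exists_hom_extension hc Q ν
    obtain ⟨k, hk⟩ := hD.exists_int_classInner (Char.isIrrCharacter_linear l).isGeneralized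
    refine ⟨k, ?_⟩
    rw [← hk, hν, classInner, classInner]
    have e : ∑ w : A, D w * conj (l w : ℂ) = ∑ z : Q, D (z : A) * conj (ν z : ℂ) := by
      simp only [← hl]
      rw [← Finset.sum_subtype (Finset.univ.filter fun w => w ∈ Q) (by simp)
        (fun w => D w * conj (l w : ℂ))]
      exact (Finset.sum_filter_of_ne fun w _ hw => by
        by_contra hwQ; exact hw (by rw [h0 w hwQ, zero_mul])).symm
    rw [e, ← mul_assoc]
    congr 1
    have hcardA : (Nat.card A : ℂ) = (Q.index : ℂ) * (Nat.card Q : ℂ) := by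
      rw [← Nat.cast_mul, mul_comm, Subgroup.card_mul_index]
    rw [hcardA, mul_inv_rev, ← mul_assoc, mul_comm (Q.index : ℂ), mul_assoc,
      mul_inv_cancel₀ (Nat.cast_ne_zero.2 Subgroup.index_ne_zero_of_finite), mul_one]
  choose k hk using key
  refine ⟨∑ θ, k θ, ?_⟩
  have h := congrFun (Char.eq_sum_classInner hDQ) 1
  simp only [OneMemClass.coe_one, Finset.sum_apply, Pi.smul_apply, smul_eq_mul, hk,
    Char.degree_eq_one_of_comm hcQ (Subtype.mem (_ : IrrCharacter Q)), mul_one] at h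
  rw [h, Int.cast_sum, Finset.mul_sum]

open Classical in
/-- A generalized character with absolute value one outside a proper subgroup, on whose cosets it
is twisted by a linear character, is a sign times an extension of that linear character there. -/
theorem exists_sign_linear (hc : ∀ a b : A, a * b = b * a) {Q : Subgroup A} (hQ : Q ≠ ⊤)
    {F : A → ℂ} (hF : IsGeneralizedCharacter A F) (ν : Q →* ℂˣ)
    (hmul : ∀ w : A, w ∉ Q → ∀ z : Q, F (w * (z : A)) = (ν z : ℂ) * F w)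
    (habs : ∀ w : A, w ∉ Q → F w * conj (F w) = 1) :
    ∃ (ε : ℤ) (l : A →* ℂˣ) (m : ℤ), (ε = 1 ∨ ε = -1) ∧ (Q.index ≤ 2 → ε = 1) ∧
      (∀ z : Q, l (z : A) = ν z) ∧ (∀ w : A, w ∉ Q → F w = (ε : ℂ) * (l w : ℂ)) ∧
      F 1 = (ε : ℂ) + (Q.index : ℂ) * (m : ℂ) := by
  haveI : Q.Normal := ⟨fun n hn g => by rw [hc g n, mul_inv_cancel_right]; exact hn⟩
  have hcA : ∀ a b : A ⧸ Q, a * b = b * a := by
    intro a b
    induction a using QuotientGroup.induction_on with
    | H a =>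
      induction b using QuotientGroup.induction_on with
      | H b => rw [← QuotientGroup.mk_mul, ← QuotientGroup.mk_mul, hc a b]
  letI : Fintype (A ⧸ Q) := Fintype.ofFinite _
  obtain ⟨l₀, hl₀⟩ := exists_hom_extension hc Q ν
  let ψ : (A ⧸ Q →* ℂˣ) → (A →* ℂˣ) := fun μ => l₀ * μ.comp (QuotientGroup.mk' Q)
  have hψ : ∀ μ (w : A), (ψ μ w : ℂ) = (l₀ w : ℂ) * (μ (w : A ⧸ Q) : ℂ) := fun μ w => rfl
  have hψQ : ∀ μ (z : Q), ψ μ (z : A) = ν z := fun μ z => Units.ext (by
    rw [hψ, hl₀, (QuotientGroup.eq_one_iff (z : A)).2 z.2, map_one, Units.val_one, mul_one])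
  have hψinj : Function.Injective ψ := fun μ μ' h => by
    refine MonoidHom.ext fun q => ?_
    induction q using QuotientGroup.induction_on with
    | H w => exact mul_left_cancel (DFunLike.congr_fun h w)
  have hψsurj : ∀ l : A →* ℂˣ, (∀ z : Q, l (z : A) = ν z) → ∃ μ, ψ μ = l := fun l hl => by
    refine ⟨QuotientGroup.lift Q (l₀⁻¹ * l) fun z hz => ?_, MonoidHom.ext fun w => ?_⟩
    · rw [MonoidHom.mem_ker, MonoidHom.mul_apply, MonoidHom.inv_apply, hl₀ ⟨z, hz⟩, hl ⟨z, hz⟩,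
        inv_mul_cancel]
    · show l₀ w * (l₀⁻¹ * l) w = l w
      rw [MonoidHom.mul_apply, MonoidHom.inv_apply, mul_inv_cancel_left]
  choose a ha using fun μ : A ⧸ Q →* ℂˣ =>
    hF.exists_int_classInner (Char.isIrrCharacter_linear (ψ μ)).isGeneralized
  have hFw : ∀ w : A, w ∉ Q →
      F w = (l₀ w : ℂ) * ∑ μ : A ⧸ Q →* ℂˣ, (a μ : ℂ) * (μ (w : A ⧸ Q) : ℂ) := by
    intro w hw
    have hexp : ∀ x : A, F x = ∑ l : A →* ℂˣ, classInner F (fun y => (l y : ℂ)) * (l x : ℂ) := by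
      intro x
      have h := congrFun (Char.eq_sum_classInner hF.isClassFunction) x
      rw [Finset.sum_apply] at h
      rw [h]
      exact (Fintype.sum_equiv (linIrrPrincipalFree hc) _ _ fun l => by simp [linIrr_apply]).symm
    have hQc : (Nat.card Q : ℂ) ≠ 0 := Char.card_cast_ne_zero
    have hsum : ∀ l : A →* ℂˣ, ∑ z : Q, conj (ν z : ℂ) * (l (z : A) : ℂ) =
        if ∀ z : Q, l (z : A) = ν z then (Nat.card Q : ℂ) else 0 := by
      intro l
      have h := hom_orth (fun a b : Q => Subtype.ext (hc a b)) (l.comp Q.subtype) ν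
      rw [Finset.sum_congr rfl fun z _ => mul_comm _ _]
      exact h.trans (if_congr MonoidHom.ext_iff rfl rfl)
    have h1 : (Nat.card Q : ℂ) * F w = ∑ z : Q, conj (ν z : ℂ) * F (w * (z : A)) := by
      rw [Finset.sum_congr rfl fun z _ => by rw [hmul w hw z, ← mul_assoc, conj_hom_mul_self,
        one_mul], Finset.sum_const, Finset.card_univ, nsmul_eq_mul, Nat.card_eq_fintype_card]
    have h2 : (Nat.card Q : ℂ) * F w = (Nat.card Q : ℂ) *
        ∑ μ : A ⧸ Q →* ℂˣ, (a μ : ℂ) * (ψ μ w : ℂ) := by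
      rw [h1, Finset.mul_sum]
      calc ∑ z : Q, conj (ν z : ℂ) * F (w * (z : A))
          = ∑ l : A →* ℂˣ, classInner F (fun y => (l y : ℂ)) * (l w : ℂ) *
              ∑ z : Q, conj (ν z : ℂ) * (l (z : A) : ℂ) := by
            simp only [hexp (w * _), map_mul, Units.val_mul, Finset.mul_sum]
            rw [Finset.sum_comm]
            exact Finset.sum_congr rfl fun l _ => Finset.sum_congr rfl fun z _ => by ring
        _ = ∑ l ∈ Finset.univ.image ψ, classInner F (fun y => (l y : ℂ)) * (l w : ℂ) *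
              (Nat.card Q : ℂ) := by
            simp only [hsum, mul_ite, mul_zero]
            rw [← Finset.sum_filter]
            refine Finset.sum_congr ?_ fun l _ => rfl
            ext l
            simp only [Finset.mem_filter, Finset.mem_univ, true_and, Finset.mem_image]
            exact ⟨hψsurj l, fun ⟨μ, hμ⟩ z => hμ ▸ hψQ μ z⟩
        _ = _ := by
            rw [Finset.sum_image fun x _ y _ h => hψinj h]
            exact Finset.sum_congr rfl fun μ _ => by rw [ha]; ring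
    rw [mul_left_cancel₀ hQc h2, Finset.mul_sum]
    exact Finset.sum_congr rfl fun μ _ => by rw [hψ]; ring
  obtain ⟨ε, μ₀, hε, hμ₀⟩ := exists_sign_of_unit hcA
    (by
      have := (Subgroup.one_lt_index_of_ne_top hQ)
      rwa [Subgroup.index] at this) a (fun x hx => by
    induction x using QuotientGroup.induction_on with
    | H w =>
      have hw : w ∉ Q := fun h => hx ((QuotientGroup.eq_one_iff w).2 h)
      have h := habs w hw
      rw [hFw w hw, map_mul] at h
      linear_combination h - ((∑ μ : A ⧸ Q →* ℂˣ, (a μ : ℂ) * (μ (w : A ⧸ Q) : ℂ)) *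
        conj (∑ μ : A ⧸ Q →* ℂˣ, (a μ : ℂ) * (μ (w : A ⧸ Q) : ℂ))) * conj_hom_mul_self l₀ w)
  have hFε : ∀ w : A, w ∉ Q → F w = (ε : ℂ) * (ψ μ₀ w : ℂ) := fun w hw => by
    rw [hFw w hw, hμ₀ _ fun h => hw ((QuotientGroup.eq_one_iff w).1 h), hψ]
    ring
  suffices hmain : ∃ (ε' : ℤ) (μ' : A ⧸ Q →* ℂˣ), (ε' = 1 ∨ ε' = -1) ∧
      (Q.index ≤ 2 → ε' = 1) ∧ ∀ w : A, w ∉ Q → F w = (ε' : ℂ) * (ψ μ' w : ℂ) by
    obtain ⟨ε', μ', hε', h2, hF'⟩ := hmain
    obtain ⟨m, hm⟩ := exists_dvd_apply_one hc Q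
      (hF.sub ((Char.isIrrCharacter_linear (ψ μ')).isGeneralized.intCast_smul ε')) (fun w hw => by
        simp [hF' w hw])
    refine ⟨ε', ψ μ', m, hε', h2, hψQ μ', hF', ?_⟩
    simp only [Pi.sub_apply, Pi.smul_apply, smul_eq_mul, map_one, Units.val_one, mul_one] at hm
    linear_combination hm
  by_cases h2 : Q.index ≤ 2 ∧ ε = -1
  · obtain ⟨h2, rfl⟩ := h2
    have hA2 : Nat.card (A ⧸ Q) = 2 := le_antisymm h2 (by
      have := Subgroup.one_lt_index_of_ne_top hQ
      rw [Subgroup.index] at this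
      omega)
    obtain ⟨q, hq⟩ : ∃ q : A ⧸ Q, q ≠ 1 := by
      haveI : Nontrivial (A ⧸ Q) := Finite.one_lt_card_iff_nontrivial.1 (by omega)
      exact exists_ne 1
    obtain ⟨μ₁, hμ₁⟩ : ∃ μ₁ : A ⧸ Q →* ℂˣ, μ₁ q ≠ 1 := by
      by_contra hno
      push_neg at hno
      have h := hom_sum_eq_zero hcA hq
      simp [hno] at h
    refine ⟨1, μ₀ * μ₁, Or.inl rfl, fun _ => rfl, fun w hw => ?_⟩
    have hwq : ∀ x : A ⧸ Q, x ≠ 1 → x = q := fun x hx => by
      by_contra hne
      have hc3 : ({1, q, x} : Finset (A ⧸ Q)).card ≤ Fintype.card (A ⧸ Q) := Finset.card_le_univ _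
      rw [Finset.card_eq_three.2 ⟨1, q, x, Ne.symm hq, Ne.symm hx, Ne.symm hne, rfl⟩,
        ← Nat.card_eq_fintype_card, hA2] at hc3
      omega
    have hm1 : (μ₁ q : ℂ) = -1 := by
      have hq2 : q ^ 2 = 1 := by rw [← hA2]; exact pow_card_eq_one'
      have h := congrArg Units.val (congrArg μ₁ hq2)
      rw [map_pow, map_one, Units.val_pow_eq_pow_val, Units.val_one, sq_eq_one_iff] at h
      exact h.resolve_left fun h1 => hμ₁ (Units.ext h1)
    have hwne : (w : A ⧸ Q) ≠ 1 := fun h => hw ((QuotientGroup.eq_one_iff w).1 h)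
    rw [hFε w hw, hψ, hψ, MonoidHom.mul_apply, Units.val_mul, hwq _ hwne, hm1]
    push_cast
    ring
  · exact ⟨ε, μ₀, hε, fun h => hε.resolve_right fun e => h2 ⟨h, e⟩, hFε⟩

/-- Two signs with two extensions agreeing outside a subgroup of index at least three. -/
theorem sign_eq_of_agree {Q : Subgroup A} (hQ : 2 * Nat.card Q < Nat.card A) {ε ε' : ℤ}
    (hε : ε = 1 ∨ ε = -1) (hε' : ε' = 1 ∨ ε' = -1) (l l' : A →* ℂˣ)
    (h : ∀ w : A, w ∉ Q → (ε : ℂ) * (l w : ℂ) = (ε' : ℂ) * (l' w : ℂ)) : ε = ε' := by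
  classical
  obtain ⟨x, hx⟩ : ∃ x : A, x ∉ Q := by
    by_contra hno
    push_neg at hno
    have : Nat.card A ≤ Nat.card Q :=
      Nat.card_le_card_of_injective (fun x => (⟨x, hno x⟩ : Q)) fun a b e => congrArg Subtype.val e
    omega
  obtain ⟨y, hy, hxy⟩ : ∃ y : A, y ∉ Q ∧ x * y ∉ Q := by
    by_contra hno
    push_neg at hno
    have hsub : (Finset.univ : Finset A) ⊆ Finset.univ.image (fun z : Q => (z : A)) ∪
        Finset.univ.image (fun z : Q => x⁻¹ * (z : A)) := fun y _ => by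
      by_cases hy : y ∈ Q
      · exact Finset.mem_union_left _ (Finset.mem_image.2 ⟨⟨y, hy⟩, Finset.mem_univ _, rfl⟩)
      · exact Finset.mem_union_right _ (Finset.mem_image.2
          ⟨⟨x * y, hno y hy⟩, Finset.mem_univ _, inv_mul_cancel_left x y⟩)
    have := (Finset.card_le_card hsub).trans ((Finset.card_union_le _ _).trans
      (Nat.add_le_add Finset.card_image_le Finset.card_image_le))
    simp only [Finset.card_univ, ← Nat.card_eq_fintype_card] at this
    omega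
  have h1 := h x hx
  have h2 := h y hy
  have h3 := h (x * y) hxy
  rw [map_mul, map_mul, Units.val_mul, Units.val_mul] at h3
  rcases hε with rfl | rfl <;> rcases hε' with rfl | rfl <;> try rfl
  all_goals
    exfalso
    push_cast at h1 h2 h3
    refine mul_ne_zero (mul_ne_zero two_ne_zero (Units.ne_zero (l x))) (Units.ne_zero (l y)) ?_
  · linear_combination h3 + (l y : ℂ) * h1 - (l' x : ℂ) * h2
  · linear_combination -h3 - (l y : ℂ) * h1 + (l' x : ℂ) * h2

end Hom

end Cfsg.Lib.Block
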