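import Mathlib.Algebra.MonoidAlgebra.Support
import Mathlib.RingTheory.IntegralClosure.IsIntegralClosure.Basic
import Mathlib.RingTheory.RootsOfUnity.Complex
import Cfsg.Agent.Lib.Block.Basic
import Cfsg.Agent.Lib.Char.ExtGroup
import Cfsg.Agent.Lib.Char.Extension

/-!
# Extensions in the principal block when a Sylow centralizer covers the quotient

A representation of `G` irreducible on the normal subgroup `N` makes the class sums of `N` on `G`
act by scalars. For a character of the principal block of `N` the products lying in `N` act by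
their augmentations modulo `M`; on elements centralizing a Sylow subgroup of `N` this makes the
normalized character a homomorphism to the residue field, which can be twisted away.
-/

set_option autoImplicit false
set_option linter.style.haveILetI false
set_option linter.unusedSectionVars false

namespace Cfsg.Lib.Block

open Cfsg Cfsg.Lib Module
open scoped Pointwise

universe u

variable {G : Type u} [Group G] [Fintype G] (N : Subgroup G) [hN : N.Normal] [Fintype N]

open Classical in
/-- The orbit of an element under conjugation by `N`. -/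
noncomputable def relClass (g : G) : Finset G :=
  Finset.image (fun n : ↥N => (n : G) * g * (n : G)⁻¹) (Finset.univ : Finset ↥N)

theorem mem_relClass {g x : G} : x ∈ relClass N g ↔ ∃ n : N, (n : G) * g * (n : G)⁻¹ = x := by
  classical
  simp [relClass]

theorem self_mem_relClass (g : G) : g ∈ relClass N g :=
  (mem_relClass N).mpr ⟨1, by simp⟩

theorem relClass_eq_of_mem {g x : G} (h : x ∈ relClass N g) : relClass N x = relClass N g := by
  classical
  obtain ⟨n, rfl⟩ := (mem_relClass N).mp h
  ext y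
  rw [mem_relClass, mem_relClass]
  constructor
  · rintro ⟨m, rfl⟩
    exact ⟨m * n, by simp [mul_assoc]⟩
  · rintro ⟨m, rfl⟩
    exact ⟨m * n⁻¹, by simp [mul_assoc]⟩

theorem mk_eq_of_mem_relClass {g x : G} (h : x ∈ relClass N g) : (x : G ⧸ N) = g := by
  obtain ⟨n, rfl⟩ := (mem_relClass N).mp h
  rw [QuotientGroup.mk_mul, QuotientGroup.mk_mul, QuotientGroup.mk_inv,
    (QuotientGroup.eq_one_iff (n : G)).mpr n.2, one_mul, inv_one, mul_one]

theorem card_relClass_eq (g : G) :
    (relClass N g).card = ((Subgroup.centralizer ({g} : Set G)).subgroupOf N).index := by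
  classical
  rw [Subgroup.index, ← Nat.card_eq_finsetCard]
  have key : ∀ a b : N, (QuotientGroup.mk a : N ⧸ (Subgroup.centralizer ({g} : Set G)).subgroupOf N) =
      QuotientGroup.mk b ↔ (a : G) * g * (a : G)⁻¹ = (b : G) * g * (b : G)⁻¹ := by
    intro a b
    rw [QuotientGroup.eq, Subgroup.mem_subgroupOf, Subgroup.mem_centralizer_singleton_iff,
      Subgroup.coe_mul, Subgroup.coe_inv]
    constructor
    · intro h
      calc (a : G) * g * (a : G)⁻¹
          = (a : G) * (g * ((a : G)⁻¹ * b)) * (b : G)⁻¹ := by group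
        _ = (a : G) * ((a : G)⁻¹ * b * g) * (b : G)⁻¹ := by rw [h]
        _ = (b : G) * g * (b : G)⁻¹ := by group
    · intro h
      calc (a : G)⁻¹ * b * g = (a : G)⁻¹ * ((b : G) * g * (b : G)⁻¹) * b := by group
        _ = (a : G)⁻¹ * ((a : G) * g * (a : G)⁻¹) * b := by rw [h]
        _ = g * ((a : G)⁻¹ * b) := by group
  let f : N ⧸ (Subgroup.centralizer ({g} : Set G)).subgroupOf N → relClass N g :=
    Quotient.lift (fun a : N => ⟨(a : G) * g * (a : G)⁻¹, (mem_relClass N).mpr ⟨a, rfl⟩⟩)
      fun a b hab => Subtype.ext ((key a b).mp (Quotient.sound hab))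
  refine (Nat.card_congr (Equiv.ofBijective f ⟨fun x y hxy => ?_, fun y => ?_⟩)).symm
  · induction x using QuotientGroup.induction_on with
    | _ a =>
      induction y using QuotientGroup.induction_on with
      | _ b => exact (key a b).mpr (congrArg Subtype.val hxy)
  · obtain ⟨a, ha⟩ := (mem_relClass N).mp y.2
    exact ⟨QuotientGroup.mk a, Subtype.ext ha⟩

theorem not_dvd_card_relClass {p : ℕ} [Fact p.Prime] (P : Sylow p N) {g : G}
    (hg : g ∈ Subgroup.centralizer (((P : Subgroup N).map N.subtype : Subgroup G) : Set G)) :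
    ¬ p ∣ (relClass N g).card := by
  rw [card_relClass_eq]
  intro h
  refine P.not_dvd_index (h.trans (Subgroup.index_dvd_of_le fun x hx => ?_))
  rw [Subgroup.mem_subgroupOf, Subgroup.mem_centralizer_singleton_iff]
  exact Subgroup.mem_centralizer_iff.mp hg _ ⟨x, hx, rfl⟩

/-- The formal sum of an `N`-orbit. -/
noncomputable def relSum (g : G) : MonoidAlgebra ℤ G :=
  ∑ x ∈ relClass N g, MonoidAlgebra.single x 1

/-- Elements of the group ring commuting with `N`. -/
def IsRelCentral (z : MonoidAlgebra ℤ G) : Prop :=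
  ∀ n : N, MonoidAlgebra.single (n : G) 1 * z = z * MonoidAlgebra.single (n : G) 1

theorem IsRelCentral.mul {z w : MonoidAlgebra ℤ G} (hz : IsRelCentral N z)
    (hw : IsRelCentral N w) : IsRelCentral N (z * w) := fun n => by
  rw [← mul_assoc, hz n, mul_assoc, hw n, mul_assoc]

theorem isRelCentral_relSum (g : G) : IsRelCentral N (relSum N g) := by
  classical
  intro n
  rw [relSum, Finset.mul_sum, Finset.sum_mul]
  refine Finset.sum_bij (fun x _ => (n : G) * x * (n : G)⁻¹) (fun x hx => ?_)
    (fun a _ b _ h => by simpa using h) (fun y hy => ?_) fun x _ => ?_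
  · obtain ⟨m, rfl⟩ := (mem_relClass N).mp hx
    exact (mem_relClass N).mpr ⟨n * m, by simp [mul_assoc]⟩
  · obtain ⟨m, rfl⟩ := (mem_relClass N).mp hy
    exact ⟨((n⁻¹ * m : N) : G) * g * ((n⁻¹ * m : N) : G)⁻¹, (mem_relClass N).mpr ⟨_, rfl⟩,
      by simp [mul_assoc]⟩
  · rw [MonoidAlgebra.single_mul_single, MonoidAlgebra.single_mul_single]
    simp

/-- The augmentation. -/
noncomputable def relAug : MonoidAlgebra ℤ G →ₐ[ℤ] ℤ := MonoidAlgebra.lift ℤ ℤ G 1

theorem relAug_relSum (g : G) : relAug (relSum N g) = (relClass N g).card := by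
  simp [relAug, relSum, map_sum]

theorem support_relSum {g x : G} (h : x ∈ (relSum N g).coeff.support) : (x : G ⧸ N) = g := by
  classical
  by_contra hne
  rw [Finsupp.mem_support_iff, relSum, MonoidAlgebra.coeff_sum, Finsupp.finset_sum_apply] at h
  refine h (Finset.sum_eq_zero fun y hy => ?_)
  rw [MonoidAlgebra.coeff_single, Finsupp.single_apply, if_neg]
  rintro rfl
  exact hne (mk_eq_of_mem_relClass N hy)

theorem support_mul_mk {z w : MonoidAlgebra ℤ G} {a b : G ⧸ N}
    (hz : ∀ x ∈ z.coeff.support, (x : G ⧸ N) = a) (hw : ∀ x ∈ w.coeff.support, (x : G ⧸ N) = b) :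
    ∀ x ∈ (z * w).coeff.support, (x : G ⧸ N) = a * b := by
  classical
  intro x hx
  obtain ⟨y, hy, t, ht, rfl⟩ := Finset.mem_mul.mp (MonoidAlgebra.support_coeff_mul_subset z w hx)
  rw [QuotientGroup.mk_mul, hz y hy, hw t ht]

section Rep

variable {d : ℕ} (ρ : Representation ℂ G (Fin d → ℂ))

/-- The action of the group ring. -/
noncomputable def relAct : MonoidAlgebra ℤ G →ₐ[ℤ] Module.End ℂ (Fin d → ℂ) :=
  MonoidAlgebra.lift ℤ (Module.End ℂ (Fin d → ℂ)) G ρ

/-- The normalized trace. -/
noncomputable def relScal (z : MonoidAlgebra ℤ G) : ℂ :=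
  LinearMap.trace ℂ _ (relAct ρ z) / (d : ℂ)

theorem relAct_eq_sum (z : MonoidAlgebra ℤ G) : relAct ρ z = ∑ x, z.coeff x • ρ x := by
  rw [relAct, MonoidAlgebra.lift_apply]
  exact Finsupp.sum_fintype _ _ fun i => zero_smul _ _

variable [hirr : Representation.IsIrreducible (ρ.comp N.subtype : Representation ℂ N (Fin d → ℂ))]

include hirr in
theorem relDeg_ne_zero : (d : ℂ) ≠ 0 := by
  have h := Char.irreducible_finrank_pos (ρ.comp N.subtype : Representation ℂ N (Fin d → ℂ))
  rw [Module.finrank_fintype_fun_eq_card, Fintype.card_fin] at h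
  exact Nat.cast_ne_zero.mpr h.ne'

include hirr in
theorem relAct_eq_scal {z : MonoidAlgebra ℤ G} (hz : IsRelCentral N z) :
    relAct ρ z = relScal ρ z • 1 := by
  obtain ⟨c, hc⟩ := Char.exists_smul_of_comm (ρ.comp N.subtype) (relAct ρ z) (fun n => by
    have h := congrArg (relAct ρ) (hz n)
    simp only [map_mul, relAct, MonoidAlgebra.lift_single, one_smul] at h
    exact h.symm)
  rw [hc]
  congr 1
  rw [relScal, hc, map_smul, LinearMap.trace_one, smul_eq_mul, Module.finrank_fintype_fun_eq_card,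
    Fintype.card_fin, mul_div_cancel_right₀ _ (relDeg_ne_zero N ρ)]

include hirr in
theorem relScal_mul {z w : MonoidAlgebra ℤ G} (hz : IsRelCentral N z) (hw : IsRelCentral N w) :
    relScal ρ (z * w) = relScal ρ z * relScal ρ w := by
  rw [show relScal ρ (z * w) = LinearMap.trace ℂ _ (relAct ρ (z * w)) / (d : ℂ) from rfl, map_mul,
    relAct_eq_scal N ρ hz, relAct_eq_scal N ρ hw, smul_mul_smul_comm, one_mul, map_smul,
    LinearMap.trace_one, smul_eq_mul, Module.finrank_fintype_fun_eq_card, Fintype.card_fin,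
    mul_div_cancel_right₀ _ (relDeg_ne_zero N ρ)]

include hirr in
theorem isIntegral_relScal {z : MonoidAlgebra ℤ G} (hz : IsRelCentral N z) :
    IsIntegral ℤ (relScal ρ z) := by
  haveI : Nontrivial (Fin d → ℂ) := by
    have h := relDeg_ne_zero N ρ
    haveI : Nonempty (Fin d) := ⟨⟨0, Nat.pos_of_ne_zero fun h0 => h (by rw [h0, Nat.cast_zero])⟩⟩
    infer_instance
  haveI : Module.Finite ℤ (MonoidAlgebra ℤ G) :=
    Module.Finite.of_surjective (MonoidAlgebra.coeffAddEquiv (R := ℤ) (M := G)).symm.toIntLinearEquiv.toLinearMap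
      (AddEquiv.surjective _)
  have h : IsIntegral ℤ (relAct ρ z) := (IsIntegral.of_finite ℤ z).map (relAct ρ)
  rw [relAct_eq_scal N ρ hz, ← Algebra.algebraMap_eq_smul_one] at h
  exact (isIntegral_algebraMap_iff (FaithfulSMul.algebraMap_injective ℂ _)).mp h

theorem relScal_relSum (g : G) :
    relScal ρ (relSum N g) = (relClass N g).card * ρ.character g / (d : ℂ) := by
  rw [relScal, relSum, map_sum, map_sum]
  congr 1
  rw [Finset.sum_congr rfl (g := fun _ => ρ.character g) fun x hx => ?_, Finset.sum_const,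
    nsmul_eq_mul]
  obtain ⟨n, rfl⟩ := (mem_relClass N).mp hx
  rw [relAct, MonoidAlgebra.lift_single, one_smul]
  exact ρ.char_conj g (n : G)

variable {p : ℕ} [Fact p.Prime] {M : Ideal AlgInt}

include hirr in
/-- Elements of the group ring of `N` commuting with `N` act by their augmentation. -/
theorem relScal_sub_aug_mem (hM : IsPModular p M) (θ : IrrCharacter N)
    (hθ : θ ∈ principalBlock M N) (hθρ : ∀ n : N, ρ.character (n : G) = (θ : N → ℂ) n)
    {z : MonoidAlgebra ℤ G} (hz : IsRelCentral N z)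
    (hsupp : ∀ x ∈ z.coeff.support, (x : G ⧸ N) = 1) :
    MemLocalIdeal M (relScal ρ z - (relAug z : ℂ)) := by
  classical
  let f : N → ℂ := fun n => (z.coeff (n : G) : ℂ)
  have hf : IsClassFunction N f := by
    intro m n
    show (z.coeff ((n * m * n⁻¹ : N) : G) : ℂ) = (z.coeff (m : G) : ℂ)
    have h := congrArg (fun w : MonoidAlgebra ℤ G => w.coeff ((n : G) * m)) (hz n)
    simp only [MonoidAlgebra.coeff_single_mul_apply, MonoidAlgebra.coeff_mul_single_apply,
      inv_mul_cancel_left, one_mul, mul_one] at h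
    push_cast
    rw [h]
  have hout : ∀ x : G, x ∉ N → z.coeff x = 0 := fun x hx => by
    by_contra h
    exact hx ((QuotientGroup.eq_one_iff x).mp (hsupp x (Finsupp.mem_support_iff.mpr h)))
  have hsum : ∀ F : G → ℂ, ∑ x, (z.coeff x : ℂ) * F x = ∑ n : N, f n * F n := fun F => by
    rw [← Finset.sum_subset (Finset.subset_univ ((Finset.univ : Finset N).map
      (Function.Embedding.subtype _))) fun x _ hx => by
        rw [hout x (fun h => hx (Finset.mem_map.mpr ⟨⟨x, h⟩, Finset.mem_univ _, rfl⟩)),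
          Int.cast_zero, zero_mul], Finset.sum_map]
    rfl
  have hd : (θ : N → ℂ) 1 = (d : ℂ) := by
    rw [← hθρ, OneMemClass.coe_one, Representation.char_one, Module.finrank_fintype_fun_eq_card,
      Fintype.card_fin]
  have h1 : relScal ρ z = vec f θ := by
    rw [relScal, relAct_eq_sum, map_sum, vec, hd]
    congr 1
    simp only [← hθρ]
    rw [← hsum ρ.character]
    refine Finset.sum_congr rfl fun x _ => ?_
    rw [← Int.cast_smul_eq_zsmul ℂ, map_smul, smul_eq_mul]
    rfl
  have h2 : (relAug z : ℂ) = vec f (trivChar N) := by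
    rw [vec, trivChar_coe, div_one, ← hsum (fun _ => 1)]
    simp only [mul_one, relAug, MonoidAlgebra.lift_apply, MonoidHom.one_apply, smul_eq_mul]
    rw [Finsupp.sum_fintype _ _ (fun _ => by simp), Int.cast_sum]
  haveI : Finite (ConjClasses N) := Quotient.finite _
  haveI := Fintype.ofFinite (ConjClasses N)
  rw [h1, h2, sum_mul_char_eq hf, sum_mul_char_eq hf, ← Finset.sum_sub_distrib]
  refine memLocalIdeal_sum hM _ _ fun C _ => ?_
  rw [← mul_sub]
  refine memLocalIdeal_mul_left hM (intCast_mem (locRing hM) _) ?_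
  have hsb : SameBlock M (fun _ : N => (1 : ℂ)) (θ : N → ℂ) := hθ
  have h3 := memLocalIdeal_neg hM (hsb C.out)
  rw [neg_sub] at h3
  rw [trivChar_coe]
  exact h3

include hirr in
theorem relScal_two_mem (hM : IsPModular p M) (θ : IrrCharacter N) (hθ : θ ∈ principalBlock M N)
    (hθρ : ∀ n : N, ρ.character (n : G) = (θ : N → ℂ) n) {g h : G} (hgh : g * h ∈ N) :
    MemLocalIdeal M (relScal ρ (relSum N g) * relScal ρ (relSum N h) -
      ((relClass N g).card : ℂ) * ((relClass N h).card : ℂ)) := by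
  have hz := isRelCentral_relSum N g
  have hw := isRelCentral_relSum N h
  have h1 := relScal_sub_aug_mem N ρ hM θ hθ hθρ (hz.mul N hw) (fun x hx => by
    rw [support_mul_mk N (fun y hy => support_relSum N hy) (fun y hy => support_relSum N hy) x hx,
      ← QuotientGroup.mk_mul, (QuotientGroup.eq_one_iff _).mpr hgh])
  rw [relScal_mul N ρ hz hw, map_mul, relAug_relSum, relAug_relSum] at h1
  simpa using h1

include hirr in
theorem relScal_three_mem (hM : IsPModular p M) (θ : IrrCharacter N)
    (hθ : θ ∈ principalBlock M N) (hθρ : ∀ n : N, ρ.character (n : G) = (θ : N → ℂ) n)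
    {g h k : G} (hghk : g * h * k ∈ N) :
    MemLocalIdeal M (relScal ρ (relSum N g) * relScal ρ (relSum N h) * relScal ρ (relSum N k) -
      ((relClass N g).card : ℂ) * ((relClass N h).card : ℂ) * ((relClass N k).card : ℂ)) := by
  have hz := isRelCentral_relSum N g
  have hw := isRelCentral_relSum N h
  have ht := isRelCentral_relSum N k
  have h1 := relScal_sub_aug_mem N ρ hM θ hθ hθρ ((hz.mul N hw).mul N ht) (fun x hx => by
    rw [support_mul_mk N (support_mul_mk N (fun y hy => support_relSum N hy)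
        (fun y hy => support_relSum N hy)) (fun y hy => support_relSum N hy) x hx,
      ← QuotientGroup.mk_mul, ← QuotientGroup.mk_mul, (QuotientGroup.eq_one_iff _).mpr hghk])
  rw [relScal_mul N ρ (hz.mul N hw) ht, relScal_mul N ρ hz hw, map_mul, map_mul, relAug_relSum,
    relAug_relSum, relAug_relSum] at h1
  simpa using h1

variable (P : Sylow p N)

local notation "CP" => Subgroup.centralizer ((Subgroup.map N.subtype (P : Subgroup N) : Subgroup G) : Set G)

include hirr in
theorem charRatio_mem (hM : IsPModular p M) {c : G} (hc : c ∈ CP) :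
    ρ.character c / (d : ℂ) ∈ locRing hM := by
  have hr : ((relClass N c).card : ℂ) ≠ 0 :=
    Nat.cast_ne_zero.mpr (Finset.card_pos.mpr ⟨c, self_mem_relClass N c⟩).ne'
  rw [show ρ.character c / (d : ℂ) = ((relClass N c).card : ℂ)⁻¹ * relScal ρ (relSum N c) by
    rw [relScal_relSum]; field_simp]
  exact mul_mem (inv_natCast_mem_locRing hM (not_dvd_card_relClass N P hc))
    (isIntegral_mem_locRing hM (isIntegral_relScal N ρ (isRelCentral_relSum N c)))

include hirr in
theorem charRatio_three (hM : IsPModular p M) (θ : IrrCharacter N)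
    (hθ : θ ∈ principalBlock M N) (hθρ : ∀ n : N, ρ.character (n : G) = (θ : N → ℂ) n)
    {g h k : G} (hg : g ∈ CP) (hh : h ∈ CP) (hk : k ∈ CP) (hghk : g * h * k ∈ N) :
    MemLocalIdeal M ((ρ.character g / (d : ℂ)) * (ρ.character h / (d : ℂ)) *
      (ρ.character k / (d : ℂ)) - 1) := by
  have h1 := relScal_three_mem N ρ hM θ hθ hθρ hghk
  simp only [relScal_relSum] at h1
  have hne : ∀ x : G, ((relClass N x).card : ℂ) ≠ 0 := fun x =>
    Nat.cast_ne_zero.mpr (Finset.card_pos.mpr ⟨x, self_mem_relClass N x⟩).ne'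
  have hinv : ∀ x ∈ CP, ((relClass N x).card : ℂ)⁻¹ ∈ locRing hM := fun x hx =>
    inv_natCast_mem_locRing hM (not_dvd_card_relClass N P hx)
  have h2 := memLocalIdeal_mul_left hM (mul_mem (mul_mem (hinv g hg) (hinv h hh)) (hinv k hk)) h1
  convert h2 using 1
  field_simp [hne g, hne h, hne k]

include hirr in
/-- When the normalized character is trivial on the centralizer, it is trivial on all orbits. -/
theorem relScal_sub_card_mem (hM : IsPModular p M) (θ : IrrCharacter N)
    (hθ : θ ∈ principalBlock M N) (hθρ : ∀ n : N, ρ.character (n : G) = (θ : N → ℂ) n)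
    (hcov : N ⊔ CP = ⊤) (hu : ∀ c ∈ CP, MemLocalIdeal M (ρ.character c / (d : ℂ) - 1)) (g : G) :
    MemLocalIdeal M (relScal ρ (relSum N g) - ((relClass N g).card : ℂ)) := by
  obtain ⟨n, hn, c, hc, hnc⟩ : ∃ n ∈ (N : Set G), ∃ c ∈ (CP : Set G), n * c = g⁻¹ := by
    have hg : g⁻¹ ∈ (N ⊔ CP : Subgroup G) := hcov ▸ Subgroup.mem_top _
    rw [← SetLike.mem_coe, Subgroup.normal_mul] at hg
    exact Set.mem_mul.mp hg
  have hgc : g * c ∈ N := by
    have h1 : g * n⁻¹ * g⁻¹ ∈ N := hN.conj_mem _ (N.inv_mem hn) g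
    have h2 : g * c = g * n⁻¹ * g⁻¹ := by rw [← hnc]; group
    rw [h2]; exact h1
  have h1 := relScal_two_mem N ρ hM θ hθ hθρ hgc
  set a := relScal ρ (relSum N g)
  set rg := ((relClass N g).card : ℂ)
  set rc := ((relClass N c).card : ℂ)
  have hr : ¬ p ∣ (relClass N c).card := not_dvd_card_relClass N P hc
  have hrc : rc ≠ 0 := Nat.cast_ne_zero.mpr fun h0 => hr (h0 ▸ dvd_zero p)
  have ha : a ∈ locRing hM :=
    isIntegral_mem_locRing hM (isIntegral_relScal N ρ (isRelCentral_relSum N g))
  have h2 : MemLocalIdeal M (a * (rc * (ρ.character c / (d : ℂ) - 1))) :=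
    memLocalIdeal_mul_left hM ha (memLocalIdeal_mul_left hM (natCast_mem_locRing hM _) (hu c hc))
  rw [relScal_relSum] at h1
  have h3 := memLocalIdeal_mul_left hM (inv_natCast_mem_locRing hM hr) (memLocalIdeal_sub hM h1 h2)
  rw [show a - rg = rc⁻¹ * (a * (rc * ρ.character c / (d : ℂ)) - rg * rc -
    a * (rc * (ρ.character c / (d : ℂ) - 1))) by field_simp; ring]
  exact h3

end Rep

section Lift

variable {p : ℕ} [Fact p.Prime] {M : Ideal AlgInt}

/-- A homomorphism into the residue field lifts to a linear character. -/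
theorem exists_lift_hom (hM : IsPModular p M) (f : G →* (resField hM)ˣ) :
    ∃ (lam : G →* ℂˣ) (m : ℕ), ¬ p ∣ m ∧ (∀ g, (lam g : ℂ) ^ m = 1) ∧
      ∀ g, ∃ hg : (lam g : ℂ) ∈ locRing hM,
        resMap hM ⟨(lam g : ℂ), hg⟩ = (f g : resField hM) := by
  classical
  set m := ordCompl[p] (Nat.card G) with hm
  have hm0 : m ≠ 0 := (Nat.ordCompl_pos p Nat.card_pos.ne').ne'
  haveI : NeZero m := ⟨hm0⟩
  have hpm : ¬ p ∣ m := Nat.not_dvd_ordCompl (Fact.out : p.Prime) Nat.card_pos.ne'
  have hf : ∀ g, f g ∈ rootsOfUnity m (resField hM) := by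
    intro g
    rw [mem_rootsOfUnity]
    apply Units.ext
    rw [Units.val_one]
    have h1 : (((f g) ^ m : (resField hM)ˣ) : resField hM) ^ p ^ (Nat.card G).factorization p = 1 := by
      rw [← Units.val_pow_eq_pow_val, ← pow_mul, mul_comm, hm, Nat.ordProj_mul_ordCompl_eq_self,
        ← map_pow, pow_card_eq_one', map_one, Units.val_one]
    haveI : ExpChar (resField hM) p := ExpChar.prime (Fact.out : p.Prime)
    simpa using (ExpChar.pow_prime_pow_mul_eq_one_iff p _ 1 _).mp (by rw [mul_one]; exact h1)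
  have hz : ∀ z : rootsOfUnity m ℂ, (((z : ℂˣ) : ℂ)) ∈ locRing hM := fun z =>
    root_of_unity_mem_locRing hM (Nat.pos_of_ne_zero hm0) (by
      rw [← Units.val_pow_eq_pow_val, (mem_rootsOfUnity m _).mp z.2, Units.val_one])
  let r₀ : rootsOfUnity m ℂ →* resField hM :=
    { toFun := fun z => resMap hM ⟨_, hz z⟩
      map_one' := map_one (resMap hM)
      map_mul' := fun a b => map_mul (resMap hM) ⟨_, hz a⟩ ⟨_, hz b⟩ }
  let r : rootsOfUnity m ℂ →* rootsOfUnity m (resField hM) :=
    MonoidHom.codRestrict r₀.toHomUnits _ fun z => by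
      rw [mem_rootsOfUnity, ← map_pow, show z ^ m = 1 from Subtype.ext (by
        rw [Subgroup.coe_pow]; exact (mem_rootsOfUnity m _).mp z.2), map_one]
  have hinj : Function.Injective r := by
    rw [injective_iff_map_eq_one]
    intro z h
    have h1 : resMap hM ⟨_, hz z⟩ = resMap hM 1 := by
      rw [map_one]
      exact congrArg (fun x : rootsOfUnity m (resField hM) => ((x : (resField hM)ˣ) : resField hM)) h
    rw [resMap_eq_iff] at h1
    apply Subtype.ext
    apply Units.ext
    exact eq_one_of_memLocalIdeal_sub_one hM hpm (by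
      rw [← Units.val_pow_eq_pow_val, (mem_rootsOfUnity m _).mp z.2, Units.val_one]) (by simpa using h1)
  have hcard : Nat.card (rootsOfUnity m ℂ) = m := Complex.card_rootsOfUnity m
  have hbij : Function.Bijective r := by
    rw [Nat.bijective_iff_injective_and_card]
    refine ⟨hinj, le_antisymm (Nat.card_le_card_of_injective r hinj) ?_⟩
    rw [hcard]
    exact card_rootsOfUnity _ m
  let e := MulEquiv.ofBijective r hbij
  let lam : G →* ℂˣ :=
    (rootsOfUnity m ℂ).subtype.comp (e.symm.toMonoidHom.comp (MonoidHom.codRestrict f _ hf))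
  refine ⟨lam, m, hpm, fun g => ?_, fun g => ⟨hz (e.symm ⟨f g, hf g⟩), ?_⟩⟩
  · rw [← Units.val_pow_eq_pow_val]
    exact congrArg Units.val ((mem_rootsOfUnity m _).mp (e.symm ⟨f g, hf g⟩).2)
  exact congrArg (fun x : rootsOfUnity m (resField hM) => ((x : (resField hM)ˣ) : resField hM))
    (e.apply_symm_apply ⟨f g, hf g⟩)

end Lift

section Main

variable {p : ℕ} [Fact p.Prime] {M : Ideal AlgInt}

/-- An extension normalized on the Sylow centralizer, lying in the principal block of every
intermediate group. -/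
theorem exists_normalized_principal_extension (hM : IsPModular p M) (P : Sylow p N)
    (hcov : N ⊔ Subgroup.centralizer (((P : Subgroup N).map N.subtype : Subgroup G) : Set G) = ⊤)
    (θ : IrrCharacter N) (hθ : θ ∈ principalBlock M N)
    (hext : ∃ ψ : IrrCharacter G, ∀ n : N, (ψ : G → ℂ) n = (θ : N → ℂ) n) :
    ∃ χ : IrrCharacter G, (∀ n : N, (χ : G → ℂ) n = (θ : N → ℂ) n) ∧
      (∀ c ∈ Subgroup.centralizer (((P : Subgroup N).map N.subtype : Subgroup G) : Set G),
        MemLocalIdeal M ((χ : G → ℂ) c / (θ : N → ℂ) 1 - 1)) ∧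
      ∀ J : Subgroup G, N ≤ J → ∃ ξ : IrrCharacter J, ξ ∈ principalBlock M J ∧
        ∀ y : J, (ξ : J → ℂ) y = (χ : G → ℂ) y := by
  classical
  obtain ⟨ψ, hψ⟩ := hext
  obtain ⟨d, σ, hσ, hσθ⟩ := θ.2
  haveI := hσ
  obtain ⟨ρ, hρ, hρψ⟩ := Char.exists_rep_of_res_eq N.subtype σ ψ.2.isCharacter
    (fun n => (hψ n).trans (congrFun hσθ n).symm)
  haveI hirr : Representation.IsIrreducible
      (ρ.comp N.subtype : Representation ℂ N (Fin d → ℂ)) := by
    rw [show ρ.comp N.subtype = σ from MonoidHom.ext hρ]; exact hσ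
  have hρθ : ∀ n : N, ρ.character (n : G) = (θ : N → ℂ) n := fun n => by rw [hρψ]; exact hψ n
  set C := Subgroup.centralizer (((P : Subgroup N).map N.subtype : Subgroup G) : Set G) with hC
  -- the homomorphism on the centralizer
  let u : C → resField hM := fun c =>
    resMap hM ⟨_, charRatio_mem N ρ P hM c.2⟩
  have hu3 : ∀ a b c : C, (a : G) * b * c ∈ N → u a * u b * u c = 1 := by
    intro a b c habc
    rw [← map_mul, ← map_mul, ← map_one (resMap hM), resMap_eq_iff]
    exact charRatio_three N ρ P hM θ hθ hρθ a.2 b.2 c.2 habc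
  have hu1 : u 1 = 1 := by
    show resMap hM _ = 1
    rw [← map_one (resMap hM)]
    refine congrArg (resMap hM) (Subtype.ext ?_)
    show ρ.character 1 / (d : ℂ) = 1
    rw [Representation.char_one, Module.finrank_fintype_fun_eq_card, Fintype.card_fin,
      div_self (relDeg_ne_zero N ρ)]
  have huinv : ∀ a : C, u a * u a⁻¹ = 1 := fun a => by
    simpa [hu1] using hu3 a a⁻¹ 1 (by simp)
  have humul : ∀ a b : C, u (a * b) = u a * u b := fun a b => by
    have h1 := hu3 a b (a * b)⁻¹ (by simp)
    calc u (a * b) = u (a * b) * (u a * u b * u (a * b)⁻¹) := by rw [h1, mul_one]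
      _ = u a * u b * (u (a * b) * u (a * b)⁻¹) := by ring
      _ = u a * u b := by rw [huinv, mul_one]
  have huN : ∀ a : C, (a : G) ∈ N → u a = 1 := fun a ha => by
    simpa [hu1] using hu3 a 1 1 (by simpa using ha)
  let U : C →* resField hM := { toFun := u, map_one' := hu1, map_mul' := humul }
  let π : C →* G ⧸ N := (QuotientGroup.mk' N).comp C.subtype
  have hπ : Function.Surjective π := by
    intro q
    obtain ⟨g, rfl⟩ := QuotientGroup.mk_surjective q
    have hg : g ∈ (N ⊔ C : Subgroup G) := hcov ▸ Subgroup.mem_top _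
    rw [← SetLike.mem_coe, Subgroup.normal_mul] at hg
    obtain ⟨n, hn, c, hc, rfl⟩ := Set.mem_mul.mp hg
    refine ⟨⟨c, hc⟩, ?_⟩
    show (c : G ⧸ N) = _
    rw [QuotientGroup.mk_mul, (QuotientGroup.eq_one_iff n).mpr hn, one_mul]
  let Ub : G ⧸ N →* (resField hM)ˣ := π.liftOfSurjective hπ ⟨U.toHomUnits, fun a ha =>
    MonoidHom.mem_ker.mpr (Units.ext (huN a ((QuotientGroup.eq_one_iff _).mp ha)))⟩
  have hUb : ∀ c : C, ((Ub (π c) : (resField hM)ˣ) : resField hM) = u c := fun c => by
    rw [MonoidHom.liftOfRightInverse_comp_apply]; rfl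
  obtain ⟨lam, mo, hmo, hlamm, hlam⟩ := exists_lift_hom hM (Ub⁻¹.comp (QuotientGroup.mk' N))
  have hlamN : ∀ n ∈ N, lam n = 1 := by
    intro n hn
    obtain ⟨h1, h2⟩ := hlam n
    rw [MonoidHom.comp_apply, show QuotientGroup.mk' N n = 1 from (QuotientGroup.eq_one_iff n).mpr hn,
      map_one, Units.val_one, ← map_one (resMap hM), resMap_eq_iff] at h2
    have h3 : MemLocalIdeal M ((lam n : ℂ) - 1) := by simpa using h2
    exact Units.ext (eq_one_of_memLocalIdeal_sub_one hM hmo (hlamm n) h3)
  -- the twisted representation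
  let ρ' : Representation ℂ G (Fin d → ℂ) :=
    { toFun := fun g => (lam g : ℂ) • ρ g
      map_one' := by simp
      map_mul' := fun x y => by
        simp only [map_mul, Units.val_mul]
        rw [smul_mul_smul_comm] }
  have hρ' : ∀ n : N, ρ' (n : G) = σ n := fun n => by
    show (lam n : ℂ) • ρ (n : G) = σ n
    rw [hlamN _ n.2, Units.val_one, one_smul]; exact hρ n
  haveI hirr' : Representation.IsIrreducible
      (ρ'.comp N.subtype : Representation ℂ N (Fin d → ℂ)) := by
    rw [show ρ'.comp N.subtype = σ from MonoidHom.ext hρ']; exact hσ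
  have hval : ∀ g, ρ'.character g = (lam g : ℂ) * ρ.character g := fun g => by
    show LinearMap.trace ℂ _ ((lam g : ℂ) • ρ g) = _
    rw [map_smul, smul_eq_mul]; rfl
  have hρ'θ : ∀ n : N, ρ'.character (n : G) = (θ : N → ℂ) n := fun n => by
    rw [hval, hlamN _ n.2, Units.val_one, one_mul, hρθ]
  have hu' : ∀ c ∈ C, MemLocalIdeal M (ρ'.character c / (d : ℂ) - 1) := by
    intro c hc
    obtain ⟨h1, h2⟩ := hlam c
    have h3 : resMap hM (⟨_, h1⟩ * ⟨_, charRatio_mem N ρ P hM hc⟩) = resMap hM 1 := by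
      rw [map_mul, h2, map_one]
      show ((Ub⁻¹ (π ⟨c, hc⟩) : (resField hM)ˣ) : resField hM) * u ⟨c, hc⟩ = 1
      rw [← hUb, MonoidHom.inv_apply, Units.inv_mul]
    rw [resMap_eq_iff] at h3
    convert h3 using 1
    rw [hval]
    push_cast
    ring
  haveI := Char.isIrreducible_of_extension hρ'
  have hd1 : (θ : N → ℂ) 1 = (d : ℂ) := by
    rw [← hσθ, Representation.char_one, Module.finrank_fintype_fun_eq_card, Fintype.card_fin]
  refine ⟨⟨ρ'.character, Char.isIrrCharacter_character ρ'⟩, hρ'θ, fun c hc => hd1 ▸ hu' c hc,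
    fun J hNJ => ?_⟩
  haveI := Fintype.ofFinite J
  let ρJ : Representation ℂ J (Fin d → ℂ) := ρ'.comp J.subtype
  haveI : ρJ.IsIrreducible := by
    rw [Char.isIrreducible_iff_submodule] at hirr' ⊢
    exact ⟨hirr'.1, fun q hq => hirr'.2 q fun n x hx => hq ⟨n, hNJ n.2⟩ x hx⟩
  refine ⟨⟨ρJ.character, Char.isIrrCharacter_character ρJ⟩, fun g => ?_, fun y => rfl⟩
  show MemLocalIdeal M (centralChar (fun _ : J => (1 : ℂ)) g - centralChar ρJ.character g)
  let K : Finset G := (Char.classFinset g).map (Function.Embedding.subtype _)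
  have hK : ∀ {y : J}, (y : G) ∈ K ↔ IsConj g y := fun {y} => by
    simp [K, Char.mem_classFinset]
  have hidx : (Subgroup.centralizer ({g} : Set J)).index = K.card := by
    rw [Finset.card_map, Char.card_classFinset]
  have hchar : ∀ y ∈ K, ρ'.character y = ρ'.character (g : G) := by
    intro y hy
    obtain ⟨z, hz, rfl⟩ := Finset.mem_map.mp hy
    obtain ⟨c, hc⟩ := isConj_iff.mp (Char.mem_classFinset.mp hz)
    rw [← hc]
    exact ρ'.char_conj (g : G) (c : G)
  have hd : (d : ℂ) ≠ 0 := relDeg_ne_zero N ρ'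
  have e1 : centralChar (fun _ : J => (1 : ℂ)) g - centralChar ρJ.character g =
      -∑ y ∈ K, (ρ'.character y / (d : ℂ) - 1) := by
    simp only [centralChar, hidx, Representation.char_one, Module.finrank_fintype_fun_eq_card,
      Fintype.card_fin]
    rw [Finset.sum_sub_distrib, Finset.sum_congr rfl fun y hy => by rw [hchar y hy],
      Finset.sum_const, Finset.sum_const, nsmul_eq_mul, nsmul_eq_mul]
    show _ - (K.card : ℂ) * ρ'.character (g : G) / (d : ℂ) = _
    ring
  rw [e1]
  refine memLocalIdeal_neg hM ?_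
  rw [← Finset.sum_fiberwise_of_maps_to (fun y hy => Finset.mem_image_of_mem (relClass N) hy)
    (fun y => ρ'.character y / (d : ℂ) - 1)]
  refine memLocalIdeal_sum hM _ _ fun X hX => ?_
  obtain ⟨y, hy, rfl⟩ := Finset.mem_image.mp hX
  have hfib : K.filter (fun x => relClass N x = relClass N y) = relClass N y := by
    ext x
    rw [Finset.mem_filter]
    refine ⟨fun h => h.2 ▸ self_mem_relClass N x, fun h => ⟨?_, relClass_eq_of_mem N h⟩⟩
    obtain ⟨n, rfl⟩ := (mem_relClass N).mp h
    obtain ⟨z, hz, rfl⟩ := Finset.mem_map.mp hy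
    obtain ⟨c, hc⟩ := isConj_iff.mp (Char.mem_classFinset.mp hz)
    refine Finset.mem_map.mpr ⟨⟨n, hNJ n.2⟩ * z * ⟨n, hNJ n.2⟩⁻¹, ?_, rfl⟩
    rw [Char.mem_classFinset, isConj_iff]
    exact ⟨⟨n, hNJ n.2⟩ * c, by rw [← hc]; group⟩
  rw [hfib]
  have h1 := relScal_sub_card_mem N ρ' P hM θ hθ hρ'θ hcov hu' y
  rw [relScal_relSum] at h1
  convert h1 using 1
  rw [Finset.sum_sub_distrib, Finset.sum_congr rfl (g := fun _ => ρ'.character y / (d : ℂ)) fun x hx => ?_,
    Finset.sum_const, Finset.sum_const, nsmul_eq_mul, nsmul_eq_mul]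
  · ring
  · obtain ⟨n, rfl⟩ := (mem_relClass N).mp hx
    rw [ρ'.char_conj]

/-- An extendible character of the principal block of `N` extends into the principal block of
every intermediate group, when a Sylow centralizer covers the quotient. -/
theorem exists_principal_extension (hM : IsPModular p M) (P : Sylow p N)
    (hcov : N ⊔ Subgroup.centralizer (((P : Subgroup N).map N.subtype : Subgroup G) : Set G) = ⊤)
    (θ : IrrCharacter N) (hθ : θ ∈ principalBlock M N)
    (hext : ∃ ψ : IrrCharacter G, ∀ n : N, (ψ : G → ℂ) n = (θ : N → ℂ) n) :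
    ∃ χ : IrrCharacter G, (∀ n : N, (χ : G → ℂ) n = (θ : N → ℂ) n) ∧
      ∀ J : Subgroup G, N ≤ J → ∃ ξ : IrrCharacter J, ξ ∈ principalBlock M J ∧
        ∀ y : J, (ξ : J → ℂ) y = (χ : G → ℂ) y := by
  obtain ⟨χ, hres, -, hJ⟩ := exists_normalized_principal_extension N hM P hcov θ hθ hext
  exact ⟨χ, hres, hJ⟩

end Main

end Cfsg.Lib.Block
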