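import Mathlib.GroupTheory.SchurZassenhaus
import Cfsg.Agent.Lib.Block.CentralizerTwist
import Cfsg.Agent.Lib.Block.CoverBasics
import Cfsg.Agent.Lib.Char.Gallagher

/-!
# Restriction to a normal subgroup of index prime to `p` covered by a Sylow centralizer

Every character of the principal block of `N` is invariant and extends to a unique character of
the principal block of `G`.
-/

set_option autoImplicit false
set_option linter.style.haveILetI false
set_option linter.unusedSectionVars false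
set_option maxHeartbeats 1000000

namespace Cfsg.Lib.Block

open Cfsg Cfsg.Lib Module
open scoped ComplexConjugate

universe u

variable {G : Type u} [Group G] [Fintype G] (N : Subgroup G) [hN : N.Normal] [Fintype N]
  {p : ℕ} [Fact p.Prime] {M : Ideal AlgInt}

/-- Membership in the principal block passes from the top subgroup. -/
theorem mem_principal_of_top (χ : IrrCharacter G) {ξ : IrrCharacter (⊤ : Subgroup G)}
    (hξ : ξ ∈ principalBlock M (⊤ : Subgroup G))
    (hval : ∀ y : (⊤ : Subgroup G), (ξ : (⊤ : Subgroup G) → ℂ) y = (χ : G → ℂ) y) :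
    χ ∈ principalBlock M G := by
  have e : compIrr (Subgroup.topEquiv : (⊤ : Subgroup G) ≃* G) χ = ξ :=
    Subtype.ext (funext fun y => (hval y).symm)
  have h : SameBlock M
      (compIrr (Subgroup.topEquiv : (⊤ : Subgroup G) ≃* G) (trivChar G) : (⊤ : Subgroup G) → ℂ)
      (compIrr (Subgroup.topEquiv : (⊤ : Subgroup G) ≃* G) χ : (⊤ : Subgroup G) → ℂ) := by
    rw [e]; exact hξ
  exact (sameBlock_compIrr _ _ _).mp h

/-- A character of the principal block of `N` is invariant under a Sylow centralizer. -/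
theorem conjTwist_eq_of_centralizer (hM : IsPModular p M) (P : Sylow p N) {c : G}
    (hc : c ∈ Subgroup.centralizer (((P : Subgroup N).map N.subtype : Subgroup G) : Set G))
    (θ : IrrCharacter N) (hθ : θ ∈ principalBlock M N) :
    Char.conjTwist N (θ : N → ℂ) c = (θ : N → ℂ) := by
  classical
  obtain ⟨d, σ, hσ, hσθ⟩ := θ.2
  haveI := hσ
  have hd : (θ : N → ℂ) 1 = (d : ℂ) := by
    rw [← hσθ, Representation.char_one, Module.finrank_fintype_fun_eq_card, Fintype.card_fin]
  have hX : ∀ x : relClass N c, (x : G) * c⁻¹ ∈ N := fun x => by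
    rw [← QuotientGroup.eq_one_iff, QuotientGroup.mk_mul, QuotientGroup.mk_inv,
      mk_eq_of_mem_relClass N x.2, mul_inv_cancel]
  have hY : ∀ y : relClass N c⁻¹, c * (y : G) ∈ N := fun y => by
    rw [← QuotientGroup.eq_one_iff, QuotientGroup.mk_mul, mk_eq_of_mem_relClass N y.2,
      QuotientGroup.mk_inv, mul_inv_cancel]
  have hconj : ∀ (g : G) (n : N) (x : G), x ∈ relClass N g →
      (n : G) * x * (n : G)⁻¹ ∈ relClass N g := fun g n x hx => by
    obtain ⟨m, rfl⟩ := (mem_relClass N).mp hx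
    exact (mem_relClass N).mpr ⟨n * m, by simp [mul_assoc]⟩
  let act : ∀ (g : G), N → relClass N g ≃ relClass N g := fun g n =>
    { toFun := fun x => ⟨(n : G) * x * (n : G)⁻¹, hconj g n x x.2⟩
      invFun := fun x => ⟨((n⁻¹ : N) : G) * x * ((n⁻¹ : N) : G)⁻¹, hconj g n⁻¹ x x.2⟩
      left_inv := fun x => Subtype.ext (by push_cast; group)
      right_inv := fun x => Subtype.ext (by push_cast; group) }
  let S : Module.End ℂ (Fin d → ℂ) := ∑ x : relClass N c, σ ⟨_, hX x⟩
  let S' : Module.End ℂ (Fin d → ℂ) := ∑ y : relClass N c⁻¹, σ ⟨_, hY y⟩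
  have hint : ∀ n : N, σ n * S = S * σ (MulAut.conjNormal c n) := by
    intro n
    simp only [S, Finset.mul_sum, Finset.sum_mul, ← map_mul]
    refine Fintype.sum_equiv (act c n) _ _ fun x => congrArg σ (Subtype.ext ?_)
    show (n : G) * ((x : G) * c⁻¹) = (n : G) * x * (n : G)⁻¹ * c⁻¹ * (c * n * c⁻¹)
    group
  -- the intertwiner is not zero
  have hS : S ≠ 0 := by
    intro hS0
    let Q := relClass N c × relClass N c⁻¹
    have hQ : ∀ q : Q, (q.1 : G) * (q.2 : G) ∈ N := fun q => by
      have h := N.mul_mem (hX q.1) (hY q.2)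
      rwa [show (q.1 : G) * c⁻¹ * (c * (q.2 : G)) = (q.1 : G) * q.2 by group] at h
    let F : Q → N := fun q => ⟨_, hQ q⟩
    let f : N → ℂ := fun n => (((Finset.univ : Finset Q).filter fun q => F q = n).card : ℂ)
    have hf : IsClassFunction N f := by
      intro m n
      show (((Finset.univ : Finset Q).filter fun q => F q = n * m * n⁻¹).card : ℂ) = _
      refine congrArg (fun t : ℕ => (t : ℂ)) (Finset.card_bij
        (fun q _ => ((act c n).symm q.1, (act c⁻¹ n).symm q.2)) (fun q hq => ?_)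
        (fun a _ b _ h => ?_) fun q hq => ?_)
      · refine Finset.mem_filter.mpr ⟨Finset.mem_univ _, Subtype.ext ?_⟩
        have h := congrArg (Subtype.val : N → G) (Finset.mem_filter.mp hq).2
        have h' : (q.1 : G) * q.2 = (n : G) * m * (n : G)⁻¹ := h
        show ((n⁻¹ : N) : G) * q.1 * ((n⁻¹ : N) : G)⁻¹ *
          (((n⁻¹ : N) : G) * q.2 * ((n⁻¹ : N) : G)⁻¹) = m
        push_cast
        calc (n : G)⁻¹ * q.1 * ((n : G)⁻¹)⁻¹ * ((n : G)⁻¹ * q.2 * ((n : G)⁻¹)⁻¹)
            = (n : G)⁻¹ * ((q.1 : G) * q.2) * n := by group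
          _ = m := by rw [h']; group
      · exact Prod.ext ((act c n).symm.injective (congrArg Prod.fst h))
          ((act c⁻¹ n).symm.injective (congrArg Prod.snd h))
      · refine ⟨(act c n q.1, act c⁻¹ n q.2),
          Finset.mem_filter.mpr ⟨Finset.mem_univ _, Subtype.ext ?_⟩, by simp⟩
        have h := congrArg (Subtype.val : N → G) (Finset.mem_filter.mp hq).2
        have h' : (q.1 : G) * q.2 = m := h
        show (n : G) * q.1 * (n : G)⁻¹ * ((n : G) * q.2 * (n : G)⁻¹) = (n : G) * m * (n : G)⁻¹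
        rw [← h']; group
    have hprod : ∑ q : Q, σ (F q) = S * S' := by
      simp only [S, S', Finset.sum_mul_sum, ← map_mul, Q]
      rw [Fintype.sum_prod_type]
      refine Finset.sum_congr rfl fun x _ => Finset.sum_congr rfl fun y _ => congrArg σ
        (Subtype.ext ?_)
      show (x : G) * y = (x : G) * c⁻¹ * (c * y)
      group
    have hgrp : ∀ g : N → ℂ, ∑ n, f n * g n = ∑ q : Q, g (F q) := by
      intro g
      rw [← Finset.sum_fiberwise Finset.univ F fun q => g (F q)]
      refine Finset.sum_congr rfl fun n _ => ?_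
      rw [Finset.sum_congr rfl (g := fun _ => g n) fun q hq => by
        rw [(Finset.mem_filter.mp hq).2], Finset.sum_const, nsmul_eq_mul]
    have h1 : vec f θ = 0 := by
      rw [vec, hgrp, ← hσθ]
      show (∑ q : Q, LinearMap.trace ℂ _ (σ (F q))) / _ = 0
      rw [← map_sum, hprod, hS0, zero_mul, map_zero, zero_div]
    have h2 : vec f (trivChar N) = (((relClass N c).card * (relClass N c⁻¹).card : ℕ) : ℂ) := by
      rw [vec, trivChar_coe, div_one, hgrp (fun _ => 1), Finset.sum_const, nsmul_eq_mul, mul_one,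
        Finset.card_univ, Fintype.card_prod, Fintype.card_coe, Fintype.card_coe]
    haveI : Finite (ConjClasses N) := Quotient.finite _
    haveI := Fintype.ofFinite (ConjClasses N)
    have h3 : MemLocalIdeal M (vec f (trivChar N) - vec f θ) := by
      rw [sum_mul_char_eq hf, sum_mul_char_eq hf, ← Finset.sum_sub_distrib]
      refine memLocalIdeal_sum hM _ _ fun C _ => ?_
      rw [← mul_sub]
      exact memLocalIdeal_mul_left hM (natCast_mem_locRing hM _) (hθ C.out)
    rw [h1, sub_zero, h2, memLocalIdeal_natCast_iff hM, (Fact.out : p.Prime).dvd_mul] at h3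
    rcases h3 with h3 | h3
    · exact not_dvd_card_relClass N P hc h3
    · exact not_dvd_card_relClass N P (inv_mem hc) h3
  have hinj : Function.Injective S := by
    rw [← LinearMap.ker_eq_bot]
    refine ((Char.isIrreducible_iff_submodule σ).mp hσ).2 (LinearMap.ker S) ?_ |>.resolve_right
      fun h => hS (LinearMap.ker_eq_top.mp h)
    intro m x hx
    have hm : MulAut.conjNormal c ((MulAut.conjNormal c).symm m) = m :=
      MulEquiv.apply_symm_apply _ m
    have h := LinearMap.congr_fun (hint ((MulAut.conjNormal c).symm m)) x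
    rw [hm, Module.End.mul_apply, Module.End.mul_apply, LinearMap.mem_ker.mp hx, map_zero] at h
    exact LinearMap.mem_ker.mpr h.symm
  let Se : (Fin d → ℂ) ≃ₗ[ℂ] (Fin d → ℂ) := LinearEquiv.ofInjectiveEndo S hinj
  funext n
  show (θ : N → ℂ) (MulAut.conjNormal c n) = (θ : N → ℂ) n
  rw [← hσθ]
  show LinearMap.trace ℂ _ (σ (MulAut.conjNormal c n)) = LinearMap.trace ℂ _ (σ n)
  rw [← LinearMap.trace_conj' (σ (MulAut.conjNormal c n)) Se]
  congr 1
  refine LinearMap.ext fun x => ?_
  rw [LinearEquiv.conj_apply_apply]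
  have h := LinearMap.congr_fun (hint n) (Se.symm x)
  rw [Module.End.mul_apply, Module.End.mul_apply] at h
  show S (σ (MulAut.conjNormal c n) (Se.symm x)) = σ n x
  rw [← h]
  exact congrArg (σ n) (Se.apply_symm_apply x)

/-- Characters of the principal block of `N` are invariant in `G`. -/
theorem invariant_of_covered (hM : IsPModular p M) (P : Sylow p N)
    (hcov : N ⊔ Subgroup.centralizer (((P : Subgroup N).map N.subtype : Subgroup G) : Set G) = ⊤)
    (θ : IrrCharacter N) (hθ : θ ∈ principalBlock M N) (g : G) :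
    Char.conjTwist N (θ : N → ℂ) g = (θ : N → ℂ) := by
  have hle : N ⊔ Subgroup.centralizer (((P : Subgroup N).map N.subtype : Subgroup G) : Set G) ≤
      Char.inertia N (θ : N → ℂ) :=
    sup_le (Char.le_inertia N θ.2.isClassFunction) fun c hc =>
      conjTwist_eq_of_centralizer N hM P hc θ hθ
  exact hle (hcov ▸ Subgroup.mem_top g)

/-- Over a normal subgroup `R`, a central subgroup can be cut down to its `p'`-part when
`R ⊔ Z` has index prime to `p`. -/
theorem exists_prime_to_complement {E : Type u} [Group E] [Finite E] {q : ℕ} [Fact q.Prime]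
    (R Z : Subgroup E) [R.Normal] (hZ : Z ≤ Subgroup.center E) (hidx : ¬ q ∣ (R ⊔ Z).index) :
    ∃ L : Subgroup E, R ≤ L ∧ L ⊔ Z = ⊤ ∧ ∃ m, ¬ q ∣ m ∧ ∀ z ∈ L, z ^ m ∈ R := by
  classical
  let mk := QuotientGroup.mk' R
  have hmk : Function.Surjective mk := QuotientGroup.mk'_surjective R
  let Zb := Z.map mk
  have hZb : Zb ≤ Subgroup.center (E ⧸ R) := by
    rintro _ ⟨z, hz, rfl⟩
    rw [Subgroup.mem_center_iff]
    intro x
    obtain ⟨e, rfl⟩ := hmk x
    rw [← map_mul, ← map_mul, Subgroup.mem_center_iff.mp (hZ hz) e]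
  haveI hZn : Zb.Normal := ⟨fun z hz x => by
    rw [Subgroup.mem_center_iff.mp (hZb hz) x, mul_inv_cancel_right]; exact hz⟩
  have hZidx : Zb.index = (R ⊔ Z).index := by
    rw [show Zb = Z.map mk from rfl, Subgroup.index_map, MonoidHom.range_eq_top.mpr hmk,
      Subgroup.index_top, mul_one, QuotientGroup.ker_mk', sup_comm]
  obtain ⟨Sb⟩ : Nonempty (Sylow q (E ⧸ R)) := inferInstance
  have hSZ : (Sb : Subgroup (E ⧸ R)) ≤ Zb := by
    intro s hs
    obtain ⟨a, ha⟩ := Sb.2 ⟨s, hs⟩
    have h1 : ((s : E ⧸ R) : (E ⧸ R) ⧸ Zb) ^ q ^ a = 1 := by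
      rw [← QuotientGroup.mk_pow, show s ^ q ^ a = 1 from congrArg Subtype.val ha,
        QuotientGroup.mk_one]
    have h2 : orderOf ((s : E ⧸ R) : (E ⧸ R) ⧸ Zb) ∣ (R ⊔ Z).index := by
      rw [← hZidx, Subgroup.index_eq_card]; exact orderOf_dvd_natCard _
    have h3 := Nat.eq_one_of_dvd_coprimes
      (Nat.Coprime.pow_left a ((Fact.out : q.Prime).coprime_iff_not_dvd.mpr hidx))
      (orderOf_dvd_of_pow_eq_one h1) h2
    exact (QuotientGroup.eq_one_iff s).mp (orderOf_eq_one_iff.mp h3)
  haveI : (Sb : Subgroup (E ⧸ R)).Normal := ⟨fun s hs x => by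
    rw [Subgroup.mem_center_iff.mp (hZb (hSZ hs)) x, mul_inv_cancel_right]; exact hs⟩
  obtain ⟨K, hK⟩ :=
    Subgroup.exists_right_complement'_of_coprime (N := (Sb : Subgroup (E ⧸ R))) Sb.card_coprime_index
  refine ⟨K.comap mk, fun r hr => ?_, ?_, Nat.card K, ?_, fun z hz => ?_⟩
  · rw [Subgroup.mem_comap, show mk r = 1 from (QuotientGroup.eq_one_iff r).mpr hr]
    exact one_mem K
  · rw [eq_top_iff]
    intro e _
    obtain ⟨⟨s, k⟩, hsk⟩ := hK.2 (mk e)
    obtain ⟨z, hz, hzs⟩ := hSZ s.2
    rw [← mul_inv_cancel_left z e, Subgroup.mem_center_iff.mp (hZ hz) (z⁻¹ * e) |>.symm]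
    refine mul_mem (Subgroup.mem_sup_left ?_) (Subgroup.mem_sup_right hz)
    rw [Subgroup.mem_comap, map_mul, map_inv, hzs, ← hsk, inv_mul_cancel_left]
    exact k.2
  · rw [← hK.symm.index_eq_card]
    exact Sb.not_dvd_index
  · have h : (⟨mk z, hz⟩ : K) ^ Nat.card K = 1 := pow_card_eq_one'
    rw [← QuotientGroup.eq_one_iff, QuotientGroup.mk_pow]
    exact congrArg Subtype.val h

/-- A character of the principal block of `N` extends into that of `G` when the index is prime
to `p`. -/
theorem exists_principal_extension_of_index (hM : IsPModular p M) (hidx : ¬ p ∣ N.index)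
    (P : Sylow p N)
    (hcov : N ⊔ Subgroup.centralizer (((P : Subgroup N).map N.subtype : Subgroup G) : Set G) = ⊤)
    (θ : IrrCharacter N) (hθ : θ ∈ principalBlock M N) :
    ∃ χ : IrrCharacter G, χ ∈ principalBlock M G ∧ ∀ n : N, (χ : G → ℂ) n = (θ : N → ℂ) n := by
  classical
  obtain ⟨d, σ, hσ, hσθ⟩ := θ.2
  haveI := hσ
  have hinv : ∀ (g : G) (n : N), σ.character (MulAut.conjNormal g n) = σ.character n := fun g n => by
    rw [hσθ]; exact congrFun (invariant_of_covered N hM P hcov θ hθ g) n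
  haveI := Char.extGroup_nontrivial σ
  have hd : d ≠ 0 := by
    have h := Char.irreducible_finrank_pos σ
    rw [Module.finrank_fintype_fun_eq_card, Fintype.card_fin] at h
    exact h.ne'
  -- a finite subgroup of the extension group
  let dt : Char.extGroup σ →* ℂˣ :=
    (LinearMap.det.comp (Char.extOp σ)).toHomUnits ^ Nat.card G
  let E := dt.ker
  have hscal : ∀ c : ℂˣ, dt (Char.extScalar σ c) = c ^ (d * Nat.card G) := by
    intro c
    apply Units.ext
    show ((((LinearMap.det.comp (Char.extOp σ)).toHomUnits ^ Nat.card G)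
      (Char.extScalar σ c) : ℂˣ) : ℂ) = _
    rw [MonoidHom.pow_apply, Units.val_pow_eq_pow_val, MonoidHom.coe_toHomUnits,
      MonoidHom.comp_apply, Char.extOp_extScalar, LinearMap.det_smul, map_one, mul_one,
      Module.finrank_fintype_fun_eq_card, Fintype.card_fin, Units.val_pow_eq_pow_val, pow_mul]
  have hgr : ∀ n : N, Char.extGraph σ n ∈ E := by
    intro n
    rw [MonoidHom.mem_ker]
    show ((LinearMap.det.comp (Char.extOp σ)).toHomUnits ^ Nat.card G) _ = 1
    rw [MonoidHom.pow_apply, ← map_pow, ← map_pow,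
      show n ^ Nat.card G = 1 from Subtype.ext (by rw [Subgroup.coe_pow]; exact pow_card_eq_one'),
      map_one, map_one]
  let π : E →* G := (Char.extProj σ).comp E.subtype
  have hπ : Function.Surjective π := by
    intro g
    obtain ⟨e, he⟩ := Char.extProj_surjective σ hinv g
    obtain ⟨r, hr⟩ := IsAlgClosed.exists_pow_nat_eq ((dt e)⁻¹ : ℂˣ).val
      (Nat.pos_of_ne_zero (mul_ne_zero hd Nat.card_pos.ne') : 0 < d * Nat.card G)
    have hr0 : r ≠ 0 := fun h => by
      rw [h, zero_pow (mul_ne_zero hd Nat.card_pos.ne')] at hr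
      exact Units.ne_zero _ hr.symm
    refine ⟨⟨e * Char.extScalar σ (Units.mk0 r hr0), ?_⟩, ?_⟩
    · rw [MonoidHom.mem_ker, map_mul, hscal]
      refine mul_eq_one_iff_eq_inv'.mpr ?_
      exact Units.ext (by rw [Units.val_pow_eq_pow_val, Units.val_mk0, hr])
    · show Char.extProj σ (e * Char.extScalar σ (Units.mk0 r hr0)) = g
      rw [map_mul, Char.extProj_extScalar, mul_one, he]
  haveI : NeZero (d * Nat.card G) := ⟨mul_ne_zero hd Nat.card_pos.ne'⟩
  have hfin : Finite π.ker := by
    have hex : ∀ z : π.ker, ∃ c : rootsOfUnity (d * Nat.card G) ℂ,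
        ((z : E) : Char.extGroup σ) = Char.extScalar σ c := by
      intro z
      obtain ⟨c, hc⟩ := Char.exists_scalar_of_extProj_eq_one σ (MonoidHom.mem_ker.mp z.2)
      refine ⟨⟨c, ?_⟩, hc⟩
      rw [mem_rootsOfUnity, ← hscal, ← hc]
      exact MonoidHom.mem_ker.mp (z : E).2
    choose f hf using hex
    exact Finite.of_injective f fun a b h => Subtype.ext (Subtype.ext (by rw [hf, hf, h]))
  haveI : Finite E := by
    haveI : Finite (E ⧸ π.ker) :=
      Finite.of_equiv G (QuotientGroup.quotientKerEquivOfSurjective π hπ).symm.toEquiv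
    exact Finite.of_subgroup_quotient π.ker
  -- the copy of `N`
  let gr : N →* E := (Char.extGraph σ).codRestrict E hgr
  haveI : gr.range.Normal := ⟨by
    rintro _ ⟨n, rfl⟩ e
    exact ⟨_, Subtype.ext ((Char.conj_extGraph σ (e : Char.extGroup σ) n).symm)⟩⟩
  have hcentral : ∀ z : E, π z = 1 → ∀ e : E, Commute z e := by
    intro z hz e
    obtain ⟨c, hc⟩ := Char.exists_scalar_of_extProj_eq_one σ (e := (z : Char.extGroup σ)) hz
    apply Subtype.ext
    show (z : Char.extGroup σ) * e = e * z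
    rw [hc]
    exact Char.extScalar_comm σ c e
  have hπgr : ∀ n : N, π (gr n) = (n : G) := fun n => Char.extProj_extGraph σ n
  have hsupidx : ¬ p ∣ (gr.range ⊔ π.ker).index := by
    have e1 : gr.range ⊔ π.ker = N.comap π := by
      refine le_antisymm (sup_le ?_ fun z hz => ?_) fun e he => ?_
      · rintro _ ⟨n, rfl⟩
        rw [Subgroup.mem_comap, hπgr]; exact n.2
      · rw [Subgroup.mem_comap, MonoidHom.mem_ker.mp hz]; exact one_mem N
      · rw [← mul_inv_cancel_left (gr ⟨π e, he⟩) e]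
        refine mul_mem (Subgroup.mem_sup_left ⟨_, rfl⟩) (Subgroup.mem_sup_right ?_)
        rw [MonoidHom.mem_ker, map_mul, map_inv, hπgr, inv_mul_cancel]
    rw [e1, Subgroup.index_comap_of_surjective N hπ]
    exact hidx
  obtain ⟨L, hRL, hLZ, mo, hmo, hLm⟩ := exists_prime_to_complement (q := p) gr.range π.ker
    (fun z hz => Subgroup.mem_center_iff.mpr fun e =>
      (hcentral z (MonoidHom.mem_ker.mp hz) e).eq.symm) hsupidx
  haveI := Fintype.ofFinite L
  have hgrL : ∀ n, gr n ∈ L := fun n => hRL ⟨n, rfl⟩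
  let f : L →* G := π.comp L.subtype
  have hf : Function.Surjective f := by
    intro g
    obtain ⟨e, he⟩ := hπ g
    have he' : e ∈ L ⊔ π.ker := hLZ ▸ Subgroup.mem_top e
    rw [← SetLike.mem_coe, Subgroup.mul_normal] at he'
    obtain ⟨l, hl, z, hz, rfl⟩ := Set.mem_mul.mp he'
    refine ⟨⟨l, hl⟩, ?_⟩
    rw [map_mul, MonoidHom.mem_ker.mp hz, mul_one] at he
    exact he
  let g₂ : N →* L := gr.codRestrict L hgrL
  have hfg₂ : ∀ n : N, f (g₂ n) = (n : G) := fun n => Char.extProj_extGraph σ n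
  have hg₂inj : Function.Injective g₂ := fun a b h => Subtype.ext (by
    rw [← hfg₂ a, ← hfg₂ b, h])
  let eN := MonoidHom.ofInjective hg₂inj
  haveI : g₂.range.Normal := ⟨by
    rintro _ ⟨n, rfl⟩ l
    exact ⟨_, Subtype.ext (Subtype.ext
      ((Char.conj_extGraph σ ((l : E) : Char.extGroup σ) n).symm))⟩⟩
  haveI := Fintype.ofFinite g₂.range
  let P₂ : Sylow p g₂.range := P.mapSurjective (f := eN.toMonoidHom) eN.surjective
  have hcovL : g₂.range ⊔ Subgroup.centralizer
      (((P₂ : Subgroup g₂.range).map g₂.range.subtype : Subgroup L) : Set L) = ⊤ := by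
    rw [eq_top_iff]
    intro l _
    have hg : f l ∈ (N ⊔ Subgroup.centralizer
        (((P : Subgroup N).map N.subtype : Subgroup G) : Set G) : Subgroup G) :=
      hcov ▸ Subgroup.mem_top _
    rw [← SetLike.mem_coe, Subgroup.normal_mul] at hg
    obtain ⟨n, hn, c, hc, hnc⟩ := Set.mem_mul.mp hg
    rw [← mul_inv_cancel_left (g₂ ⟨n, hn⟩) l]
    refine mul_mem (Subgroup.mem_sup_left ⟨_, rfl⟩) (Subgroup.mem_sup_right ?_)
    rw [Subgroup.mem_centralizer_iff]
    rintro _ ⟨y, hy, rfl⟩
    obtain ⟨x, hx, rfl⟩ : ∃ x ∈ (P : Subgroup N), eN.toMonoidHom x = y := hy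
    set l₂ := (g₂ ⟨n, hn⟩)⁻¹ * l
    have hl₂ : f l₂ = c := by
      rw [map_mul, map_inv, hfg₂, ← hnc, inv_mul_cancel_left]
    show g₂ x * l₂ = l₂ * g₂ x
    apply Subtype.ext
    apply Subtype.ext
    show Char.extGraph σ x * ((l₂ : E) : Char.extGroup σ) = _ * Char.extGraph σ x
    have h := Char.conj_extGraph σ ((l₂ : E) : Char.extGroup σ) x
    have hfix : MulAut.conjNormal (Char.extProj σ ((l₂ : E) : Char.extGroup σ)) x = x := by
      apply Subtype.ext
      have hcx : (x : G) * c = c * x := Subgroup.mem_centralizer_iff.mp hc _ ⟨x, hx, rfl⟩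
      rw [MulAut.conjNormal_apply, show Char.extProj σ ((l₂ : E) : Char.extGroup σ) = c from hl₂,
        ← hcx, mul_inv_cancel_right]
    rw [hfix] at h
    exact (mul_inv_eq_iff_eq_mul.mp h).symm
  -- the extension to `L`
  let θ₂ : IrrCharacter g₂.range := compIrr eN.symm θ
  have hθ₂ : θ₂ ∈ principalBlock M g₂.range := by
    have h : SameBlock M (compIrr eN.symm (trivChar N) : g₂.range → ℂ) (θ₂ : g₂.range → ℂ) :=
      (sameBlock_compIrr _ _ _).mpr hθ
    exact h
  let ρL : Representation ℂ L (Fin d → ℂ) := (Char.extOp σ).comp (E.subtype.comp L.subtype)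
  have hρL : ∀ n : N, ρL (g₂ n) = σ n := fun n => Char.extOp_extGraph σ n
  haveI : ρL.IsIrreducible := by
    have hσ' := (Char.isIrreducible_iff_submodule σ).mp hσ
    rw [Char.isIrreducible_iff_submodule]
    exact ⟨hσ'.1, fun q hq => hσ'.2 q fun n x hx => hρL n ▸ hq (g₂ n) x hx⟩
  obtain ⟨χL, hχL, hJ⟩ := exists_principal_extension g₂.range hM P₂ hcovL θ₂ hθ₂
    ⟨⟨ρL.character, Char.isIrrCharacter_character ρL⟩, fun y => by
      obtain ⟨n, rfl⟩ := eN.surjective y
      show ρL.character (g₂ n) = (θ : N → ℂ) (eN.symm (eN n))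
      rw [MulEquiv.symm_apply_apply, ← hσθ]
      exact congrArg (LinearMap.trace ℂ _) (hρL n)⟩
  obtain ⟨ξ, hξ, hξval⟩ := hJ ⊤ le_top
  have hprin := mem_principal_of_top χL hξ hξval
  -- the kernel acts trivially
  obtain ⟨d₂, τ, hτ, hτχ⟩ := χL.2
  haveI := hτ
  have hker : ∀ z ∈ f.ker, (χL : L → ℂ) z = (χL : L → ℂ) 1 := by
    intro z hz
    have hz1 : π (z : E) = 1 := hz
    have hcomm : ∀ l : L, Commute z l := fun l => Subtype.ext (hcentral (z : E) hz1 (l : E)).eq
    have hord : ¬ p ∣ orderOf z := by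
      obtain ⟨m, hm⟩ := hLm (z : E) z.2
      have h2 : (m : G) = 1 := by
        rw [← hπgr m, hm, map_pow, hz1, one_pow]
      have h4 : z ^ mo = 1 := Subtype.ext (by
        rw [Subgroup.coe_pow, ← hm, show m = 1 from Subtype.ext h2, map_one]
        rfl)
      exact fun h => hmo (h.trans (orderOf_dvd_of_pow_eq_one h4))
    obtain ⟨a, ha⟩ := Char.exists_smul_of_comm τ (τ z) fun l => by
      rw [← map_mul, ← map_mul, (hcomm l).eq]
    have hnt : Nontrivial (Fin d₂ → ℂ) := ((Char.isIrreducible_iff_submodule τ).mp hτ).1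
    have hapow : a ^ orderOf z = 1 := by
      refine Char.smul_one_injective (W := Fin d₂ → ℂ) ?_
      have h1 : τ z ^ orderOf z = 1 := by rw [← map_pow, pow_orderOf_eq_one, map_one]
      rw [ha, smul_pow, one_pow] at h1
      rw [one_smul]
      exact h1
    have hval : (χL : L → ℂ) z = a * (χL : L → ℂ) 1 := by
      rw [← hτχ, Representation.char_one]
      show LinearMap.trace ℂ _ (τ z) = _
      rw [ha, map_smul, LinearMap.trace_one, smul_eq_mul]
    have hidx1 : (Subgroup.centralizer ({z} : Set L)).index = 1 := by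
      rw [Subgroup.index_eq_one, eq_top_iff]
      intro l _
      exact Subgroup.mem_centralizer_singleton_iff.mpr (hcomm l).eq.symm
    have h := hprin z
    simp only [centralChar, hidx1, hval, Nat.cast_one, one_mul, div_one,
      mul_div_cancel_right₀ _ χL.2.apply_one_ne_zero] at h
    have h' : MemLocalIdeal M (a - 1) := by simpa using memLocalIdeal_neg hM h
    rw [hval, eq_one_of_memLocalIdeal_sub_one hM hord hapow h', one_mul]
  obtain ⟨ψ, hψ, hψχ⟩ := Char.exists_deflate_irr f.ker χL.2 hker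
  let q := QuotientGroup.quotientKerEquivOfSurjective f hf
  have hq : ∀ l : L, q.symm (f l) = (l : L ⧸ f.ker) := fun l => by
    rw [MulEquiv.symm_apply_eq]; rfl
  obtain ⟨χ, hχres, hχJ⟩ := exists_principal_extension N hM P hcov θ hθ
    ⟨⟨fun g => ψ (q.symm g), Char.isIrrCharacter_comp_equiv q.symm hψ⟩, fun n => by
      show ψ (q.symm (n : G)) = _
      rw [← hfg₂ n, hq, hψχ]
      exact (hχL (eN n)).trans (congrArg (θ : N → ℂ) (eN.symm_apply_apply n))⟩
  obtain ⟨ξ', hξ', hξ'val⟩ := hχJ ⊤ le_top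
  exact ⟨χ, mem_principal_of_top χ hξ' hξ'val, hχres⟩

/-- A character of the principal block over `θ` is the principal extension of `θ`. -/
theorem eq_of_principal_over (hM : IsPModular p M) (P : Sylow p G) (hP : (P : Subgroup G) ≤ N)
    (hidx : ¬ p ∣ N.index)
    (hsup : N ⊔ Subgroup.centralizer ((P : Subgroup G) : Set G) = ⊤) {θ : N → ℂ}
    (hθ : IsIrrCharacter N θ) (hinv : ∀ g : G, Char.conjTwist N θ g = θ) {χ₀ χ : IrrCharacter G}
    (hχ₀ : χ₀ ∈ principalBlock M G) (hres : ∀ n : N, (χ₀ : G → ℂ) n = θ n)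
    (hχ : χ ∈ principalBlock M G)
    (hover : classInner (fun n : N => (χ : G → ℂ) n) θ ≠ 0) : χ = χ₀ := by
  classical
  have hone : ∀ g : G, Char.conjTwist N (fun _ => (1 : ℂ)) g = fun _ => 1 := fun g => rfl
  have h1θ : (fun _ : N => (1 : ℂ)) * θ = θ := funext fun n => one_mul _
  have hS : (χ : G → ℂ) ∈ {ψ : G → ℂ | IsIrrCharacter G ψ ∧
      classInner (indFun N ((fun _ : N => (1 : ℂ)) * θ)) ψ ≠ 0} := by
    refine ⟨χ.2, ?_⟩
    rw [h1θ, Char.classInner_indFun N θ χ.2.isClassFunction, ← Char.classInner_conj_symm]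
    exact fun e => hover ((map_eq_zero _).mp e)
  obtain ⟨β, ⟨hβ, hβind⟩, hβχ⟩ := (Char.gallagher_bijOn N Char.isIrrCharacter_one hone hinv
    (by rw [h1θ]; exact hθ) χ₀.2.isCharacter hres).surjOn hS
  have hker : ∀ n ∈ N, β n = β 1 := fun n hn => Char.apply_eq_of_constituent
    (Char.isCharacter_indFun N Char.isIrrCharacter_one.isCharacter) hβ hβind
    (Char.indFun_one_apply N ⟨n, hn⟩)
  obtain ⟨γ, hγ, hγβ⟩ := Char.exists_deflate_irr N hβ hker
  haveI := Fintype.ofFinite (G ⧸ N)
  obtain ⟨b, -, hb⟩ := hγ.exists_degree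
  have hb0 : (b : ℂ) ≠ 0 := hb ▸ hγ.apply_one_ne_zero
  have hbp : ¬ p ∣ b := fun h => hidx (by
    rw [Subgroup.index_eq_card]; exact h.trans (Char.degree_dvd_card hγ hb))
  have hβ1 : β 1 = (b : ℂ) := (hγβ 1).symm.trans hb
  have hχ01 := χ₀.2.apply_one_ne_zero
  have key : ∀ qc : G ⧸ N, MemLocalIdeal M (γ qc / (b : ℂ) - 1) := by
    intro qc
    obtain ⟨g, rfl⟩ := QuotientGroup.mk_surjective qc
    have hg : g ∈ (N ⊔ Subgroup.centralizer ((P : Subgroup G) : Set G) : Subgroup G) :=
      hsup ▸ Subgroup.mem_top _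
    rw [← SetLike.mem_coe, Subgroup.normal_mul] at hg
    obtain ⟨n, hn, c, hc, rfl⟩ := Set.mem_mul.mp hg
    rw [QuotientGroup.mk_mul, (QuotientGroup.eq_one_iff n).mpr hn, one_mul, hγβ]
    set r := (Subgroup.centralizer ({c} : Set G)).index with hr
    have hrp : ¬ p ∣ r := fun h => P.not_dvd_index (h.trans (Subgroup.index_dvd_of_le fun x hx =>
      Subgroup.mem_centralizer_singleton_iff.mpr (Subgroup.mem_centralizer_iff.mp hc x hx)))
    have h0 := hχ₀ c
    have h1 := hχ c
    simp only [centralChar, ← hr, ← hβχ, Pi.mul_apply, hβ1, div_one, mul_one] at h0 h1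
    have hbint : β c / (b : ℂ) ∈ locRing hM := by
      rw [div_eq_mul_inv]
      exact mul_mem (isIntegral_mem_locRing hM (hβ.isCharacter.isIntegral c))
        (inv_natCast_mem_locRing hM hbp)
    have h2 := memLocalIdeal_mul_left hM (inv_natCast_mem_locRing hM hrp)
      (memLocalIdeal_sub hM (memLocalIdeal_mul_left hM hbint h0) h1)
    have hr0 : (r : ℂ) ≠ 0 := Nat.cast_ne_zero.mpr fun h => hrp (h ▸ dvd_zero p)
    convert h2 using 1
    field_simp
    ring
  have hγ1 : γ = fun _ => 1 := by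
    by_contra hne
    have h0 : ∑ qc : G ⧸ N, γ qc = 0 := by
      have h := Char.classInner_irr_ne hγ Char.isIrrCharacter_one hne
      rw [classInner, mul_eq_zero,
        or_iff_right (inv_ne_zero (Nat.cast_ne_zero.mpr Nat.card_pos.ne'))] at h
      simpa using h
    have h1 := memLocalIdeal_sum hM Finset.univ (fun qc : G ⧸ N => γ qc / (b : ℂ) - 1)
      fun qc _ => key qc
    rw [Finset.sum_sub_distrib, ← Finset.sum_div, h0, zero_div, zero_sub, Finset.sum_const,
      nsmul_eq_mul, mul_one, Finset.card_univ, ← Nat.card_eq_fintype_card,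
      ← Subgroup.index_eq_card] at h1
    have h2 := memLocalIdeal_neg hM h1
    rw [neg_neg, memLocalIdeal_natCast_iff hM] at h2
    exact hidx h2
  apply Subtype.ext
  rw [← hβχ]
  funext g
  show β g * (χ₀ : G → ℂ) g = _
  rw [← hγβ, congrFun hγ1, one_mul]

end Cfsg.Lib.Block
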