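import Cfsg.Agent.Lib.Block.LocalMax
import Cfsg.Agent.Lib.Block.AbelianLocal
import Mathlib.RingTheory.ZMod.UnitsCyclic
import Mathlib.NumberTheory.Basic

/-!
# The inertial quotient of a block with a cyclic defect group
-/

set_option autoImplicit false
set_option linter.unusedSectionVars false
set_option maxHeartbeats 1000000

namespace Cfsg.Lib.Block

open Cfsg

universe u

local notation "C[" P "]" => Subgroup.centralizer (SetLike.coe P)

variable {p : ℕ} [Fact p.Prime] {M : Ideal AlgInt} {G : Type u} [Group G] [Fintype G]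
  (hM : IsPModular p M) {B : Set (IrrCharacter G)} {P : Subgroup G}
  {c : Set (IrrCharacter C[P])}

theorem comm_of_isCyclic (hcyc : IsCyclic P) : ∀ x ∈ P, ∀ y ∈ P, x * y = y * x := by
  intro x hx y hy
  haveI := hcyc
  exact congrArg Subtype.val ((IsCyclic.commGroup (α := P)).mul_comm ⟨x, hx⟩ ⟨y, hy⟩)

variable (hB : IsPBlock M B) (hD : IsDefectGroup p M B P) (hcyc : IsCyclic P)
  (hc : IsInducedBlock M C[P] c B) {T : Subgroup G}
  (hT : ∀ g : G, g ∈ T ↔ g ∈ Subgroup.normalizer (P : Set G) ∧ StabilizesBlock C[P] c g)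

include hM hB hD hcyc hc hT

theorem inertial_not_dvd : ¬ p ∣ (C[P]).relIndex T := by
  have h := not_dvd_relIndex_of_maximal hM
    (maximal_of_root hM hB hD (comm_of_isCyclic hcyc) hc) hT
  rwa [sup_eq_right.2 (le_centralizer_of_abelian (comm_of_isCyclic hcyc) le_rfl)] at h

theorem inertial_hom :
    ∃ φ : T →* MulAut P, φ.ker = (C[P]).subgroupOf T ∧
      ∀ (g : T) (z : P), ((φ g z : P) : G) = g * z * (g : G)⁻¹ := by
  have hTN : T ≤ Subgroup.normalizer (P : Set G) := fun g hg => ((hT g).1 hg).1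
  refine ⟨P.normalizerMonoidHom.comp (Subgroup.inclusion hTN), ?_, fun g z => rfl⟩
  ext g
  rw [MonoidHom.mem_ker, MonoidHom.comp_apply, ← MonoidHom.mem_ker,
    Subgroup.normalizerMonoidHom_ker, Subgroup.mem_subgroupOf, Subgroup.mem_subgroupOf]
  rfl

/-- The inertial index divides `p - 1`. -/
theorem inertial_dvd : (C[P]).relIndex T ∣ p - 1 := by
  haveI := hcyc
  obtain ⟨φ, hφ, -⟩ := inertial_hom hM hB hD hcyc hc hT
  obtain ⟨n, hn⟩ := IsPGroup.iff_card.1 (isPGroup_defectGroup hM hD)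
  have h := Subgroup.card_dvd_of_injective _ (QuotientGroup.kerLift_injective φ)
  rw [hφ, IsCyclic.card_mulAut, hn, ← Subgroup.index_eq_card] at h
  change (C[P]).relIndex T ∣ _ at h
  rcases Nat.eq_zero_or_pos n with h0 | h0
  · rw [h0, pow_zero, Nat.totient_one] at h
    exact h.trans (one_dvd _)
  · rw [Nat.totient_prime_pow (Fact.out : p.Prime) h0] at h
    refine (Nat.Coprime.dvd_mul_left ?_).1 h
    exact Nat.Coprime.pow_right _
      (((Fact.out : p.Prime).coprime_iff_not_dvd.2 (inertial_not_dvd hM hB hD hcyc hc hT)).symm)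

/-- The inertial quotient is cyclic. -/
theorem inertial_cyclic [((C[P]).subgroupOf T).Normal] : IsCyclic (T ⧸ (C[P]).subgroupOf T) := by
  haveI := hcyc
  rcases eq_or_ne p 2 with h2 | h2
  · have h := inertial_dvd hM hB hD hcyc hc hT
    rw [h2, Nat.dvd_one] at h
    haveI : Subsingleton (T ⧸ (C[P]).subgroupOf T) :=
      (Nat.card_eq_one_iff_unique.1 ((Subgroup.index_eq_card _).symm.trans h)).1
    infer_instance
  obtain ⟨φ, hφ, -⟩ := inertial_hom hM hB hD hcyc hc hT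
  obtain ⟨n, hn⟩ := IsPGroup.iff_card.1 (isPGroup_defectGroup hM hD)
  haveI : IsCyclic (ZMod (Nat.card P))ˣ := by
    rw [hn]
    exact ZMod.isCyclic_units_of_prime_pow p (Fact.out : p.Prime) h2 n
  haveI : IsCyclic (MulAut P) :=
    isCyclic_of_injective (IsCyclic.mulAutMulEquiv P).toMonoidHom
      (IsCyclic.mulAutMulEquiv P).injective
  refine isCyclic_of_injective (QuotientGroup.lift _ φ hφ.ge) ?_
  rw [injective_iff_map_eq_one]
  intro q hq
  obtain ⟨g, rfl⟩ := QuotientGroup.mk_surjective q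
  refine (QuotientGroup.eq_one_iff _).2 ?_
  rw [← hφ]
  exact MonoidHom.mem_ker.2 hq

/-- The inertial quotient acts freely. -/
theorem inertial_free {g : G} (hg : g ∈ T) {x : G} (hx : x ∈ P) (hx1 : x ≠ 1)
    (hfix : g * x * g⁻¹ = x) : g ∈ C[P] := by
  haveI := hcyc
  have hTN : T ≤ Subgroup.normalizer (P : Set G) := fun g hg => ((hT g).1 hg).1
  obtain ⟨z0, hz0⟩ := IsCyclic.exists_generator (α := P)
  obtain ⟨n, hn⟩ := IsPGroup.iff_card.1 (isPGroup_defectGroup hM hD)
  have hord : orderOf (z0 : G) = p ^ n := by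
    rw [orderOf_submonoid, orderOf_eq_card_of_forall_mem_zpowers hz0, hn]
  obtain ⟨m, hm⟩ := hz0 ⟨_, (Subgroup.mem_normalizer_iff.1 (hTN hg) (z0 : G)).1 z0.2⟩
  have hm' : g * (z0 : G) * g⁻¹ = (z0 : G) ^ m := (congrArg Subtype.val hm).symm
  -- the multiplier is one modulo `p`
  obtain ⟨j, hj⟩ := hz0 ⟨x, hx⟩
  have hj' : (z0 : G) ^ j = x := congrArg Subtype.val hj
  have hdiv : (p : ℤ) ∣ m - 1 := by
    by_contra hnd
    have h1 : (z0 : G) ^ ((m - 1) * j) = 1 := by
      rw [sub_mul, one_mul, zpow_sub, zpow_mul, ← hm', conj_zpow, hj', hfix, mul_inv_cancel]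
    rw [← orderOf_dvd_iff_zpow_eq_one, hord] at h1
    push_cast at h1
    have hco : IsCoprime ((p : ℤ) ^ n) (m - 1) :=
      ((Prime.coprime_iff_not_dvd (Nat.prime_iff_prime_int.1 Fact.out)).2 hnd).pow_left
    refine hx1 ?_
    rw [← hj', ← orderOf_dvd_iff_zpow_eq_one, hord]
    push_cast
    exact hco.dvd_of_dvd_mul_left h1
  have hpow : ∀ k : ℕ, g ^ k * (z0 : G) * (g ^ k)⁻¹ = (z0 : G) ^ (m ^ k) := by
    intro k
    induction k with
    | zero => simp
    | succ k ih =>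
      rw [pow_succ' g, show g * g ^ k * (z0 : G) * (g * g ^ k)⁻¹ =
        g * (g ^ k * (z0 : G) * (g ^ k)⁻¹) * g⁻¹ by group, ih, ← conj_zpow, hm', ← zpow_mul,
        pow_succ']
  have hgpn : g ^ (p ^ n) ∈ C[P] := by
    have h1 : ((p ^ n : ℕ) : ℤ) ∣ m ^ (p ^ n) - 1 := by
      have h := dvd_sub_pow_of_dvd_sub hdiv n
      rw [one_pow] at h
      push_cast
      exact (pow_dvd_pow _ n.le_succ).trans h
    have h2 : g ^ (p ^ n) * (z0 : G) * (g ^ (p ^ n))⁻¹ = z0 := by
      rw [hpow, ← mul_inv_eq_one, ← zpow_sub_one, ← orderOf_dvd_iff_zpow_eq_one, hord]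
      exact h1
    refine Subgroup.mem_centralizer_iff.2 fun z hz => ?_
    obtain ⟨i, hi⟩ := hz0 ⟨z, hz⟩
    rw [← show (z0 : G) ^ i = z from congrArg Subtype.val hi]
    exact ((show Commute (g ^ (p ^ n)) (z0 : G) from mul_inv_eq_iff_eq_mul.1 h2).symm.zpow_left i).eq
  haveI hnorm : ((C[P]).subgroupOf T).Normal := by
    obtain ⟨φ, hφ, -⟩ := inertial_hom hM hB hD hcyc hc hT
    rw [← hφ]; infer_instance
  have hge : g ^ (C[P]).relIndex T ∈ C[P] :=
    Subgroup.mem_subgroupOf.1 (((C[P]).subgroupOf T).pow_index_mem ⟨g, hg⟩)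
  have hcop : Nat.gcd (p ^ n) ((C[P]).relIndex T) = 1 :=
    Nat.Coprime.pow_left n
      ((Fact.out : p.Prime).coprime_iff_not_dvd.2 (inertial_not_dvd hM hB hD hcyc hc hT))
  have h := Nat.gcd_eq_gcd_ab (p ^ n) ((C[P]).relIndex T)
  rw [hcop] at h
  rw [← zpow_one g, show (1 : ℤ) = ((1 : ℕ) : ℤ) by simp, h, zpow_add, zpow_mul, zpow_mul,
    zpow_natCast, zpow_natCast]
  exact mul_mem (zpow_mem hgpn _) (zpow_mem hge _)

end Cfsg.Lib.Block
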