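import Cfsg.Agent.Lib.Block.StarCount

/-!
# Blocks with abelian defect group and an element fixed by the inertial group

The traces of the star action count characters by weighted ranks along the cosets of the
commutator of the inertial group, which compares the block with the block at a fixed element.
-/

set_option autoImplicit false
set_option linter.unusedSectionVars false
set_option linter.style.haveILetI false
set_option maxHeartbeats 1600000

namespace Cfsg.Lib.Block

open Cfsg
open scoped ComplexConjugate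

universe u

noncomputable local instance (priority := high) fintypeSubgroupStarAbelian {A : Type u} [Group A]
    [Fintype A] (H : Subgroup A) : Fintype H := Fintype.ofFinite H

local notation "C[" Q "]" => Subgroup.centralizer (SetLike.coe Q)

variable {p : ℕ} {M : Ideal AlgInt} (hM : IsPModular p M) {G : Type u} [Group G] [Fintype G]
  [Fact p.Prime] {B : Set (IrrCharacter G)} {P : Subgroup G} {c : Set (IrrCharacter C[P])}
  {T : Subgroup G}

open Classical in
/-- The rank of the block at a cyclic subgroup below `(P, c)`. -/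
noncomputable def lRank (p : ℕ) (M : Ideal AlgInt) (P : Subgroup G) (c : Set (IrrCharacter C[P]))
    (x : G) : ℕ :=
  if h : ∃ b : Set (IrrCharacter C[Subgroup.zpowers x]),
      SubpairLE p M (Subgroup.zpowers x) b P c
  then blockRank p h.choose else 0

/-- The order of the centralizer of an element inside `T`. -/
noncomputable def cCen (T : Subgroup G) (x : G) : ℕ :=
  Nat.card ↥(T ⊓ C[Subgroup.zpowers x])

include hM in
theorem lRank_eq (hPc : IsBrauerPair p M P c) {x : G}
    {b : Set (IrrCharacter C[Subgroup.zpowers x])} (h : SubpairLE p M (Subgroup.zpowers x) b P c) :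
    lRank p M P c x = blockRank p b := by
  classical
  have he : ∃ b' : Set (IrrCharacter C[Subgroup.zpowers x]),
      SubpairLE p M (Subgroup.zpowers x) b' P c := ⟨b, h⟩
  rw [lRank, dif_pos he, subpair_unique hM hPc he.choose_spec h]

include hM in
/-- Pairs below an abelian root with equal centralizers have blocks of equal rank. -/
theorem blockRank_eq_of_cen_eq (hPc : IsBrauerPair p M P c)
    (hab : ∀ x ∈ P, ∀ y ∈ P, x * y = y * x) {Q₁ Q₂ : Subgroup G}
    {b₁ : Set (IrrCharacter C[Q₁])} {b₂ : Set (IrrCharacter C[Q₂])} (h : C[Q₁] = C[Q₂])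
    (h1 : SubpairLE p M Q₁ b₁ P c) (h2 : SubpairLE p M Q₂ b₂ P c) :
    blockRank p b₁ = blockRank p b₂ := by
  have key : ∀ H : Subgroup G, H = C[Q₂] → ∀ b : Set (IrrCharacter H),
      IsInducedBlockIn M H C[P] c b → blockRank p b = blockRank p b₂ := by
    intro H hH
    subst hH
    intro b hb
    rw [subpair_unique hM hPc
      ((isInducedBlockIn_iff_le hM hPc hab (subpairLE_le h2) b).1 hb) h2]
  exact key _ h b₁ ((isInducedBlockIn_iff_le hM hPc hab (subpairLE_le h1) b₁).2 h1)

variable (hmax : IsMaximalBrauerPair p M B P c) (hab : ∀ x ∈ P, ∀ y ∈ P, x * y = y * x)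
  (hT : ∀ g : G, g ∈ T ↔ g ∈ Subgroup.normalizer (P : Set G) ∧ StabilizesBlock C[P] c g)
  {lam : G → ℂ}

include hmax hab hT in
include hM in
/-- An invariant linear character of `P` is constant on conjugate pairs. -/
theorem isFocChar_of_invariant (hmul : ∀ x ∈ P, ∀ y ∈ P, lam (x * y) = lam x * lam y)
    (h1 : lam 1 = 1) (hinv : ∀ t ∈ T, ∀ x ∈ P, lam (t * x * t⁻¹) = lam x) :
    IsFocChar p M P c lam where
  map_mul := hmul
  map_one := h1
  fusion v g b h1' h2 := by
    have hv : v ∈ P := subpairLE_le h1' (Subgroup.mem_zpowers v)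
    have hmap := conj_zpowers_map g v
    rw [conjIdx_eq hmap b] at h2
    obtain ⟨y, w, hy, hw, hyw⟩ :=
      exists_conj_factor hM hmax hab h1' h2 (conjIdx_eq hmap b)
    have e : g * v * g⁻¹ = y * v * y⁻¹ := by
      rw [hyw, mul_inv_rev, show y * w * v * (w⁻¹ * y⁻¹) = y * (w * v * w⁻¹) * y⁻¹ by group,
        ← Subgroup.mem_centralizer_iff.1 hw v (Subgroup.mem_zpowers v), mul_inv_cancel_right]
    rw [e]
    exact hinv y ((mem_stab_iff hT).2 hy) v hv

theorem cCen_conj {y : G} (hy : y ∈ T) (x : G) : cCen T (y * x * y⁻¹) = cCen T x := by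
  have h : (T ⊓ C[Subgroup.zpowers x]).map (MulAut.conj y).toMonoidHom =
      T ⊓ C[Subgroup.zpowers (y * x * y⁻¹)] := by
    rw [Subgroup.map_inf _ _ _ (MulAut.conj y).injective, map_centralizer_conj, conj_zpowers_map,
      map_conj_eq_self (Subgroup.le_normalizer hy)]
  rw [cCen, cCen, ← h, Subgroup.card_map_of_injective (MulAut.conj y).injective]

include hmax hab hT in
include hM in
open Classical in
/-- The contributions of the conjugates of a pair. -/
theorem pair_fiber_sum (hlam : IsFocChar p M P c lam) (u : G)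
    (b : Set (IrrCharacter C[Subgroup.zpowers u])) :
    ∑ g : G, (if Relation.ReflTransGen (NormalSubpairRel p M)
        (conjIdx g ⟨Subgroup.zpowers u, b⟩) ⟨P, c⟩
      then lam (g * u * g⁻¹) *
        ((cCen T (g * u * g⁻¹) * lRank p M P c (g * u * g⁻¹) : ℕ) : ℂ) else 0) =
      lamW p M P c lam u ⟨Subgroup.zpowers u, b⟩ *
        (((Nat.card T : ℕ) : ℂ) * ((Nat.card C[Subgroup.zpowers u] * blockRank p b : ℕ) : ℂ)) := by
  by_cases hex : ∃ g₀ : G, Relation.ReflTransGen (NormalSubpairRel p M)
      (conjIdx g₀ ⟨Subgroup.zpowers u, b⟩) ⟨P, c⟩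
  swap
  · rw [lamW_eq_zero (i := ⟨Subgroup.zpowers u, b⟩) fun g hg => hex ⟨g, hg⟩, zero_mul]
    exact Finset.sum_eq_zero fun g _ => if_neg fun hg => hex ⟨g, hg⟩
  obtain ⟨g₀, hg₀⟩ := hex
  have hPc := hmax.1.1
  set x₀ := g₀ * u * g₀⁻¹ with hx₀
  have hmap₀ := conj_zpowers_map g₀ u
  have hle₀ : SubpairLE p M (Subgroup.zpowers x₀) (conjSet (conjMaps_centralizer hmap₀) b) P c := by
    show Relation.ReflTransGen _ _ _
    rw [← conjIdx_eq hmap₀ b]; exact hg₀
  set S := Finset.univ.filter fun g : G => Relation.ReflTransGen (NormalSubpairRel p M)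
    (conjIdx g ⟨Subgroup.zpowers u, b⟩) ⟨P, c⟩ with hS
  have hfactor : ∀ g ∈ S, ∃ y ∈ T, ∃ w ∈ C[Subgroup.zpowers x₀], y * w * g₀ = g := by
    intro g hg
    have hgr := (Finset.mem_filter.1 hg).2
    have hle : SubpairLE p M (Subgroup.zpowers (g * u * g⁻¹))
        (conjSet (conjMaps_centralizer (conj_zpowers_map g u)) b) P c := by
      show Relation.ReflTransGen _ _ _
      rw [← conjIdx_eq (conj_zpowers_map g u) b]; exact hgr
    obtain ⟨y, w, hy, hw, hyw⟩ := exists_conj_factor hM hmax hab hle₀ hle (g := g * g₀⁻¹) (by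
      rw [← conjIdx_eq hmap₀ b, conjIdx_mul, inv_mul_cancel_right,
        conjIdx_eq (conj_zpowers_map g u) b])
    exact ⟨y, (mem_stab_iff hT).2 hy, w, hw, by rw [← hyw, inv_mul_cancel_right]⟩
  have hmemS : ∀ y ∈ T, ∀ w ∈ C[Subgroup.zpowers x₀], y * w * g₀ ∈ S := by
    intro y hy w hw
    refine Finset.mem_filter.2 ⟨Finset.mem_univ _, ?_⟩
    rw [← conjIdx_mul, ← conjIdx_mul, conjIdx_eq hmap₀ b, conjIdx_eq_self_of_mem hw]
    have h := rel_conjIdx hM y hle₀
    rwa [(mem_stab_iff hT).1 hy] at h
  have hconst : ∀ g ∈ S, lam (g * u * g⁻¹) *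
      ((cCen T (g * u * g⁻¹) * lRank p M P c (g * u * g⁻¹) : ℕ) : ℂ) =
      lamW p M P c lam u ⟨Subgroup.zpowers u, b⟩ * ((cCen T x₀ * blockRank p b : ℕ) : ℂ) := by
    intro g hg
    have hgr := (Finset.mem_filter.1 hg).2
    obtain ⟨y, hy, w, hw, rfl⟩ := hfactor g hg
    have e : y * w * g₀ * u * (y * w * g₀)⁻¹ = y * x₀ * y⁻¹ := by
      rw [show y * w * g₀ * u * (y * w * g₀)⁻¹ = y * (w * x₀ * w⁻¹) * y⁻¹ by rw [hx₀]; group,
        ← Subgroup.mem_centralizer_iff.1 hw x₀ (Subgroup.mem_zpowers x₀), mul_inv_cancel_right]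
    have hl : lRank p M P c (y * w * g₀ * u * (y * w * g₀)⁻¹) = blockRank p b := by
      rw [lRank_eq hM hPc (b := conjSet (conjMaps_centralizer (conj_zpowers_map _ u)) b) (by
        show Relation.ReflTransGen _ _ _
        rw [← conjIdx_eq (conj_zpowers_map _ u) b]; exact hgr), blockRank_conjSet]
    rw [lamW_eq hM hlam.isFusChar hgr, hl, e, cCen_conj hy]
  rw [← Finset.sum_filter, ← hS, Finset.sum_congr rfl hconst, Finset.sum_const, nsmul_eq_mul,
    mul_left_comm]
  congr 1
  have hcardC : Nat.card C[Subgroup.zpowers x₀] = Nat.card C[Subgroup.zpowers u] := by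
    rw [← hmap₀, ← map_centralizer_conj,
      Subgroup.card_map_of_injective (MulAut.conj g₀).injective]
  have hfib : ∀ g ∈ S, ((Finset.univ : Finset (T × C[Subgroup.zpowers x₀])).filter
      fun q => (q.1 : G) * (q.2 : G) * g₀ = g).card = cCen T x₀ := by
    intro g hg
    obtain ⟨y, hy, w, hw, rfl⟩ := hfactor g hg
    have hq : ∀ q : T × C[Subgroup.zpowers x₀], (q.1 : G) * (q.2 : G) * g₀ = y * w * g₀ →
        y⁻¹ * (q.1 : G) ∈ T ⊓ C[Subgroup.zpowers x₀] := by
      intro q h
      refine Subgroup.mem_inf.2 ⟨mul_mem (inv_mem hy) q.1.2, ?_⟩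
      have h' := mul_right_cancel h
      rw [show y⁻¹ * (q.1 : G) = w * (q.2 : G)⁻¹ by
        rw [eq_mul_inv_iff_mul_eq, mul_assoc, h', inv_mul_cancel_left]]
      exact mul_mem hw (inv_mem q.2.2)
    rw [← Fintype.card_subtype, ← Nat.card_eq_fintype_card]
    refine Nat.card_congr
      { toFun := fun q => ⟨y⁻¹ * (q.1.1 : G), hq q.1 q.2⟩
        invFun := fun z => ⟨(⟨y * z.1, mul_mem hy (Subgroup.mem_inf.1 z.2).1⟩,
          ⟨(z.1)⁻¹ * w, mul_mem (inv_mem (Subgroup.mem_inf.1 z.2).2) hw⟩), by group⟩
        left_inv := fun q => by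
          obtain ⟨⟨⟨a, ha⟩, ⟨d, hd⟩⟩, h⟩ := q
          have h' : a * d = y * w := mul_right_cancel h
          refine Subtype.ext (Prod.ext (Subtype.ext ?_) (Subtype.ext ?_))
          · show y * (y⁻¹ * a) = a
            group
          · show (y⁻¹ * a)⁻¹ * w = d
            rw [mul_inv_rev, inv_inv, mul_assoc, ← h', inv_mul_cancel_left]
        right_inv := fun z => Subtype.ext (by simp) }
  have hcount := Finset.card_eq_sum_card_fiberwise
    (s := (Finset.univ : Finset (T × C[Subgroup.zpowers x₀])))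
    (f := fun q => (q.1 : G) * (q.2 : G) * g₀) (t := S)
    fun q _ => hmemS _ q.1.2 _ q.2.2
  rw [Finset.sum_congr rfl hfib, Finset.sum_const, smul_eq_mul, Finset.card_univ,
    Fintype.card_prod, ← Nat.card_eq_fintype_card, ← Nat.card_eq_fintype_card, hcardC] at hcount
  have : S.card * (cCen T x₀ * blockRank p b) =
      Nat.card T * (Nat.card C[Subgroup.zpowers u] * blockRank p b) := by
    rw [← mul_assoc, ← hcount, mul_assoc]
  exact_mod_cast this

include hmax in
include hM in
open Classical in
/-- The part of the trace of the star action at the section of `u`. -/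
theorem section_trace (hlam : IsFocChar p M P c lam) (u : G) :
    ∑ g ∈ Finset.univ.filter (fun g => pPt p g = u),
        ∑ χ ∈ B.toFinset, starFn hM P c lam χ g * conj ((χ : G → ℂ) g) =
      ∑ b ∈ blocksOf M C[Subgroup.zpowers u], lamW p M P c lam u ⟨Subgroup.zpowers u, b⟩ *
        ((Nat.card C[Subgroup.zpowers u] * blockRank p b : ℕ) : ℂ) := by
  by_cases hu : ∃ k : ℕ, orderOf u = p ^ k
  swap
  · rw [Finset.filter_eq_empty_iff.2 fun g _ (h : pPt p g = u) =>
      hu (by rw [← h]; exact exists_orderOf_pPt g), Finset.sum_empty]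
    refine (Finset.sum_eq_zero fun b _ => ?_).symm
    rw [lamW_eq_zero, zero_mul]
    intro g hg
    have hmem : g * u * g⁻¹ ∈ P := le_of_rel hg ⟨u, Subgroup.mem_zpowers u, rfl⟩
    obtain ⟨k, hk⟩ := isPGroup_exists_orderOf hmax.1.1.1 hmem
    exact hu ⟨k, by rw [← hk]; exact ((MulAut.conj g).orderOf_eq u).symm⟩
  have hHu := commute_mem_cen u
  have hCH := centralizer_singleton_le u
  rw [sum_pPt_eq hu hHu hCH]
  set T' : Set (IrrCharacter C[Subgroup.zpowers u]) → IrrCharacter G → C[Subgroup.zpowers u] → ℂ :=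
    fun b χ y => blockPart b (secFn u C[Subgroup.zpowers u] (χ : G → ℂ)) y with hT'
  set W := fun b : Set (IrrCharacter C[Subgroup.zpowers u]) =>
    lamW p M P c lam u ⟨Subgroup.zpowers u, b⟩ with hW
  have hy : ∀ y : C[Subgroup.zpowers u], IsPRegular p y →
      ∑ χ ∈ B.toFinset, starFn hM P c lam χ (u * (y : G)) * conj ((χ : G → ℂ) (u * (y : G))) =
        ∑ b ∈ blocksOf M C[Subgroup.zpowers u], W b * regKer b y y := by
    intro y hyr
    calc ∑ χ ∈ B.toFinset, starFn hM P c lam χ (u * (y : G)) * conj ((χ : G → ℂ) (u * (y : G)))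
        = ∑ χ ∈ B.toFinset, ∑ b ∈ blocksOf M C[Subgroup.zpowers u],
            ∑ b' ∈ blocksOf M C[Subgroup.zpowers u], W b * (T' b χ y * conj (T' b' χ y)) := by
          refine Finset.sum_congr rfl fun χ _ => ?_
          rw [starFn_section hM lam χ hu hyr, sum_blockPart_section hM χ u y, map_sum,
            Finset.sum_mul_sum]
          exact Finset.sum_congr rfl fun b _ => Finset.sum_congr rfl fun b' _ => mul_assoc _ _ _
      _ = ∑ b ∈ blocksOf M C[Subgroup.zpowers u], W b *
            ∑ b' ∈ blocksOf M C[Subgroup.zpowers u],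
              ∑ χ ∈ B.toFinset, T' b χ y * conj (T' b' χ y) := by
          rw [Finset.sum_comm]
          refine Finset.sum_congr rfl fun b _ => ?_
          rw [Finset.sum_comm, Finset.mul_sum]
          exact Finset.sum_congr rfl fun b' _ => (Finset.mul_sum _ _ _).symm
      _ = _ := by
          refine Finset.sum_congr rfl fun b hb => ?_
          have hb' := (mem_blocksOf hM).1 hb
          by_cases hex : ∃ g : G, Relation.ReflTransGen (NormalSubpairRel p M)
              (conjIdx g ⟨Subgroup.zpowers u, b⟩) ⟨P, c⟩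
          swap
          · simp only [hW, lamW_eq_zero (p := p) (M := M) (P := P) (e := c) (lam := lam) (u := u)
              (i := ⟨Subgroup.zpowers u, b⟩) fun g hg => hex ⟨g, hg⟩, zero_mul]
          obtain ⟨g, hg⟩ := hex
          have h1 : IsBrauerPairOf p M B (conjIdx g ⟨Subgroup.zpowers u, b⟩).1
              (conjIdx g ⟨Subgroup.zpowers u, b⟩).2 :=
            (isBrauerPairOf_iff_of_le hM hg B).1 hmax.1
          have h2 := isBrauerPairOf_conjIdx hM g⁻¹ h1
          rw [conjIdx_mul, inv_mul_cancel, conjIdx_one] at h2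
          have hind := (isBrauerPairOf_zpowers_iff hM hmax.1.2.1 hu hb').1 h2
          have hall : ∀ b' ∈ blocksOf M C[Subgroup.zpowers u],
              ∑ χ ∈ B.toFinset, T' b χ y * conj (T' b' χ y) = regKer (b ∩ b') y y := by
            intro b'' hb''
            rw [← sum_blockPart_mul_conj hM hu hHu hCH (vInt_indVec hM hb')
              (vInt_indVec hM ((mem_blocksOf hM).1 hb'')) hyr hyr]
            refine Finset.sum_subset (Finset.subset_univ _) fun χ _ hχ => ?_
            simp only [hT', blockPart_secFn_eq_zero hM hu hHu hCH hind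
              (fun h' => hχ (Set.mem_toFinset.2 h')) hyr, zero_mul]
          rw [Finset.sum_congr rfl hall, Finset.sum_eq_single_of_mem b hb fun b'' hb'' hne => ?_,
            Set.inter_self]
          have h0 : b ∩ b'' = ∅ := by
            ext η
            simp only [Set.mem_inter_iff, Set.mem_empty_iff_false, iff_false, not_and]
            exact fun h h' => hne (isPBlock_eq_of_mem hM ((mem_blocksOf hM).1 hb'') hb' h' h)
          simp [h0, regKer]
  calc ∑ y : C[Subgroup.zpowers u], (if IsPRegular p y then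
        ∑ χ ∈ B.toFinset, starFn hM P c lam χ (u * (y : G)) * conj ((χ : G → ℂ) (u * (y : G)))
        else 0)
      = ∑ b ∈ blocksOf M C[Subgroup.zpowers u], W b *
          ∑ y : C[Subgroup.zpowers u], if IsPRegular p y then regKer b y y else 0 := by
        simp only [Finset.mul_sum]
        rw [Finset.sum_comm]
        refine Finset.sum_congr rfl fun y _ => ?_
        split_ifs with h
        · exact hy y h
        · simp
    _ = _ := by
        refine Finset.sum_congr rfl fun b hb => ?_
        congr 1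
        rw [Nat.cast_mul, ← sum_reg_regKer hM (vInt_indVec hM ((mem_blocksOf hM).1 hb)),
          finsum_eq_sum_of_fintype]
        refine Finset.sum_congr rfl fun y _ => ?_
        by_cases h : IsPRegular p y
        · rw [if_pos h, pRegularPart_of_reg h]
        · rw [if_neg h, pRegularPart_of_sing h]

include hmax hab hT in
include hM in
open Classical in
/-- The trace of a star product on the block as a weighted sum of ranks over `P`. -/
theorem star_trace (hlam : IsFocChar p M P c lam) :
    (Nat.card T : ℂ) * ∑ χ ∈ B.toFinset, classInner (starFn hM P c lam χ) (χ : G → ℂ) =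
      ∑ x : P, lam (x : G) * ((cCen T (x : G) * lRank p M P c (x : G) : ℕ) : ℂ) := by
  set F : G → ℂ := fun x => lam x * ((cCen T x * lRank p M P c x : ℕ) : ℂ) with hFd
  have hPc := hmax.1.1
  have hone : ∀ g u : G, ∑ b ∈ blocksOf M C[Subgroup.zpowers u],
      (if Relation.ReflTransGen (NormalSubpairRel p M) (conjIdx g ⟨Subgroup.zpowers u, b⟩) ⟨P, c⟩
        then F (g * u * g⁻¹) else 0) = if g * u * g⁻¹ ∈ P then F (g * u * g⁻¹) else 0 := by
    intro g u
    split_ifs with hx
    · obtain ⟨bx, hbx, hle⟩ := exists_subpair hM hPc (Subgroup.zpowers_le.2 hx)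
      have hmap : (Subgroup.zpowers (g * u * g⁻¹)).map (MulAut.conj g⁻¹).toMonoidHom =
          Subgroup.zpowers u := by
        rw [conj_zpowers_map]; congr 1; group
      have hrel : Relation.ReflTransGen (NormalSubpairRel p M)
          (conjIdx g ⟨Subgroup.zpowers u, conjSet (conjMaps_centralizer hmap) bx⟩) ⟨P, c⟩ := by
        rw [← conjIdx_eq hmap bx, conjIdx_mul, mul_inv_cancel, conjIdx_one]
        exact hle
      rw [Finset.sum_eq_single_of_mem (conjSet (conjMaps_centralizer hmap) bx)
        ((mem_blocksOf hM).2 (isPBlock_conjSet _ hbx)) fun b hb hne => if_neg fun hg => hne ?_,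
        if_pos hrel]
      have h2 := hg
      rw [conjIdx_eq (conj_zpowers_map g u)] at h2
      have h3 := subpair_unique hM hPc h2 hle
      have h4 : (⟨Subgroup.zpowers u, b⟩ : BrauerPairIdx G) =
          conjIdx g⁻¹ ⟨Subgroup.zpowers (g * u * g⁻¹), bx⟩ := by
        rw [← h3, ← conjIdx_eq (conj_zpowers_map g u), conjIdx_mul, inv_mul_cancel, conjIdx_one]
      rw [conjIdx_eq hmap] at h4
      exact eq_of_heq (Sigma.mk.inj h4).2
    · refine Finset.sum_eq_zero fun b _ => if_neg fun hg => hx ?_
      exact le_of_rel hg ⟨u, Subgroup.mem_zpowers u, rfl⟩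
  have htot : ∑ u : G, ∑ b ∈ blocksOf M C[Subgroup.zpowers u],
      lamW p M P c lam u ⟨Subgroup.zpowers u, b⟩ *
        ((Nat.card T : ℂ) * ((Nat.card C[Subgroup.zpowers u] * blockRank p b : ℕ) : ℂ)) =
      (Nat.card G : ℂ) * ∑ x : P, F (x : G) := by
    calc ∑ u : G, ∑ b ∈ blocksOf M C[Subgroup.zpowers u],
          lamW p M P c lam u ⟨Subgroup.zpowers u, b⟩ *
            ((Nat.card T : ℂ) * ((Nat.card C[Subgroup.zpowers u] * blockRank p b : ℕ) : ℂ))
        = ∑ g : G, ∑ u : G, if g * u * g⁻¹ ∈ P then F (g * u * g⁻¹) else 0 := by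
          simp only [← pair_fiber_sum hM hmax hab hT hlam]
          conv_rhs => rw [Finset.sum_comm]
          refine Finset.sum_congr rfl fun u _ => ?_
          rw [Finset.sum_comm]
          exact Finset.sum_congr rfl fun g _ => hone g u
      _ = ∑ _g : G, ∑ x : P, F (x : G) := by
          refine Finset.sum_congr rfl fun g _ => ?_
          rw [Fintype.sum_equiv (MulAut.conj g).toEquiv
            (fun u => if g * u * g⁻¹ ∈ P then F (g * u * g⁻¹) else 0)
            (fun x => if x ∈ P then F x else 0) (fun u => rfl), ← Finset.sum_filter]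
          exact Finset.sum_subtype _ (fun x => by simp) F
      _ = _ := by rw [Finset.sum_const, Finset.card_univ, nsmul_eq_mul, Nat.card_eq_fintype_card]
  refine mul_left_cancel₀ (Char.card_cast_ne_zero (G := G)) ?_
  rw [← htot, mul_left_comm, Finset.mul_sum]
  have hinner : ∀ χ : IrrCharacter G, (Nat.card G : ℂ) *
      classInner (starFn hM P c lam χ) (χ : G → ℂ) =
        ∑ g : G, starFn hM P c lam χ g * conj ((χ : G → ℂ) g) := fun χ => by
    rw [classInner, mul_inv_cancel_left₀ Char.card_cast_ne_zero]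
  simp only [hinner]
  rw [Finset.sum_comm, ← Finset.sum_fiberwise Finset.univ (fun g : G => pPt p g),
    Finset.sum_congr rfl fun u _ => section_trace hM hmax hlam u, Finset.mul_sum]
  refine Finset.sum_congr rfl fun u _ => ?_
  rw [Finset.mul_sum]
  exact Finset.sum_congr rfl fun b _ => mul_left_comm _ _ _

end Cfsg.Lib.Block
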