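import Cfsg.Agent.Lib.Block.BlockFusionSys
import Cfsg.Agent.Lib.FusionSys.Nilpotent

/-!
# Nilpotent blocks and their fusion systems
-/

set_option autoImplicit false
set_option linter.unusedSectionVars false
set_option maxHeartbeats 800000

namespace Cfsg.Lib.Block

open Cfsg Cfsg.FusionSystem

universe u

variable {p : ℕ} {M : Ideal AlgInt} {G : Type u} [Group G] [Fintype G] [Fact p.Prime]

noncomputable local instance (priority := high) fintypeSubgroupNilpotentPairs {A : Type u}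
    [Group A] [Fintype A] (H : Subgroup A) : Fintype H := Fintype.ofFinite H

local notation "C[" Q "]" => Subgroup.centralizer (SetLike.coe Q)

/-- A pair is fixed exactly by the stabilizer of its block in the normalizer. -/
theorem conjIdx_eq_self_iff {Q : Subgroup G} (f : Set (IrrCharacter C[Q])) (x : G) :
    conjIdx x ⟨Q, f⟩ = ⟨Q, f⟩ ↔
      x ∈ Subgroup.normalizer (Q : Set G) ∧ StabilizesBlock C[Q] f x := by
  constructor
  · intro h
    have hm : Q.map (MulAut.conj x).toMonoidHom = Q := congrArg Sigma.fst h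
    have hx : x ∈ Subgroup.normalizer (Q : Set G) := by
      refine Subgroup.mem_normalizer_iff.2 fun a => ⟨fun ha => ?_, fun ha => ?_⟩
      · rw [← hm]; exact ⟨a, ha, rfl⟩
      · rw [← hm] at ha
        obtain ⟨b, hb, hba⟩ := ha
        rwa [← (MulAut.conj x).injective hba]
    refine ⟨hx, (stabilizesBlock_iff (mem_normalizer_centralizer hx)).2 ?_⟩
    rw [conjIdx_eq (map_conj_eq_self hx)] at h
    exact eq_of_heq (Sigma.mk.inj_iff.1 h).2
  · rintro ⟨hx, hst⟩
    rw [conjIdx_eq (map_conj_eq_self hx)]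
    exact Sigma.ext rfl (heq_of_eq ((stabilizesBlock_iff (mem_normalizer_centralizer hx)).1 hst))

theorem conjIdx_fixed_conj {a : BrauerPairIdx G} {x : G} (h : conjIdx x a = a) (y : G) :
    conjIdx (y * x * y⁻¹) (conjIdx y a) = conjIdx y a := by
  rw [conjIdx_mul, show y * x * y⁻¹ * y = y * x by group, ← conjIdx_mul, h]

theorem pow_conj_act {Q : Subgroup G} {α : MulAut Q} {g : G}
    (h : ∀ x : Q, ((α x : Q) : G) = g * (x : G) * g⁻¹) {n : ℕ}
    (hc : g ^ n ∈ C[Q]) : α ^ n = 1 :=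
  MulEquiv.ext fun x => Subtype.ext (by
    rw [FusionSys.aut_pow_apply h n x, ← Subgroup.mem_centralizer_iff.1 hc _ x.2,
      mul_inv_cancel_right]
    rfl)

variable (hM : IsPModular p M)
variable {B : Set (IrrCharacter G)} {P : Subgroup G} {e : Set (IrrCharacter C[P])}

include hM in
/-- In a nilpotent block the automorphism groups of the system are `p`-groups. -/
theorem isPGroup_autGroup_of_nilpotent {F : FusionSystem P}
    (hF : IsBlockFusionSystemOn p M B P e F) (hnil : IsNilpotentBlock p M B) {Q : Subgroup G}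
    (hQ : Q ≤ P) : IsPGroup p (F.autGroup Q) := by
  have hPe := hF.1.1.1
  rintro ⟨α, hα⟩
  obtain ⟨-, g, hg, -, f, hf, hgf⟩ := (hF.2 _ _).1 ((FusionSys.mem_autGroup hQ).1 hα)
  have hgN : g ∈ Subgroup.normalizer (Q : Set G) := FusionSys.mem_normalizer_of_aut (α := α) hg
  have hfix : conjIdx g ⟨Q, f⟩ = ⟨Q, f⟩ := by
    have h1 : Relation.ReflTransGen (NormalSubpairRel p M) (conjIdx g ⟨Q, f⟩) ⟨P, e⟩ := hgf
    rw [conjIdx_eq (map_conj_eq_self hgN)] at h1 ⊢
    exact Sigma.ext rfl (heq_of_eq (subpair_unique hM hPe h1 hf))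
  have hfB : IsBrauerPairOf p M B Q f := (isBrauerPairOf_iff_of_le hM hf B).1 hF.1.1
  obtain ⟨a, ha⟩ : ∃ a : ℕ, g ^ a = pReg p g :=
    mem_powers_iff_mem_zpowers.2 (pReg_mem_zpowers g)
  have hfixpow : ∀ n : ℕ, conjIdx (g ^ n) ⟨Q, f⟩ = ⟨Q, f⟩ := by
    intro n
    induction n with
    | zero => rw [pow_zero, conjIdx_one]
    | succ n ih => rw [pow_succ, ← conjIdx_mul, hfix, ih]
  obtain ⟨hN, hst⟩ := (conjIdx_eq_self_iff f _).1 (ha ▸ hfixpow a)
  have hc : pReg p g ∈ C[Q] := hnil.2 Q f hfB _ hN hst (not_dvd_orderOf_pReg g)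
  obtain ⟨k, hk⟩ := exists_pow_pPt (p := p) g
  refine ⟨k, Subtype.ext (pow_conj_act (g := g) hg ?_)⟩
  rw [← pPt_mul_pReg (p := p) g, (pPt_commute_pReg g).mul_pow, hk, one_mul]
  exact pow_mem hc _

include hM in
/-- A block is nilpotent exactly when its fusion system is inner. -/
theorem nilpotent_iff_inner {F : FusionSystem P} (hF : IsBlockFusionSystemOn p M B P e F) :
    IsNilpotentBlock p M B ↔ ∀ Q : Subgroup G, F.Hom Q = (innerFusionSystem P).Hom Q := by
  have hmax := hF.1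
  have hPe := hmax.1.1
  constructor
  · intro hnil Q
    refine Set.Subset.antisymm (FusionSys.le_inner_of_autGroup hPe.1
      (isSaturated_blockFusion hM hF) (fun R hR => isPGroup_autGroup_of_nilpotent hM hF hnil ?_) Q) ?_
    · rcases hR with rfl | h
      exacts [le_rfl, h.2.1.1]
    · rintro φ ⟨hQ, g, hg, h⟩
      exact FusionSys.hom_congr (F.conj_mem hQ hg) h
  · intro hinn
    refine ⟨hmax.1.2.1, fun R h hRh x hx hst hreg => ?_⟩
    obtain ⟨y, hy⟩ := exists_conj_le_maximal hM hmax hRh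
    obtain ⟨R', hR'⟩ : ∃ R' : Subgroup G, R.map (MulAut.conj y).toMonoidHom = R' := ⟨_, rfl⟩
    obtain ⟨h', hh'⟩ : ∃ h' : Set (IrrCharacter C[R']), conjIdx y ⟨R, h⟩ = ⟨R', h'⟩ :=
      ⟨_, conjIdx_eq hR' h⟩
    have hfix := conjIdx_fixed_conj ((conjIdx_eq_self_iff h x).2 ⟨hx, hst⟩) y
    rw [hh'] at hy hfix
    have hN := ((conjIdx_eq_self_iff h' _).1 hfix).1
    have hR'P : R' ≤ P := le_of_rel hy
    let α : MulAut R' := FusionSys.conjAut R' hN
    have hα : α ∈ F.autGroup R' := (FusionSys.mem_autGroup hR'P).2 ((hF.2 _ _).2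
      ⟨hR'P, y * x * y⁻¹, fun _ => rfl, (map_conj_eq_self hN).trans_le hR'P, h', hy, by
        show Relation.ReflTransGen _ (conjIdx (y * x * y⁻¹) ⟨R', h'⟩) _
        rw [hfix]; exact hy⟩)
    obtain ⟨k, hk⟩ := (FusionSys.isPGroup_autGroup_of_le_inner hPe.1
      (fun Q => (hinn Q).subset) hR'P) ⟨α, hα⟩
    have hk' : α ^ p ^ k = 1 := congrArg Subtype.val hk
    have hn : α ^ orderOf x = 1 := pow_conj_act (g := y * x * y⁻¹) (fun _ => rfl) (by
      rw [conj_pow, pow_orderOf_eq_one, mul_one, mul_inv_cancel]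
      exact one_mem _)
    have h1 : α = 1 := orderOf_eq_one_iff.1 (Nat.eq_one_of_dvd_coprimes
      (Nat.Coprime.pow_left k ((Fact.out : p.Prime).coprime_iff_not_dvd.2 hreg))
      (orderOf_dvd_of_pow_eq_one hk') (orderOf_dvd_of_pow_eq_one hn))
    refine Subgroup.mem_centralizer_iff.2 fun r hr => ?_
    have hr' : y * r * y⁻¹ ∈ R' := hR' ▸ ⟨r, hr, rfl⟩
    have h2 : (y * x * y⁻¹) * (y * r * y⁻¹) * (y * x * y⁻¹)⁻¹ = y * r * y⁻¹ :=
      congrArg (fun a : MulAut R' => ((a ⟨_, hr'⟩ : R') : G)) h1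
    have h3 : x * r * x⁻¹ = r := by
      calc x * r * x⁻¹ =
          y⁻¹ * ((y * x * y⁻¹) * (y * r * y⁻¹) * (y * x * y⁻¹)⁻¹) * y := by group
        _ = r := by rw [h2]; group
    exact (mul_inv_eq_iff_eq_mul.1 h3).symm

section Abelian

variable (hab : ∀ x ∈ P, ∀ y ∈ P, x * y = y * x)

include hab in
theorem le_centralizer_of_abelian {Q : Subgroup G} (hQ : Q ≤ P) : P ≤ C[Q] := fun x hx =>
  Subgroup.mem_centralizer_iff.2 fun q hq => hab q (hQ hq) x hx

include hM hab in
/-- The stabilizer of a subpair factors through that of an abelian maximal pair. -/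
theorem exists_factor_abelian (hmax : IsMaximalBrauerPair p M B P e) {Q : Subgroup G}
    {f : Set (IrrCharacter C[Q])} (hle : SubpairLE p M Q f P e) {x : G}
    (hx : conjIdx x ⟨Q, f⟩ = ⟨Q, f⟩) :
    ∃ y c : G, conjIdx y ⟨P, e⟩ = ⟨P, e⟩ ∧ c ∈ C[Q] ∧ x = y * c := by
  classical
  have hPe := hmax.1.1
  have hQP := subpairLE_le hle
  have hPC := le_centralizer_of_abelian hab hQP
  have hQf := isBrauerPair_of_le hle hPe
  obtain ⟨hxN, -⟩ := (conjIdx_eq_self_iff f x).1 hx
  obtain ⟨g, hgP, hn⟩ := normalSubpair_below hM hPe hle hQP le_rfl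
    (hPC.trans (Subgroup.centralizer_le_normalizer _))
  have hge : g = e := subpair_unique hM hPe hgP Relation.ReflTransGen.refl
  subst hge
  obtain ⟨e', he'⟩ : ∃ e' : Set (IrrCharacter C[P.map (MulAut.conj x).toMonoidHom]),
      conjIdx x ⟨P, g⟩ = ⟨P.map (MulAut.conj x).toMonoidHom, e'⟩ := ⟨_, rfl⟩
  have hn' : IsNormalSubpair p M Q f (P.map (MulAut.conj x).toMonoidHom) e' := by
    have h := normalSubpairRel_conjIdx hM x (a := ⟨Q, f⟩) (b := ⟨P, g⟩) hn
    rw [hx, he'] at h
    exact h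
  have hUL : P.map (MulAut.conj x).toMonoidHom ≤ C[Q] := by
    have h := Subgroup.map_mono (f := (MulAut.conj x).toMonoidHom) hPC
    rwa [map_centralizer_conj, map_conj_eq_self hxN] at h
  have hloc := isLocalBlock_centralizer hM hQf.2
  have hbig : p ^ blockDefect p f ≤ Nat.card ↥(P ⊓ C[Q]) := by
    obtain ⟨z, -, hz⟩ := exists_card_inf_eq_defect hM hloc hmax hle
    rw [← hz, inf_eq_left.2 hPC]
    exact Subgroup.card_le_of_le inf_le_left
  obtain ⟨c, hc, hl⟩ := exists_conj_in_local hM hmax hloc (hQP.trans hPC) hle hbig hn' hUL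
  rw [← he', conjIdx_mul] at hl
  have hfix : conjIdx (c * x) ⟨P, g⟩ = ⟨P, g⟩ := by
    have hcard : P.map (MulAut.conj (c * x)).toMonoidHom = P :=
      Subgroup.eq_of_le_of_card_ge (le_of_rel hl)
        (by rw [Subgroup.card_map_of_injective (MulAut.conj (c * x)).injective])
    rw [conjIdx_eq hcard] at hl ⊢
    exact Sigma.ext rfl (heq_of_eq (subpair_unique hM hPe hl Relation.ReflTransGen.refl))
  refine ⟨c * x, x⁻¹ * c⁻¹ * x, hfix, ?_, by group⟩
  have := (centralizer_conj_mem_iff (inv_mem hxN)).2 (inv_mem hc)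
  simpa using this

include hM hab in
/-- A block with abelian maximal pair is nilpotent exactly when its inertial quotient is trivial. -/
theorem nilpotent_iff_inertial (hmax : IsMaximalBrauerPair p M B P e) :
    IsNilpotentBlock p M B ↔ ∀ x : G, x ∈ Subgroup.normalizer (P : Set G) →
      StabilizesBlock C[P] e x → x ∈ C[P] := by
  classical
  have hPe := hmax.1.1
  constructor
  · intro hnil x hxN hxS
    let T : Subgroup G := Subgroup.normalizer (P : Set G) ⊓ invStab (indVec e)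
    have hT : ∀ y : G, y ∈ T ↔ y ∈ Subgroup.normalizer (P : Set G) ∧
        StabilizesBlock C[P] e y := fun y => by
      refine and_congr_right fun hy => ?_
      rw [stabilizesBlock_iff_coeff (mem_normalizer_centralizer hy), ← extF_indVec]
      rfl
    have hxT : x ∈ T := (hT x).2 ⟨hxN, hxS⟩
    have hPC : P ⊔ C[P] = C[P] := sup_eq_right.2 (le_centralizer_of_abelian hab le_rfl)
    have hnd := not_dvd_relIndex_of_maximal hM hmax hT
    rw [hPC] at hnd
    have hreg : pReg p x ∈ C[P] := hnil.2 P e hmax.1 _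
      ((hT _).1 (Subgroup.zpowers_le.2 hxT (pReg_mem_zpowers x))).1
      ((hT _).1 (Subgroup.zpowers_le.2 hxT (pReg_mem_zpowers x))).2
      (not_dvd_orderOf_pReg x)
    haveI : (C[P].subgroupOf T).Normal := Subgroup.normal_subgroupOf_of_le_normalizer
      fun y hy => mem_normalizer_centralizer hy.1
    let a : T := ⟨x, hxT⟩
    obtain ⟨k, hk⟩ := exists_pow_pPt (p := p) x
    have h1 : (a : T ⧸ C[P].subgroupOf T) ^ p ^ k = 1 := by
      rw [← QuotientGroup.mk_pow, QuotientGroup.eq_one_iff, Subgroup.mem_subgroupOf]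
      show x ^ p ^ k ∈ C[P]
      rw [← pPt_mul_pReg (p := p) x, (pPt_commute_pReg x).mul_pow, hk, one_mul]
      exact pow_mem hreg _
    have h2 : orderOf (a : T ⧸ C[P].subgroupOf T) ∣ C[P].relIndex T := orderOf_dvd_natCard _
    have h3 := orderOf_eq_one_iff.1 (Nat.eq_one_of_dvd_coprimes
      (Nat.Coprime.pow_left k ((Fact.out : p.Prime).coprime_iff_not_dvd.2 hnd))
      (orderOf_dvd_of_pow_eq_one h1) h2)
    exact Subgroup.mem_subgroupOf.1 ((QuotientGroup.eq_one_iff a).1 h3)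
  · intro htriv
    refine ⟨hmax.1.2.1, fun R h hRh x hx hst _ => ?_⟩
    obtain ⟨y, hy⟩ := exists_conj_le_maximal hM hmax hRh
    obtain ⟨R', hR'⟩ : ∃ R' : Subgroup G, R.map (MulAut.conj y).toMonoidHom = R' := ⟨_, rfl⟩
    obtain ⟨h', hh'⟩ : ∃ h' : Set (IrrCharacter C[R']), conjIdx y ⟨R, h⟩ = ⟨R', h'⟩ :=
      ⟨_, conjIdx_eq hR' h⟩
    have hfix := conjIdx_fixed_conj ((conjIdx_eq_self_iff h x).2 ⟨hx, hst⟩) y
    rw [hh'] at hy hfix
    obtain ⟨z, c, hz, hc, hzc⟩ := exists_factor_abelian hM hab hmax hy hfix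
    obtain ⟨hzN, hzS⟩ := (conjIdx_eq_self_iff e z).1 hz
    have hzc' : y * x * y⁻¹ ∈ C[R'] := hzc ▸ mul_mem
      (Subgroup.centralizer_le (SetLike.coe_subset_coe.2 (le_of_rel hy : R' ≤ P))
        (htriv z hzN hzS)) hc
    exact ((conjMaps_centralizer hR') x).2 hzc'

end Abelian

/-- The centralizer of a subgroup of `C(Q)` inside `C(Q)` is the centralizer of the join. -/
def cenJoin {Q : Subgroup G} (R' : Subgroup C[Q]) :
    Subgroup.centralizer (R' : Set C[Q]) ≃* C[Q ⊔ R'.map C[Q].subtype] where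
  toFun x := ⟨((x : C[Q]) : G), by
    show ((x : C[Q]) : G) ∈ C[Q ⊔ R'.map C[Q].subtype]
    rw [Subgroup.sup_eq_closure, Subgroup.centralizer_closure, Subgroup.mem_centralizer_iff]
    rintro z (hz | hz)
    · exact Subgroup.mem_centralizer_iff.1 (x : C[Q]).2 z hz
    · obtain ⟨a, ha, rfl⟩ := hz
      exact congrArg Subtype.val (Subgroup.mem_centralizer_iff.1 x.2 a ha)⟩
  invFun y := ⟨⟨(y : G), Subgroup.centralizer_le
      (SetLike.coe_subset_coe.2 (le_sup_left : Q ≤ Q ⊔ R'.map C[Q].subtype)) y.2⟩,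
    Subgroup.mem_centralizer_iff.2 fun a ha => Subtype.ext (Subgroup.mem_centralizer_iff.1 y.2
      (a : G) ((le_sup_right : R'.map C[Q].subtype ≤ Q ⊔ _) ⟨a, ha, rfl⟩))⟩
  left_inv _ := rfl
  right_inv _ := rfl
  map_mul' _ _ := rfl

include hM in
/-- The blocks of the pairs of a nilpotent block are nilpotent. -/
theorem nilpotent_of_pair (hnil : IsNilpotentBlock p M B) {Q : Subgroup G}
    {f : Set (IrrCharacter C[Q])} (hQf : IsBrauerPairOf p M B Q f) :
    IsNilpotentBlock p M f := by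
  refine ⟨hQf.1.2, fun R' h' hR x hxN hxS hreg => ?_⟩
  obtain ⟨hRh, -, hs⟩ := hR
  let U : Subgroup G := Q ⊔ R'.map C[Q].subtype
  let h : Set (IrrCharacter C[U]) := pullSet (cenJoin R').symm h'
  have hUQC : U ≤ Q ⊔ C[Q] := sup_le_sup_left (Subgroup.map_subtype_le R') _
  have hUp : IsPGroup p U := by
    show IsPGroup p ↥(Q ⊔ R'.map C[Q].subtype)
    rw [sup_comm]
    exact (hRh.1.map C[Q].subtype).to_sup_of_normal_right' hQf.1.1
      ((Subgroup.map_subtype_le R').trans (Subgroup.centralizer_le_normalizer _))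
  have hcoh : ∀ g : C[Q], subgroupBlockCoeff C[U] h (g : G) =
      subgroupBlockCoeff (Subgroup.centralizer (R' : Set C[Q])) h' g := by
    intro g
    simp only [subgroupBlockCoeff]
    by_cases hg : g ∈ Subgroup.centralizer (R' : Set C[Q])
    · rw [dif_pos hg, dif_pos (show (g : G) ∈ C[U] from ((cenJoin R') ⟨g, hg⟩).2)]
      rw [blockCoeff_pullSet]
      rfl
    · rw [dif_neg hg, dif_neg]
      exact fun hg' => hg ((cenJoin R').symm ⟨g, hg'⟩).2
  have hn : IsNormalSubpair p M Q f U h := by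
    refine ⟨hQf.1, ⟨hUp, isPBlock_pullSet _ hRh.2⟩, le_sup_left,
      hUQC.trans (sup_centralizer_le_normalizer Q), ?_, fun ξ hξ => ?_⟩
    · exact (invOn_indVec_iff fun z hz =>
        mem_normalizer_centralizer (hUQC.trans (sup_centralizer_le_normalizer Q) hz)).1
        (invOn_mono hUQC (invOn_sup_centralizer Q _))
    · have h1 := hs _ (show compIrr (cenJoin R') ξ ∈ h' from hξ)
      have e1 : brauerOmega R' (blockCoeff f) (compIrr (cenJoin R') ξ : _ → ℂ) =
          brauerOmega U (subgroupBlockCoeff C[Q] f) (ξ : C[U] → ℂ) := by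
        simp only [brauerOmega]
        refine finsum_eq_of_bijective (cenJoin R') (cenJoin R').bijective fun z => ?_
        rw [compIrr_apply, compIrr_apply, map_one, subgroupBlockCoeff,
          dif_pos (show ((cenJoin R' z : C[U]) : G) ∈ C[Q] from (z : C[Q]).2)]
        rfl
      rwa [e1] at h1
  have hUh : IsBrauerPairOf p M B U h := (isBrauerPairOf_iff_of_normal hM hn B).2 hQf
  have hxU : (x : G) ∈ Subgroup.normalizer (U : Set G) := by
    have hxR : (x : G) ∈ Subgroup.normalizer (R'.map C[Q].subtype : Set G) :=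
      Subgroup.le_normalizer_map C[Q].subtype ⟨x, hxN, rfl⟩
    refine ((conjIdx_eq_self_iff (Q := U) ∅ (x : G)).1 ?_).1
    rw [conjIdx_eq (show U.map (MulAut.conj (x : G)).toMonoidHom = U by
      rw [Subgroup.map_sup, map_conj_eq_self (Subgroup.centralizer_le_normalizer _ x.2),
        map_conj_eq_self hxR])]
    refine Sigma.ext rfl (heq_of_eq ?_)
    ext ξ
    simp [conjSet, pullSet]
  have hst : StabilizesBlock C[U] h (x : G) := by
    rw [stabilizesBlock_iff_coeff (mem_normalizer_centralizer hxU)]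
    intro g
    by_cases hg : g ∈ C[Q]
    · rw [show (x : G) * g * (x : G)⁻¹ = ((x * ⟨g, hg⟩ * x⁻¹ : C[Q]) : G) from rfl, hcoh]
      conv_rhs => rw [show g = ((⟨g, hg⟩ : C[Q]) : G) from rfl, hcoh]
      exact (stabilizesBlock_iff_coeff (mem_normalizer_centralizer hxN)).1 hxS _
    · have hle : C[U] ≤ C[Q] :=
        Subgroup.centralizer_le (SetLike.coe_subset_coe.2 le_sup_left)
      have e2 : (x : G) * g * (x : G)⁻¹ ∉ C[U] := fun hh => hg (by
        simpa [mul_assoc] using mul_mem (mul_mem (inv_mem x.2) (hle hh)) x.2)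
      rw [subgroupBlockCoeff, subgroupBlockCoeff, dif_neg e2, dif_neg fun hh => hg (hle hh)]
  have hc := hnil.2 U h hUh x hxU hst (by rwa [IsPRegular, Subgroup.orderOf_coe])
  exact ((cenJoin R').symm ⟨(x : G), hc⟩).2

include hM in
/-- Below the maximal pair of a nilpotent block the centralizers meet `P` in defect groups. -/
theorem defect_of_nilpotent (hmax : IsMaximalBrauerPair p M B P e)
    (hnil : IsNilpotentBlock p M B) {Q : Subgroup G} {f : Set (IrrCharacter C[Q])}
    (hle : SubpairLE p M Q f P e) :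
    IsDefectGroup p M f ((P ⊓ C[Q]).subgroupOf C[Q]) := by
  have hPe := hmax.1.1
  obtain ⟨F, hF⟩ := exists_blockFusion hM hmax
  have hloc := isLocalBlock_centralizer hM (isBrauerPair_of_le hle hPe).2
  refine (isDefectGroup_inf_iff hM hloc hPe hle).2 ?_
  obtain ⟨x, hx, hcard⟩ := exists_card_inf_eq_defect hM hloc hmax hle
  have hmem : conjHom Q x ∈ F.Hom Q :=
    (hF.2 _ _).2 ⟨subpairLE_le hle, x, fun _ => rfl, subpairLE_le hx, f, hle, hx⟩
  rw [(nilpotent_iff_inner hM hF).1 hnil Q] at hmem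
  obtain ⟨-, a, ha, heq⟩ := hmem
  have hmap : Q.map (MulAut.conj x).toMonoidHom = Q.map (MulAut.conj a).toMonoidHom := by
    ext z
    constructor
    · rintro ⟨q, hq, rfl⟩; exact ⟨q, hq, (heq ⟨q, hq⟩).symm⟩
    · rintro ⟨q, hq, rfl⟩; exact ⟨q, hq, heq ⟨q, hq⟩⟩
  have hPa : P.map (MulAut.conj a).toMonoidHom = P :=
    map_conj_eq_self (Subgroup.le_normalizer ha)
  rw [← hcard, map_centralizer_conj, hmap, ← map_centralizer_conj]
  conv_lhs => rw [← hPa, ← Subgroup.map_inf _ _ _ (MulAut.conj a).injective]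
  rw [Subgroup.card_map_of_injective (MulAut.conj a).injective]

end Cfsg.Lib.Block
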