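import Cfsg.Agent.Lib.Block.StarAbelian
import Cfsg.Agent.Lib.Block.NilpotentPairs

/-!
# Star products with class functions of a defect group

When conjugate pairs below the maximal pair are conjugate inside the defect group, a class
function of the defect group multiplies the characters of the block, and the inner products of
the products are sums over the defect group weighted by the norms of the local sections.
-/

set_option autoImplicit false
set_option linter.unusedSectionVars false
set_option linter.style.haveILetI false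
set_option maxHeartbeats 1600000

namespace Cfsg.Lib.Block

open Cfsg Cfsg.FusionSystem
open scoped ComplexConjugate

universe u

noncomputable local instance (priority := high) fintypeSubgroupStarClass {A : Type u} [Group A]
    [Fintype A] (H : Subgroup A) : Fintype H := Fintype.ofFinite H

local notation "C[" Q "]" => Subgroup.centralizer (SetLike.coe Q)

variable {p : ℕ} {M : Ideal AlgInt} (hM : IsPModular p M) {G : Type u} [Group G] [Fintype G]
  [Fact p.Prime] {B : Set (IrrCharacter G)} {P : Subgroup G} {c : Set (IrrCharacter C[P])}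

/-- Conjugate pairs at elements of `P` below `(P, c)` are conjugate by an element of `P`. -/
def InnerFusion (p : ℕ) (M : Ideal AlgInt) (P : Subgroup G) (c : Set (IrrCharacter C[P])) : Prop :=
  ∀ (v g : G) (b : Set (IrrCharacter C[Subgroup.zpowers v])),
    SubpairLE p M (Subgroup.zpowers v) b P c →
    Relation.ReflTransGen (NormalSubpairRel p M) (conjIdx g ⟨Subgroup.zpowers v, b⟩) ⟨P, c⟩ →
      ∃ a ∈ P, g * v * g⁻¹ = a * v * a⁻¹

include hM in
theorem innerFusion_of_nilpotent (hmax : IsMaximalBrauerPair p M B P c)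
    (hnil : IsNilpotentBlock p M B) : InnerFusion p M P c := by
  intro v g b h1 h2
  obtain ⟨F, hF⟩ := exists_blockFusion hM hmax
  have hmem : conjHom (Subgroup.zpowers v) g ∈ F.Hom (Subgroup.zpowers v) :=
    (hF.2 _ _).2 ⟨subpairLE_le h1, g, fun _ => rfl, le_of_rel h2, b, h1, h2⟩
  rw [(nilpotent_iff_inner hM hF).1 hnil] at hmem
  obtain ⟨-, a, ha, heq⟩ := hmem
  exact ⟨a, ha, heq ⟨v, Subgroup.mem_zpowers v⟩⟩

open Classical in
/-- A function on `P` extended by zero. -/
noncomputable def extP (P : Subgroup G) (f : P → ℂ) (g : G) : ℂ :=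
  if h : g ∈ P then f ⟨g, h⟩ else 0

theorem extP_mem (f : P → ℂ) {g : G} (h : g ∈ P) : extP P f g = f ⟨g, h⟩ := by
  classical
  rw [extP, dif_pos h]

theorem extP_coe (f : P → ℂ) (x : P) : extP P f (x : G) = f x := extP_mem f x.2

/-- A generalized character of `P` is constant on conjugate pairs. -/
theorem isFusChar_extP (hinn : InnerFusion p M P c) {f : P → ℂ}
    (hf : IsGeneralizedCharacter P f) : IsFusChar p M P c (extP P f) where
  gen := by simpa only [extP_coe] using hf
  fusion v g b h1 h2 := by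
    obtain ⟨a, ha, e⟩ := hinn v g b h1 h2
    have hv : v ∈ P := subpairLE_le h1 (Subgroup.mem_zpowers v)
    rw [e, extP_mem f hv, extP_mem f (mul_mem (mul_mem ha hv) (inv_mem ha))]
    exact hf.isClassFunction ⟨v, hv⟩ ⟨a, ha⟩

variable (hmax : IsMaximalBrauerPair p M B P c)

include hmax in
include hM in
open Classical in
/-- A sum over all pairs at elements is a weighted sum over the defect group. -/
theorem block_fiber_sum (hinn : InnerFusion p M P c)
    (f : ∀ u : G, Set (IrrCharacter C[Subgroup.zpowers u]) → ℂ) (F : G → ℂ)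
    (hf : ∀ (u g : G) (b : Set (IrrCharacter C[Subgroup.zpowers u])), IsPBlock M b →
      Relation.ReflTransGen (NormalSubpairRel p M) (conjIdx g ⟨Subgroup.zpowers u, b⟩) ⟨P, c⟩ →
        f u b = (Nat.card C[Subgroup.zpowers u] : ℂ) * F (g * u * g⁻¹))
    (hf0 : ∀ (u : G) (b : Set (IrrCharacter C[Subgroup.zpowers u])), IsPBlock M b →
      (∀ g : G, ¬ Relation.ReflTransGen (NormalSubpairRel p M)
        (conjIdx g ⟨Subgroup.zpowers u, b⟩) ⟨P, c⟩) → f u b = 0) :
    (Nat.card P : ℂ) * ∑ u : G, ∑ b ∈ blocksOf M C[Subgroup.zpowers u], f u b =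
      (Nat.card G : ℂ) * ∑ x : P, (cCen P (x : G) : ℂ) * F (x : G) := by
  set H : G → ℂ := fun x => (cCen P x : ℂ) * F x with hH
  have hPc := hmax.1.1
  have hfib : ∀ (u : G), ∀ b ∈ blocksOf M C[Subgroup.zpowers u],
      ∑ g : G, (if Relation.ReflTransGen (NormalSubpairRel p M)
        (conjIdx g ⟨Subgroup.zpowers u, b⟩) ⟨P, c⟩ then H (g * u * g⁻¹) else 0) =
      (Nat.card P : ℂ) * f u b := by
    intro u b hb
    have hb' := (mem_blocksOf hM).1 hb
    by_cases hex : ∃ g₀ : G, Relation.ReflTransGen (NormalSubpairRel p M)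
        (conjIdx g₀ ⟨Subgroup.zpowers u, b⟩) ⟨P, c⟩
    swap
    · rw [hf0 u b hb' fun g hg => hex ⟨g, hg⟩, mul_zero]
      exact Finset.sum_eq_zero fun g _ => if_neg fun hg => hex ⟨g, hg⟩
    obtain ⟨g₀, hg₀⟩ := hex
    obtain ⟨x₀, hx₀⟩ : ∃ x₀ : G, g₀ * u * g₀⁻¹ = x₀ := ⟨_, rfl⟩
    have hmap₀ : (Subgroup.zpowers u).map (MulAut.conj g₀).toMonoidHom = Subgroup.zpowers x₀ :=
      (conj_zpowers_map g₀ u).trans (by rw [hx₀])
    have hle₀ : SubpairLE p M (Subgroup.zpowers x₀)
        (conjSet (conjMaps_centralizer hmap₀) b) P c := by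
      show Relation.ReflTransGen _ _ _
      rw [← conjIdx_eq hmap₀ b]; exact hg₀
    set S := Finset.univ.filter fun g : G => Relation.ReflTransGen (NormalSubpairRel p M)
      (conjIdx g ⟨Subgroup.zpowers u, b⟩) ⟨P, c⟩ with hS
    have hfactor : ∀ g ∈ S, ∃ y ∈ P, ∃ w ∈ C[Subgroup.zpowers x₀], y * w * g₀ = g := by
      intro g hg
      have hgr := (Finset.mem_filter.1 hg).2
      obtain ⟨y, hy, hyx⟩ := hinn x₀ (g * g₀⁻¹) _ hle₀ (by
        rw [← conjIdx_eq hmap₀ b, conjIdx_mul, inv_mul_cancel_right]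
        exact hgr)
      refine ⟨y, hy, y⁻¹ * g * g₀⁻¹, centralizer_singleton_le _
        (Subgroup.mem_centralizer_singleton_iff.2 ?_), by group⟩
      have h3 : (y⁻¹ * g * g₀⁻¹) * x₀ * (y⁻¹ * g * g₀⁻¹)⁻¹ = x₀ := by
        calc (y⁻¹ * g * g₀⁻¹) * x₀ * (y⁻¹ * g * g₀⁻¹)⁻¹
            = y⁻¹ * (g * g₀⁻¹ * x₀ * (g * g₀⁻¹)⁻¹) * y := by group
          _ = x₀ := by rw [hyx]; group
      exact mul_inv_eq_iff_eq_mul.1 h3
    have hmemS : ∀ y ∈ P, ∀ w ∈ C[Subgroup.zpowers x₀], y * w * g₀ ∈ S := by
      intro y hy w hw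
      refine Finset.mem_filter.2 ⟨Finset.mem_univ _, ?_⟩
      rw [← conjIdx_mul, ← conjIdx_mul, conjIdx_eq hmap₀ b, conjIdx_eq_self_of_mem hw]
      have h := rel_conjIdx hM y hle₀
      rwa [conjIdx_of_mem hy] at h
    have hconst : ∀ g ∈ S, (Nat.card C[Subgroup.zpowers u] : ℂ) * H (g * u * g⁻¹) =
        (cCen P x₀ : ℂ) * f u b := by
      intro g hg
      have hgr := (Finset.mem_filter.1 hg).2
      obtain ⟨y, hy, w, hw, rfl⟩ := hfactor g hg
      have e : y * w * g₀ * u * (y * w * g₀)⁻¹ = y * x₀ * y⁻¹ := by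
        rw [show y * w * g₀ * u * (y * w * g₀)⁻¹ = y * (w * x₀ * w⁻¹) * y⁻¹ by rw [← hx₀]; group,
          ← Subgroup.mem_centralizer_iff.1 hw x₀ (Subgroup.mem_zpowers x₀), mul_inv_cancel_right]
      rw [hf u _ b hb' hgr]
      show _ * ((cCen P _ : ℂ) * _) = _
      rw [show cCen P (y * w * g₀ * u * (y * w * g₀)⁻¹) = cCen P x₀ by rw [e, cCen_conj hy]]
      ring
    have hcardC : Nat.card C[Subgroup.zpowers x₀] = Nat.card C[Subgroup.zpowers u] := by
      rw [← hmap₀, ← map_centralizer_conj,
        Subgroup.card_map_of_injective (MulAut.conj g₀).injective]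
    have hfibc : ∀ g ∈ S, ((Finset.univ : Finset (P × C[Subgroup.zpowers x₀])).filter
        fun q => (q.1 : G) * (q.2 : G) * g₀ = g).card = cCen P x₀ := by
      intro g hg
      obtain ⟨y, hy, w, hw, rfl⟩ := hfactor g hg
      have hq : ∀ q : P × C[Subgroup.zpowers x₀], (q.1 : G) * (q.2 : G) * g₀ = y * w * g₀ →
          y⁻¹ * (q.1 : G) ∈ P ⊓ C[Subgroup.zpowers x₀] := by
        intro q h
        refine Subgroup.mem_inf.2 ⟨mul_mem (inv_mem hy) q.1.2, ?_⟩
        have h' := mul_right_cancel h
        rw [show y⁻¹ * (q.1 : G) = w * (q.2 : G)⁻¹ by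
          rw [eq_mul_inv_iff_mul_eq, mul_assoc, h', inv_mul_cancel_left]]
        exact mul_mem hw (inv_mem q.2.2)
      rw [← Fintype.card_subtype, ← Nat.card_eq_fintype_card]
      refine Nat.card_congr
        { toFun := fun q => ⟨y⁻¹ * (q.1.1 : G), hq q.1 q.2⟩
          invFun := fun z => ⟨(⟨y * z.1, mul_mem hy (Subgroup.mem_inf.1 z.2).1⟩,
            ⟨(z.1)⁻¹ * w, mul_mem (inv_mem (Subgroup.mem_inf.1 z.2).2) hw⟩), by group⟩
          left_inv := fun q => by
            obtain ⟨⟨⟨a, ha⟩, ⟨d, hd⟩⟩, h⟩ := q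
            have h' : a * d = y * w := mul_right_cancel h
            refine Subtype.ext (Prod.ext (Subtype.ext ?_) (Subtype.ext ?_))
            · show y * (y⁻¹ * a) = a
              group
            · show (y⁻¹ * a)⁻¹ * w = d
              rw [mul_inv_rev, inv_inv, mul_assoc, ← h', inv_mul_cancel_left]
          right_inv := fun z => Subtype.ext (by simp) }
    have hcount := Finset.card_eq_sum_card_fiberwise
      (s := (Finset.univ : Finset (P × C[Subgroup.zpowers x₀])))
      (f := fun q => (q.1 : G) * (q.2 : G) * g₀) (t := S)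
      fun q _ => hmemS _ q.1.2 _ q.2.2
    rw [Finset.sum_congr rfl hfibc, Finset.sum_const, smul_eq_mul, Finset.card_univ,
      Fintype.card_prod, ← Nat.card_eq_fintype_card, ← Nat.card_eq_fintype_card, hcardC] at hcount
    have hcount' : (Nat.card P : ℂ) * (Nat.card C[Subgroup.zpowers u] : ℂ) =
        (S.card : ℂ) * (cCen P x₀ : ℂ) := by exact_mod_cast hcount
    rw [← Finset.sum_filter, ← hS]
    refine mul_left_cancel₀ (Char.card_cast_ne_zero (G := C[Subgroup.zpowers u])) ?_
    rw [Finset.mul_sum, Finset.sum_congr rfl hconst, Finset.sum_const, nsmul_eq_mul, ← mul_assoc,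
      ← hcount']
    ring
  have hone : ∀ g u : G, ∑ b ∈ blocksOf M C[Subgroup.zpowers u],
      (if Relation.ReflTransGen (NormalSubpairRel p M) (conjIdx g ⟨Subgroup.zpowers u, b⟩) ⟨P, c⟩
        then H (g * u * g⁻¹) else 0) = if g * u * g⁻¹ ∈ P then H (g * u * g⁻¹) else 0 := by
    intro g u
    split_ifs with hx
    · obtain ⟨bx, hbx, hle⟩ := exists_subpair hM hPc (Subgroup.zpowers_le.2 hx)
      have hmap : (Subgroup.zpowers (g * u * g⁻¹)).map (MulAut.conj g⁻¹).toMonoidHom =
          Subgroup.zpowers u := by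
        rw [conj_zpowers_map]; congr 1; group
      have hrel : Relation.ReflTransGen (NormalSubpairRel p M)
          (conjIdx g ⟨Subgroup.zpowers u, conjSet (conjMaps_centralizer hmap) bx⟩) ⟨P, c⟩ := by
        rw [← conjIdx_eq hmap bx, conjIdx_mul, mul_inv_cancel, conjIdx_one]
        exact hle
      rw [Finset.sum_eq_single_of_mem (conjSet (conjMaps_centralizer hmap) bx)
        ((mem_blocksOf hM).2 (isPBlock_conjSet _ hbx)) fun b hb hne => if_neg fun hg => hne ?_,
        if_pos hrel]
      have h2 := hg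
      rw [conjIdx_eq (conj_zpowers_map g u)] at h2
      have h3 := subpair_unique hM hPc h2 hle
      have h4 : (⟨Subgroup.zpowers u, b⟩ : BrauerPairIdx G) =
          conjIdx g⁻¹ ⟨Subgroup.zpowers (g * u * g⁻¹), bx⟩ := by
        rw [← h3, ← conjIdx_eq (conj_zpowers_map g u), conjIdx_mul, inv_mul_cancel, conjIdx_one]
      rw [conjIdx_eq hmap] at h4
      exact eq_of_heq (Sigma.mk.inj h4).2
    · refine Finset.sum_eq_zero fun b _ => if_neg fun hg => hx ?_
      exact le_of_rel hg ⟨u, Subgroup.mem_zpowers u, rfl⟩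
  calc (Nat.card P : ℂ) * ∑ u : G, ∑ b ∈ blocksOf M C[Subgroup.zpowers u], f u b
      = ∑ u : G, ∑ b ∈ blocksOf M C[Subgroup.zpowers u], ∑ g : G,
          (if Relation.ReflTransGen (NormalSubpairRel p M)
            (conjIdx g ⟨Subgroup.zpowers u, b⟩) ⟨P, c⟩ then H (g * u * g⁻¹) else 0) := by
        rw [Finset.mul_sum]
        refine Finset.sum_congr rfl fun u _ => ?_
        rw [Finset.mul_sum]
        exact Finset.sum_congr rfl fun b hb => (hfib u b hb).symm
    _ = ∑ g : G, ∑ u : G, if g * u * g⁻¹ ∈ P then H (g * u * g⁻¹) else 0 := by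
        conv_rhs => rw [Finset.sum_comm]
        refine Finset.sum_congr rfl fun u _ => ?_
        rw [Finset.sum_comm]
        exact Finset.sum_congr rfl fun g _ => hone g u
    _ = ∑ _g : G, ∑ x : P, H (x : G) := by
        refine Finset.sum_congr rfl fun g _ => ?_
        rw [Fintype.sum_equiv (MulAut.conj g).toEquiv
          (fun u => if g * u * g⁻¹ ∈ P then H (g * u * g⁻¹) else 0)
          (fun x => if x ∈ P then H x else 0) (fun u => rfl), ← Finset.sum_filter]
        exact Finset.sum_subtype _ (fun x => by simp) H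
    _ = _ := by rw [Finset.sum_const, Finset.card_univ, nsmul_eq_mul, Nat.card_eq_fintype_card]

open Classical in
/-- The normalized regular norm of the section of `χ` at a block. -/
noncomputable def secNormAt (p : ℕ) {u : G} (χ : IrrCharacter G)
    (b : Set (IrrCharacter C[Subgroup.zpowers u])) : ℂ :=
  (Nat.card C[Subgroup.zpowers u] : ℂ)⁻¹ * ∑ y : C[Subgroup.zpowers u],
    if IsPRegular p y then
      blockPart b (secFn u C[Subgroup.zpowers u] (χ : G → ℂ)) y *
        conj (blockPart b (secFn u C[Subgroup.zpowers u] (χ : G → ℂ)) y)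
    else 0

open Classical in
/-- The normalized regular norm of the section of `χ` at an element of `P`. -/
noncomputable def secNorm (p : ℕ) (M : Ideal AlgInt) (P : Subgroup G)
    (c : Set (IrrCharacter C[P])) (χ : IrrCharacter G) (x : G) : ℂ :=
  if h : ∃ b : Set (IrrCharacter C[Subgroup.zpowers x]),
      SubpairLE p M (Subgroup.zpowers x) b P c
  then secNormAt p χ h.choose else 0

include hM in
theorem secNorm_eq (hPc : IsBrauerPair p M P c) (χ : IrrCharacter G) {x : G}
    {b : Set (IrrCharacter C[Subgroup.zpowers x])} (h : SubpairLE p M (Subgroup.zpowers x) b P c) :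
    secNorm p M P c χ x = secNormAt p χ b := by
  classical
  have he : ∃ b' : Set (IrrCharacter C[Subgroup.zpowers x]),
      SubpairLE p M (Subgroup.zpowers x) b' P c := ⟨b, h⟩
  rw [secNorm, dif_pos he, subpair_unique hM hPc he.choose_spec h]

include hM in
/-- Sections are equivariant under conjugation. -/
theorem blockPart_secFn_conj (χ : IrrCharacter G) {u g v : G}
    (h : (Subgroup.zpowers u).map (MulAut.conj g).toMonoidHom = Subgroup.zpowers v)
    (hv : g * u * g⁻¹ = v) {b : Set (IrrCharacter C[Subgroup.zpowers u])} (hb : IsPBlock M b)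
    (y : C[Subgroup.zpowers u]) :
    blockPart (conjSet (conjMaps_centralizer h) b) (secFn v C[Subgroup.zpowers v] (χ : G → ℂ))
        (conjIso (conjMaps_centralizer h) y) =
      blockPart b (secFn u C[Subgroup.zpowers u] (χ : G → ℂ)) y := by
  rw [← hatC_blkO hM χ (isPBlock_conjSet _ hb), ← hatC_blkO hM χ hb,
    show v * ((conjIso (conjMaps_centralizer h) y : C[Subgroup.zpowers v]) : G) =
      g * (u * (y : G)) * g⁻¹ by
      show v * (g * (y : G) * g⁻¹) = _
      rw [← hv]; group]
  have e : blkO hM (Subgroup.zpowers v) (conjSet (conjMaps_centralizer h) b) =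
      conjA (locRing hM) g (blkO hM (Subgroup.zpowers u) b) := by
    refine MonoidAlgebra.ext (Finsupp.ext fun z => ?_)
    obtain ⟨z, rfl⟩ : ∃ w, g * w * g⁻¹ = z := ⟨g⁻¹ * z * g, by group⟩
    refine Subtype.ext ?_
    rw [coeff_conjA, blkO, blkO, coeff_vO hM (vInt_indVec hM (isPBlock_conjSet _ hb)),
      coeff_vO hM (vInt_indVec hM hb), extF_indVec, extF_indVec, subgroupBlockCoeff_conjSet]
  rw [e, hatC_conjA hM χ.2.isClassFunction]

include hM in
theorem secNormAt_conj (χ : IrrCharacter G) {u g v : G}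
    (h : (Subgroup.zpowers u).map (MulAut.conj g).toMonoidHom = Subgroup.zpowers v)
    (hv : g * u * g⁻¹ = v) {b : Set (IrrCharacter C[Subgroup.zpowers u])} (hb : IsPBlock M b) :
    secNormAt p χ (conjSet (conjMaps_centralizer h) b) = secNormAt p χ b := by
  classical
  simp only [secNormAt]
  rw [Nat.card_congr (conjIso (conjMaps_centralizer h)).toEquiv.symm]
  congr 1
  refine (Fintype.sum_equiv (conjIso (conjMaps_centralizer h)).toEquiv _ _ fun y => ?_).symm
  simp only [MulEquiv.toEquiv_eq_coe, MulEquiv.coe_toEquiv, blockPart_secFn_conj hM χ h hv hb,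
    IsPRegular, MulEquiv.orderOf_eq]
  by_cases hy : p ∣ orderOf y <;> simp [hy]

open Classical in
include hM in
theorem sum_reg_pair_blockParts {A : Type u} [Group A] [Fintype A] (θ : A → ℂ)
    (w w' : Set (IrrCharacter A) → ℂ) :
    ∑ y : A, (if IsPRegular p y then (∑ b ∈ blocksOf M A, w b * blockPart b θ y) *
        conj (∑ b ∈ blocksOf M A, w' b * blockPart b θ y) else 0) =
      ∑ b ∈ blocksOf M A, w b * conj (w' b) *
        ∑ y : A, (if IsPRegular p y then blockPart b θ y * conj (blockPart b θ y) else 0) := by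
  have e : ∀ y : A, (if IsPRegular p y then (∑ b ∈ blocksOf M A, w b * blockPart b θ y) *
        conj (∑ b ∈ blocksOf M A, w' b * blockPart b θ y) else 0) =
      ∑ b ∈ blocksOf M A, ∑ b' ∈ blocksOf M A, w b * conj (w' b') *
        (if IsPRegular p y then blockPart b θ y * conj (blockPart b' θ y) else 0) := by
    intro y
    split_ifs
    · rw [map_sum, Finset.sum_mul_sum]
      exact Finset.sum_congr rfl fun b _ => Finset.sum_congr rfl fun b' _ => by rw [map_mul]; ring
    · simp
  rw [Finset.sum_congr rfl fun y _ => e y, Finset.sum_comm]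
  refine Finset.sum_congr rfl fun b hb => ?_
  rw [Finset.sum_comm]
  simp only [← Finset.mul_sum]
  refine Finset.sum_eq_single_of_mem b hb fun b' hb' hne => ?_
  rw [sum_reg_blockPart_mul_conj_ne hM ((mem_blocksOf hM).1 hb) ((mem_blocksOf hM).1 hb')
    (Ne.symm hne), mul_zero]

variable {lam mu : G → ℂ} {χ : IrrCharacter G}

include hmax in
include hM in
/-- The inner products of star products as sums over the defect group. -/
theorem classInner_starFn (hinn : InnerFusion p M P c) (hlam : IsFusChar p M P c lam)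
    (hmu : IsFusChar p M P c mu) (hχ : χ ∈ B) :
    (Nat.card P : ℂ) * classInner (starFn hM P c lam χ) (starFn hM P c mu χ) =
      ∑ x : P, (cCen P (x : G) : ℂ) *
        (lam (x : G) * conj (mu (x : G)) * secNorm p M P c χ (x : G)) := by
  classical
  set f : ∀ u : G, Set (IrrCharacter C[Subgroup.zpowers u]) → ℂ := fun u b =>
    if ∃ k : ℕ, orderOf u = p ^ k then
      lamW p M P c lam u ⟨Subgroup.zpowers u, b⟩ *
        conj (lamW p M P c mu u ⟨Subgroup.zpowers u, b⟩) *
        ((Nat.card C[Subgroup.zpowers u] : ℂ) * secNormAt p χ b)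
    else 0 with hfd
  have h := block_fiber_sum hM hmax hinn f
    (fun x => lam x * conj (mu x) * secNorm p M P c χ x) ?_ ?_
  · refine mul_left_cancel₀ (Char.card_cast_ne_zero (G := G)) ?_
    rw [← h, mul_left_comm]
    congr 1
    rw [classInner, mul_inv_cancel_left₀ Char.card_cast_ne_zero,
      ← Finset.sum_fiberwise Finset.univ (fun g : G => pPt p g)]
    refine Finset.sum_congr rfl fun u _ => ?_
    by_cases hu : ∃ k : ℕ, orderOf u = p ^ k
    · simp only [hfd, if_pos hu, secNormAt, mul_inv_cancel_left₀ Char.card_cast_ne_zero]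
      rw [sum_pPt_eq hu (commute_mem_cen u) (centralizer_singleton_le u),
        ← sum_reg_pair_blockParts hM]
      refine Finset.sum_congr rfl fun y _ => ?_
      split_ifs with hy
      · rw [starFn_section hM lam χ hu hy, starFn_section hM mu χ hu hy]
      · rfl
    · rw [Finset.filter_eq_empty_iff.2 fun g _ (h' : pPt p g = u) => hu (by rw [← h']; exact exists_orderOf_pPt g),
        Finset.sum_empty]
      exact (Finset.sum_eq_zero fun b _ => by simp only [hfd, if_neg hu]).symm
  · intro u g b hb hg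
    have hmap := conj_zpowers_map g u
    have hmem : g * u * g⁻¹ ∈ P := le_of_rel hg ⟨u, Subgroup.mem_zpowers u, rfl⟩
    obtain ⟨k, hk⟩ := isPGroup_exists_orderOf hmax.1.1.1 hmem
    have hu : ∃ k : ℕ, orderOf u = p ^ k :=
      ⟨k, by rw [← hk]; exact ((MulAut.conj g).orderOf_eq u).symm⟩
    rw [secNorm_eq hM hmax.1.1 χ (b := conjSet (conjMaps_centralizer hmap) b) (by
      show Relation.ReflTransGen _ _ _
      rw [← conjIdx_eq hmap b]; exact hg), secNormAt_conj hM χ hmap rfl hb]
    simp only [hfd, if_pos hu, lamW_eq hM hlam hg, lamW_eq hM hmu hg]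
    ring
  · intro u b hb hno
    simp only [hfd, lamW_eq_zero hno, zero_mul, ite_self]

include hM hmax in
theorem pair_or_vanish_nilpotent {u : G} (hu : ∃ k : ℕ, orderOf u = p ^ k)
    {b : Set (IrrCharacter C[Subgroup.zpowers u])} (hb : IsPBlock M b) (hχ : χ ∈ B)
    (hno : ∀ g : G, ¬ Relation.ReflTransGen (NormalSubpairRel p M)
      (conjIdx g ⟨Subgroup.zpowers u, b⟩) ⟨P, c⟩) {y : C[Subgroup.zpowers u]}
    (hy : IsPRegular p y) :
    blockPart b (secFn u C[Subgroup.zpowers u] (χ : G → ℂ)) y = 0 := by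
  rcases pair_or_vanish hM hmax hu hb with ⟨g, hg⟩ | h
  · exact absurd hg (hno g)
  · exact h χ hχ y hy

include hmax in
include hM in
/-- A star product on the regular elements. -/
theorem starFn_reg_class (hlam : IsFusChar p M P c lam) (hχ : χ ∈ B) {g : G}
    (hg : IsPRegular p g) : starFn hM P c lam χ g = lam 1 * (χ : G → ℂ) g := by
  have h1 : ∃ k : ℕ, orderOf (1 : G) = p ^ k := ⟨0, by simp⟩
  have hmem : g ∈ C[Subgroup.zpowers (1 : G)] := Subgroup.mem_centralizer_iff.2 fun z hz => by
    have hz' : z ∈ Subgroup.zpowers (1 : G) := hz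
    rw [Subgroup.zpowers_one_eq_bot, Subgroup.mem_bot] at hz'
    rw [hz', one_mul, mul_one]
  obtain ⟨y, hy⟩ : ∃ y : C[Subgroup.zpowers (1 : G)], (y : G) = g := ⟨⟨g, hmem⟩, rfl⟩
  have hyr : IsPRegular p y := by rwa [IsPRegular, ← orderOf_submonoid, hy]
  rw [show g = 1 * (y : G) by rw [hy, one_mul], starFn_section hM lam χ h1 hyr,
    sum_blockPart_section hM χ, Finset.mul_sum]
  refine Finset.sum_congr rfl fun b hb => ?_
  rcases pair_or_vanish hM hmax h1 ((mem_blocksOf hM).1 hb) with ⟨x, hx⟩ | h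
  · rw [lamW_eq hM hlam hx, mul_one, mul_inv_cancel]
  · rw [h χ hχ y hyr, mul_zero, mul_zero]

include hmax in
include hM in
/-- The degree-weighted sum of the products is the regular part. -/
theorem sum_degree_starFn (hinn : InnerFusion p M P c) (hχ : χ ∈ B) (g : G) :
    ∑ ζ : IrrCharacter P, (ζ : P → ℂ) 1 * starFn hM P c (extP P (ζ : P → ℂ)) χ g =
      (Nat.card P : ℂ) * pRegularPart p (χ : G → ℂ) g := by
  classical
  have hf : ∀ ζ : IrrCharacter P, IsFusChar p M P c (extP P (ζ : P → ℂ)) :=
    fun ζ => isFusChar_extP hinn ζ.2.isGeneralized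
  obtain ⟨u, hu, hup, y, hyr, hg⟩ := exists_section_decomp (p := p) g
  subst hg
  simp only [starFn_section hM _ χ hup hyr, Finset.mul_sum]
  rw [Finset.sum_comm]
  by_cases hu1 : u = 1
  · subst hu1
    have hreg : IsPRegular p ((1 : G) * (y : G)) := by
      rw [one_mul]; rwa [IsPRegular, orderOf_submonoid]
    rw [pRegularPart_of_reg hreg, sum_blockPart_section hM χ, Finset.mul_sum]
    refine Finset.sum_congr rfl fun b hb => ?_
    rcases pair_or_vanish hM hmax hup ((mem_blocksOf hM).1 hb) with ⟨x, hx⟩ | h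
    · simp only [lamW_eq hM (hf _) hx, mul_one, mul_inv_cancel, extP_mem _ (one_mem P), ← mul_assoc]
      rw [← Finset.sum_mul]
      congr 1
      have := Char.sum_degree_mul (1 : P)
      rwa [if_pos rfl] at this
    · simp [h χ hχ y hyr]
  · have hsing : ¬ IsPRegular p (u * (y : G)) := fun h => hu1 (by
      rw [← pPt_mul_reg hup (commute_mem_cen u y)
        (by rwa [IsPRegular, orderOf_submonoid]), (pPt_eq_one_iff _).2 h])
    rw [pRegularPart_of_sing hsing, mul_zero]
    refine Finset.sum_eq_zero fun b hb => ?_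
    rcases pair_or_vanish hM hmax hup ((mem_blocksOf hM).1 hb) with ⟨x, hx⟩ | h
    · have hmem : x * u * x⁻¹ ∈ P := le_of_rel hx ⟨u, Subgroup.mem_zpowers u, rfl⟩
      simp only [lamW_eq hM (hf _) hx, extP_mem _ hmem, ← mul_assoc]
      rw [← Finset.sum_mul, Char.sum_degree_mul, if_neg, zero_mul]
      exact fun h => hu1 (by simpa using congrArg Subtype.val h)
    · simp [h χ hχ y hyr]

end Cfsg.Lib.Block
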