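import Cfsg.Agent.Lib.Block.StarAbelian
import Mathlib.GroupTheory.FiniteAbelian.Duality

/-!
# Counting characters along a coset of the commutator of the inertial group
-/

set_option autoImplicit false
set_option linter.unusedSectionVars false
set_option linter.style.haveILetI false
set_option maxHeartbeats 1600000

namespace Cfsg.Lib.Block

open Cfsg
open scoped ComplexConjugate

universe u

noncomputable local instance (priority := high) fintypeSubgroupStarFixed {A : Type u} [Group A]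
    [Fintype A] (H : Subgroup A) : Fintype H := Fintype.ofFinite H

local notation "C[" Q "]" => Subgroup.centralizer (SetLike.coe Q)

open Classical in
/-- The sum of the linear characters at an element of a finite abelian group. -/
theorem sum_monoidHom_units {A : Type u} [CommGroup A] [Finite A] [Fintype (A →* ℂˣ)] (a : A) :
    ∑ φ : A →* ℂˣ, ((φ a : ℂˣ) : ℂ) = if a = 1 then (Nat.card A : ℂ) else 0 := by
  split_ifs with ha
  · simp only [ha, map_one, Units.val_one, Finset.sum_const, Finset.card_univ, nsmul_eq_mul,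
      mul_one]
    rw [← Nat.card_eq_fintype_card, Char.card_monoidHom_units]
  · haveI : NeZero (Monoid.exponent A) := ⟨Monoid.exponent_ne_zero_of_finite⟩
    obtain ⟨ψ, hψ⟩ := CommGroup.exists_apply_ne_one_of_hasEnoughRootsOfUnity A ℂ ha
    have h : ((ψ a : ℂˣ) : ℂ) * ∑ φ : A →* ℂˣ, ((φ a : ℂˣ) : ℂ) =
        ∑ φ : A →* ℂˣ, ((φ a : ℂˣ) : ℂ) := by
      rw [Finset.mul_sum]
      exact Fintype.sum_equiv (Equiv.mulLeft ψ) _ _ fun φ => by simp
    have h' : (((ψ a : ℂˣ) : ℂ) - 1) * ∑ φ : A →* ℂˣ, ((φ a : ℂˣ) : ℂ) = 0 := by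
      rw [sub_mul, one_mul, h, sub_self]
    exact (mul_eq_zero.1 h').resolve_left (sub_ne_zero.2 fun e => hψ (Units.ext e))

variable {p : ℕ} {M : Ideal AlgInt} (hM : IsPModular p M) {G : Type u} [Group G] [Fintype G]
  [Fact p.Prime] {B : Set (IrrCharacter G)} {P : Subgroup G} {c : Set (IrrCharacter C[P])}
  {T : Subgroup G}

variable (hmax : IsMaximalBrauerPair p M B P c) (hab : ∀ x ∈ P, ∀ y ∈ P, x * y = y * x)
  (hT : ∀ g : G, g ∈ T ↔ g ∈ Subgroup.normalizer (P : Set G) ∧ StabilizesBlock C[P] c g)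

include hmax hab hT in
include hM in
open Classical in
/-- The characters of the block counted along a coset of the commutator of the inertial group. -/
theorem count_formula (N : Subgroup P) [N.Normal]
    (hN : ∀ t ∈ T, ∀ x : P, ∀ h : t * (x : G) * t⁻¹ ∈ P, (⟨t * (x : G) * t⁻¹, h⟩ : P)⁻¹ * x ∈ N)
    (a : P) :
    Nat.card T * Nat.card B = N.index *
      ∑ x ∈ (Finset.univ : Finset P).filter (fun x => x⁻¹ * a ∈ N),
        cCen T (x : G) * lRank p M P c (x : G) := by
  letI : CommGroup (P ⧸ N) :=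
    { (inferInstance : Group (P ⧸ N)) with
      mul_comm := fun x y => by
        obtain ⟨x, rfl⟩ := QuotientGroup.mk_surjective x
        obtain ⟨y, rfl⟩ := QuotientGroup.mk_surjective y
        show ((x * y : P) : P ⧸ N) = ((y * x : P) : P ⧸ N)
        rw [show x * y = y * x from Subtype.ext (hab _ x.2 _ y.2)] }
  haveI : Finite ((P ⧸ N) →* ℂˣ) := by
    apply Nat.finite_of_card_ne_zero
    rw [Char.card_monoidHom_units]
    exact Nat.card_pos.ne'
  haveI := Fintype.ofFinite ((P ⧸ N) →* ℂˣ)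
  have hfoc : ∀ φ : (P ⧸ N) →* ℂˣ, IsFocChar p M P c (lamOf φ) := by
    intro φ
    refine isFocChar_of_invariant hM hmax hab hT (fun x hx y hy => ?_) ?_ fun t ht x hx => ?_
    · rw [lamOf_mem φ hx, lamOf_mem φ hy, lamOf_mem φ (mul_mem hx hy), ← Units.val_mul, ← map_mul]
      rfl
    · rw [lamOf_mem φ (one_mem P), show ((⟨1, one_mem P⟩ : P) : P ⧸ N) = 1 from rfl, map_one,
        Units.val_one]
    · have htx : t * x * t⁻¹ ∈ P := (Subgroup.mem_normalizer_iff.1 ((hT t).1 ht).1 x).1 hx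
      rw [lamOf_mem φ htx, lamOf_mem φ hx]
      congr 2
      exact (QuotientGroup.eq).2 (hN t ht ⟨x, hx⟩ htx)
  have hfree : ∀ (φ : (P ⧸ N) →* ℂˣ) (χ : IrrCharacter G), χ ∈ B →
      classInner (starFn hM P c (lamOf φ) χ) (χ : G → ℂ) = if φ = 1 then 1 else 0 := by
    intro φ χ hχ
    obtain ⟨ψ, -, hψ⟩ := exists_starIrr hM hmax (hfoc φ) hχ
    split_ifs with hφ
    · rw [starFn_trivial hM hmax (hfoc φ) hχ fun x hx => by rw [lamOf_mem φ hx, hφ]; rfl,
        Char.classInner_irr_self χ.2]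
    · rw [← hψ]
      refine Char.classInner_irr_ne ψ.2 χ.2 fun h => hφ (MonoidHom.ext fun z => ?_)
      obtain ⟨z, rfl⟩ := QuotientGroup.mk_surjective z
      have h1 := fixed_center hM hmax (hfoc φ) hχ (hψ.symm.trans h) z.2
        fun d hd => hab d hd z z.2
      rw [lamOf_mem φ z.2] at h1
      exact Units.ext h1
  apply Nat.cast_injective (R := ℂ)
  have hL : ∑ φ : (P ⧸ N) →* ℂˣ, ((φ ((a : P ⧸ N))⁻¹ : ℂˣ) : ℂ) * ((Nat.card T : ℂ) *
      ∑ χ ∈ B.toFinset, classInner (starFn hM P c (lamOf φ) χ) (χ : G → ℂ)) =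
      ((Nat.card T * Nat.card B : ℕ) : ℂ) := by
    rw [Finset.sum_eq_single_of_mem (1 : (P ⧸ N) →* ℂˣ) (Finset.mem_univ _) fun φ _ hφ => by
      rw [Finset.sum_eq_zero fun χ hχ => by rw [hfree φ χ (Set.mem_toFinset.1 hχ), if_neg hφ],
        mul_zero, mul_zero]]
    rw [Finset.sum_congr rfl fun χ hχ => by rw [hfree 1 χ (Set.mem_toFinset.1 hχ), if_pos rfl],
      MonoidHom.one_apply, Units.val_one, one_mul, Finset.sum_const, nsmul_eq_mul, mul_one,
      Set.toFinset_card, ← Nat.card_eq_fintype_card, Nat.cast_mul]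
  rw [← hL]
  simp only [star_trace hM hmax hab hT (hfoc _), Finset.mul_sum]
  rw [Finset.sum_comm]
  push_cast
  rw [Finset.sum_filter]
  refine Finset.sum_congr rfl fun x _ => ?_
  have e : ∀ φ : (P ⧸ N) →* ℂˣ, ((φ ((a : P ⧸ N))⁻¹ : ℂˣ) : ℂ) *
      (lamOf φ (x : G) * ((cCen T (x : G) : ℂ) * (lRank p M P c (x : G) : ℂ))) =
      ((φ (((a : P ⧸ N))⁻¹ * (x : P ⧸ N)) : ℂˣ) : ℂ) *
        ((cCen T (x : G) : ℂ) * (lRank p M P c (x : G) : ℂ)) := by
    intro φ
    rw [lamOf_mem φ x.2, map_mul, Units.val_mul, mul_assoc]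
  rw [Finset.sum_congr rfl fun φ _ => e φ, ← Finset.sum_mul, sum_monoidHom_units]
  have hiff : ((a : P ⧸ N))⁻¹ * (x : P ⧸ N) = 1 ↔ x⁻¹ * a ∈ N := by
    rw [inv_mul_eq_one, eq_comm, QuotientGroup.eq]
  by_cases hx : x⁻¹ * a ∈ N
  · rw [if_pos hx, if_pos (hiff.2 hx), Subgroup.index]
  · rw [if_neg hx, if_neg fun h => hx (hiff.1 h), zero_mul]

include hM in
open Classical in
/-- The pair at the trivial subgroup is the block itself. -/
theorem blockRank_pair_one (hmax : IsMaximalBrauerPair p M B P c)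
    {b : Set (IrrCharacter C[Subgroup.zpowers (1 : G)])}
    (hle : SubpairLE p M (Subgroup.zpowers (1 : G)) b P c) : blockRank p b = blockRank p B := by
  have hPc := hmax.1.1
  have hB := hmax.1.2.1
  have h1 : ∃ k : ℕ, orderOf (1 : G) = p ^ k := ⟨0, by simp⟩
  have hb := (isBrauerPair_of_le hle hPc).2
  have hind := (isBrauerPairOf_zpowers_iff hM hB h1 hb).1
    ((isBrauerPairOf_iff_of_le hM hle B).1 hmax.1)
  have hmem : ∀ g : G, g ∈ C[Subgroup.zpowers (1 : G)] := fun g =>
    Subgroup.mem_centralizer_iff.2 fun z hz => by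
      have hz' : z ∈ Subgroup.zpowers (1 : G) := hz
      rw [Subgroup.zpowers_one_eq_bot, Subgroup.mem_bot] at hz'
      rw [hz', one_mul, mul_one]
  have hset : indSet M C[Subgroup.zpowers (1 : G)] B = b := by
    ext η
    constructor
    · intro hη
      have hbr := (isBrauerPairOf_zpowers_iff hM hB h1 (isPBlock_blockOf η)).2 hη
      obtain ⟨g, hg⟩ := exists_conj_le_maximal hM hmax hbr
      rw [conjIdx_eq_self_of_mem (hmem g)] at hg
      rw [← subpair_unique hM hPc hg hle]
      exact self_mem_blockOf hM η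
    · intro hη
      show IsInducedBlock M C[Subgroup.zpowers (1 : G)] (blockOf M (η : _ → ℂ)) B
      rwa [← eq_blockOf_of_mem hM hb hη]
  rw [← hset]
  have h := blockRank_indSet_one hM hB
  rwa [centralizer_singleton_eq] at h

include hmax hab hT in
include hM in
/-- An element of the commutator fixed by the inertial group is trivial. -/
theorem eq_one_of_fixed_of_mem {N : Subgroup P}
    (hN : N ≤ Subgroup.closure {z : P | ∃ t ∈ T, ∃ x : P, ∃ h : t * (x : G) * t⁻¹ ∈ P,
      z = (⟨t * (x : G) * t⁻¹, h⟩ : P)⁻¹ * x})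
    {y : P} (hy : y ∈ N) (hfix : ∀ t ∈ T, t * (y : G) * t⁻¹ = y) : y = 1 := by
  classical
  letI : CommGroup P :=
    { (inferInstance : Group P) with mul_comm := fun x z => Subtype.ext (hab _ x.2 _ z.2) }
  have hTN : T ≤ Subgroup.normalizer (P : Set G) := fun t ht => ((hT t).1 ht).1
  let f : T →* MulAut P := P.normalizerMonoidHom.comp (Subgroup.inclusion hTN)
  have hf : ∀ (t : T) (x : P), ((f t x : P) : G) = (t : G) * x * (t : G)⁻¹ := fun _ _ => rfl
  haveI := Fintype.ofFinite f.range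
  let τ : P →* P :=
    { toFun := fun x => ∏ α : f.range, (α : MulAut P) x
      map_one' := Finset.prod_eq_one fun α _ => map_one _
      map_mul' := fun x z => by simp only [map_mul, Finset.prod_mul_distrib] }
  have hτinv : ∀ (t : T) (x : P), τ (f t x) = τ x := fun t x =>
    Fintype.prod_equiv (Equiv.mulRight (⟨f t, t, rfl⟩ : f.range))
      (fun α : f.range => (α : MulAut P) (f t x)) (fun α : f.range => (α : MulAut P) x)
      fun α => rfl
  have hker : N ≤ τ.ker := hN.trans <| (Subgroup.closure_le _).2 fun z ⟨t, ht, x, h, hz⟩ => by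
    have e : (⟨t * (x : G) * t⁻¹, h⟩ : P) = f ⟨t, ht⟩ x := Subtype.ext (hf ⟨t, ht⟩ x).symm
    rw [SetLike.mem_coe, MonoidHom.mem_ker, hz, e, map_mul, map_inv, hτinv, inv_mul_cancel]
  have hτy : τ y = y ^ Fintype.card f.range := by
    show ∏ α : f.range, (α : MulAut P) y = _
    rw [Finset.prod_congr rfl (g := fun _ => y) fun α _ => ?_, Finset.prod_const, Finset.card_univ]
    obtain ⟨t, ht⟩ := α.2
    rw [← ht]
    exact Subtype.ext ((hf t y).trans (hfix t t.2))
  have h1 : y ^ Fintype.card f.range = 1 := by rw [← hτy]; exact MonoidHom.mem_ker.1 (hker hy)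
  have hkerf : f.ker = (C[P]).subgroupOf T := by
    ext t
    rw [MonoidHom.mem_ker, Subgroup.mem_subgroupOf, Subgroup.mem_centralizer_iff]
    constructor
    · intro h z hz
      have h' := congrArg (fun a : MulAut P => ((a ⟨z, hz⟩ : P) : G)) h
      simp only [hf, MulAut.one_apply] at h'
      exact (mul_inv_eq_iff_eq_mul.1 h').symm
    · intro h
      refine MulEquiv.ext fun x => Subtype.ext ?_
      rw [hf, ← h x x.2, mul_inv_cancel_right]
      rfl
  have hcard : ¬ p ∣ Fintype.card f.range := by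
    rw [← Nat.card_eq_fintype_card, ← Subgroup.index_ker, hkerf]
    have h := not_dvd_relIndex_of_maximal hM hmax hT
    rwa [sup_eq_right.2 (le_centralizer_of_abelian hab le_rfl)] at h
  obtain ⟨k, hk⟩ := IsPGroup.iff_orderOf.1 hmax.1.1.1 y
  have h2 : orderOf y ∣ Fintype.card f.range := orderOf_dvd_of_pow_eq_one h1
  rcases Nat.eq_zero_or_pos k with rfl | hk0
  · rw [pow_zero, orderOf_eq_one_iff] at hk; exact hk
  · exact absurd ((dvd_pow_self p hk0.ne').trans (hk ▸ h2)) hcard

include hmax hab hT in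
include hM in
/-- The local root of a pair below the maximal pair. -/
theorem exists_local_root {Q : Subgroup G} {f : Set (IrrCharacter C[Q])}
    (hle : SubpairLE p M Q f P c) :
    ∃ c' : Set (IrrCharacter (Subgroup.centralizer ((P.subgroupOf C[Q] : Subgroup C[Q]) : Set C[Q]))),
      IsMaximalBrauerPair p M f (P.subgroupOf C[Q]) c' ∧
      (∀ k : C[Q], k ∈ T.subgroupOf C[Q] ↔ k ∈ Subgroup.normalizer
          ((P.subgroupOf C[Q] : Subgroup C[Q]) : Set C[Q]) ∧
        StabilizesBlock (Subgroup.centralizer ((P.subgroupOf C[Q] : Subgroup C[Q]) : Set C[Q]))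
          c' k) ∧
      ∀ (R : Subgroup C[Q]) (w : Set (IrrCharacter (Subgroup.centralizer (R : Set C[Q])))),
        Q ≤ R.map C[Q].subtype → SubpairLE p M R w (P.subgroupOf C[Q]) c' →
          ∃ w2 : Set (IrrCharacter C[R.map C[Q].subtype]),
            SubpairLE p M (R.map C[Q].subtype) w2 P c ∧ blockRank p w2 = blockRank p w := by
  classical
  have hPc := hmax.1.1
  have hQP := subpairLE_le hle
  have hPC := le_centralizer_of_abelian hab hQP
  have hQf := isBrauerPair_of_le hle hPc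
  have hloc := isLocalBlock_centralizer hM hQf.2
  have hD := subpair_defect hM hmax hab hle
  obtain ⟨g₀, hg, hn⟩ := normalSubpair_below hM hPc hle hQP le_rfl
    (hPC.trans (Subgroup.centralizer_le_normalizer _))
  have hg₀ : g₀ = c := subpair_unique hM hPc hg Relation.ReflTransGen.refl
  rw [hg₀] at hn
  obtain ⟨P', hP'⟩ : ∃ P' : Subgroup C[Q], P'.map C[Q].subtype = P :=
    ⟨P.subgroupOf C[Q], Subgroup.map_subgroupOf_eq_of_le hPC⟩
  subst hP'
  have h := cen_map_le hQP
  have eD : (P'.map C[Q].subtype).subgroupOf C[Q] = P' :=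
    Subgroup.comap_map_eq_self_of_injective C[Q].subtype_injective P'
  rw [eD] at hD ⊢
  have hup : upBlock P' (hloc.cen_up hQP) (pullSet (cenUp P' h) c) = c := pullSet_symm _ _
  have hmax' : IsMaximalBrauerPair p M f P' (pullSet (cenUp P' h) c) :=
    maximal_of_defectGroup hM
      ((isBrauerPairOf_local_iff hM hloc hQf hQP _).2 (by rwa [hup])) hD
  refine ⟨_, hmax', fun x => ?_, fun R w hR hRw => ⟨upBlock R (hloc.cen_up hR) w, ?_,
    blockRank_pullSet _ _⟩⟩
  · have hco : ∀ z : C[Q], subgroupBlockCoeff C[P'.map C[Q].subtype] c (z : G) =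
        subgroupBlockCoeff (Subgroup.centralizer (P' : Set C[Q])) (pullSet (cenUp P' h) c) z :=
      fun z => by
        conv_lhs => rw [← hup]
        exact subgroupBlockCoeff_upBlock _ _ z
    have hnorm : x ∈ Subgroup.normalizer (P' : Set C[Q]) ↔
        (x : G) ∈ Subgroup.normalizer (P'.map C[Q].subtype : Set G) := by
      refine ⟨fun hx => Subgroup.le_normalizer_map C[Q].subtype ⟨x, hx, rfl⟩, fun hx => ?_⟩
      refine Subgroup.mem_normalizer_iff.2 fun y => ?_
      rw [← Subgroup.mem_map_iff_mem C[Q].subtype_injective,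
        ← Subgroup.mem_map_iff_mem C[Q].subtype_injective (x := x * y * x⁻¹)]
      exact Subgroup.mem_normalizer_iff.1 hx (y : G)
    rw [Subgroup.mem_subgroupOf, hT, ← hnorm]
    refine and_congr_right fun hx => ?_
    rw [stabilizesBlock_iff_coeff (mem_normalizer_centralizer hx),
      stabilizesBlock_iff_coeff (mem_normalizer_centralizer (hnorm.1 hx))]
    constructor
    · intro hs z
      rw [← hco, ← hco]
      exact hs (z : G)
    · intro hs g
      by_cases hg' : g ∈ C[Q]
      · have e1 := hs ⟨g, hg'⟩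
        rw [← hco, ← hco] at e1
        exact e1
      · have e2 : (x : G) * g * (x : G)⁻¹ ∉ C[P'.map C[Q].subtype] := fun hh => hg' (by
          simpa [mul_assoc] using mul_mem (mul_mem (inv_mem x.2) (h hh)) x.2)
        rw [subgroupBlockCoeff, subgroupBlockCoeff, dif_neg e2, dif_neg fun hh => hg' (h hh)]
  · have h2 := rel_up hM hloc (a := ⟨R, w⟩) (b := ⟨P', pullSet (cenUp P' h) c⟩) hRw hR hQP
    dsimp only at h2
    rw [hup] at h2
    exact h2

include hM in
/-- A block and its block at an element fixed by the inertial group. -/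
theorem rank_card_fixed (n : ℕ) : ∀ {G : Type u} [Group G] [Fintype G]
    {B : Set (IrrCharacter G)} {P : Subgroup G} {c : Set (IrrCharacter C[P])} {T : Subgroup G},
    Nat.card G ≤ n → IsMaximalBrauerPair p M B P c → (∀ x ∈ P, ∀ y ∈ P, x * y = y * x) →
    (∀ g : G, g ∈ T ↔ g ∈ Subgroup.normalizer (P : Set G) ∧ StabilizesBlock C[P] c g) →
    ∀ u ∈ P, (∀ t ∈ T, t * u * t⁻¹ = u) →
    ∀ f : Set (IrrCharacter C[Subgroup.zpowers u]), SubpairLE p M (Subgroup.zpowers u) f P c →
      blockRank p B = blockRank p f ∧ Nat.card B = Nat.card f := by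
  induction n using Nat.strong_induction_on with
  | _ n ih =>
  intro G _ _ B P c T hn hmax hab hT u hu hfix f hf
  classical
  have hPc := hmax.1.1
  have hQP : (Subgroup.zpowers u) ≤ P := Subgroup.zpowers_le.2 hu
  have hPC := le_centralizer_of_abelian hab hQP
  have hTK : T ≤ C[Subgroup.zpowers u] := fun t ht => centralizer_singleton_le u
    (Subgroup.mem_centralizer_singleton_iff.2 (mul_inv_eq_iff_eq_mul.1 (hfix t ht)))
  obtain ⟨c', hmax', hT', hup⟩ := exists_local_root hM hmax hab hT hf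
  have hab' : ∀ x ∈ P.subgroupOf C[Subgroup.zpowers u], ∀ y ∈ P.subgroupOf C[Subgroup.zpowers u], x * y = y * x :=
    fun x hx y hy => Subtype.ext (hab _ hx _ hy)
  set N : Subgroup P := Subgroup.closure {z : P | ∃ t ∈ T, ∃ x : P, ∃ h : t * (x : G) * t⁻¹ ∈ P,
    z = (⟨t * (x : G) * t⁻¹, h⟩ : P)⁻¹ * x} with hNdef
  haveI : N.Normal := ⟨fun z hz g => by
    rwa [show g * z = z * g from Subtype.ext (hab _ g.2 _ z.2), mul_inv_cancel_right]⟩
  have hNmem : ∀ t ∈ T, ∀ x : P, ∀ h : t * (x : G) * t⁻¹ ∈ P,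
      (⟨t * (x : G) * t⁻¹, h⟩ : P)⁻¹ * x ∈ N := fun t ht x h =>
    Subgroup.subset_closure ⟨t, ht, x, h, rfl⟩
  let e : P.subgroupOf C[Subgroup.zpowers u] ≃* P := Subgroup.subgroupOfEquivOfLe hPC
  have he : ∀ x : P.subgroupOf C[Subgroup.zpowers u], ((e x : P) : G) = ((x : C[Subgroup.zpowers u]) : G) := fun x => rfl
  let N' : Subgroup (P.subgroupOf C[Subgroup.zpowers u]) := N.comap e.toMonoidHom
  have hN'mem : ∀ t ∈ T.subgroupOf C[Subgroup.zpowers u], ∀ x : P.subgroupOf C[Subgroup.zpowers u],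
      ∀ h : t * (x : C[Subgroup.zpowers u]) * t⁻¹ ∈ P.subgroupOf C[Subgroup.zpowers u],
        (⟨t * (x : C[Subgroup.zpowers u]) * t⁻¹, h⟩ : P.subgroupOf C[Subgroup.zpowers u])⁻¹ * x ∈ N' := by
    intro t ht x h
    rw [Subgroup.mem_comap, MulEquiv.coe_toMonoidHom, map_mul, map_inv]
    exact hNmem (t : G) ht (e x) (show (t : G) * ((x : C[Subgroup.zpowers u]) : G) * (t : G)⁻¹ ∈ P from h)
  have hfixed : ∀ (a x : P), x⁻¹ * a ∈ N → (∀ t ∈ T, t * (a : G) * t⁻¹ = a) →
      (∀ t ∈ T, t * (x : G) * t⁻¹ = x) → x = a := by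
    intro a x hxa ha hx
    have h := eq_one_of_fixed_of_mem hM hmax hab hT (N := N) le_rfl hxa fun t ht => by
      push_cast
      rw [show t * ((x : G)⁻¹ * (a : G)) * t⁻¹ = (t * (x : G) * t⁻¹)⁻¹ * (t * (a : G) * t⁻¹) by
        group, ha t ht, hx t ht]
    exact (inv_mul_eq_one.1 h)
  -- local ranks
  have hjoin : ∀ x : P, ∀ w : Set (IrrCharacter C[(Subgroup.zpowers u) ⊔ Subgroup.zpowers (x : G)]),
      SubpairLE p M ((Subgroup.zpowers u) ⊔ Subgroup.zpowers (x : G)) w P c →
      ∀ x' : C[Subgroup.zpowers u], ((x' : C[Subgroup.zpowers u]) : G) = (x : G) →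
        lRank p M (P.subgroupOf C[Subgroup.zpowers u]) c' x' = blockRank p w := by
    intro x w hw x' hx'
    have hx'P : x' ∈ P.subgroupOf C[Subgroup.zpowers u] := Subgroup.mem_subgroupOf.2 (hx' ▸ x.2)
    have huK : u ∈ C[Subgroup.zpowers u] := hPC hu
    set R : Subgroup C[Subgroup.zpowers u] := Subgroup.zpowers (⟨u, huK⟩ : C[Subgroup.zpowers u]) ⊔ Subgroup.zpowers x' with hR
    have hRP : R ≤ P.subgroupOf C[Subgroup.zpowers u] :=
      sup_le (Subgroup.zpowers_le.2 (Subgroup.mem_subgroupOf.2 hu)) (Subgroup.zpowers_le.2 hx'P)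
    obtain ⟨b', -, hb'⟩ := exists_subpair hM hmax'.1.1 (Subgroup.zpowers_le.2 hx'P)
    obtain ⟨w', -, hw'⟩ := exists_subpair hM hmax'.1.1 hRP
    have hcen : Subgroup.centralizer ((Subgroup.zpowers x' : Subgroup C[Subgroup.zpowers u]) : Set C[Subgroup.zpowers u]) =
        Subgroup.centralizer (R : Set C[Subgroup.zpowers u]) := by
      refine le_antisymm (fun k hk => Subgroup.mem_centralizer_iff.2 fun z hz => ?_)
        (Subgroup.centralizer_le (SetLike.coe_subset_coe.2 le_sup_right))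
      have hle : R ≤ Subgroup.centralizer ({k} : Set C[Subgroup.zpowers u]) := by
        refine sup_le (Subgroup.zpowers_le.2 ?_) (Subgroup.zpowers_le.2 ?_)
        · refine Subgroup.mem_centralizer_singleton_iff.2 (Subtype.ext ?_)
          exact Subgroup.mem_centralizer_iff.1 k.2 u (Subgroup.mem_zpowers u)
        · exact Subgroup.mem_centralizer_singleton_iff.2
            (Subgroup.mem_centralizer_iff.1 hk x' (Subgroup.mem_zpowers x'))
      exact Subgroup.mem_centralizer_singleton_iff.1 (hle hz)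
    rw [lRank_eq hM hmax'.1.1 hb', blockRank_eq_of_cen_eq hM hmax'.1.1 hab' hcen hb' hw']
    have hmap : R.map C[Subgroup.zpowers u].subtype = (Subgroup.zpowers u) ⊔ Subgroup.zpowers (x : G) := by
      rw [hR, Subgroup.map_sup, MonoidHom.map_zpowers, MonoidHom.map_zpowers, ← hx']
      rfl
    obtain ⟨w2, hw2, hr⟩ := hup R w' (hmap ▸ le_sup_left) hw'
    rw [← hr]
    exact blockRank_eq_of_cen_eq hM hPc hab (by rw [hmap]) hw2 hw
  have hglobal : ∀ x : P, (x : G) = u ∨ ¬ (∀ t ∈ T, t * (x : G) * t⁻¹ = x) →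
      ∀ x' : C[Subgroup.zpowers u], ((x' : C[Subgroup.zpowers u]) : G) = (x : G) →
        lRank p M P c (x : G) = lRank p M (P.subgroupOf C[Subgroup.zpowers u]) c' x' := by
    intro x hx x' hx'
    obtain ⟨w, -, hw⟩ := exists_subpair hM hPc
      (sup_le hQP (Subgroup.zpowers_le.2 x.2) : (Subgroup.zpowers u) ⊔ Subgroup.zpowers (x : G) ≤ P)
    obtain ⟨bx, -, hbx⟩ := exists_subpair hM hPc (Subgroup.zpowers_le.2 x.2)
    rw [hjoin x w hw x' hx', lRank_eq hM hPc hbx]
    rcases hx with hxu | hnf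
    · exact blockRank_eq_of_cen_eq hM hPc hab (by rw [hxu, sup_idem]) hbx hw
    -- induction inside the centralizer of `x`
    obtain ⟨c₁, hmax₁, hT₁, hup₁⟩ := exists_local_root hM hmax hab hT hbx
    have hab₁ : ∀ a ∈ P.subgroupOf C[Subgroup.zpowers (x : G)],
        ∀ b ∈ P.subgroupOf C[Subgroup.zpowers (x : G)], a * b = b * a :=
      fun a ha b hb => Subtype.ext (hab _ ha _ hb)
    have hxPC := le_centralizer_of_abelian hab (Subgroup.zpowers_le.2 x.2)
    have hlt : Nat.card C[Subgroup.zpowers (x : G)] < Nat.card G := by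
      refine lt_of_le_of_ne (Subgroup.card_le_card_group _) fun h => hnf fun t _ => ?_
      have ht : t ∈ C[Subgroup.zpowers (x : G)] := by
        rw [Subgroup.eq_top_of_card_eq _ h]; exact Subgroup.mem_top t
      rw [← Subgroup.mem_centralizer_iff.1 ht (x : G) (Subgroup.mem_zpowers _),
        mul_inv_cancel_right]
    set u₁ : C[Subgroup.zpowers (x : G)] := ⟨u, hxPC hu⟩ with hu₁
    set x₁ : C[Subgroup.zpowers (x : G)] := ⟨x, hxPC x.2⟩ with hx₁
    obtain ⟨g₁, -, hg₁⟩ := exists_subpair hM hmax₁.1.1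
      (Subgroup.zpowers_le.2 (Subgroup.mem_subgroupOf.2 hu : u₁ ∈ P.subgroupOf _))
    set R : Subgroup C[Subgroup.zpowers (x : G)] :=
      Subgroup.zpowers u₁ ⊔ Subgroup.zpowers x₁ with hR
    have hRP : R ≤ P.subgroupOf C[Subgroup.zpowers (x : G)] :=
      sup_le (Subgroup.zpowers_le.2 (Subgroup.mem_subgroupOf.2 hu))
        (Subgroup.zpowers_le.2 (Subgroup.mem_subgroupOf.2 x.2))
    obtain ⟨w₁, -, hw₁⟩ := exists_subpair hM hmax₁.1.1 hRP
    have hcen : Subgroup.centralizer
        ((Subgroup.zpowers u₁ : Subgroup C[Subgroup.zpowers (x : G)]) :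
          Set C[Subgroup.zpowers (x : G)]) =
        Subgroup.centralizer (R : Set C[Subgroup.zpowers (x : G)]) := by
      refine le_antisymm (fun k hk => Subgroup.mem_centralizer_iff.2 fun z hz => ?_)
        (Subgroup.centralizer_le (SetLike.coe_subset_coe.2 le_sup_left))
      have hle : R ≤ Subgroup.centralizer ({k} : Set C[Subgroup.zpowers (x : G)]) := by
        refine sup_le (Subgroup.zpowers_le.2 ?_) (Subgroup.zpowers_le.2 ?_)
        · exact Subgroup.mem_centralizer_singleton_iff.2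
            (Subgroup.mem_centralizer_iff.1 hk u₁ (Subgroup.mem_zpowers u₁))
        · refine Subgroup.mem_centralizer_singleton_iff.2 (Subtype.ext ?_)
          exact Subgroup.mem_centralizer_iff.1 k.2 (x : G) (Subgroup.mem_zpowers _)
      exact Subgroup.mem_centralizer_singleton_iff.1 (hle hz)
    have hmap : R.map C[Subgroup.zpowers (x : G)].subtype = (Subgroup.zpowers u) ⊔ Subgroup.zpowers (x : G) := by
      rw [hR, Subgroup.map_sup, MonoidHom.map_zpowers, MonoidHom.map_zpowers]
      rfl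
    obtain ⟨w2, hw2, hr⟩ := hup₁ R w₁ (hmap ▸ le_sup_right) hw₁
    have hIH := (ih _ (hlt.trans_le hn) le_rfl hmax₁ hab₁ hT₁ u₁ (Subgroup.mem_subgroupOf.2 hu)
      (fun t ht => Subtype.ext (hfix (t : G) (Subgroup.mem_subgroupOf.1 ht))) g₁ hg₁).1
    rw [hIH, blockRank_eq_of_cen_eq hM hmax₁.1.1 hab₁ hcen hg₁ hw₁, ← hr]
    exact blockRank_eq_of_cen_eq hM hPc hab (by rw [hmap]) hw2 hw
  have hcCen : ∀ x : P.subgroupOf C[Subgroup.zpowers u],
      cCen (T.subgroupOf C[Subgroup.zpowers u]) (x : C[Subgroup.zpowers u]) = cCen T ((x : C[Subgroup.zpowers u]) : G) := by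
    intro x
    refine Nat.card_congr
      { toFun := fun z => ⟨((z.1 : C[Subgroup.zpowers u]) : G), Subgroup.mem_inf.2
          ⟨Subgroup.mem_subgroupOf.1 (Subgroup.mem_inf.1 z.2).1, ?_⟩⟩
        invFun := fun z => ⟨⟨z.1, hTK (Subgroup.mem_inf.1 z.2).1⟩, Subgroup.mem_inf.2
          ⟨Subgroup.mem_subgroupOf.2 (Subgroup.mem_inf.1 z.2).1, ?_⟩⟩
        left_inv := fun z => rfl
        right_inv := fun z => rfl }
    · refine centralizer_singleton_le _ (Subgroup.mem_centralizer_singleton_iff.2 ?_)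
      exact congrArg Subtype.val (Subgroup.mem_centralizer_iff.1 (Subgroup.mem_inf.1 z.2).2
        (x : C[Subgroup.zpowers u]) (Subgroup.mem_zpowers _)).symm
    · refine centralizer_singleton_le _ (Subgroup.mem_centralizer_singleton_iff.2 (Subtype.ext ?_))
      exact (Subgroup.mem_centralizer_iff.1 (Subgroup.mem_inf.1 z.2).2
        ((x : C[Subgroup.zpowers u]) : G) (Subgroup.mem_zpowers _)).symm
  have hTcard : Nat.card (T.subgroupOf C[Subgroup.zpowers u]) = Nat.card T :=
    Nat.card_congr (Subgroup.subgroupOfEquivOfLe hTK).toEquiv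
  have hindex : N'.index = N.index := Subgroup.index_comap_of_surjective N e.surjective
  have htrans : ∀ a : P,
      Nat.card T * Nat.card f = N.index *
        ∑ x ∈ (Finset.univ : Finset P).filter (fun x => x⁻¹ * a ∈ N),
          cCen T (x : G) * lRank p M (P.subgroupOf C[Subgroup.zpowers u]) c' ((e.symm x : P.subgroupOf C[Subgroup.zpowers u]) : C[Subgroup.zpowers u]) := by
    intro a
    have h := count_formula hM hmax' hab' hT' N' hN'mem (e.symm a)
    rw [hTcard, hindex] at h
    rw [h]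
    congr 1
    refine Finset.sum_bij (fun x _ => e x) (fun x hx => ?_) (fun x _ y _ h' => e.injective h')
      (fun x hx => ⟨e.symm x, ?_, e.apply_symm_apply x⟩) fun x _ => ?_
    · have := (Finset.mem_filter.1 hx).2
      rw [Subgroup.mem_comap, MulEquiv.coe_toMonoidHom, map_mul, map_inv,
        MulEquiv.apply_symm_apply] at this
      exact Finset.mem_filter.2 ⟨Finset.mem_univ _, this⟩
    · refine Finset.mem_filter.2 ⟨Finset.mem_univ _, ?_⟩
      rw [Subgroup.mem_comap, MulEquiv.coe_toMonoidHom, map_mul, map_inv,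
        MulEquiv.apply_symm_apply, MulEquiv.apply_symm_apply]
      exact (Finset.mem_filter.1 hx).2
    · rw [hcCen, he, MulEquiv.symm_apply_apply]
  have hcount := fun a : P => count_formula hM hmax hab hT N hNmem a
  have hk : Nat.card B = Nat.card f := by
    have h1 := hcount ⟨u, hu⟩
    have h2 := htrans ⟨u, hu⟩
    refine Nat.eq_of_mul_eq_mul_left (Nat.card_pos (α := T)) (h1.trans (Eq.trans ?_ h2.symm))
    congr 1
    refine Finset.sum_congr rfl fun x hx => ?_
    congr 1
    refine hglobal x ?_ _ ((he (e.symm x)).symm.trans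
      (congrArg Subtype.val (e.apply_symm_apply x)))
    by_cases hxu : (x : G) = u
    · exact Or.inl hxu
    · exact Or.inr fun hf' => hxu
        (congrArg Subtype.val (hfixed ⟨u, hu⟩ x (Finset.mem_filter.1 hx).2 hfix hf'))
  refine ⟨?_, hk⟩
  have h1 := hcount 1
  have h2 := htrans 1
  rw [hk] at h1
  have h3 := Nat.eq_of_mul_eq_mul_left
    (Nat.pos_of_ne_zero (Subgroup.index_ne_zero_of_finite : N.index ≠ 0)) (h1.symm.trans h2)
  have hmem1 : (1 : P) ∈ (Finset.univ : Finset P).filter (fun x => x⁻¹ * 1 ∈ N) :=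
    Finset.mem_filter.2 ⟨Finset.mem_univ _, by simpa using one_mem N⟩
  rw [← Finset.add_sum_erase _ _ hmem1, ← Finset.add_sum_erase _ _ hmem1] at h3
  rw [Finset.sum_congr rfl fun x hx => ?_] at h3
  · have h4 := Nat.add_right_cancel h3
    have hc1 : 0 < cCen T ((1 : P) : G) := Nat.card_pos
    have h5 := Nat.eq_of_mul_eq_mul_left hc1 h4
    obtain ⟨b1, -, hb1⟩ := exists_subpair hM hPc
      (Subgroup.zpowers_le.2 (one_mem P) : Subgroup.zpowers (1 : G) ≤ P)
    obtain ⟨b2, -, hb2⟩ := exists_subpair hM hmax'.1.1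
      (Subgroup.zpowers_le.2 (one_mem _) : Subgroup.zpowers (1 : C[Subgroup.zpowers u]) ≤ P.subgroupOf C[Subgroup.zpowers u])
    rw [OneMemClass.coe_one, map_one, OneMemClass.coe_one, lRank_eq hM hPc hb1,
      blockRank_pair_one hM hmax hb1, lRank_eq hM hmax'.1.1 hb2,
      blockRank_pair_one hM hmax' hb2] at h5
    exact h5
  · obtain ⟨hx1, hxm⟩ := Finset.mem_erase.1 hx
    congr 1
    refine hglobal x (Or.inr fun hf' => hx1 ?_) _ ((he (e.symm x)).symm.trans
      (congrArg Subtype.val (e.apply_symm_apply x)))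
    exact hfixed 1 x (Finset.mem_filter.1 hxm).2 (fun t _ => by simp) hf'

end Cfsg.Lib.Block
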