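import Cfsg.Agent.Lib.Block.BlockCorner
import Cfsg.Agent.Lib.Block.CyclicInertial
import Cfsg.Agent.Lib.Char.Linear
import Cfsg.Agent.Lib.Block.StarAbelian
import Cfsg.Agent.Lib.Block.StarFixed
import Cfsg.Agent.Lib.Block.StarClass
import Cfsg.Agent.Lib.Block.AbelianNilpotent
import Cfsg.Agent.Lib.Block.DefectApps
import Mathlib.GroupTheory.FiniteAbelian.Duality

/-!
# The central generator of a block with cyclic defect group and trivial inertial quotient

The members of such a block are the products of one of them with the linear characters of the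
defect group.  The central element taking at each of them the value of its linear character at a
generator is integral, and its powers give the corner of the block.
-/

set_option autoImplicit false
set_option linter.unusedSectionVars false
set_option maxHeartbeats 1000000

namespace Cfsg.Lib.Block

open Cfsg
open scoped ComplexConjugate MonoidAlgebra

universe u

noncomputable local instance (priority := high) fintypeSubgroupBlockGenerator {A : Type u}
    [Group A] [Fintype A] (H : Subgroup A) : Fintype H := Fintype.ofFinite H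

local notation "C[" Q "]" => Subgroup.centralizer (SetLike.coe Q)

variable {p : ℕ} [Fact p.Prime] {M : Ideal AlgInt} {A : Type u} [Group A] [Fintype A]
  (hM : IsPModular p M) {B : Set (IrrCharacter A)} {P : Subgroup A}
  {c : Set (IrrCharacter C[P])}

include hM in
theorem cV_pow {v : IrrCharacter A → ℂ} (hv : VInt hM v) (n : ℕ) :
    VInt hM (v ^ n) ∧ cV hM (v ^ n) = cV hM v ^ n := by
  classical
  induction n with
  | zero =>
    refine ⟨fun g => ?_, by rw [pow_zero, pow_zero, cV_one]⟩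
    rw [pow_zero, zc_one]
    split_ifs
    · exact one_mem _
    · exact zero_mem _
  | succ n ih =>
    rw [pow_succ, pow_succ]
    exact ⟨vInt_mul hM ih.1 hv, by rw [cV_mul hM ih.1 hv, ih.2]⟩

variable (hB : IsPBlock M B) (hD : IsDefectGroup p M B P) (hcyc : IsCyclic P)
  (hc : IsInducedBlock M C[P] c B)
  (hinert : ∀ g : A, g ∈ Subgroup.normalizer (P : Set A) → StabilizesBlock C[P] c g → g ∈ C[P])

include hM hB hD hcyc hc hinert in
/-- Such a block has one simple module, and its members agree at regular elements. -/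
theorem regBlock_of_inertial {χ : IrrCharacter A} (hχ : χ ∈ B) :
    RegBlock p M B (Nat.card P) χ := by
  classical
  have hab := comm_of_isCyclic hcyc
  obtain ⟨hl, hk⟩ := abelian_inertial_one hM (Nat.card A) le_rfl hB hD hab hc hinert
  have hk' : Nat.card B = p ^ blockDefect p B := hk.trans (card_defectGroup hM hB hD)
  have hreg := fun (χ' : IrrCharacter A) (hχ' : χ' ∈ B) (y : A) (hy : IsPRegular p y) =>
    reg_eq_of_rank_one hM hB hl hk' hχ' hχ hy
  refine ⟨hB, hl.le, hk, hχ, hreg, ?_⟩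
  have h := blockRank_eq_sum_regInner hM (vInt_indVec hM hB)
  rw [hl, Nat.cast_one, Finset.sum_congr rfl
    (g := fun _ : IrrCharacter A => regInner p (χ : A → ℂ) (χ : A → ℂ)) fun χ' hχ' => show
      regInner p (χ' : A → ℂ) (χ' : A → ℂ) = regInner p (χ : A → ℂ) (χ : A → ℂ) by
    simp only [regInner, classInner]
    congr 1
    refine Finset.sum_congr rfl fun y _ => ?_
    by_cases hy : IsPRegular p y
    · rw [pRegularPart_of_reg hy, pRegularPart_of_reg hy, hreg χ' (Set.mem_toFinset.1 hχ') y hy]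
    · rw [pRegularPart_of_sing hy, pRegularPart_of_sing hy, zero_mul, zero_mul],
    Finset.sum_const, nsmul_eq_mul, Set.toFinset_card, ← Nat.card_eq_fintype_card, hk] at h
  exact h.symm

include hM hB hD hcyc hc hinert in
/-- The members are parametrised by the linear characters of the defect group, and the values at
a generator give an integral central vector. -/
theorem exists_root_param {χ : IrrCharacter A} (hχ : χ ∈ B)
    (hh : blockHeight p B (χ : A → ℂ) = 0) :
    ∃ (u₀ : P) (μ : (P →* ℂˣ) → IrrCharacter A) (v : IrrCharacter A → ℂ),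
      orderOf u₀ = Nat.card P ∧ Function.Injective μ ∧ (∀ φ, μ φ ∈ B) ∧
      (∀ ψ ∈ B, ∃ φ, μ φ = ψ) ∧ μ 1 = χ ∧ (∀ φ, v (μ φ) = (φ u₀ : ℂ)) ∧
      (∀ ψ, ψ ∉ B → v ψ = 0) ∧ VInt hM v := by
  classical
  haveI := hcyc
  have hab := comm_of_isCyclic hcyc
  have hmax := maximal_of_root hM hB hD hab hc
  have hR := regBlock_of_inertial hM hB hD hcyc hc hinert hχ
  obtain ⟨T, hT⟩ : ∃ T : Subgroup A, ∀ g : A, g ∈ T ↔
      g ∈ Subgroup.normalizer (P : Set A) ∧ StabilizesBlock C[P] c g :=
    ⟨C[P], fun g => ⟨fun hg => (conjIdx_eq_self_iff c g).1 (conjIdx_eq_self_of_mem hg c),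
      fun h => hinert g h.1 h.2⟩⟩
  set q := Nat.card P with hq
  letI : CommGroup P := IsCyclic.commGroup
  have hfoc : ∀ φ : P →* ℂˣ, IsFocChar p M P c (extP P (fun x : P => (φ x : ℂ))) := fun φ =>
    isFocChar_of_invariant hM hmax hab hT
      (fun x hx y hy => by
        rw [extP_mem _ hx, extP_mem _ hy, extP_mem _ (mul_mem hx hy),
          show (⟨x * y, mul_mem hx hy⟩ : P) = ⟨x, hx⟩ * ⟨y, hy⟩ from rfl, map_mul, Units.val_mul])
      (by rw [extP_mem _ (one_mem P), show (⟨1, one_mem P⟩ : P) = 1 from rfl, map_one, Units.val_one])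
      (fun t ht x hx => by
        have h := hinert t ((hT t).1 ht).1 ((hT t).1 ht).2
        rw [← Subgroup.mem_centralizer_iff.1 h x hx, mul_inv_cancel_right])
  choose μ hμB hμ using fun φ : P →* ℂˣ => exists_starIrr hM hmax (hfoc φ) hχ
  have hinj : Function.Injective μ := by
    intro φ ψ h
    have h2 : starFn hM P c (extP P fun x : P => ((ψ⁻¹ * φ) x : ℂ)) χ = χ := by
      have e1 : ∀ a b : P →* ℂˣ, starFn hM P c (extP P fun x : P => (a x : ℂ)) (μ b) =
          starFn hM P c (extP P fun x : P => ((a * b) x : ℂ)) χ := fun a b => by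
        rw [starFn_comp hM hmax (hfoc b) hχ (hfoc a) (hμ b)]
        congr 1
        funext g
        simp only [extP]
        split_ifs <;> simp
      rw [← e1, h, e1, show ψ⁻¹ * ψ = 1 from inv_mul_cancel ψ]
      exact starFn_trivial hM hmax (hfoc 1) hχ fun x hx => by rw [extP_mem _ hx]; simp
    have h3 : ψ⁻¹ * φ = 1 := MonoidHom.ext fun x => Units.ext (by
      have := fixed_height_zero hM hmax (hfoc (ψ⁻¹ * φ)) hχ h2 hh x x.2
      rwa [extP_coe] at this)
    exact (inv_mul_eq_one.1 h3).symm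
  obtain ⟨u₀, hu₀⟩ := IsCyclic.exists_ofOrder_eq_natCard (α := P)
  haveI : Fintype (P →* ℂˣ) := Fintype.ofFinite _
  have hcardΦ : Fintype.card (P →* ℂˣ) = q := by
    rw [← Nat.card_eq_fintype_card]
    exact Char.card_monoidHom_units P
  have himg : Finset.univ.image μ = B.toFinset := by
    refine Finset.eq_of_subset_of_card_le (fun x hx => ?_) ?_
    · obtain ⟨φ, -, rfl⟩ := Finset.mem_image.1 hx
      exact Set.mem_toFinset.2 (hμB φ)
    · rw [Finset.card_image_of_injective _ hinj, Finset.card_univ, hcardΦ, Set.toFinset_card,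
        ← Nat.card_eq_fintype_card, hR.card]
  set v : IrrCharacter A → ℂ := fun ψ => ∑ φ : P →* ℂˣ, if μ φ = ψ then (φ u₀ : ℂ) else 0
    with hv
  have hvμ : ∀ φ, v (μ φ) = (φ u₀ : ℂ) := fun φ => by simp [hv, hinj.eq_iff]
  have hvout : ∀ ψ, ψ ∉ B → v ψ = 0 := fun ψ hψ => Finset.sum_eq_zero fun φ _ => by
    rw [if_neg (fun h : μ φ = ψ => hψ (h ▸ hμB φ))]
  have hzsum : ∀ (w : IrrCharacter A → ℂ), (∀ ψ, ψ ∉ B → w ψ = 0) → ∀ g, zc w g =
      (Nat.card A : ℂ)⁻¹ * (χ : A → ℂ) 1 * ∑ φ : P →* ℂˣ, w (μ φ) * (μ φ : A → ℂ) g⁻¹ := by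
    intro w hw g
    rw [zc, ← Finset.sum_subset (Finset.subset_univ B.toFinset) fun ψ _ hψ => by
        rw [hw ψ fun h => hψ (Set.mem_toFinset.2 h), zero_mul, zero_mul],
      ← himg, Finset.sum_image fun a _ b _ h => hinj h, mul_assoc (Nat.card A : ℂ)⁻¹]
    congr 1
    rw [Finset.mul_sum]
    refine Finset.sum_congr rfl fun φ _ => ?_
    rw [show ((μ φ : IrrCharacter A) : A → ℂ) 1 = (χ : A → ℂ) 1 from hR.apply_one (hμB φ)]
    ring
  -- the scaled degree is a unit
  set s : ℂ := (Nat.card A : ℂ)⁻¹ * (χ : A → ℂ) 1 * (q : ℂ) with hs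
  obtain ⟨hsm, hsu⟩ : s ∈ locRing hM ∧ ¬ MemLocalIdeal M s := by
    have hsum : (charDegree (χ : A → ℂ) * q).factorization p = (Nat.card A).factorization p := by
      have hv0 := (blockHeight_eq_zero_iff hχ).1 hh
      have hd := blockDefect_add_minVal (p := p) (nonempty_of_isPBlock hM hB)
      rw [Nat.factorization_mul (charDegree_pos χ).ne' Nat.card_pos.ne', Finsupp.add_apply,
        show Nat.card P = p ^ blockDefect p B from card_defectGroup hM hB hD,
        (Fact.out : p.Prime).factorization_pow, Finsupp.single_eq_same]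
      omega
    set n := charDegree (χ : A → ℂ) * q with hn
    have hn0 : n ≠ 0 := mul_ne_zero (charDegree_pos χ).ne' Nat.card_pos.ne'
    set a := n / p ^ (Nat.card A).factorization p with ha
    set b := Nat.card A / p ^ (Nat.card A).factorization p with hb'
    have hbp : ¬ p ∣ b := Nat.not_dvd_ordCompl Fact.out Nat.card_pos.ne'
    have hap : ¬ p ∣ a := by rw [ha, ← hsum]; exact Nat.not_dvd_ordCompl Fact.out hn0
    have e : s = (a : ℂ) * (b : ℂ)⁻¹ := by
      have h1 := Nat.ordProj_mul_ordCompl_eq_self n p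
      rw [hsum] at h1
      have h2 := Nat.ordProj_mul_ordCompl_eq_self (Nat.card A) p
      have h1' : (n : ℂ) = ((p : ℂ) ^ (Nat.card A).factorization p) * a := by
        rw [ha]; exact_mod_cast h1.symm
      have h2' : (Nat.card A : ℂ) = ((p : ℂ) ^ (Nat.card A).factorization p) * b := by
        rw [hb']; exact_mod_cast h2.symm
      rw [hs, apply_one_eq_charDegree χ, mul_assoc, ← Nat.cast_mul, ← hn, h1', h2',
        mul_inv, mul_mul_mul_comm, inv_mul_cancel₀ (pow_ne_zero _ (Nat.cast_ne_zero.2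
          (Fact.out : p.Prime).ne_zero)), one_mul, mul_comm]
    rw [e]
    have hbinv : (b : ℂ)⁻¹ ∈ locRing hM :=
      inv_mem_locRing hM (natCast_mem _ _) (by rwa [memLocalIdeal_natCast_iff hM])
    refine ⟨mul_mem (natCast_mem _ _) hbinv, fun h => hap ?_⟩
    have h2 := memLocalIdeal_mul_right hM h (natCast_mem (locRing hM) b)
    rw [inv_mul_cancel_right₀ (Nat.cast_ne_zero.2 fun h0 : b = 0 => hbp (h0 ▸ dvd_zero p))] at h2
    exact (memLocalIdeal_natCast_iff hM a).1 h2
  have hvint : VInt hM v := by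
    intro g
    rw [hzsum v hvout]
    obtain ⟨u, hu, huo, y, hy, hgy⟩ := exists_section_decomp (p := p) (g⁻¹ : A)
    simp only [hvμ, hμ]
    rw [Finset.sum_congr rfl fun φ _ => by rw [starFn_eq hM _ χ hu y hgy, Finset.mul_sum],
      Finset.sum_comm, Finset.mul_sum]
    refine sum_mem fun b hb => ?_
    have hbp : blockPart b (secFn u C[Subgroup.zpowers u] (χ : A → ℂ)) y ∈ locRing hM := by
      rw [← hatC_blkO hM χ ((mem_blocksOf hM).1 hb)]
      exact sum_mem fun k _ => mul_mem ((blkO hM (Subgroup.zpowers u) b).coeff k).2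
        (charVal_mem_locRing hM χ _)
    by_cases hex : ∃ a : A, Relation.ReflTransGen (NormalSubpairRel p M)
        (conjIdx a ⟨Subgroup.zpowers u, b⟩) ⟨P, c⟩
    · obtain ⟨a, ha⟩ := hex
      have hmem : ∀ φ : P →* ℂˣ, a * u * a⁻¹ ∈ P := fun φ => (lamW_mem_rel hM (hfoc φ) ha).1
      have hx := hmem 1
      rw [Finset.sum_congr rfl fun φ _ => by
        rw [(lamW_mem_rel hM (hfoc φ) ha).2, extP_mem _ hx, ← mul_assoc, ← Units.val_mul,
          ← map_mul], ← Finset.sum_mul, sum_monoidHom_units]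
      split_ifs
      · rw [← mul_assoc, ← hq, ← hs]
        exact mul_mem hsm hbp
      · rw [zero_mul, mul_zero]
        exact zero_mem _
    · simp only [not_exists] at hex
      rw [Finset.sum_eq_zero fun φ _ => by rw [lamW_eq_zero hex, zero_mul, mul_zero], mul_zero]
      exact zero_mem _
  have hμ1 : μ 1 = χ := Subtype.ext (by
    rw [hμ]
    exact starFn_trivial hM hmax (hfoc 1) hχ fun x hx => by rw [extP_mem _ hx]; simp)
  exact ⟨u₀, μ, v, hu₀, hinj, hμB, fun ψ hψ => by
    obtain ⟨φ, -, h⟩ := Finset.mem_image.1 (himg.symm ▸ Set.mem_toFinset.2 hψ)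
    exact ⟨φ, h⟩, hμ1, hvμ, hvout, hvint⟩

include hM hB hD hcyc hc hinert in
/-- The generator. -/
theorem exists_generator_block {χ : IrrCharacter A} (hχ : χ ∈ B)
    (hh : blockHeight p B (χ : A → ℂ) = 0) :
    ∃ η : KGA hM A, (∀ x, Commute η x) ∧ η ^ Nat.card P = 0 ∧ blkA hM B * η = η ∧
      η ^ (Nat.card P - 1) * blkA hM B ≠ 0 := by
  classical
  have hR := regBlock_of_inertial hM hB hD hcyc hc hinert hχ
  obtain ⟨u₀, μ, v, hu₀, hinj, hμB, hsurj, hμ1', hvμ, hvout, hvint⟩ :=
    exists_root_param hM hB hD hcyc hc hinert hχ hh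
  haveI := hcyc
  set q := Nat.card P with hq
  letI : CommGroup P := IsCyclic.commGroup
  haveI : Fintype (P →* ℂˣ) := Fintype.ofFinite _
  have himg : Finset.univ.image μ = B.toFinset := by
    ext ψ
    simp only [Finset.mem_image, Finset.mem_univ, true_and, Set.mem_toFinset]
    exact ⟨fun ⟨φ, h⟩ => h ▸ hμB φ, hsurj ψ⟩
  have hzsum : ∀ (w : IrrCharacter A → ℂ), (∀ ψ, ψ ∉ B → w ψ = 0) → ∀ g, zc w g =
      (Nat.card A : ℂ)⁻¹ * (χ : A → ℂ) 1 * ∑ φ : P →* ℂˣ, w (μ φ) * (μ φ : A → ℂ) g⁻¹ := by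
    intro w hw g
    rw [zc, ← Finset.sum_subset (Finset.subset_univ B.toFinset) fun ψ _ hψ => by
        rw [hw ψ fun h => hψ (Set.mem_toFinset.2 h), zero_mul, zero_mul],
      ← himg, Finset.sum_image fun a _ b _ h => hinj h, mul_assoc (Nat.card A : ℂ)⁻¹]
    congr 1
    rw [Finset.mul_sum]
    refine Finset.sum_congr rfl fun φ _ => ?_
    rw [show ((μ φ : IrrCharacter A) : A → ℂ) 1 = (χ : A → ℂ) 1 from hR.apply_one (hμB φ)]
    ring
  -- the scaled degree is a unit
  set s : ℂ := (Nat.card A : ℂ)⁻¹ * (χ : A → ℂ) 1 * (q : ℂ) with hs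
  obtain ⟨hsm, hsu⟩ : s ∈ locRing hM ∧ ¬ MemLocalIdeal M s := by
    have hsum : (charDegree (χ : A → ℂ) * q).factorization p = (Nat.card A).factorization p := by
      have hv0 := (blockHeight_eq_zero_iff hχ).1 hh
      have hd := blockDefect_add_minVal (p := p) (nonempty_of_isPBlock hM hB)
      rw [Nat.factorization_mul (charDegree_pos χ).ne' Nat.card_pos.ne', Finsupp.add_apply,
        show Nat.card P = p ^ blockDefect p B from card_defectGroup hM hB hD,
        (Fact.out : p.Prime).factorization_pow, Finsupp.single_eq_same]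
      omega
    set n := charDegree (χ : A → ℂ) * q with hn
    have hn0 : n ≠ 0 := mul_ne_zero (charDegree_pos χ).ne' Nat.card_pos.ne'
    set a := n / p ^ (Nat.card A).factorization p with ha
    set b := Nat.card A / p ^ (Nat.card A).factorization p with hb'
    have hbp : ¬ p ∣ b := Nat.not_dvd_ordCompl Fact.out Nat.card_pos.ne'
    have hap : ¬ p ∣ a := by rw [ha, ← hsum]; exact Nat.not_dvd_ordCompl Fact.out hn0
    have e : s = (a : ℂ) * (b : ℂ)⁻¹ := by
      have h1 := Nat.ordProj_mul_ordCompl_eq_self n p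
      rw [hsum] at h1
      have h2 := Nat.ordProj_mul_ordCompl_eq_self (Nat.card A) p
      have h1' : (n : ℂ) = ((p : ℂ) ^ (Nat.card A).factorization p) * a := by
        rw [ha]; exact_mod_cast h1.symm
      have h2' : (Nat.card A : ℂ) = ((p : ℂ) ^ (Nat.card A).factorization p) * b := by
        rw [hb']; exact_mod_cast h2.symm
      rw [hs, apply_one_eq_charDegree χ, mul_assoc, ← Nat.cast_mul, ← hn, h1', h2',
        mul_inv, mul_mul_mul_comm, inv_mul_cancel₀ (pow_ne_zero _ (Nat.cast_ne_zero.2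
          (Fact.out : p.Prime).ne_zero)), one_mul, mul_comm]
    rw [e]
    have hbinv : (b : ℂ)⁻¹ ∈ locRing hM :=
      inv_mem_locRing hM (natCast_mem _ _) (by rwa [memLocalIdeal_natCast_iff hM])
    refine ⟨mul_mem (natCast_mem _ _) hbinv, fun h => hap ?_⟩
    have h2 := memLocalIdeal_mul_right hM h (natCast_mem (locRing hM) b)
    rw [inv_mul_cancel_right₀ (Nat.cast_ne_zero.2 fun h0 : b = 0 => hbp (h0 ▸ dvd_zero p))] at h2
    exact (memLocalIdeal_natCast_iff hM a).1 h2
  have hvB : v * indVec B = v := funext fun ψ => by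
    rw [Pi.mul_apply, indVec]
    split_ifs with h
    · rw [mul_one]
    · rw [mul_zero, hvout ψ h]
  have hvI := vInt_indVec hM hB
  have hvq : v ^ q * indVec B = indVec B := funext fun ψ => by
    rw [Pi.mul_apply, Pi.pow_apply, indVec]
    split_ifs with h
    · obtain ⟨φ, -, rfl⟩ : ∃ φ ∈ Finset.univ, μ φ = ψ :=
        Finset.mem_image.1 (himg.symm ▸ Set.mem_toFinset.2 h)
      rw [hvμ, ← Units.val_pow_eq_pow_val, ← map_pow, ← hu₀, pow_orderOf_eq_one, map_one,
        Units.val_one, one_mul]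
    · rw [mul_zero]
  haveI hch : CharP (KGA hM A) p := by
    haveI := charP_resField hM
    exact charP_of_injective_algebraMap (R := resField hM) (fun a b h => by
      have h1 := congrArg (fun x : KGA hM A => x.coeff 1) h
      simpa [MonoidAlgebra.coe_algebraMap] using h1) p
  set η := cV hM v - blkA hM B with hη
  have hcomm : ∀ x, Commute η x := fun x =>
    (cV_commute hM v x).sub_left (cV_commute hM (indVec B) x)
  have hblk : blkA hM B * η = η := by
    rw [hη, mul_sub, (blkA_idem hM hB).eq, blkA, ← cV_mul hM hvI hvint, mul_comm (indVec B) v, hvB]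
  obtain ⟨a, hqa⟩ : ∃ a, q = p ^ a := ⟨_, card_defectGroup hM hB hD⟩
  have hq0 : q ≠ 0 := Nat.card_pos.ne'
  have hηpow : η ^ q = 0 := by
    have h1 : η ^ q = cV hM v ^ q - blkA hM B ^ q := by
      rw [hη, hqa]
      exact sub_pow_char_pow_of_commute _ _ (cV_commute hM v _)
    have h2 : η ^ q = η ^ q * blkA hM B := by
      obtain ⟨q', hq'⟩ := Nat.exists_eq_succ_of_ne_zero hq0
      rw [hq', pow_succ, mul_assoc, (hcomm (blkA hM B)).eq, hblk]
    have h3 : blkA hM B ^ q = blkA hM B := by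
      obtain ⟨q', hq'⟩ := Nat.exists_eq_succ_of_ne_zero hq0
      rw [hq']
      exact (blkA_idem hM hB).pow_succ_eq q'
    rw [h2, h1, h3, sub_mul, (blkA_idem hM hB).eq, ← (cV_pow hM hvint q).2, blkA,
      ← cV_mul hM (cV_pow hM hvint q).1 hvI, hvq, sub_self]
  refine ⟨η, hcomm, hηpow, hblk, fun h0 => ?_⟩
  have hx1 : Commute (cV hM v - 1) (blkA hM B) := (cV_commute hM (indVec B) _).symm
  have hηx : η = (cV hM v - 1) * blkA hM B := by
    rw [hη, sub_mul, one_mul, blkA, ← cV_mul hM hvint hvI, hvB]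
  have hgeom : (cV hM v - 1) ^ (q - 1) = ∑ i ∈ Finset.range q, cV hM v ^ i := by
    haveI := charP_resField hM
    have hpoly : ((Polynomial.X : Polynomial (resField hM)) - 1) ^ (q - 1) =
        ∑ i ∈ Finset.range q, Polynomial.X ^ i := by
      refine mul_right_cancel₀ (b := (Polynomial.X : Polynomial (resField hM)) - 1)
        (by simpa using Polynomial.X_sub_C_ne_zero (1 : resField hM)) ?_
      rw [← pow_succ, Nat.sub_add_cancel (Nat.one_le_iff_ne_zero.2 hq0), geom_sum_mul, hqa,
        sub_pow_char_pow, one_pow]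
    have h := congrArg (Polynomial.aeval (cV hM v)) hpoly
    simpa only [map_pow, map_sub, Polynomial.aeval_X, map_one, map_sum] using h
  have hsum0 : ∑ i ∈ Finset.range q, cV hM v ^ i * blkA hM B = 0 := by
    rw [← Finset.sum_mul, ← hgeom]
    rw [hηx, hx1.mul_pow, mul_assoc, ← pow_succ, (blkA_idem hM hB).pow_succ_eq (q - 1)] at h0
    exact h0
  set w : IrrCharacter A → ℂ := fun ψ => if ψ = μ 1 then (q : ℂ) else 0 with hw
  have hwsum : ∑ i ∈ Finset.range q, v ^ i * indVec B = w := by
    funext ψ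
    simp only [Finset.sum_apply, Pi.mul_apply, Pi.pow_apply, hw, indVec]
    by_cases hψ : ψ ∈ B
    · obtain ⟨φ, -, rfl⟩ : ∃ φ ∈ Finset.univ, μ φ = ψ :=
        Finset.mem_image.1 (himg.symm ▸ Set.mem_toFinset.2 hψ)
      simp only [if_pos hψ, mul_one, hvμ, hinj.eq_iff]
      have hord : ((φ u₀ : ℂˣ) : ℂ) ^ q = 1 := by
        rw [← Units.val_pow_eq_pow_val, ← map_pow, ← hu₀, pow_orderOf_eq_one, map_one,
          Units.val_one]
      split_ifs with hφ
      · simp [hφ]
      · have hne : ((φ u₀ : ℂˣ) : ℂ) ≠ 1 := by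
          intro h
          refine hφ (MonoidHom.ext fun x => ?_)
          obtain ⟨m, rfl⟩ := mem_powers_iff_mem_zpowers.2
            (show x ∈ Subgroup.zpowers u₀ by
              have htop : Subgroup.zpowers u₀ = ⊤ :=
                Subgroup.eq_top_of_card_eq _ (by rw [Nat.card_zpowers, hu₀])
              rw [htop]
              exact Subgroup.mem_top x)
          rw [map_pow, show φ u₀ = 1 from Units.ext h, one_pow, MonoidHom.one_apply]
        rw [geom_sum_eq hne, hord, sub_self, zero_div]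
    · rw [Finset.sum_eq_zero fun i _ => by rw [if_neg hψ, mul_zero],
        if_neg (fun h : ψ = μ 1 => hψ (h ▸ hμB 1))]
  have hint : ∀ i, VInt hM (v ^ i * indVec B) := fun i =>
    vInt_mul hM (cV_pow hM hvint i).1 hvI
  have hwint : ∀ g, zc w g = ∑ i ∈ Finset.range q, zc (v ^ i * indVec B) g := fun g => by
    rw [← hwsum]
    simp only [zc, Finset.sum_apply, Finset.sum_mul, Finset.mul_sum]
    exact Finset.sum_comm
  obtain ⟨g₀, hg₀, -⟩ := isDefectGroup_iff.1 hD
  have hunit := charVal_defectClass_not_mem hM hB hg₀ hχ hh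
  have hcoef := congrArg (fun x : KGA hM A => x.coeff g₀⁻¹) hsum0
  have h1 : res hM (zc w g₀⁻¹) = 0 := by
    rw [hwint, res_sum hM _ _ fun i _ => hint i _]
    refine Eq.trans ?_ hcoef
    show _ = (∑ i ∈ Finset.range q, cV hM v ^ i * blkA hM B).coeff g₀⁻¹
    rw [MonoidAlgebra.coeff_sum, Finsupp.finset_sum_apply]
    refine Finset.sum_congr rfl fun i _ => ?_
    rw [← (cV_pow hM hvint i).2, blkA, ← cV_mul hM (cV_pow hM hvint i).1 hvI, coeff_cV]
  have hμ1 : (μ 1 : A → ℂ) = (χ : A → ℂ) := congrArg Subtype.val hμ1'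
  have hwout : ∀ ψ, ψ ∉ B → w ψ = 0 := fun ψ hψ => if_neg (fun h : ψ = μ 1 => hψ (h ▸ hμB 1))
  have h2 : zc w g₀⁻¹ = s * (χ : A → ℂ) g₀ := by
    rw [hzsum w hwout, Finset.sum_eq_single (1 : P →* ℂˣ)
      (fun φ _ hφ => by simp only [hw, hinj.eq_iff, if_neg hφ, zero_mul]) (by simp)]
    simp only [hw, if_true, inv_inv, hμ1, hs]
    ring
  rw [h2, res_eq_zero_iff hM (mul_mem hsm (charVal_mem_locRing hM χ g₀))] at h1
  rcases (memLocalIdeal_mul_iff hM hsm (charVal_mem_locRing hM χ g₀)).1 h1 with h | h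
  · exact hsu h
  · exact hunit h

end Cfsg.Lib.Block
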