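import Cfsg.Agent.Lib.Block.BlockCorner
import Cfsg.Agent.Lib.Block.BlockGenerator
import Mathlib.LinearAlgebra.Dual.Lemmas

/-!
# The centre of a block of the group algebra, and trace functions on a corner

The centre of a block has dimension at most the number of its characters.  A trace function on a
full corner extends to a central element of the block.
-/

set_option autoImplicit false
set_option linter.unusedSectionVars false
set_option maxHeartbeats 1000000

namespace Cfsg.Lib.Block

open Cfsg Module
open scoped MonoidAlgebra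

universe u v

variable {p : ℕ} [Fact p.Prime] {M : Ideal AlgInt} {A : Type u} [Group A] [Fintype A]
  (hM : IsPModular p M)

/-- The indicator of a class. -/
noncomputable def clsFn (b : A) : A → ℂ := fun g => by classical exact if IsConj b g then 1 else 0

theorem isClassFunction_clsFn (b : A) : IsClassFunction A (clsFn b) := by
  classical
  intro g x
  have hc : IsConj g (x * g * x⁻¹) := isConj_iff.2 ⟨x, rfl⟩
  simp only [clsFn]
  by_cases h : IsConj b g
  · rw [if_pos h, if_pos (h.trans hc)]
  · rw [if_neg h, if_neg fun h' => h (h'.trans hc.symm)]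

theorem vInt_vec_clsFn (b : A) : VInt hM (vec (clsFn b)) := fun g => by
  classical
  rw [zc_vec (isClassFunction_clsFn b), clsFn]
  split_ifs
  · exact one_mem _
  · exact zero_mem _

/-- The chosen member of a class. -/
noncomputable def clsRep (b : A) : A := (ConjClasses.mk b).out

theorem clsRep_conj (b : A) : IsConj (clsRep b) b :=
  ConjClasses.mk_eq_mk_iff_isConj.1 (Quotient.out_eq (ConjClasses.mk b))

open Classical in
/-- A class function is the combination of the indicators at the representatives. -/
theorem sum_rep_clsFn {R : Type*} [CommSemiring R] {F : A → R}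
    (hF : ∀ g x, F (x * g * x⁻¹) = F g) (a : A) :
    ∑ b ∈ Finset.univ.filter (fun b : A => clsRep b = b), (if IsConj b a then F b else 0) = F a := by
  have hfix : clsRep (clsRep a) = clsRep a := by
    simp only [clsRep]
    congr 1
    exact Quotient.out_eq (ConjClasses.mk a)
  rw [Finset.sum_eq_single (clsRep a)]
  · rw [if_pos (clsRep_conj a)]
    obtain ⟨x, hx⟩ := isConj_iff.1 (clsRep_conj a)
    conv_rhs => rw [← hx, hF]
  · intro b hb hne
    rw [if_neg]
    intro hc
    refine hne ?_
    rw [← (Finset.mem_filter.1 hb).2, clsRep, clsRep, ConjClasses.mk_eq_mk_iff_isConj.2 hc]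
  · exact fun h => absurd (show clsRep a ∈ Finset.univ.filter (fun b : A => clsRep b = b) from
      Finset.mem_filter.2 ⟨Finset.mem_univ _, hfix⟩) h

variable {B : Set (IrrCharacter A)}

open Classical in
/-- The matrix of the projection to the centre of the block. -/
noncomputable def zbMat (B : Set (IrrCharacter A)) : Matrix A A ℂ := fun a b =>
  if clsRep b = b then zc (indVec B * vec (clsFn b)) a else 0

open Classical in
theorem zbMat_idem (B : Set (IrrCharacter A)) : zbMat B * zbMat B = zbMat B := by
  ext a c
  rw [Matrix.mul_apply]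
  unfold zbMat
  by_cases hc : clsRep c = c
  · simp only [if_pos hc, ite_mul, zero_mul, ← Finset.sum_filter]
    set w := zc (indVec B * vec (clsFn c)) with hw
    have hF : (fun g => ∑ b ∈ Finset.univ.filter (fun b : A => clsRep b = b), w b * clsFn b g) = w := by
      funext g
      refine Eq.trans (Finset.sum_congr rfl fun b _ => ?_)
        (sum_rep_clsFn (F := w) (fun g x => zc_conj_invariant _ g x) g)
      simp only [clsFn]
      split_ifs <;> simp
    have hvec : ∑ b ∈ Finset.univ.filter (fun b : A => clsRep b = b), w b • vec (clsFn b) =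
        indVec B * vec (clsFn c) := by
      rw [← vec_zc (indVec B * vec (clsFn c)), ← hw]
      funext χ
      conv_rhs => rw [← hF]
      simp only [vec, Finset.sum_apply, Pi.smul_apply, smul_eq_mul, Finset.sum_mul,
        mul_div_assoc', ← Finset.sum_div, Finset.mul_sum]
      rw [Finset.sum_comm]
      congr 1
      exact Finset.sum_congr rfl fun g _ => Finset.sum_congr rfl fun b _ => by ring
    calc ∑ b ∈ Finset.univ.filter (fun b : A => clsRep b = b),
        zc (indVec B * vec (clsFn b)) a * w b =
        zc (indVec B * ∑ b ∈ Finset.univ.filter (fun b : A => clsRep b = b),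
          w b • vec (clsFn b)) a := by
          rw [Finset.mul_sum, zc_sum]
          refine Finset.sum_congr rfl fun b _ => ?_
          rw [mul_smul_comm, zc_smul, mul_comm]
      _ = w a := by
          rw [hvec, ← mul_assoc, indVec_mul_indVec, Set.inter_self]
  · simp [hc]

open Classical in
theorem zbMat_trace (B : Set (IrrCharacter A)) : ∑ a, zbMat B a a = (Nat.card B : ℂ) := by
  unfold zbMat
  rw [← Finset.sum_filter]
  have h1 : ∀ a : A, zc (indVec B * vec (clsFn a)) a = (Nat.card A : ℂ)⁻¹ *
      ∑ g : A, if IsConj a g then ∑ χ ∈ B.toFinset, (χ : A → ℂ) g * (χ : A → ℂ) g⁻¹ else 0 := by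
    intro a
    rw [zc, ← Finset.sum_subset (Finset.subset_univ B.toFinset) fun χ _ hχ => by
      rw [Pi.mul_apply, indVec, if_neg (fun h => hχ (Set.mem_toFinset.2 h)), zero_mul, zero_mul,
        zero_mul]]
    congr 1
    rw [show (∑ g : A, if IsConj a g then ∑ χ ∈ B.toFinset, (χ : A → ℂ) g * (χ : A → ℂ) g⁻¹ else 0) =
      ∑ χ ∈ B.toFinset, ∑ g : A, (if IsConj a g then (χ : A → ℂ) g * (χ : A → ℂ) g⁻¹ else 0) by
        rw [Finset.sum_comm]
        refine Finset.sum_congr rfl fun g _ => ?_
        split_ifs <;> simp]
    refine Finset.sum_congr rfl fun χ hχ => ?_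
    rw [Pi.mul_apply, indVec, if_pos (Set.mem_toFinset.1 hχ), one_mul, vec]
    have hd := χ.2.apply_one_ne_zero
    field_simp
    rw [Finset.sum_mul]
    refine Finset.sum_congr rfl fun g _ => ?_
    simp only [clsFn]
    split_ifs with h
    · obtain ⟨x, rfl⟩ := isConj_iff.1 h
      rw [one_mul, show (x * a * x⁻¹)⁻¹ = x * a⁻¹ * x⁻¹ by group, χ.2.isClassFunction a⁻¹ x]
    · simp
  simp only [h1, ← Finset.mul_sum]
  rw [Finset.sum_comm]
  have h2 : ∀ g : A, (∑ a ∈ Finset.univ.filter (fun a : A => clsRep a = a),
      if IsConj a g then ∑ χ ∈ B.toFinset, (χ : A → ℂ) g * (χ : A → ℂ) g⁻¹ else 0) =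
      ∑ χ ∈ B.toFinset, (χ : A → ℂ) g * (χ : A → ℂ) g⁻¹ := fun g =>
    sum_rep_clsFn (F := fun _ => ∑ χ ∈ B.toFinset, (χ : A → ℂ) g * (χ : A → ℂ) g⁻¹)
      (fun _ _ => rfl) g
  simp only [h2]
  rw [Finset.sum_comm, Finset.mul_sum]
  have h3 : ∀ χ : IrrCharacter A,
      (Nat.card A : ℂ)⁻¹ * ∑ g : A, (χ : A → ℂ) g * (χ : A → ℂ) g⁻¹ = 1 := by
    intro χ
    rw [← Char.classInner_irr_self χ.2, classInner]
    congr 1
    exact Finset.sum_congr rfl fun g _ => by rw [χ.2.isCharacter.apply_inv]
  rw [Finset.sum_congr rfl fun χ _ => h3 χ, Finset.sum_const, nsmul_eq_mul, mul_one,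
    Set.toFinset_card, Nat.card_eq_fintype_card]

open Classical in
theorem zbMat_mem (hB : IsPBlock M B) (a b : A) : zbMat B a b ∈ locRing hM := by
  unfold zbMat
  split_ifs
  · exact vInt_mul hM (vInt_indVec hM hB) (vInt_vec_clsFn hM b) a
  · exact zero_mem _

include hM in
open Classical in
/-- The centre of a block has dimension at most the number of its characters. -/
theorem finrank_center_le (hB : IsPBlock M B) (Zc : Submodule (resField hM) (KGA hM A))
    (hZc : ∀ x ∈ Zc, (∀ g a, x.coeff (g * a * g⁻¹) = x.coeff a) ∧ blkA hM B * x = x) :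
    finrank (resField hM) Zc ≤ Nat.card B := by
  set L : Module.End (resField hM) (KGA hM A) :=
    { toFun := fun x => MonoidAlgebra.ofCoeff (Finsupp.equivFunOnFinite.symm fun a =>
        ∑ b, res hM (zbMat B a b) * x.coeff b)
      map_add' := fun x y => MonoidAlgebra.ext (Finsupp.ext fun a => by
        show ∑ b, res hM (zbMat B a b) * (x + y).coeff b =
          ∑ b, res hM (zbMat B a b) * x.coeff b + ∑ b, res hM (zbMat B a b) * y.coeff b
        rw [← Finset.sum_add_distrib]
        exact Finset.sum_congr rfl fun b _ => by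
          rw [MonoidAlgebra.coeff_add, Finsupp.add_apply, mul_add])
      map_smul' := fun c x => MonoidAlgebra.ext (Finsupp.ext fun a => by
        show ∑ b, res hM (zbMat B a b) * (c • x).coeff b =
          c * ∑ b, res hM (zbMat B a b) * x.coeff b
        rw [Finset.mul_sum]
        exact Finset.sum_congr rfl fun b _ => by
          rw [MonoidAlgebra.coeff_smul, Finsupp.smul_apply, smul_eq_mul, mul_left_comm]) } with hL
  have hdim := finrank_range_of_matrix hM (zbMat B) (zbMat_mem hM hB) (zbMat_idem B) L
    fun x a => rfl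
  rw [zbMat_trace] at hdim
  have hdim' : finrank (resField hM) (LinearMap.range L) = Nat.card B := Nat.cast_injective hdim
  rw [← hdim']
  refine Submodule.finrank_mono fun x hx => ⟨x, ?_⟩
  obtain ⟨hconj, hblk⟩ := hZc x hx
  refine MonoidAlgebra.ext (Finsupp.ext fun a => ?_)
  show ∑ b, res hM (zbMat B a b) * x.coeff b = x.coeff a
  have hx' : ∑ b ∈ Finset.univ.filter (fun b : A => clsRep b = b),
      x.coeff b • cV hM (vec (clsFn b)) = x := by
    refine MonoidAlgebra.ext (Finsupp.ext fun g => ?_)
    rw [MonoidAlgebra.coeff_sum, Finsupp.finset_sum_apply]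
    refine Eq.trans (Finset.sum_congr rfl fun b _ => ?_)
      (sum_rep_clsFn (F := fun g => x.coeff g) (fun g c => hconj c g) g)
    rw [MonoidAlgebra.coeff_smul, Finsupp.smul_apply, coeff_cV, zc_vec (isClassFunction_clsFn b),
      smul_eq_mul]
    simp only [clsFn]
    split_ifs <;> simp [res_one, res_zero]
  conv_rhs => rw [← hblk, ← hx', Finset.mul_sum, MonoidAlgebra.coeff_sum, Finsupp.finset_sum_apply]
  rw [Finset.sum_filter]
  refine Finset.sum_congr rfl fun b _ => ?_
  unfold zbMat
  split_ifs with hb
  · rw [mul_smul_comm, MonoidAlgebra.coeff_smul, Finsupp.smul_apply, blkA,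
      ← cV_mul hM (vInt_indVec hM hB) (vInt_vec_clsFn hM b), coeff_cV, smul_eq_mul, mul_comm]
  · rw [res_zero, zero_mul]

/-! ## Trace functions on a full corner -/

section Corner

variable {hM} {e : KGA hM A} (he : IsIdempotentElem e) (heB : blkA hM B * e = e) {N : ℕ}
  {a b : Fin N → KGA hM A} (hab : ∑ i, a i * e * b i = blkA hM B)

/-- The corner. -/
noncomputable def cornerSub (e : KGA hM A) : Submodule (resField hM) (KGA hM A) :=
  LinearMap.range (LinearMap.mulLeft (resField hM) e ∘ₗ LinearMap.mulRight (resField hM) e)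

theorem mem_cornerSub_mk (e x : KGA hM A) : e * x * e ∈ cornerSub e :=
  ⟨x, by simp [mul_assoc]⟩

include he in
theorem mem_cornerSub {x : KGA hM A} : x ∈ cornerSub e ↔ e * x * e = x := by
  refine ⟨?_, fun h => h ▸ mem_cornerSub_mk e x⟩
  rintro ⟨y, rfl⟩
  simp only [LinearMap.comp_apply, LinearMap.mulLeft_apply, LinearMap.mulRight_apply]
  calc e * (e * (y * e)) * e = (e * e) * y * (e * e) := by simp only [mul_assoc]
    _ = _ := by rw [he.eq, mul_assoc]

/-- The sum of the corner components. -/
noncomputable def extFun (a b : Fin N → KGA hM A)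
    (τ : Module.Dual (resField hM) (cornerSub e)) : Module.Dual (resField hM) (KGA hM A) :=
  ∑ i, τ ∘ₗ LinearMap.codRestrict (cornerSub e)
    ((LinearMap.mulLeft (resField hM) e ∘ₗ LinearMap.mulRight (resField hM) e) ∘ₗ
      LinearMap.mulLeft (resField hM) (b i) ∘ₗ LinearMap.mulRight (resField hM) (a i))
    fun x => ⟨_, rfl⟩

theorem extFun_apply (τ : Module.Dual (resField hM) (cornerSub e)) (x : KGA hM A) :
    extFun a b τ x = ∑ i, τ ⟨e * (b i * x * a i) * e, mem_cornerSub_mk e _⟩ := by
  simp only [extFun, LinearMap.sum_apply, LinearMap.comp_apply]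
  refine Finset.sum_congr rfl fun i _ => congrArg τ (Subtype.ext ?_)
  show (LinearMap.mulLeft (resField hM) e ∘ₗ LinearMap.mulRight (resField hM) e)
      ((LinearMap.mulLeft (resField hM) (b i) ∘ₗ LinearMap.mulRight (resField hM) (a i)) x) =
    e * (b i * x * a i) * e
  simp [mul_assoc]

/-- The element attached to a function on the corner. -/
noncomputable def centElt (a b : Fin N → KGA hM A) :
    Module.Dual (resField hM) (cornerSub e) →ₗ[resField hM] KGA hM A where
  toFun τ := MonoidAlgebra.ofCoeff (Finsupp.equivFunOnFinite.symm fun g =>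
    extFun a b τ (MonoidAlgebra.single g⁻¹ 1))
  map_add' τ τ' := MonoidAlgebra.ext (Finsupp.ext fun g => by
    show extFun a b (τ + τ') _ = extFun a b τ _ + extFun a b τ' _
    simp only [extFun_apply, LinearMap.add_apply, Finset.sum_add_distrib])
  map_smul' c τ := MonoidAlgebra.ext (Finsupp.ext fun g => by
    show extFun a b (c • τ) _ = c * extFun a b τ _
    simp only [extFun_apply, LinearMap.smul_apply, smul_eq_mul, Finset.mul_sum])

theorem coeff_centElt (τ : Module.Dual (resField hM) (cornerSub e)) (g : A) :
    (centElt a b τ).coeff g = extFun a b τ (MonoidAlgebra.single g⁻¹ 1) := rfl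

include heB in
theorem extFun_blk (τ : Module.Dual (resField hM) (cornerSub e)) (x : KGA hM A) :
    extFun a b τ (blkA hM B * x) = extFun a b τ x := by
  rw [extFun_apply, extFun_apply]
  refine Finset.sum_congr rfl fun i _ => congrArg τ (Subtype.ext ?_)
  show e * (b i * (blkA hM B * x) * a i) * e = e * (b i * x * a i) * e
  have h1 : b i * blkA hM B = blkA hM B * b i := (cV_commute hM (indVec B) _).eq.symm
  have h2 : e * blkA hM B = e := (cV_commute hM (indVec B) e).eq.symm.trans heB
  rw [← mul_assoc (b i), h1]
  simp only [mul_assoc]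
  rw [← mul_assoc e (blkA hM B), h2]

variable {τ : Module.Dual (resField hM) (cornerSub e)}
  (hτ : ∀ x y : KGA hM A, ∀ (hx : e * x * e * (e * y * e) ∈ cornerSub e)
    (hy : e * y * e * (e * x * e) ∈ cornerSub e), τ ⟨_, hx⟩ = τ ⟨_, hy⟩)

include he heB hab hτ in
/-- The extension is symmetric. -/
theorem extFun_comm (x y : KGA hM A) : extFun a b τ (x * y) = extFun a b τ (y * x) := by
  have hm : ∀ u v, e * u * e * (e * v * e) ∈ cornerSub e := fun u v =>
    (mem_cornerSub he).2 (by
      calc e * (e * u * e * (e * v * e)) * e = (e * e) * u * e * (e * v * (e * e)) := by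
            simp only [mul_assoc]
        _ = _ := by rw [he.eq])
  have key : ∀ x y, extFun a b τ (x * y) =
      ∑ i, ∑ j, τ ⟨_, hm (b i * x * a j) (b j * y * a i)⟩ := by
    intro x y
    rw [extFun_apply]
    refine Finset.sum_congr rfl fun i _ => ?_
    have hcomp : e * (b i * (x * y) * a i) * e =
        ∑ j, e * (b i * x * a j) * e * (e * (b j * y * a i) * e) := by
      have h1 : ∑ j, e * (b i * x * a j) * e * (e * (b j * y * a i) * e) =
          e * (b i * x) * (∑ j, a j * e * b j) * (y * a i * e) := by
        rw [Finset.mul_sum, Finset.sum_mul]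
        refine Finset.sum_congr rfl fun j _ => ?_
        calc e * (b i * x * a j) * e * (e * (b j * y * a i) * e) =
            e * (b i * x) * (a j * (e * e) * b j) * (y * a i * e) := by simp only [mul_assoc]
          _ = _ := by rw [he.eq]
      have h2 : e * blkA hM B = e := (cV_commute hM (indVec B) e).eq.symm.trans heB
      have h3 : e * (b i * x) * blkA hM B = e * (b i * x) := by
        rw [mul_assoc, show b i * x * blkA hM B = blkA hM B * (b i * x) from
          (cV_commute hM (indVec B) (b i * x)).eq.symm, ← mul_assoc, h2]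
      rw [h1, hab, h3]
      simp only [mul_assoc]
    rw [← map_sum]
    refine congrArg τ (Subtype.ext ?_)
    rw [AddSubmonoidClass.coe_finset_sum]
    exact hcomp
  rw [key, key, Finset.sum_comm]
  exact Finset.sum_congr rfl fun i _ => Finset.sum_congr rfl fun j _ => hτ _ _ _ _

include he heB hab hτ in
/-- The element attached to a trace function is central in the block. -/
theorem centElt_mem :
    (∀ g c, (centElt a b τ).coeff (g * c * g⁻¹) = (centElt a b τ).coeff c) ∧
      blkA hM B * centElt a b τ = centElt a b τ := by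
  classical
  refine ⟨fun g c => ?_, MonoidAlgebra.ext (Finsupp.ext fun g => ?_)⟩
  · rw [coeff_centElt, coeff_centElt]
    have h1 : (MonoidAlgebra.single (g * c * g⁻¹)⁻¹ (1 : resField hM) : KGA hM A) =
        MonoidAlgebra.single g 1 * (MonoidAlgebra.single c⁻¹ 1 * MonoidAlgebra.single g⁻¹ 1) := by
      rw [MonoidAlgebra.single_mul_single, MonoidAlgebra.single_mul_single]
      simp [mul_assoc]
    rw [h1, extFun_comm he heB hab hτ, mul_assoc, MonoidAlgebra.single_mul_single g⁻¹ g,
      inv_mul_cancel, one_mul, ← MonoidAlgebra.one_def, mul_one]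
  · rw [coeff_mul_sum, coeff_centElt]
    simp only [coeff_centElt]
    rw [← extFun_blk heB τ (MonoidAlgebra.single g⁻¹ 1), extFun_comm he heB hab hτ]
    have h2 : (MonoidAlgebra.single g⁻¹ (1 : resField hM) : KGA hM A) * blkA hM B =
        ∑ h : A, (blkA hM B).coeff h • MonoidAlgebra.single (g⁻¹ * h) (1 : resField hM) := by
      conv_lhs => rw [← MonoidAlgebra.sum_coeff_single (blkA hM B)]
      rw [Finsupp.sum_fintype _ _ (fun h => by simp), Finset.mul_sum]
      exact Finset.sum_congr rfl fun h _ => by
        rw [MonoidAlgebra.single_mul_single, one_mul, MonoidAlgebra.smul_single', mul_one]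
    rw [h2, map_sum]
    refine Finset.sum_congr rfl fun h _ => ?_
    rw [map_smul, smul_eq_mul, mul_inv_rev, inv_inv]

include he heB hab hτ in
/-- The extension restricts to the function. -/
theorem extFun_restrict (x : cornerSub e) : extFun a b τ (x : KGA hM A) = τ x := by
  obtain ⟨x, hx⟩ := x
  have hx' := (mem_cornerSub he).1 hx
  rw [extFun_apply]
  have hm : ∀ u v, e * u * e * (e * v * e) ∈ cornerSub e := fun u v =>
    (mem_cornerSub he).2 (by
      calc e * (e * u * e * (e * v * e)) * e = (e * e) * u * e * (e * v * (e * e)) := by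
            simp only [mul_assoc]
        _ = _ := by rw [he.eq])
  have h1 : ∀ i, τ ⟨e * (b i * x * a i) * e, mem_cornerSub_mk e _⟩ =
      τ ⟨_, hm (x * e * a i) (b i)⟩ := by
    intro i
    have e1 : e * (b i * x * a i) * e = e * b i * e * (e * (x * e * a i) * e) := by
      conv_lhs => rw [← hx']
      calc e * (b i * (e * x * e) * a i) * e = e * b i * (e * x) * (e * a i * e) := by
            simp only [mul_assoc]
        _ = e * b i * ((e * e) * x) * (e * a i * e) := by rw [he.eq]
        _ = _ := by simp only [mul_assoc]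
    rw [hτ (x * e * a i) (b i) (hm _ _) (hm _ _)]
    exact congrArg τ (Subtype.ext e1)
  rw [Finset.sum_congr rfl fun i _ => h1 i, ← map_sum]
  refine congrArg τ (Subtype.ext ?_)
  rw [AddSubmonoidClass.coe_finset_sum]
  calc ∑ i, e * (x * e * a i) * e * (e * b i * e) =
      e * x * e * (∑ i, a i * e * b i) * e := by
        rw [Finset.mul_sum, Finset.sum_mul]
        refine Finset.sum_congr rfl fun i _ => ?_
        calc e * (x * e * a i) * e * (e * b i * e) = e * x * e * (a i * (e * e) * b i) * e := by
              simp only [mul_assoc]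
          _ = _ := by rw [he.eq]
    _ = x := by
        rw [hab, hx', mul_assoc, heB]
        conv_lhs => rw [← hx', mul_assoc, he.eq]
        exact hx'

include he heB hab hτ in
/-- The element of a trace function determines it. -/
theorem centElt_eq_zero (h : centElt a b τ = 0) : τ = 0 := by
  classical
  refine LinearMap.ext fun x => ?_
  rw [LinearMap.zero_apply, ← extFun_restrict he heB hab hτ x,
    ← MonoidAlgebra.sum_coeff_single (x : KGA hM A), Finsupp.sum_fintype _ _ (fun g => by simp),
    map_sum]
  refine Finset.sum_eq_zero fun g _ => ?_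
  have h1 := congrArg (fun z : KGA hM A => z.coeff g⁻¹) h
  simp only [coeff_centElt, inv_inv] at h1
  rw [show (MonoidAlgebra.single g ((x : KGA hM A).coeff g) : KGA hM A) =
    (x : KGA hM A).coeff g • MonoidAlgebra.single g 1 by rw [MonoidAlgebra.smul_single', mul_one],
    map_smul, h1]
  simp

end Corner

end Cfsg.Lib.Block
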