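import Cfsg.Agent.Lib.Block.CyclicTraces
import Cfsg.Agent.Lib.Block.BrauerHom
import Cfsg.Agent.Lib.Char.Quotient
import Mathlib.RingTheory.Polynomial.Basic
import Mathlib.GroupTheory.QuotientGroup.Basic
import Mathlib.LinearAlgebra.Projection
import Mathlib.RingTheory.Finiteness.Basic

/-!
# Simple modules seen at a subgroup of order `p`

For an element `u` of order `p`, a defect-zero character of `N(⟨u⟩)/⟨u⟩` which occurs in the
Brauer image of a block `B` is attached to some simple module of `B`, and no simple module is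
attached to two of them.  So the rank of `B` is at least the number of such characters.
-/

set_option autoImplicit false
set_option linter.unusedSectionVars false
set_option maxHeartbeats 1000000

namespace Cfsg.Lib.Block

open Cfsg

universe u v w

section Operators

variable {k : Type} [Field k] {p : ℕ} [Fact p.Prime] {G : Type u} [Group G] {W : Type v}
  [AddCommGroup W] [Module k W] (ρ : Representation k G W) (t : G)

/-- `ρ t - 1`. -/
def shiftOp : Module.End k W := ρ t - 1

/-- The image of the relative trace from the trivial subgroup. -/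
def topSub (p : ℕ) : Submodule k W := LinearMap.range (shiftOp ρ t ^ (p - 1))

/-- The layers of the fixed points. -/
def layerSub (j : ℕ) : Submodule k W :=
  LinearMap.ker (shiftOp ρ t) ⊓ LinearMap.range (shiftOp ρ t ^ j)

theorem mem_ker_shift {x : W} : x ∈ LinearMap.ker (shiftOp ρ t) ↔ ρ t x = x := by
  rw [LinearMap.mem_ker, shiftOp, LinearMap.sub_apply, Module.End.one_apply, sub_eq_zero]

theorem shiftOp_pow_pred [CharP k p] :
    shiftOp ρ t ^ (p - 1) = ∑ i ∈ Finset.range p, ρ (t ^ i) := by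
  have h : ((Polynomial.X : Polynomial k) - 1) ^ (p - 1) =
      ∑ i ∈ Finset.range p, Polynomial.X ^ i := by
    refine mul_right_cancel₀ (b := (Polynomial.X : Polynomial k) - 1)
      (by simpa using Polynomial.X_sub_C_ne_zero (1 : k)) ?_
    rw [← pow_succ, Nat.sub_add_cancel (Fact.out : p.Prime).one_le, sub_pow_char, one_pow,
      geom_sum_mul]
  have h' := congrArg (Polynomial.aeval (ρ t)) h
  simp only [map_pow, map_sub, Polynomial.aeval_X, map_one, map_sum] at h'
  rw [shiftOp, h']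
  simp only [map_pow]

theorem shiftOp_pow_char [CharP k p] (ht : t ^ p = 1) : shiftOp ρ t ^ p = 0 := by
  have h := congrArg (Polynomial.aeval (ρ t)) (sub_pow_char (p := p) (Polynomial.X : Polynomial k) 1)
  simp only [map_pow, map_sub, Polynomial.aeval_X, map_one, one_pow] at h
  rw [shiftOp, h, ← map_pow, ht, map_one, sub_self]

theorem layerSub_mono {i j : ℕ} (h : i ≤ j) : layerSub ρ t j ≤ layerSub ρ t i := by
  refine inf_le_inf_left _ ?_
  rintro _ ⟨w, rfl⟩
  obtain ⟨d, rfl⟩ := Nat.exists_eq_add_of_le h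
  exact ⟨(shiftOp ρ t ^ d) w, by rw [pow_add, Module.End.mul_apply]⟩

theorem topSub_eq_layer [CharP k p] (ht : t ^ p = 1) : topSub ρ t p = layerSub ρ t (p - 1) := by
  refine le_antisymm ?_ inf_le_right
  rintro _ ⟨w, rfl⟩
  refine ⟨?_, ⟨w, rfl⟩⟩
  show shiftOp ρ t ((shiftOp ρ t ^ (p - 1)) w) = 0
  rw [← Module.End.mul_apply, ← pow_succ', Nat.sub_add_cancel (Fact.out : p.Prime).one_le,
    shiftOp_pow_char ρ t ht, LinearMap.zero_apply]

/-- A sum over an invariant set without fixed points lies in the image of the trace. -/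
theorem sum_free_mem_top [CharP k p] {Q : Type w} [DecidableEq Q] (σ : Equiv.Perm Q)
    (hσ : σ ^ p = 1) (Φ : Q → W) (hΦ : ∀ q, Φ (σ q) = ρ t (Φ q)) (S : Finset Q)
    (hS : ∀ q ∈ S, σ q ∈ S) (hfree : ∀ q ∈ S, σ q ≠ q) : ∑ q ∈ S, Φ q ∈ topSub ρ t p := by
  induction hn : S.card using Nat.strong_induction_on generalizing S with
  | _ m ih =>
    rcases S.eq_empty_or_nonempty with rfl | ⟨q₀, hq₀⟩
    · simp
    have hpow : ∀ i q, Φ ((σ ^ i) q) = ρ (t ^ i) (Φ q) := by
      intro i
      induction i with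
      | zero => intro q; simp
      | succ i ihi => intro q; rw [pow_succ', Equiv.Perm.mul_apply, hΦ, ihi, pow_succ', map_mul,
          Module.End.mul_apply]
    have hmemS : ∀ i, ∀ q ∈ S, (σ ^ i) q ∈ S := by
      intro i
      induction i with
      | zero => intro q hq; simpa using hq
      | succ i ihi => intro q hq; rw [pow_succ', Equiv.Perm.mul_apply]; exact hS _ (ihi q hq)
    set O := (Finset.range p).image fun i => (σ ^ i) q₀ with hO
    have hinj : Set.InjOn (fun i => (σ ^ i) q₀) (Finset.range p : Set ℕ) := by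
      intro a ha b hb hab
      by_contra hne
      wlog hlt : a < b generalizing a b
      · exact this hb ha hab.symm (Ne.symm hne) (lt_of_le_of_ne (not_lt.1 hlt) (Ne.symm hne))
      have hd : (σ ^ (b - a)) q₀ = q₀ := by
        apply (σ ^ a).injective
        rw [← Equiv.Perm.mul_apply, ← pow_add, Nat.add_sub_cancel' hlt.le]
        exact hab.symm
      have hcop : Nat.Coprime (b - a) p := by
        refine Nat.Coprime.symm ((Fact.out : p.Prime).coprime_iff_not_dvd.2 fun h => ?_)
        have := Nat.le_of_dvd (Nat.sub_pos_of_lt hlt) h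
        simp only [Finset.coe_range, Set.mem_Iio] at hb
        omega
      obtain ⟨l, hl⟩ := Nat.exists_mul_mod_eq_one_of_coprime hcop (Fact.out : p.Prime).one_lt
      refine hfree q₀ hq₀ ?_
      have h1 : (σ ^ ((b - a) * l)) q₀ = q₀ := by
        rw [pow_mul]
        clear hl
        induction l with
        | zero => simp
        | succ l ihl => rw [pow_succ, Equiv.Perm.mul_apply, hd, ihl]
      rw [← Nat.mod_add_div ((b - a) * l) p, hl.2, pow_add, pow_mul, hσ, one_pow, mul_one,
        pow_one] at h1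
      exact h1
    have hOS : O ⊆ S := fun q hq => by
      obtain ⟨i, -, rfl⟩ := Finset.mem_image.1 hq
      exact hmemS i q₀ hq₀
    rw [← Finset.sum_sdiff hOS]
    refine Submodule.add_mem _ (ih (S \ O).card ?_ _ ?_ ?_ rfl) ?_
    · rw [← hn]
      exact Finset.card_lt_card (Finset.sdiff_ssubset hOS
        ⟨q₀, Finset.mem_image.2 ⟨0, Finset.mem_range.2 (Fact.out : p.Prime).pos, by simp⟩⟩)
    · intro q hq
      rw [Finset.mem_sdiff] at hq ⊢
      refine ⟨hS q hq.1, fun h => hq.2 ?_⟩
      obtain ⟨i, hi, he⟩ := Finset.mem_image.1 h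
      have hiter : (σ ^ ((p - 1) + i)) q₀ = q := by
        rw [pow_add, Equiv.Perm.mul_apply, he, ← Equiv.Perm.mul_apply, ← pow_succ,
          Nat.sub_add_cancel (Fact.out : p.Prime).one_le, hσ, Equiv.Perm.one_apply]
      refine Finset.mem_image.2 ⟨((p - 1) + i) % p,
        Finset.mem_range.2 (Nat.mod_lt _ (Fact.out : p.Prime).pos), ?_⟩
      rw [← hiter]
      conv_rhs => rw [← Nat.mod_add_div ((p - 1) + i) p, pow_add, pow_mul, hσ, one_pow, mul_one]
    · exact fun q hq => hfree q (Finset.mem_sdiff.1 hq).1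
    · rw [hO, Finset.sum_image hinj]
      refine ⟨Φ q₀, ?_⟩
      rw [shiftOp_pow_pred, LinearMap.sum_apply]
      exact Finset.sum_congr rfl fun i _ => (hpow i q₀).symm

/-- A prescribed action on one layer extends to an endomorphism commuting with `t`. -/
theorem exists_extension (j : ℕ) (h : Module.End k W)
    (hj : ∀ y ∈ layerSub ρ t j, h y ∈ layerSub ρ t j)
    (hj1 : ∀ y ∈ layerSub ρ t (j + 1), h y ∈ layerSub ρ t (j + 1)) :
    ∃ F : Module.End k W, Commute (ρ t) F ∧
      (∀ y ∈ LinearMap.ker (shiftOp ρ t), F y ∈ layerSub ρ t j) ∧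
      (∀ y ∈ layerSub ρ t (j + 1), F y = 0) ∧
      ∀ y ∈ layerSub ρ t j, F y - h y ∈ layerSub ρ t (j + 1) := by
  classical
  set X := shiftOp ρ t with hX
  set S := layerSub ρ t j with hS
  set S' := layerSub ρ t (j + 1) with hS'
  set R := LinearMap.range (X ^ (j + 1)) with hR
  have hS'S : S' ≤ S := layerSub_mono ρ t (Nat.le_succ j)
  obtain ⟨C, hdisj, hcod⟩ : ∃ C : Submodule k W, S' ⊓ C = ⊥ ∧ S' ⊔ C = S := by
    obtain ⟨C, hC⟩ := Submodule.exists_isCompl (Submodule.comap S.subtype S')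
    refine ⟨C.map S.subtype, ?_, ?_⟩
    · rw [eq_bot_iff]
      rintro x ⟨hx', c, hc, rfl⟩
      have : c ∈ Submodule.comap S.subtype S' ⊓ C := ⟨hx', hc⟩
      rw [hC.inf_eq_bot, Submodule.mem_bot] at this
      simp [this]
    · have := congrArg (Submodule.map S.subtype) hC.sup_eq_top
      rwa [Submodule.map_sup, Submodule.map_comap_eq, Submodule.map_subtype_top,
        Submodule.range_subtype, inf_eq_right.2 hS'S] at this
  have hCS : C ≤ S := hcod ▸ le_sup_right
  have hRC : R ⊓ C = ⊥ := by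
    rw [eq_bot_iff]
    rintro x ⟨hxR, hxC⟩
    have hx' : x ∈ S' := ⟨(hCS hxC).1, hxR⟩
    have : x ∈ S' ⊓ C := ⟨hx', hxC⟩
    rwa [hdisj] at this
  obtain ⟨D, hD⟩ := Submodule.exists_isCompl (R ⊔ C)
  have hcompl : IsCompl C (R ⊔ D) := by
    refine ⟨?_, ?_⟩
    · rw [Submodule.disjoint_def]
      intro x hxC hxRD
      obtain ⟨r, hr, d, hd, rfl⟩ := Submodule.mem_sup.1 hxRD
      have hdRC : d ∈ R ⊔ C := by
        have : d = -r + (r + d) := by abel
        rw [this]
        exact Submodule.add_mem_sup (R.neg_mem hr) hxC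
      have hd0 : d = 0 := Submodule.disjoint_def.1 hD.disjoint d hdRC hd
      subst hd0
      rw [add_zero] at hxC ⊢
      have : r ∈ R ⊓ C := ⟨hr, hxC⟩
      rwa [hRC, Submodule.mem_bot] at this
    · rw [codisjoint_iff, ← sup_assoc, sup_comm C R]
      exact hD.sup_eq_top
  set L : Module.End k W := h ∘ₗ (C.subtype ∘ₗ C.projectionOnto (R ⊔ D) hcompl) with hL
  have hLS : ∀ w, L w ∈ S := fun w => hj _ (hCS (C.projectionOnto _ hcompl w).2)
  obtain ⟨s, hs⟩ := (X ^ j).rangeRestrict.exists_rightInverse_of_surjective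
    (LinearMap.range_rangeRestrict _)
  set K : Module.End k W := s ∘ₗ (LinearMap.codRestrict (LinearMap.range (X ^ j)) L fun w => (hLS w).2)
    with hK
  have hXK : ∀ w, (X ^ j) (K w) = L w := fun w => by
    have := LinearMap.congr_fun hs ⟨L w, (hLS w).2⟩
    exact congrArg Subtype.val this
  have hLR : ∀ w ∈ R, L w = 0 := fun w hw => by
    simp only [hL, LinearMap.comp_apply]
    rw [Submodule.projectionOnto_apply_eq_zero_iff hcompl |>.2 (Submodule.mem_sup_left hw)]
    simp
  have hKR : ∀ w, K ((X ^ (j + 1)) w) = 0 := fun w => by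
    have : LinearMap.codRestrict (LinearMap.range (X ^ j)) L (fun w => (hLS w).2)
        ((X ^ (j + 1)) w) = 0 := Subtype.ext (hLR _ ⟨w, rfl⟩)
    rw [hK, LinearMap.comp_apply, this, map_zero]
  set F : Module.End k W := ∑ m ∈ Finset.range (j + 1), X ^ m * K * X ^ (j - m) with hF
  have hFker : ∀ y ∈ LinearMap.ker X, F y = L y := by
    intro y hy
    rw [hF, LinearMap.sum_apply, Finset.sum_eq_single j]
    · simp only [Module.End.mul_apply, Nat.sub_self, pow_zero, Module.End.one_apply, hXK]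
    · intro m hm hmj
      obtain ⟨d, hd⟩ := Nat.exists_eq_add_of_lt (lt_of_le_of_ne
        (Nat.le_of_lt_succ (Finset.mem_range.1 hm)) hmj)
      simp only [show j - m = d + 1 by omega, pow_succ, Module.End.mul_apply,
        LinearMap.mem_ker.1 hy, map_zero]
    · simp
  refine ⟨F, ?_, fun y hy => hFker y hy ▸ hLS y, fun y hy => ?_, fun y hy => ?_⟩
  · have hc : Commute X F := by
      show X * F = F * X
      refine sub_eq_zero.1 ?_
      rw [hF, Finset.mul_sum, Finset.sum_mul, ← Finset.sum_sub_distrib,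
        Finset.sum_congr rfl (g := fun m =>
          (fun i => X ^ i * K * X ^ (j + 1 - i)) (m + 1) - (fun i => X ^ i * K * X ^ (j + 1 - i)) m)
          fun m hm => by
            have hmj : m ≤ j := Nat.le_of_lt_succ (Finset.mem_range.1 hm)
            simp only [mul_assoc, ← pow_succ]
            rw [← mul_assoc X, ← pow_succ', show j + 1 - (m + 1) = j - m by omega,
              show j - m + 1 = j + 1 - m by omega],
        Finset.sum_range_sub (fun i => X ^ i * K * X ^ (j + 1 - i))]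
      refine LinearMap.ext fun w => ?_
      simp only [Nat.sub_self, pow_zero, mul_one, one_mul, Nat.sub_zero, LinearMap.sub_apply,
        Module.End.mul_apply, LinearMap.zero_apply, hKR, sub_zero]
      rw [pow_succ', Module.End.mul_apply, hXK]
      exact LinearMap.mem_ker.1 (hLS w).1
    have h2 : ρ t = X + 1 := by rw [hX, shiftOp, sub_add_cancel]
    rw [h2]
    exact hc.add_left (Commute.one_left _)
  · rw [hFker y hy.1, hLR y hy.2]
  · rw [hFker y hy.1]
    obtain ⟨a, ha, c, hc, rfl⟩ := Submodule.mem_sup.1 (hcod.symm ▸ hy : y ∈ S' ⊔ C)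
    rw [map_add, map_add, hLR a ha.2, zero_add]
    simp only [hL, LinearMap.comp_apply]
    rw [show C.projectionOnto (R ⊔ D) hcompl c = ⟨c, hc⟩ from
      Submodule.projectionOnto_apply_left hcompl ⟨c, hc⟩]
    simp only [Submodule.subtype_apply]
    rw [show h c - (h a + h c) = -h a by abel]
    exact Submodule.neg_mem _ (hj1 a ha)

end Operators

/-! ## The normalizer quotient -/

section Quot

variable {k : Type} [Field k] {G : Type u} [Group G] [Fintype G] (t : G)

/-- `N(⟨t⟩)/⟨t⟩`. -/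
abbrev NQuot : Type u :=
  ↥(Subgroup.normalizer (Subgroup.zpowers t : Set G)) ⧸
    (Subgroup.zpowers t).subgroupOf (Subgroup.normalizer (Subgroup.zpowers t : Set G))

noncomputable instance fintypeNQuot : Fintype (NQuot t) := Fintype.ofFinite _

instance normalNQuot : ((Subgroup.zpowers t).subgroupOf
    (Subgroup.normalizer (Subgroup.zpowers t : Set G))).Normal := Subgroup.normal_in_normalizer

/-- A representative of a coset. -/
noncomputable def nRep (a : NQuot t) : G :=
  ((a.out : ↥(Subgroup.normalizer (Subgroup.zpowers t : Set G))) : G)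

theorem nRep_mem (a : NQuot t) : nRep t a ∈ Subgroup.normalizer (Subgroup.zpowers t : Set G) :=
  a.out.2

theorem exists_pow_eq {g : G} (hg : g ∈ Subgroup.zpowers t) : ∃ m : ℕ, t ^ m = g :=
  mem_powers_iff_mem_zpowers.2 hg

variable {W : Type v} [AddCommGroup W] [Module k W] (ρ : Representation k G W)

theorem rho_fix {x : W} (hx : x ∈ LinearMap.ker (shiftOp ρ t)) {g : G}
    (hg : g ∈ Subgroup.zpowers t) : ρ g x = x := by
  obtain ⟨m, rfl⟩ := exists_pow_eq t hg
  induction m with
  | zero => simp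
  | succ m ih =>
    rw [pow_succ, map_mul, Module.End.mul_apply, (mem_ker_shift ρ t).1 hx,
      ih (pow_mem (Subgroup.mem_zpowers t) m)]

theorem rho_layer {n : G} (hn : n ∈ Subgroup.normalizer (Subgroup.zpowers t : Set G)) {j : ℕ}
    {x : W} (hx : x ∈ layerSub ρ t j) : ρ n x ∈ layerSub ρ t j := by
  refine ⟨(mem_ker_shift ρ t).2 ?_, ?_⟩
  · have h := rho_fix t ρ hx.1 ((Subgroup.mem_normalizer_iff.1
      (Subgroup.inv_mem _ hn) t).1 (Subgroup.mem_zpowers t))
    rw [inv_inv] at h
    rw [← Module.End.mul_apply, ← map_mul, show t * n = n * (n⁻¹ * t * n) by group, map_mul,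
      Module.End.mul_apply, h]
  · obtain ⟨w, rfl⟩ := hx.2
    obtain ⟨m, hm⟩ := exists_pow_eq t ((Subgroup.mem_normalizer_iff.1 hn t).1 (Subgroup.mem_zpowers t))
    set Y : Module.End k W := ∑ i ∈ Finset.range m, ρ t ^ i
    have hXY : shiftOp ρ t * Y = ρ (n * t * n⁻¹) - 1 := by
      rw [← hm, map_pow, shiftOp, mul_geom_sum]
    have hcm : Commute (shiftOp ρ t) Y := by
      refine Commute.sum_right _ _ _ fun i _ => ?_
      exact ((Commute.refl (ρ t)).sub_left (Commute.one_left _)).pow_right i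
    have hmove : ρ n * shiftOp ρ t = (shiftOp ρ t * Y) * ρ n := by
      rw [hXY, shiftOp, mul_sub, sub_mul, mul_one, one_mul, ← map_mul, ← map_mul,
        show n * t * n⁻¹ * n = n * t by group]
    have hpow : ρ n * shiftOp ρ t ^ j = (shiftOp ρ t * Y) ^ j * ρ n :=
      (SemiconjBy.pow_right (show SemiconjBy (ρ n) (shiftOp ρ t) (shiftOp ρ t * Y) from hmove) j).eq
    refine ⟨(Y ^ j) (ρ n w), ?_⟩
    rw [← Module.End.mul_apply, ← Module.End.mul_apply, ← Module.End.mul_apply, hpow, hcm.mul_pow]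

/-- The action of a function on `N(⟨t⟩)/⟨t⟩`. -/
noncomputable def nOp (c : NQuot t → k) : Module.End k W := ∑ a, c a • ρ (nRep t a)

theorem nRep_congr {x : W} (hx : x ∈ LinearMap.ker (shiftOp ρ t))
    (n : ↥(Subgroup.normalizer (Subgroup.zpowers t : Set G))) :
    ρ (nRep t (n : NQuot t)) x = ρ (n : G) x := by
  obtain ⟨⟨h, hh⟩, he⟩ := QuotientGroup.mk_out_eq_mul
    ((Subgroup.zpowers t).subgroupOf (Subgroup.normalizer (Subgroup.zpowers t : Set G))) n
  rw [nRep, he, Subgroup.coe_mul, map_mul, Module.End.mul_apply,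
    rho_fix t ρ hx (Subgroup.mem_subgroupOf.1 hh)]

theorem nOp_layer (c : NQuot t → k) {j : ℕ} {x : W} (hx : x ∈ layerSub ρ t j) :
    nOp t ρ c x ∈ layerSub ρ t j := by
  rw [nOp, LinearMap.sum_apply]
  exact Submodule.sum_mem _ fun a _ => Submodule.smul_mem _ _ (rho_layer t ρ (nRep_mem t a) hx)

theorem mem_layer_zero {x : W} (hx : x ∈ LinearMap.ker (shiftOp ρ t)) : x ∈ layerSub ρ t 0 :=
  ⟨hx, ⟨x, by simp⟩⟩

theorem nOp_ker (c : NQuot t → k) {x : W} (hx : x ∈ LinearMap.ker (shiftOp ρ t)) :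
    nOp t ρ c x ∈ LinearMap.ker (shiftOp ρ t) := (nOp_layer t ρ c (mem_layer_zero t ρ hx)).1

theorem rho_nRep_mul {x : W} (hx : x ∈ LinearMap.ker (shiftOp ρ t)) (a b : NQuot t) :
    ρ (nRep t a) (ρ (nRep t b) x) = ρ (nRep t (a * b)) x := by
  rw [← Module.End.mul_apply, ← map_mul]
  have e : (((a.out * b.out : ↥(Subgroup.normalizer (Subgroup.zpowers t : Set G)))) : NQuot t) =
      a * b := by rw [QuotientGroup.mk_mul, QuotientGroup.out_eq', QuotientGroup.out_eq']
  rw [← e, nRep_congr t ρ hx]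
  rfl

theorem nOp_nOp (c d : NQuot t → k) {x : W} (hx : x ∈ LinearMap.ker (shiftOp ρ t)) :
    nOp t ρ c (nOp t ρ d x) = nOp t ρ (fun q => ∑ a, c a * d (a⁻¹ * q)) x := by
  simp only [nOp, LinearMap.sum_apply, LinearMap.smul_apply, map_sum, map_smul, Finset.smul_sum,
    smul_smul, Finset.sum_smul, rho_nRep_mul t ρ hx]
  rw [Finset.sum_comm (γ := NQuot t)]
  conv_rhs => rw [Finset.sum_comm]
  refine Finset.sum_congr rfl fun a _ => ?_
  exact Fintype.sum_equiv (Equiv.mulLeft a) _ _ fun b => by simp [mul_comm (d b) (c a)]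

theorem sum_conj_nOp (c : NQuot t → k) {x : W} (hx : x ∈ LinearMap.ker (shiftOp ρ t)) :
    ∑ a, ρ (nRep t a) (nOp t ρ c (ρ (nRep t a⁻¹) x)) =
      nOp t ρ (fun q => ∑ a, c (a⁻¹ * q * a)) x := by
  simp only [nOp, LinearMap.sum_apply, LinearMap.smul_apply, map_sum, map_smul, Finset.sum_smul,
    rho_nRep_mul t ρ hx]
  conv_rhs => rw [Finset.sum_comm]
  refine Finset.sum_congr rfl fun a _ => ?_
  refine Fintype.sum_equiv ((Equiv.mulLeft a).trans (Equiv.mulRight a⁻¹)) _ _ fun b => ?_
  simp [mul_assoc]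

variable {W' : Type w} [AddCommGroup W'] [Module k W'] {ρ' : Representation k G W'}

theorem map_shift {φ : W →ₗ[k] W'} (hφ : ∀ g x, φ (ρ g x) = ρ' g (φ x)) (x : W) :
    φ (shiftOp ρ t x) = shiftOp ρ' t (φ x) := by
  simp [shiftOp, hφ]

theorem map_shift_pow {φ : W →ₗ[k] W'} (hφ : ∀ g x, φ (ρ g x) = ρ' g (φ x)) (m : ℕ) (x : W) :
    φ ((shiftOp ρ t ^ m) x) = (shiftOp ρ' t ^ m) (φ x) := by
  induction m generalizing x with
  | zero => simp
  | succ m ih => rw [pow_succ, Module.End.mul_apply, ih, map_shift t ρ hφ, pow_succ,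
      Module.End.mul_apply]

theorem map_ker_shift {φ : W →ₗ[k] W'} (hφ : ∀ g x, φ (ρ g x) = ρ' g (φ x)) {x : W}
    (hx : x ∈ LinearMap.ker (shiftOp ρ t)) : φ x ∈ LinearMap.ker (shiftOp ρ' t) := by
  rw [LinearMap.mem_ker] at hx ⊢
  rw [← map_shift t ρ hφ, hx, map_zero]

theorem map_topSub {p : ℕ} {φ : W →ₗ[k] W'} (hφ : ∀ g x, φ (ρ g x) = ρ' g (φ x)) {x : W}
    (hx : x ∈ topSub ρ t p) : φ x ∈ topSub ρ' t p := by
  obtain ⟨w, rfl⟩ := hx
  exact ⟨φ w, (map_shift_pow t ρ hφ _ w).symm⟩

theorem map_nOp {φ : W →ₗ[k] W'} (hφ : ∀ g x, φ (ρ g x) = ρ' g (φ x)) (c : NQuot t → k) (x : W) :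
    φ (nOp t ρ c x) = nOp t ρ' c (φ x) := by
  simp [nOp, LinearMap.sum_apply, hφ]

end Quot

end Cfsg.Lib.Block
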