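import Cfsg.Agent.Lib.Block.BlockSimpleDegree
import Cfsg.Agent.Lib.Block.CyclicBrauerQuot

/-!
# A block with a central generator of its corner

If a block with one simple module and `q` members agreeing at regular elements has a central
element whose powers below `q` do not vanish and whose `q`-th power does, then the corner at an
idempotent of rank one is spanned by the powers of that element.  Linear maps on the socle layers
of a module extend to endomorphisms of the block.
-/

set_option autoImplicit false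
set_option linter.unusedSectionVars false
set_option maxHeartbeats 1000000

namespace Cfsg.Lib.Block

open Cfsg Module
open scoped MonoidAlgebra

universe u v

variable {p : ℕ} [Fact p.Prime] {M : Ideal AlgInt} {A : Type u} [Group A] [Fintype A]
  (hM : IsPModular p M)

/-- The algebraic data of a block with corner `k[η]`. -/
structure Corner (B : Set (IrrCharacter A)) (q : ℕ) (η e : KGA hM A) {m : ℕ}
    (σ : Representation (resField hM) A (Fin m → resField hM)) (i₀ : Fin m) : Prop where
  q_pos : 0 < q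
  eta_comm : ∀ x, Commute η x
  eta_pow : η ^ q = 0
  eta_blk : blkA hM B * η = η
  e_idem : IsIdempotentElem e
  e_blk : blkA hM B * e = e
  eta_top : η ^ (q - 1) * e ≠ 0
  irred : σ.IsIrreducible
  sigma_blk : blockOp hM B σ = 1
  sigma_eta : σ.asAlgebraHom η = 0
  sigma_e : σ.asAlgebraHom e = (LinearMap.proj i₀).smulRight (Pi.single i₀ (1 : resField hM))
  span : ∀ x, ∃ c : Fin q → resField hM, e * x * e = ∑ i, c i • (η ^ (i : ℕ) * e)
  full : ∃ (N : ℕ) (a b : Fin N → KGA hM A), ∑ i, a i * e * b i = blkA hM B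

section Exists

variable {B : Set (IrrCharacter A)} {q : ℕ} {ψ₀ : IrrCharacter A} (R : RegBlock p M B q ψ₀)
  {η : KGA hM A} (hcomm : ∀ x, Commute η x) (hpow : η ^ q = 0)
  (hblk : blkA hM B * η = η) (htop : η ^ (q - 1) * blkA hM B ≠ 0)

/-- The idempotent generates the block as an ideal. -/
theorem exists_full (hB : IsPBlock M B) (hl : blockRank p B ≤ 1) {m : ℕ} {σ : Representation (resField hM) A (Fin m → resField hM)}
    (hσ : σ.IsIrreducible) (hσb : blockOp hM B σ = 1) {e : KGA hM A} (he : IsIdempotentElem e)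
    (heB : blkA hM B * e = e)
    (hr : Module.finrank (resField hM) (LinearMap.range (σ.asAlgebraHom e)) = 1) :
    ∃ (N : ℕ) (a b : Fin N → KGA hM A), ∑ i, a i * e * b i = blkA hM B := by
  classical
  let k := resField hM
  set I : Submodule k (KGA hM A) := Submodule.span k {x | ∃ a b, x = a * e * b} with hI
  have hmem : ∀ x ∈ I, ∃ (N : ℕ) (a b : Fin N → KGA hM A), ∑ i, a i * e * b i = x := by
    intro x hx
    induction hx using Submodule.span_induction with
    | mem x hx =>
      obtain ⟨a, b, rfl⟩ := hx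
      exact ⟨1, fun _ => a, fun _ => b, by simp⟩
    | zero => exact ⟨0, Fin.elim0, Fin.elim0, by simp⟩
    | add x y _ _ hx hy =>
      obtain ⟨N, a, b, rfl⟩ := hx
      obtain ⟨N', a', b', rfl⟩ := hy
      exact ⟨N + N', Fin.append a a', Fin.append b b', by simp [Fin.sum_univ_add]⟩
    | smul c x _ hx =>
      obtain ⟨N, a, b, rfl⟩ := hx
      exact ⟨N, fun i => c • a i, b, by simp [Finset.smul_sum]⟩
  refine hmem _ ?_
  set U : Submodule k (blkPart hM (B := B)) := Submodule.comap (Submodule.subtype _) I with hU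
  set ρ₀ := subRep (lmulRep hM) (blkPart hM (B := B)) (blkPart_invariant hM hB)
  have hIl : ∀ c, ∀ x ∈ I, c * x ∈ I := by
    intro c x hx
    induction hx using Submodule.span_induction with
    | mem x hx =>
      obtain ⟨a, b, rfl⟩ := hx
      exact Submodule.subset_span ⟨c * a, b, by simp only [mul_assoc]⟩
    | zero => simp
    | add x y _ _ hx hy => rw [mul_add]; exact add_mem hx hy
    | smul d x _ hx => rw [mul_smul_comm]; exact I.smul_mem d hx
  have hinv : ∀ g, ∀ x ∈ U, ρ₀ g x ∈ U := fun g x hx => hIl _ _ hx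
  have hb := blockOp_eq_one_of_surjective hM (φ := U.mkQ) U.mkQ_surjective
    (quotRep_mkQ ρ₀ U hinv) (blockOp_blkPart hM hB)
  have h0 : (quotRep ρ₀ U hinv).asAlgebraHom e = 0 := by
    refine LinearMap.ext fun y => ?_
    obtain ⟨y, rfl⟩ := U.mkQ_surjective y
    rw [← map_asAlgebraHom _ (quotRep_mkQ ρ₀ U hinv), LinearMap.zero_apply, Submodule.mkQ_apply,
      Submodule.Quotient.mk_eq_zero]
    show (blkPart hM (B := B)).subtype (ρ₀.asAlgebraHom e y) ∈ I
    rw [map_asAlgebraHom (blkPart hM (B := B)).subtype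
      (subRep_subtype (lmulRep hM) _ (blkPart_invariant hM hB)), lmulRep_asAlgebraHom]
    exact Submodule.subset_span ⟨1, _, by rw [one_mul]⟩
  have h1 := finrank_range_simple hM hB hl hσ hσb he _ hb
  rw [h0, LinearMap.range_zero, finrank_bot, zero_mul, hr, mul_one] at h1
  haveI : Subsingleton ((blkPart hM (B := B)) ⧸ U) := Module.finrank_zero_iff.1 h1.symm
  have hmem' : blkA hM B ∈ blkPart hM (B := B) :=
    (mem_blkPart hM hB).2 (blkA_idem hM hB).eq
  exact (Submodule.Quotient.mk_eq_zero U).1 (Subsingleton.elim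
    (Submodule.Quotient.mk (p := U) (⟨_, hmem'⟩ : blkPart hM (B := B))) 0)

include R hcomm hpow hblk htop in
/-- The corner at an idempotent of rank one. -/
theorem exists_corner : ∃ (m : ℕ) (σ : Representation (resField hM) A (Fin m → resField hM))
    (i₀ : Fin m) (e : KGA hM A), Corner hM B q η e σ i₀ ∧ (ψ₀ : A → ℂ) 1 = (m : ℂ) := by
  classical
  haveI := isAlgClosed_resField hM
  obtain ⟨m, σ, hσ, hσb⟩ := exists_simple hM R.block
  haveI := hσ
  have hdeg := R.degree_eq hM hσ hσb
  have hm := simple_dim_pos hM hσ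
  set i₀ : Fin m := ⟨0, hm⟩
  obtain ⟨e, he, -, heB, heσ⟩ := exists_rank_one_idem hM R.block R.rank hσ hσb i₀
  have hr : finrank (resField hM) (LinearMap.range (σ.asAlgebraHom e)) = 1 := by
    rw [heσ, LinearMap.range_smulRight_apply (by
      intro h
      have := LinearMap.congr_fun h (Pi.single i₀ 1)
      simp at this),
      finrank_span_singleton (Pi.single_ne_zero_iff.2 one_ne_zero)]
  -- the generator kills the simple module
  have hση : σ.asAlgebraHom η = 0 := by
    have hc : ∀ g x, σ.asAlgebraHom η (σ g x) = σ g (σ.asAlgebraHom η x) := fun g x => by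
      rw [← Representation.asAlgebraHom_single_one, ← Module.End.mul_apply, ← map_mul,
        (hcomm _).eq, map_mul]
      rfl
    obtain ⟨s, hs⟩ := (Representation.IsIrreducible.algebraMap_intertwiningMap_bijective_of_isAlgClosed
      (ρ := σ)).2 (LinearMap.intertwiningMap_of_isIntertwiningMap (f := σ.asAlgebraHom η)
        (ρ := σ) (σ := σ) hc)
    have hfs : σ.asAlgebraHom η = s • 1 := LinearMap.ext fun z => by
      have := congrArg (fun φ : Representation.IntertwiningMap σ σ => φ.toLinearMap z) hs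
      exact this.symm
    have h := congrArg σ.asAlgebraHom hpow
    rw [map_pow, hfs, smul_pow, one_pow, map_zero] at h
    have h' := congrFun (LinearMap.congr_fun h (Pi.single i₀ 1)) i₀
    simp at h'
    rw [hfs, h'.1, zero_smul]
  obtain ⟨N, a, b, hab⟩ := exists_full hM R.block R.rank hσ hσb he heB hr
  have htope : η ^ (q - 1) * e ≠ 0 := by
    intro h
    refine htop ?_
    rw [← hab, Finset.mul_sum]
    refine Finset.sum_eq_zero fun i _ => ?_
    rw [← mul_assoc, ← mul_assoc, ((hcomm (a i)).pow_left _).eq, mul_assoc (a i), h, mul_zero,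
      zero_mul]
  have hindep : LinearIndependent (resField hM) (fun i : Fin q => η ^ (i : ℕ) * e) := by
    rw [Fintype.linearIndependent_iff]
    intro c hc
    by_contra! hne
    obtain ⟨i, hi, hmin⟩ : ∃ i, c i ≠ 0 ∧ ∀ j < i, c j = 0 := by
      obtain ⟨i, hi⟩ := hne
      have hs : (Finset.univ.filter fun j => c j ≠ 0).Nonempty := ⟨i, by simpa using hi⟩
      refine ⟨_, (Finset.mem_filter.1 (Finset.min'_mem _ hs)).2, fun j hj => ?_⟩
      by_contra hcj
      exact absurd hj (not_lt.2 (Finset.min'_le _ j (by simpa using hcj)))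
    have h := congrArg (fun x => η ^ (q - 1 - (i : ℕ)) * x) hc
    simp only [Finset.mul_sum, mul_smul_comm, ← mul_assoc, ← pow_add, mul_zero] at h
    rw [Finset.sum_eq_single i (fun j _ hj => ?_) (by simp)] at h
    · rw [show q - 1 - (i : ℕ) + (i : ℕ) = q - 1 by omega] at h
      exact htope ((smul_eq_zero.1 h).resolve_left hi)
    · rcases lt_or_gt_of_ne hj with hlt | hgt
      · rw [hmin j hlt, zero_smul]
      · rw [Fin.lt_def] at hgt
        rw [pow_eq_zero_of_le (show q ≤ q - 1 - (i : ℕ) + (j : ℕ) by omega) hpow, zero_mul,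
          smul_zero]
  obtain ⟨ae, hai, haB, hae⟩ := exists_block_lift hM R.block he heB
  have hc1 : hatC hM (ψ₀ : A → ℂ) ae 1 = 1 := by
    have h := R.hatC_mul hM hσ hσb hai haB
    rw [hae, hr, hdeg, Nat.cast_one, mul_one] at h
    exact mul_right_cancel₀ (b := (m : ℂ)) (Nat.cast_ne_zero.2 hm.ne') (h.trans (one_mul _).symm)
  set W : Submodule (resField hM) (KGA hM A) :=
    LinearMap.range (LinearMap.mulRight (resField hM) e) with hW
  have hWdim : finrank (resField hM) W = q * m := by
    apply Nat.cast_injective (R := ℂ)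
    rw [hW, ← hae, finrank_range_mulRight hM hai, ← finrank_range_mulLeft hM hai,
      finrank_range_block hM R.block hai haB, R.sum_block hM hai, hc1, hdeg]
    push_cast
    ring
  have hWinv : ∀ g, ∀ x ∈ W, lmulRep hM g x ∈ W := by
    rintro g _ ⟨y, rfl⟩
    exact ⟨MonoidAlgebra.single g 1 * y, by simp only [LinearMap.mulRight_apply]; rw [mul_assoc]; rfl⟩
  have hWb : blockOp hM B (subRep (lmulRep hM) W hWinv) = 1 := by
    refine LinearMap.ext fun x => Subtype.ext ?_
    obtain ⟨y, hy⟩ := x.2
    rw [← asAlgebraHom_blkA, ← Submodule.subtype_apply,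
      map_asAlgebraHom W.subtype (subRep_subtype (lmulRep hM) W hWinv), lmulRep_asAlgebraHom,
      Submodule.subtype_apply, Module.End.one_apply, ← hy, LinearMap.mulRight_apply, ← mul_assoc,
      blkA, (cV_commute hM (indVec B) y).eq, mul_assoc]
    exact congrArg (y * ·) heB
  set S : Submodule (resField hM) (KGA hM A) :=
    LinearMap.range (LinearMap.mulLeft (resField hM) e ∘ₗ LinearMap.mulRight (resField hM) e) with hS
  have hSdim : finrank (resField hM) S = q := by
    have h := finrank_range_simple hM R.block R.rank hσ hσb he _ hWb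
    rw [hWdim, hr, mul_one, ← Submodule.finrank_map_subtype_eq W,
      ← LinearMap.range_comp] at h
    have e1 : LinearMap.range (W.subtype ∘ₗ (subRep (lmulRep hM) W hWinv).asAlgebraHom e) = S := by
      ext y
      constructor
      · rintro ⟨⟨_, z, rfl⟩, rfl⟩
        refine ⟨z, ?_⟩
        rw [LinearMap.comp_apply, LinearMap.comp_apply,
          map_asAlgebraHom W.subtype (subRep_subtype (lmulRep hM) W hWinv), lmulRep_asAlgebraHom]
        rfl
      · rintro ⟨z, rfl⟩
        refine ⟨⟨_, z, rfl⟩, ?_⟩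
        rw [LinearMap.comp_apply, LinearMap.comp_apply,
          map_asAlgebraHom W.subtype (subRep_subtype (lmulRep hM) W hWinv), lmulRep_asAlgebraHom]
        rfl
    rw [e1] at h
    exact Nat.eq_of_mul_eq_mul_right hm h
  refine ⟨m, σ, i₀, e, ⟨R.q_pos, hcomm, hpow, hblk, he, heB, htope, hσ, hσb, hση, heσ,
    fun x => ?_, ⟨N, a, b, hab⟩⟩, hdeg⟩
  have hle : Submodule.span (resField hM) (Set.range fun i : Fin q => η ^ (i : ℕ) * e) ≤ S := by
    rw [Submodule.span_le]
    rintro _ ⟨i, rfl⟩
    refine ⟨η ^ (i : ℕ), ?_⟩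
    simp only [LinearMap.comp_apply, LinearMap.mulLeft_apply, LinearMap.mulRight_apply]
    rw [← mul_assoc, ← ((hcomm e).pow_left _).eq, mul_assoc, he.eq]
  have heq := Submodule.eq_of_le_of_finrank_eq hle
    (by rw [finrank_span_eq_card hindep, hSdim, Fintype.card_fin])
  have hx : e * x * e ∈ S := ⟨x, by
    simp only [LinearMap.comp_apply, LinearMap.mulLeft_apply, LinearMap.mulRight_apply, mul_assoc]⟩
  rw [← heq] at hx
  obtain ⟨c, hc⟩ := (Submodule.mem_span_range_iff_exists_fun _).1 hx
  exact ⟨c, hc.symm⟩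

end Exists

/-! ## Consequences of the corner -/

section Use

variable {hM} {B : Set (IrrCharacter A)} {q : ℕ} {η e : KGA hM A} {m : ℕ}
  {σ : Representation (resField hM) A (Fin m → resField hM)} {i₀ : Fin m}
  (C : Corner hM B q η e σ i₀)

include C

theorem Corner.eta_pow_comm (n : ℕ) (x : KGA hM A) : Commute (η ^ n) x :=
  (C.eta_comm x).pow_left n

theorem Corner.blk_e : e * blkA hM B = e :=
  (cV_commute hM (indVec B) e).eq.symm.trans C.e_blk

theorem Corner.blk_idem : blkA hM B * blkA hM B = blkA hM B := by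
  obtain ⟨N, a, b, hab⟩ := C.full
  calc blkA hM B * blkA hM B = ∑ i, a i * e * b i * blkA hM B := by
        conv_lhs => arg 1; rw [← hab]
        rw [Finset.sum_mul]
    _ = ∑ i, a i * e * b i := by
        refine Finset.sum_congr rfl fun i _ => ?_
        rw [mul_assoc, show b i * blkA hM B = blkA hM B * b i from
          (cV_commute hM (indVec B) (b i)).eq.symm, ← mul_assoc (a i * e), mul_assoc (a i),
          C.blk_e]
    _ = _ := hab

/-- An element of the corner killing the marked vector is a multiple of the generator. -/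
theorem Corner.corner_kills {x : KGA hM A}
    (hx : σ.asAlgebraHom (e * x * e) (Pi.single i₀ 1) = 0) : ∃ y, e * x * e = η * y := by
  classical
  obtain ⟨c, hc⟩ := C.span x
  set z : Fin q := ⟨0, C.q_pos⟩
  have hne : ∀ i : Fin q, i ≠ z → ∃ l, (i : ℕ) = l + 1 := fun i hi =>
    Nat.exists_eq_succ_of_ne_zero fun h => hi (Fin.ext h)
  have hv : σ.asAlgebraHom e (Pi.single i₀ (1 : resField hM)) = Pi.single i₀ 1 := by
    rw [C.sigma_e]; simp
  have h0 : c z = 0 := by
    rw [hc, map_sum, LinearMap.sum_apply, Finset.sum_eq_single z (fun i _ hi => ?_) (by simp),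
      map_smul, LinearMap.smul_apply, map_mul, map_pow, pow_zero, one_mul, hv] at hx
    · simpa using congrFun hx i₀
    · obtain ⟨l, hl⟩ := hne i hi
      rw [map_smul, map_mul, map_pow, C.sigma_eta, hl, pow_succ, mul_zero, zero_mul, smul_zero,
        LinearMap.zero_apply]
  refine ⟨∑ i : Fin q, c i • (η ^ ((i : ℕ) - 1) * e), ?_⟩
  rw [hc, Finset.mul_sum]
  refine Finset.sum_congr rfl fun i _ => ?_
  rcases eq_or_ne i z with rfl | hi
  · rw [h0, zero_smul, zero_smul, mul_zero]
  · obtain ⟨l, hl⟩ := hne i hi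
    rw [mul_smul_comm, ← mul_assoc, ← pow_succ', hl, Nat.add_sub_cancel]

/-- An element killing the simple module is a multiple of the generator on the block. -/
theorem Corner.kills_simple {c : KGA hM A} (hc : σ.asAlgebraHom c = 0) :
    ∃ y, c * blkA hM B = η * y := by
  classical
  obtain ⟨N, a, b, hab⟩ := C.full
  have h : ∀ i j : Fin N, ∃ y, e * (b i * c * a j) * e = η * y := fun i j => C.corner_kills (by
    rw [map_mul, map_mul σ.asAlgebraHom e, map_mul σ.asAlgebraHom, map_mul σ.asAlgebraHom, hc]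
    simp)
  choose y hy using h
  refine ⟨∑ i, ∑ j, a i * y i j * b j, ?_⟩
  calc c * blkA hM B = blkA hM B * c * blkA hM B := by
        have h1 : blkA hM B * c = c * blkA hM B := (cV_commute hM (indVec B) c).eq
        have h2 := C.blk_idem
        rw [h1, mul_assoc, h2]
    _ = ∑ i, ∑ j, a i * (e * (b i * c * a j) * e) * b j := by
        rw [← hab]
        simp only [Finset.sum_mul, Finset.mul_sum]
        rw [Finset.sum_comm]
        exact Finset.sum_congr rfl fun i _ => Finset.sum_congr rfl fun j _ => by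
          simp only [mul_assoc]
    _ = η * ∑ i, ∑ j, a i * y i j * b j := by
        simp only [Finset.mul_sum]
        refine Finset.sum_congr rfl fun i _ => Finset.sum_congr rfl fun j _ => ?_
        rw [hy, ← mul_assoc (a i) η, ← (C.eta_comm (a i)).eq]
        simp only [mul_assoc]

variable {X : Type v} [AddCommGroup X] [Module (resField hM) X]
  (ρ : Representation (resField hM) A X)

/-- The socle layer `j` of a module at the block. -/
noncomputable def cLayer (ρ : Representation (resField hM) A X) (B : Set (IrrCharacter A)) (η : KGA hM A)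
    (j : ℕ) : Submodule (resField hM) X :=
  LinearMap.ker (ρ.asAlgebraHom η) ⊓ LinearMap.range (ρ.asAlgebraHom (η ^ j * blkA hM B))

theorem Corner.act_blk {x : X} {j : ℕ} (hx : x ∈ cLayer ρ B η j) :
    ρ.asAlgebraHom (blkA hM B) x = x := by
  obtain ⟨-, w, rfl⟩ := hx
  have h2 := C.blk_idem
  rw [← Module.End.mul_apply, ← map_mul, ← mul_assoc]
  congr 2
  rw [← (C.eta_pow_comm j (blkA hM B)).eq, mul_assoc, h2]

theorem Corner.cLayer_mono {i j : ℕ} (h : i ≤ j) : cLayer ρ B η j ≤ cLayer ρ B η i := by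
  rintro x ⟨hx, w, rfl⟩
  refine ⟨hx, ρ.asAlgebraHom (η ^ (j - i)) w, ?_⟩
  rw [← Module.End.mul_apply, ← map_mul, mul_assoc,
    show blkA hM B * η ^ (j - i) = η ^ (j - i) * blkA hM B from
      (C.eta_pow_comm _ _).eq.symm, ← mul_assoc, ← pow_add, Nat.add_sub_cancel' h]

theorem Corner.cLayer_zero_of_ge {j : ℕ} (h : q ≤ j) : cLayer ρ B η j = ⊥ := by
  rw [eq_bot_iff]
  rintro x ⟨-, w, rfl⟩
  rw [pow_eq_zero_of_le h C.eta_pow, zero_mul, map_zero, LinearMap.zero_apply]
  exact zero_mem _

theorem Corner.cLayer_stable {j : ℕ} {x : X} (hx : x ∈ cLayer ρ B η j) (c : KGA hM A) :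
    ρ.asAlgebraHom c x ∈ cLayer ρ B η j := by
  obtain ⟨hk, w, hw⟩ := hx
  refine ⟨?_, ρ.asAlgebraHom c w, ?_⟩
  · replace hk := LinearMap.mem_ker.1 hk
    show ρ.asAlgebraHom η (ρ.asAlgebraHom c x) = 0
    rw [← Module.End.mul_apply, ← map_mul, (C.eta_comm c).eq, map_mul, Module.End.mul_apply, hk,
      map_zero]
  · rw [← hw, ← Module.End.mul_apply, ← map_mul, ← Module.End.mul_apply, ← map_mul, mul_assoc,
      ← mul_assoc c]
    rw [show blkA hM B * c = c * blkA hM B from (cV_commute hM (indVec B) c).eq,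
      ← mul_assoc, (C.eta_pow_comm j c).eq]

/-- An element killing the simple module kills the socle. -/
theorem Corner.kills_socle {c : KGA hM A} (hc : σ.asAlgebraHom c = 0) {x : X}
    (hx : x ∈ cLayer ρ B η 0) : ρ.asAlgebraHom c x = 0 := by
  obtain ⟨y, hy⟩ := C.kills_simple hc
  rw [← C.act_blk ρ hx, ← Module.End.mul_apply, ← map_mul, hy, (C.eta_comm y).eq, map_mul,
    Module.End.mul_apply, LinearMap.mem_ker.1 hx.1, map_zero]

/-- An element killing the marked vector kills the marked part of the socle. -/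
theorem Corner.kills_marked {c : KGA hM A} (hc : σ.asAlgebraHom c (Pi.single i₀ 1) = 0) {x : X}
    (hx : x ∈ cLayer ρ B η 0) (hex : ρ.asAlgebraHom e x = x) : ρ.asAlgebraHom c x = 0 := by
  obtain ⟨N, a, b, hab⟩ := C.full
  rw [← C.act_blk ρ (C.cLayer_stable ρ hx c), ← hab, map_sum, LinearMap.sum_apply]
  refine Finset.sum_eq_zero fun i _ => ?_
  obtain ⟨y, hy⟩ := C.corner_kills (x := b i * c) (by
    rw [map_mul, map_mul σ.asAlgebraHom e, map_mul σ.asAlgebraHom (b i)]
    simp only [Module.End.mul_apply]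
    rw [C.sigma_e]
    simp [hc])
  conv_lhs => rw [← hex]
  rw [← Module.End.mul_apply, ← map_mul, ← Module.End.mul_apply, ← map_mul,
    show a i * e * b i * c * e = a i * (e * (b i * c) * e) by simp only [mul_assoc], hy,
    ← mul_assoc, ← (C.eta_comm (a i)).eq, mul_assoc, (C.eta_comm (a i * y)).eq, map_mul,
    Module.End.mul_apply, LinearMap.mem_ker.1 hx.1, map_zero]

/-- The traces from the identity land in the top layer. -/
theorem Corner.trace_mem_top [FiniteDimensional (resField hM) X] {y : X}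
    (hη : ρ.asAlgebraHom η y = 0) (hey : ρ.asAlgebraHom e y = y)
    (Ψ : Module.End (resField hM) X) :
    ∑ g : A, ρ g (Ψ (ρ g⁻¹ y)) ∈
      LinearMap.range (ρ.asAlgebraHom (η ^ (q - 1) * blkA hM B)) := by
  classical
  set bas := Module.finBasis (resField hM) X
  set Y : Fin (finrank (resField hM) X) → KGA hM A := fun l =>
    MonoidAlgebra.ofCoeff (Finsupp.equivFunOnFinite.symm fun g => bas.coord l (ρ g⁻¹ y)) with hY
  have hc : ∀ l g, (Y l).coeff g = bas.coord l (ρ g⁻¹ y) := fun l g => rfl
  have hmul : ∀ (c : KGA hM A) l g,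
      (c * Y l).coeff g = bas.coord l (ρ g⁻¹ (ρ.asAlgebraHom c y)) := by
    intro c l g
    induction c using MonoidAlgebra.induction_on with
    | of h =>
      rw [MonoidAlgebra.of_apply, coeff_single_mul', hc, Representation.asAlgebraHom_single_one,
        mul_inv_rev, inv_inv, map_mul, Module.End.mul_apply]
    | add f g' hf hg =>
      rw [add_mul, map_add, LinearMap.add_apply, map_add, map_add]
      exact congrArg₂ (· + ·) hf hg
    | smul r f hf =>
      rw [smul_mul_assoc, map_smul, LinearMap.smul_apply, map_smul, map_smul]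
      exact congrArg (r • ·) hf
  have hYη : ∀ l, η * Y l = 0 := fun l => MonoidAlgebra.ext (Finsupp.ext fun g => by
    rw [hmul, hη, map_zero, map_zero]; rfl)
  have hYe : ∀ l, e * Y l = Y l := fun l => MonoidAlgebra.ext (Finsupp.ext fun g => by
    rw [hmul, hey, hc])
  obtain ⟨N, a, b, hab⟩ := C.full
  have hex : ∀ l, ∃ Z, Y l = η ^ (q - 1) * blkA hM B * Z := by
    intro l
    have hco : ∀ i, ∃ c : resField hM, e * (Y l * a i) * e = c • (η ^ (q - 1) * e) := by
      intro i
      obtain ⟨c, hcs⟩ := C.span (Y l * a i)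
      have h0 : η * (e * (Y l * a i) * e) = 0 := by
        rw [← mul_assoc, ← mul_assoc, (C.eta_comm e).eq, mul_assoc e, ← mul_assoc η, hYη,
          zero_mul, mul_zero, zero_mul]
      have hz : ∀ t : ℕ, ∀ j : Fin q, (j : ℕ) = t → t < q - 1 → c j = 0 := by
        intro t
        induction t using Nat.strong_induction_on with
        | _ t ih =>
          intro j hj ht
          have h1 := congrArg (fun x => η ^ (q - 2 - t) * x) h0
          rw [hcs] at h1
          simp only [mul_zero, Finset.mul_sum, mul_smul_comm, ← mul_assoc, ← pow_succ,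
            ← pow_add] at h1
          rw [Finset.sum_eq_single j (fun i _ hi => ?_) (by simp)] at h1
          · rw [hj, show q - 2 - t + 1 + t = q - 1 by omega] at h1
            exact (smul_eq_zero.1 h1).resolve_right C.eta_top
          · rcases lt_or_gt_of_ne hi with hlt | hgt
            · rw [ih (i : ℕ) (hj ▸ hlt) i rfl (by rw [Fin.lt_def] at hlt; omega), zero_smul]
            · rw [Fin.lt_def] at hgt
              rw [pow_eq_zero_of_le (show q ≤ q - 2 - t + 1 + (i : ℕ) by omega) C.eta_pow,
                zero_mul, smul_zero]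
      have hq := C.q_pos
      refine ⟨c ⟨q - 1, by omega⟩, ?_⟩
      rw [hcs, Finset.sum_eq_single (⟨q - 1, by omega⟩ : Fin q) (fun i _ hi => ?_) (by simp)]
      have : (i : ℕ) ≠ q - 1 := fun h => hi (Fin.ext h)
      rw [hz _ i rfl (by omega), zero_smul]
    choose c hc' using hco
    refine ⟨∑ i, c i • (e * b i), ?_⟩
    have hB : Y l * blkA hM B = Y l := by
      conv_lhs => rw [← hYe l]
      rw [mul_assoc, show Y l * blkA hM B = blkA hM B * Y l from
        (cV_commute hM (indVec B) (Y l)).eq.symm, ← mul_assoc, C.blk_e, hYe]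
    calc Y l = ∑ i, e * (Y l * a i) * e * b i := by
          conv_lhs => rw [← hB, ← hab, ← hYe l, Finset.mul_sum]
          exact Finset.sum_congr rfl fun i _ => by simp only [mul_assoc]
      _ = _ := by
          rw [Finset.mul_sum]
          refine Finset.sum_congr rfl fun i _ => ?_
          rw [hc' i, smul_mul_assoc, mul_smul_comm, mul_assoc (η ^ (q - 1)) (blkA hM B),
            ← mul_assoc (blkA hM B), C.e_blk, ← mul_assoc]
  choose Z hZ using hex
  refine ⟨∑ l, ρ.asAlgebraHom (Z l) (Ψ (bas l)), ?_⟩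
  rw [map_sum]
  calc ∑ l, ρ.asAlgebraHom (η ^ (q - 1) * blkA hM B) (ρ.asAlgebraHom (Z l) (Ψ (bas l))) =
      ∑ l, ρ.asAlgebraHom (Y l) (Ψ (bas l)) := by
        refine Finset.sum_congr rfl fun l _ => ?_
        rw [← Module.End.mul_apply, ← map_mul, ← hZ]
    _ = ∑ l, ∑ g : A, bas.coord l (ρ g⁻¹ y) • ρ g (Ψ (bas l)) := by
        refine Finset.sum_congr rfl fun l _ => ?_
        rw [← MonoidAlgebra.sum_coeff_single (Y l), Finsupp.sum_fintype _ _ (fun g => by simp),
          map_sum, LinearMap.sum_apply]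
        refine Finset.sum_congr rfl fun g _ => ?_
        rw [Representation.asAlgebraHom_single, hc]
        rfl
    _ = _ := by
        rw [Finset.sum_comm]
        refine Finset.sum_congr rfl fun g _ => ?_
        conv_rhs => rw [← bas.sum_repr (ρ g⁻¹ y), map_sum, map_sum]
        exact Finset.sum_congr rfl fun l _ => by rw [map_smul, map_smul]; rfl

/-- A linear map on the marked part of a layer extends to an endomorphism of the block. -/
theorem Corner.exists_extend (j : ℕ) (Φ : Module.End (resField hM) X)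
    (hj : ∀ y ∈ cLayer ρ B η j, ρ.asAlgebraHom e y = y →
      Φ y ∈ cLayer ρ B η j ∧ ρ.asAlgebraHom e (Φ y) = Φ y)
    (hj1 : ∀ y ∈ cLayer ρ B η (j + 1), ρ.asAlgebraHom e y = y → Φ y ∈ cLayer ρ B η (j + 1)) :
    ∃ F : Module.End (resField hM) X, (∀ g, Commute F (ρ g)) ∧
      F * ρ.asAlgebraHom (blkA hM B) = F ∧
      (∀ x ∈ cLayer ρ B η 0, F x ∈ cLayer ρ B η j) ∧
      (∀ x ∈ cLayer ρ B η (j + 1), F x = 0) ∧
      ∀ y ∈ cLayer ρ B η j, ρ.asAlgebraHom e y = y → F y - Φ y ∈ cLayer ρ B η (j + 1) := by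
  classical
  obtain ⟨N, a, b, hab⟩ := C.full
  set T := ρ.asAlgebraHom with hT
  set Y := LinearMap.range (T e) with hY
  have hTe : ∀ x, T e (T e x) = T e x := fun x => by
    rw [← Module.End.mul_apply, ← map_mul, C.e_idem.eq]
  have hYmem : ∀ {x}, x ∈ Y ↔ T e x = x :=
    fun {x} => ⟨fun ⟨w, hw⟩ => by rw [← hw, hTe], fun h => ⟨x, h⟩⟩
  have hηY : ∀ x ∈ Y, T η x ∈ Y := fun x hx => hYmem.2 (by
    rw [← Module.End.mul_apply, ← map_mul, ← (C.eta_comm e).eq, map_mul, Module.End.mul_apply,
      hYmem.1 hx])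
  set n : Module.End (resField hM) Y := (T η).restrict hηY with hn
  have hnpow : ∀ (i : ℕ) (y : Y), (((n ^ i) y : Y) : X) = T (η ^ i) y := by
    intro i
    induction i with
    | zero => intro y; simp
    | succ i ih =>
      intro y
      rw [pow_succ' n, Module.End.mul_apply, pow_succ' η, map_mul, Module.End.mul_apply, ← ih]
      rfl
  have hnil : IsNilpotent n := ⟨q, LinearMap.ext fun y => Subtype.ext (by
    rw [hnpow, C.eta_pow, map_zero]; rfl)⟩
  obtain ⟨t, ht⟩ : ∃ t : (Module.End (resField hM) Y)ˣ, (t : Module.End (resField hM) Y) = 1 + n :=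
    ⟨(hnil.isUnit_one_add).unit, rfl⟩
  set ρ' : Representation (resField hM) (Module.End (resField hM) Y)ˣ Y :=
    Units.coeHom (Module.End (resField hM) Y) with hρ'
  have hshift : shiftOp ρ' t = n := by
    rw [shiftOp]
    show (t : Module.End (resField hM) Y) - 1 = n
    rw [ht, add_sub_cancel_left]
  have hlay : ∀ (i : ℕ) (y : Y),
      y ∈ layerSub ρ' t i ↔ (y : X) ∈ cLayer ρ B η i := by
    intro i y
    rw [layerSub, hshift, Submodule.mem_inf, cLayer, Submodule.mem_inf, LinearMap.mem_ker,
      LinearMap.mem_ker, ← hT]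
    refine and_congr (by rw [← Submodule.coe_eq_zero]; rfl) ?_
    constructor
    · rintro ⟨w, rfl⟩
      refine ⟨w, ?_⟩
      rw [hnpow]
      conv_lhs => rw [← hYmem.1 w.2]
      conv_rhs => rw [← hYmem.1 w.2]
      rw [← Module.End.mul_apply, ← map_mul, ← Module.End.mul_apply, ← map_mul, mul_assoc,
        C.e_blk]
    · rintro ⟨w, hw⟩
      refine ⟨⟨T e w, ⟨w, rfl⟩⟩, Subtype.ext ?_⟩
      rw [hnpow, ← hYmem.1 y.2, ← hw, ← Module.End.mul_apply, ← map_mul, ← Module.End.mul_apply,
        ← map_mul, ← mul_assoc e, ← (C.eta_pow_comm i e).eq, mul_assoc, C.blk_e]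
  set Φ' : Module.End (resField hM) Y :=
    LinearMap.codRestrict Y (T e ∘ₗ Φ ∘ₗ Y.subtype) (fun y => ⟨_, rfl⟩) with hΦ'
  have hΦval : ∀ (i : ℕ) (y : Y), (y : X) ∈ cLayer ρ B η i → i = j ∨ i = j + 1 →
      ((Φ' y : Y) : X) = Φ y := by
    intro i y hy hij
    have hy' : (y : X) ∈ cLayer ρ B η j := by
      rcases hij with h | h
      · exact h ▸ hy
      · exact C.cLayer_mono ρ (by omega) hy
    exact (hj _ hy' (hYmem.1 y.2)).2
  obtain ⟨F₀, hF₀c, hF₀k, hF₀z, hF₀h⟩ := exists_extension ρ' t j Φ'
    (fun y hy => by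
      rw [hlay] at hy ⊢
      rw [hΦval j y hy (Or.inl rfl)]
      exact (hj _ hy (hYmem.1 y.2)).1)
    (fun y hy => by
      rw [hlay] at hy ⊢
      rw [hΦval (j + 1) y hy (Or.inr rfl)]
      exact hj1 _ hy (hYmem.1 y.2))
  have hF₀n : Commute n F₀ := by
    have h : Commute (1 + n) F₀ := ht ▸ hF₀c
    simpa using h.sub_left (Commute.one_left F₀)
  set F₁ : Module.End (resField hM) X :=
    Y.subtype ∘ₗ F₀ ∘ₗ LinearMap.codRestrict Y (T e) (fun x => ⟨x, rfl⟩) with hF₁
  have hF₁Y : ∀ y : Y, F₁ y = (F₀ y : X) := fun y => by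
    simp only [hF₁, LinearMap.comp_apply, Submodule.subtype_apply]
    congr 2
    exact Subtype.ext (hYmem.1 y.2)
  have hF₁e : ∀ x, F₁ (T e x) = F₁ x := fun x => by
    simp only [hF₁, LinearMap.comp_apply, Submodule.subtype_apply]
    congr 2
    exact Subtype.ext (hTe x)
  have hF₁mem : ∀ x, T e (F₁ x) = F₁ x := fun x => hYmem.1 (SetLike.coe_mem _)
  have hcorner : ∀ (u : KGA hM A) (x : X), F₁ (T (e * u * e) x) = T (e * u * e) (F₁ x) := by
    intro u x
    obtain ⟨c, hc⟩ := C.span u
    have hpow : ∀ (i : ℕ) (x : X), F₁ (T (η ^ i * e) x) = T (η ^ i * e) (F₁ x) := by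
      intro i x
      rw [map_mul, Module.End.mul_apply, Module.End.mul_apply, hF₁mem, ← hF₁e x]
      have h1 := hnpow i ⟨T e x, ⟨x, rfl⟩⟩
      rw [← h1, hF₁Y, hF₁Y ⟨T e x, ⟨x, rfl⟩⟩]
      have h2 := LinearMap.congr_fun (hF₀n.pow_left i).eq ⟨T e x, ⟨x, rfl⟩⟩
      simp only [Module.End.mul_apply] at h2
      rw [← h2, hnpow]
    simp only [hc, map_sum, map_smul, LinearMap.sum_apply, LinearMap.smul_apply, hpow]
  set F : Module.End (resField hM) X := ∑ i, T (a i) * F₁ * T (e * b i) with hF
  have hFx : ∀ x, F x = ∑ i, T (a i) (F₁ (T (e * b i) x)) := fun x => by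
    simp [hF, LinearMap.sum_apply]
  have hB : ∀ u, e * u * blkA hM B = e * u := fun u => by
    rw [mul_assoc, show u * blkA hM B = blkA hM B * u from (cV_commute hM (indVec B) u).eq.symm,
      ← mul_assoc, C.blk_e]
  have hFc : ∀ c : KGA hM A, ∀ x, F (T c x) = T c (F x) := by
    intro c x
    have h1 : ∀ i, T (e * b i) (T c x) =
        ∑ l, T (e * (b i * c * a l) * e) (T (e * b l) x) := by
      intro i
      simp only [← Module.End.mul_apply, ← map_mul]
      rw [← LinearMap.sum_apply, ← map_sum]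
      congr 2
      calc e * b i * c = e * (b i * c) * blkA hM B := by rw [hB, mul_assoc]
        _ = _ := by
          rw [← hab, Finset.mul_sum]
          refine Finset.sum_congr rfl fun l _ => ?_
          calc e * (b i * c) * (a l * e * b l) = e * (b i * c * a l) * e * b l := by
                simp only [mul_assoc]
            _ = e * (b i * c * a l) * (e * e) * b l := by rw [C.e_idem.eq]
            _ = _ := by simp only [mul_assoc]
    rw [hFx, hFx, map_sum]
    simp only [h1, map_sum, hcorner]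
    rw [Finset.sum_comm]
    refine Finset.sum_congr rfl fun l _ => ?_
    set z := F₁ (T (e * b l) x) with hz
    have hzB : T (blkA hM B) (T (c * a l) z) = T (c * a l) z := by
      conv_lhs => rw [show z = T e z from (hF₁mem _).symm]
      conv_rhs => rw [show z = T e z from (hF₁mem _).symm]
      simp only [← Module.End.mul_apply, ← map_mul]
      rw [← mul_assoc (blkA hM B), show blkA hM B * (c * a l) = c * a l * blkA hM B from
        (cV_commute hM (indVec B) (c * a l)).eq, mul_assoc _ _ e, C.e_blk]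
    rw [← Module.End.mul_apply (T c), ← map_mul, ← hzB, ← hab, map_sum, LinearMap.sum_apply]
    refine Finset.sum_congr rfl fun i _ => ?_
    conv_rhs => rw [show z = T e z from (hF₁mem _).symm]
    simp only [← Module.End.mul_apply, ← map_mul]
    congr 2
    simp only [mul_assoc]
  have hFB : F * T (blkA hM B) = F := LinearMap.ext fun x => by
    rw [Module.End.mul_apply, hFx, hFx]
    refine Finset.sum_congr rfl fun i _ => ?_
    rw [← Module.End.mul_apply (T (e * b i)), ← map_mul, hB]
  have hFY : ∀ x, T e x = x → F x = F₁ x := by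
    intro x hx
    rw [hFx]
    have h1 : ∀ i, F₁ (T (e * b i) x) = T (e * b i) (F₁ x) := fun i => by
      have h2 : T (e * b i) x = T (e * b i * e) x := by
        rw [map_mul T (e * b i) e, Module.End.mul_apply, hx]
      rw [h2, hcorner, map_mul T (e * b i) e, Module.End.mul_apply, hF₁mem]
    simp only [h1, ← Module.End.mul_apply, ← map_mul, ← mul_assoc]
    rw [← LinearMap.sum_apply, ← Finset.sum_mul, ← map_sum, hab, Module.End.mul_apply]
    conv_lhs => rw [← hF₁mem x]
    rw [← Module.End.mul_apply, ← map_mul, C.e_blk, hF₁mem]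
  have hdec : ∀ {i : ℕ} {x : X}, x ∈ cLayer ρ B η i → ∀ l,
      T (e * b l) x ∈ cLayer ρ B η i ∧ T e (T (e * b l) x) = T (e * b l) x := fun hx l =>
    ⟨C.cLayer_stable ρ hx _, by rw [← Module.End.mul_apply, ← map_mul, ← mul_assoc, C.e_idem.eq]⟩
  refine ⟨F, fun g => LinearMap.ext fun x => ?_, hFB, fun x hx => ?_, fun x hx => ?_,
    fun y hy hey => ?_⟩
  · rw [Module.End.mul_apply, Module.End.mul_apply, ← Representation.asAlgebraHom_single_one,
      ← hT, hFc]
  · rw [hFx]
    refine Submodule.sum_mem _ fun l _ => C.cLayer_stable ρ ?_ _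
    obtain ⟨h1, h2⟩ := hdec hx l
    rw [hF₁Y ⟨_, hYmem.2 h2⟩]
    rw [← hlay]
    refine hF₀k _ ?_
    rw [hshift, LinearMap.mem_ker]
    exact Subtype.ext h1.1
  · rw [hFx]
    refine Finset.sum_eq_zero fun l _ => ?_
    obtain ⟨h1, h2⟩ := hdec hx l
    rw [hF₁Y ⟨_, hYmem.2 h2⟩, hF₀z _ ((hlay _ _).2 h1)]
    simp
  · have h := hF₀h ⟨y, hYmem.2 hey⟩ ((hlay _ _).2 hy)
    rw [hlay] at h
    rw [hFY y hey, hF₁Y ⟨y, hYmem.2 hey⟩]
    rw [← hΦval j ⟨y, hYmem.2 hey⟩ hy (Or.inl rfl)]
    exact h

end Use

end Cfsg.Lib.Block
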