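import Cfsg.Agent.Lib.Block.DefectApps
import Cfsg.Agent.Lib.Block.Vanish

/-!
# Brauer's second main theorem

For a block `b` of a subgroup `H` inducing `B` and an element `h` of `H` whose `p`-part has
centralizer inside `H`, the `b`-section of a character outside `B` at `h` vanishes.
-/

set_option autoImplicit false
set_option linter.unusedSectionVars false

namespace Cfsg.Lib.Block

open Cfsg
open scoped ComplexConjugate

universe u

variable {p : ℕ} {M : Ideal AlgInt} {G : Type u} [Group G] [Fintype G] [Fact p.Prime]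
  (hM : IsPModular p M)

include hM in
open Classical in
/-- Modulo `M`, coefficients of a product on a centralizer only see that centralizer. -/
theorem res_zc_mul_centralizer (U : Subgroup G) (hU : IsPGroup p U) {v w : IrrCharacter G → ℂ}
    (hv : VInt hM v) (hw : VInt hM w) {c : G} (hc : c ∈ Subgroup.centralizer (U : Set G)) :
    res hM (zc (v * w) c) = ∑ x ∈ Finset.univ.filter
      (fun x => x ∈ Subgroup.centralizer (U : Set G)), res hM (zc v x * zc w (x⁻¹ * c)) := by
  rw [zc_mul]
  refine res_sum_centralizer hM U hU _ (fun x => mul_mem (hv _) (hw _)) fun s hs x => ?_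
  have hsc : s * c * s⁻¹ = c := by
    rw [Subgroup.mem_centralizer_iff.1 hc s hs, mul_inv_cancel_right]
  rw [zc_conj_invariant v x s,
    show (s * x * s⁻¹)⁻¹ * c = s * (x⁻¹ * c) * s⁻¹ by
      conv_lhs => rw [← hsc]
      group,
    zc_conj_invariant w _ s]

include hM in
/-- An element with all values small that is idempotent modulo `M` on the centralizer of a
`p`-subgroup has small coefficients there. -/
theorem zc_mem_ideal_of_idem_centralizer {U : Subgroup G} (hU : IsPGroup p U)
    {v : IrrCharacter G → ℂ} (hv : VInt hM v)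
    (hidem : ∀ c ∈ Subgroup.centralizer (U : Set G), MemLocalIdeal M (zc (v * v - v) c))
    (hval : ∀ χ, MemLocalIdeal M (v χ)) {c : G} (hc : c ∈ Subgroup.centralizer (U : Set G)) :
    MemLocalIdeal M (zc v c) := by
  classical
  haveI := Fintype.ofFinite (Subgroup.centralizer (U : Set G))
  have hHN : Subgroup.centralizer (U : Set G) ≤ Subgroup.normalizer (U : Set G) :=
    Subgroup.centralizer_le_normalizer _
  have hb := vInt_brVec hM hHN hv
  have h1 : VSmall M (brVec U (Subgroup.centralizer (U : Set G)) (v * v) -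
      brVec U (Subgroup.centralizer (U : Set G)) v) := fun h => by
    rw [← brVec_sub, zc_brVec hHN, brF_of_mem h.2]
    exact hidem h h.2
  have h2 := vSmall_brVec_mul hM hU le_rfl hHN hv hv
  have h3 := vSmall_sub hM h1 h2
  rw [sub_sub_sub_cancel_left] at h3
  have h4 := vSmall_of_idem hM hb h3 (fun ξ => by
    obtain ⟨χ, hχ⟩ := exists_char_brauer hM hU le_rfl hHN ξ
    rw [← res_eq_zero_iff hM (apply_mem_locRing hM hb ξ), hχ v hv,
      res_eq_zero_iff hM (apply_mem_locRing hM hv χ)]
    exact hval χ) ⟨c, hc⟩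
  rwa [zc_brVec hHN, brF_of_mem (h := ⟨c, hc⟩) hc] at h4

variable {H : Subgroup G} [Fintype H]

include hM in
/-- The mixed idempotent of a local block and a foreign block is small on the centralizer. -/
theorem sum_coeff_mul_mem_ideal {b : Set (IrrCharacter H)} {B B' : Set (IrrCharacter G)}
    (hind : IsInducedBlock M H b B) (hB' : IsPBlock M B') (hne : B' ≠ B) {U : Subgroup H}
    (hU : IsPGroup p U)
    (hC : Subgroup.centralizer ((U.map H.subtype : Subgroup G) : Set G) ≤ H) {c : H}
    (hc : c ∈ Subgroup.centralizer (U : Set H)) :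
    MemLocalIdeal M (∑ k : H, blockCoeff b k * blockCoeff B' ((k : G)⁻¹ * (c : G))) := by
  classical
  set w : IrrCharacter H → ℂ := vec (fun h : H => zc (indVec B') h) with hwdef
  have hcl : IsClassFunction H (fun h : H => zc (indVec B') h) := fun h k =>
    zc_conj_invariant (indVec B') (h : G) (k : G)
  have hzw : ∀ k : H, zc w k = zc (indVec B') k := fun k => zc_vec hcl k
  have hI := vInt_indVec hM hB'
  have hb := vInt_indVec hM hind.1
  have hw : VInt hM w := fun k => hzw k ▸ hI _
  have hUG : IsPGroup p (U.map H.subtype : Subgroup G) := hU.map _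
  have hmemC : ∀ x : H, (x : G) ∈ Subgroup.centralizer ((U.map H.subtype : Subgroup G) : Set G) ↔
      x ∈ Subgroup.centralizer (U : Set H) := by
    intro x
    simp only [Subgroup.mem_centralizer_iff, Subgroup.coe_map, Set.forall_mem_image]
    exact forall₂_congr fun a _ => ⟨fun h => Subtype.ext h, fun h => congrArg Subtype.val h⟩
  have hGG : indVec B' * indVec B' = indVec B' := funext fun χ => by
    simp only [Pi.mul_apply, indVec]; split_ifs <;> simp
  have hwidem : ∀ d ∈ Subgroup.centralizer (U : Set H), MemLocalIdeal M (zc (w * w - w) d) := by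
    intro d hd
    rw [zc_sub, ← res_eq_iff hM (vInt_mul hM hw hw d) (hw d),
      res_zc_mul_centralizer hM U hU hw hw hd, hzw, ← hGG,
      res_zc_mul_centralizer hM _ hUG hI hI ((hmemC d).2 hd)]
    refine Finset.sum_bij (fun x _ => (x : G)) ?_ ?_ ?_ ?_
    · intro x hx
      rw [Finset.mem_filter] at hx ⊢
      exact ⟨Finset.mem_univ _, (hmemC x).2 hx.2⟩
    · exact fun _ _ _ _ h => Subtype.ext h
    · intro y hy
      rw [Finset.mem_filter] at hy
      exact ⟨⟨y, hC hy.2⟩, Finset.mem_filter.2 ⟨Finset.mem_univ _, (hmemC ⟨y, hC hy.2⟩).1 hy.2⟩,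
        rfl⟩
    · intro x _
      rw [hzw, hzw]
      simp
  have hidem : ∀ d ∈ Subgroup.centralizer (U : Set H),
      MemLocalIdeal M (zc (indVec b * w * (indVec b * w) - indVec b * w) d) := by
    intro d hd
    have hbb : indVec b * indVec b = indVec b := funext fun χ => by
      simp only [Pi.mul_apply, indVec]; split_ifs <;> simp
    have hwint : VInt hM (w * w - w) := vInt_sub hM (vInt_mul hM hw hw) hw
    rw [mul_mul_mul_comm, hbb, ← mul_sub,
      ← res_eq_zero_iff hM (vInt_mul hM hb hwint d), res_zc_mul_centralizer hM U hU hb hwint hd]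
    refine Finset.sum_eq_zero fun x hx => ?_
    rw [res_mul hM (hb _) (hwint _), (res_eq_zero_iff hM (hwint _)).2
      (hwidem _ (mul_mem (inv_mem (Finset.mem_filter.1 hx).2) hd)), mul_zero]
  have hval : ∀ ξ, MemLocalIdeal M ((indVec b * w) ξ) := by
    intro ξ
    by_cases hξ : ξ ∈ b
    · rw [Pi.mul_apply, indVec, if_pos hξ, one_mul]
      obtain ⟨χ, hχ⟩ := nonempty_of_isPBlock hM hind.2.1
      have h1 := vec_restrict_sub_mem hM hind hξ hχ hI
      rwa [indVec, if_neg fun h => hne (isPBlock_eq_of_mem hM hB' hind.2.1 h hχ), sub_zero] at h1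
    · rw [Pi.mul_apply, indVec, if_neg hξ, zero_mul]; exact memLocalIdeal_zero hM
  have h := zc_mem_ideal_of_idem_centralizer hM hU (vInt_mul hM hb hw) hidem hval hc
  rw [zc_mul] at h
  simpa [hzw, zc_indVec] using h

include hM in
/-- The second main theorem, idempotent form. -/
theorem sum_blockCoeff_mul_char_eq_zero {b : Set (IrrCharacter H)} {B : Set (IrrCharacter G)}
    (hind : IsInducedBlock M H b B) {h : H}
    (hC : Subgroup.centralizer ({pPt p (h : G)} : Set G) ≤ H) {χ : IrrCharacter G} (hχ : χ ∉ B) :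
    ∑ k : H, blockCoeff b k * (χ : G → ℂ) ((k : G) * (h : G)) = 0 := by
  classical
  set B' := blockOf M (χ : G → ℂ) with hB'def
  have hB' : IsPBlock M B' := isPBlock_blockOf χ
  have hχ' : χ ∈ B' := self_mem_blockOf hM χ
  have hne : B' ≠ B := fun he => hχ (he ▸ hχ')
  set U : Subgroup H := Subgroup.zpowers (pPt p h) with hUdef
  have hU : IsPGroup p U := by
    obtain ⟨j, hj⟩ := exists_orderOf_pPt (p := p) h
    exact IsPGroup.of_card (by rw [Nat.card_zpowers, hj])
  have hCU : Subgroup.centralizer ((U.map H.subtype : Subgroup G) : Set G) ≤ H := by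
    refine le_trans (Subgroup.centralizer_le ?_) hC
    rintro _ rfl
    exact ⟨pPt p h, Subgroup.mem_zpowers _, coe_pPt h⟩
  let f : G → ℂ := fun g => ∑ k : H, blockCoeff b k * blockCoeff B' ((k : G)⁻¹ * g)
  have hfint : ∀ g, f g ∈ locRing hM := fun g => sum_mem fun k _ =>
    mul_mem (blockCoeff_mem_locRing hM hind.1 k) (blockCoeff_mem_locRing hM hB' _)
  have hfidem : ∀ g, ∑ x, f x * f (x⁻¹ * g) = f g := by
    intro g
    simp only [f, Finset.sum_mul_sum]
    calc ∑ x : G, ∑ k : H, ∑ l : H, blockCoeff b k * blockCoeff B' ((k : G)⁻¹ * x) *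
          (blockCoeff b l * blockCoeff B' ((l : G)⁻¹ * (x⁻¹ * g)))
        = ∑ k : H, ∑ l : H, blockCoeff b k * blockCoeff b l *
            ∑ x : G, blockCoeff B' x * blockCoeff B' (x⁻¹ * (((k : G) * (l : G))⁻¹ * g)) := by
          rw [Finset.sum_comm]
          refine Finset.sum_congr rfl fun k _ => ?_
          rw [Finset.sum_comm]
          refine Finset.sum_congr rfl fun l _ => ?_
          rw [Finset.mul_sum]
          refine Fintype.sum_equiv ((Equiv.mulLeft (k : G)⁻¹).trans
            (MulAut.conj (l : G)⁻¹).toEquiv) _ _ fun x => ?_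
          simp only [Equiv.trans_apply, Equiv.coe_mulLeft, MulEquiv.toEquiv_eq_coe,
            MulEquiv.coe_toEquiv, MulAut.conj_apply, inv_inv]
          have e1 : blockCoeff B' ((l : G)⁻¹ * ((k : G)⁻¹ * x) * (l : G)) =
              blockCoeff B' ((k : G)⁻¹ * x) := by
            have := blockCoeff_conj_invariant B' ((k : G)⁻¹ * x) (l : G)⁻¹
            rwa [inv_inv] at this
          rw [e1, show ((l : G)⁻¹ * ((k : G)⁻¹ * x) * (l : G))⁻¹ * (((k : G) * (l : G))⁻¹ * g) =
            (l : G)⁻¹ * (x⁻¹ * g) by group]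
          ring
      _ = ∑ k : H, ∑ l : H, blockCoeff b k * blockCoeff b (k⁻¹ * l) *
            blockCoeff B' ((l : G)⁻¹ * g) := by
          refine Finset.sum_congr rfl fun k _ => ?_
          refine Fintype.sum_equiv (Equiv.mulLeft k) _ _ fun l => ?_
          rw [sum_blockCoeff_mul, Equiv.coe_mulLeft, inv_mul_cancel_left, Subgroup.coe_mul]
      _ = ∑ l : H, blockCoeff b l * blockCoeff B' ((l : G)⁻¹ * g) := by
          rw [Finset.sum_comm]
          refine Finset.sum_congr rfl fun l _ => ?_
          rw [← Finset.sum_mul, sum_blockCoeff_mul]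
  have hinv : ∀ x, f ((h : G) * x * (h : G)⁻¹) = f x := by
    intro x
    simp only [f]
    refine Fintype.sum_equiv (MulAut.conj h⁻¹).toEquiv _ _ fun k => ?_
    simp only [MulEquiv.toEquiv_eq_coe, MulEquiv.coe_toEquiv, MulAut.conj_apply,
      Subgroup.coe_mul, InvMemClass.coe_inv]
    rw [blockCoeff_conj_invariant b k h⁻¹]
    congr 1
    rw [← blockCoeff_conj_invariant B' ((k : G)⁻¹ * ((h : G) * x * (h : G)⁻¹)) (h : G)⁻¹]
    congr 1
    group
  have key : ∀ w : G, ∑ ψ ∈ B'.toFinset,
      (∑ k : H, blockCoeff b k * (ψ : G → ℂ) ((k : G) * (h : G))) * (ψ : G → ℂ) w = 0 := by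
    intro w
    have hv := sum_shift_eq_zero hM f hfint hfidem (h : G) w hinv fun x y hx hy => ?_
    swap
    · have hcm : pPt p (h : G) * (x * y⁻¹) = x * y⁻¹ * pPt p (h : G) := by
        have ex : pPt p (h : G) * x = x * (pPt p w)⁻¹ := eq_mul_inv_of_mul_eq hx
        have ey : pPt p (h : G) * y = y * (pPt p w)⁻¹ := eq_mul_inv_of_mul_eq hy
        calc pPt p (h : G) * (x * y⁻¹) = pPt p (h : G) * x * y⁻¹ := by group
          _ = x * ((pPt p w)⁻¹ * y⁻¹) := by rw [ex]; group
          _ = x * (y⁻¹ * pPt p (h : G)) := by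
              congr 1
              rw [eq_inv_mul_iff_mul_eq, ← mul_assoc, ← ey, mul_inv_cancel_right]
          _ = _ := by group
      have hmem : x * y⁻¹ ∈ H := hC (Subgroup.mem_centralizer_iff.2 fun z hz => by
        rw [Set.mem_singleton_iff] at hz; subst hz; exact hcm)
      refine sum_coeff_mul_mem_ideal hM hind hB' hne hU hCU (c := ⟨x * y⁻¹, hmem⟩) ?_
      rw [hUdef]
      refine Subgroup.mem_centralizer_iff.2 fun z hz => ?_
      have h1 : Commute (⟨x * y⁻¹, hmem⟩ : H) (pPt p h) := Subtype.ext (by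
        simp only [Subgroup.coe_mul, coe_pPt]; exact hcm.symm)
      obtain ⟨n, rfl⟩ := hz
      exact (h1.zpow_right n).eq.symm
    rw [← hv]
    simp only [f]
    rw [Finset.sum_comm]
    simp only [Finset.sum_mul]
    rw [Finset.sum_comm]
    refine Finset.sum_congr rfl fun k _ => ?_
    simp only [mul_assoc, ← Finset.mul_sum]
    congr 1
    rw [← finsum_mem_eq_toFinset_sum, ← sum_blockCoeff_shift]
    refine Finset.sum_congr rfl fun x _ => ?_
    rw [← blockCoeff_conj_invariant B' _ (k : G)⁻¹]
    congr 1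
    group
  have h0 : ∑ w : G, (∑ ψ ∈ B'.toFinset,
      (∑ k : H, blockCoeff b k * (ψ : G → ℂ) ((k : G) * (h : G))) * (ψ : G → ℂ) w) *
      conj ((χ : G → ℂ) w) = 0 :=
    Finset.sum_eq_zero fun w _ => by rw [key, zero_mul]
  obtain ⟨T, hT⟩ : ∃ T : IrrCharacter G → ℂ, ∀ ψ : IrrCharacter G,
      ∑ k : H, blockCoeff b k * (ψ : G → ℂ) ((k : G) * (h : G)) = T ψ := ⟨_, fun _ => rfl⟩
  rw [hT]
  simp only [hT, Finset.sum_mul, mul_assoc] at h0
  rw [Finset.sum_comm] at h0
  simp only [← Finset.mul_sum] at h0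
  rw [Finset.sum_eq_single χ (fun ψ _ hψ => ?_) (fun hn => absurd (Set.mem_toFinset.2 hχ') hn)]
    at h0
  · have e : ∑ w, (χ : G → ℂ) w * conj ((χ : G → ℂ) w) = (Nat.card G : ℂ) := by
      have := Char.classInner_irr χ.2 χ.2
      rw [classInner, if_pos rfl, inv_mul_eq_one₀ Char.card_cast_ne_zero] at this
      exact this.symm
    rw [e, mul_eq_zero] at h0
    exact h0.resolve_right Char.card_cast_ne_zero
  · have := Char.classInner_irr ψ.2 χ.2
    rw [classInner, if_neg fun he => hψ (Subtype.ext he), mul_eq_zero] at this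
    rw [this.resolve_left (inv_ne_zero Char.card_cast_ne_zero), mul_zero]

open Classical in
/-- The component of a class function in a set of characters, as a convolution. -/
theorem blockPart_eq_sum (b : Set (IrrCharacter G)) {θ : G → ℂ} (hθ : IsClassFunction G θ)
    (y : G) : blockPart b θ y = ∑ k : G, blockCoeff b k * θ (k * y) := by
  simp only [blockPart, finsum_mem_eq_finite_toFinset_sum _ (Set.toFinite b)]
  have e : ∀ η : IrrCharacter G, ∀ k : G,
      θ (k * y) = ∑ η : IrrCharacter G, classInner θ (η : G → ℂ) * (η : G → ℂ) (k * y) := by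
    intro _ k
    have := congrFun (Char.eq_sum_classInner hθ) (k * y)
    simpa using this
  calc _ = ∑ χ ∈ (Set.toFinite b).toFinset, classInner θ (χ : G → ℂ) * (χ : G → ℂ) y := by
        refine Finset.sum_congr rfl fun χ _ => ?_
        congr 1
        simp only [classInner]
        congr 1
        exact Finset.sum_congr (by ext; simp) fun _ _ => rfl
    _ = ∑ χ ∈ (Set.toFinite b).toFinset, ∑ η : IrrCharacter G, (Nat.card G : ℂ)⁻¹ *
          ((χ : G → ℂ) 1 * classInner θ (η : G → ℂ) *
            ∑ k, (χ : G → ℂ) k⁻¹ * (η : G → ℂ) (k * y)) := by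
        refine Finset.sum_congr rfl fun χ _ => ?_
        rw [Finset.sum_eq_single χ]
        · rw [sum_inv_mul_shift, if_pos rfl]
          field_simp [χ.2.apply_one_ne_zero, Char.card_cast_ne_zero (G := G)]
        · intro η _ hne
          rw [sum_inv_mul_shift, if_neg (Ne.symm hne), mul_zero, mul_zero]
        · simp
    _ = _ := by
        simp only [blockCoeff, finsum_mem_eq_finite_toFinset_sum _ (Set.toFinite b),
          Finset.mul_sum, Finset.sum_mul]
        rw [Finset.sum_comm (s := Finset.univ) (t := (Set.toFinite b).toFinset)]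
        refine Finset.sum_congr rfl fun χ _ => ?_
        rw [Finset.sum_comm]
        refine Finset.sum_congr rfl fun k _ => ?_
        rw [e χ k, Finset.mul_sum]
        refine Finset.sum_congr rfl fun η _ => ?_
        rw [χ.2.isCharacter.apply_inv]
        ring

omit [Fintype H] in
include hM in
/-- A character vanishes at an element whose `p`-part lies in no defect group. -/
theorem char_eq_zero_of_pPt_notMem (χ : IrrCharacter G) {g : G}
    (hD : ∀ D : Subgroup G, IsDefectGroup p M (blockOf M (χ : G → ℂ)) D → pPt p g ∉ D) :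
    (χ : G → ℂ) g = 0 := by
  classical
  let H : Subgroup G := Subgroup.centralizer ({pPt p g} : Set G)
  haveI := Fintype.ofFinite H
  have hgH : g ∈ H := Subgroup.mem_centralizer_iff.2 fun z hz => by
    rw [Set.mem_singleton_iff] at hz
    subst hz
    obtain ⟨n, hn⟩ := pPt_mem_zpowers (p := p) g
    rw [← hn]
    exact ((Commute.refl g).zpow_left n).eq
  have hxH : pPt p g ∈ H := Subgroup.mem_centralizer_iff.2 fun z hz => by
    rw [Set.mem_singleton_iff] at hz; rw [hz]
  set P : Subgroup G := Subgroup.zpowers (pPt p g) with hPdef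
  have hP : IsPGroup p P := by
    obtain ⟨j, hj⟩ := exists_orderOf_pPt (p := p) g
    exact IsPGroup.of_card (by rw [Nat.card_zpowers, hj])
  have hPH : P ≤ H := Subgroup.zpowers_le.2 hxH
  have hCH : Subgroup.centralizer (P : Set G) ≤ H :=
    Subgroup.centralizer_le fun z hz => by
      rw [Set.mem_singleton_iff] at hz; subst hz; exact Subgroup.mem_zpowers _
  have hHP : H ≤ Subgroup.centralizer (P : Set G) := fun z hz =>
    mem_centralizer_of_le (Subgroup.zpowers_le.2 (Subgroup.mem_centralizer_iff.2 fun a ha => by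
      rw [Set.mem_singleton_iff] at ha
      rw [ha]; exact (Subgroup.mem_centralizer_iff.1 hz (pPt p g) rfl).symm))
  have hHN : H ≤ Subgroup.normalizer (P : Set G) :=
    hHP.trans (Subgroup.centralizer_le_normalizer _)
  have hvan : ∀ ξ₀ : IrrCharacter H,
      ∑ k : H, blockCoeff (blockOf M (ξ₀ : H → ℂ)) k * (χ : G → ℂ) ((k : G) * g) = 0 := by
    intro ξ₀
    have hb := isPBlock_blockOf (M := M) ξ₀
    obtain ⟨B, hind⟩ := exists_isInducedBlock hM hP hPH hCH hHN hb
    refine sum_blockCoeff_mul_char_eq_zero hM hind (h := ⟨g, hgH⟩) le_rfl fun hmem => ?_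
    obtain ⟨E, hE⟩ := exists_defectGroup hM hb
    obtain ⟨F, hF, hle⟩ := exists_defectGroup_ge hM hind hE
    refine hD F (eq_blockOf_of_mem hM hind.2.1 hmem ▸ hF) (hle ⟨⟨_, hxH⟩, ?_, rfl⟩)
    haveI : (P.subgroupOf H).Normal := ⟨fun a ha x => by
      rw [Subgroup.mem_subgroupOf] at ha ⊢
      simp only [Subgroup.coe_mul, InvMemClass.coe_inv]
      rw [← Subgroup.mem_centralizer_iff.1 (hHP x.2) _ ha, mul_inv_cancel_right]
      exact ha⟩
    obtain ⟨y, hy, S, hS⟩ := isDefectGroup_iff.1 hE
    have hyC : y ∈ Subgroup.centralizer ((P.subgroupOf H : Subgroup H) : Set H) :=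
      Subgroup.mem_centralizer_iff.2 fun a ha => Subtype.ext
        (Subgroup.mem_centralizer_iff.1 (hHP y.2) _ (Subgroup.mem_subgroupOf.1 ha))
    obtain ⟨x, -, hxle⟩ := exists_conj_le_cenSyl S (hP.comap_subtype (K := H))
      (mem_centralizer_singleton_of hyC)
    rw [hS]
    refine hxle ⟨⟨_, hxH⟩, Subgroup.mem_subgroupOf.2 (Subgroup.mem_zpowers _), ?_⟩
    apply Subtype.ext
    simp only [MulEquiv.toMonoidHom_eq_coe, MonoidHom.coe_coe, MulAut.conj_apply,
      Subgroup.coe_mul, InvMemClass.coe_inv]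
    rw [← Subgroup.mem_centralizer_iff.1 (hHP x.2) _ (Subgroup.mem_zpowers _),
      mul_inv_cancel_right]
  let c : IrrCharacter H → ℂ := fun ξ => (Nat.card H : ℂ)⁻¹ * (ξ : H → ℂ) 1 *
    ∑ k : H, conj ((ξ : H → ℂ) k) * (χ : G → ℂ) ((k : G) * g)
  have htot : ∑ ξ, c ξ = (χ : G → ℂ) g := by
    have e : ∀ k : H, ∑ ξ : IrrCharacter H, (Nat.card H : ℂ)⁻¹ * ((ξ : H → ℂ) 1 *
        conj ((ξ : H → ℂ) k)) = if k = 1 then 1 else 0 := fun k => by
      have h1 := zc_one (G := H) k
      simp only [zc, Pi.one_apply, one_mul, Finset.mul_sum] at h1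
      rw [← h1]
      exact Finset.sum_congr rfl fun ξ _ => by rw [ξ.2.isCharacter.apply_inv]
    calc ∑ ξ, c ξ = ∑ k : H, (∑ ξ : IrrCharacter H, (Nat.card H : ℂ)⁻¹ * ((ξ : H → ℂ) 1 *
          conj ((ξ : H → ℂ) k))) * (χ : G → ℂ) ((k : G) * g) := by
          simp only [c, Finset.mul_sum, Finset.sum_mul]
          rw [Finset.sum_comm]
          exact Finset.sum_congr rfl fun k _ => Finset.sum_congr rfl fun ξ _ => by ring
      _ = (χ : G → ℂ) g := by simp only [e]; simp
  rw [← htot, ← Finset.sum_fiberwise_of_maps_to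
    (t := Finset.univ.image fun ξ : IrrCharacter H => blockOf M (ξ : H → ℂ))
    (g := fun ξ : IrrCharacter H => blockOf M (ξ : H → ℂ))
    (fun ξ _ => Finset.mem_image_of_mem _ (Finset.mem_univ ξ))]
  refine Finset.sum_eq_zero fun b hb => ?_
  obtain ⟨ξ₀, -, rfl⟩ := Finset.mem_image.1 hb
  rw [← hvan ξ₀]
  have hfil : (Finset.univ.filter fun ξ : IrrCharacter H =>
      blockOf M (ξ : H → ℂ) = blockOf M (ξ₀ : H → ℂ)) =
      (Set.toFinite (blockOf M (ξ₀ : H → ℂ))).toFinset := by
    ext ξ
    simp only [Finset.mem_filter, Finset.mem_univ, true_and, Set.Finite.mem_toFinset]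
    exact ⟨fun h => h ▸ self_mem_blockOf hM ξ, fun h =>
      (eq_blockOf_of_mem hM (isPBlock_blockOf ξ₀) h).symm⟩
  rw [hfil]
  simp only [c, blockCoeff, finsum_mem_eq_finite_toFinset_sum _ (Set.toFinite _), Finset.mul_sum,
    Finset.sum_mul]
  rw [Finset.sum_comm]
  exact Finset.sum_congr rfl fun k _ => Finset.sum_congr rfl fun ξ _ => by ring

end Cfsg.Lib.Block
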