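import Cfsg.Agent.Lib.Block.Vanish

/-!
# Traces of twisted translations only see the fixed block

The trace of a permutation times a commuting integral idempotent is the rank of the reduced fixed
block. Hence twisted traces of two idempotents with the same fixed block agree.
-/

set_option autoImplicit false
set_option linter.unusedSectionVars false
set_option maxHeartbeats 1000000

namespace Cfsg.Lib.Block

open Cfsg Module Submodule
open scoped ComplexConjugate

universe u

variable {p : ℕ} {M : Ideal AlgInt} (hM : IsPModular p M)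

/-- In characteristic `p` a sum invariant under a `p`-group only sees the fixed points. -/
theorem sum_eq_sum_fixed_of_pgroup [Fact p.Prime] {H α : Type*} [Group H] [Fintype α]
    [MulAction H α] {k : Type*} [CommRing k] [CharP k p] (hH : IsPGroup p H) (F : α → k)
    (hinv : ∀ (h : H) (x : α), F (h • x) = F x) [DecidablePred fun x : α => ∀ h : H, h • x = x] :
    ∑ x, F x = ∑ x ∈ Finset.univ.filter (fun x : α => ∀ h : H, h • x = x), F x := by
  classical
  rw [← Finset.sum_fiberwise_of_maps_to (s := (Finset.univ : Finset α))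
      (t := Finset.univ.image F) (g := F) (fun x _ => Finset.mem_image_of_mem F (Finset.mem_univ x)),
    ← Finset.sum_fiberwise_of_maps_to
      (s := Finset.univ.filter fun x : α => ∀ h : H, h • x = x)
      (t := Finset.univ.image F) (g := F) (fun x _ => Finset.mem_image_of_mem F (Finset.mem_univ x))]
  refine Finset.sum_congr rfl fun a _ => ?_
  rw [Finset.sum_congr rfl (g := fun _ => a) fun x hx => (Finset.mem_filter.1 hx).2,
    Finset.sum_congr rfl (g := fun _ => a) fun x hx => (Finset.mem_filter.1 hx).2,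
    Finset.sum_const, Finset.sum_const, nsmul_eq_mul, nsmul_eq_mul]
  congr 1
  let act : MulAction H {x : α // F x = a} :=
    { smul := fun h x => ⟨h • x.1, (hinv h x.1).trans x.2⟩
      one_smul := fun x => Subtype.ext (one_smul H x.1)
      mul_smul := fun s t x => Subtype.ext (mul_smul s t x.1) }
  letI := act
  rw [CharP.natCast_eq_natCast k p]
  have h := hH.card_modEq_card_fixedPoints {x : α // F x = a}
  rw [Nat.card_eq_fintype_card, Fintype.card_subtype] at h
  refine h.trans (congrArg (· % p) ?_)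
  rw [Finset.filter_filter, ← Fintype.card_subtype, ← Nat.card_eq_fintype_card]
  exact Nat.card_congr
    { toFun := fun x => ⟨x.1.1, fun h => congrArg Subtype.val (x.2 h), x.1.2⟩
      invFun := fun x => ⟨⟨x.1, x.2.2⟩, fun h => Subtype.ext (x.2.1 h)⟩
      left_inv := fun x => rfl
      right_inv := fun x => rfl }

section Rank

variable {X : Type u} [Fintype X] [DecidableEq X]

/-- The reduced fixed block as a linear map. -/
noncomputable def fixLin (σ : Equiv.Perm X) (E : Matrix X X ℂ)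
    (hE : ∀ a b, E a b ∈ locRing hM) :
    ({x : X // σ x = x} → resField hM) →ₗ[resField hM] ({x : X // σ x = x} → resField hM) :=
  Matrix.mulVecLin (Matrix.of fun a b : {x : X // σ x = x} =>
    resMap hM ⟨E a.1 b.1, hE a.1 b.1⟩)

theorem mem_orbSpan_iff (σ : Equiv.Perm X) {v : X → resField hM} (P : Orb σ → Prop)
    (hv : ∀ y, v (σ y) = v y) (h0 : ∀ o, ¬ P o → v o.out = 0) : v ∈ orbSpan hM σ P := by
  classical
  have hpow : ∀ (i : ℕ) (y : X), v ((σ ^ i) y) = v y := by
    intro i y
    induction i with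
    | zero => rfl
    | succ i ih => rw [pow_succ', Equiv.Perm.mul_apply, hv, ih]
  have hveq : v = ∑ o : Orb σ, v o.out • orbInd hM σ o := by
    funext y
    simp only [Finset.sum_apply, Pi.smul_apply, smul_eq_mul, orbInd]
    rw [Finset.sum_eq_single (orbMk σ y)]
    · rw [if_pos rfl, mul_one]
      obtain ⟨i, hi⟩ := exists_pow_out σ y
      conv_lhs => rw [← hi, hpow]
    · intro o' _ ho'
      rw [if_neg (Ne.symm ho'), mul_zero]
    · simp
  rw [hveq]
  refine Submodule.sum_mem _ fun o _ => ?_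
  by_cases ho : P o
  · exact smul_mem _ _ (subset_span ⟨⟨o, ho⟩, rfl⟩)
  · rw [h0 o ho, zero_smul]
    exact zero_mem _

theorem orbSpan_invariant (σ : Equiv.Perm X) {P : Orb σ → Prop} {v : X → resField hM}
    (hv : v ∈ orbSpan hM σ P) (y : X) : v (σ y) = v y := by
  classical
  induction hv using Submodule.span_induction with
  | mem w hw =>
    obtain ⟨o, rfl⟩ := hw
    have e : orbMk σ (σ y) = orbMk σ y := by
      have := orbMk_apply_pow σ 1 y
      rwa [pow_one] at this
    simp only [orbInd]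
    split_ifs <;> simp_all
  | zero => rfl
  | add a b _ _ ha hb => simp [ha, hb]
  | smul c a _ ha => simp [ha]

theorem orbSpan_nonfixed_apply (σ : Equiv.Perm X) {v : X → resField hM}
    (hv : v ∈ orbSpan hM σ (NonFixedOrb σ)) {y : X} (hy : σ y = y) : v y = 0 := by
  classical
  induction hv using Submodule.span_induction with
  | mem w hw =>
    obtain ⟨o, rfl⟩ := hw
    simp only [orbInd]
    rw [if_neg]
    intro h
    have h1 := orbMk_eq_of_fixed hy
    rw [h] at h1
    exact o.2 (by rw [h1]; exact hy)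
  | zero => rfl
  | add a b _ _ ha hb => simp [ha, hb]
  | smul c a _ ha => simp [ha]

theorem resLin_invariant (σ : Equiv.Perm X) (E : Matrix X X ℂ)
    (hE : ∀ a b, E a b ∈ locRing hM) (hcomm : ∀ a b, E (σ a) (σ b) = E a b)
    {v : X → resField hM} (hv : ∀ y, v (σ y) = v y) (y : X) :
    resLin hM E hE v (σ y) = resLin hM E hE v y := by
  simp only [resLin, Matrix.mulVecLin_apply, Matrix.mulVec, dotProduct, Matrix.of_apply]
  refine (Fintype.sum_equiv σ _ _ fun x => ?_).symm
  rw [hv]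
  congr 2
  exact Subtype.ext (hcomm y x).symm

variable [Fact p.Prime]

include hM in
/-- The trace is the rank of the reduced fixed block. -/
theorem trace_perm_idem_eq_fixed (σ : Equiv.Perm X) {k : ℕ} (hσ : σ ^ (p ^ k) = 1)
    (E : Matrix X X ℂ) (hE : ∀ a b, E a b ∈ locRing hM) (hidem : E * E = E)
    (hcomm : ∀ a b, E (σ a) (σ b) = E a b) :
    ∑ x, E x (σ x) = (finrank (resField hM) (LinearMap.range (fixLin hM σ E hE)) : ℂ) := by
  classical
  rw [trace_perm_idem_eq hM σ hσ E hE hidem hcomm]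
  set e := resLin hM E hE with he
  set V := orbSpan hM σ (fun _ => True) with hV
  set W := orbSpan hM σ (NonFixedOrb σ) with hW
  let r : (X → resField hM) →ₗ[resField hM] ({x : X // σ x = x} → resField hM) :=
    LinearMap.funLeft (resField hM) (resField hM) Subtype.val
  have hVinv : ∀ v : X → resField hM, (∀ y, v (σ y) = v y) → v ∈ V := fun v hv =>
    mem_orbSpan_iff hM σ _ hv fun o ho => absurd trivial ho
  have hWV : W ≤ V := fun v hv => hVinv v (orbSpan_invariant hM σ hv)
  have hp : IsPGroup p (Subgroup.zpowers σ) := by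
    obtain ⟨j, -, hj⟩ := (Nat.dvd_prime_pow (Fact.out : p.Prime)).1 (orderOf_dvd_of_pow_eq_one hσ)
    exact IsPGroup.of_card (by rw [Nat.card_zpowers, hj])
  -- the fixed part of the image
  have hre : ∀ v ∈ V, r (e v) = fixLin hM σ E hE (r v) := by
    intro v hv
    funext y
    have hinv := orbSpan_invariant hM σ hv
    simp only [r, LinearMap.funLeft_apply, he, resLin, fixLin, Matrix.mulVecLin_apply,
      Matrix.mulVec, dotProduct, Matrix.of_apply]
    set F : X → resField hM := fun x => resMap hM ⟨E y.1 x, hE y.1 x⟩ * v x with hF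
    have hFσ : ∀ x, F (σ x) = F x := by
      intro x
      simp only [hF, hinv]
      congr 2
      apply Subtype.ext
      show E y.1 (σ x) = E y.1 x
      conv_lhs => rw [← y.2]
      exact hcomm _ _
    have hFz : ∀ (h : Subgroup.zpowers σ) (x : X), F (h • x) = F x := by
      rintro ⟨h, hh⟩ x
      obtain ⟨n, rfl⟩ := mem_powers_iff_mem_zpowers.2 hh
      show F ((σ ^ n) x) = F x
      clear hh
      induction n with
      | zero => rfl
      | succ n ih => rw [pow_succ', Equiv.Perm.mul_apply, hFσ, ih]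
    rw [sum_eq_sum_fixed_of_pgroup hp F hFz]
    refine Finset.sum_subtype _ (fun x => ?_) F
    simp only [Finset.mem_filter, Finset.mem_univ, true_and]
    constructor
    · exact fun h => h ⟨σ, Subgroup.mem_zpowers σ⟩
    · rintro hx ⟨h, hh⟩
      obtain ⟨n, rfl⟩ := hh
      exact Equiv.Perm.zpow_apply_eq_self_of_apply_eq_self hx n
  have hrange : (V.map e).map r = LinearMap.range (fixLin hM σ E hE) := by
    apply le_antisymm
    · rintro _ ⟨_, ⟨v, hv, rfl⟩, rfl⟩
      exact ⟨r v, (hre v hv).symm⟩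
    · rintro _ ⟨w, rfl⟩
      let v : X → resField hM := fun x => if h : σ x = x then w ⟨x, h⟩ else 0
      have hv : v ∈ V := hVinv v fun y => by
        by_cases h : σ y = y
        · rw [h]
        · have h' : ¬ σ (σ y) = σ y := fun h' => h (σ.injective h')
          simp only [v, dif_neg h, dif_neg h']
      have hrv : r v = w := funext fun y => by
        simp only [r, LinearMap.funLeft_apply, v, dif_pos y.2]
      exact ⟨e v, ⟨v, hv, rfl⟩, by rw [hre v hv, hrv]⟩
  have hker : V.map e ⊓ LinearMap.ker r = W.map e := by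
    apply le_antisymm
    · rintro v ⟨⟨v₀, hv₀, hv⟩, hr⟩
      have hinv : ∀ y, v (σ y) = v y := fun y => by
        rw [← hv]; exact resLin_invariant hM σ E hE hcomm (orbSpan_invariant hM σ hv₀) y
      have hvW : v ∈ W := mem_orbSpan_iff hM σ _ hinv fun o ho => by
        exact congrFun (LinearMap.mem_ker.1 hr) ⟨o.out, not_not.1 ho⟩
      refine ⟨v, hvW, ?_⟩
      rw [← hv]
      funext y
      simp only [he, resLin, Matrix.mulVecLin_apply, Matrix.mulVec_mulVec]
      congr 2
      ext a b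
      simp only [Matrix.mul_apply, Matrix.of_apply, ← map_mul, ← map_sum]
      congr 1
      apply Subtype.ext
      have := congrFun (congrFun hidem a) b
      simpa [Matrix.mul_apply] using this
    · rintro _ ⟨v, hv, rfl⟩
      refine ⟨⟨v, hWV hv, rfl⟩, LinearMap.mem_ker.2 ?_⟩
      rw [hre v (hWV hv), show r v = 0 from funext fun y => orbSpan_nonfixed_apply hM σ hv y.2,
        map_zero]
  have hrn := LinearMap.finrank_range_add_finrank_ker (r.domRestrict (V.map e))
  rw [LinearMap.range_domRestrict, hrange, LinearMap.ker_domRestrict,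
    (Submodule.equivMapOfInjective (V.map e).subtype Subtype.val_injective _).finrank_eq,
    Submodule.map_comap_subtype, hker] at hrn
  rw [← hrn]
  push_cast
  ring

include hM in
/-- Twisted traces of idempotents with the same fixed block agree. -/
theorem trace_twist_congr (σ τ : Equiv.Perm X) {k m : ℕ} (hσ : σ ^ (p ^ k) = 1) (hτ : τ ^ m = 1)
    (hm : ¬ p ∣ m) (hc : Commute σ τ) (E E' : Matrix X X ℂ)
    (hE : ∀ a b, E a b ∈ locRing hM) (hidem : E * E = E)
    (hEσ : ∀ a b, E (σ a) (σ b) = E a b) (hEτ : ∀ a b, E (τ a) (τ b) = E a b)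
    (hE' : ∀ a b, E' a b ∈ locRing hM) (hidem' : E' * E' = E')
    (hEσ' : ∀ a b, E' (σ a) (σ b) = E' a b) (hEτ' : ∀ a b, E' (τ a) (τ b) = E' a b)
    (hfix : ∀ x y, σ x = x → σ y = y → MemLocalIdeal M (E y x - E' y x)) :
    ∑ x, E x ((σ * τ) x) = ∑ x, E' x ((σ * τ) x) := by
  classical
  have hm0 : 0 < m := Nat.pos_of_ne_zero fun h => hm (h ▸ dvd_zero p)
  have hmC : (m : ℂ) ≠ 0 := by exact_mod_cast hm0.ne'
  obtain ⟨ζ, hζ⟩ : ∃ ζ : ℂ, IsPrimitiveRoot ζ m := ⟨_, Complex.isPrimitiveRoot_exp m hm0.ne'⟩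
  let F : Matrix X X ℂ → ℕ → Matrix X X ℂ := fun A j => Matrix.of fun x y => A x ((τ ^ j) y)
  let P : Matrix X X ℂ → ℂ → Matrix X X ℂ :=
    fun A c => (m : ℂ)⁻¹ • ∑ j ∈ Finset.range m, c ^ j • F A j
  have hstruct : ∀ A : Matrix X X ℂ, (∀ a b, A a b ∈ locRing hM) → A * A = A →
      (∀ a b, A (σ a) (σ b) = A a b) → (∀ a b, A (τ a) (τ b) = A a b) → ∀ c : ℂ, c ^ m = 1 →
      (∀ a b, P A c a b ∈ locRing hM) ∧ P A c * P A c = P A c ∧
        ∀ a b, P A c (σ a) (σ b) = P A c a b := by
    intro A hA hAA hAσ hAτ c hcm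
    have hAτpow : ∀ (j : ℕ) a b, A ((τ ^ j) a) ((τ ^ j) b) = A a b := by
      intro j a b
      induction j with
      | zero => rfl
      | succ j ih => rw [pow_succ', Equiv.Perm.mul_apply, Equiv.Perm.mul_apply, hAτ, ih]
    have hFmul : ∀ i j, F A i * F A j = F A (i + j) := by
      intro i j
      ext x z
      simp only [F, Matrix.mul_apply, Matrix.of_apply]
      rw [pow_add, Equiv.Perm.mul_apply]
      generalize (τ ^ j) z = t
      rw [Finset.sum_congr rfl fun y _ => show A x ((τ ^ i) y) * A y t =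
          A x ((τ ^ i) y) * A ((τ ^ i) y) ((τ ^ i) t) by rw [hAτpow],
        Equiv.sum_comp (τ ^ i) fun y => A x y * A y ((τ ^ i) t)]
      have := congrFun (congrFun hAA x) ((τ ^ i) t)
      rwa [Matrix.mul_apply] at this
    have hFper : ∀ j, c ^ (j + m) • F A (j + m) = c ^ j • F A j := fun j => by
      simp only [F, pow_add, hτ, hcm, mul_one]
    refine ⟨fun a b => ?_, ?_, fun a b => ?_⟩
    · simp only [P, Matrix.smul_apply, Matrix.sum_apply, smul_eq_mul, F, Matrix.of_apply]
      exact mul_mem (inv_natCast_mem_locRing hM hm) (sum_mem fun j _ =>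
        mul_mem (pow_mem (root_of_unity_mem_locRing hM hm0 hcm) j) (hA _ _))
    · have hsq : (∑ i ∈ Finset.range m, c ^ i • F A i) * (∑ j ∈ Finset.range m, c ^ j • F A j) =
          (m : ℂ) • ∑ j ∈ Finset.range m, c ^ j • F A j := by
        rw [Finset.sum_mul_sum]
        have hi : ∀ i ∈ Finset.range m, (∑ j ∈ Finset.range m, c ^ i • F A i * c ^ j • F A j) =
            ∑ j ∈ Finset.range m, c ^ j • F A j := fun i _ => by
          rw [← sum_range_periodic_shift (fun j => c ^ j • F A j) hFper i]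
          exact Finset.sum_congr rfl fun j _ => by rw [smul_mul_smul_comm, hFmul, ← pow_add]
        rw [Finset.sum_congr rfl hi, Finset.sum_const, Finset.card_range,
          ← Nat.cast_smul_eq_nsmul ℂ]
      simp only [P, smul_mul_assoc, mul_smul_comm, hsq, inv_smul_smul₀ hmC]
    · simp only [P, Matrix.smul_apply, Matrix.sum_apply, smul_eq_mul, F, Matrix.of_apply]
      congr 1
      refine Finset.sum_congr rfl fun j _ => ?_
      rw [← Equiv.Perm.mul_apply (τ ^ j) σ b, ← (hc.pow_right j).eq, Equiv.Perm.mul_apply, hAσ]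
  have hτσ : ∀ (j : ℕ) (x : X), σ x = x → σ ((τ ^ j) x) = (τ ^ j) x := fun j x hx => by
    rw [← Equiv.Perm.mul_apply σ (τ ^ j) x, (hc.pow_right j).eq, Equiv.Perm.mul_apply, hx]
  have hroot : ∀ l : ℕ, (ζ ^ l) ^ m = 1 := fun l => by
    rw [← pow_mul, mul_comm, pow_mul, hζ.pow_eq_one, one_pow]
  have heq : ∀ c : ℂ, c ^ m = 1 → ∑ x, P E c x (σ x) = ∑ x, P E' c x (σ x) := by
    intro c hcm
    obtain ⟨h1, h2, h3⟩ := hstruct E hE hidem hEσ hEτ c hcm
    obtain ⟨h1', h2', h3'⟩ := hstruct E' hE' hidem' hEσ' hEτ' c hcm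
    rw [trace_perm_idem_eq_fixed hM σ hσ _ h1 h2 h3, trace_perm_idem_eq_fixed hM σ hσ _ h1' h2' h3']
    suffices h : fixLin hM σ _ h1 = fixLin hM σ _ h1' by rw [h]
    unfold fixLin
    congr 1
    ext y x
    show resMap hM _ = resMap hM _
    rw [resMap_eq_iff]
    simp only [P, Matrix.smul_apply, Matrix.sum_apply, smul_eq_mul, F, Matrix.of_apply]
    rw [← mul_sub, ← Finset.sum_sub_distrib]
    refine memLocalIdeal_mul_left hM (inv_natCast_mem_locRing hM hm)
      (memLocalIdeal_sum hM _ _ fun j _ => ?_)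
    rw [← mul_sub]
    exact memLocalIdeal_mul_left hM (pow_mem (root_of_unity_mem_locRing hM hm0 hcm) j)
      (hfix _ _ (hτσ j _ x.2) y.2)
  have hsum : ∀ j, j < m → ∑ l ∈ Finset.range m, ((ζ ^ l) ^ (m - 1)) * (ζ ^ l) ^ j =
      if j = 1 % m then (m : ℂ) else 0 := by
    intro j hj
    have e : ∀ l : ℕ, (ζ ^ l) ^ (m - 1) * (ζ ^ l) ^ j = (ζ ^ (m - 1 + j)) ^ l := fun l => by
      rw [← pow_add, ← pow_mul, ← pow_mul, mul_comm]
    simp only [e]
    have h1 : ζ ^ (m - 1 + j) = 1 ↔ j = 1 % m := by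
      rw [hζ.pow_eq_one_iff_dvd]
      constructor
      · rintro ⟨q, hq⟩
        rcases Nat.lt_or_ge 1 m with h | h
        · rw [Nat.mod_eq_of_lt h]
          rcases Nat.lt_or_ge q 2 with hq2 | hq2
          · interval_cases q <;> omega
          · have := Nat.mul_le_mul_left m hq2; omega
        · have : m = 1 := by omega
          subst this; omega
      · intro h
        rcases Nat.lt_or_ge 1 m with h' | h'
        · rw [Nat.mod_eq_of_lt h'] at h
          exact ⟨1, by omega⟩
        · have : m = 1 := by omega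
          subst this; simp
    by_cases hj1 : j = 1 % m
    · rw [if_pos hj1, h1.2 hj1]; simp
    · rw [if_neg hj1]
      have := geom_sum_mul (ζ ^ (m - 1 + j)) m
      rw [hroot, sub_self, mul_eq_zero] at this
      exact this.resolve_right (sub_ne_zero.2 fun h => hj1 (h1.1 h))
  have key : ∀ A : Matrix X X ℂ,
      ∑ l ∈ Finset.range m, (ζ ^ l) ^ (m - 1) * ∑ x, P A (ζ ^ l) x (σ x) =
        ∑ x, A x ((σ * τ) x) := by
    intro A
    simp only [Finset.mul_sum]
    rw [Finset.sum_comm]
    refine Finset.sum_congr rfl fun x _ => ?_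
    have e : A x ((σ * τ) x) = F A (1 % m) x (σ x) := by
      simp only [F, Matrix.of_apply]
      rw [hc.eq, Equiv.Perm.mul_apply, ← pow_eq_pow_mod _ hτ, pow_one]
    rw [e]
    simp only [P, Matrix.smul_apply, Matrix.sum_apply, smul_eq_mul, Finset.mul_sum]
    rw [Finset.sum_comm, Finset.sum_eq_single (1 % m)]
    · rw [show ∀ G : Matrix X X ℂ, (∑ l ∈ Finset.range m, (ζ ^ l) ^ (m - 1) *
          ((m : ℂ)⁻¹ * ((ζ ^ l) ^ (1 % m) * G x (σ x)))) =
          (m : ℂ)⁻¹ * (∑ l ∈ Finset.range m, (ζ ^ l) ^ (m - 1) * (ζ ^ l) ^ (1 % m)) * G x (σ x)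
        from fun G => by
          rw [Finset.mul_sum, Finset.sum_mul]; exact Finset.sum_congr rfl fun l _ => by ring,
        hsum _ (Nat.mod_lt _ hm0), if_pos rfl, inv_mul_cancel₀ hmC, one_mul]
    · intro j hj hne
      rw [show (∑ l ∈ Finset.range m, (ζ ^ l) ^ (m - 1) *
          ((m : ℂ)⁻¹ * ((ζ ^ l) ^ j * F A j x (σ x)))) =
          (m : ℂ)⁻¹ * (∑ l ∈ Finset.range m, (ζ ^ l) ^ (m - 1) * (ζ ^ l) ^ j) * F A j x (σ x) by
          rw [Finset.mul_sum, Finset.sum_mul]; exact Finset.sum_congr rfl fun l _ => by ring,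
        hsum _ (Finset.mem_range.1 hj), if_neg hne, mul_zero, zero_mul]
    · intro h; exact absurd (Finset.mem_range.2 (Nat.mod_lt _ hm0)) h
  rw [← key E, ← key E']
  exact Finset.sum_congr rfl fun l _ => by rw [heq _ (hroot l)]

end Rank

variable {G : Type u} [Group G] [Fintype G] [Fact p.Prime]

include hM in
/-- Group form: twisted sums of two idempotents with the same fixed coefficients agree. -/
theorem sum_shift_congr (f f' : G → ℂ) (hint : ∀ x, f x ∈ locRing hM)
    (hint' : ∀ x, f' x ∈ locRing hM) (hidem : ∀ g, ∑ x, f x * f (x⁻¹ * g) = f g)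
    (hidem' : ∀ g, ∑ x, f' x * f' (x⁻¹ * g) = f' g) (g w : G)
    (hinv : ∀ a ∈ Subgroup.zpowers g, ∀ x, f (a * x * a⁻¹) = f x)
    (hinv' : ∀ a ∈ Subgroup.zpowers g, ∀ x, f' (a * x * a⁻¹) = f' x)
    (hfix : ∀ c ∈ Subgroup.centralizer ({pPt p g} : Set G), MemLocalIdeal M (f c - f' c)) :
    ∑ x, f (x * w⁻¹ * x⁻¹ * g⁻¹) = ∑ x, f' (x * w⁻¹ * x⁻¹ * g⁻¹) := by
  classical
  set u₁ := pPt p g with hu₁
  set s₁ := pReg p g with hs₁
  set u₂ := pPt p w with hu₂
  set s₂ := pReg p w with hs₂
  let σ : Equiv.Perm G := (Equiv.mulLeft u₁).trans (Equiv.mulRight u₂)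
  let τ : Equiv.Perm G := (Equiv.mulLeft s₁).trans (Equiv.mulRight s₂)
  have hσ : ∀ (n : ℕ) x, (σ ^ n) x = u₁ ^ n * x * u₂ ^ n := by
    intro n
    induction n with
    | zero => simp
    | succ n ih => intro x; rw [pow_succ', Equiv.Perm.mul_apply, ih]; simp [σ, pow_succ', pow_succ u₂, mul_assoc]
  have hτ : ∀ (n : ℕ) x, (τ ^ n) x = s₁ ^ n * x * s₂ ^ n := by
    intro n
    induction n with
    | zero => simp
    | succ n ih => intro x; rw [pow_succ', Equiv.Perm.mul_apply, ih]; simp [τ, pow_succ', pow_succ s₂, mul_assoc]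
  obtain ⟨k₁, hk₁⟩ := exists_pow_pPt (p := p) g
  obtain ⟨k₂, hk₂⟩ := exists_pow_pPt (p := p) w
  rw [← hu₁] at hk₁
  rw [← hu₂] at hk₂
  have hσord : σ ^ p ^ (k₁ + k₂) = 1 := by
    ext x
    have e1 : u₁ ^ p ^ (k₁ + k₂) = 1 := by rw [pow_add, pow_mul, hk₁, one_pow]
    have e2 : u₂ ^ p ^ (k₁ + k₂) = 1 := by rw [add_comm, pow_add, pow_mul, hk₂, one_pow]
    simp [hσ, e1, e2]
  have hτord : τ ^ (orderOf s₁ * orderOf s₂) = 1 := by
    ext x
    have e1 : s₁ ^ (orderOf s₁ * orderOf s₂) = 1 := by rw [pow_mul, pow_orderOf_eq_one, one_pow]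
    have e2 : s₂ ^ (orderOf s₁ * orderOf s₂) = 1 := by
      rw [mul_comm, pow_mul, pow_orderOf_eq_one, one_pow]
    simp [hτ, e1, e2]
  have hm : ¬ p ∣ orderOf s₁ * orderOf s₂ := fun h =>
    ((Fact.out : p.Prime).dvd_mul.1 h).elim (not_dvd_orderOf_pReg g) (not_dvd_orderOf_pReg w)
  have hcomm : Commute σ τ := by
    ext x
    simp only [Equiv.Perm.mul_apply, σ, τ, Equiv.trans_apply, Equiv.coe_mulLeft,
      Equiv.coe_mulRight]
    have h2 : s₂ * u₂ = u₂ * s₂ := (pPt_commute_pReg w).eq.symm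
    calc u₁ * (s₁ * x * s₂) * u₂ = (u₁ * s₁) * x * (s₂ * u₂) := by simp only [mul_assoc]
      _ = (s₁ * u₁) * x * (u₂ * s₂) := by rw [(pPt_commute_pReg g).eq, h2]
      _ = s₁ * (u₁ * x * u₂) * s₂ := by simp only [mul_assoc]
  let E : (G → ℂ) → Matrix G G ℂ := fun f => Matrix.of fun a b => f (a * b⁻¹)
  have hEidem : ∀ f : G → ℂ, (∀ g, ∑ x, f x * f (x⁻¹ * g) = f g) → E f * E f = E f := by
    intro f hf
    ext a c
    simp only [E, Matrix.mul_apply, Matrix.of_apply]
    rw [← hf (a * c⁻¹)]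
    refine Fintype.sum_equiv ((Equiv.inv G).trans (Equiv.mulLeft a)) _ _ fun b => ?_
    simp only [Equiv.trans_apply, Equiv.inv_apply, Equiv.coe_mulLeft, mul_inv_rev, inv_inv]
    congr 2
    group
  have hEinv : ∀ f : G → ℂ, (∀ a ∈ Subgroup.zpowers g, ∀ x, f (a * x * a⁻¹) = f x) →
      ∀ v v' : G, v ∈ Subgroup.zpowers g → ∀ a b, E f (v * a * v') (v * b * v') = E f a b := by
    intro f hf v v' hv a b
    simp only [E, Matrix.of_apply]
    rw [← hf v hv (a * b⁻¹)]
    congr 1
    group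
  have key := trace_twist_congr hM σ τ hσord hτord hm hcomm (E f) (E f') (fun a b => hint _)
    (hEidem f hidem)
    (fun a b => by simpa [σ, mul_assoc] using hEinv f hinv u₁ u₂ (pPt_mem_zpowers g) a b)
    (fun a b => by simpa [τ, mul_assoc] using hEinv f hinv s₁ s₂ (pReg_mem_zpowers g) a b)
    (fun a b => hint' _) (hEidem f' hidem')
    (fun a b => by simpa [σ, mul_assoc] using hEinv f' hinv' u₁ u₂ (pPt_mem_zpowers g) a b)
    (fun a b => by simpa [τ, mul_assoc] using hEinv f' hinv' s₁ s₂ (pReg_mem_zpowers g) a b)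
    (fun x y hx hy => by
      simp only [σ, Equiv.trans_apply, Equiv.coe_mulLeft, Equiv.coe_mulRight] at hx hy
      refine hfix _ (Subgroup.mem_centralizer_iff.2 fun z hz => ?_)
      rw [Set.mem_singleton_iff] at hz
      subst hz
      have ey : u₁ * y = y * u₂⁻¹ := eq_mul_inv_of_mul_eq hy
      have ex : u₁ * x = x * u₂⁻¹ := eq_mul_inv_of_mul_eq hx
      calc u₁ * (y * x⁻¹) = u₁ * y * x⁻¹ := (mul_assoc _ _ _).symm
        _ = y * (u₂⁻¹ * x⁻¹) := by rw [ey, mul_assoc]
        _ = y * (x⁻¹ * u₁) := by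
            congr 1
            rw [eq_inv_mul_iff_mul_eq, ← mul_assoc, ← ex, mul_inv_cancel_right]
        _ = _ := (mul_assoc _ _ _).symm)
  have hfin : ∀ f : G → ℂ, ∑ x, E f x ((σ * τ) x) = ∑ x, f (x * w⁻¹ * x⁻¹ * g⁻¹) := by
    intro f
    refine Finset.sum_congr rfl fun x _ => ?_
    simp only [E, Matrix.of_apply, Equiv.Perm.mul_apply, σ, τ, Equiv.trans_apply,
      Equiv.coe_mulLeft, Equiv.coe_mulRight]
    congr 1
    have e : u₁ * (s₁ * x * s₂) * u₂ = g * x * w := by
      rw [← pPt_mul_pReg (p := p) g]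
      conv_rhs => rw [← pPt_mul_pReg (p := p) w, (pPt_commute_pReg w).eq]
      simp only [mul_assoc, ← hu₁, ← hs₁, ← hu₂, ← hs₂]
    rw [e]; group
  rw [hfin, hfin] at key
  exact key

end Cfsg.Lib.Block
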