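import Cfsg.Agent.Lib.Block.BlockModules
import Cfsg.Agent.Lib.Block.StarTrace
import Cfsg.Agent.Lib.Block.StarProduct
import Cfsg.Agent.Lib.Block.BlockTrace
import Cfsg.Agent.Lib.Block.SecondMain
import Cfsg.Agent.Lib.Char.Orthogonality

/-!
# Ranks of multiplications by idempotents in the group algebra

The rank of the multiplication by a lifted idempotent on the group algebra is the sum of its
character values weighted by the degrees.
-/

set_option autoImplicit false
set_option linter.unusedSectionVars false
set_option maxHeartbeats 1000000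

namespace Cfsg.Lib.Block

open Cfsg Module
open scoped MonoidAlgebra

universe u

variable {p : ℕ} [Fact p.Prime] {M : Ideal AlgInt} {A : Type u} [Group A] [Fintype A]
  (hM : IsPModular p M)

include hM in
/-- The rank of an idempotent linear map with a lifted matrix is the trace of the lift. -/
theorem finrank_range_of_matrix (E : Matrix A A ℂ) (hE : ∀ a b, E a b ∈ locRing hM)
    (hidem : E * E = E) (L : Module.End (resField hM) (KGA hM A))
    (hL : ∀ (x : KGA hM A) (a : A),
      (L x).coeff a = ∑ b, res hM (E a b) * x.coeff b) :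
    (finrank (resField hM) (LinearMap.range L) : ℂ) = ∑ a, E a a := by
  classical
  have h := trace_perm_idem_eq_fixed hM (1 : Equiv.Perm A) (k := 0) (one_pow _) E hE hidem
    fun _ _ => rfl
  simp only [Equiv.Perm.one_apply] at h
  rw [h]
  obtain ⟨φ, hφ⟩ : ∃ φ : KGA hM A ≃ₗ[resField hM] ({a : A // (1 : Equiv.Perm A) a = a} → resField hM),
      ∀ x a, φ x a = x.coeff a.1 :=
    ⟨{ toFun := fun x a => x.coeff a.1
       map_add' := fun x y => rfl
       map_smul' := fun c x => rfl
       invFun := fun f => MonoidAlgebra.ofCoeff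
         (Finsupp.equivFunOnFinite.symm fun a => f ⟨a, rfl⟩)
       left_inv := fun x => MonoidAlgebra.ext (Finsupp.ext fun a => rfl)
       right_inv := fun f => funext fun a => rfl }, fun _ _ => rfl⟩
  have hc : φ.toLinearMap ∘ₗ L = fixLin hM 1 E hE ∘ₗ φ.toLinearMap := by
    refine LinearMap.ext fun x => funext fun a => ?_
    rw [LinearMap.comp_apply, LinearMap.comp_apply, LinearEquiv.coe_coe, hφ, hL, fixLin,
      Matrix.mulVecLin_apply]
    simp only [Matrix.mulVec, dotProduct, Matrix.of_apply]
    refine Fintype.sum_equiv (Equiv.subtypeUnivEquiv fun b => rfl).symm _ _ fun b => ?_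
    exact congrArg₂ (· * ·) (res_coe hM ⟨_, hE a.1 b⟩) (hφ x ⟨b, rfl⟩).symm
  symm
  congr 1
  rw [← LinearEquiv.finrank_map_eq φ (LinearMap.range L), ← LinearMap.range_comp, hc,
    LinearMap.range_comp_of_range_eq_top _ (LinearMap.range_eq_top.2 φ.surjective)]
  exact rfl

include hM in
/-- The rank of left multiplication by an idempotent. -/
theorem finrank_range_mulLeft {a : OGA hM A} (ha : IsIdempotentElem a) :
    (finrank (resField hM) (LinearMap.range (LinearMap.mulLeft (resField hM) (red hM a))) : ℂ) =
      (Nat.card A : ℂ) * (a.coeff 1 : ℂ) := by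
  classical
  rw [finrank_range_of_matrix hM (Matrix.of fun g h => (a.coeff (g * h⁻¹) : ℂ))
    (fun g h => (a.coeff (g * h⁻¹)).2) ?_ _ fun x g => ?_]
  · simp [Nat.card_eq_fintype_card]
  · ext g h
    simp only [Matrix.mul_apply, Matrix.of_apply]
    rw [← coeff_idem hM ha (g * h⁻¹)]
    refine Fintype.sum_equiv ((Equiv.inv A).trans (Equiv.mulLeft g)) _ _ fun b => ?_
    simp only [Equiv.trans_apply, Equiv.inv_apply, Equiv.coe_mulLeft, mul_inv_rev]
    congr 3 <;> group
  · rw [LinearMap.mulLeft_apply, coeff_mul_sum]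
    refine Fintype.sum_equiv ((Equiv.inv A).trans (Equiv.mulRight g)) _ _ fun b => ?_
    simp only [Equiv.trans_apply, Equiv.inv_apply, Equiv.coe_mulRight, Matrix.of_apply,
      coeff_red, res_coe]
    congr 3
    group

include hM in
/-- The rank of right multiplication by an idempotent. -/
theorem finrank_range_mulRight {a : OGA hM A} (ha : IsIdempotentElem a) :
    (finrank (resField hM) (LinearMap.range (LinearMap.mulRight (resField hM) (red hM a))) : ℂ) =
      (Nat.card A : ℂ) * (a.coeff 1 : ℂ) := by
  classical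
  rw [finrank_range_of_matrix hM (Matrix.of fun g h => (a.coeff (h⁻¹ * g) : ℂ))
    (fun g h => (a.coeff (h⁻¹ * g)).2) ?_ _ fun x g => ?_]
  · simp [Nat.card_eq_fintype_card]
  · ext g h
    simp only [Matrix.mul_apply, Matrix.of_apply]
    rw [← coeff_idem hM ha (h⁻¹ * g)]
    refine Fintype.sum_equiv (Equiv.mulLeft h⁻¹) _ _ fun b => ?_
    simp only [Equiv.coe_mulLeft]
    rw [mul_comm]
    congr 3
    group
  · rw [LinearMap.mulRight_apply, coeff_mul_sum]
    refine Finset.sum_congr rfl fun b _ => ?_
    rw [Matrix.of_apply, res_coe, coeff_red, mul_comm]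

include hM in
/-- The identity coefficient is the weighted sum of the character values. -/
theorem card_mul_coeff_one (a : OGA hM A) :
    (Nat.card A : ℂ) * (a.coeff 1 : ℂ) =
      ∑ χ : IrrCharacter A, (χ : A → ℂ) 1 * hatC hM (χ : A → ℂ) a 1 := by
  classical
  simp only [hatC, mul_one, Finset.mul_sum]
  rw [Finset.sum_comm, Finset.sum_eq_single (1 : A)]
  · rw [← Char.sum_sq_degree (G := A), Finset.sum_mul]
    exact Finset.sum_congr rfl fun χ _ => by ring
  · intro g _ hg
    have h := Char.column_orthogonality g (1 : A)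
    rw [if_neg (fun hc => hg (isConj_one_left.1 hc))] at h
    calc ∑ χ : IrrCharacter A, (χ : A → ℂ) 1 * ((a.coeff g : ℂ) * (χ : A → ℂ) g) =
        (a.coeff g : ℂ) * ∑ χ : IrrCharacter A,
          (χ : A → ℂ) g * (starRingEnd ℂ) ((χ : A → ℂ) 1) := by
          rw [Finset.mul_sum]
          refine Finset.sum_congr rfl fun χ _ => ?_
          rw [apply_one_eq_charDegree χ, map_natCast]
          ring
      _ = 0 := by rw [h, mul_zero]
  · intro h
    exact absurd (Finset.mem_univ _) h

/-- A character outside a block vanishes at the elements of the block. -/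
theorem hatC_of_notMem {B : Set (IrrCharacter A)} (hB : IsPBlock M B) (a : OGA hM A)
    (ha : oV hM (indVec B) * a = a) {χ : IrrCharacter A} (hχ : χ ∉ B) :
    hatC hM (χ : A → ℂ) a 1 = 0 := by
  classical
  have hv := vInt_indVec hM hB
  rw [← ha]
  simp only [hatC, mul_one, coeff_mul_sum, AddSubmonoidClass.coe_finset_sum, Subring.coe_mul,
    coeff_oV hM hv, Finset.sum_mul]
  rw [Finset.sum_comm]
  calc ∑ h : A, ∑ g : A, zc (indVec B) h * (a.coeff (h⁻¹ * g) : ℂ) * (χ : A → ℂ) g =
      ∑ h : A, ∑ k : A, zc (indVec B) h * (a.coeff k : ℂ) * (χ : A → ℂ) (h * k) := by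
        refine Finset.sum_congr rfl fun h _ => Fintype.sum_equiv (Equiv.mulLeft h⁻¹) _ _ fun g => ?_
        simp
    _ = ∑ k : A, (a.coeff k : ℂ) * ∑ h : A, blockCoeff B h * (χ : A → ℂ) (h * k) := by
        rw [Finset.sum_comm]
        refine Finset.sum_congr rfl fun k _ => ?_
        rw [Finset.mul_sum]
        exact Finset.sum_congr rfl fun h _ => by rw [zc_indVec]; ring
    _ = 0 := by
        refine Finset.sum_eq_zero fun k _ => ?_
        rw [← blockPart_eq_sum B χ.2.isClassFunction, blockPart, finsum_mem_eq_toFinset_sum,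
          Finset.sum_eq_zero fun η hη => ?_, mul_zero]
        have hne : (χ : A → ℂ) ≠ (η : A → ℂ) := fun h => hχ (by
          rw [show χ = η from Subtype.ext h]; exact Set.mem_toFinset.1 hη)
        have h0 := Char.classInner_irr_ne χ.2 η.2 hne
        refine mul_eq_zero_of_left ?_ _
        convert h0

include hM in
open Classical in
/-- The rank of an idempotent of the block in the group algebra. -/
theorem finrank_range_block {B : Set (IrrCharacter A)} (hB : IsPBlock M B) {a : OGA hM A}
    (ha : IsIdempotentElem a) (haB : oV hM (indVec B) * a = a) :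
    (finrank (resField hM) (LinearMap.range (LinearMap.mulLeft (resField hM) (red hM a))) : ℂ) =
      ∑ χ ∈ B.toFinset, (χ : A → ℂ) 1 * hatC hM (χ : A → ℂ) a 1 := by
  rw [finrank_range_mulLeft hM ha, card_mul_coeff_one hM,
    Finset.sum_subset (Finset.subset_univ B.toFinset) fun χ _ hχ => ?_]
  rw [hatC_of_notMem hM hB a haB (fun h => hχ (Set.mem_toFinset.2 h)), mul_zero]

include hM in
/-- Idempotents of a block lift into the block. -/
theorem exists_block_lift {B : Set (IrrCharacter A)} (hB : IsPBlock M B) {x : KGA hM A}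
    (hx : IsIdempotentElem x) (hxB : blkA hM B * x = x) :
    ∃ a : OGA hM A, IsIdempotentElem a ∧ oV hM (indVec B) * a = a ∧ red hM a = x := by
  have hv := vInt_indVec hM hB
  set ε := oV hM (indVec B) with hε
  have hεi : ε * ε = ε := by rw [hε, ← oV_mul hM hv hv, indVec_mul_indVec, Set.inter_self]
  have hred : red hM (ε * liftC hM x) = x := by
    rw [map_mul, hε, red_oV hM hv, red_liftC]; exact hxB
  obtain ⟨q, hq, hq'⟩ := exists_idem_lift hM (a := ε * liftC hM x) (by rw [hred]; exact hx)
  refine ⟨_, hq, ?_, hq'.trans hred⟩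
  rw [← mul_assoc, ← mul_assoc ε ε, hεi]

include hM in
/-- The value at the identity of a lifted idempotent is a natural number. -/
theorem exists_nat_hatC (χ : IrrCharacter A) {a : OGA hM A} (ha : IsIdempotentElem a) :
    ∃ n : ℕ, hatC hM (χ : A → ℂ) a 1 = (n : ℂ) := by
  have hI : a ∈ invAlg (locRing hM) (⊥ : Subgroup A) := mem_invAlg.2 fun h hh y => by
    rw [Subgroup.mem_bot.1 hh, one_mul, inv_one, mul_one]
  obtain ⟨n, ρ, hρ⟩ := isCharacter_hatC hM χ hI ha
  refine ⟨n, ?_⟩
  have h := congrFun hρ 1
  simp only [OneMemClass.coe_one] at h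
  rw [← h, Representation.char_one]
  simp

end Cfsg.Lib.Block
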