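import Cfsg.Agent.Lib.Block.Basic
import Mathlib.FieldTheory.IsAlgClosed.Basic
import Mathlib.RingTheory.IntegralClosure.Algebra.Basic

/-!
# The residue field is algebraically closed of characteristic `p`
-/

set_option autoImplicit false
set_option linter.unusedSectionVars false

namespace Cfsg.Lib.Block

open Cfsg Polynomial

variable {p : ℕ} {M : Ideal AlgInt} (hM : IsPModular p M)

/-- The reduction map on the algebraic integers. -/
noncomputable def resAlg : AlgInt →+* resField hM :=
  (resMap hM).comp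
    { toFun := fun a => ⟨(a : ℂ), algInt_mem_locRing hM a⟩
      map_one' := rfl
      map_mul' := fun _ _ => rfl
      map_zero' := rfl
      map_add' := fun _ _ => rfl }

theorem resAlg_apply (a : AlgInt) : resAlg hM a = res hM (a : ℂ) :=
  (res_of_mem hM (algInt_mem_locRing hM a)).symm

theorem resAlg_surjective : Function.Surjective (resAlg hM) := by
  intro x
  obtain ⟨⟨z, hz⟩, rfl⟩ := Ideal.Quotient.mk_surjective x
  obtain ⟨a, b, hb, rfl⟩ := hz
  obtain ⟨c, m, hm, hcm⟩ := hM.2.1.exists_inv hb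
  refine ⟨a * c, ?_⟩
  rw [resAlg_apply]
  show res hM ((a * c : AlgInt) : ℂ) = resMap hM ⟨(a : ℂ) / (b : ℂ), _⟩
  have hmem : (a : ℂ) / (b : ℂ) ∈ locRing hM := ⟨a, b, hb, rfl⟩
  refine Eq.trans ?_ (res_of_mem hM hmem)
  rw [res_eq_iff hM (algInt_mem_locRing hM _) hmem]
  have hb0 : (b : ℂ) ≠ 0 := ne_zero_of_not_mem hb
  refine ⟨-(a * m), b, M.neg_mem (M.mul_mem_left _ hm), hb, ?_⟩
  have h1 : (c : ℂ) * (b : ℂ) + (m : ℂ) = 1 := by exact_mod_cast congrArg Subtype.val hcm
  field_simp
  push_cast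
  linear_combination -(a : ℂ) * h1

theorem isAlgClosed_resField : IsAlgClosed (resField hM) := by
  refine IsAlgClosed.of_exists_root _ fun q hq hirr => ?_
  obtain ⟨Q, hQ, hdeg, hQm⟩ := Polynomial.lifts_and_degree_eq_and_monic
    ((Polynomial.mem_lifts q).2 (Polynomial.map_surjective _ (resAlg_surjective hM) q)) hq
  have hdeg0 : Q.degree ≠ 0 := by
    rw [hdeg]
    exact fun h => absurd h (Polynomial.degree_pos_of_irreducible hirr).ne'
  have hinj : Function.Injective (algebraMap AlgInt ℂ) := Subtype.val_injective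
  obtain ⟨z, hz⟩ := IsAlgClosed.exists_root (Q.map (algebraMap AlgInt ℂ)) (by
    rwa [Polynomial.degree_map_eq_of_injective hinj])
  have hzA : IsIntegral AlgInt z := ⟨Q, hQm, by rwa [Polynomial.IsRoot, Polynomial.eval_map] at hz⟩
  have hzi : IsIntegral ℤ z := isIntegral_trans z hzA
  refine ⟨resAlg hM ⟨z, hzi⟩, ?_⟩
  have h0 : Q.eval (⟨z, hzi⟩ : AlgInt) = 0 := by
    apply hinj
    rw [map_zero, ← Polynomial.eval_map_apply]
    exact hz
  show q.eval _ = 0
  rw [← hQ, Polynomial.eval_map, Polynomial.eval₂_at_apply, h0, map_zero]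

theorem charP_resField : CharP (resField hM) p := by
  refine ⟨fun n => ?_⟩
  rw [← res_natCast hM, res_eq_zero_iff hM (natCast_mem _ n), memLocalIdeal_natCast_iff hM]

end Cfsg.Lib.Block
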