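import Cfsg.Agent.Lib.Block.StarTrace
import Cfsg.Agent.Lib.Block.CyclicResidue
import Mathlib.Algebra.MonoidAlgebra.Module
import Mathlib.Algebra.MonoidAlgebra.MapDomain
import Mathlib.RingTheory.Polynomial.ScaleRoots
import Mathlib.RingTheory.IntegralClosure.Algebra.Basic

/-!
# Lifting idempotents from the group algebra over the residue field

Idempotents of `k[G]` invariant under a subgroup lift to invariant idempotents over the local
ring, and the twisted character sums of such a lift only depend on the reduction on a centralizer.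
-/

set_option autoImplicit false
set_option linter.unusedSectionVars false
set_option maxHeartbeats 800000

namespace Cfsg.Lib.Block

open Cfsg Polynomial
open scoped ComplexConjugate MonoidAlgebra

universe u

section Generic

variable {R : Type*} [CommRing R] {G : Type u} [Group G]

theorem coeff_mul_sum [Fintype G] (x y : R[G]) (g : G) :
    (x * y).coeff g = ∑ h : G, x.coeff h * y.coeff (h⁻¹ * g) := by
  classical
  rw [MonoidAlgebra.coeff_mul_antidiag x y g (Finset.univ.image fun h : G => (h, h⁻¹ * g))]
  · rw [Finset.sum_image fun a _ b _ h => congrArg Prod.fst h]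
  · rintro ⟨a, b⟩
    simp only [Finset.mem_image, Finset.mem_univ, true_and, Prod.mk.injEq]
    constructor
    · rintro ⟨h, rfl, rfl⟩
      exact mul_inv_cancel_left h g
    · intro h
      exact ⟨a, rfl, by rw [← h, inv_mul_cancel_left]⟩

theorem coeff_single_mul' (g : G) (x : R[G]) (y : G) :
    (MonoidAlgebra.single g 1 * x).coeff y = x.coeff (g⁻¹ * y) := by
  rw [MonoidAlgebra.coeff_single_mul_eq_mul_coeff (g⁻¹ * y) fun m _ =>
    eq_inv_mul_iff_mul_eq.symm, one_mul]

theorem coeff_mul_single' (g : G) (x : R[G]) (y : G) :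
    (x * MonoidAlgebra.single g 1).coeff y = x.coeff (y * g⁻¹) := by
  rw [MonoidAlgebra.coeff_mul_single_eq_coeff_mul (y * g⁻¹) fun m _ =>
    eq_mul_inv_iff_mul_eq.symm, mul_one]

/-- The elements of the group algebra fixed under conjugation by `H`. -/
noncomputable def invAlg (R : Type*) [CommRing R] (H : Subgroup G) : Subalgebra R R[G] :=
  Subalgebra.centralizer R ((fun h => MonoidAlgebra.single h (1 : R)) '' (H : Set G))

theorem mem_invAlg {H : Subgroup G} {x : R[G]} :
    x ∈ invAlg R H ↔ ∀ h ∈ H, ∀ y, x.coeff (h * y * h⁻¹) = x.coeff y := by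
  rw [invAlg, Subalgebra.mem_centralizer_iff]
  simp only [Set.forall_mem_image, SetLike.mem_coe]
  refine forall₂_congr fun h _ => ?_
  rw [← MonoidAlgebra.coeff_inj, Finsupp.ext_iff]
  constructor
  · intro e y
    have := e (h * y)
    rw [coeff_single_mul', coeff_mul_single', inv_mul_cancel_left] at this
    exact this.symm
  · intro e y
    rw [coeff_single_mul', coeff_mul_single']
    have := e (h⁻¹ * y)
    rw [mul_inv_cancel_left] at this
    exact this.symm

theorem invAlg_anti {H K : Subgroup G} (h : H ≤ K) : invAlg R K ≤ invAlg R H :=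
  fun _ hx => mem_invAlg.2 fun y hy => mem_invAlg.1 hx y (h hy)

theorem coeff_natCast_smul (n : ℕ) (x : R[G]) (g : G) :
    ((n : R) • x).coeff g = (n : R) * x.coeff g := rfl

end Generic

section Lift

variable {p : ℕ} {M : Ideal AlgInt} (hM : IsPModular p M) {G : Type u} [Group G]

/-- The group algebra over the local ring. -/
abbrev OGA (hM : IsPModular p M) (G : Type u) : Type u := MonoidAlgebra (locRing hM) G

/-- The group algebra over the residue field. -/
abbrev KGA (hM : IsPModular p M) (G : Type u) : Type u := MonoidAlgebra (resField hM) G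

/-- Reduction of the group algebra. -/
noncomputable def red : OGA hM G →+* KGA hM G := MonoidAlgebra.mapRingHom G (resMap hM)

theorem coeff_red (a : OGA hM G) (g : G) : (red hM a).coeff g = resMap hM (a.coeff g) :=
  MonoidAlgebra.coeff_mapRingHom _ _ _

include hM in
/-- A root of a monic polynomial over the local ring lies in the local ring. -/
theorem root_mem_locRing {f : (locRing hM)[X]} (hf : f.Monic) {z : ℂ}
    (hz : f.eval₂ (locRing hM).subtype z = 0) : z ∈ locRing hM := by
  classical
  have hden : ∀ i : ℕ, ∃ b : AlgInt, b ∉ M ∧ IsIntegral ℤ ((f.coeff i : ℂ) * (b : ℂ)) := by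
    intro i
    obtain ⟨a, b, hb, h⟩ := (f.coeff i).2
    refine ⟨b, hb, ?_⟩
    rw [← h, div_mul_cancel₀ _ (ne_zero_of_not_mem hb)]
    exact a.2
  choose d hd hdi using hden
  set n := f.natDegree with hn
  set b : AlgInt := ∏ i ∈ Finset.range n, d i with hb
  have hbM : b ∉ M := Finset.prod_induction _ (fun a => a ∉ M) (fun _ _ => mul_not_mem hM)
    (not_mem_one hM) fun i _ => hd i
  set q : ℂ[X] := (f.map (locRing hM).subtype).scaleRoots (b : ℂ) with hq
  have hfm : (f.map (locRing hM).subtype).Monic := hf.map _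
  have hdeg : (f.map (locRing hM).subtype).natDegree = n := hf.natDegree_map _
  have hroot : q.eval ((b : ℂ) * z) = 0 := by
    rw [hq, Polynomial.eval]
    refine scaleRoots_eval₂_eq_zero (RingHom.id ℂ) (r := z) ?_
    rw [eval₂_map, RingHom.id_comp]
    exact hz
  have hqm : q.Monic := (monic_scaleRoots_iff _).2 hfm
  have hlift : q ∈ lifts (algebraMap AlgInt ℂ) := by
    rw [lifts_iff_coeff_lifts]
    intro i
    suffices IsIntegral ℤ (q.coeff i) from ⟨⟨_, this⟩, rfl⟩
    rw [hq, coeff_scaleRoots, hdeg, coeff_map]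
    rcases lt_or_ge i n with hi | hi
    · obtain ⟨j, hj⟩ : ∃ j, n - i = j + 1 := ⟨n - i - 1, by omega⟩
      rw [hj, pow_succ']
      have hbi : (b : ℂ) = (d i : ℂ) * ((∏ l ∈ (Finset.range n).erase i, d l : AlgInt) : ℂ) := by
        rw [hb, ← Finset.mul_prod_erase _ _ (Finset.mem_range.2 hi)]
        rfl
      rw [show (locRing hM).subtype (f.coeff i) * ((b : ℂ) * (b : ℂ) ^ j) =
        ((f.coeff i : ℂ) * (d i : ℂ)) *
          (((∏ l ∈ (Finset.range n).erase i, d l : AlgInt) : ℂ) * (b : ℂ) ^ j) by
        rw [show (locRing hM).subtype (f.coeff i) = (f.coeff i : ℂ) from rfl]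
        conv_lhs => arg 2; arg 1; rw [hbi]
        ring]
      exact (hdi i).mul (IsIntegral.mul (Subtype.prop _) (IsIntegral.pow b.2 j))
    · rw [Nat.sub_eq_zero_of_le hi, pow_zero, mul_one]
      rcases eq_or_lt_of_le hi with rfl | hlt
      · rw [show f.coeff n = 1 from hf.coeff_natDegree, map_one]
        exact isIntegral_one
      · rw [coeff_eq_zero_of_natDegree_lt (hn ▸ hlt), map_zero]
        exact isIntegral_zero
  obtain ⟨Q, hQ, -, hQm⟩ := lifts_and_degree_eq_and_monic hlift hqm
  have hbz : IsIntegral AlgInt ((b : ℂ) * z) := ⟨Q, hQm, by rwa [← eval_map, hQ]⟩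
  have hzi : IsIntegral ℤ ((b : ℂ) * z) := isIntegral_trans _ hbz
  exact ⟨⟨_, hzi⟩, b, hbM, mul_div_cancel_left₀ z (ne_zero_of_not_mem hbM)⟩

theorem isCoprime_prod_X_sub_C {R : Type*} [CommRing R] (s t : Multiset R)
    (h : ∀ a ∈ s, ∀ b ∈ t, IsUnit (a - b)) :
    IsCoprime (s.map fun a => X - C a).prod (t.map fun a => X - C a).prod := by
  induction s using Multiset.induction_on with
  | empty => simp [isCoprime_one_left]
  | cons a s ih =>
    rw [Multiset.map_cons, Multiset.prod_cons]
    refine IsCoprime.mul_left ?_ (ih fun x hx => h x (Multiset.mem_cons_of_mem hx))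
    clear ih
    induction t using Multiset.induction_on with
    | empty => simp [isCoprime_one_right]
    | cons b t iht =>
      rw [Multiset.map_cons, Multiset.prod_cons]
      exact IsCoprime.mul_right
        (isCoprime_X_sub_C_of_isUnit_sub (h a (Multiset.mem_cons_self _ _) b
          (Multiset.mem_cons_self _ _)))
        (iht fun x hx y hy => h x hx y (Multiset.mem_cons_of_mem hy))

theorem aeval_idem {k A : Type*} [CommRing k] [Ring A] [Algebra k A] {x : A}
    (hx : IsIdempotentElem x) (f : k[X]) : x * aeval x f = f.eval 1 • x := by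
  induction f using Polynomial.induction_on' with
  | add f g hf hg => rw [map_add, mul_add, hf, hg, eval_add, add_smul]
  | monomial n c =>
    rw [aeval_monomial, eval_monomial, one_pow, mul_one, Algebra.smul_def,
      ← mul_assoc, ← Algebra.commutes, mul_assoc, ← pow_succ', hx.pow_succ_eq]

variable [Fintype G]

include hM in
/-- Idempotents lift, as polynomials without constant term in any preimage. -/
theorem exists_idem_lift {a : OGA hM G} (ha : IsIdempotentElem (red hM a)) :
    ∃ q : (locRing hM)[X], IsIdempotentElem (a * aeval a q) ∧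
      red hM (a * aeval a q) = red hM a := by
  classical
  haveI : Module.Finite (locRing hM) (OGA hM G) :=
    Module.Finite.of_basis (MonoidAlgebra.basis G (locRing hM))
  obtain ⟨π, hπm, hπ⟩ : IsIntegral (locRing hM) a := IsIntegral.of_finite _ _
  rw [← aeval_def] at hπ
  set ι := (locRing hM).subtype with hι
  have hsplit : (π.map ι).Splits := IsAlgClosed.splits _
  have hroots : ∀ z ∈ (π.map ι).roots, z ∈ locRing hM := fun z hz => by
    refine root_mem_locRing hM hπm ?_
    rw [← eval_map]
    exact (mem_roots'.1 hz).2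
  set R : Multiset (locRing hM) :=
    (π.map ι).roots.attach.map fun z => ⟨z.1, hroots z.1 z.2⟩ with hR
  have hπeq : π = (R.map fun z => X - C z).prod := by
    refine map_injective ι Subtype.val_injective ?_
    rw [Polynomial.map_multiset_prod, Multiset.map_map, hR, Multiset.map_map]
    conv_lhs => rw [hsplit.eq_prod_roots_of_monic (hπm.map ι)]
    rw [← Multiset.attach_map_val' (π.map ι).roots fun z => X - C z]
    congr 1
    refine Multiset.map_congr rfl fun z _ => ?_
    simp [hι]
  set S := R.filter fun z => z ∈ locIdeal hM with hS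
  set T := R.filter fun z => z ∉ locIdeal hM with hT
  set f0 : (locRing hM)[X] := (S.map fun z => X - C z).prod with hf0
  set f1 : (locRing hM)[X] := (T.map fun z => X - C z).prod with hf1
  have hf01 : f0 * f1 = π := by
    rw [hπeq, hf0, hf1, hS, hT, ← Multiset.prod_add, ← Multiset.map_add,
      Multiset.filter_add_not]
  have hcop : IsCoprime (((0 : locRing hM) ::ₘ S).map fun z => X - C z).prod f1 := by
    refine isCoprime_prod_X_sub_C _ _ fun x hx y hy => ?_
    have hy' := (Multiset.mem_filter.1 hy).2
    refine isUnit_of_not_mem_locIdeal hM fun hmem => hy' ?_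
    have hx' : x ∈ locIdeal hM := by
      rcases Multiset.mem_cons.1 hx with rfl | h
      · exact zero_mem _
      · exact (Multiset.mem_filter.1 h).2
    have := sub_mem hx' hmem
    rwa [sub_sub_cancel] at this
  rw [Multiset.map_cons, Multiset.prod_cons, map_zero, sub_zero, ← hf0] at hcop
  obtain ⟨U, V, hUV⟩ := hcop
  refine ⟨U * f0, ?_⟩
  have he : a * aeval a (U * f0) = aeval a (U * (X * f0)) := by
    rw [mul_left_comm U X, map_mul (aeval a) X, aeval_X]
  have hidem : IsIdempotentElem (aeval a (U * (X * f0))) := by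
    have h0 : aeval a ((U * (X * f0)) * (V * f1)) = 0 := by
      rw [show (U * (X * f0)) * (V * f1) = (U * X * V) * (f0 * f1) by ring, hf01, map_mul, hπ,
        mul_zero]
    have h1 : aeval a (U * (X * f0)) * aeval a (U * (X * f0)) +
        aeval a ((U * (X * f0)) * (V * f1)) = aeval a (U * (X * f0)) := by
      rw [← map_mul, ← map_add]
      congr 1
      linear_combination (U * (X * f0)) * hUV
    rwa [h0, add_zero] at h1
  refine ⟨by rw [he]; exact hidem, ?_⟩
  have hcomp : (red hM).comp (algebraMap (locRing hM) (OGA hM G)) =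
      (algebraMap (resField hM) (KGA hM G)).comp (resMap hM) := by
    refine RingHom.ext fun c => ?_
    simp [red, MonoidAlgebra.coe_algebraMap]
  have hred : ∀ f : (locRing hM)[X], red hM (aeval a f) = aeval (red hM a) (f.map (resMap hM)) := by
    intro f
    rw [aeval_def, aeval_def, hom_eval₂, hcomp, eval₂_map]
  rw [map_mul, hred, aeval_idem ha, eval_map]
  set ev : (locRing hM)[X] →+* resField hM := eval₂RingHom (resMap hM) 1 with hev
  show ev (U * f0) • red hM a = red hM a
  by_cases hx : red hM a = 0
  · rw [hx, smul_zero]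
  have hπ1 : ev π = 0 := by
    have h : red hM (a * aeval a π) = 0 := by rw [hπ, mul_zero, map_zero]
    rw [map_mul, hred, aeval_idem ha, eval_map] at h
    exact (smul_eq_zero.1 h).resolve_right hx
  have hf0ne : ev f0 ≠ 0 := by
    rw [hf0, map_multiset_prod, Multiset.map_map]
    refine Multiset.prod_ne_zero fun h => ?_
    obtain ⟨z, hz, h0⟩ := Multiset.mem_map.1 h
    have hz' : resMap hM z = 0 :=
      (resMap_eq_zero_iff hM).2 (Multiset.mem_filter.1 hz).2
    simp [hev, hz'] at h0
  have hf1' : ev f1 = 0 := by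
    rw [← hf01, map_mul] at hπ1
    exact (mul_eq_zero.1 hπ1).resolve_left hf0ne
  have h1 := congrArg ev hUV
  simp only [map_add, map_mul, map_one, hf1', mul_zero, add_zero] at h1
  rw [show ev X = 1 by simp [hev], one_mul] at h1
  rw [map_mul, h1, one_smul]

open Classical in
/-- A section of the reduction map. -/
noncomputable def resSec (z : resField hM) : locRing hM :=
  if z = 0 then 0 else
    Function.surjInv (f := resMap hM) Ideal.Quotient.mk_surjective z

theorem resMap_resSec (z : resField hM) : resMap hM (resSec hM z) = z := by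
  unfold resSec
  split_ifs with h
  · rw [h, map_zero]
  · exact Function.surjInv_eq Ideal.Quotient.mk_surjective z

/-- Coefficientwise preimage. -/
noncomputable def liftC (x : KGA hM G) : OGA hM G :=
  MonoidAlgebra.ofCoeff (Finsupp.equivFunOnFinite.symm fun g => resSec hM (x.coeff g))

theorem coeff_liftC (x : KGA hM G) (g : G) : (liftC hM x).coeff g = resSec hM (x.coeff g) := rfl

theorem red_liftC (x : KGA hM G) : red hM (liftC hM x) = x := by
  refine MonoidAlgebra.ext (Finsupp.ext fun g => ?_)
  rw [coeff_red, coeff_liftC, resMap_resSec]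

theorem liftC_mem_invAlg {H : Subgroup G} {x : KGA hM G} (hx : x ∈ invAlg (resField hM) H) :
    liftC hM x ∈ invAlg (locRing hM) H :=
  mem_invAlg.2 fun h hh y => by rw [coeff_liftC, coeff_liftC, mem_invAlg.1 hx h hh y]

theorem red_mem_invAlg {H : Subgroup G} {a : OGA hM G} (ha : a ∈ invAlg (locRing hM) H) :
    red hM a ∈ invAlg (resField hM) H :=
  mem_invAlg.2 fun h hh y => by rw [coeff_red, coeff_red, mem_invAlg.1 ha h hh y]

theorem aeval_mem_subalgebra {R A : Type*} [CommRing R] [Ring A] [Algebra R A]
    {S : Subalgebra R A} {a : A} (ha : a ∈ S) (q : R[X]) : aeval a q ∈ S := by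
  have h := aeval_subalgebra_coe q S ⟨a, ha⟩
  exact h ▸ Subtype.prop _

include hM in
/-- Invariant idempotents lift to invariant idempotents. -/
theorem exists_inv_idem_lift {H : Subgroup G} {x : KGA hM G}
    (hx : x ∈ invAlg (resField hM) H) (hi : IsIdempotentElem x) :
    ∃ e ∈ invAlg (locRing hM) H, IsIdempotentElem e ∧ red hM e = x := by
  obtain ⟨q, h1, h2⟩ := exists_idem_lift hM (a := liftC hM x) (by rwa [red_liftC])
  exact ⟨_, mul_mem (liftC_mem_invAlg hM hx) (aeval_mem_subalgebra (liftC_mem_invAlg hM hx) q),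
    h1, by rw [h2, red_liftC]⟩

include hM in
/-- An orthogonal idempotent lifts orthogonally to a given lift. -/
theorem exists_orth_idem_lift {H : Subgroup G} {e : OGA hM G} (he : e ∈ invAlg (locRing hM) H)
    (hei : IsIdempotentElem e) {x : KGA hM G} (hx : x ∈ invAlg (resField hM) H)
    (hi : IsIdempotentElem x) (h₁ : red hM e * x = 0) (h₂ : x * red hM e = 0) :
    ∃ f ∈ invAlg (locRing hM) H, IsIdempotentElem f ∧ red hM f = x ∧
      IsIdempotentElem (e + f) := by
  set a : OGA hM G := (1 - e) * liftC hM x * (1 - e) with ha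
  have haH : a ∈ invAlg (locRing hM) H :=
    mul_mem (mul_mem (sub_mem (one_mem _) he) (liftC_mem_invAlg hM hx)) (sub_mem (one_mem _) he)
  have hra : red hM a = x := by
    rw [ha, map_mul, map_mul, map_sub, map_one, red_liftC, sub_mul, one_mul, h₁, sub_zero, mul_sub,
      mul_one, h₂, sub_zero]
  obtain ⟨q, hq1, hq2⟩ := exists_idem_lift hM (a := a) (by rwa [hra])
  have h0 : e * (1 - e) = 0 := by rw [mul_sub, mul_one, hei.eq, sub_self]
  have h0' : (1 - e) * e = 0 := by rw [sub_mul, one_mul, hei.eq, sub_self]
  have hef : e * (a * aeval a q) = 0 := by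
    rw [← mul_assoc, ha, ← mul_assoc, ← mul_assoc, h0, zero_mul, zero_mul, zero_mul]
  have hfe : a * aeval a q * e = 0 := by
    have hc : a * aeval a q = aeval a q * a := by
      conv_lhs => arg 1; rw [← aeval_X (R := locRing hM) a]
      conv_rhs => arg 2; rw [← aeval_X (R := locRing hM) a]
      rw [← map_mul, ← map_mul, mul_comm]
    rw [hc, mul_assoc, ha, mul_assoc _ (1 - e) e, h0', mul_zero, mul_zero]
  refine ⟨_, mul_mem haH (aeval_mem_subalgebra haH q), hq1, hq2.trans hra, ?_⟩
  show _ * _ = _
  rw [add_mul, mul_add, mul_add, hei.eq, hq1.eq, hef, hfe, add_zero, zero_add]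

/-! ### Twisted character sums -/

/-- The value of the function `F` at the product of an element of the group ring with `g`. -/
noncomputable def hatC (F : G → ℂ) (a : OGA hM G) (g : G) : ℂ :=
  ∑ k : G, (a.coeff k : ℂ) * F (k * g)

theorem hatC_add (F : G → ℂ) (a b : OGA hM G) (g : G) :
    hatC hM F (a + b) g = hatC hM F a g + hatC hM F b g := by
  simp [hatC, add_mul, Finset.sum_add_distrib]

theorem hatC_zero (F : G → ℂ) (g : G) : hatC hM F (0 : OGA hM G) g = 0 := by simp [hatC]

theorem hatC_one (F : G → ℂ) (g : G) : hatC hM F (1 : OGA hM G) g = F g := by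
  classical
  rw [hatC, Finset.sum_eq_single (1 : G)]
  · simp
  · intro k _ hk
    simp [MonoidAlgebra.one_def, Finsupp.single_eq_of_ne hk]
  · simp

theorem coeff_idem {a : OGA hM G} (ha : IsIdempotentElem a) (g : G) :
    ∑ x : G, (a.coeff x : ℂ) * (a.coeff (x⁻¹ * g) : ℂ) = (a.coeff g : ℂ) := by
  conv_rhs => rw [← ha.eq, coeff_mul_sum]
  push_cast
  rfl

theorem card_mul_hatC {F : G → ℂ} (hF : IsClassFunction G F) (a : OGA hM G) (g : G) :
    (Nat.card G : ℂ) * hatC hM F a g =
      ∑ w : G, F w⁻¹ * ∑ x : G, (a.coeff (x * w⁻¹ * x⁻¹ * g⁻¹) : ℂ) := by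
  simp only [Finset.mul_sum]
  rw [Finset.sum_comm]
  rw [show (Nat.card G : ℂ) * hatC hM F a g = ∑ _x : G, hatC hM F a g by
    rw [Finset.sum_const, Finset.card_univ, Nat.card_eq_fintype_card, nsmul_eq_mul]]
  · simp only [Finset.mul_sum, hatC]
    refine (Finset.sum_congr rfl fun x _ => ?_).trans (Eq.refl _)
    refine Fintype.sum_equiv (((Equiv.mulRight g).trans (MulAut.conj x⁻¹).toEquiv).trans
      (Equiv.inv G)) _ _ fun k => ?_
    simp only [Equiv.trans_apply, Equiv.coe_mulRight, MulEquiv.toEquiv_eq_coe,
      MulEquiv.coe_toEquiv, MulAut.conj_apply, Equiv.inv_apply, inv_inv]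
    rw [show x * (x⁻¹ * (k * g) * x) * x⁻¹ * g⁻¹ = k by group]
    have e := hF (k * g) x⁻¹
    rw [inv_inv] at e
    rw [e, mul_comm]

variable [Fact p.Prime]

include hM in
/-- The twisted sums of invariant idempotents depend on the reduction on the centralizer. -/
theorem hatC_congr {F : G → ℂ} (hF : IsClassFunction G F) {g : G} {a b : OGA hM G}
    (ha : IsIdempotentElem a) (hb : IsIdempotentElem b)
    (hag : a ∈ invAlg (locRing hM) (Subgroup.zpowers g))
    (hbg : b ∈ invAlg (locRing hM) (Subgroup.zpowers g))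
    (h : ∀ c ∈ Subgroup.centralizer ({pPt p g} : Set G),
      (red hM a).coeff c = (red hM b).coeff c) :
    hatC hM F a g = hatC hM F b g := by
  refine mul_left_cancel₀ (Nat.cast_ne_zero.2 (Nat.card_pos (α := G)).ne' : (Nat.card G : ℂ) ≠ 0) ?_
  rw [card_mul_hatC hM hF, card_mul_hatC hM hF]
  refine Finset.sum_congr rfl fun w _ => congrArg _ ?_
  refine sum_shift_congr hM (fun x => (a.coeff x : ℂ)) (fun x => (b.coeff x : ℂ))
    (fun x => Subtype.prop _) (fun x => Subtype.prop _) (coeff_idem hM ha) (coeff_idem hM hb) g w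
    (fun z hz x => congrArg Subtype.val (mem_invAlg.1 hag z hz x))
    (fun z hz x => congrArg Subtype.val (mem_invAlg.1 hbg z hz x)) fun c hc => ?_
  have := h c hc
  rwa [coeff_red, coeff_red, resMap_eq_iff] at this

include hM in
/-- An idempotent pairs trivially with class functions vanishing on regular elements. -/
theorem hatC_one_eq_zero {F : G → ℂ} (hF : IsClassFunction G F)
    (hreg : ∀ y : G, IsPRegular p y → F y = 0) {a : OGA hM G} (ha : IsIdempotentElem a) :
    hatC hM F a 1 = 0 := by
  refine (mul_eq_zero.1 ?_).resolve_left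
    (Nat.cast_ne_zero.2 (Nat.card_pos (α := G)).ne' : (Nat.card G : ℂ) ≠ 0)
  rw [card_mul_hatC hM hF]
  refine Finset.sum_eq_zero fun w _ => ?_
  by_cases hw : IsPRegular p w
  · rw [hreg w⁻¹ (by rwa [IsPRegular, orderOf_inv]), zero_mul]
  · have e := sum_shift_eq_zero (G := G) hM (fun x => (a.coeff x : ℂ)) (fun x => Subtype.prop _)
      (coeff_idem hM ha) 1 w (fun x => by simp) fun x y hx _ => ?_
    · rw [e, mul_zero]
    · exfalso
      refine hw ?_
      rw [(pPt_eq_one_iff (1 : G)).2 (by simp [(Fact.out : p.Prime).ne_one]), one_mul] at hx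
      exact (pPt_eq_one_iff w).1 (by simpa using hx)

end Lift

end Cfsg.Lib.Block
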