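import Cfsg.Agent.Lib.Block.CyclicWitness
import Cfsg.Agent.Lib.Block.GroupRingLift
import Mathlib.RingTheory.Idempotents

/-!
# Modules of a block with one modular irreducible

When the rank of a block is one, all its simple modules are isomorphic.  An element of the block
killing the simple module is nilpotent, an idempotent of rank one lifts, and the rank of an
idempotent on a module of the block is proportional to the dimension of the module.
-/

set_option autoImplicit false
set_option linter.unusedSectionVars false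
set_option maxHeartbeats 1000000

namespace Cfsg.Lib.Block

open Cfsg
open scoped MonoidAlgebra

universe u v

variable {p : ℕ} [Fact p.Prime] {M : Ideal AlgInt} {A : Type u} [Group A] [Fintype A]
  (hM : IsPModular p M)

/-! ## Central vectors in the group algebra -/

/-- A central vector reduced in the group algebra. -/
noncomputable def cV (v : IrrCharacter A → ℂ) : KGA hM A :=
  MonoidAlgebra.ofCoeff (Finsupp.equivFunOnFinite.symm fun g => res hM (zc v g))

theorem coeff_cV (v : IrrCharacter A → ℂ) (g : A) : (cV hM v).coeff g = res hM (zc v g) := rfl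

open Classical in
/-- A central vector in the group algebra over the local ring. -/
noncomputable def oV (v : IrrCharacter A → ℂ) : OGA hM A :=
  MonoidAlgebra.ofCoeff (Finsupp.equivFunOnFinite.symm fun g =>
    haveI := Classical.dec (zc v g ∈ locRing hM)
    if h : zc v g ∈ locRing hM then ⟨zc v g, h⟩ else 0)

theorem coeff_oV {v : IrrCharacter A → ℂ} (hv : VInt hM v) (g : A) :
    ((oV hM v).coeff g : ℂ) = zc v g := by
  unfold oV
  simp [hv g]

theorem red_oV {v : IrrCharacter A → ℂ} (hv : VInt hM v) : red hM (oV hM v) = cV hM v :=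
  MonoidAlgebra.ext (Finsupp.ext fun g => by
    rw [coeff_red, coeff_cV, ← res_coe]
    rw [coeff_oV hM hv])

theorem oV_mul {v w : IrrCharacter A → ℂ} (hv : VInt hM v) (hw : VInt hM w) :
    oV hM (v * w) = oV hM v * oV hM w := by
  refine MonoidAlgebra.ext (Finsupp.ext fun g => Subtype.ext ?_)
  rw [coeff_oV hM (vInt_mul hM hv hw), coeff_mul_sum, zc_mul, AddSubmonoidClass.coe_finset_sum]
  refine Finset.sum_congr rfl fun x _ => ?_
  rw [Subring.coe_mul, coeff_oV hM hv, coeff_oV hM hw]

theorem cV_mul {v w : IrrCharacter A → ℂ} (hv : VInt hM v) (hw : VInt hM w) :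
    cV hM (v * w) = cV hM v * cV hM w := by
  rw [← red_oV hM (vInt_mul hM hv hw), oV_mul hM hv hw, map_mul, red_oV hM hv, red_oV hM hw]

theorem cV_one : cV hM (1 : IrrCharacter A → ℂ) = 1 := by
  classical
  refine MonoidAlgebra.ext (Finsupp.ext fun g => ?_)
  rw [coeff_cV, zc_one, MonoidAlgebra.one_def, MonoidAlgebra.coeff_single, Finsupp.single_apply]
  by_cases h : g = 1
  · rw [if_pos h, if_pos h.symm, res_one]
  · rw [if_neg h, if_neg (Ne.symm h), res_zero]

theorem cV_eq_zero_iff {v : IrrCharacter A → ℂ} (hv : VInt hM v) :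
    cV hM v = 0 ↔ VSmall M v := by
  refine ⟨fun h g => (res_eq_zero_iff hM (hv g)).1 ?_, fun h => MonoidAlgebra.ext (Finsupp.ext
    fun g => ?_)⟩
  · rw [← coeff_cV, h]; rfl
  · rw [coeff_cV]; exact (res_eq_zero_iff hM (hv g)).2 (h g)

theorem cV_commute (v : IrrCharacter A → ℂ) (x : KGA hM A) : Commute (cV hM v) x :=
  show cV hM v * x = x * cV hM v from MonoidAlgebra.ext (Finsupp.ext fun g => by
    rw [coeff_mul_sum, coeff_mul_sum]
    refine Fintype.sum_equiv ((Equiv.inv A).trans (Equiv.mulRight g)) _ _ fun a => ?_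
    simp only [Equiv.trans_apply, Equiv.inv_apply, Equiv.coe_mulRight, mul_inv_rev, inv_inv,
      coeff_cV]
    rw [mul_comm (res hM (zc v a))]
    congr 2
    conv_rhs => rw [show g⁻¹ * a * g = g⁻¹ * a * g⁻¹⁻¹ by rw [inv_inv]]
    exact (zc_conj_invariant v a g⁻¹).symm)

theorem oV_commute {v : IrrCharacter A → ℂ} (hv : VInt hM v) (x : OGA hM A) :
    Commute (oV hM v) x :=
  show oV hM v * x = x * oV hM v from MonoidAlgebra.ext (Finsupp.ext fun g => by
    rw [coeff_mul_sum, coeff_mul_sum]
    refine Fintype.sum_equiv ((Equiv.inv A).trans (Equiv.mulRight g)) _ _ fun a => Subtype.ext ?_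
    simp only [Equiv.trans_apply, Equiv.inv_apply, Equiv.coe_mulRight, mul_inv_rev, inv_inv,
      Subring.coe_mul, coeff_oV hM hv]
    rw [mul_comm (zc v a)]
    congr 1
    conv_rhs => rw [show g⁻¹ * a * g = g⁻¹ * a * g⁻¹⁻¹ by rw [inv_inv]]
    exact (zc_conj_invariant v a g⁻¹).symm)

/-- The idempotent of a block in the group algebra. -/
noncomputable def blkA (B : Set (IrrCharacter A)) : KGA hM A := cV hM (indVec B)

theorem blkA_idem {B : Set (IrrCharacter A)} (hB : IsPBlock M B) :
    IsIdempotentElem (blkA hM B) := by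
  have h := vInt_indVec hM hB
  rw [IsIdempotentElem, blkA, ← cV_mul hM h h, indVec_mul_indVec, Set.inter_self]

theorem blkA_ne_zero {B : Set (IrrCharacter A)} (hB : IsPBlock M B) : blkA hM B ≠ 0 := by
  intro h
  obtain ⟨χ, hχ⟩ := nonempty_of_isPBlock hM hB
  have := apply_mem_ideal hM ((cV_eq_zero_iff hM (vInt_indVec hM hB)).1 h) χ
  rw [indVec, if_pos hχ] at this
  exact not_memLocalIdeal_one hM this

/-- The left regular representation on the group algebra. -/
noncomputable def lmulRep : Representation (resField hM) A (KGA hM A) where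
  toFun g := LinearMap.mulLeft (resField hM) (MonoidAlgebra.single g 1)
  map_one' := LinearMap.ext fun x => one_mul x
  map_mul' g h := LinearMap.ext fun x => by
    rw [Module.End.mul_apply, LinearMap.mulLeft_apply, LinearMap.mulLeft_apply,
      LinearMap.mulLeft_apply, ← mul_assoc, MonoidAlgebra.single_mul_single, one_mul]

theorem lmulRep_asAlgebraHom (c x : KGA hM A) : (lmulRep hM).asAlgebraHom c x = c * x := by
  induction c using MonoidAlgebra.induction_on with
  | of g =>
    rw [MonoidAlgebra.of_apply, Representation.asAlgebraHom_single_one]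
    rfl
  | add f g hf hg => rw [map_add, LinearMap.add_apply, hf, hg, add_mul]
  | smul r f hf => rw [map_smul, LinearMap.smul_apply, hf, smul_mul_assoc]

theorem map_asAlgebraHom {k : Type} [Field k] {W W' : Type*} [AddCommGroup W] [Module k W]
    [AddCommGroup W'] [Module k W'] {ρ : Representation k A W} {ρ' : Representation k A W'}
    (φ : W →ₗ[k] W') (hφ : ∀ g x, φ (ρ g x) = ρ' g (φ x)) (c : k[A]) (x : W) :
    φ (ρ.asAlgebraHom c x) = ρ'.asAlgebraHom c (φ x) := by
  induction c using MonoidAlgebra.induction_on with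
  | of g =>
    rw [MonoidAlgebra.of_apply, Representation.asAlgebraHom_single_one,
      Representation.asAlgebraHom_single_one, hφ]
  | add f g hf hg => rw [map_add, map_add, LinearMap.add_apply, map_add, hf, hg, LinearMap.add_apply]
  | smul r f hf => rw [map_smul, map_smul, LinearMap.smul_apply, map_smul, hf, LinearMap.smul_apply]

theorem asAlgebraHom_blkA {B : Set (IrrCharacter A)} {W : Type*} [AddCommGroup W]
    [Module (resField hM) W] (ρ : Representation (resField hM) A W) :
    ρ.asAlgebraHom (blkA hM B) = blockOp hM B ρ := by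
  rw [← MonoidAlgebra.sum_coeff_single (blkA hM B)]
  rw [Finsupp.sum_fintype _ _ (fun g => by simp), map_sum, blockOp]
  refine Finset.sum_congr rfl fun g _ => ?_
  rw [Representation.asAlgebraHom_single, blkA, coeff_cV, zc_indVec]

/-- A proper invariant subspace of a reducible nonzero module. -/
theorem exists_sub_of_not_irreducible {k : Type} [Field k] {W : Type v} [AddCommGroup W]
    [Module k W] [Nontrivial W] {ρ : Representation k A W} (h : ¬ ρ.IsIrreducible) :
    ∃ U : Submodule k W, (∀ g, ∀ x ∈ U, ρ g x ∈ U) ∧ U ≠ ⊥ ∧ U ≠ ⊤ := by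
  by_contra h'
  refine h ((Cfsg.Lib.Char.isIrreducible_iff_submodule ρ).2 ⟨inferInstance, fun U hi => ?_⟩)
  by_contra h''
  rw [not_or] at h''
  exact h' ⟨U, hi, h''⟩

variable {B : Set (IrrCharacter A)}

/-- An element killing every simple module of the block acts nilpotently on all its modules. -/
theorem pow_finrank_eq_zero {c : KGA hM A}
    (hc : ∀ (n : ℕ) (σ : Representation (resField hM) A (Fin n → resField hM)),
      σ.IsIrreducible → blockOp hM B σ = 1 → σ.asAlgebraHom c = 0) :
    ∀ (m : ℕ) {W : Type v} [AddCommGroup W] [Module (resField hM) W]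
      [FiniteDimensional (resField hM) W] (ρ : Representation (resField hM) A W),
      Module.finrank (resField hM) W = m → blockOp hM B ρ = 1 →
      ρ.asAlgebraHom c ^ m = 0 := by
  classical
  intro m
  induction m using Nat.strong_induction_on with
  | _ m ih =>
    intro W _ _ _ ρ hm hb
    rcases subsingleton_or_nontrivial W with hW | hW
    · exact LinearMap.ext fun x => Subsingleton.elim _ _
    have hm0 : m ≠ 0 := by
      rw [← hm]
      exact Module.finrank_pos.ne'
    by_cases hirr : ρ.IsIrreducible
    · obtain ⟨n, σ, e, he, hσ⟩ := exists_coordinates ρ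
      have h0 := hc n σ (hσ hirr)
        (blockOp_eq_one_of_surjective hM (φ := e.toLinearMap) e.surjective he hb)
      have : ρ.asAlgebraHom c = 0 := LinearMap.ext fun x => e.injective (by
        rw [← LinearEquiv.coe_coe, map_asAlgebraHom e.toLinearMap he, h0]; simp)
      rw [this, zero_pow hm0]
    obtain ⟨U, hinv, hU0, hU⟩ := exists_sub_of_not_irreducible hirr
    have hsum := Submodule.finrank_quotient_add_finrank U
    have hq : 0 < Module.finrank (resField hM) (W ⧸ U) := Module.finrank_pos_iff.2
      (Submodule.Quotient.nontrivial_iff.2 hU)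
    have hu : 0 < Module.finrank (resField hM) U := by
      rw [Nat.pos_iff_ne_zero, ne_eq, Submodule.finrank_eq_zero]
      exact hU0
    have h1 := ih (Module.finrank (resField hM) (W ⧸ U)) (by omega) (quotRep ρ U hinv) rfl
      (blockOp_eq_one_of_surjective hM (φ := U.mkQ) U.mkQ_surjective (quotRep_mkQ ρ U hinv) hb)
    have h2 := ih (Module.finrank (resField hM) U) (by omega) (subRep ρ U hinv) rfl
      (blockOp_eq_one_of_injective hM (φ := U.subtype) U.injective_subtype
        (subRep_subtype ρ U hinv) hb)
    refine LinearMap.ext fun x => ?_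
    have hxU : (ρ.asAlgebraHom c ^ Module.finrank (resField hM) (W ⧸ U)) x ∈ U := by
      rw [← Submodule.Quotient.mk_eq_zero, ← Submodule.mkQ_apply, ← map_pow,
        map_asAlgebraHom _ (quotRep_mkQ ρ U hinv), map_pow, h1, LinearMap.zero_apply]
    have h3 := congrArg (fun f => U.subtype (f ⟨_, hxU⟩)) h2
    simp only [← map_pow (subRep ρ U hinv).asAlgebraHom] at h3
    rw [map_asAlgebraHom U.subtype (subRep_subtype ρ U hinv), LinearMap.zero_apply, map_zero,
      Submodule.subtype_apply, map_pow] at h3
    rw [show m = Module.finrank (resField hM) U + Module.finrank (resField hM) (W ⧸ U) by omega,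
      pow_add, Module.End.mul_apply, LinearMap.zero_apply]
    exact h3

theorem finrank_range_sub_quot {k : Type} [Field k] {W : Type v} [AddCommGroup W] [Module k W]
    [FiniteDimensional k W] (U : Submodule k W) {f : Module.End k W} (hf : f * f = f)
    (g : Module.End k U) (hg : ∀ x : U, (g x : W) = f x) (h : Module.End k (W ⧸ U))
    (hh : ∀ x : W, h (U.mkQ x) = U.mkQ (f x)) :
    Module.finrank k (LinearMap.range f) =
      Module.finrank k (LinearMap.range g) + Module.finrank k (LinearMap.range h) := by
  set R := LinearMap.range f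
  set q : R →ₗ[k] W ⧸ U := U.mkQ ∘ₗ R.subtype with hq
  have hr : LinearMap.range q = LinearMap.range h := by
    ext y
    constructor
    · rintro ⟨⟨_, w, rfl⟩, rfl⟩
      exact ⟨U.mkQ w, hh w⟩
    · rintro ⟨y, rfl⟩
      obtain ⟨w, rfl⟩ := U.mkQ_surjective y
      exact ⟨⟨f w, w, rfl⟩, (hh w).symm⟩
  have hk : (LinearMap.ker q).map R.subtype = (LinearMap.range g).map U.subtype := by
    ext y
    constructor
    · rintro ⟨⟨y, w, hw⟩, hy, rfl⟩
      have hyU : y ∈ U := (Submodule.Quotient.mk_eq_zero U).1 hy
      refine ⟨g ⟨y, hyU⟩, ⟨_, rfl⟩, ?_⟩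
      show (g ⟨y, hyU⟩ : W) = y
      rw [hg]
      show f y = y
      rw [← hw, ← Module.End.mul_apply, hf]
    · rintro ⟨_, ⟨x, rfl⟩, rfl⟩
      refine ⟨⟨f x, x, rfl⟩, (Submodule.Quotient.mk_eq_zero U).2 ?_, (hg x).symm⟩
      show f x ∈ U
      rw [← hg]
      exact (g x).2
  rw [← q.finrank_range_add_finrank_ker, hr, ← Submodule.finrank_map_subtype_eq R (LinearMap.ker q),
    hk, Submodule.finrank_map_subtype_eq, add_comm]

/-- The rank of an idempotent on a module of a block with one simple module. -/
theorem finrank_range_mul {x : KGA hM A} (hx : IsIdempotentElem x) {n₀ r : ℕ}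
    (hone : ∀ (n : ℕ) (σ : Representation (resField hM) A (Fin n → resField hM)),
      σ.IsIrreducible → blockOp hM B σ = 1 →
        n = n₀ ∧ Module.finrank (resField hM) (LinearMap.range (σ.asAlgebraHom x)) = r) :
    ∀ (m : ℕ) {W : Type v} [AddCommGroup W] [Module (resField hM) W]
      [FiniteDimensional (resField hM) W] (ρ : Representation (resField hM) A W),
      Module.finrank (resField hM) W = m → blockOp hM B ρ = 1 →
      Module.finrank (resField hM) (LinearMap.range (ρ.asAlgebraHom x)) * n₀ = m * r := by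
  classical
  intro m
  induction m using Nat.strong_induction_on with
  | _ m ih =>
    intro W _ _ _ ρ hm hb
    rcases subsingleton_or_nontrivial W with hW | hW
    · rw [← hm, Module.finrank_zero_of_subsingleton, Module.finrank_zero_of_subsingleton,
        zero_mul, zero_mul]
    by_cases hirr : ρ.IsIrreducible
    · obtain ⟨n, σ, e, he, hσ⟩ := exists_coordinates ρ
      obtain ⟨hn, hr⟩ := hone n σ (hσ hirr)
        (blockOp_eq_one_of_surjective hM (φ := e.toLinearMap) e.surjective he hb)
      have h1 : (LinearMap.range (ρ.asAlgebraHom x)).map e.toLinearMap =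
          LinearMap.range (σ.asAlgebraHom x) := by
        rw [← LinearMap.range_comp]
        rw [show e.toLinearMap ∘ₗ ρ.asAlgebraHom x = σ.asAlgebraHom x ∘ₗ e.toLinearMap from
          LinearMap.ext fun y => map_asAlgebraHom e.toLinearMap he x y]
        exact LinearMap.range_comp_of_range_eq_top _ (LinearMap.range_eq_top.2 e.surjective)
      rw [← LinearEquiv.finrank_map_eq e, h1, hr, mul_comm, ← hn, ← hm, e.finrank_eq,
        Module.finrank_fintype_fun_eq_card, Fintype.card_fin]
    obtain ⟨U, hinv, hU0, hU⟩ := exists_sub_of_not_irreducible hirr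
    have hsum := Submodule.finrank_quotient_add_finrank U
    have hq : 0 < Module.finrank (resField hM) (W ⧸ U) := Module.finrank_pos_iff.2
      (Submodule.Quotient.nontrivial_iff.2 hU)
    have hu : 0 < Module.finrank (resField hM) U := by
      rw [Nat.pos_iff_ne_zero, ne_eq, Submodule.finrank_eq_zero]
      exact hU0
    have h1 := ih (Module.finrank (resField hM) (W ⧸ U)) (by omega) (quotRep ρ U hinv) rfl
      (blockOp_eq_one_of_surjective hM (φ := U.mkQ) U.mkQ_surjective (quotRep_mkQ ρ U hinv) hb)
    have h2 := ih (Module.finrank (resField hM) U) (by omega) (subRep ρ U hinv) rfl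
      (blockOp_eq_one_of_injective hM (φ := U.subtype) U.injective_subtype
        (subRep_subtype ρ U hinv) hb)
    rw [finrank_range_sub_quot U (by rw [← map_mul, hx.eq])
        ((subRep ρ U hinv).asAlgebraHom x)
        (fun y => map_asAlgebraHom U.subtype (subRep_subtype ρ U hinv) x y)
        ((quotRep ρ U hinv).asAlgebraHom x)
        (fun y => (map_asAlgebraHom U.mkQ (quotRep_mkQ ρ U hinv) x y).symm),
      add_mul, h1, h2, ← hm, ← hsum]
    ring

/-! ## Blocks with one modular irreducible -/

variable (hB : IsPBlock M B)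

/-- The action on the regular module of a block, as a submodule of the group algebra. -/
noncomputable def blkPart : Submodule (resField hM) (KGA hM A) :=
  LinearMap.range (LinearMap.mulLeft (resField hM) (blkA hM B))

include hB in
theorem mem_blkPart {x : KGA hM A} : x ∈ blkPart hM (B := B) ↔ blkA hM B * x = x := by
  refine ⟨?_, fun h => ⟨x, h⟩⟩
  rintro ⟨y, rfl⟩
  rw [LinearMap.mulLeft_apply, ← mul_assoc, (blkA_idem hM hB).eq]

include hB in
theorem blkPart_invariant (g : A) : ∀ x ∈ blkPart hM (B := B), lmulRep hM g x ∈ blkPart hM (B := B) := by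
  intro x hx
  rw [mem_blkPart hM hB] at hx ⊢
  show blkA hM B * (MonoidAlgebra.single g 1 * x) = MonoidAlgebra.single g 1 * x
  rw [← mul_assoc, blkA, (cV_commute hM (indVec B) (MonoidAlgebra.single g 1)).eq, mul_assoc]
  exact congrArg _ hx

include hB in
theorem blockOp_blkPart :
    blockOp hM B (subRep (lmulRep hM) (blkPart hM (B := B)) (blkPart_invariant hM hB)) = 1 := by
  refine LinearMap.ext fun x => Subtype.ext ?_
  rw [← asAlgebraHom_blkA, ← Submodule.subtype_apply,
    map_asAlgebraHom (Submodule.subtype _) (subRep_subtype (lmulRep hM) _ (blkPart_invariant hM hB)),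
    lmulRep_asAlgebraHom, Submodule.subtype_apply, Module.End.one_apply]
  exact (mem_blkPart hM hB).1 x.2

include hB in
/-- An element killing every simple module of the block is nilpotent on the block. -/
theorem exists_pow_mul_eq_zero {c : KGA hM A}
    (hc : ∀ (n : ℕ) (σ : Representation (resField hM) A (Fin n → resField hM)),
      σ.IsIrreducible → blockOp hM B σ = 1 → σ.asAlgebraHom c = 0) :
    ∃ N : ℕ, 0 < N ∧ c ^ N * blkA hM B = 0 := by
  have h := pow_finrank_eq_zero hM hc _ _ rfl (blockOp_blkPart hM hB)
  have hmem : blkA hM B ∈ blkPart hM (B := B) := (mem_blkPart hM hB).2 (blkA_idem hM hB).eq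
  refine ⟨Module.finrank (resField hM) (blkPart hM (B := B)) + 1, Nat.succ_pos _, ?_⟩
  have h1 := congrArg (fun f => (Submodule.subtype _) (f ⟨_, hmem⟩)) h
  simp only [← map_pow] at h1
  rw [map_asAlgebraHom (Submodule.subtype _) (subRep_subtype (lmulRep hM) _
      (blkPart_invariant hM hB)), LinearMap.zero_apply, map_zero, lmulRep_asAlgebraHom,
    Submodule.subtype_apply] at h1
  rw [pow_succ', mul_assoc]
  exact (congrArg (c * ·) h1).trans (mul_zero c)

include hB in
/-- A block has a simple module. -/
theorem exists_simple : ∃ (n : ℕ) (σ : Representation (resField hM) A (Fin n → resField hM)),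
    σ.IsIrreducible ∧ blockOp hM B σ = 1 := by
  by_contra h
  obtain ⟨N, hN, he⟩ := exists_pow_mul_eq_zero hM hB (c := 1)
    fun n σ hi hb => absurd ⟨n, σ, hi, hb⟩ h
  rw [one_pow, one_mul] at he
  exact blkA_ne_zero hM hB he

variable (hl : blockRank p B ≤ 1) {m : ℕ}
  {σ : Representation (resField hM) A (Fin m → resField hM)}
  (hσ : σ.IsIrreducible) (hσb : blockOp hM B σ = 1)

include hB hl hσ hσb in
/-- Only one simple module. -/
theorem simple_equiv {n : ℕ} (τ : Representation (resField hM) A (Fin n → resField hM))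
    (hτ : τ.IsIrreducible) (hτb : blockOp hM B τ = 1) : Nonempty (σ.Equiv τ) := by
  classical
  by_contra hne
  let nn : ULift.{u} Bool → ℕ := fun b => match b.down with | true => m | false => n
  let ρ : ∀ b : ULift.{u} Bool,
      Representation (resField hM) A (Fin (nn b) → resField hM) := fun b =>
    match b with | ⟨true⟩ => σ | ⟨false⟩ => τ
  have h := card_simples_le_blockRank hM hB ρ
    (fun b => match b with | ⟨true⟩ => hσ | ⟨false⟩ => hτ)
    (fun i j hij => match i, j, hij with
      | ⟨true⟩, ⟨false⟩, _ => ⟨fun e => hne ⟨e⟩⟩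
      | ⟨false⟩, ⟨true⟩, _ => ⟨fun e => hne ⟨e.symm⟩⟩
      | ⟨true⟩, ⟨true⟩, h => absurd rfl h
      | ⟨false⟩, ⟨false⟩, h => absurd rfl h)
    (fun b => match b with | ⟨true⟩ => hσb | ⟨false⟩ => hτb)
  simp at h
  omega

include hB hl hσ hσb in
theorem simple_data {n : ℕ} (τ : Representation (resField hM) A (Fin n → resField hM))
    (hτ : τ.IsIrreducible) (hτb : blockOp hM B τ = 1) :
    ∃ e : (Fin m → resField hM) ≃ₗ[resField hM] (Fin n → resField hM),
      ∀ g x, e (σ g x) = τ g (e x) := by
  obtain ⟨e⟩ := simple_equiv hM hB hl hσ hσb τ hτ hτb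
  exact ⟨e.toLinearEquiv, fun g x => LinearMap.congr_fun (e.isIntertwining' g) x⟩

include hB hl hσ hσb in
/-- An element killing the simple module is nilpotent on the block. -/
theorem exists_pow_eq_zero_of_simple {c : KGA hM A} (hc : σ.asAlgebraHom c = 0) :
    ∃ N : ℕ, 0 < N ∧ c ^ N * blkA hM B = 0 := by
  refine exists_pow_mul_eq_zero hM hB fun n τ hτ hτb => ?_
  obtain ⟨e, he⟩ := simple_data hM hB hl hσ hσb τ hτ hτb
  refine LinearMap.ext fun x => ?_
  obtain ⟨y, rfl⟩ := e.surjective x
  rw [← LinearEquiv.coe_coe, ← map_asAlgebraHom e.toLinearMap he, hc]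
  simp

include hB hl hσ hσb in
/-- The rank of an idempotent is proportional to the dimension. -/
theorem finrank_range_simple {x : KGA hM A} (hx : IsIdempotentElem x) {W : Type v}
    [AddCommGroup W] [Module (resField hM) W] [FiniteDimensional (resField hM) W]
    (ρ : Representation (resField hM) A W) (hb : blockOp hM B ρ = 1) :
    Module.finrank (resField hM) (LinearMap.range (ρ.asAlgebraHom x)) * m =
      Module.finrank (resField hM) W *
        Module.finrank (resField hM) (LinearMap.range (σ.asAlgebraHom x)) := by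
  refine finrank_range_mul hM hx (fun n τ hτ hτb => ?_) _ ρ rfl hb
  obtain ⟨e, he⟩ := simple_data hM hB hl hσ hσb τ hτ hτb
  refine ⟨by simpa using e.finrank_eq.symm, ?_⟩
  rw [← LinearEquiv.finrank_map_eq e (LinearMap.range (σ.asAlgebraHom x)), ← LinearMap.range_comp,
    show e.toLinearMap ∘ₗ σ.asAlgebraHom x = τ.asAlgebraHom x ∘ₗ e.toLinearMap from
      LinearMap.ext fun y => map_asAlgebraHom e.toLinearMap he x y,
    LinearMap.range_comp_of_range_eq_top _ (LinearMap.range_eq_top.2 e.surjective)]

include hB hl hσ hσb in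
/-- An idempotent of the block of rank one on the simple module. -/
theorem exists_rank_one_idem (i₀ : Fin m) : ∃ e : KGA hM A, IsIdempotentElem e ∧
    e * blkA hM B = e ∧ blkA hM B * e = e ∧
    σ.asAlgebraHom e = (LinearMap.proj i₀).smulRight (Pi.single i₀ (1 : resField hM)) := by
  haveI := isAlgClosed_resField hM
  set E : Module.End (resField hM) (Fin m → resField hM) :=
    (LinearMap.proj i₀).smulRight (Pi.single i₀ (1 : resField hM)) with hE
  obtain ⟨a, ha⟩ := exists_acts_as (ι := PUnit.{u + 1}) (fun _ => σ) (fun _ => hσ)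
    (fun i j h => absurd (Subsingleton.elim i j) h) (fun _ => E)
  set x : KGA hM A := a * blkA hM B with hx
  have hEE : E * E = E := LinearMap.ext fun y => by simp [hE]
  have hxσ : σ.asAlgebraHom x = E := by
    rw [hx, map_mul, asAlgebraHom_blkA, hσb, mul_one, ha PUnit.unit]
  obtain ⟨N, hN, hnil⟩ := exists_pow_eq_zero_of_simple hM hB hl hσ hσb (c := x - x ^ 2)
    (by rw [map_sub, map_pow, hxσ, pow_two, hEE, sub_self])
  have hcomm := cV_commute hM (indVec B)
  have hxB : x * blkA hM B = x := by rw [hx, mul_assoc, (blkA_idem hM hB).eq]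
  have hn : (x - x ^ 2) ^ N = 0 := by
    obtain ⟨N', rfl⟩ := Nat.exists_eq_add_one.2 hN
    rw [pow_succ, mul_assoc] at hnil
    rw [pow_succ]
    have h1 : (x - x ^ 2) * blkA hM B = x - x ^ 2 := by
      rw [sub_mul, pow_two, mul_assoc x x, hxB]
    rwa [h1] at hnil
  set e : KGA hM A := 1 - (1 - x ^ N) ^ N with he
  have hidem : IsIdempotentElem e := isIdempotentElem_one_sub_one_sub_pow_pow x N hn
  have heB : e * blkA hM B = e := by
    obtain ⟨N', hN'⟩ := Nat.exists_eq_add_one.2 hN
    have h1 : e = (∑ i ∈ Finset.range N, (1 - x ^ N) ^ i) * x ^ N := by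
      have h2 := geom_sum_mul_neg (1 - x ^ N) N
      rw [sub_sub_cancel] at h2
      rw [h2, he]
    rw [h1, mul_assoc, hN', pow_succ x, mul_assoc, hxB]
  refine ⟨e, hidem, heB, (hcomm e).eq.trans heB, ?_⟩
  have hEn : E ^ N = E := by
    obtain ⟨N', rfl⟩ := Nat.exists_eq_add_one.2 hN
    exact IsIdempotentElem.pow_succ_eq N' hEE
  have h1E : IsIdempotentElem (1 - E) := IsIdempotentElem.one_sub hEE
  obtain ⟨N', hN'⟩ := Nat.exists_eq_add_one.2 hN
  rw [he, map_sub, map_one, map_pow, map_sub, map_one, map_pow, hxσ, hEn, hN',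
    IsIdempotentElem.pow_succ_eq N' h1E, sub_sub_cancel]

end Cfsg.Lib.Block
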