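import Cfsg.Agent.Lib.Block.StarProduct
import Cfsg.Agent.Lib.Block.BlockTrace
import Cfsg.Agent.Lib.Block.SectionCount
import Cfsg.Agent.Lib.Char.SignedIrr

/-!
# The star product permutes the characters of a block

The star product of a character of the block is again an irreducible character of the block,
of the same degree, and the products compose as the linear characters multiply.
-/

set_option autoImplicit false
set_option linter.unusedSectionVars false
set_option maxHeartbeats 1600000

namespace Cfsg.Lib.Block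

open Cfsg
open scoped ComplexConjugate MonoidAlgebra

universe u

variable {p : ℕ} {M : Ideal AlgInt} (hM : IsPModular p M) {G : Type u} [Group G] [Fintype G]
  [Fact p.Prime]

noncomputable local instance (priority := high) fintypeSubgroupStarNorm {A : Type u} [Group A]
    [Fintype A] (H : Subgroup A) : Fintype H := Fintype.ofFinite H

local notation "C[" Q "]" => Subgroup.centralizer (SetLike.coe Q)

theorem commute_mem_cen (u : G) (h : C[Subgroup.zpowers u]) : Commute u (h : G) :=
  Subgroup.mem_centralizer_iff.1 h.2 u (Subgroup.mem_zpowers u)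

theorem centralizer_singleton_le (u : G) :
    Subgroup.centralizer ({u} : Set G) ≤ C[Subgroup.zpowers u] :=
  (centralizer_singleton_eq u).le

theorem isClassFunction_secFn' {F : G → ℂ} (hF : IsClassFunction G F) (u : G) :
    IsClassFunction C[Subgroup.zpowers u] (secFn u C[Subgroup.zpowers u] F) := fun c d => by
  have e : u * ((d : G) * (c : G) * (d : G)⁻¹) = (d : G) * (u * (c : G)) * (d : G)⁻¹ := by
    rw [← mul_assoc, ← mul_assoc, (commute_mem_cen u d).eq]
    simp only [mul_assoc]
  simp only [secFn, Subgroup.coe_mul, InvMemClass.coe_inv, e]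
  exact hF _ _

section BlockParts

variable {A : Type u} [Group A] [Fintype A]

open Classical in
theorem blockPart_eq_inner_sum (b : Set (IrrCharacter A)) (θ : A → ℂ) (y : A) :
    blockPart b θ y =
      ∑ η : IrrCharacter A, if η ∈ b then classInner θ (η : A → ℂ) * (η : A → ℂ) y else 0 := by
  simp only [blockPart, finsum_mem_eq_finite_toFinset_sum _ (Set.toFinite b)]
  rw [← Finset.sum_filter]
  refine Finset.sum_congr (by ext; simp) fun η _ => ?_
  congr 1
  simp only [classInner]
  congr 1
  exact Finset.sum_congr (by ext; simp) fun _ _ => rfl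

include hM in
theorem sum_blocksOf_blockPart {θ : A → ℂ} (hθ : IsClassFunction A θ) (y : A) :
    ∑ b ∈ blocksOf M A, blockPart b θ y = θ y := by
  classical
  simp only [blockPart_eq_inner_sum]
  rw [Finset.sum_comm]
  conv_rhs => rw [Char.eq_sum_classInner hθ, Finset.sum_apply]
  refine Finset.sum_congr rfl fun η _ => ?_
  rw [Finset.sum_eq_single_of_mem (blockOf M (η : A → ℂ))
    ((mem_blocksOf hM).2 (isPBlock_blockOf η)) fun b hb hne => if_neg fun h =>
      hne (eq_blockOf_of_mem hM ((mem_blocksOf hM).1 hb) h), if_pos (self_mem_blockOf hM η)]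
  rfl

include hM in
theorem blockPart_congr_reg {b : Set (IrrCharacter A)} (hb : IsPBlock M b) {θ θ' : A → ℂ}
    (h : ∀ y, IsPRegular p y → θ y = θ' y) {y : A} (hy : IsPRegular p y) :
    blockPart b θ y = blockPart b θ' y := by
  rw [blockPart_eq_regKer_sum, blockPart_eq_regKer_sum]
  congr 1
  refine Finset.sum_congr rfl fun g _ => ?_
  by_cases hg : IsPRegular p g
  · rw [h g hg]
  · rw [regKer_eq_zero hM (vInt_indVec hM hb) hy hg, mul_zero, mul_zero]

theorem blockPart_sum_smul {ι : Type*} (s : Finset ι) (c : ι → ℂ) (θ : ι → A → ℂ)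
    (b : Set (IrrCharacter A)) (y : A) :
    blockPart b (fun z => ∑ i ∈ s, c i * θ i z) y = ∑ i ∈ s, c i * blockPart b (θ i) y := by
  classical
  simp only [blockPart_eq_regKer_sum, Finset.mul_sum, Finset.sum_mul]
  rw [Finset.sum_comm]
  exact Finset.sum_congr rfl fun i _ => Finset.sum_congr rfl fun z _ => by ring

theorem classInner_blockPart (b : Set (IrrCharacter A)) (θ : A → ℂ) (η : IrrCharacter A)
    [Decidable (η ∈ b)] :
    classInner (blockPart b θ) (η : A → ℂ) =
      if η ∈ b then classInner θ (η : A → ℂ) else 0 := by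
  classical
  have e : blockPart b θ = ∑ ξ : IrrCharacter A,
      (if ξ ∈ b then classInner θ (ξ : A → ℂ) else 0) • (ξ : A → ℂ) := by
    funext y
    rw [blockPart_eq_inner_sum, Finset.sum_apply]
    exact Finset.sum_congr rfl fun ξ _ => by split_ifs <;> simp
  rw [e, Char.classInner_sum_left, Finset.sum_eq_single η, Char.classInner_smul_left,
    Char.classInner_irr_self η.2, mul_one]
  · congr
  · intro ξ _ hne
    rw [Char.classInner_smul_left, Char.classInner_irr_ne ξ.2 η.2 fun h => hne (Subtype.ext h),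
      mul_zero]
  · exact fun h => absurd (Finset.mem_univ η) h

theorem blockPart_blockPart_self (b : Set (IrrCharacter A)) (θ : A → ℂ) (y : A) :
    blockPart b (blockPart b θ) y = blockPart b θ y := by
  classical
  rw [blockPart_eq_inner_sum, blockPart_eq_inner_sum b θ]
  exact Finset.sum_congr rfl fun η _ => by
    split_ifs with h
    · rw [classInner_blockPart, if_pos h]
    · rfl

include hM in
theorem blockPart_blockPart_ne {b b' : Set (IrrCharacter A)} (hb : IsPBlock M b)
    (hb' : IsPBlock M b') (hne : b ≠ b') (θ : A → ℂ) (y : A) :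
    blockPart b (blockPart b' θ) y = 0 := by
  classical
  rw [blockPart_eq_inner_sum]
  refine Finset.sum_eq_zero fun η _ => ?_
  split_ifs with h
  · rw [classInner_blockPart, if_neg fun h' => hne (isPBlock_eq_of_mem hM hb hb' h h'), zero_mul]
  · rfl

open Classical in
include hM in
theorem sum_reg_blockPart_mul_conj_ne {b b' : Set (IrrCharacter A)} (hb : IsPBlock M b)
    (hb' : IsPBlock M b') (hne : b ≠ b') (θ θ' : A → ℂ) :
    ∑ y : A, (if IsPRegular p y then blockPart b θ y * conj (blockPart b' θ' y) else 0) = 0 := by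
  have e : ∀ y : A, (if IsPRegular p y then blockPart b θ y * conj (blockPart b' θ' y) else 0) =
      ∑ η : IrrCharacter A, ∑ ξ : IrrCharacter A,
        (if η ∈ b ∧ ξ ∈ b' then classInner θ (η : A → ℂ) * conj (classInner θ' (ξ : A → ℂ)) *
          (pRegularPart p (η : A → ℂ) y * conj ((ξ : A → ℂ) y)) else 0) := by
    intro y
    split_ifs with hy
    · rw [blockPart_eq_inner_sum, blockPart_eq_inner_sum, map_sum, Finset.sum_mul_sum]
      refine Finset.sum_congr rfl fun η _ => Finset.sum_congr rfl fun ξ _ => ?_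
      by_cases h : η ∈ b <;> by_cases h' : ξ ∈ b' <;>
        simp [h, h', pRegularPart_of_reg hy] <;> ring
    · exact (Finset.sum_eq_zero fun η _ => Finset.sum_eq_zero fun ξ _ => by
        simp [pRegularPart_of_sing hy]).symm
  rw [Finset.sum_congr rfl fun y _ => e y, Finset.sum_comm]
  refine Finset.sum_eq_zero fun η _ => ?_
  rw [Finset.sum_comm]
  refine Finset.sum_eq_zero fun ξ _ => ?_
  by_cases h : η ∈ b ∧ ξ ∈ b'
  · have h0 := regInner_eq_zero hM (vInt_indVec hM hb) h.1
      (fun h' => hne (isPBlock_eq_of_mem hM hb hb' h' h.2))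
    rw [regInner, classInner, mul_eq_zero, inv_eq_zero] at h0
    simp only [if_pos h, ← Finset.mul_sum, h0.resolve_left Char.card_cast_ne_zero, mul_zero]
  · simp [if_neg h]

open Classical in
include hM in
theorem sum_reg_norm_blockParts (θ : A → ℂ) (w : Set (IrrCharacter A) → ℂ) :
    ∑ y : A, (if IsPRegular p y then (∑ b ∈ blocksOf M A, w b * blockPart b θ y) *
        conj (∑ b ∈ blocksOf M A, w b * blockPart b θ y) else 0) =
      ∑ b ∈ blocksOf M A, w b * conj (w b) *
        ∑ y : A, (if IsPRegular p y then blockPart b θ y * conj (blockPart b θ y) else 0) := by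
  have e : ∀ y : A, (if IsPRegular p y then (∑ b ∈ blocksOf M A, w b * blockPart b θ y) *
        conj (∑ b ∈ blocksOf M A, w b * blockPart b θ y) else 0) =
      ∑ b ∈ blocksOf M A, ∑ b' ∈ blocksOf M A, w b * conj (w b') *
        (if IsPRegular p y then blockPart b θ y * conj (blockPart b' θ y) else 0) := by
    intro y
    split_ifs
    · rw [map_sum, Finset.sum_mul_sum]
      exact Finset.sum_congr rfl fun b _ => Finset.sum_congr rfl fun b' _ => by rw [map_mul]; ring
    · simp
  rw [Finset.sum_congr rfl fun y _ => e y, Finset.sum_comm]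
  refine Finset.sum_congr rfl fun b hb => ?_
  rw [Finset.sum_comm]
  simp only [← Finset.mul_sum]
  refine Finset.sum_eq_single_of_mem b hb fun b' hb' hne => ?_
  rw [sum_reg_blockPart_mul_conj_ne hM ((mem_blocksOf hM).1 hb) ((mem_blocksOf hM).1 hb')
    (Ne.symm hne), mul_zero]

end BlockParts

variable {B : Set (IrrCharacter G)} {P : Subgroup G} {e : Set (IrrCharacter C[P])}
  {lam mu : G → ℂ}

theorem IsFocChar.pow_eq (hlam : IsFocChar p M P e lam) {x : G} (hx : x ∈ P) (n : ℕ) :
    lam (x ^ n) = lam x ^ n := by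
  induction n with
  | zero => rw [pow_zero, pow_zero, hlam.map_one]
  | succ n ih => rw [pow_succ, pow_succ, hlam.map_mul _ (pow_mem hx n) _ hx, ih]

theorem IsFocChar.mul_conj_self (hlam : IsFocChar p M P e lam) {x : G} (hx : x ∈ P) :
    lam x * conj (lam x) = 1 := by
  have h : lam x ^ orderOf x = 1 := by rw [← hlam.pow_eq hx, pow_orderOf_eq_one, hlam.map_one]
  rw [Complex.mul_conj', Complex.norm_eq_one_of_pow_eq_one h (orderOf_pos x).ne']
  simp

theorem IsFocChar.mul (h : IsFocChar p M P e lam) (h' : IsFocChar p M P e mu) :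
    IsFocChar p M P e (fun x => lam x * mu x) where
  map_mul x hx y hy := by rw [h.map_mul x hx y hy, h'.map_mul x hx y hy]; ring
  map_one := by rw [h.map_one, h'.map_one, mul_one]
  fusion v g b h1 h2 := by rw [h.fusion v g b h1 h2, h'.fusion v g b h1 h2]

variable (hmax : IsMaximalBrauerPair p M B P e)

include hM hmax in
/-- A pair at a `p`-element lies below the maximal pair, or the section of the block vanishes. -/
theorem pair_or_vanish {u : G} (hu : ∃ k : ℕ, orderOf u = p ^ k)
    {b : Set (IrrCharacter C[Subgroup.zpowers u])} (hb : IsPBlock M b) :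
    (∃ g : G, Relation.ReflTransGen (NormalSubpairRel p M)
        (conjIdx g ⟨Subgroup.zpowers u, b⟩) ⟨P, e⟩) ∨
      ∀ χ ∈ B, ∀ y : C[Subgroup.zpowers u], IsPRegular p y →
        blockPart b (secFn u C[Subgroup.zpowers u] ((χ : IrrCharacter G) : G → ℂ)) y = 0 := by
  by_cases h : IsBrauerPairOf p M B (Subgroup.zpowers u) b
  · exact Or.inl (exists_conj_le_maximal hM hmax h)
  right
  intro χ hχ y hy
  have hHu := commute_mem_cen u
  have hCH := centralizer_singleton_le u
  obtain ⟨B', hB'⟩ := exists_isInducedBlock_of_centralizer hM hu hHu hCH hb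
  refine blockPart_secFn_eq_zero hM hu hHu hCH hB' (fun hχ' => h ?_) hy
  obtain rfl : B = B' := isPBlock_eq_of_mem hM hmax.1.2.1 hB'.2.1 hχ hχ'
  exact (isBrauerPairOf_zpowers_iff hM hmax.1.2.1 hu hb).2 hB'

include hM in
theorem lamW_mem_rel (hlam : IsFocChar p M P e lam) {u g : G}
    {b : Set (IrrCharacter C[Subgroup.zpowers u])}
    (hg : Relation.ReflTransGen (NormalSubpairRel p M)
      (conjIdx g ⟨Subgroup.zpowers u, b⟩) ⟨P, e⟩) :
    g * u * g⁻¹ ∈ P ∧ lamW p M P e lam u ⟨Subgroup.zpowers u, b⟩ = lam (g * u * g⁻¹) :=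
  ⟨le_of_rel hg ⟨u, Subgroup.mem_zpowers u, rfl⟩, lamW_eq hM hlam.isFusChar hg⟩

theorem starFn_eq (lam : G → ℂ) (χ : IrrCharacter G) {u g : G} (hg : pPt p g = u)
    (y : C[Subgroup.zpowers u]) (he : g = u * (y : G)) :
    starFn hM P e lam χ g = ∑ b ∈ blocksOf M C[Subgroup.zpowers u],
      lamW p M P e lam u ⟨Subgroup.zpowers u, b⟩ *
        blockPart b (secFn u C[Subgroup.zpowers u] (χ : G → ℂ)) y := by
  subst hg
  rw [starFn, phiFn_one]
  refine Finset.sum_congr rfl fun b hb => ?_
  congr 1
  rw [← hatC_blkO hM χ ((mem_blocksOf hM).1 hb), ← he]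

theorem starFn_section (lam : G → ℂ) (χ : IrrCharacter G) {u : G}
    (hu : ∃ k : ℕ, orderOf u = p ^ k) {y : C[Subgroup.zpowers u]} (hy : IsPRegular p y) :
    starFn hM P e lam χ (u * (y : G)) = ∑ b ∈ blocksOf M C[Subgroup.zpowers u],
      lamW p M P e lam u ⟨Subgroup.zpowers u, b⟩ *
        blockPart b (secFn u C[Subgroup.zpowers u] (χ : G → ℂ)) y :=
  starFn_eq hM lam χ (pPt_mul_reg hu (commute_mem_cen u y)
    (by rwa [IsPRegular, orderOf_submonoid])) y rfl

include hM in
theorem sum_blockPart_section (χ : IrrCharacter G) (u : G) (y : C[Subgroup.zpowers u]) :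
    (χ : G → ℂ) (u * (y : G)) = ∑ b ∈ blocksOf M C[Subgroup.zpowers u],
      blockPart b (secFn u C[Subgroup.zpowers u] (χ : G → ℂ)) y := by
  rw [sum_blocksOf_blockPart hM (isClassFunction_secFn' χ.2.isClassFunction u)]
  rfl

theorem exists_section_decomp (g : G) : ∃ u : G, pPt p g = u ∧ (∃ k : ℕ, orderOf u = p ^ k) ∧
    ∃ y : C[Subgroup.zpowers u], IsPRegular p y ∧ g = u * (y : G) := by
  refine ⟨pPt p g, rfl, exists_orderOf_pPt g, ⟨pReg p g, centralizer_singleton_le _
    (Subgroup.mem_centralizer_singleton_iff.2 (pPt_commute_pReg g).eq.symm)⟩, ?_,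
    (pPt_mul_pReg g).symm⟩
  show ¬ p ∣ orderOf _
  rw [Subgroup.orderOf_mk]
  exact not_dvd_orderOf_pReg g

variable {χ : IrrCharacter G} (hlam : IsFocChar p M P e lam)

include hmax hlam in
/-- A star product agrees with the character on the regular elements. -/
theorem starFn_reg (hχ : χ ∈ B) {g : G} (hg : IsPRegular p g) :
    starFn hM P e lam χ g = (χ : G → ℂ) g := by
  have h1 : ∃ k : ℕ, orderOf (1 : G) = p ^ k := ⟨0, by simp⟩
  have hmem : g ∈ C[Subgroup.zpowers (1 : G)] := Subgroup.mem_centralizer_iff.2 fun z hz => by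
    have hz' : z ∈ Subgroup.zpowers (1 : G) := hz
    rw [Subgroup.zpowers_one_eq_bot, Subgroup.mem_bot] at hz'
    rw [hz', one_mul, mul_one]
  obtain ⟨y, hy⟩ : ∃ y : C[Subgroup.zpowers (1 : G)], (y : G) = g := ⟨⟨g, hmem⟩, rfl⟩
  have hyr : IsPRegular p y := by rwa [IsPRegular, ← orderOf_submonoid, hy]
  rw [show g = 1 * (y : G) by rw [hy, one_mul], starFn_section hM lam χ h1 hyr,
    sum_blockPart_section hM χ]
  refine Finset.sum_congr rfl fun b hb => ?_
  rcases pair_or_vanish hM hmax h1 ((mem_blocksOf hM).1 hb) with ⟨x, hx⟩ | h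
  · rw [(lamW_mem_rel hM hlam hx).2, mul_one, mul_inv_cancel, hlam.map_one, one_mul]
  · rw [h χ hχ y hyr, mul_zero]

include hmax hlam in
theorem starFn_norm (hχ : χ ∈ B) :
    classInner (starFn hM P e lam χ) (starFn hM P e lam χ) = 1 := by
  classical
  rw [← Char.classInner_irr_self χ.2, classInner, classInner]
  congr 1
  rw [← Finset.sum_fiberwise Finset.univ (fun g : G => pPt p g),
    ← Finset.sum_fiberwise Finset.univ (fun g : G => pPt p g)
      (fun g => (χ : G → ℂ) g * conj ((χ : G → ℂ) g))]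
  refine Finset.sum_congr rfl fun u _ => ?_
  by_cases hu : ∃ k : ℕ, orderOf u = p ^ k
  · rw [sum_pPt_eq hu (commute_mem_cen u) (centralizer_singleton_le u),
      sum_pPt_eq hu (commute_mem_cen u) (centralizer_singleton_le u)]
    set θ := secFn u C[Subgroup.zpowers u] (χ : G → ℂ) with hθ
    set W := fun b : Set (IrrCharacter C[Subgroup.zpowers u]) =>
      lamW p M P e lam u ⟨Subgroup.zpowers u, b⟩ with hW
    have hA := sum_reg_norm_blockParts (p := p) hM θ W
    have hB := sum_reg_norm_blockParts (p := p) hM θ (fun _ => 1)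
    refine Eq.trans ?_ (Eq.trans (hA.trans ?_) (Eq.trans hB.symm ?_))
    · refine Finset.sum_congr rfl fun y _ => ?_
      split_ifs with hy
      · rw [starFn_section hM lam χ hu hy]
      · rfl
    · refine Finset.sum_congr rfl fun b hb => ?_
      rcases pair_or_vanish hM hmax hu ((mem_blocksOf hM).1 hb) with ⟨x, hx⟩ | h
      · obtain ⟨hm, he'⟩ := lamW_mem_rel hM hlam hx
        simp only [hW, he', hlam.mul_conj_self hm, map_one, mul_one]
      · rw [Finset.sum_eq_zero fun y _ => ?_, mul_zero, mul_zero]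
        split_ifs with hy
        · rw [hθ, h χ hχ y hy, zero_mul]
        · rfl
    · refine Finset.sum_congr rfl fun y _ => ?_
      split_ifs with hy
      · simp only [one_mul, hθ, ← sum_blockPart_section hM χ u y]
      · rfl
  · have h0 : Finset.univ.filter (fun g : G => pPt p g = u) = ∅ :=
      Finset.filter_eq_empty_iff.2 fun g _ h => hu (h ▸ exists_orderOf_pPt g)
    simp only [h0, Finset.sum_empty]

theorem regInner_congr_reg {f f' h : G → ℂ} (he : ∀ g, IsPRegular p g → f g = f' g) :
    regInner p f h = regInner p f' h := by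
  rw [regInner, regInner]
  congr 1
  funext g
  by_cases hg : IsPRegular p g
  · rw [pRegularPart_of_reg hg, pRegularPart_of_reg hg, he g hg]
  · rw [pRegularPart_of_sing hg, pRegularPart_of_sing hg]

theorem regInner_self_ne (χ : IrrCharacter G) :
    regInner p (χ : G → ℂ) (χ : G → ℂ) ≠ 0 := by
  rw [regInner_self_eq, Complex.ofReal_ne_zero]
  refine mul_ne_zero (inv_ne_zero (Nat.cast_ne_zero.2 Nat.card_pos.ne')) (ne_of_gt ?_)
  refine Finset.sum_pos' (fun g _ => sq_nonneg _) ⟨1, Finset.mem_univ _, ?_⟩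
  rw [pRegularPart_of_reg (by simp [IsPRegular, (Fact.out : p.Prime).ne_one])]
  exact pow_pos (norm_pos_iff.2 χ.2.apply_one_ne_zero) 2

include hmax hlam in
/-- The star product is an irreducible character of the block. -/
theorem exists_starIrr (hχ : χ ∈ B) :
    ∃ ψ : IrrCharacter G, ψ ∈ B ∧ (ψ : G → ℂ) = starFn hM P e lam χ := by
  obtain ⟨ε, μ, hε, he⟩ := Char.exists_signed_irr_of_norm_one
    (isGeneralizedCharacter_starFn hM hmax hlam.isFusChar χ) (starFn_norm hM hmax hlam hχ)
  have h1reg : IsPRegular p (1 : G) := by simp [IsPRegular, (Fact.out : p.Prime).ne_one]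
  obtain ⟨n, hn0, hn⟩ := χ.2.exists_degree
  obtain ⟨m, hm0, hm⟩ := μ.2.exists_degree
  have hε1 : ε = 1 := by
    rcases hε with h | h
    · exact h
    have h1 := congrFun he 1
    rw [starFn_reg hM hmax hlam hχ h1reg, hn, Pi.smul_apply, hm, h, smul_eq_mul] at h1
    push_cast at h1
    have h2 : ((n + m : ℕ) : ℂ) = 0 := by push_cast; linear_combination h1
    have := Nat.cast_eq_zero.1 h2
    omega
  rw [hε1, Int.cast_one, one_smul] at he
  refine ⟨μ, ?_, he.symm⟩
  by_contra hμ
  refine regInner_self_ne (p := p) χ ?_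
  have h0 := regInner_eq_zero hM (vInt_indVec hM hmax.1.2.1) hχ hμ
  rw [← regInner_conj, map_eq_zero] at h0
  rw [regInner_congr_reg (f' := (μ : G → ℂ)) fun g hg => by
    rw [← he, starFn_reg hM hmax hlam hχ hg]]
  exact h0

include hmax hlam in
/-- Star products compose by multiplying the linear characters. -/
theorem starFn_comp {ψ : IrrCharacter G} (hχ : χ ∈ B) (hmu : IsFocChar p M P e mu)
    (hψ : (ψ : G → ℂ) = starFn hM P e lam χ) :
    starFn hM P e mu ψ = starFn hM P e (fun x => mu x * lam x) χ := by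
  classical
  funext g
  obtain ⟨u, hu, hup, y, hyr, hg⟩ := exists_section_decomp (p := p) g
  rw [starFn_eq hM mu ψ hu _ hg, starFn_eq hM _ χ hu _ hg]
  refine Finset.sum_congr rfl fun b hb => ?_
  have hb' := (mem_blocksOf hM).1 hb
  have hT : blockPart b (secFn u C[Subgroup.zpowers u] (ψ : G → ℂ)) y =
      lamW p M P e lam u ⟨Subgroup.zpowers u, b⟩ *
        blockPart b (secFn u C[Subgroup.zpowers u] (χ : G → ℂ)) y := by
    rw [blockPart_congr_reg hM hb' (θ' := fun z => ∑ b' ∈ blocksOf M C[Subgroup.zpowers u],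
      lamW p M P e lam u ⟨Subgroup.zpowers u, b'⟩ *
        blockPart b' (secFn u C[Subgroup.zpowers u] (χ : G → ℂ)) z)
      (fun z hz => by
        show (ψ : G → ℂ) (u * (z : G)) = _
        rw [hψ, starFn_section hM lam χ hup hz]) hyr, blockPart_sum_smul,
      Finset.sum_eq_single_of_mem b hb fun b' hb'' hne => by
        rw [blockPart_blockPart_ne hM hb' ((mem_blocksOf hM).1 hb'') (Ne.symm hne), mul_zero],
      blockPart_blockPart_self]
  rw [hT]
  rcases pair_or_vanish hM hmax hup hb' with ⟨x, hx⟩ | h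
  · rw [(lamW_mem_rel hM hlam hx).2, (lamW_mem_rel hM hmu hx).2,
      (lamW_mem_rel hM (hmu.mul hlam) hx).2]
    ring
  · rw [h χ hχ y hyr, mul_zero, mul_zero, mul_zero]

include hmax hlam in
/-- A trivial linear character fixes the character. -/
theorem starFn_trivial (hχ : χ ∈ B) (h1 : ∀ x ∈ P, lam x = 1) :
    starFn hM P e lam χ = χ := by
  funext g
  obtain ⟨u, hu, hup, y, hyr, hg⟩ := exists_section_decomp (p := p) g
  conv_rhs => rw [hg, sum_blockPart_section hM χ]
  rw [starFn_eq hM lam χ hu _ hg]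
  refine Finset.sum_congr rfl fun b hb => ?_
  rcases pair_or_vanish hM hmax hup ((mem_blocksOf hM).1 hb) with ⟨x, hx⟩ | h
  · obtain ⟨hm, he'⟩ := lamW_mem_rel hM hlam hx
    rw [he', h1 _ hm, one_mul]
  · rw [h χ hχ y hyr, mul_zero]

end Cfsg.Lib.Block
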