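import Cfsg.Agent.Lib.Block.BlockDimension
import Cfsg.Agent.Lib.Block.StarNorm
import Cfsg.Agent.Lib.Char.Monomial
import Cfsg.Agent.Lib.Char.BrauerInduction
import Mathlib.GroupTheory.Nilpotent

/-!
# The degree of the simple module of a block with one modular irreducible

If the members of a block agree at regular elements, their common degree is the dimension of the
simple module: otherwise the common regular part divided by the multiplicity would be a
generalized character of too small regular norm.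
-/

set_option autoImplicit false
set_option linter.unusedSectionVars false
set_option maxHeartbeats 1000000

namespace Cfsg.Lib.Block

open Cfsg Module
open scoped ComplexConjugate MonoidAlgebra

universe u

noncomputable local instance (priority := high) fintypeSubgroupBlockSimpleDegree {A : Type u}
    [Group A] [Fintype A] (H : Subgroup A) : Fintype H := Fintype.ofFinite H

theorem isNilpotent_of_isElementary {E : Type u} [Group E] [Finite E] {l : ℕ} (hl : l.Prime)
    (hE : IsElementary l E) : Group.IsNilpotent E := by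
  obtain ⟨x, hx, -, k, hk⟩ := hE
  haveI : Fact l.Prime := ⟨hl⟩
  haveI hn : (Subgroup.zpowers x).Normal := ⟨fun y hy g => by
    have h : y ∈ Subgroup.center E := Subgroup.zpowers_le.2 hx hy
    rwa [Subgroup.mem_center_iff.1 h g, mul_inv_cancel_right]⟩
  haveI := (IsPGroup.of_card (p := l) (n := k)
    ((Subgroup.index_eq_card (Subgroup.zpowers x)).symm.trans hk)).isNilpotent
  refine isNilpotent_of_ker_le_center (QuotientGroup.mk' (Subgroup.zpowers x)) ?_
  rw [QuotientGroup.ker_mk']
  exact Subgroup.zpowers_le.2 hx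

variable {p : ℕ} [Fact p.Prime] {M : Ideal AlgInt} {A : Type u} [Group A] [Fintype A]
  (hM : IsPModular p M) {B : Set (IrrCharacter A)} (hB : IsPBlock M B)

include hB in
theorem hatC_oV_mul (a : OGA hM A) (χ : IrrCharacter A) (hχ : χ ∈ B) :
    hatC hM (χ : A → ℂ) (oV hM (indVec B) * a) 1 = hatC hM (χ : A → ℂ) a 1 := by
  classical
  have hv := vInt_indVec hM hB
  simp only [hatC, mul_one, coeff_mul_sum, AddSubmonoidClass.coe_finset_sum, Subring.coe_mul,
    coeff_oV hM hv, Finset.sum_mul]
  rw [Finset.sum_comm]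
  calc ∑ h : A, ∑ g : A, zc (indVec B) h * (a.coeff (h⁻¹ * g) : ℂ) * (χ : A → ℂ) g =
      ∑ h : A, ∑ k : A, zc (indVec B) h * (a.coeff k : ℂ) * (χ : A → ℂ) (h * k) := by
        refine Finset.sum_congr rfl fun h _ => Fintype.sum_equiv (Equiv.mulLeft h⁻¹) _ _ fun g => ?_
        simp
    _ = ∑ k : A, (a.coeff k : ℂ) * ∑ h : A, blockCoeff B h * (χ : A → ℂ) (h * k) := by
        rw [Finset.sum_comm]
        refine Finset.sum_congr rfl fun k _ => ?_
        rw [Finset.mul_sum]
        exact Finset.sum_congr rfl fun h _ => by rw [zc_indVec]; ring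
    _ = ∑ k : A, (a.coeff k : ℂ) * (χ : A → ℂ) k := by
        refine Finset.sum_congr rfl fun k _ => ?_
        congr 1
        rw [← blockPart_eq_sum B χ.2.isClassFunction, blockPart, finsum_mem_eq_toFinset_sum,
          Finset.sum_eq_single χ]
        · have h1 := Char.classInner_irr_self χ.2
          convert one_mul ((χ : A → ℂ) k) using 2
          convert h1
        · intro η _ hne
          have h0 := Char.classInner_irr_ne χ.2 η.2 fun h => hne (Subtype.ext h).symm
          refine mul_eq_zero_of_left ?_ _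
          convert h0
        · exact fun h => absurd (Set.mem_toFinset.2 hχ) h

include hB in
theorem hatC_oV (χ : IrrCharacter A) (hχ : χ ∈ B) :
    hatC hM (χ : A → ℂ) (oV hM (indVec B)) 1 = (χ : A → ℂ) 1 := by
  rw [← mul_one (oV hM (indVec B)), hatC_oV_mul hM hB 1 χ hχ, hatC_one]

/-- A block with one simple module whose members agree at regular elements. -/
structure RegBlock (p : ℕ) (M : Ideal AlgInt) (B : Set (IrrCharacter A)) (q : ℕ)
    (ψ₀ : IrrCharacter A) : Prop where
  block : IsPBlock M B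
  rank : blockRank p B ≤ 1
  card : Nat.card B = q
  mem : ψ₀ ∈ B
  reg : ∀ χ ∈ B, ∀ y : A, IsPRegular p y → (χ : A → ℂ) y = (ψ₀ : A → ℂ) y
  inner : (q : ℂ) * regInner p (ψ₀ : A → ℂ) (ψ₀ : A → ℂ) = 1

variable {q : ℕ} {ψ₀ : IrrCharacter A} (R : RegBlock p M B q ψ₀)

include R in
theorem RegBlock.apply_one {χ : IrrCharacter A} (hχ : χ ∈ B) :
    (χ : A → ℂ) 1 = (ψ₀ : A → ℂ) 1 :=
  R.reg χ hχ 1 (by simp [IsPRegular, (Fact.out : p.Prime).ne_one])

include R in
theorem RegBlock.q_pos : 0 < q := by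
  refine Nat.pos_of_ne_zero fun h => ?_
  have h1 := R.inner
  rw [h, Nat.cast_zero, zero_mul] at h1
  exact zero_ne_one h1

include hM R in
theorem RegBlock.hatC_eq {a : OGA hM A} (ha : IsIdempotentElem a) {χ : IrrCharacter A}
    (hχ : χ ∈ B) : hatC hM (χ : A → ℂ) a 1 = hatC hM (ψ₀ : A → ℂ) a 1 := by
  have h := hatC_one_eq_zero hM (F := fun y => (χ : A → ℂ) y - (ψ₀ : A → ℂ) y)
    (fun x y => by
      show (χ : A → ℂ) _ - (ψ₀ : A → ℂ) _ = (χ : A → ℂ) _ - (ψ₀ : A → ℂ) _
      rw [χ.2.isClassFunction x y, ψ₀.2.isClassFunction x y])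
    (fun y hy => sub_eq_zero.2 (R.reg χ hχ y hy)) ha
  simp only [hatC, mul_sub, Finset.sum_sub_distrib] at h
  exact sub_eq_zero.1 h

include hM R in
open Classical in
theorem RegBlock.sum_block {a : OGA hM A} (ha : IsIdempotentElem a) :
    ∑ χ ∈ B.toFinset, (χ : A → ℂ) 1 * hatC hM (χ : A → ℂ) a 1 =
      (q : ℂ) * (ψ₀ : A → ℂ) 1 * hatC hM (ψ₀ : A → ℂ) a 1 := by
  rw [Finset.sum_congr rfl fun χ hχ => by
      rw [R.apply_one (Set.mem_toFinset.1 hχ), R.hatC_eq hM ha (Set.mem_toFinset.1 hχ)],
    Finset.sum_const, nsmul_eq_mul, Set.toFinset_card, ← Nat.card_eq_fintype_card, R.card, mul_assoc]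

variable {m : ℕ} {σ : Representation (resField hM) A (Fin m → resField hM)}
  (hσ : σ.IsIrreducible) (hσb : blockOp hM B σ = 1)

include hB in
/-- The range of an element on the regular part of the block. -/
theorem range_subRep_blkPart {x : KGA hM A} (hx : blkA hM B * x = x) :
    (LinearMap.range ((subRep (lmulRep hM) (blkPart hM (B := B))
      (blkPart_invariant hM hB)).asAlgebraHom x)).map (blkPart hM (B := B)).subtype =
      LinearMap.range (LinearMap.mulLeft (resField hM) x) := by
  have hmap := map_asAlgebraHom (blkPart hM (B := B)).subtype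
    (subRep_subtype (lmulRep hM) _ (blkPart_invariant hM hB)) x
  ext y
  constructor
  · rintro ⟨_, ⟨z, rfl⟩, rfl⟩
    rw [hmap, lmulRep_asAlgebraHom]
    exact ⟨(z : KGA hM A), rfl⟩
  · rintro ⟨w, rfl⟩
    have hw : blkA hM B * w ∈ blkPart hM (B := B) := ⟨w, rfl⟩
    refine ⟨_, ⟨⟨_, hw⟩, rfl⟩, ?_⟩
    rw [hmap, lmulRep_asAlgebraHom]
    show x * (blkA hM B * w) = x * w
    rw [← mul_assoc, blkA, ← (cV_commute hM (indVec B) x).eq]
    exact congrArg (· * w) hx

include hM R in
theorem RegBlock.finrank_blkPart :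
    (finrank (resField hM) (blkPart hM (B := B)) : ℂ) =
      (q : ℂ) * (ψ₀ : A → ℂ) 1 * (ψ₀ : A → ℂ) 1 := by
  have hv := vInt_indVec hM R.block
  have hi : IsIdempotentElem (oV hM (indVec B)) := by
    rw [IsIdempotentElem, ← oV_mul hM hv hv, indVec_mul_indVec, Set.inter_self]
  have h := finrank_range_block hM R.block hi hi.eq
  rw [red_oV hM hv, R.sum_block hM hi, hatC_oV hM R.block ψ₀ R.mem] at h
  exact h

include hM R hσ hσb in
/-- The value of a lifted idempotent and its rank on the simple module. -/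
theorem RegBlock.hatC_mul {a : OGA hM A} (ha : IsIdempotentElem a)
    (haB : oV hM (indVec B) * a = a) :
    hatC hM (ψ₀ : A → ℂ) a 1 * (m : ℂ) = (ψ₀ : A → ℂ) 1 *
      (finrank (resField hM) (LinearMap.range (σ.asAlgebraHom (red hM a))) : ℂ) := by
  have hxi : IsIdempotentElem (red hM a) := ha.map (red hM)
  have hxB : blkA hM B * red hM a = red hM a := by
    rw [blkA, ← red_oV hM (vInt_indVec hM R.block), ← map_mul, haB]
  have h := congrArg (Nat.cast (R := ℂ))
    (finrank_range_simple hM R.block R.rank hσ hσb hxi _ (blockOp_blkPart hM R.block))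
  rw [← Submodule.finrank_map_subtype_eq (blkPart hM (B := B)),
    range_subRep_blkPart hM R.block hxB, Nat.cast_mul, Nat.cast_mul, finrank_range_block hM R.block ha haB,
    R.sum_block hM ha, R.finrank_blkPart hM] at h
  have h0 : (q : ℂ) * (ψ₀ : A → ℂ) 1 ≠ 0 :=
    mul_ne_zero (Nat.cast_ne_zero.2 R.q_pos.ne') ψ₀.2.apply_one_ne_zero
  refine mul_left_cancel₀ h0 ?_
  linear_combination h

include hσ in
theorem simple_dim_pos : 0 < m := by
  refine Nat.pos_of_ne_zero fun h => ?_
  haveI := ((Cfsg.Lib.Char.isIrreducible_iff_submodule σ).1 hσ).1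
  subst h
  exact false_of_nontrivial_of_subsingleton (Fin 0 → resField hM)

/-- The averaged idempotent of a linear character of a subgroup of order prime to `p`. -/
theorem exists_linear_idem {S : Subgroup A} (hS : ¬ p ∣ Nat.card S) (lam : S →* ℂˣ) :
    ∃ a : OGA hM A, IsIdempotentElem a ∧ ∀ χ : IrrCharacter A,
      hatC hM (χ : A → ℂ) a 1 =
        classInner (fun s : S => (χ : A → ℂ) s) (fun s : S => (lam s : ℂ)) := by
  classical
  have hlam : ∀ s : S, ((lam s : ℂˣ) : ℂ) ∈ locRing hM := fun s => isIntegral_mem_locRing hM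
    (IsIntegral.of_pow (orderOf_pos s) (by
      rw [← Units.val_pow_eq_pow_val, ← map_pow, pow_orderOf_eq_one, map_one, Units.val_one]
      exact isIntegral_one))
  have hinv : (Nat.card S : ℂ)⁻¹ ∈ locRing hM :=
    inv_mem_locRing hM (natCast_mem _ _) (by rwa [memLocalIdeal_natCast_iff hM])
  set w : A → ℂ := fun g => if h : g ∈ S then (Nat.card S : ℂ)⁻¹ * (lam ⟨g, h⟩⁻¹ : ℂˣ) else 0
    with hw
  have hwm : ∀ g, w g ∈ locRing hM := fun g => by
    simp only [hw]
    split_ifs with h
    · exact mul_mem hinv (hlam _)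
    · exact zero_mem _
  set a : OGA hM A := MonoidAlgebra.ofCoeff (Finsupp.equivFunOnFinite.symm fun g => ⟨w g, hwm g⟩)
    with ha
  have hca : ∀ g, (a.coeff g : ℂ) = w g := fun g => rfl
  have hsum : ∀ F : A → ℂ, ∑ g : A, w g * F g =
      (Nat.card S : ℂ)⁻¹ * ∑ s : S, (lam s⁻¹ : ℂˣ) * F s := by
    intro F
    rw [Finset.mul_sum, ← Finset.sum_subset (Finset.subset_univ (Finset.univ.filter (· ∈ S)))
      fun g _ hg => by simp [hw, show g ∉ S by simpa using hg],
      Finset.sum_subtype (p := fun g : A => g ∈ S) (F := inferInstance)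
        (Finset.univ.filter (· ∈ S)) (fun g => by simp)]
    refine Finset.sum_congr (by ext; simp) fun s _ => ?_
    simp only [hw, SetLike.coe_mem, dif_pos]
    rw [mul_assoc]
  refine ⟨a, MonoidAlgebra.ext (Finsupp.ext fun g => Subtype.ext ?_), fun χ => ?_⟩
  · rw [coeff_mul_sum]
    simp only [AddSubmonoidClass.coe_finset_sum, Subring.coe_mul, hca]
    rw [hsum fun h => w (h⁻¹ * g)]
    by_cases hg : g ∈ S
    · rw [Finset.sum_congr rfl (g := fun _ => (Nat.card S : ℂ)⁻¹ * (lam ⟨g, hg⟩⁻¹ : ℂˣ)) fun s _ => ?_]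
      · rw [Finset.sum_const, Finset.card_univ, nsmul_eq_mul, ← Nat.card_eq_fintype_card]
        have h0 : (Nat.card S : ℂ) ≠ 0 := Nat.cast_ne_zero.2 Nat.card_pos.ne'
        simp only [hw, dif_pos hg]
        field_simp
      · have hmem : (s : A)⁻¹ * g ∈ S := S.mul_mem (S.inv_mem s.2) hg
        simp only [hw, dif_pos hmem]
        rw [mul_left_comm, show (⟨g, hg⟩ : S)⁻¹ = (⟨(s : A)⁻¹ * g, hmem⟩ : S)⁻¹ * s⁻¹ from by
          apply Subtype.ext; simp [mul_assoc], map_mul, Units.val_mul]
        ring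
    · rw [Finset.sum_eq_zero fun s _ => ?_, mul_zero]
      · simp [hw, hg]
      · have : (s : A)⁻¹ * g ∉ S := fun h => hg (by simpa using S.mul_mem s.2 h)
        simp [hw, this]
  · simp only [hatC, mul_one, hca]
    rw [hsum, classInner]
    congr 1
    refine Finset.sum_congr rfl fun s _ => ?_
    rw [map_inv, Units.val_inv_eq_inv_val, mul_comm]
    congr 1
    have hn : ‖((lam s : ℂˣ) : ℂ)‖ = 1 := Complex.norm_eq_one_of_pow_eq_one (n := orderOf s)
      (by rw [← Units.val_pow_eq_pow_val, ← map_pow, pow_orderOf_eq_one, map_one, Units.val_one])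
      (orderOf_pos s).ne'
    exact (Complex.inv_eq_conj hn)

include hM R hσ hσb in
/-- The common degree is the dimension of the simple module. -/
theorem RegBlock.degree_eq : (ψ₀ : A → ℂ) 1 = (m : ℂ) := by
  classical
  haveI : Nonempty (Fin m) := ⟨⟨0, simple_dim_pos hM hσ⟩⟩
  obtain ⟨i₀⟩ := (inferInstance : Nonempty (Fin m))
  obtain ⟨e, hei, -, hBe, heσ⟩ := exists_rank_one_idem hM R.block R.rank hσ hσb i₀
  obtain ⟨a, hai, haB, hae⟩ := exists_block_lift hM R.block hei hBe
  have hr : finrank (resField hM) (LinearMap.range (σ.asAlgebraHom e)) = 1 := by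
    rw [heσ, LinearMap.range_smulRight_apply (by
      intro h
      have := LinearMap.congr_fun h (Pi.single i₀ 1)
      simp at this),
      finrank_span_singleton (Pi.single_ne_zero_iff.2 one_ne_zero)]
  obtain ⟨n, hn⟩ := exists_nat_hatC hM ψ₀ hai
  have hnm := R.hatC_mul hM hσ hσb hai haB
  rw [hae, hr, hn, Nat.cast_one, mul_one] at hnm
  have hn0 : (n : ℂ) ≠ 0 := fun h => ψ₀.2.apply_one_ne_zero (by rw [← hnm, h, zero_mul])
  -- the multiplicities in subgroups of order prime to `p` are multiples of `n`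
  have hmult : ∀ S : Subgroup A, ¬ p ∣ Nat.card S → ∀ lam : S →* ℂˣ, ∃ r : ℕ,
      classInner (fun s : S => (ψ₀ : A → ℂ) s) (fun s : S => (lam s : ℂ)) = (n : ℂ) * r := by
    intro S hS lam
    obtain ⟨b, hbi, hb⟩ := exists_linear_idem hM hS lam
    have hv := vInt_indVec hM R.block
    have hi : IsIdempotentElem (oV hM (indVec B)) := by
      rw [IsIdempotentElem, ← oV_mul hM hv hv, indVec_mul_indVec, Set.inter_self]
    have hci : IsIdempotentElem (oV hM (indVec B) * b) :=
      hi.mul_of_commute (oV_commute hM hv b) hbi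
    have h := R.hatC_mul hM hσ hσb hci (by rw [← mul_assoc, hi.eq])
    rw [hatC_oV_mul hM R.block b ψ₀ R.mem, hb] at h
    refine ⟨finrank (resField hM) (LinearMap.range
      (σ.asAlgebraHom (red hM (oV hM (indVec B) * b)))), ?_⟩
    rw [← hnm] at h
    refine mul_right_cancel₀ (b := (m : ℂ)) (Nat.cast_ne_zero.2 (simple_dim_pos hM hσ).ne') ?_
    linear_combination h
  set γ : A → ℂ := fun g => (n : ℂ)⁻¹ * (ψ₀ : A → ℂ) (pReg p g) with hγ
  have hγc : IsClassFunction A γ := fun x y => by
    show (n : ℂ)⁻¹ * (ψ₀ : A → ℂ) (pReg p (y * x * y⁻¹)) = (n : ℂ)⁻¹ * (ψ₀ : A → ℂ) (pReg p x)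
    rw [pReg_conj, ψ₀.2.isClassFunction]
  have hγg : IsGeneralizedCharacter A γ := by
    refine Char.isGeneralizedCharacter_of_elementary hγc fun E l hl hE => ?_
    obtain ⟨Q, R', hQ, hR, hQR, hsup⟩ := exists_split_elementary (p := p) hl hE
    have hsplit : ∀ g : E, ∃ r ∈ R', pReg p (g : A) = r ∧ pPt p (g : A) ∈ Q := by
      intro g
      obtain ⟨x, hx, r, hr, he⟩ := exists_mul_of_mem_sup hQR (g := (g : A)) (by rw [hsup]; exact g.2)
      refine ⟨r, hr, ?_, ?_⟩
      · have h1 := pPt_mul_of_sup hQ hR hQR hx hr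
        have h2 := pPt_mul_pReg (p := p) (x * r)
        rw [h1] at h2
        rw [← he]
        exact mul_left_cancel h2
      · rw [← he, pPt_mul_of_sup hQ hR hQR hx hr]; exact hx
    choose π hπR hπ hπQ using hsplit
    let f : E →* R' := MonoidHom.mk' (fun g => ⟨π g, hπR g⟩) fun g h => Subtype.ext (by
      show π (g * h) = π g * π h
      rw [← hπ, ← hπ, ← hπ, Subgroup.coe_mul]
      have hg : (g : A) ∈ Q ⊔ R' := hsup.symm ▸ g.2
      have hh : (h : A) ∈ Q ⊔ R' := hsup.symm ▸ h.2
      have h1 := pPt_mul_mul hQ hR hQR hg hh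
      have h2 := pPt_mul_pReg (p := p) ((g : A) * h)
      rw [h1] at h2
      have h3 : Commute (pReg p (g : A)) (pPt p (h : A)) := by
        rw [hπ g]
        exact (hQR _ (hπQ h) _ (hπR g)).symm
      refine mul_left_cancel (a := pPt p (g : A) * pPt p (h : A)) ?_
      rw [h2]
      calc (g : A) * h = pPt p (g : A) * pReg p (g : A) * (pPt p (h : A) * pReg p (h : A)) := by
            rw [pPt_mul_pReg, pPt_mul_pReg]
        _ = pPt p (g : A) * (pReg p (g : A) * pPt p (h : A)) * pReg p (h : A) := by group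
        _ = _ := by rw [h3.eq]; group)
    have hgen : IsGeneralizedCharacter R' (fun r : R' => (n : ℂ)⁻¹ * (ψ₀ : A → ℂ) r) := by
      haveI : Group.IsNilpotent E := isNilpotent_of_isElementary hl hE
      have hRE : R' ≤ E := hsup ▸ le_sup_right
      haveI : Group.IsNilpotent R' :=
        Group.nilpotent_of_mulEquiv (Subgroup.subgroupOfEquivOfLe hRE)
      refine Char.isGeneralizedCharacter_iff.2 ⟨fun x y => ?_, fun θ hθ => ?_⟩
      · show (n : ℂ)⁻¹ * (ψ₀ : A → ℂ) _ = (n : ℂ)⁻¹ * (ψ₀ : A → ℂ) _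
        congr 1
        exact ψ₀.2.isClassFunction (x : A) (y : A)
      · obtain ⟨H, lam, rfl⟩ := Char.exists_monomial_of_nilpotent _ rfl hθ
        have hc : IsClassFunction R' (fun r : R' => (n : ℂ)⁻¹ * (ψ₀ : A → ℂ) r) := fun x y => by
          show (n : ℂ)⁻¹ * (ψ₀ : A → ℂ) _ = (n : ℂ)⁻¹ * (ψ₀ : A → ℂ) _
          congr 1
          exact ψ₀.2.isClassFunction (x : A) (y : A)
        obtain ⟨ι, hι⟩ : ∃ ι : H ≃* H.map R'.subtype, ∀ h : H, ((ι h : _) : A) = ((h : R') : A) :=
          ⟨H.equivMapOfInjective _ R'.subtype_injective, fun h => rfl⟩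
        have hHp : ¬ p ∣ Nat.card (H.map R'.subtype) := fun h =>
          hR (h.trans (Subgroup.card_dvd_of_le (Subgroup.map_subtype_le H)))
        obtain ⟨r, hr⟩ := hmult _ hHp (lam.comp ι.symm.toMonoidHom)
        refine ⟨r, ?_⟩
        rw [← Char.classInner_conj_symm, Char.classInner_indFun H _ hc,
          Char.classInner_conj_symm]
        have he : classInner (fun h : H => (n : ℂ)⁻¹ * (ψ₀ : A → ℂ) ((h : R') : A))
            (fun h : H => (lam h : ℂ)) = (n : ℂ)⁻¹ * classInner
              (fun s : H.map R'.subtype => (ψ₀ : A → ℂ) s)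
              (fun s : H.map R'.subtype => ((lam.comp ι.symm.toMonoidHom) s : ℂ)) := by
          simp only [classInner, Finset.mul_sum]
          rw [Nat.card_congr ι.toEquiv]
          refine Fintype.sum_equiv ι.toEquiv _ _ fun h => ?_
          simp only [MulEquiv.toEquiv_eq_coe, MulEquiv.coe_toEquiv, MonoidHom.comp_apply,
            MulEquiv.coe_toMonoidHom, MulEquiv.symm_apply_apply, hι]
          ring
        rw [he, hr]
        field_simp
        push_cast
        rfl
    have hcomp := hgen.comp f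
    convert hcomp using 1
    funext g
    show (n : ℂ)⁻¹ * (ψ₀ : A → ℂ) (pReg p (g : A)) = _
    rw [hπ g]
    rfl
  -- the regular inner product with `ψ₀`
  choose k hk using fun χ : IrrCharacter A =>
    (Char.isGeneralizedCharacter_iff.1 hγg).2 (χ : A → ℂ) χ.2
  have hexp : γ = ∑ χ : IrrCharacter A, (k χ : ℂ) • (χ : A → ℂ) := by
    rw [Char.eq_sum_classInner hγc]
    exact Finset.sum_congr rfl fun χ _ => by rw [hk]
  have h1 : regInner p γ (ψ₀ : A → ℂ) = (n : ℂ)⁻¹ * regInner p (ψ₀ : A → ℂ) (ψ₀ : A → ℂ) := by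
    rw [regInner, regInner, ← Char.classInner_smul_left]
    congr 1
    funext g
    by_cases hg : IsPRegular p g
    · have e : pReg p g = g := by
        have := pPt_mul_pReg (p := p) g
        rwa [(pPt_eq_one_iff g).2 hg, one_mul] at this
      simp [hγ, pRegularPart_of_reg hg, e]
    · simp [pRegularPart_of_sing hg]
  have h2 : regInner p γ (ψ₀ : A → ℂ) =
      (∑ χ ∈ B.toFinset, (k χ : ℂ)) * regInner p (ψ₀ : A → ℂ) (ψ₀ : A → ℂ) := by
    rw [regInner, hexp, show pRegularPart p (∑ χ : IrrCharacter A, (k χ : ℂ) • (χ : A → ℂ)) =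
      ∑ χ : IrrCharacter A, (k χ : ℂ) • pRegularPart p (χ : A → ℂ) from funext fun g => by
        by_cases hg : IsPRegular p g
        · simp [pRegularPart_of_reg hg, Finset.sum_apply]
        · simp [pRegularPart_of_sing hg, Finset.sum_apply],
      Char.classInner_sum_left, Finset.sum_mul,
      ← Finset.sum_subset (Finset.subset_univ B.toFinset) fun χ _ hχ => ?_]
    · refine Finset.sum_congr rfl fun χ hχ => ?_
      rw [Char.classInner_smul_left]
      congr 1
      rw [regInner]
      congr 1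
      funext g
      by_cases hg : IsPRegular p g
      · simp [pRegularPart_of_reg hg, R.reg χ (Set.mem_toFinset.1 hχ) g hg]
      · simp [pRegularPart_of_sing hg]
    · have h0 := regInner_eq_zero hM (vInt_indVec hM R.block) R.mem
        fun h => hχ (Set.mem_toFinset.2 h)
      rw [← regInner_conj, map_eq_zero] at h0
      rw [Char.classInner_smul_left]
      exact mul_eq_zero_of_right _ h0
  have hreg0 : regInner p (ψ₀ : A → ℂ) (ψ₀ : A → ℂ) ≠ 0 := regInner_self_ne ψ₀
  have h3 : (n : ℂ)⁻¹ = ((∑ χ ∈ B.toFinset, k χ : ℤ) : ℂ) := by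
    push_cast
    exact mul_right_cancel₀ hreg0 (h1.symm.trans h2)
  have h4 : ((n : ℤ) * ∑ χ ∈ B.toFinset, k χ : ℤ) = 1 := by
    have : ((n : ℂ) * ((∑ χ ∈ B.toFinset, k χ : ℤ) : ℂ)) = 1 := by
      rw [← h3, mul_inv_cancel₀ hn0]
    exact_mod_cast this
  have hn1 : n = 1 := by
    rcases Int.eq_one_or_neg_one_of_mul_eq_one h4 with h | h <;> omega
  rw [← hnm, hn1, Nat.cast_one, one_mul]

end Cfsg.Lib.Block
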