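import Cfsg.Agent.Lib.Block.RelBrauer
import Cfsg.Agent.Lib.Block.DefectLocal

/-!
# Inclusion of Brauer pairs

Below a Brauer pair there is exactly one pair at each subgroup, and a pair and the pairs below it
belong to the same block.
-/

set_option autoImplicit false
set_option linter.unusedSectionVars false
set_option maxHeartbeats 400000

namespace Cfsg.Lib.Block

open Cfsg
open scoped ComplexConjugate

universe u

/-- A finite-type instance for the subgroups of a finite group, local to this development. -/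
noncomputable local instance (priority := high) fintypeSubgroupPairs {G : Type u} [Group G]
    [Fintype G] (H : Subgroup G) : Fintype H := Fintype.ofFinite H

local notation "C[" Q "]" => Subgroup.centralizer (SetLike.coe Q)

variable {p : ℕ} {M : Ideal AlgInt} {G : Type u} [Group G] [Fintype G] [Fact p.Prime]
  (hM : IsPModular p M)

theorem mem_normalizer_centralizer {Q : Subgroup G} {x : G}
    (hx : x ∈ Subgroup.normalizer (Q : Set G)) :
    x ∈ Subgroup.normalizer (C[Q] : Set G) :=
  Subgroup.mem_normalizer_iff.2 fun _ => (centralizer_conj_mem_iff hx).symm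

theorem normalizer_le_conjMaps {Q : Subgroup G} {x : G}
    (hx : x ∈ Subgroup.normalizer (Q : Set G)) : ConjMaps x C[Q] C[Q] :=
  conjMaps_normalizer (mem_normalizer_centralizer hx)

/-- The Brauer image at `Q` of the idempotent of a set of characters. -/
noncomputable def brU (Q : Subgroup G) (B : Set (IrrCharacter G)) : IrrCharacter C[Q] → ℂ :=
  brVec Q C[Q] (indVec B)

open Classical in
theorem extF_brU (Q : Subgroup G) (B : Set (IrrCharacter G)) (g : G) :
    extF C[Q] (brU Q B) g = if g ∈ C[Q] then blockCoeff B g else 0 := by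
  by_cases h : g ∈ C[Q]
  · rw [if_pos h, extF_of_mem _ h, brU, zc_brVec (Subgroup.centralizer_le_normalizer _),
      brF_of_mem (h := (⟨g, h⟩ : C[Q])) h, zc_indVec]
  · rw [if_neg h, extF_of_notMem _ h]

theorem invOn_brU (Q : Subgroup G) (B : Set (IrrCharacter G)) :
    InvOn (Subgroup.normalizer (Q : Set G)) C[Q] (brU Q B) := fun x hx g => by
  classical
  rw [extF_brU, extF_brU, blockCoeff_conj_invariant]
  exact if_congr (centralizer_conj_mem_iff hx) rfl rfl

include hM in
theorem vInt_brU (Q : Subgroup G) {B : Set (IrrCharacter G)} (hB : IsPBlock M B) :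
    VInt hM (brU Q B) :=
  vInt_brVec hM (Subgroup.centralizer_le_normalizer _) (vInt_indVec hM hB)

include hM in
theorem vSmall_brU_idem {Q : Subgroup G} (hQ : IsPGroup p Q) {B : Set (IrrCharacter G)}
    (hB : IsPBlock M B) : VSmall M (brU Q B * brU Q B - brU Q B) := by
  have h := vSmall_brVec_mul hM hQ le_rfl (Subgroup.centralizer_le_normalizer _)
    (vInt_indVec hM hB) (vInt_indVec hM hB)
  rw [indVec_mul_indVec, Set.inter_self] at h
  have h2 := vSmall_sub hM (vSmall_zero hM) h
  rwa [zero_sub, neg_sub] at h2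

theorem trV_brU {Q P : Subgroup G} (h : Q ≤ P) (B : Set (IrrCharacter G)) :
    trV C[P] C[Q] (brU Q B) = brU P B := by
  classical
  refine zc_injective fun x => ?_
  rw [zc_trV (Subgroup.centralizer_le h), extF_brU, if_pos (Subgroup.centralizer_le h x.2), brU,
    zc_brVec (Subgroup.centralizer_le_normalizer _), brF_of_mem x.2, zc_indVec]

include hM in
theorem isBrauerPairOf_iff_brU (B : Set (IrrCharacter G)) (P : Subgroup G)
    (e : Set (IrrCharacter C[P])) :
    IsBrauerPairOf p M B P e ↔
      IsBrauerPair p M P e ∧ IsPBlock M B ∧ ∀ ξ ∈ e, res hM (brU P B ξ) = 1 := by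
  constructor
  · intro h
    exact ⟨h.1, h.2.1, (isBrauerPairOf_iff hM h.2.1 P h.1.1 h.1.2).1 h⟩
  · rintro ⟨h1, hB, h⟩
    exact (isBrauerPairOf_iff hM hB P h1.1 h1.2).2 h

theorem brauerOmega_subgroupBlockCoeff (P Q : Subgroup G) (f : Set (IrrCharacter C[Q]))
    (ξ : IrrCharacter C[P]) :
    brauerOmega P (subgroupBlockCoeff C[Q] f) (ξ : C[P] → ℂ) = trV C[P] C[Q] (indVec f) ξ := by
  rw [brauerOmega, finsum_eq_sum_of_fintype, trV, vec, Finset.sum_div]
  exact Finset.sum_congr rfl fun x _ => by rw [extF_indVec]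

include hM in
theorem isNormalSubpair_iff {Q P : Subgroup G} {f : Set (IrrCharacter C[Q])}
    {e : Set (IrrCharacter C[P])} :
    IsNormalSubpair p M Q f P e ↔ IsBrauerPair p M Q f ∧ IsBrauerPair p M P e ∧ Q ≤ P ∧
      P ≤ Subgroup.normalizer (Q : Set G) ∧ InvOn P C[Q] (indVec f) ∧
      ∀ ξ ∈ e, res hM (trV C[P] C[Q] (indVec f) ξ) = 1 := by
  unfold IsNormalSubpair
  refine and_congr_right fun hQ => and_congr_right fun _ => and_congr_right fun hle =>
    and_congr_right fun hPN => and_congr
      (invOn_indVec_iff fun x hx => mem_normalizer_centralizer (hPN hx)).symm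
      (forall₂_congr fun ξ _ => ?_)
  rw [brauerOmega_subgroupBlockCoeff, ← res_eq_iff hM
    (apply_mem_locRing hM (vInt_trV hM (Subgroup.centralizer_le hle) (vInt_indVec hM hQ.2)) ξ)
    (one_mem _), res_one]

include hM in
/-- A block of the larger centralizer selected at one character is selected at its whole block. -/
theorem res_trV_congr {D E : Subgroup G} (hE : E ≤ D) {v : IrrCharacter D → ℂ} (hv : VInt hM v)
    {e : Set (IrrCharacter E)} (he : IsPBlock M e) {ξ η : IrrCharacter E} (hξ : ξ ∈ e)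
    (hη : η ∈ e) : res hM (trV E D v ξ) = res hM (trV E D v η) :=
  res_apply_eq hM (vInt_trV hM hE hv) (sameBlock_of_mem hM he hξ hη)

include hM in
/-- Below a pair there is exactly one pair at a normal subgroup. -/
theorem existsUnique_normalSubpair {P Q : Subgroup G} {e : Set (IrrCharacter C[P])}
    (hPe : IsBrauerPair p M P e) (hQP : Q ≤ P) (hPN : P ≤ Subgroup.normalizer (Q : Set G)) :
    ∃! f : Set (IrrCharacter C[Q]), IsNormalSubpair p M Q f P e := by
  obtain ⟨ξ, hξ⟩ := nonempty_of_isPBlock hM hPe.2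
  have hE := Subgroup.centralizer_le (G := G) hQP
  obtain ⟨f, ⟨hf, hfi, hsel⟩, huniq⟩ := existsUnique_stable hM hPe.1 rfl hE
    (fun x hx => mem_normalizer_centralizer (hPN hx)) ξ
  refine ⟨f, (isNormalSubpair_iff hM).2 ⟨⟨hPe.1.to_le hQP, hf⟩, hPe, hQP, hPN, hfi,
    fun η hη => (res_trV_congr hM hE (vInt_indVec hM hf) hPe.2 hη hξ).trans hsel⟩, ?_⟩
  intro f' hf'
  obtain ⟨hQf, -, -, -, hi, hs⟩ := (isNormalSubpair_iff hM).1 hf'
  exact huniq f' ⟨hQf.2, hi, hs ξ hξ⟩

include hM in
theorem eq_of_normalSubpair_self {Q : Subgroup G} {f g : Set (IrrCharacter C[Q])}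
    (h : IsNormalSubpair p M Q f Q g) : f = g := by
  classical
  obtain ⟨hf, hg, -, -, -, hs⟩ := (isNormalSubpair_iff hM).1 h
  obtain ⟨ξ, hξ⟩ := nonempty_of_isPBlock hM hg.2
  have h1 := hs ξ hξ
  rw [trV_self, indVec] at h1
  split_ifs at h1 with hm
  · exact isPBlock_eq_of_mem hM hf.2 hg.2 hm hξ
  · rw [res_zero] at h1; exact absurd h1 zero_ne_one

include hM in
/-- A normal pair and the pair below it have the same blocks. -/
theorem res_brU_of_normalSubpair {P Q : Subgroup G} {e : Set (IrrCharacter C[P])}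
    {f : Set (IrrCharacter C[Q])} (h : IsNormalSubpair p M Q f P e) {B : Set (IrrCharacter G)}
    (hB : IsPBlock M B) {ξ : IrrCharacter C[P]} (hξ : ξ ∈ e) {η : IrrCharacter C[Q]}
    (hη : η ∈ f) : res hM (brU P B ξ) = res hM (brU Q B η) := by
  obtain ⟨hQf, hPe, hQP, hPN, hi, hs⟩ := (isNormalSubpair_iff hM).1 h
  rw [← trV_brU hQP B]
  exact res_trV_eq_of_selected hM hPe.1 rfl (Subgroup.centralizer_le hQP) (vInt_brU hM Q hB)
    (vSmall_brU_idem hM hQf.1 hB) (invOn_mono hPN (invOn_brU Q B)) hQf.2 hi (hs ξ hξ) hη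

include hM in
theorem isBrauerPairOf_iff_of_normal {P Q : Subgroup G} {e : Set (IrrCharacter C[P])}
    {f : Set (IrrCharacter C[Q])} (h : IsNormalSubpair p M Q f P e) (B : Set (IrrCharacter G)) :
    IsBrauerPairOf p M B P e ↔ IsBrauerPairOf p M B Q f := by
  obtain ⟨hQf, hPe, -⟩ := id h
  obtain ⟨ξ₀, hξ₀⟩ := nonempty_of_isPBlock hM hPe.2
  obtain ⟨η₀, hη₀⟩ := nonempty_of_isPBlock hM hQf.2
  rw [isBrauerPairOf_iff_brU hM, isBrauerPairOf_iff_brU hM]
  constructor
  · rintro ⟨-, hB, hs⟩
    exact ⟨hQf, hB, fun η hη => (res_brU_of_normalSubpair hM h hB hξ₀ hη).symm.trans (hs ξ₀ hξ₀)⟩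
  · rintro ⟨-, hB, hs⟩
    exact ⟨hPe, hB, fun ξ hξ => (res_brU_of_normalSubpair hM h hB hξ hη₀).trans (hs η₀ hη₀)⟩

include hM in
theorem isBrauerPairOf_iff_of_le {P Q : Subgroup G} {e : Set (IrrCharacter C[P])}
    {f : Set (IrrCharacter C[Q])} (h : SubpairLE p M Q f P e) (B : Set (IrrCharacter G)) :
    IsBrauerPairOf p M B P e ↔ IsBrauerPairOf p M B Q f := by
  suffices ∀ a b : BrauerPairIdx G, Relation.ReflTransGen (NormalSubpairRel p M) a b →
      (IsBrauerPairOf p M B b.1 b.2 ↔ IsBrauerPairOf p M B a.1 a.2) from this ⟨Q, f⟩ ⟨P, e⟩ h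
  intro a b hab
  induction hab using Relation.ReflTransGen.head_induction_on with
  | refl => rfl
  | head hac _ ih => exact ih.trans (isBrauerPairOf_iff_of_normal hM hac B)

theorem le_of_rel {a b : BrauerPairIdx G}
    (h : Relation.ReflTransGen (NormalSubpairRel p M) a b) : a.1 ≤ b.1 := by
  induction h with
  | refl => exact le_rfl
  | tail _ hbc ih => exact ih.trans hbc.2.2.1

theorem subpairLE_le {P Q : Subgroup G} {e : Set (IrrCharacter C[P])}
    {f : Set (IrrCharacter C[Q])} (h : SubpairLE p M Q f P e) : Q ≤ P :=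
  le_of_rel h

theorem isBrauerPair_of_rel {a b : BrauerPairIdx G}
    (h : Relation.ReflTransGen (NormalSubpairRel p M) a b) (hb : IsBrauerPair p M b.1 b.2) :
    IsBrauerPair p M a.1 a.2 := by
  induction h using Relation.ReflTransGen.head_induction_on with
  | refl => exact hb
  | head hac _ _ => exact hac.1

theorem isBrauerPair_of_le {P Q : Subgroup G} {e : Set (IrrCharacter C[P])}
    {f : Set (IrrCharacter C[Q])} (h : SubpairLE p M Q f P e) (hPe : IsBrauerPair p M P e) :
    IsBrauerPair p M Q f :=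
  isBrauerPair_of_rel h hPe

include hM in
/-- A stable block selected at the top of a chain is selected along the chain. -/
theorem selected_along {Q : Subgroup G} {f : Set (IrrCharacter C[Q])} (hf : IsPBlock M f)
    {a b : BrauerPairIdx G} (hab : Relation.ReflTransGen (NormalSubpairRel p M) a b)
    (hb : IsBrauerPair p M b.1 b.2) (hQa : Q ≤ a.1) (hinv : InvOn b.1 C[Q] (indVec f))
    (hsel : ∀ ξ ∈ b.2, res hM (trV C[b.1] C[Q] (indVec f) ξ) = 1) :
    ∀ η ∈ a.2, res hM (trV C[a.1] C[Q] (indVec f) η) = 1 := by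
  induction hab using Relation.ReflTransGen.head_induction_on with
  | refl => exact hsel
  | @head a c hac hcb ih =>
    intro η hη
    obtain ⟨ha, hc, hle, hN, hi, hs⟩ := (isNormalSubpair_iff hM).1 hac
    have hca := ih (hQa.trans hle)
    obtain ⟨ξ, hξ⟩ := nonempty_of_isPBlock hM hc.2
    have hQC := Subgroup.centralizer_le (G := G) hQa
    have hcC := Subgroup.centralizer_le (G := G) hle
    have hI := vInt_indVec hM hf
    have hivc : InvOn c.1 C[Q] (indVec f) := invOn_mono (le_of_rel hcb) hinv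
    have hid : VSmall M (trV C[a.1] C[Q] (indVec f) * trV C[a.1] C[Q] (indVec f) -
        trV C[a.1] C[Q] (indVec f)) :=
      vSmall_trV_idem hM ha.1 rfl hQC hI (invOn_mono hle hivc) (by
        rw [indVec_mul_indVec, Set.inter_self, sub_self]; exact vSmall_zero hM)
    have key := res_trV_eq_of_selected hM hc.1 rfl hcC (vInt_trV hM hQC hI) hid
      (invOn_trV hQC hivc fun x hx => normalizer_le_conjMaps (hN hx)) ha.2 hi (hs ξ hξ) hη
    rw [trV_trans hcC hQC] at key
    rw [← key]
    exact hca ξ hξ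

include hM in
/-- The triangle: a normal pair below the top is normal below intermediate pairs. -/
theorem normalSubpair_of_between {P Q R : Subgroup G} {e : Set (IrrCharacter C[P])}
    {f : Set (IrrCharacter C[Q])} {g : Set (IrrCharacter C[R])}
    (hfP : IsNormalSubpair p M Q f P e) (hgP : SubpairLE p M R g P e) (hQR : Q ≤ R) :
    IsNormalSubpair p M Q f R g := by
  obtain ⟨hQf, hPe, -, hPN, hi, hs⟩ := (isNormalSubpair_iff hM).1 hfP
  exact (isNormalSubpair_iff hM).2 ⟨hQf, isBrauerPair_of_le hgP hPe, hQR,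
    (subpairLE_le hgP).trans hPN, invOn_mono (subpairLE_le hgP) hi,
    selected_along hM hQf.2 (a := ⟨R, g⟩) (b := ⟨P, e⟩) hgP hPe hQR hi hs⟩

theorem lt_inf_normalizer {P Q : Subgroup G} (hP : IsPGroup p P) (hlt : Q < P) :
    Q < P ⊓ Subgroup.normalizer (Q : Set G) := by
  refine lt_of_le_of_ne (le_inf hlt.le Subgroup.le_normalizer) fun h => hlt.ne ?_
  exact (eq_of_normalizer_inf_le hP hlt.le h.ge).symm

include hM in
/-- Below a pair there is a pair at every subgroup. -/
theorem exists_subpair {P : Subgroup G} {e : Set (IrrCharacter C[P])}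
    (hPe : IsBrauerPair p M P e) :
    ∀ {Q : Subgroup G}, Q ≤ P →
      ∃ f : Set (IrrCharacter C[Q]), IsPBlock M f ∧ SubpairLE p M Q f P e := by
  suffices ∀ n, ∀ Q : Subgroup G, Q ≤ P → Nat.card P - Nat.card Q = n →
      ∃ f : Set (IrrCharacter C[Q]), IsPBlock M f ∧ SubpairLE p M Q f P e from
    fun {Q} h => this _ Q h rfl
  intro n
  induction n using Nat.strong_induction_on with
  | _ n ih =>
    intro Q hQP hn
    rcases hQP.eq_or_lt with rfl | hlt
    · exact ⟨e, hPe.2, Relation.ReflTransGen.refl⟩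
    · set N := P ⊓ Subgroup.normalizer (Q : Set G) with hN
      have hQN := lt_inf_normalizer hPe.1 hlt
      rw [← hN] at hQN
      have hcard : Nat.card Q < Nat.card N :=
        lt_of_le_of_ne (Subgroup.card_le_of_le hQN.le)
          fun h => hQN.ne (Subgroup.eq_of_le_of_card_ge hQN.le h.ge)
      have hNP : Nat.card N ≤ Nat.card P := Subgroup.card_le_of_le inf_le_left
      obtain ⟨fN, hfN, hle⟩ := ih _ (by omega) N inf_le_left rfl
      obtain ⟨f, hf, -⟩ := existsUnique_normalSubpair hM
        (⟨hPe.1.to_le inf_le_left, hfN⟩ : IsBrauerPair p M N fN) hQN.le inf_le_right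
      exact ⟨f, hf.1.2, Relation.ReflTransGen.head (show NormalSubpairRel p M ⟨Q, f⟩ ⟨N, fN⟩ from hf) hle⟩

include hM in
/-- A nontrivial inclusion starts with a step to a strictly larger subgroup. -/
theorem first_step {a b : BrauerPairIdx G}
    (h : Relation.ReflTransGen (NormalSubpairRel p M) a b) :
    a = b ∨ ∃ c : BrauerPairIdx G, a.1 < c.1 ∧ NormalSubpairRel p M a c ∧
      Relation.ReflTransGen (NormalSubpairRel p M) c b := by
  induction h using Relation.ReflTransGen.head_induction_on with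
  | refl => exact Or.inl rfl
  | @head a c hac hcb ih =>
    rcases (hac.2.2.1 : a.1 ≤ c.1).eq_or_lt with he | hlt
    · obtain ⟨Q, f⟩ := a
      obtain ⟨R, g⟩ := c
      cases he
      cases eq_of_normalSubpair_self hM hac
      exact ih
    · exact Or.inr ⟨c, hlt, hac, hcb⟩

include hM in
/-- Below a pair there is at most one pair at each subgroup. -/
theorem subpair_unique {P : Subgroup G} {e : Set (IrrCharacter C[P])}
    (hPe : IsBrauerPair p M P e) :
    ∀ {Q : Subgroup G} {f f' : Set (IrrCharacter C[Q])},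
      SubpairLE p M Q f P e → SubpairLE p M Q f' P e → f = f' := by
  suffices ∀ n, ∀ Q : Subgroup G, Nat.card P - Nat.card Q = n →
      ∀ f f' : Set (IrrCharacter C[Q]), SubpairLE p M Q f P e → SubpairLE p M Q f' P e → f = f' from
    fun {Q} {f f'} h h' => this _ Q rfl f f' h h'
  intro n
  induction n using Nat.strong_induction_on with
  | _ n ih =>
    intro Q hn f f' h h'
    have hQP := subpairLE_le h
    rcases hQP.eq_or_lt with rfl | hlt
    · have key : ∀ x, SubpairLE p M Q x Q e → x = e := fun x hx => by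
        rcases first_step hM hx with he | ⟨c, hc, -, hcb⟩
        · exact eq_of_heq (Sigma.mk.inj_iff.1 he).2
        · exact absurd (le_of_rel hcb) (not_le_of_gt hc)
      rw [key f h, key f' h']
    · set N := P ⊓ Subgroup.normalizer (Q : Set G) with hN
      have hQN := lt_inf_normalizer hPe.1 hlt
      rw [← hN] at hQN
      obtain ⟨fN, hfN, hNle⟩ := exists_subpair hM hPe (inf_le_left : N ≤ P)
      have hNpair : IsBrauerPair p M N fN := ⟨hPe.1.to_le inf_le_left, hfN⟩
      obtain ⟨f₀, hf₀, -⟩ := existsUnique_normalSubpair hM hNpair hQN.le inf_le_right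
      have key : ∀ x, SubpairLE p M Q x P e → x = f₀ := by
        intro x hx
        rcases first_step hM hx with he | ⟨⟨R, g⟩, hR, hstep, hgP⟩
        · exact absurd (congrArg Sigma.fst he) hlt.ne
        · have hstep' : IsNormalSubpair p M Q x R g := hstep
          have hQR : Q < R := hR
          have hgP' : SubpairLE p M R g P e := hgP
          have hRN : R ≤ N := le_inf (subpairLE_le hgP') hstep'.2.2.2.1
          obtain ⟨g', hg', hg'N⟩ := exists_subpair hM hNpair hRN
          have hcard : Nat.card Q < Nat.card R :=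
            lt_of_le_of_ne (Subgroup.card_le_of_le hQR.le)
              fun h => hQR.ne (Subgroup.eq_of_le_of_card_ge hQR.le h.ge)
          have hRP : Nat.card R ≤ Nat.card P := Subgroup.card_le_of_le (subpairLE_le hgP')
          have hgg : g' = g :=
            ih _ (by omega) R rfl g' g (hg'N.trans hNle) hgP'
          subst hgg
          have h0 := normalSubpair_of_between hM hf₀ hg'N hQR.le
          exact (existsUnique_normalSubpair hM h0.2.1 hQR.le hstep'.2.2.2.1).unique hstep' h0
      rw [key f h, key f' h']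

include hM in
/-- Inclusion is compatible with intermediate subgroups. -/
theorem subpair_of_between {P Q R : Subgroup G} {e : Set (IrrCharacter C[P])}
    {f : Set (IrrCharacter C[Q])} {g : Set (IrrCharacter C[R])} (hPe : IsBrauerPair p M P e)
    (hf : SubpairLE p M Q f P e) (hg : SubpairLE p M R g P e) (hQR : Q ≤ R) :
    SubpairLE p M Q f R g := by
  obtain ⟨f', -, hf'⟩ := exists_subpair hM (isBrauerPair_of_le hg hPe) hQR
  rwa [subpair_unique hM hPe hf (hf'.trans hg)]

include hM in
/-- A block has a pair at `Q` exactly when `Q` lies in a defect group up to conjugation. -/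
theorem exists_pair_iff {B : Set (IrrCharacter G)} (hB : IsPBlock M B) {D : Subgroup G}
    (hD : IsDefectGroup p M B D) {Q : Subgroup G} (hQ : IsPGroup p Q) :
    (∃ f : Set (IrrCharacter C[Q]), IsBrauerPairOf p M B Q f) ↔
      ∃ x : G, Q.map (MulAut.conj x).toMonoidHom ≤ D := by
  rw [← exists_coeff_iff_conj_le hM hB hD hQ,
    ← exists_brVec_iff_coeff hM hQ le_rfl (Subgroup.centralizer_le_normalizer _) hB]
  constructor
  · rintro ⟨f, hf⟩
    obtain ⟨hpair, -, hs⟩ := (isBrauerPairOf_iff_brU hM B Q f).1 hf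
    obtain ⟨ξ, hξ⟩ := nonempty_of_isPBlock hM hpair.2
    exact ⟨ξ, hs ξ hξ⟩
  · rintro ⟨ξ, hξ⟩
    refine ⟨blockOf M (ξ : C[Q] → ℂ), (isBrauerPairOf_iff_brU hM B Q _).2
      ⟨⟨hQ, isPBlock_blockOf ξ⟩, hB, fun η hη => ?_⟩⟩
    rw [← hξ]
    exact res_apply_eq hM (vInt_brU hM Q hB) (sameBlock_symm hM hη)

end Cfsg.Lib.Block
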