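import Cfsg.Agent.Lib.Block.StabBlock

/-!
# Defect groups of the pairs below a maximal pair

For a pair `(Q, f)` below a maximal pair `(P, e)`, seen in the centralizer of `Q` or in the
stabilizer of `f`, the intersection with `P` lies in a defect group, and is one after conjugation.
-/

set_option autoImplicit false
set_option linter.unusedSectionVars false
set_option maxHeartbeats 400000

namespace Cfsg.Lib.Block

open Cfsg
open scoped ComplexConjugate

universe u

noncomputable local instance (priority := high) fintypeSubgroupDefectPairs {G : Type u} [Group G]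
    [Fintype G] (H : Subgroup G) : Fintype H := Fintype.ofFinite H

local notation "C[" Q "]" => Subgroup.centralizer (SetLike.coe Q)

variable {p : ℕ} {M : Ideal AlgInt} {G : Type u} [Group G] [Fintype G] [Fact p.Prime]
  (hM : IsPModular p M)

include hM in
/-- A pair below `(P, e)` is normally below its neighbour in `P`. -/
theorem normalSubpair_below {P Q S : Subgroup G} {e : Set (IrrCharacter C[P])}
    {f : Set (IrrCharacter C[Q])} (hPe : IsBrauerPair p M P e) (hle : SubpairLE p M Q f P e)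
    (hQS : Q ≤ S) (hSP : S ≤ P) (hSN : S ≤ Subgroup.normalizer (Q : Set G)) :
    ∃ g : Set (IrrCharacter C[S]), SubpairLE p M S g P e ∧ IsNormalSubpair p M Q f S g := by
  obtain ⟨g, hg, hgP⟩ := exists_subpair hM hPe hSP
  obtain ⟨f₀, hf₀, -⟩ := existsUnique_normalSubpair hM ⟨hPe.1.to_le hSP, hg⟩ hQS hSN
  refine ⟨g, hgP, ?_⟩
  rwa [subpair_unique hM hPe hle
    (Relation.ReflTransGen.head (show NormalSubpairRel p M ⟨Q, f₀⟩ ⟨S, g⟩ from hf₀) hgP)]

include hM in
theorem exists_unit_of_normal {Q S : Subgroup G} {f : Set (IrrCharacter C[Q])}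
    {g : Set (IrrCharacter C[S])} (h : IsNormalSubpair p M Q f S g) :
    ∃ c ∈ C[S], ¬ MemLocalIdeal M (subgroupBlockCoeff C[Q] f c) := by
  obtain ⟨hQf, hSg, hQS, -, -, hs⟩ := (isNormalSubpair_iff hM).1 h
  obtain ⟨ξ, hξ⟩ := nonempty_of_isPBlock hM hSg.2
  have hle := Subgroup.centralizer_le (G := G) hQS
  obtain ⟨c, hc⟩ := exists_unit_of_res_eq_one hM (vInt_trV hM hle (vInt_indVec hM hQf.2)) (hs ξ hξ)
  rw [zc_trV hle, extF_indVec] at hc
  exact ⟨c, c.2, hc⟩

include hM in
/-- A `p`-subgroup centralizing a unit coefficient lies in a defect group. -/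
theorem exists_defectGroup_ge_of_unit {K : Type u} [Group K] [Fintype K]
    {b : Set (IrrCharacter K)} (hb : IsPBlock M b) {S : Subgroup K} (hS : IsPGroup p S) {c : K}
    (hc : S ≤ Subgroup.centralizer ({c} : Set K)) (hu : ¬ MemLocalIdeal M (blockCoeff b c)) :
    ∃ D : Subgroup K, IsDefectGroup p M b D ∧ S ≤ D := by
  obtain ⟨D, hD⟩ := exists_defectGroup hM hb
  obtain ⟨x, hx⟩ := dClass_of_coeff hM hb hD hu S hS hc
  refine ⟨_, isDefectGroup_conj hM hb hD x⁻¹, fun s hs => ⟨x * s * x⁻¹, hx ⟨s, hs, rfl⟩, ?_⟩⟩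
  simp [mul_assoc]

/-- The setting of a block `F` of a group `T` between the centralizer and the normalizer of `Q`
with the idempotent of the block `f` of the centralizer. -/
structure IsLocalBlock (p : ℕ) (M : Ideal AlgInt) (Q T : Subgroup G)
    (f : Set (IrrCharacter C[Q])) (F : Set (IrrCharacter T)) : Prop where
  block : IsPBlock M F
  le : T ≤ Subgroup.normalizer (Q : Set G)
  cen : C[Q] ≤ T
  coeff : ∀ g : G, subgroupBlockCoeff T F g = subgroupBlockCoeff C[Q] f g
  stab : InvOn T C[Q] (indVec f)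

theorem isPGroup_map_subtype {T : Subgroup G} {D : Subgroup T} (h : IsPGroup p D) :
    IsPGroup p (D.map T.subtype) := h.map _

include hM in
/-- The intersection with `P` lies in a defect group of the local block. -/
theorem le_defectGroup_of_subpair {P Q T : Subgroup G} {e : Set (IrrCharacter C[P])}
    {f : Set (IrrCharacter C[Q])} {F : Set (IrrCharacter T)} (hT : IsLocalBlock p M Q T f F)
    (hPe : IsBrauerPair p M P e) (hle : SubpairLE p M Q f P e) :
    ∃ D : Subgroup T, IsDefectGroup p M F D ∧ (P ⊓ T).subgroupOf T ≤ D := by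
  have hQP := subpairLE_le hle
  obtain ⟨g, -, hng⟩ := normalSubpair_below hM hPe hle (S := Q ⊔ (P ⊓ T)) le_sup_left
    (sup_le hQP inf_le_left)
    (sup_le Subgroup.le_normalizer (inf_le_right.trans hT.le))
  obtain ⟨c, hc, hu⟩ := exists_unit_of_normal hM hng
  have hcT : c ∈ T := hT.cen (Subgroup.centralizer_le (G := G)
    (show (Q : Set G) ⊆ ((Q ⊔ (P ⊓ T) : Subgroup G) : Set G) from SetLike.coe_subset_coe.2 le_sup_left) hc)
  refine exists_defectGroup_ge_of_unit hM hT.block
    ((hPe.1.to_le inf_le_left).comap_subtype) (c := ⟨c, hcT⟩) (fun s hs => ?_) ?_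
  · refine Subgroup.mem_centralizer_iff.2 fun z hz => ?_
    rw [Set.mem_singleton_iff] at hz
    subst hz
    exact Subtype.ext (Subgroup.mem_centralizer_iff.1 hc _
      ((le_sup_right : P ⊓ T ≤ Q ⊔ (P ⊓ T)) (Subgroup.mem_subgroupOf.1 hs))).symm
  · rw [← hT.coeff, subgroupBlockCoeff, dif_pos hcT] at hu
    exact hu

include hM in
/-- After conjugation the intersection with `P` is a defect group of the local block. -/
theorem exists_conj_local_defect {B : Set (IrrCharacter G)} {P Q T : Subgroup G}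
    {e : Set (IrrCharacter C[P])} {f : Set (IrrCharacter C[Q])} {F : Set (IrrCharacter T)}
    (hT : IsLocalBlock p M Q T f F) (hmax : IsMaximalBrauerPair p M B P e)
    (hle : SubpairLE p M Q f P e) :
    ∃ x : G, Relation.ReflTransGen (NormalSubpairRel p M) (conjIdx x ⟨Q, f⟩) ⟨P, e⟩ ∧
      ∀ (T' : Subgroup G) (hx : ConjMaps x T T'),
        IsPBlock M (conjSet hx F) ∧
        (∀ g, subgroupBlockCoeff T' (conjSet hx F) g =
          subgroupBlockCoeff C[Q.map (MulAut.conj x).toMonoidHom] (conjBlock Q x f) g) ∧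
        IsDefectGroup p M (conjSet hx F) ((P ⊓ T').subgroupOf T') := by
  classical
  have hPe : IsBrauerPair p M P e := hmax.1.1
  have hQpair : IsBrauerPair p M Q f := isBrauerPair_of_le hle hPe
  obtain ⟨D, hD⟩ := exists_defectGroup hM hT.block
  obtain ⟨c, hc, S₀, hDeq⟩ := isDefectGroup_iff.1 hD
  set D' := D.map T.subtype with hD'
  have hD'p : IsPGroup p D' := isPGroup_map_subtype (isPGroup_defectGroup hM hD)
  have hD'T : D' ≤ T := Subgroup.map_subtype_le D
  set S := Q ⊔ D' with hS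
  have hSN : S ≤ Subgroup.normalizer (Q : Set G) := sup_le Subgroup.le_normalizer (hD'T.trans hT.le)
  have hSp : IsPGroup p S := by
    rw [hS, sup_comm]
    exact hD'p.to_sup_of_normal_right' hQpair.1 (hD'T.trans hT.le)
  have hinvS : InvOn S C[Q] (indVec f) :=
    invOn_iff_le_invStab.2 (sup_le (invOn_iff_le_invStab.1 (invOn_centralized le_rfl _))
      (hD'T.trans (invOn_iff_le_invStab.1 hT.stab)))
  have hu : ¬ MemLocalIdeal M (subgroupBlockCoeff C[Q] f (c : G)) := by
    rw [← hT.coeff]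
    simpa [subgroupBlockCoeff] using hc.2.1
  have hcC : (c : G) ∈ C[Q] := by
    by_contra hn
    exact hu (by rw [subgroupBlockCoeff, dif_neg hn]; exact memLocalIdeal_zero hM)
  have hcS : (c : G) ∈ C[S] := by
    refine mem_centralizer_of_le (sup_le (mem_centralizer_singleton_of hcC) ?_)
    rw [hD', hDeq]
    rintro _ ⟨d, hd, rfl⟩
    refine Subgroup.mem_centralizer_iff.2 fun z hz => ?_
    rw [Set.mem_singleton_iff] at hz
    subst hz
    exact congrArg (fun z : T => (z : G)) (Subgroup.mem_centralizer_iff.1 (cenSyl_le c S₀ hd) c rfl)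
  have hleS := Subgroup.centralizer_le (G := G)
    (show (Q : Set G) ⊆ (S : Set G) from SetLike.coe_subset_coe.2 le_sup_left)
  have hfI := vInt_indVec hM hQpair.2
  obtain ⟨ξ, hξ⟩ := exists_res_eq_one hM (c := ⟨(c : G), hcS⟩) (vInt_trV hM hleS hfI)
    (vSmall_trV_idem hM hSp rfl hleS hfI hinvS
      (by rw [indVec_mul_indVec, Set.inter_self, sub_self]; exact vSmall_zero hM))
    (by rwa [zc_trV hleS, extF_indVec])
  set g := blockOf M (ξ : C[S] → ℂ) with hg
  have hng : IsNormalSubpair p M Q f S g :=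
    (isNormalSubpair_iff hM).2 ⟨hQpair, ⟨hSp, isPBlock_blockOf ξ⟩, le_sup_left, hSN, hinvS,
      fun η hη => (res_trV_congr hM hleS hfI (isPBlock_blockOf ξ) hη (self_mem_blockOf hM ξ)).trans hξ⟩
  have hgB : IsBrauerPairOf p M B S g :=
    (isBrauerPairOf_iff_of_normal hM hng B).2 ((isBrauerPairOf_iff_of_le hM hle B).1 hmax.1)
  obtain ⟨x, hx⟩ := exists_conj_le_maximal hM hmax hgB
  have hQx : Relation.ReflTransGen (NormalSubpairRel p M) (conjIdx x ⟨Q, f⟩) ⟨P, e⟩ :=
    Relation.ReflTransGen.head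
      (normalSubpairRel_conjIdx hM x (show NormalSubpairRel p M ⟨Q, f⟩ ⟨S, g⟩ from hng)) hx
  refine ⟨x, hQx, fun T' hT' => ?_⟩
  set F' := conjSet hT' F with hF'
  have hF'P : IsPBlock M F' := isPBlock_conjSet _ hT.block
  have hmapQ := conjMaps_centralizer
    (rfl : Q.map (MulAut.conj x).toMonoidHom = Q.map (MulAut.conj x).toMonoidHom)
  have hcoef : ∀ g, subgroupBlockCoeff T' F' g =
      subgroupBlockCoeff C[Q.map (MulAut.conj x).toMonoidHom] (conjBlock Q x f) g := by
    intro g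
    obtain ⟨k, rfl⟩ : ∃ k, x * k * x⁻¹ = g := ⟨x⁻¹ * g * x, by group⟩
    rw [hF', subgroupBlockCoeff_conjSet, conjBlock_eq, subgroupBlockCoeff_conjSet, hT.coeff]
  refine ⟨hF'P, hcoef, ?_⟩
  have hloc : IsLocalBlock p M (Q.map (MulAut.conj x).toMonoidHom) T' (conjBlock Q x f) F' := by
    refine ⟨hF'P, ?_, ?_, hcoef, ?_⟩
    · intro y hy
      obtain ⟨k, rfl⟩ : ∃ k, x * k * x⁻¹ = y := ⟨x⁻¹ * y * x, by group⟩
      have hk := hT.le ((hT' k).2 hy)
      refine Subgroup.mem_normalizer_iff.2 fun a => ?_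
      simp only [MulEquiv.coe_toMonoidHom, MulAut.conj_apply, Subgroup.mem_map]
      constructor
      · rintro ⟨q, hq, rfl⟩
        exact ⟨k * q * k⁻¹, (Subgroup.mem_normalizer_iff.1 hk q).1 hq, by group⟩
      · rintro ⟨q, hq, he⟩
        refine ⟨k⁻¹ * q * k, ?_, ?_⟩
        · rw [Subgroup.mem_normalizer_iff.1 hk]
          rwa [show k * (k⁻¹ * q * k) * k⁻¹ = q by group]
        · calc x * (k⁻¹ * q * k) * x⁻¹ =
              (x * k * x⁻¹)⁻¹ * (x * q * x⁻¹) * (x * k * x⁻¹) := by group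
            _ = a := by rw [he]; group
    · intro y hy
      obtain ⟨k, rfl⟩ : ∃ k, x * k * x⁻¹ = y := ⟨x⁻¹ * y * x, by group⟩
      exact (hT' k).1 (hT.cen ((hmapQ k).2 hy))
    · intro y hy g
      obtain ⟨k, rfl⟩ : ∃ k, x * k * x⁻¹ = y := ⟨x⁻¹ * y * x, by group⟩
      obtain ⟨j, rfl⟩ : ∃ j, x * j * x⁻¹ = g := ⟨x⁻¹ * g * x, by group⟩
      rw [show x * k * x⁻¹ * (x * j * x⁻¹) * (x * k * x⁻¹)⁻¹ = x * (k * j * k⁻¹) * x⁻¹ by group,
        conjBlock_eq, extF_conjSet, extF_conjSet]
      exact hT.stab k ((hT' k).2 hy) j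
  obtain ⟨D'', hD'', hge⟩ := le_defectGroup_of_subpair hM hloc hPe hQx
  have hDx : IsDefectGroup p M F' (D.map (conjIso hT').symm.symm.toMonoidHom) :=
    isDefectGroup_pullSet (conjIso hT').symm hD
  rw [MulEquiv.symm_symm] at hDx
  have hSP : S.map (MulAut.conj x).toMonoidHom ≤ P := le_of_rel hx
  have hsub : D.map (conjIso hT').toMonoidHom ≤ (P ⊓ T').subgroupOf T' := by
    rintro _ ⟨d, hd, rfl⟩
    exact Subgroup.mem_subgroupOf.2 ⟨hSP ⟨(d : G),
      (le_sup_right : D' ≤ S) ⟨d, hd, rfl⟩, rfl⟩, ((conjIso hT') d).2⟩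
  have hcard : Nat.card D'' = Nat.card (D.map (conjIso hT').toMonoidHom : Subgroup T') := by
    rw [card_defectGroup hM hF'P hD'', card_defectGroup hM hF'P hDx]
  rw [← Subgroup.eq_of_le_of_card_ge hsub ((Subgroup.card_le_of_le hge).trans_eq hcard)]
  exact hDx

include hM in
theorem isLocalBlock_centralizer {Q : Subgroup G} {f : Set (IrrCharacter C[Q])}
    (hf : IsPBlock M f) : IsLocalBlock p M Q C[Q] f f :=
  ⟨hf, Subgroup.centralizer_le_normalizer _, le_rfl, fun _ => rfl, invOn_self _⟩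

include hM in
theorem exists_isLocalBlock {Q T : Subgroup G} {f : Set (IrrCharacter C[Q])}
    (hQ : IsPGroup p Q) (hf : IsPBlock M f)
    (hT : ∀ y : G, y ∈ T ↔ y ∈ Subgroup.normalizer (Q : Set G) ∧ StabilizesBlock C[Q] f y) :
    Q ≤ T ∧ ∃ F : Set (IrrCharacter T), IsLocalBlock p M Q T f F ∧
      ∀ t : T, blockCoeff F t = subgroupBlockCoeff C[Q] f (t : G) := by
  have hTN : T ≤ Subgroup.normalizer (Q : Set G) := fun y hy => ((hT y).1 hy).1
  have hinv : InvOn T C[Q] (indVec f) :=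
    (invOn_indVec_iff fun y hy => mem_normalizer_centralizer (hTN hy)).2 fun y hy => ((hT y).1 hy).2
  have hst : ∀ y, y ∈ Subgroup.normalizer (Q : Set G) → y ∈ invStab (indVec f) → y ∈ T :=
    fun y hy hi => (hT y).2 ⟨hy, (stabilizesBlock_iff_coeff (mem_normalizer_centralizer hy)).2
      fun g => by rw [← extF_indVec]; exact hi g⟩
  have hCT : C[Q] ≤ T := fun y hy =>
    hst y (Subgroup.centralizer_le_normalizer _ hy) (le_invStab_self _ hy)
  have hQT : Q ≤ T := fun y hy =>
    hst y (Subgroup.le_normalizer hy) (invOn_centralized le_rfl _ y hy)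
  obtain ⟨F, hF, h1, h2⟩ := exists_stabilizer_block hM hQ hQT hCT hTN hf hinv
  exact ⟨hQT, F, ⟨hF, hTN, hCT, h2, hinv⟩, h1⟩

end Cfsg.Lib.Block
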