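import Cfsg.Agent.Lib.Block.DefectTwoBound
import Cfsg.Agent.Lib.Block.SubsectionApps
import Cfsg.Agent.Lib.Block.InflateRank
import Cfsg.Agent.Lib.Block.BlockTrace
import Cfsg.Agent.Lib.Block.DefectPairs
import Cfsg.Agent.Lib.Block.MaxPairs

/-!
# The number of characters of a block against the defect

`k ≤ p ^ d` for defect at most two and `k ≤ p ^ (2 d - 2)` in general, by induction through a
major subsection at a central element of order `p` of a defect group.
-/

set_option autoImplicit false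
set_option linter.unusedSectionVars false
set_option maxHeartbeats 400000

namespace Cfsg.Lib.Block

open Cfsg

universe u

local notation "C[" Q "]" => Subgroup.centralizer (SetLike.coe Q)

variable {p : ℕ} {M : Ideal AlgInt} [Fact p.Prime] (hM : IsPModular p M)

include hM in
/-- A major subsection at an element of order `p` in the centre of a defect group. -/
theorem exists_major_order_p {G : Type u} [Group G] [Fintype G] {B : Set (IrrCharacter G)}
    (hB : IsPBlock M B) (hpos : 0 < blockDefect p B) :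
    ∃ (Q : Subgroup G) (u : G) (b : Set (IrrCharacter C[Q])) (D : Subgroup C[Q]),
      u ∈ Q ∧ Nat.card Q = p ∧ orderOf u = p ∧ Q = Subgroup.zpowers u ∧
      IsInducedBlock M C[Q] b B ∧ blockDefect p b = blockDefect p B ∧
      IsDefectGroup p M b D ∧ Q.subgroupOf C[Q] ≤ D := by
  classical
  obtain ⟨D, hD⟩ := exists_defectGroup hM hB
  have hDp := isPGroup_defectGroup hM hD
  have hDcard := card_defectGroup hM hB hD
  haveI : Nontrivial D := by
    rw [← Finite.one_lt_card_iff_nontrivial, hDcard]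
    exact Nat.one_lt_pow hpos.ne' (Fact.out : p.Prime).one_lt
  haveI := hDp.center_nontrivial
  obtain ⟨n, hn, hZ⟩ : ∃ n, n ≠ 0 ∧ Nat.card (Subgroup.center D) = p ^ n := by
    obtain ⟨n, hn⟩ := IsPGroup.iff_card.1 (hDp.to_subgroup (Subgroup.center D))
    refine ⟨n, fun h => ?_, hn⟩
    rw [h, pow_zero] at hn
    have := Finite.one_lt_card_iff_nontrivial.2 ‹Nontrivial (Subgroup.center D)›
    omega
  obtain ⟨z, hz⟩ := exists_prime_orderOf_dvd_card' p (hZ ▸ dvd_pow_self p hn)
  set u : G := ((z : D) : G) with hu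
  have huo : orderOf u = p := by rw [hu, orderOf_submonoid, orderOf_submonoid, hz]
  set Q := Subgroup.zpowers u with hQ
  have hQcard : Nat.card Q = p := by rw [hQ, Nat.card_zpowers, huo]
  have hQp : IsPGroup p Q := IsPGroup.of_card (n := 1) (by rw [hQcard, pow_one])
  have hQD : Q ≤ D := Subgroup.zpowers_le.2 (z : D).2
  have hDC : D ≤ C[Q] := fun x hx => Subgroup.mem_centralizer_iff.2 fun w hw => by
    obtain ⟨k, rfl⟩ := Subgroup.mem_zpowers_iff.1 hw
    have hc : Commute u x :=
      (congrArg Subtype.val (Subgroup.mem_center_iff.1 z.2 ⟨x, hx⟩)).symm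
    exact (hc.zpow_left k).eq
  haveI : ∀ H : Subgroup G, Fintype H := fun H => Fintype.ofFinite H
  obtain ⟨e, he⟩ := (exists_pair_iff hM hB hD hDp).2 ⟨1, fun x hx => by
    obtain ⟨y, hy, rfl⟩ := hx; simpa using hy⟩
  obtain ⟨f, hf, hle⟩ := exists_subpair hM he.1 hQD
  have hfB := (isBrauerPairOf_iff_of_le hM hle B).1 he
  have hind := isInducedBlock_of_isBrauerPairOf hM
    (fun x hx => hDC (hQD hx)) hfB
  obtain ⟨D', hD', hge⟩ :=
    le_defectGroup_of_subpair hM (isLocalBlock_centralizer hM hf) he.1 hle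
  rw [inf_eq_left.2 hDC] at hge
  refine ⟨Q, u, f, D', Subgroup.mem_zpowers u, hQcard, huo, hQ, hind, ?_, hD', ?_⟩
  · refine le_antisymm (blockDefect_le_of_induced hM hind) ?_
    rw [← Nat.pow_le_pow_iff_right (Fact.out : p.Prime).one_lt, ← hDcard,
      ← card_defectGroup hM hf hD', ← Nat.card_congr (Subgroup.subgroupOfEquivOfLe hDC).toEquiv]
    exact Subgroup.card_le_of_le hge
  · exact le_trans (fun x hx => hQD hx) hge

include hM in
/-- The block of the quotient by a central subgroup of order `p`. -/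
theorem quotient_block_data {K : Type u} [Group K] [Fintype K] (N : Subgroup K) [N.Normal]
    [Fintype (K ⧸ N)] (hNc : Nat.card N = p) (hNz : N ≤ Subgroup.center K)
    {b : Set (IrrCharacter K)} (hb : IsPBlock M b) {D : Subgroup K} (hD : IsDefectGroup p M b D)
    (hND : N ≤ D) :
    IsPBlock M (deflSet N b) ∧ blockDefect p (deflSet N b) + 1 = blockDefect p b ∧
      blockRank p b ≤ Nat.card (deflSet N b) := by
  classical
  have hN : IsPGroup p N := IsPGroup.of_card (n := 1) (by rw [hNc, pow_one])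
  have hreg : ∀ g : K, g ∈ Subgroup.centralizer (N : Set K) := fun g =>
    Subgroup.mem_centralizer_iff.2 fun x hx => (Subgroup.mem_center_iff.1 (hNz hx) g).symm
  obtain ⟨bb, hbb, hsub, hdef⟩ := exists_block_image hM N hN hb
  obtain ⟨φ₀, hφ₀⟩ := nonempty_of_isPBlock hM hbb
  have heq : deflSet N b = bb := by
    refine Set.Subset.antisymm (fun φ hφ => ?_) hsub
    have h1 : SameBlock M (φ₀ : K ⧸ N → ℂ) (φ : K ⧸ N → ℂ) :=
      (sameBlock_inflate_iff hM N N hN le_rfl (fun g _ _ => hreg g) φ₀ φ).2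
        (sameBlock_of_mem hM hb (hsub hφ₀) hφ)
    rw [eq_blockOf_of_mem hM hbb hφ₀]
    exact h1
  rw [heq]
  refine ⟨hbb, ?_, ?_⟩
  · have hDb : IsDefectGroup p M bb (D.map (QuotientGroup.mk' N)) :=
      (hdef _).2 ⟨D, hD, rfl⟩
    have h1 := card_defectGroup hM hbb hDb
    have h2 := card_defectGroup hM hb hD
    have h3 : Nat.card (D.map (QuotientGroup.mk' N)) * p = Nat.card D := by
      rw [← hNc]
      have e := Subgroup.card_eq_card_quotient_mul_card_subgroup (N.subgroupOf D)
      rw [e, Nat.card_congr (Subgroup.subgroupOfEquivOfLe hND).toEquiv]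
      congr 1
      refine (Nat.card_congr ?_).symm
      refine ((QuotientGroup.quotientMulEquivOfEq (M := N.subgroupOf D) ?_).trans
        ((QuotientGroup.quotientKerEquivRange
          ((QuotientGroup.mk' N).comp D.subtype)).trans (MulEquiv.subgroupCongr ?_))).toEquiv
      · ext x
        simp [Subgroup.mem_subgroupOf, MonoidHom.mem_ker]
      · rw [MonoidHom.range_comp, Subgroup.range_subtype]
    rw [h1, h2, ← pow_succ] at h3
    exact Nat.pow_right_injective (Fact.out : p.Prime).two_le h3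
  · rw [← heq, ← blockRank_deflSet hM N hN (fun g _ => hreg g) hb, heq]
    exact blockRank_le_card bb

include hM in
/-- The bounds `k ≤ p ^ d` for `d ≤ 2` and `k ≤ p ^ (2 d - 2)` in general. -/
theorem card_block_le_pow (d : ℕ) : ∀ {G : Type u} [Group G] [Fintype G]
    (B : Set (IrrCharacter G)), IsPBlock M B → blockDefect p B = d →
    Nat.card B ≤ if d ≤ 2 then p ^ d else p ^ (2 * d - 2) := by
  induction d using Nat.strong_induction_on with
  | _ d ih =>
  intro G _ _ B hB hd
  have hp := (Fact.out : p.Prime)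
  classical
  rcases Nat.eq_zero_or_pos d with rfl | hdpos
  · obtain ⟨χ, rfl, -⟩ := (blockDefect_eq_zero_iff hM hB).1 hd
    simp
  obtain ⟨Q, u, b, D, huQ, hQ, hu, hQu, hind, hbd, hD, hQD⟩ :=
    exists_major_order_p hM hB (hd ▸ hdpos)
  haveI := Fintype.ofFinite C[Q]
  set N : Subgroup C[Q] := Q.subgroupOf C[Q] with hN
  have hHu : ∀ h : C[Q], Commute u (h : G) := fun h =>
    Subgroup.mem_centralizer_iff.1 h.2 u huQ
  have hCH : Subgroup.centralizer ({u} : Set G) ≤ C[Q] := fun x hx =>
    Subgroup.mem_centralizer_iff.2 fun w hw => by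
      have hw' : w ∈ Subgroup.zpowers u := hQu ▸ hw
      obtain ⟨k, rfl⟩ := Subgroup.mem_zpowers_iff.1 hw'
      exact (Commute.zpow_left (Subgroup.mem_centralizer_iff.1 hx u (Set.mem_singleton u)) k).eq
  have hQC : Q ≤ C[Q] := fun x hx => Subgroup.mem_centralizer_iff.2 fun w hw => by
    have hx' : x ∈ Subgroup.zpowers u := hQu ▸ hx
    have hw' : w ∈ Subgroup.zpowers u := hQu ▸ hw
    obtain ⟨i, rfl⟩ := Subgroup.mem_zpowers_iff.1 hx'
    obtain ⟨j, rfl⟩ := Subgroup.mem_zpowers_iff.1 hw'
    exact (Commute.zpow_zpow (Commute.refl u) j i).eq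
  have hNc : Nat.card N = p := by
    rw [hN, Nat.card_congr (Subgroup.subgroupOfEquivOfLe hQC).toEquiv, hQ]
  have hNz : N ≤ Subgroup.center C[Q] := fun x hx => Subgroup.mem_center_iff.2 fun g =>
    Subtype.ext (Subgroup.mem_centralizer_iff.1 g.2 (x : G) hx).symm
  rw [hd] at hbd
  by_cases hpos : ∃ χ ∈ B, 0 < blockHeight p B (χ : G → ℂ)
  · obtain ⟨χ, hχ, hh⟩ := hpos
    rcases height_le_defect_sub_two hM hB hχ with h0 | h2
    · omega
    have h := two_mul_card_block_le hM hB hχ hh
    rw [hd] at h h2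
    rw [if_neg (by omega)]
    omega
  have hzero : ∀ χ ∈ B, blockHeight p B (χ : G → ℂ) = 0 := fun χ hχ =>
    Nat.eq_zero_of_not_pos fun h => hpos ⟨χ, hχ, h⟩
  have hu' : ∃ k : ℕ, orderOf u = p ^ k := ⟨1, by rw [hu, pow_one]⟩
  rcases (show d = 1 ∨ d = 2 ∨ 3 ≤ d by omega) with rfl | rfl | h3
  · rw [if_pos (by omega), pow_one]
    have hDN : N = D := Subgroup.eq_of_le_of_card_ge hQD
      (by rw [hNc, card_defectGroup hM hind.1 hD, hbd, pow_one])
    have hl := blockRank_eq_one_of_central hM hind.1 hD (hDN ▸ hNz)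
    have h := card_sq_le_of_major hM hu' hHu hCH hind hbd hzero
    rw [hl, mul_one, mul_one] at h
    exact (Nat.pow_le_pow_iff_left two_ne_zero).1 h
  · rw [if_pos le_rfl]
    exact card_le_sq_of_major hM hu hHu hCH hind hbd hzero
  · rw [if_neg (by omega)]
    haveI : N.Normal := ⟨fun n hn g => by
      rwa [Subgroup.mem_center_iff.1 (hNz hn) g, mul_inv_cancel_right]⟩
    haveI := Fintype.ofFinite (C[Q] ⧸ N)
    obtain ⟨hblk, hdef, hrk⟩ := quotient_block_data hM N hNc hNz hind.1 hD hQD
    rw [hbd] at hdef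
    have hIH := ih (d - 1) (by omega) (deflSet N b) hblk (by omega)
    have hlb : blockRank p b ≤ p ^ (2 * d - 4) := by
      refine hrk.trans (hIH.trans ?_)
      split_ifs with h
      · exact Nat.pow_le_pow_right hp.pos (by omega)
      · exact Nat.pow_le_pow_right hp.pos (by omega)
    have h := card_sq_le_of_major hM hu' hHu hCH hind hbd hzero
    refine (Nat.pow_le_pow_iff_left two_ne_zero).1 ?_
    refine h.trans ((Nat.mul_le_mul_left _ hlb).trans ?_)
    rw [← pow_add, ← pow_mul]
    exact Nat.pow_le_pow_right hp.pos (by omega)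

end Cfsg.Lib.Block
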