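import Cfsg.Agent.Lib.Block.InflateRegular
import Cfsg.Agent.Lib.Block.CoverBasics

/-!
# Principal blocks of central products
-/

set_option autoImplicit false
set_option linter.unusedSectionVars false

namespace Cfsg.Lib.Block

open Cfsg
open scoped ComplexConjugate

universe u

variable {p : ℕ} [hp : Fact p.Prime] {M : Ideal AlgInt} {G : Type u} [Group G] [Fintype G]

/-- A constituent on a subgroup centralized by a supplement gives the character values. -/
theorem restrict_div_eq (U V : Subgroup G) [Fintype U] (hcomm : ∀ u ∈ U, ∀ v ∈ V, u * v = v * u)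
    (hgen : U ⊔ V = ⊤) (χ : IrrCharacter G) (ψ : IrrCharacter U)
    (h : classInner (fun u : U => (χ : G → ℂ) u) (ψ : U → ℂ) ≠ 0) (u : U) :
    (χ : G → ℂ) u / (χ : G → ℂ) 1 = (ψ : U → ℂ) u / (ψ : U → ℂ) 1 := by
  classical
  have hV : V ≤ Subgroup.centralizer (U : Set G) := fun v hv =>
    Subgroup.mem_centralizer_iff.2 fun u hu => hcomm u hu v hv
  haveI hn : U.Normal := by
    rw [← Subgroup.normalizer_eq_top_iff, eq_top_iff, ← hgen]
    exact sup_le Subgroup.le_normalizer (hV.trans (Subgroup.centralizer_le_normalizer _))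
  have hinv : ∀ g : G, Char.conjTwist U (ψ : U → ℂ) g = ψ := by
    intro g
    obtain ⟨a, ha, b, hb, rfl⟩ := Subgroup.mem_sup_of_normal_left.1 (hgen ▸ Subgroup.mem_top g)
    funext x
    rw [Char.conjTwist, ← ψ.2.isClassFunction x ⟨a, ha⟩]
    refine congrArg _ (Subtype.ext ?_)
    have h1 : (x : G) * b = b * x := hcomm x x.2 b hb
    show _ = a * (x : G) * a⁻¹
    simp only [MulAut.conjNormal_apply]
    calc a * b * (x : G) * (a * b)⁻¹ = a * (b * x) * b⁻¹ * a⁻¹ := by group
      _ = a * x * a⁻¹ := by rw [← h1]; group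
  have horb : Char.twistOrbit U (ψ : U → ℂ) = {(ψ : U → ℂ)} := by
    ext φ
    rw [Char.mem_twistOrbit, Finset.mem_singleton]
    exact ⟨fun ⟨g, hg⟩ => hg ▸ hinv g, fun h => ⟨1, h ▸ hinv 1⟩⟩
  have h1 := Char.clifford_res U χ.2 ψ.2 h
  rw [horb, Finset.sum_singleton] at h1
  have e1 := congrFun h1 u
  have e2 := congrFun h1 1
  simp only [Pi.smul_apply, smul_eq_mul, OneMemClass.coe_one] at e1 e2
  rw [e1, e2, mul_div_mul_left _ _ h]

/-- Characters are multiplicative over commuting factors. -/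
theorem char_mul_commuting (U V : Subgroup G) (hcomm : ∀ u ∈ U, ∀ v ∈ V, u * v = v * u)
    (hgen : U ⊔ V = ⊤) (χ : IrrCharacter G) {a b : G} (ha : a ∈ U) (hb : b ∈ V) :
    (χ : G → ℂ) (a * b) / (χ : G → ℂ) 1 =
      (χ : G → ℂ) a / (χ : G → ℂ) 1 * ((χ : G → ℂ) b / (χ : G → ℂ) 1) := by
  classical
  haveI hn : U.Normal := by
    rw [← Subgroup.normalizer_eq_top_iff, eq_top_iff, ← hgen]
    exact sup_le Subgroup.le_normalizer (le_trans (fun v hv => Subgroup.mem_centralizer_iff.2
      fun u hu => hcomm u hu v hv) (Subgroup.centralizer_le_normalizer _))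
  have h := Char.sum_char_mul_conj χ.2 a b
  rw [Finset.sum_congr rfl (g := fun _ => (χ : G → ℂ) (a * b)) fun x _ => ?_, Finset.sum_const,
    Finset.card_univ, nsmul_eq_mul, ← Nat.card_eq_fintype_card] at h
  · rw [mul_div_assoc, mul_assoc] at h
    rw [mul_left_cancel₀ Char.card_cast_ne_zero h]
    have := χ.2.apply_one_ne_zero
    field_simp
  · obtain ⟨u, hu, v, hv, rfl⟩ := Subgroup.mem_sup_of_normal_left.1 (hgen ▸ Subgroup.mem_top x)
    have h1 : u * (v * b * v⁻¹) = (v * b * v⁻¹) * u :=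
      hcomm u hu _ (V.mul_mem (V.mul_mem hv hb) (V.inv_mem hv))
    rw [show u * v * b * (u * v)⁻¹ = u * (v * b * v⁻¹) * u⁻¹ by group, h1, mul_inv_cancel_right,
      ← χ.2.isClassFunction (a * b) v]
    refine congrArg (χ : G → ℂ) ?_
    have h2 : a * v = v * a := hcomm a ha v hv
    calc a * (v * b * v⁻¹) = (a * v) * b * v⁻¹ := by group
      _ = v * (a * b) * v⁻¹ := by rw [h2]; group

include hp in
/-- Class sizes multiply at regular elements. -/
theorem index_centralizer_mul (U V : Subgroup G) (hcomm : ∀ u ∈ U, ∀ v ∈ V, u * v = v * u)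
    (hgen : U ⊔ V = ⊤) (hZ : IsPGroup p ↥(U ⊓ V)) {a : U} {b : V} (ha : ¬ p ∣ orderOf a) :
    (Subgroup.centralizer ({(a : G) * b} : Set G)).index =
      (Subgroup.centralizer ({a} : Set U)).index * (Subgroup.centralizer ({b} : Set V)).index := by
  let f : U × V →* G :=
    { toFun := fun x => (x.1 : G) * x.2
      map_one' := by simp
      map_mul' := fun x y => by
        simp only [Prod.fst_mul, Prod.snd_mul, Subgroup.coe_mul]
        rw [mul_assoc (x.1 : G) y.1, ← mul_assoc (y.1 : G), hcomm y.1 y.1.2 x.2 x.2.2]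
        group }
  have hf : Function.Surjective f := by
    rw [← MonoidHom.range_eq_top, eq_top_iff, ← hgen]
    refine sup_le (fun u hu => ⟨(⟨u, hu⟩, 1), ?_⟩) (fun v hv => ⟨(1, ⟨v, hv⟩), ?_⟩) <;> simp [f]
  rw [← Subgroup.index_comap_of_surjective _ hf, ← Subgroup.index_prod]
  congr 1
  ext ⟨u, v⟩
  simp only [Subgroup.mem_comap, Subgroup.mem_prod, Subgroup.mem_centralizer_iff,
    Set.mem_singleton_iff, forall_eq, f, MonoidHom.coe_mk, OneHom.coe_mk]
  have e1 : (a : G) * b * ((u : G) * v) = (a * u : G) * (b * v) := by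
    rw [mul_assoc, ← mul_assoc (b : G), ← hcomm u u.2 b b.2]; group
  have e2 : (u : G) * v * ((a : G) * b) = (u * a : G) * (v * b) := by
    rw [mul_assoc, ← mul_assoc (v : G), ← hcomm a a.2 v v.2]; group
  rw [e1, e2]
  refine ⟨fun h => ?_, fun ⟨h1, h2⟩ => by
    have h1' := congrArg Subtype.val h1
    have h2' := congrArg Subtype.val h2
    simp only [Subgroup.coe_mul] at h1' h2'
    rw [h1', h2']⟩
  -- the discrepancy is a central `p`-element
  set z : G := (u : G) * a * (u : G)⁻¹ * (a : G)⁻¹ with hz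
  have hzU : z ∈ U := U.mul_mem (U.mul_mem (U.mul_mem u.2 a.2) (U.inv_mem u.2)) (U.inv_mem a.2)
  have hzeq : z = (b : G) * v * (b : G)⁻¹ * (v : G)⁻¹ := by
    have hu' : ((u : G)⁻¹ * (a : G)⁻¹) * ((v : G) * b) = ((v : G) * b) * ((u : G)⁻¹ * (a : G)⁻¹) :=
      hcomm _ (U.mul_mem (U.inv_mem u.2) (U.inv_mem a.2)) _ (V.mul_mem v.2 b.2)
    calc z = (u : G) * a * ((v : G) * b) * (((v : G) * b)⁻¹ * ((u : G)⁻¹ * (a : G)⁻¹)) := by
          rw [hz]; group
      _ = ((a : G) * u) * ((b : G) * v) * (((u : G)⁻¹ * (a : G)⁻¹) * ((v : G) * b)⁻¹) := by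
          rw [← h]
          congr 1
          rw [eq_mul_inv_iff_mul_eq, mul_assoc, hu', inv_mul_cancel_left]
      _ = ((a : G) * u) * (((u : G)⁻¹ * (a : G)⁻¹) * ((b : G) * v)) * ((v : G) * b)⁻¹ := by
          rw [hcomm _ (U.mul_mem (U.inv_mem u.2) (U.inv_mem a.2)) _ (V.mul_mem b.2 v.2)]
          group
      _ = _ := by group
  have hzV : z ∈ V := hzeq ▸ V.mul_mem (V.mul_mem (V.mul_mem b.2 v.2) (V.inv_mem b.2)) (V.inv_mem v.2)
  have hz1 : z = 1 := by
    by_contra h1
    have hord : orderOf (a : G) = orderOf a := orderOf_submonoid a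
    have hd := dvd_orderOf_mul_of_commute (p := p) (g := (a : G)) (w := z) (by rwa [hord])
      (hcomm _ a.2 z hzV).symm (exists_orderOf_eq_pow_of_mem hZ ⟨hzU, hzV⟩) h1
    rw [hz, inv_mul_cancel_right, show orderOf ((u : G) * a * (u : G)⁻¹) = orderOf (a : G) from
      (MulAut.conj (u : G)).orderOf_eq _, hord] at hd
    exact ha hd
  have h1 : (a : G) * u = u * a := by
    rw [hz, mul_inv_eq_one, mul_inv_eq_iff_eq_mul] at hz1
    exact hz1.symm
  exact ⟨Subtype.ext h1, Subtype.ext (mul_left_cancel (h1 ▸ h))⟩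

include hp in
/-- Membership in the principal block of a central product. -/
theorem mem_principal_centralProduct (hM : IsPModular p M) (U V : Subgroup G) [Fintype U]
    [Fintype V] (hcomm : ∀ u ∈ U, ∀ v ∈ V, u * v = v * u)
    (hgen : U ⊔ V = ⊤) (hZ : IsPGroup p ↥(U ⊓ V)) (χ : IrrCharacter G) (ψ : IrrCharacter U)
    (φ : IrrCharacter V) (h₁ : classInner (fun u : U => (χ : G → ℂ) u) (ψ : U → ℂ) ≠ 0)
    (h₂ : classInner (fun v : V => (χ : G → ℂ) v) (φ : V → ℂ) ≠ 0) :
    χ ∈ principalBlock M G ↔ ψ ∈ principalBlock M U ∧ φ ∈ principalBlock M V := by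
  classical
  have hcomm' : ∀ v ∈ V, ∀ u ∈ U, v * u = u * v := fun v hv u hu => (hcomm u hu v hv).symm
  have hgen' : V ⊔ U = ⊤ := by rwa [sup_comm]
  have homega : ∀ (a : U) (b : V), ¬ p ∣ orderOf a →
      centralChar (χ : G → ℂ) ((a : G) * b) =
        centralChar (ψ : U → ℂ) a * centralChar (φ : V → ℂ) b ∧
      centralChar (trivChar G : G → ℂ) ((a : G) * b) =
        centralChar (trivChar U : U → ℂ) a * centralChar (trivChar V : V → ℂ) b := by
    intro a b ha
    have hi := index_centralizer_mul U V hcomm hgen hZ (b := b) ha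
    constructor
    · rw [centralChar, centralChar, centralChar, hi, Nat.cast_mul, mul_div_assoc, mul_div_assoc,
        mul_div_assoc, char_mul_commuting U V hcomm hgen χ a.2 b.2,
        restrict_div_eq U V hcomm hgen χ ψ h₁ a, restrict_div_eq V U hcomm' hgen' χ φ h₂ b]
      ring
    · simp only [centralChar, trivChar_coe, hi, Nat.cast_mul]
      ring
  have hbot : IsPGroup p (⊥ : Subgroup U) := IsPGroup.of_bot
  have hbot' : IsPGroup p (⊥ : Subgroup V) := IsPGroup.of_bot
  constructor
  · intro hχ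
    have hsb : SameBlock M (trivChar G : G → ℂ) (χ : G → ℂ) := hχ
    refine ⟨?_, ?_⟩
    · show SameBlock M (trivChar U : U → ℂ) (ψ : U → ℂ)
      refine sameBlock_of_regular_centralizer hM ⊥ hbot fun a ha _ => ?_
      have h := hsb ((a : G) * ((1 : V) : G))
      rw [(homega a 1 ha).1, (homega a 1 ha).2, centralChar_one_elt, centralChar_one_elt, mul_one,
        mul_one] at h
      exact h
    · show SameBlock M (trivChar V : V → ℂ) (φ : V → ℂ)
      refine sameBlock_of_regular_centralizer hM ⊥ hbot' fun b _ _ => ?_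
      have h1 : ¬ p ∣ orderOf (1 : U) := by rw [orderOf_one]; exact hp.out.not_dvd_one
      have h := hsb (((1 : U) : G) * (b : G))
      rw [(homega 1 b h1).1, (homega 1 b h1).2, centralChar_one_elt, centralChar_one_elt, one_mul,
        one_mul] at h
      exact h
  · rintro ⟨hψ, hφ⟩
    show SameBlock M (trivChar G : G → ℂ) (χ : G → ℂ)
    refine sameBlock_of_regular_centralizer hM ⊥ IsPGroup.of_bot fun g hg _ => ?_
    obtain ⟨u, hu, v, hv, rfl⟩ : ∃ u ∈ U, ∃ v ∈ V, u * v = g := by
      haveI : U.Normal := by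
        rw [← Subgroup.normalizer_eq_top_iff, eq_top_iff, ← hgen]
        exact sup_le Subgroup.le_normalizer (le_trans (fun w hw => Subgroup.mem_centralizer_iff.2
          fun x hx => hcomm x hx w hw) (Subgroup.centralizer_le_normalizer _))
      exact Subgroup.mem_sup_of_normal_left.1 (hgen ▸ Subgroup.mem_top g)
    have hsplit : u * v = pReg p u * pReg p v := by
      obtain ⟨i, hi⟩ := exists_orderOf_pPt (p := p) u
      obtain ⟨j, hj⟩ := exists_orderOf_pPt (p := p) v
      have huU : pPt p u ∈ U := (Subgroup.zpowers_le.2 hu) (pPt_mem_zpowers u)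
      have huU' : pReg p u ∈ U := (Subgroup.zpowers_le.2 hu) (pReg_mem_zpowers u)
      have hvV : pPt p v ∈ V := (Subgroup.zpowers_le.2 hv) (pPt_mem_zpowers v)
      have hvV' : pReg p v ∈ V := (Subgroup.zpowers_le.2 hv) (pReg_mem_zpowers v)
      have hpp : ∃ k, orderOf (pPt p u * pPt p v) = p ^ k := by
        have := (show Commute (pPt p u) (pPt p v) from hcomm _ huU _ hvV).orderOf_mul_dvd_lcm
        rw [hi, hj] at this
        obtain ⟨k, -, hk⟩ := (Nat.dvd_prime_pow hp.out).1
          (this.trans (Nat.lcm_dvd (pow_dvd_pow p (Nat.le_max_left i j)) (pow_dvd_pow p (Nat.le_max_right i j))))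
        exact ⟨k, hk⟩
      obtain ⟨k, hk⟩ := hpp
      have hprod : pPt p u * pPt p v * (pReg p u * pReg p v) = u * v := by
        conv_rhs => rw [← pPt_mul_pReg (p := p) u, ← pPt_mul_pReg (p := p) v]
        rw [mul_assoc, ← mul_assoc (pPt p v), ← hcomm _ huU' _ hvV]; group
      have hcv : Commute (pPt p u * pPt p v) (pReg p u * pReg p v) :=
        ((pPt_commute_pReg u).mul_right (hcomm _ huU _ hvV')).mul_left
          ((show Commute (pPt p v) (pReg p u) from (hcomm _ huU' _ hvV).symm).mul_right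
            (pPt_commute_pReg v))
      have hreg : ¬ p ∣ orderOf (pReg p u * pReg p v) := fun h => by
        have := h.trans (show Commute (pReg p u) (pReg p v) from hcomm _ huU' _ hvV').orderOf_mul_dvd_lcm
        rcases hp.out.dvd_mul.1 (this.trans (Nat.lcm_dvd_mul _ _)) with h' | h'
        exacts [not_dvd_orderOf_pReg u h', not_dvd_orderOf_pReg v h']
      have := eq_pPt hprod hcv hk hreg
      rw [(pPt_eq_one_iff _).2 hg] at this
      rw [this, one_mul] at hprod
      exact hprod.symm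
    have huU' : pReg p u ∈ U := (Subgroup.zpowers_le.2 hu) (pReg_mem_zpowers u)
    have hvV' : pReg p v ∈ V := (Subgroup.zpowers_le.2 hv) (pReg_mem_zpowers v)
    rw [hsplit]
    set a : U := ⟨pReg p u, huU'⟩
    set b : V := ⟨pReg p v, hvV'⟩
    have ha : ¬ p ∣ orderOf a := by rw [← orderOf_submonoid]; exact not_dvd_orderOf_pReg u
    show MemLocalIdeal M (centralChar (trivChar G : G → ℂ) ((a : G) * b) -
      centralChar (χ : G → ℂ) ((a : G) * b))
    rw [(homega a b ha).1, (homega a b ha).2,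
      show centralChar (trivChar U : U → ℂ) a * centralChar (trivChar V : V → ℂ) b -
        centralChar (ψ : U → ℂ) a * centralChar (φ : V → ℂ) b =
        (centralChar (trivChar U : U → ℂ) a - centralChar (ψ : U → ℂ) a) *
          centralChar (trivChar V : V → ℂ) b + centralChar (ψ : U → ℂ) a *
          (centralChar (trivChar V : V → ℂ) b - centralChar (φ : V → ℂ) b) by ring]
    exact memLocalIdeal_add hM
      (memLocalIdeal_mul_right hM (hψ a) (centralChar_mem_locRing hM _ _))
      (memLocalIdeal_mul_left hM (centralChar_mem_locRing hM _ _) (hφ b))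

end Cfsg.Lib.Block
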