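import Cfsg.Agent.Lib.Block.AbelianNilpotent

/-!
# Pairs below a maximal pair at subgroups central in it

For subgroups centralized by `P`, conjugate pairs below a maximal pair `(P, c)` are conjugate under
its stabilizer, and their blocks have defect group `P`.
-/

set_option autoImplicit false
set_option linter.unusedSectionVars false
set_option maxHeartbeats 1600000

namespace Cfsg.Lib.Block

open Cfsg

universe u

noncomputable local instance (priority := high) fintypeSubgroupCentralPairs {A : Type u}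
    [Group A] [Fintype A] (H : Subgroup A) : Fintype H := Fintype.ofFinite H

local notation "C[" Q "]" => Subgroup.centralizer (SetLike.coe Q)

variable {p : ℕ} {M : Ideal AlgInt} {G : Type u} [Group G] [Fintype G] [Fact p.Prime]
  (hM : IsPModular p M) {B : Set (IrrCharacter G)} {P : Subgroup G} {c : Set (IrrCharacter C[P])}

include hM in
theorem card_inf_centralizer_ge (hmax : IsMaximalBrauerPair p M B P c) {Q : Subgroup G}
    (hPC : P ≤ C[Q]) {f : Set (IrrCharacter C[Q])} (hle : SubpairLE p M Q f P c) :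
    p ^ blockDefect p f ≤ Nat.card ↥(P ⊓ C[Q]) := by
  have hloc := isLocalBlock_centralizer hM (isBrauerPair_of_le hle hmax.1.1).2
  obtain ⟨z, -, hz⟩ := exists_card_inf_eq_defect hM hloc hmax hle
  rw [← hz, inf_eq_left.2 hPC]
  exact Subgroup.card_le_of_le inf_le_left

include hM in
/-- The block at a subgroup centralized by `P` has defect group `P`. -/
theorem subpair_defect_central (hmax : IsMaximalBrauerPair p M B P c) {Q : Subgroup G}
    (hPC : P ≤ C[Q]) {f : Set (IrrCharacter C[Q])} (hle : SubpairLE p M Q f P c) :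
    IsDefectGroup p M f (P.subgroupOf C[Q]) := by
  have hloc := isLocalBlock_centralizer hM (isBrauerPair_of_le hle hmax.1.1).2
  have h := (isDefectGroup_inf_iff hM hloc hmax.1.1 hle).2 (card_inf_centralizer_ge hM hmax hPC hle)
  rwa [inf_eq_left.2 hPC] at h

include hM in
/-- Conjugate pairs at subgroups centralized by `P` are conjugate under the stabilizer of `(P, c)`. -/
theorem exists_conj_factor_central (hmax : IsMaximalBrauerPair p M B P c) {Q Q' : Subgroup G}
    (hPC : P ≤ C[Q]) (hPC' : P ≤ C[Q']) {f : Set (IrrCharacter C[Q])}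
    {f' : Set (IrrCharacter C[Q'])} (hle : SubpairLE p M Q f P c)
    (hle' : SubpairLE p M Q' f' P c) {g : G} (hg : conjIdx g ⟨Q, f⟩ = ⟨Q', f'⟩) :
    ∃ y w : G, conjIdx y ⟨P, c⟩ = ⟨P, c⟩ ∧ w ∈ C[Q] ∧ g = y * w := by
  classical
  have hPe := hmax.1.1
  have hQP := subpairLE_le hle
  have hQP' := subpairLE_le hle'
  have hQf := isBrauerPair_of_le hle hPe
  have hx : conjIdx g⁻¹ ⟨Q', f'⟩ = ⟨Q, f⟩ := by
    rw [← hg, conjIdx_mul, inv_mul_cancel, conjIdx_one]
  have hQx : Q'.map (MulAut.conj g⁻¹).toMonoidHom = Q := congrArg Sigma.fst hx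
  obtain ⟨n, hnP, hn⟩ := normalSubpair_below hM hPe hle' hQP' le_rfl
    (hPC'.trans (Subgroup.centralizer_le_normalizer _))
  have hge : n = c := subpair_unique hM hPe hnP Relation.ReflTransGen.refl
  subst hge
  obtain ⟨e', he'⟩ : ∃ e' : Set (IrrCharacter C[P.map (MulAut.conj g⁻¹).toMonoidHom]),
      conjIdx g⁻¹ ⟨P, n⟩ = ⟨P.map (MulAut.conj g⁻¹).toMonoidHom, e'⟩ := ⟨_, rfl⟩
  have hn' : IsNormalSubpair p M Q f (P.map (MulAut.conj g⁻¹).toMonoidHom) e' := by
    have h := normalSubpairRel_conjIdx hM g⁻¹ (a := ⟨Q', f'⟩) (b := ⟨P, n⟩) hn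
    rw [hx, he'] at h
    exact h
  have hUL : P.map (MulAut.conj g⁻¹).toMonoidHom ≤ C[Q] := by
    have h := Subgroup.map_mono (f := (MulAut.conj g⁻¹).toMonoidHom) hPC'
    rwa [map_centralizer_conj, hQx] at h
  obtain ⟨l, hl, hrel⟩ := exists_conj_in_local hM hmax (isLocalBlock_centralizer hM hQf.2)
    (hQP.trans hPC) hle (card_inf_centralizer_ge hM hmax hPC hle) hn' hUL
  rw [← he', conjIdx_mul] at hrel
  have hfix : conjIdx (l * g⁻¹) ⟨P, n⟩ = ⟨P, n⟩ := by
    have hcard : P.map (MulAut.conj (l * g⁻¹)).toMonoidHom = P :=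
      Subgroup.eq_of_le_of_card_ge (le_of_rel hrel)
        (by rw [Subgroup.card_map_of_injective (MulAut.conj (l * g⁻¹)).injective])
    rw [conjIdx_eq hcard] at hrel ⊢
    exact Sigma.ext rfl (heq_of_eq (subpair_unique hM hPe hrel Relation.ReflTransGen.refl))
  refine ⟨(l * g⁻¹)⁻¹, l, ?_, hl, by group⟩
  conv_lhs => rw [← hfix]
  rw [conjIdx_mul, inv_mul_cancel, conjIdx_one]

include hM in
/-- The major subsection at an element centralized by `P`. -/
theorem exists_majorSetup_central (hmax : IsMaximalBrauerPair p M B P c) {z : G} (hzP : z ∈ P)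
    (hzc : ∀ d ∈ P, d * z = z * d) {f : Set (IrrCharacter C[Subgroup.zpowers z])}
    (hle : SubpairLE p M (Subgroup.zpowers z) f P c) :
    ∃ (e : ℕ) (m : IrrCharacter C[Subgroup.zpowers z] →
        IrrCharacter C[Subgroup.zpowers z] → ℤ), MajorSetup (p := p) M e z f B m := by
  have hD := isDefectGroup_of_maximal hM hmax
  have hB := hmax.1.2.1
  have hpair := (isBrauerPairOf_iff_of_le hM hle B).1 hmax.1
  obtain ⟨k, hk⟩ := IsPGroup.iff_orderOf.1 (isPGroup_defectGroup hM hD) ⟨z, hzP⟩
  rw [Subgroup.orderOf_mk] at hk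
  have hind := (isBrauerPairOf_zpowers_iff hM hB ⟨k, hk⟩ hpair.1.2).1 hpair
  obtain ⟨m, hm⟩ := exists_regForm hM hpair.1.2
  have hPC : P ≤ C[Subgroup.zpowers z] := fun d hd => by
    rw [← centralizer_singleton_eq]
    exact Subgroup.mem_centralizer_singleton_iff.2 (hzc d hd)
  refine ⟨k, m, ⟨?_, fun h => Subgroup.mem_centralizer_iff.1 h.2 z (Subgroup.mem_zpowers z),
    (centralizer_singleton_eq z).le, hind, ?_, hm⟩⟩
  · rw [pow_succ, pow_mul, ← hk, pow_orderOf_eq_one, one_pow]
  · apply Nat.pow_right_injective (Fact.out : p.Prime).two_le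
    show p ^ _ = p ^ _
    rw [← card_defectGroup hM hB hD,
      ← card_defectGroup hM hpair.1.2 (subpair_defect_central hM hmax hPC hle),
      Nat.card_congr (Subgroup.subgroupOfEquivOfLe hPC).toEquiv]

end Cfsg.Lib.Block
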