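import Cfsg.Agent.Lib.Block.Contribution
import Cfsg.Agent.Lib.Block.InflateRegular

/-!
# The characters of a block which are trivial on a central subgroup of order `p`

On regular elements their kernel is the kernel of the block divided by `p`; hence their regular
inner products form a scaled projection.
-/

set_option autoImplicit false
set_option linter.unusedSectionVars false
set_option maxHeartbeats 400000

namespace Cfsg.Lib.Block

open Cfsg
open scoped ComplexConjugate

universe u

variable {p : ℕ} {M : Ideal AlgInt} {K : Type u} [Group K] [Fintype K] [Fact p.Prime]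
  (hM : IsPModular p M) {z : K}

open Classical in
/-- The characters of `b` trivial on the central element `z`. -/
noncomputable def trivPart (z : K) (b : Set (IrrCharacter K)) : Finset (IrrCharacter K) :=
  b.toFinset.filter fun φ : IrrCharacter K => (φ : K → ℂ) z = (φ : K → ℂ) 1

theorem mem_trivPart {b : Set (IrrCharacter K)} {φ : IrrCharacter K} :
    φ ∈ trivPart z b ↔ φ ∈ b ∧ (φ : K → ℂ) z = (φ : K → ℂ) 1 := by
  classical
  simp [trivPart]

open Classical in
include hM in
/-- The kernel of the trivial part on regular elements. -/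
theorem sum_trivPart_kernel (hz : z ∈ Subgroup.center K) (hzp : orderOf z = p)
    {b : Set (IrrCharacter K)} (hb : IsPBlock M b) {s t : K} (hs : IsPRegular p s)
    (ht : IsPRegular p t) :
    (p : ℂ) * ∑ φ ∈ trivPart z b, (φ : K → ℂ) s * conj ((φ : K → ℂ) t) = regKer b s t := by
  have hp := (Fact.out : p.Prime)
  have h1 : ∑ j ∈ Finset.range p, regKer b s (z ^ j * t) = regKer b s t := by
    rw [Finset.sum_eq_single 0]
    · rw [pow_zero, one_mul]
    · intro j hj hj0
      refine regKer_eq_zero hM (vInt_indVec hM hb) hs fun h => h ?_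
      have hzj : z ^ j ≠ 1 := by
        intro e
        have hle : p ≤ j := Nat.le_of_dvd (Nat.pos_of_ne_zero hj0) (hzp ▸ orderOf_dvd_of_pow_eq_one e)
        exact absurd (Finset.mem_range.1 hj) (not_lt.2 hle)
      have hcomm : Commute (z ^ j) t :=
        (Subgroup.mem_center_iff.1 ((Subgroup.center K).pow_mem hz j) t).symm
      obtain ⟨i, -, hi⟩ := (Nat.dvd_prime_pow (m := 1) hp).1
        (by rw [pow_one]; exact (orderOf_pow_dvd j).trans hzp.dvd : orderOf (z ^ j) ∣ p ^ 1)
      exact dvd_orderOf_mul_of_commute ht hcomm ⟨i, hi⟩ hzj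
    · exact fun h => absurd (Finset.mem_range.2 hp.pos) h
  rw [← h1]
  simp only [regKer]
  rw [Finset.sum_comm, trivPart, Finset.mul_sum, Finset.sum_filter]
  refine Finset.sum_congr rfl fun η _ => ?_
  obtain ⟨c, hc, hcg⟩ := exists_central_scalar η hz
  rw [hzp] at hc
  have hpow : ∀ j : ℕ, (η : K → ℂ) (z ^ j * t) = c ^ j * (η : K → ℂ) t := by
    intro j
    induction j with
    | zero => simp
    | succ j ih => rw [pow_succ', mul_assoc, hcg, ih, pow_succ', mul_assoc]
  simp only [hpow, map_mul, map_pow]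
  rw [← Finset.mul_sum, ← Finset.sum_mul]
  have hiff : (η : K → ℂ) z = (η : K → ℂ) 1 ↔ c = 1 := by
    have := hcg 1
    rw [mul_one] at this
    rw [this]
    exact mul_eq_right₀ η.2.apply_one_ne_zero
  by_cases hcase : c = 1
  · rw [if_pos (hiff.2 hcase)]
    simp [hcase]
    ring
  · rw [if_neg (mt hiff.1 hcase)]
    have hne : conj c ≠ 1 := fun h => hcase (by
      rw [← Complex.conj_conj c, h, map_one])
    have h0 : ∑ j ∈ Finset.range p, conj c ^ j = 0 := by
      rw [geom_sum_eq hne, ← map_pow, hc, map_one, sub_self, zero_div]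
    rw [h0, zero_mul, mul_zero]

open Classical in
include hM in
/-- The regular inner products at the trivial part form a scaled projection. -/
theorem sum_regN_trivPart (hz : z ∈ Subgroup.center K) (hzp : orderOf z = p)
    {b : Set (IrrCharacter K)} (hb : IsPBlock M b) {d : ℕ} (hd : blockDefect p b = d + 1)
    {ξ ξ' : IrrCharacter K} (hξ : ξ ∈ b) :
    ∑ φ ∈ trivPart z b, regN p b ξ φ * regN p b φ ξ' =
      ((p ^ d : ℕ) : ℂ) * regN p b ξ ξ' := by
  have hK : ((Nat.card K : ℕ) : ℂ) ≠ 0 := Char.card_cast_ne_zero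
  have hsel : ∀ t, IsPRegular p t → (Nat.card K : ℂ)⁻¹ *
      ∑ s : K, pRegularPart p (ξ : K → ℂ) s * regKer b t s = (ξ : K → ℂ) t := by
    intro t ht
    rw [Finset.sum_congr rfl fun s _ => show pRegularPart p (ξ : K → ℂ) s * regKer b t s =
      (ξ : K → ℂ) s * regKer b t s from ?_, sum_char_mul_regKer, if_pos hξ]
    by_cases hs : IsPRegular p s
    · rw [pRegularPart_of_reg hs]
    · rw [regKer_eq_zero hM (vInt_indVec hM hb) ht hs, mul_zero, mul_zero]
  simp only [regN, regInner, classInner, hd]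
  have e1 : ∀ t : K, ∑ s : K, pRegularPart p (ξ : K → ℂ) s *
      (∑ φ ∈ trivPart z b, conj ((φ : K → ℂ) s) * pRegularPart p (φ : K → ℂ) t) =
      (p : ℂ)⁻¹ * (Nat.card K : ℂ) * pRegularPart p (ξ : K → ℂ) t := by
    intro t
    by_cases ht : IsPRegular p t
    · rw [pRegularPart_of_reg ht]
      have hp0 : (p : ℂ) ≠ 0 := by exact_mod_cast (Fact.out : p.Prime).ne_zero
      conv_rhs => rw [← hsel t ht]
      rw [← mul_assoc, mul_assoc ((p : ℂ)⁻¹), mul_inv_cancel₀ hK, mul_one, Finset.mul_sum]
      refine Finset.sum_congr rfl fun s _ => ?_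
      by_cases hs : IsPRegular p s
      · rw [← sum_trivPart_kernel hM hz hzp hb ht hs, ← mul_assoc (pRegularPart p (ξ : K → ℂ) s),
          mul_comm (pRegularPart p (ξ : K → ℂ) s) (p : ℂ), mul_assoc (p : ℂ), ← mul_assoc (p : ℂ)⁻¹,
          inv_mul_cancel₀ hp0, one_mul]
        congr 1
        exact Finset.sum_congr rfl fun φ _ => by rw [pRegularPart_of_reg ht, mul_comm]
      · simp [pRegularPart_of_sing hs]
    · simp [pRegularPart_of_sing ht]
  have e2 : ∑ φ ∈ trivPart z b, (∑ s : K, pRegularPart p (ξ : K → ℂ) s * conj ((φ : K → ℂ) s)) *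
      (∑ t : K, pRegularPart p (φ : K → ℂ) t * conj ((ξ' : K → ℂ) t)) =
      (p : ℂ)⁻¹ * (Nat.card K : ℂ) *
        ∑ t : K, pRegularPart p (ξ : K → ℂ) t * conj ((ξ' : K → ℂ) t) := by
    simp only [Finset.mul_sum, Finset.sum_mul]
    rw [Finset.sum_comm]
    refine Finset.sum_congr rfl fun t _ => ?_
    rw [← mul_assoc, ← e1 t, Finset.sum_mul, Finset.sum_comm]
    refine Finset.sum_congr rfl fun s _ => ?_
    rw [Finset.mul_sum, Finset.sum_mul]
    exact Finset.sum_congr rfl fun φ _ => by ring
  have hp0 : (p : ℂ) ≠ 0 := by exact_mod_cast (Fact.out : p.Prime).ne_zero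
  calc _ = ((p ^ (d + 1) : ℕ) : ℂ) ^ 2 * ((Nat.card K : ℂ)⁻¹) ^ 2 *
      ∑ φ ∈ trivPart z b, (∑ s : K, pRegularPart p (ξ : K → ℂ) s * conj ((φ : K → ℂ) s)) *
        (∑ t : K, pRegularPart p (φ : K → ℂ) t * conj ((ξ' : K → ℂ) t)) := by
        rw [Finset.mul_sum]; exact Finset.sum_congr rfl fun φ _ => by ring
    _ = _ := by
        rw [e2]
        push_cast
        field_simp
        ring

open Classical in
include hM in
/-- The trace of the trivial part. -/
theorem sum_regN_trivPart_diag (hz : z ∈ Subgroup.center K) (hzp : orderOf z = p)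
    {b : Set (IrrCharacter K)} (hb : IsPBlock M b) {d : ℕ} (hd : blockDefect p b = d + 1) :
    ∑ φ ∈ trivPart z b, regN p b φ φ = ((p ^ d : ℕ) : ℂ) * (blockRank p b : ℂ) := by
  have hl := card_mul_blockRank hM (vInt_indVec hM hb)
  have hK : ((Nat.card K : ℕ) : ℂ) ≠ 0 := Char.card_cast_ne_zero
  have hp0 : (p : ℂ) ≠ 0 := by exact_mod_cast (Fact.out : p.Prime).ne_zero
  have e : ∑ φ ∈ trivPart z b, ∑ s : K, pRegularPart p (φ : K → ℂ) s * conj ((φ : K → ℂ) s) =
      (p : ℂ)⁻¹ * ((Nat.card K : ℂ) * (blockRank p b : ℂ)) := by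
    rw [hl, Finset.sum_comm, Finset.mul_sum]
    refine Finset.sum_congr rfl fun s _ => ?_
    rw [finsum_mem_eq_toFinset_sum]
    by_cases hs : IsPRegular p s
    · have := sum_trivPart_kernel hM hz hzp hb hs hs
      simp only [pRegularPart_of_reg hs] at this ⊢
      rw [show ∑ χ ∈ b.toFinset, (χ : K → ℂ) s * conj ((χ : K → ℂ) s) = regKer b s s from rfl,
        ← this, ← mul_assoc, inv_mul_cancel₀ hp0, one_mul]
    · simp [pRegularPart_of_sing hs]
  simp only [regN, regInner, classInner, hd]
  rw [← Finset.mul_sum, ← Finset.mul_sum, e]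
  push_cast
  rw [pow_succ]
  field_simp

end Cfsg.Lib.Block
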