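import Cfsg.Agent.Lib.Char.Galois
import Cfsg.Agent.Lib.Char.Central
import Mathlib.RepresentationTheory.Invariants
import Mathlib.LinearAlgebra.PID
import Mathlib.Analysis.SpecialFunctions.Log.Basic

/-!
# Coset averages of characters, and characters with nonnegative values

Averaging a character over the cosets of a normal subgroup gives a character of the quotient.
A character with nonnegative real values is, summed over a Galois stable set of nonzeros, at
least the size of the set.
-/

set_option autoImplicit false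
set_option linter.unusedSectionVars false
set_option maxHeartbeats 800000

namespace Cfsg.Lib.Block

open Cfsg Cfsg.Lib.Char
open scoped ComplexConjugate

universe u

variable {G : Type u} [Group G] [Finite G]

/-- Averages over the cosets of a normal subgroup give a character of the quotient. -/
theorem exists_coset_average {χ : G → ℂ} (hχ : IsCharacter G χ) (N : Subgroup G) [N.Normal]
    [Fintype N] : ∃ ψ : G ⧸ N → ℂ, IsCharacter (G ⧸ N) ψ ∧
      ∀ x : G, (Nat.card N : ℂ) * ψ x = ∑ n : N, χ ((n : G) * x) := by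
  classical
  obtain ⟨d, ρ, rfl⟩ := hχ
  haveI : Invertible (Fintype.card N : ℂ) :=
    invertibleOfNonzero (Nat.cast_ne_zero.mpr Fintype.card_ne_zero)
  let σ := ρ.quotientToInvariants N
  let ρN : Representation ℂ N (Fin d → ℂ) := MonoidHom.comp ρ N.subtype
  refine ⟨σ.character, isCharacter_character _, fun x => ?_⟩
  let P := ρN.averageMap
  let W := ρN.invariants
  have hmem : ∀ v, (ρ x * P) v ∈ W := fun v n => by
    have hn : x⁻¹ * (n : G) * x ∈ N := by
      have h := Subgroup.Normal.conj_mem ‹N.Normal› (n : G) n.2 x⁻¹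
      simpa using h
    have hv : ρ (x⁻¹ * (n : G) * x) (P v) = P v :=
      ρN.averageMap_invariant v ⟨_, hn⟩
    show ρ (n : G) (ρ x (P v)) = ρ x (P v)
    conv_rhs => rw [← hv]
    rw [← Module.End.mul_apply (ρ (n : G)) (ρ x), ← Module.End.mul_apply (ρ x) (ρ (x⁻¹ * (n : G) * x)), ← map_mul, ← map_mul,
      show x * (x⁻¹ * (n : G) * x) = (n : G) * x by group]
  have hres : (ρ x * P : (Fin d → ℂ) →ₗ[ℂ] (Fin d → ℂ)).restrict (p := W) (q := W)
      (fun v _ => hmem v) = σ (x : G ⧸ N) := by
    refine LinearMap.ext fun v => Subtype.ext ?_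
    show ρ x (P (v : Fin d → ℂ)) = ρ x (v : Fin d → ℂ)
    congr 1
    exact ρN.averageMap_id v v.2
  have htr : σ.character (x : G ⧸ N) = LinearMap.trace ℂ (Fin d → ℂ) (ρ x * P) := by
    show LinearMap.trace ℂ W (σ (x : G ⧸ N)) = _
    rw [← hres, LinearMap.trace_restrict_eq_of_forall_mem W _ hmem]
  have hP : P = (Fintype.card N : ℂ)⁻¹ • ∑ n : N, ρ (n : G) := by
    show ρN.averageMap = _
    simp [Representation.averageMap, GroupAlgebra.average, map_sum, invOf_eq_inv, Finset.smul_sum]
    rfl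
  rw [htr, hP, mul_smul_comm, map_smul, smul_eq_mul, Finset.mul_sum, map_sum,
    Nat.card_eq_fintype_card, ← mul_assoc,
    mul_inv_cancel₀ (Nat.cast_ne_zero.mpr Fintype.card_ne_zero), one_mul]
  refine Finset.sum_congr rfl fun n _ => ?_
  show LinearMap.trace ℂ (Fin d → ℂ) (ρ x * ρ (n : G)) = LinearMap.trace ℂ _ (ρ ((n : G) * x))
  rw [LinearMap.trace_mul_comm, ← map_mul]

/-- A character with nonnegative values has, on a set of nonzeros stable under the powers prime to
the group order, sum at least the size of the set. -/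
theorem card_le_sum_of_nonneg {ψ : G → ℂ} (hψ : IsCharacter G ψ)
    (hreal : ∀ g, ψ g = ((ψ g).re : ℂ)) (hnn : ∀ g, 0 ≤ (ψ g).re) (S : Finset G)
    (hne : ∀ g ∈ S, ψ g ≠ 0)
    (hstab : ∀ g ∈ S, ∀ k : ℕ, k.Coprime (Nat.card G) → g ^ k ∈ S) :
    (S.card : ℝ) ≤ ∑ g ∈ S, (ψ g).re := by
  classical
  haveI : NeZero (Nat.card G) := ⟨Nat.card_pos.ne'⟩
  have hpos : ∀ g ∈ S, 0 < (ψ g).re := fun g hg =>
    lt_of_le_of_ne (hnn g) fun h => hne g hg (by rw [hreal g, ← h, Complex.ofReal_zero])
  let P : cycField (Nat.card G) := ∏ g ∈ S, charVal dvd_rfl hψ g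
  have hPv : (P : ℂ) = ∏ g ∈ S, ψ g := map_prod (cycField (Nat.card G)).val _ _
  have hfix : ∀ σ : cycField (Nat.card G) →ₐ[ℚ] ℂ, σ P = (P : ℂ) := by
    intro σ
    obtain ⟨k, hk, hσ⟩ := exists_actsAsPow σ
    rw [hPv, map_prod]
    simp only [galois_charVal dvd_rfl hσ hψ]
    have himg : S.image (fun g => g ^ k) = S :=
      Finset.eq_of_subset_of_card_le
        (Finset.image_subset_iff.2 fun g hg => hstab g hg k hk)
        (Finset.card_image_of_injective S (powBij_of_coprime hk).1).ge
    conv_rhs => rw [← himg]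
    rw [Finset.prod_image fun a _ b _ h => (powBij_of_coprime hk).1 h]
  obtain ⟨q, hq⟩ := exists_rat_of_fixed P hfix
  rw [hPv] at hq
  obtain ⟨m, hm⟩ := exists_int_of_isIntegral_rat (q := q)
    (hq ▸ IsIntegral.prod _ fun g _ => hψ.isIntegral g)
  have hprod : ((∏ g ∈ S, (ψ g).re : ℝ) : ℂ) = ((m : ℝ) : ℂ) := by
    rw [Complex.ofReal_prod, ← Finset.prod_congr rfl fun g _ => hreal g, hq, hm]
    norm_cast
  have hprod' := Complex.ofReal_injective hprod
  have hm0 : (0 : ℝ) < m := hprod' ▸ Finset.prod_pos hpos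
  have h1 : (1 : ℝ) ≤ ∏ g ∈ S, (ψ g).re := by
    rw [hprod']; exact_mod_cast (Int.cast_pos.1 hm0)
  have h2 : ∑ g ∈ S, Real.log (ψ g).re ≤ ∑ g ∈ S, ((ψ g).re - 1) :=
    Finset.sum_le_sum fun g hg => Real.log_le_sub_one_of_pos (hpos g hg)
  rw [← Real.log_prod (fun g hg => (hpos g hg).ne')] at h2
  have h3 := Real.log_nonneg h1
  rw [Finset.sum_sub_distrib, Finset.sum_const, nsmul_eq_mul, mul_one] at h2
  linarith

/-- The squared absolute value of a character is a character. -/
theorem isCharacter_normSq {χ : G → ℂ} (hχ : IsCharacter G χ) :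
    IsCharacter G (fun g => ((‖χ g‖ ^ 2 : ℝ) : ℂ)) := by
  have h : (fun g => ((‖χ g‖ ^ 2 : ℝ) : ℂ)) = χ * fun g => conj (χ g) := by
    funext g
    simp [Complex.mul_conj']
  rw [h]
  exact hχ.mul hχ.conjFn

end Cfsg.Lib.Block
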