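import Cfsg.Agent.Lib.Block.Laradji
import Cfsg.Agent.Lib.Block.Principal
import Cfsg.Agent.Lib.Block.Cartan
import Cfsg.Agent.Lib.Block.CosetAverage
import Cfsg.Agent.Lib.Char.BrauerInduction
import Cfsg.Agent.Lib.Char.SignedIrr
import Cfsg.Agent.Lib.Char.Quotient
import Mathlib.GroupTheory.SchurZassenhaus
import Mathlib.GroupTheory.Nilpotent
import Cfsg.Agent.Lib.PGroup.Elements

/-!
# Blocks whose defect group is complemented by its centraliser

If `G = P C(P)` and the block `B` has defect group `P`, then `B` consists of the characters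
`secChar P ζ χ`, where `ζ` runs over the irreducible characters of `P` and `χ` is the character of
`B` trivial on `P`.
-/

set_option autoImplicit false
set_option linter.unusedSectionVars false
set_option maxHeartbeats 800000

namespace Cfsg.Lib.Block

open Cfsg Cfsg.Lib.Char
open scoped ComplexConjugate

universe u

variable {G : Type u} [Group G] [Fintype G] {p : ℕ} [hp : Fact p.Prime] {M : Ideal AlgInt}
  {P : Subgroup G}

theorem normal_of_sup_centralizer (hG : P ⊔ Subgroup.centralizer (P : Set G) = ⊤) : P.Normal := by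
  rw [← Subgroup.normalizer_eq_top_iff, eq_top_iff, ← hG]
  exact sup_le Subgroup.le_normalizer (Subgroup.centralizer_le_normalizer _)

theorem exists_mul_of_sup (hG : P ⊔ Subgroup.centralizer (P : Set G) = ⊤) (g : G) :
    ∃ u ∈ P, ∃ c ∈ Subgroup.centralizer (P : Set G), g = u * c := by
  haveI := normal_of_sup_centralizer hG
  obtain ⟨u, hu, c, hc, h⟩ := Subgroup.mem_sup_of_normal_left.1 (hG ▸ Subgroup.mem_top g)
  exact ⟨u, hu, c, hc, h.symm⟩

/-- Elements of order prime to `p` centralise the defect group. -/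
theorem commute_of_regular (hP : IsPGroup p P) (hG : P ⊔ Subgroup.centralizer (P : Set G) = ⊤)
    {g : G} (hg : ¬ p ∣ orderOf g) {u : G} (hu : u ∈ P) : Commute u g := by
  haveI := normal_of_sup_centralizer hG
  haveI : (Subgroup.centralizer (P : Set G)).Normal := inferInstance
  obtain ⟨v, hv, c, hc, rfl⟩ := exists_mul_of_sup hG g
  set C := Subgroup.centralizer (P : Set G) with hC
  have h1 : ((v * c : G) : G ⧸ C) = (v : G ⧸ C) := by
    rw [QuotientGroup.mk_mul, (QuotientGroup.eq_one_iff c).2 hc, mul_one]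
  obtain ⟨k, hk⟩ := hP ⟨v, hv⟩
  have h2 : orderOf (v : G ⧸ C) ∣ p ^ k := by
    refine orderOf_dvd_of_pow_eq_one ?_
    rw [← QuotientGroup.mk_pow, show v ^ p ^ k = 1 from congrArg Subtype.val hk, QuotientGroup.mk_one]
  have h3 : orderOf (v : G ⧸ C) ∣ orderOf (v * c) := h1 ▸ orderOf_map_dvd (QuotientGroup.mk' C) (v * c)
  have h4 : orderOf (v : G ⧸ C) = 1 := by
    obtain ⟨i, -, hi⟩ := (Nat.dvd_prime_pow hp.out).1 h2
    rcases Nat.eq_zero_or_pos i with rfl | hi0
    · simpa using hi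
    · exact absurd ((dvd_pow_self p hi0.ne').trans (hi ▸ h3)) hg
  have hvC : v ∈ C := (QuotientGroup.eq_one_iff v).1 (orderOf_eq_one_iff.1 h4)
  exact Subgroup.mem_centralizer_iff.1 (C.mul_mem hvC hc) u hu

/-- The class function `u r ↦ ζ u * χ r`, supported on the `p`-section of `P`. -/
noncomputable def secChar (p : ℕ) [Fact p.Prime] (P : Subgroup G) (ζ : P → ℂ) (χ : G → ℂ) (g : G) : ℂ := by
  classical
  exact if h : pPt p g ∈ P then ζ ⟨pPt p g, h⟩ * χ (pReg p g) else 0

theorem secChar_of_mem {ζ : P → ℂ} {χ : G → ℂ} {g : G} (h : pPt p g ∈ P) :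
    secChar p P ζ χ g = ζ ⟨pPt p g, h⟩ * χ (pReg p g) := by
  rw [secChar, dif_pos h]

theorem secChar_of_notMem {ζ : P → ℂ} {χ : G → ℂ} {g : G} (h : pPt p g ∉ P) :
    secChar p P ζ χ g = 0 := by
  rw [secChar, dif_neg h]

theorem pPt_mul_of_regular (hP : IsPGroup p P) (hG : P ⊔ Subgroup.centralizer (P : Set G) = ⊤)
    (u : P) {r : G} (hr : ¬ p ∣ orderOf r) :
    pPt p ((u : G) * r) = u ∧ pReg p ((u : G) * r) = r := by
  obtain ⟨k, hk⟩ := IsPGroup.iff_orderOf.1 hP u
  rw [← orderOf_submonoid] at hk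
  have hc := commute_of_regular hP hG hr u.2
  exact ⟨(eq_pPt rfl hc hk hr).symm, (eq_pReg rfl hc hk hr).symm⟩

theorem secChar_mul (hP : IsPGroup p P) (hG : P ⊔ Subgroup.centralizer (P : Set G) = ⊤)
    (ζ : P → ℂ) (χ : G → ℂ) (u : P) {r : G} (hr : ¬ p ∣ orderOf r) :
    secChar p P ζ χ ((u : G) * r) = ζ u * χ r := by
  obtain ⟨h1, h2⟩ := pPt_mul_of_regular hP hG u hr
  rw [secChar_of_mem (h1.symm ▸ u.2), h2]
  congr 2
  exact Subtype.ext h1

theorem secChar_regular (ζ : P → ℂ) (χ : G → ℂ) {r : G} (hr : ¬ p ∣ orderOf r) :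
    secChar p P ζ χ r = ζ 1 * χ r := by
  have h1 := (pPt_eq_one_iff (p := p) r).2 hr
  have h2 : pReg p r = r := by
    conv_rhs => rw [← pPt_mul_pReg (p := p) r, h1, one_mul]
  rw [secChar_of_mem (h1.symm ▸ P.one_mem), h2]
  congr 2
  exact Subtype.ext h1

theorem isClassFunction_secChar (hG : P ⊔ Subgroup.centralizer (P : Set G) = ⊤) {ζ : P → ℂ}
    (hζ : IsCharacter P ζ) {χ : G → ℂ} (hχ : IsCharacter G χ) :
    IsClassFunction G (secChar p P ζ χ) := by
  haveI hPn := normal_of_sup_centralizer hG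
  intro g x
  by_cases h : pPt p g ∈ P
  · have h' : pPt p (x * g * x⁻¹) ∈ P := by rw [pPt_conj]; exact hPn.conj_mem _ h x
    rw [secChar_of_mem h, secChar_of_mem h', pReg_conj, hχ.conj_invariant]
    congr 1
    obtain ⟨v, hv, c, hc, rfl⟩ := exists_mul_of_sup hG x
    rw [← hζ.conj_invariant ⟨pPt p g, h⟩ ⟨v, hv⟩]
    refine congrArg ζ (Subtype.ext ?_)
    show pPt p (v * c * g * (v * c)⁻¹) = v * pPt p g * v⁻¹
    rw [pPt_conj]
    have hcc := Subgroup.mem_centralizer_iff.1 hc _ h
    calc v * c * pPt p g * (v * c)⁻¹ = v * (c * pPt p g) * c⁻¹ * v⁻¹ := by group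
      _ = v * pPt p g * v⁻¹ := by rw [← hcc]; group
  · have h' : pPt p (x * g * x⁻¹) ∉ P := by
      rw [pPt_conj]
      intro hm
      apply h
      have := hPn.conj_mem _ hm x⁻¹
      rwa [inv_inv, ← mul_assoc, ← mul_assoc, inv_mul_cancel, one_mul, inv_mul_cancel_right] at this
    rw [secChar_of_notMem h, secChar_of_notMem h']

theorem secChar_one_eq (hP : IsPGroup p P) (hG : P ⊔ Subgroup.centralizer (P : Set G) = ⊤)
    (hM : IsPModular p M) (χ : IrrCharacter G) (htriv : ∀ u ∈ P, (χ : G → ℂ) u = (χ : G → ℂ) 1)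
    (hdeg : (charDegree (χ : G → ℂ)).factorization p = P.index.factorization p) :
    secChar p P (fun _ => (1 : ℂ)) (χ : G → ℂ) = χ := by
  haveI hPn := normal_of_sup_centralizer hG
  funext g
  by_cases h : pPt p g ∈ P
  · rw [secChar_of_mem h, one_mul]
    conv_rhs => rw [← pPt_mul_pReg (p := p) g]
    rw [χ.2.isCharacter.apply_mul_of_mem_ker (htriv _ h)]
  · rw [secChar_of_notMem h]
    symm
    obtain ⟨ψ, hψ, he⟩ := exists_deflate_irr P χ.2 htriv
    rw [← he g]
    haveI := Fintype.ofFinite (G ⧸ P)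
    have hdegq : charDegree ψ = charDegree (χ : G → ℂ) := by
      simp only [charDegree, ← he 1]; rfl
    refine central_defect_vanish hM (IsPGroup.of_bot (p := p)) bot_le
      (⟨ψ, hψ⟩ : IrrCharacter (G ⧸ P)) (x := ((pPt p g : G) : G ⧸ P)) ?_ ?_ ?_
    · show (charDegree ψ).factorization p = _
      rw [hdegq, hdeg, Subgroup.index_bot]
      rfl
    · obtain ⟨k, hk⟩ := exists_orderOf_pPt (p := p) g
      have hd : orderOf ((pPt p g : G) : G ⧸ P) ∣ p ^ k := hk ▸ orderOf_map_dvd (QuotientGroup.mk' P) _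
      obtain ⟨i, -, hi⟩ := (Nat.dvd_prime_pow hp.out).1 hd
      refine ⟨((pReg p g : G) : G ⧸ P), ?_, ?_, ⟨i, hi⟩, ?_⟩
      · rw [← QuotientGroup.mk_mul, pPt_mul_pReg]
      · exact (pPt_commute_pReg g).map (QuotientGroup.mk' P)
      · exact fun hd' => not_dvd_orderOf_pReg (p := p) g
          (hd'.trans (orderOf_map_dvd (QuotientGroup.mk' P) _))
    · rw [Subgroup.mem_bot, QuotientGroup.eq_one_iff]
      exact h

/-- Sums over the section of `P`. -/
theorem sum_section (hP : IsPGroup p P) (hG : P ⊔ Subgroup.centralizer (P : Set G) = ⊤) [Fintype P]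
    [DecidablePred fun r : G => ¬ p ∣ orderOf r] (F : G → ℂ) (hF : ∀ g, pPt p g ∉ P → F g = 0) :
    ∑ g, F g = ∑ u : P, ∑ r ∈ Finset.univ.filter (fun r : G => ¬ p ∣ orderOf r), F ((u : G) * r) := by
  classical
  rw [← Finset.sum_product']
  rw [← Finset.sum_subset (Finset.subset_univ (Finset.univ.filter fun g : G => pPt p g ∈ P))
    (fun g _ hg => hF g fun h => hg (Finset.mem_filter.2 ⟨Finset.mem_univ _, h⟩))]
  refine Finset.sum_bij' (fun g hg => (⟨pPt p g, (Finset.mem_filter.1 hg).2⟩, pReg p g))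
    (fun P' _ => (P'.1 : G) * P'.2) ?_ ?_ ?_ ?_ ?_
  · intro g _
    exact Finset.mem_product.2 ⟨Finset.mem_univ _,
      Finset.mem_filter.2 ⟨Finset.mem_univ _, not_dvd_orderOf_pReg g⟩⟩
  · intro P' hP'
    refine Finset.mem_filter.2 ⟨Finset.mem_univ _, ?_⟩
    rw [(pPt_mul_of_regular hP hG P'.1 (Finset.mem_filter.1 (Finset.mem_product.1 hP').2).2).1]
    exact P'.1.2
  · intro g _
    exact pPt_mul_pReg g
  · intro P' hP'
    obtain ⟨h1, h2⟩ := pPt_mul_of_regular hP hG P'.1 (Finset.mem_filter.1 (Finset.mem_product.1 hP').2).2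
    exact Prod.ext (Subtype.ext h1) h2
  · intro g _
    rw [pPt_mul_pReg]

theorem classInner_secChar (hP : IsPGroup p P) (hG : P ⊔ Subgroup.centralizer (P : Set G) = ⊤)
    [Fintype P] [DecidablePred fun r : G => ¬ p ∣ orderOf r] (ζ η : P → ℂ) (χ : G → ℂ) :
    classInner (secChar p P ζ χ) (secChar p P η χ) =
      (Nat.card P : ℂ) * classInner ζ η * ((Nat.card G : ℂ)⁻¹ *
        ∑ r ∈ Finset.univ.filter (fun r : G => ¬ p ∣ orderOf r), χ r * conj (χ r)) := by
  classical
  rw [classInner, sum_section hP hG _ fun g hg => by rw [secChar_of_notMem hg, zero_mul]]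
  have h : ∀ u : P, ∀ r ∈ Finset.univ.filter (fun r : G => ¬ p ∣ orderOf r),
      secChar p P ζ χ ((u : G) * r) * conj (secChar p P η χ ((u : G) * r)) =
        (ζ u * conj (η u)) * (χ r * conj (χ r)) := by
    intro u r hr
    rw [secChar_mul hP hG ζ χ u (Finset.mem_filter.1 hr).2,
      secChar_mul hP hG η χ u (Finset.mem_filter.1 hr).2, map_mul]
    ring
  rw [Finset.sum_congr rfl fun u _ => Finset.sum_congr rfl (h u), ← Finset.sum_mul_sum, classInner,
    ← mul_assoc (Nat.card P : ℂ), mul_inv_cancel₀ card_cast_ne_zero, one_mul]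
  ring

theorem classInner_secChar_irr (hP : IsPGroup p P) (hG : P ⊔ Subgroup.centralizer (P : Set G) = ⊤)
    [Fintype P] (χ : IrrCharacter G) (h1 : secChar p P (fun _ => (1 : ℂ)) (χ : G → ℂ) = χ)
    (ζ η : IrrCharacter P) :
    classInner (secChar p P (ζ : P → ℂ) (χ : G → ℂ)) (secChar p P (η : P → ℂ) (χ : G → ℂ)) =
      if (ζ : P → ℂ) = (η : P → ℂ) then 1 else 0 := by
  classical
  have hone := classInner_secChar hP hG (fun _ : P => (1 : ℂ)) (fun _ : P => (1 : ℂ)) (χ : G → ℂ)
  rw [h1, classInner_irr_self χ.2, classInner_irr_self isIrrCharacter_one, mul_one] at hone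
  rw [classInner_secChar hP hG, classInner_irr ζ.2 η.2]
  split_ifs with h
  · rw [mul_one]; exact hone.symm
  · simp

/-- The section functions are generalised characters. -/
theorem isGeneralizedCharacter_secChar (hP : IsPGroup p P)
    (hG : P ⊔ Subgroup.centralizer (P : Set G) = ⊤) (χ : IrrCharacter G)
    (h1 : secChar p P (fun _ => (1 : ℂ)) (χ : G → ℂ) = χ) (ζ : IrrCharacter P) :
    IsGeneralizedCharacter G (secChar p P (ζ : P → ℂ) (χ : G → ℂ)) := by
  classical
  haveI hPn := normal_of_sup_centralizer hG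
  haveI := Fintype.ofFinite P
  refine isGeneralizedCharacter_of_elementary
    (isClassFunction_secChar hG ζ.2.isCharacter χ.2.isCharacter) fun E l hl hE => ?_
  obtain ⟨x, hx, -, k, hk⟩ := hE
  haveI := Fact.mk hl
  haveI : Group.IsNilpotent E := by
    have h1 : (Subgroup.center E).index ∣ l ^ k :=
      hk ▸ Subgroup.index_dvd_of_le (Subgroup.zpowers_le.2 hx)
    obtain ⟨j, -, hj⟩ := (Nat.dvd_prime_pow hl).1 h1
    haveI : Group.IsNilpotent (E ⧸ Subgroup.center E) :=
      (IsPGroup.of_card (p := l) (n := j) (by rw [← Subgroup.index_eq_card, hj])).isNilpotent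
    exact Group.of_quotient_center_nilpotent this
  haveI := Fintype.ofFinite E
  obtain ⟨Q⟩ : Nonempty (Sylow p E) := inferInstance
  haveI hQn : (Q : Subgroup E).Normal :=
    Sylow.normal_of_normalizerCondition Group.normalizerCondition_of_isNilpotent Q
  obtain ⟨R, hR⟩ := Subgroup.exists_right_complement'_of_coprime Q.card_coprime_index
  have hRreg : ∀ r ∈ R, ¬ p ∣ orderOf r := fun r hr hd => by
    have h := hd.trans (R.orderOf_dvd_natCard hr)
    rw [← hR.symm.index_eq_card] at h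
    exact Q.not_dvd_index h
  have hcomm : ∀ (q : (Q : Subgroup E)) (r : R), Commute (q : E) (r : E) := fun q r => by
    refine Cfsg.Lib.PGroup.commute_of_coprime_orderOf _ _ ?_
    obtain ⟨i, hi⟩ := IsPGroup.iff_orderOf.1 Q.2 q
    rw [orderOf_submonoid, hi]
    exact Nat.Coprime.pow_left i ((hp.out.coprime_iff_not_dvd).2 (hRreg r r.2))
  have hparts : ∀ (q : (Q : Subgroup E)) (r : R),
      pPt p (((q : E) * (r : E) : E) : G) = ((q : E) : G) ∧
      pReg p (((q : E) * (r : E) : E) : G) = ((r : E) : G) := by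
    intro q r
    obtain ⟨i, hi⟩ := IsPGroup.iff_orderOf.1 Q.2 q
    rw [← orderOf_submonoid, ← orderOf_submonoid] at hi
    have hc : Commute ((q : E) : G) ((r : E) : G) := (hcomm q r).map E.subtype
    have hr : ¬ p ∣ orderOf ((r : E) : G) := by rw [orderOf_submonoid]; exact hRreg r r.2
    exact ⟨(eq_pPt rfl hc hi hr).symm, (eq_pReg rfl hc hi hr).symm⟩
  let e : ↥(Q : Subgroup E) × R ≃ E := Equiv.ofBijective (fun a => (a.1 : E) * a.2) hR
  let proj : E →* R :=
    MonoidHom.mk' (fun g => (e.symm g).2) (fun a b => by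
      obtain ⟨⟨qa, ra⟩, rfl⟩ := e.surjective a
      obtain ⟨⟨qb, rb⟩, rfl⟩ := e.surjective b
      have h : e (qa, ra) * e (qb, rb) = e (qa * qb, ra * rb) := by
        show (qa : E) * ra * ((qb : E) * rb) = ((qa : E) * qb) * ((ra : E) * rb)
        rw [mul_assoc, ← mul_assoc (ra : E), ← (hcomm qb ra).eq]
        group
      simp only [h, Equiv.symm_apply_apply])
  let Q0 : Subgroup (Q : Subgroup E) := P.comap (E.subtype.comp (Q : Subgroup E).subtype)
  let toP : Q0 →* P := MonoidHom.mk' (fun z => ⟨(((z : (Q : Subgroup E)) : E) : G), z.2⟩) (fun _ _ => rfl)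
  let toE : Q0 × R →* E := MonoidHom.mk' (fun z => ((z.1 : (Q : Subgroup E)) : E) * (z.2 : E))
    (fun a b => by
      show (((a.1 * b.1 : Q0) : (Q : Subgroup E)) : E) * ((a.2 * b.2 : R) : E) = _
      simp only [Subgroup.coe_mul]
      rw [mul_assoc, ← mul_assoc (((b.1 : (Q : Subgroup E)) : E)), (hcomm b.1 a.2).eq]
      group)
  haveI := Fintype.ofFinite Q0
  rw [isGeneralizedCharacter_iff]
  refine ⟨fun a c => isClassFunction_secChar hG ζ.2.isCharacter χ.2.isCharacter (a : G) (c : G),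
    fun ξ hξ => ?_⟩
  -- the character of `R` obtained from `ξ` and `ζ`
  have hψ : IsCharacter (Q0 × R) (fun z => conj ((ζ : P → ℂ) (toP z.1)) * ξ (toE z)) :=
    ((ζ.2.isCharacter.comp toP).comp (MonoidHom.fst Q0 R)).conjFn.mul (hξ.isCharacter.comp toE)
  let N : Subgroup (Q0 × R) := (⊤ : Subgroup Q0).prod (⊥ : Subgroup R)
  haveI : N.Normal := Subgroup.prod_normal _ _
  haveI := Fintype.ofFinite N
  obtain ⟨ψ', hψ', havg⟩ := exists_coset_average hψ N
  have hh : IsCharacter R (fun r => ψ' ((((1 : Q0), r) : Q0 × R) : (Q0 × R) ⧸ N)) :=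
    hψ'.comp ((QuotientGroup.mk' N).comp (MonoidHom.inr Q0 R))
  obtain ⟨n, hn⟩ := (χ.2.isCharacter.comp E.subtype).exists_nat_classInner (hh.comp proj)
  refine ⟨(n : ℤ), ?_⟩
  rw [Int.cast_natCast, ← hn]
  -- compute both sides over `Q × R`
  have hN : Nat.card N = Nat.card Q0 := by
    rw [Nat.card_congr (Subgroup.prodEquiv _ _).toEquiv, Nat.card_prod, Subgroup.card_top,
      Subgroup.card_bot, mul_one]
  have havg' : ∀ r : R, (Nat.card Q0 : ℂ) * ψ' ((((1 : Q0), r) : Q0 × R) : (Q0 × R) ⧸ N) =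
      ∑ z : Q0, conj ((ζ : P → ℂ) (toP z)) * ξ (toE (z, r)) := by
    intro r
    rw [← hN, havg]
    refine Fintype.sum_bijective (fun n : N => (n : Q0 × R).1) ⟨?_, ?_⟩ _ _ fun n => ?_
    · intro a b hab
      exact Subtype.ext (Prod.ext hab
        ((Subgroup.mem_bot.1 a.2.2).trans (Subgroup.mem_bot.1 b.2.2).symm))
    · intro z
      exact ⟨⟨(z, 1), trivial, Subgroup.mem_bot.2 rfl⟩, rfl⟩
    · have h2 : (n : Q0 × R).2 = 1 := Subgroup.mem_bot.1 n.2.2
      have e : (n : Q0 × R) * ((1 : Q0), r) = ((n : Q0 × R).1, r) :=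
        Prod.ext (mul_one _) (by show (n : Q0 × R).2 * r = r; rw [h2, one_mul])
      rw [e]
  have hflat : ∀ F : E → ℂ, (∀ (q : (Q : Subgroup E)) (r : R), q ∉ Q0 → F ((q : E) * r) = 0) →
      ∑ g, F g = ∑ r : R, ∑ z : Q0, F (((z : (Q : Subgroup E)) : E) * r) := by
    intro F hF
    rw [← Equiv.sum_comp e, Fintype.sum_prod_type, Finset.sum_comm]
    refine Finset.sum_congr rfl fun r _ => ?_
    show ∑ q : ↥(Q : Subgroup E), F ((q : E) * r) = _
    rw [← Finset.sum_subset (Finset.subset_univ (Finset.univ.filter fun q => q ∈ Q0))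
      (fun q _ hq => hF q r fun h => hq (Finset.mem_filter.2 ⟨Finset.mem_univ _, h⟩))]
    exact Finset.sum_subtype (p := fun q => q ∈ Q0) _ (by simp) fun q => F ((q : E) * r)
  have hval : ∀ (ζ' : P → ℂ) (z : Q0) (r : R),
      secChar p P ζ' (χ : G → ℂ) ((((z : (Q : Subgroup E)) : E) * (r : E) : E) : G) =
        ζ' (toP z) * (χ : G → ℂ) ((r : E) : G) := by
    intro ζ' z r
    obtain ⟨ha, hb⟩ := hparts z r
    rw [secChar_of_mem (ha.symm ▸ z.2), hb]
    congr 2
    exact Subtype.ext ha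
  have hzero : ∀ (ζ' : P → ℂ) (q : (Q : Subgroup E)) (r : R), q ∉ Q0 →
      secChar p P ζ' (χ : G → ℂ) (((q : E) * (r : E) : E) : G) = 0 := fun ζ' q r hq =>
    secChar_of_notMem (fun h => hq (by rw [(hparts q r).1] at h; exact h))
  have hproj : ∀ (q : (Q : Subgroup E)) (r : R), proj ((q : E) * r) = r := fun q r => by
    show (e.symm ((q : E) * r)).2 = r
    rw [show ((q : E) * r) = e (q, r) from rfl, Equiv.symm_apply_apply]
  rw [classInner, classInner, hflat _ fun q r hq => by rw [hzero _ q r hq, zero_mul],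
    hflat (fun g => (χ : G → ℂ) (E.subtype g) *
      conj (ψ' ((((1 : Q0), proj g) : Q0 × R) : (Q0 × R) ⧸ N))) (fun q r hq => by
      rw [← congrFun h1, Subgroup.coe_subtype, hzero _ q r hq, zero_mul])]
  congr 1
  refine Finset.sum_congr rfl fun r _ => ?_
  have hL : ∀ z : Q0, secChar p P (ζ : P → ℂ) (χ : G → ℂ) ((((z : (Q : Subgroup E)) : E) * (r : E) : E) : G) *
      conj (ξ (((z : (Q : Subgroup E)) : E) * (r : E))) =
      (χ : G → ℂ) ((r : E) : G) * conj (conj ((ζ : P → ℂ) (toP z)) * ξ (toE (z, r))) := by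
    intro z
    rw [hval, map_mul, Complex.conj_conj,
      show toE (z, r) = ((z : (Q : Subgroup E)) : E) * (r : E) from rfl]
    ring
  have hR' : ∀ z : Q0, (χ : G → ℂ) (E.subtype (((z : (Q : Subgroup E)) : E) * (r : E))) *
      conj (ψ' ((((1 : Q0), proj (((z : (Q : Subgroup E)) : E) * r)) : Q0 × R) : (Q0 × R) ⧸ N)) =
      (χ : G → ℂ) ((r : E) : G) * conj (ψ' ((((1 : Q0), r) : Q0 × R) : (Q0 × R) ⧸ N)) := by
    intro z
    rw [← congrFun h1, Subgroup.coe_subtype, hval, one_mul, hproj]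
  rw [Finset.sum_congr rfl fun z _ => hL z, Finset.sum_congr rfl fun z _ => hR' z, ← Finset.mul_sum,
    ← map_sum, ← havg' r, Finset.sum_const, Finset.card_univ, ← Nat.card_eq_fintype_card,
    nsmul_eq_mul, map_mul, Complex.conj_natCast]
  ring

/-- The main theorem: the characters of a block with central-product defect group. -/
theorem centralProduct_block (hM : IsPModular p M) (hP : IsPGroup p P)
    (hG : P ⊔ Subgroup.centralizer (P : Set G) = ⊤) {B : Set (IrrCharacter G)} (hB : IsPBlock M B)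
    (hD : IsDefectGroup p M B P) :
    (∀ θ ∈ B, (∀ u ∈ P, (θ : G → ℂ) u = (θ : G → ℂ) 1) →
      (charDegree (θ : G → ℂ)).factorization p = P.index.factorization p) ∧
    ∀ χ ∈ B, (∀ u ∈ P, (χ : G → ℂ) u = (χ : G → ℂ) 1) →
      ∃ F : IrrCharacter P → IrrCharacter G, Function.Injective F ∧
        (∀ ζ, (F ζ : G → ℂ) = secChar p P (ζ : P → ℂ) (χ : G → ℂ)) ∧ ∀ θ, θ ∈ B ↔ ∃ ζ, F ζ = θ := by
  classical
  haveI hPn := normal_of_sup_centralizer hG
  haveI := Fintype.ofFinite P
  have hd := card_defectGroup hM hB hD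
  have hdeg : ∀ θ ∈ B, (∀ u ∈ P, (θ : G → ℂ) u = (θ : G → ℂ) 1) →
      (charDegree (θ : G → ℂ)).factorization p = P.index.factorization p ∧
      blockHeight p B (θ : G → ℂ) = 0 := by
    intro θ hθ htriv
    obtain ⟨ψ, hψ, he⟩ := exists_deflate_irr P θ.2 htriv
    have hdq : charDegree ψ = charDegree (θ : G → ℂ) := by
      simp only [charDegree, ← he 1]; rfl
    have hle : (charDegree (θ : G → ℂ)).factorization p ≤ P.index.factorization p := by
      rw [← hdq, Subgroup.index_eq_card]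
      exact ((Nat.factorization_le_iff_dvd hψ.charDegree_pos.ne' Nat.card_pos.ne').2
        (Cfsg.Lib.Char.charDegree_dvd_card hψ)) p
    have hidx : P.index.factorization p + blockDefect p B = (Nat.card G).factorization p := by
      rw [← Subgroup.index_mul_card P, Nat.factorization_mul Subgroup.index_ne_zero_of_finite
        Nat.card_pos.ne', Finsupp.add_apply, hd, Nat.factorization_pow, Finsupp.smul_apply,
        hp.out.factorization_self, smul_eq_mul, mul_one]
    have hmin := minVal_le (p := p) hθ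
    have hde := blockDefect_eq (p := p) B
    have hhe := blockHeight_eq (p := p) B (θ : G → ℂ)
    omega
  refine ⟨fun θ hθ ht => (hdeg θ hθ ht).1, fun χ hχ htriv => ?_⟩
  obtain ⟨hdχ, hh0⟩ := hdeg χ hχ htriv
  have h1 := secChar_one_eq hP hG hM χ htriv hdχ
  have hirr : ∀ ζ : IrrCharacter P,
      IsIrrCharacter G (secChar p P (ζ : P → ℂ) (χ : G → ℂ)) := by
    intro ζ
    obtain ⟨ε, μ, hε, he⟩ := exists_signed_irr_of_norm_one
      (isGeneralizedCharacter_secChar hP hG χ h1 ζ)
      (by rw [classInner_secChar_irr hP hG χ h1 ζ ζ, if_pos rfl])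
    rcases hε with rfl | rfl
    · rw [he, Int.cast_one, one_smul]; exact μ.2
    · exfalso
      obtain ⟨a, ha, hae⟩ := ζ.2.exists_degree
      obtain ⟨b, hb, hbe⟩ := χ.2.exists_degree
      obtain ⟨c, hc, hce⟩ := μ.2.exists_degree
      have h := congrFun he 1
      rw [secChar_regular _ _ (by rw [orderOf_one]; exact hp.out.not_dvd_one), hae, hbe,
        Pi.smul_apply, hce, smul_eq_mul, Int.cast_neg, Int.cast_one, neg_one_mul] at h
      have h' : ((a * b + c : ℕ) : ℂ) = 0 := by push_cast; linear_combination h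
      have := Nat.cast_eq_zero.1 h'
      omega
  let F : IrrCharacter P → IrrCharacter G := fun ζ => ⟨_, hirr ζ⟩
  have hval1 : (classInner (χ : G → ℂ) (χ : G → ℂ) : ℂ) = 1 := classInner_irr_self χ.2
  have hregχ : regInner p (χ : G → ℂ) (χ : G → ℂ) * (Nat.card P : ℂ) = 1 := by
    have h := classInner_secChar hP hG (fun _ : P => (1 : ℂ)) (fun _ : P => (1 : ℂ)) (χ : G → ℂ)
    rw [h1, hval1, classInner_irr_self isIrrCharacter_one, mul_one] at h
    rw [h, mul_comm]
    congr 1
    rw [regInner, classInner, Finset.sum_filter]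
    congr 1
    refine Finset.sum_congr rfl fun g _ => ?_
    by_cases hg : ¬ p ∣ orderOf g
    · rw [if_pos hg, pRegularPart_of_reg hg]
    · rw [if_neg hg, pRegularPart_of_sing hg, zero_mul]
  have hregF : ∀ ζ, regInner p (F ζ : G → ℂ) (χ : G → ℂ) =
      (ζ : P → ℂ) 1 * regInner p (χ : G → ℂ) (χ : G → ℂ) := by
    intro ζ
    simp only [regInner, classInner, Finset.mul_sum]
    refine Finset.sum_congr rfl fun g _ => ?_
    by_cases hg : ¬ p ∣ orderOf g
    · rw [pRegularPart_of_reg hg, pRegularPart_of_reg hg]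
      show _ * (secChar p P (ζ : P → ℂ) (χ : G → ℂ) g * _) = _
      rw [secChar_regular _ _ hg]
      ring
    · rw [pRegularPart_of_sing hg, pRegularPart_of_sing hg]
      ring
  have hmemF : ∀ ζ, F ζ ∈ B := by
    intro ζ
    by_contra hn
    have h := regInner_eq_zero hM (vInt_indVec hM hB) hχ hn
    rw [← regInner_conj, map_eq_zero, hregF] at h
    rcases mul_eq_zero.1 h with h | h
    · exact ζ.2.apply_one_ne_zero h
    · rw [h, zero_mul] at hregχ
      exact zero_ne_one hregχ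
  refine ⟨F, ?_, fun _ => rfl, fun θ => ⟨fun hθ => ?_, fun ⟨ζ, h⟩ => h ▸ hmemF ζ⟩⟩
  · intro a b hab
    have h := classInner_secChar_irr hP hG χ h1 a b
    have hab' : (F a : G → ℂ) = F b := by rw [hab]
    rw [show secChar p P (a : P → ℂ) (χ : G → ℂ) = secChar p P (b : P → ℂ) (χ : G → ℂ) from hab',
      classInner_secChar_irr hP hG χ h1 b b, if_pos rfl] at h
    by_contra hne
    rw [if_neg fun e => hne (Subtype.ext e)] at h
    exact one_ne_zero h
  · by_contra hcon
    push_neg at hcon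
    have hsum : classInner (fun g => ∑ ζ : IrrCharacter P, (ζ : P → ℂ) 1 * (F ζ : G → ℂ) g)
        (θ : G → ℂ) = 0 := by
      have e : (fun g => ∑ ζ : IrrCharacter P, (ζ : P → ℂ) 1 * (F ζ : G → ℂ) g) =
          ∑ ζ : IrrCharacter P, (ζ : P → ℂ) 1 • (F ζ : G → ℂ) := by
        funext g; simp [Finset.sum_apply]
      rw [e, classInner_sum_left]
      refine Finset.sum_eq_zero fun ζ _ => ?_
      rw [classInner_smul_left, classInner_irr_ne (F ζ).2 θ.2 (fun h => hcon ζ (Subtype.ext h)),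
        mul_zero]
    have hF : (fun g => ∑ ζ : IrrCharacter P, (ζ : P → ℂ) 1 * (F ζ : G → ℂ) g) =
        (Nat.card P : ℂ) • pRegularPart p (χ : G → ℂ) := by
      funext g
      rw [Pi.smul_apply, smul_eq_mul]
      by_cases h : pPt p g ∈ P
      · have e : ∀ ζ : IrrCharacter P, (ζ : P → ℂ) 1 * (F ζ : G → ℂ) g =
            (ζ : P → ℂ) 1 * (ζ : P → ℂ) ⟨pPt p g, h⟩ * (χ : G → ℂ) (pReg p g) := fun ζ => by
          show (ζ : P → ℂ) 1 * secChar p P (ζ : P → ℂ) (χ : G → ℂ) g = _
          rw [secChar_of_mem h, mul_assoc]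
        rw [Finset.sum_congr rfl fun ζ _ => e ζ, ← Finset.sum_mul, sum_degree_mul]
        by_cases hg : ¬ p ∣ orderOf g
        · have h1' := (pPt_eq_one_iff (p := p) g).2 hg
          have h2' : pReg p g = g := by
            conv_rhs => rw [← pPt_mul_pReg (p := p) g, h1', one_mul]
          rw [if_pos (Subtype.ext h1'), pRegularPart_of_reg hg, h2']
        · rw [if_neg (fun e => hg ((pPt_eq_one_iff (p := p) g).1 (congrArg Subtype.val e))),
            pRegularPart_of_sing hg, zero_mul, mul_zero]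
      · rw [pRegularPart_of_sing (fun hg => h ((pPt_eq_one_iff (p := p) g).2 hg ▸ P.one_mem)), mul_zero]
        refine Finset.sum_eq_zero fun ζ _ => ?_
        show _ * secChar p P (ζ : P → ℂ) (χ : G → ℂ) g = 0
        rw [secChar_of_notMem h, mul_zero]
    rw [hF, classInner_smul_left] at hsum
    have hreg : regInner p (χ : G → ℂ) (θ : G → ℂ) = 0 :=
      (mul_eq_zero.1 hsum).resolve_left card_cast_ne_zero
    have h := regN_div_height_not_ideal hM hB hχ hθ hh0
    apply h
    rw [regN, hreg, mul_zero, zero_div]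
    exact memLocalIdeal_zero hM

end Cfsg.Lib.Block
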