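import Cfsg.Agent.Lib.Block.LocalMax

/-!
# Blocks of `P · C(P)` inducing blocks with the same defect group
-/

set_option autoImplicit false
set_option linter.unusedSectionVars false
set_option maxHeartbeats 800000

namespace Cfsg.Lib.Block

open Cfsg

universe u

variable {p : ℕ} {M : Ideal AlgInt} {G : Type u} [Group G] [Fintype G] [Fact p.Prime]

noncomputable local instance (priority := high) fintypeSubgroupInducedFull (H : Subgroup G) :
    Fintype H := Fintype.ofFinite H

local notation "C[" Q "]" => Subgroup.centralizer (SetLike.coe Q)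

variable (hM : IsPModular p M)

theorem stabilizesBlock_iff_forall {K : Subgroup G} {b : Set (IrrCharacter K)} {x : G}
    (hx : x ∈ Subgroup.normalizer (K : Set G)) :
    StabilizesBlock K b x ↔ ∀ θ ∈ b, ∀ θ' : IrrCharacter K,
      (∀ k k' : K, (k' : G) = x * k * x⁻¹ → (θ' : K → ℂ) k' = (θ : K → ℂ) k) → θ' ∈ b := by
  constructor
  · rintro ⟨-, h⟩ θ hθ θ' hc
    obtain ⟨θ'', hθ'', hc'⟩ := h θ hθ
    have e : θ' = θ'' := Subtype.ext (funext fun k' => by
      obtain ⟨k, hk⟩ : ∃ k : K, (k' : G) = x * k * x⁻¹ :=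
        ⟨(conjIso (conjMaps_normalizer hx)).symm k', by simp [conjIso, mul_assoc]⟩
      rw [hc k k' hk, hc' k k' hk])
    rwa [e]
  · intro h
    refine ⟨hx, fun χ hχ => ?_⟩
    refine ⟨compIrr (conjIso (conjMaps_normalizer hx)).symm χ, ?_, ?_⟩
    · refine h χ hχ _ fun k k' hk => ?_
      rw [compIrr_apply, show k' = conjIso (conjMaps_normalizer hx) k from Subtype.ext hk,
        MulEquiv.symm_apply_apply]
    · intro k k' hk
      rw [compIrr_apply, show k' = conjIso (conjMaps_normalizer hx) k from Subtype.ext hk,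
        MulEquiv.symm_apply_apply]

include hM in
/-- A block of `P · C(P)` with defect group `P` induces a block with defect group `P` exactly when
its stabilizer has index prime to `p`. -/
theorem isDefectGroup_induced_iff {B : Set (IrrCharacter G)} {P T : Subgroup G}
    (hP : IsPGroup p P) {b : Set (IrrCharacter ↥(P ⊔ C[P]))} (hb : IsPBlock M b)
    (hbP : IsDefectGroup p M b (P.subgroupOf (P ⊔ C[P])))
    (hind : IsInducedBlock M (P ⊔ C[P]) b B)
    (hT : ∀ g : G, g ∈ T ↔ g ∈ Subgroup.normalizer (P : Set G) ∧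
      StabilizesBlock (P ⊔ C[P]) b g) :
    IsDefectGroup p M B P ↔ ¬ p ∣ (P ⊔ C[P]).relIndex T := by
  classical
  have hp : p.Prime := Fact.out
  have hLN : P ⊔ C[P] ≤ Subgroup.normalizer (P : Set G) := sup_centralizer_le_normalizer P
  obtain ⟨f, hf, hcoeff⟩ := exists_centralizer_block hM hP le_sup_right le_sup_left hLN
    (invOn_sup_centralizer P) hb
  have hpair : IsBrauerPairOf p M B P f :=
    (isBrauerPairOf_iff_induced hM hP le_sup_right le_sup_left hLN (invOn_sup_centralizer P) hf hb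
      hcoeff hind.2.1).2 hind
  have hloc : IsLocalBlock p M P (P ⊔ C[P]) f b :=
    ⟨hb, hLN, le_sup_right, hcoeff, invOn_sup_centralizer P _⟩
  have hnorm : ∀ g ∈ Subgroup.normalizer (P : Set G),
      g ∈ Subgroup.normalizer ((P ⊔ C[P] : Subgroup G) : Set G) := by
    intro g hg
    have e3 : (P ⊔ C[P]).map (MulAut.conj g).toMonoidHom = P ⊔ C[P] := by
      rw [Subgroup.map_sup, map_centralizer_conj, map_conj_eq_self hg]
    refine Subgroup.mem_normalizer_iff.2 fun a => ⟨fun ha => e3 ▸ ⟨a, ha, rfl⟩, fun ha => ?_⟩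
    rw [← e3] at ha
    obtain ⟨c, hc, hca⟩ := ha
    rwa [← (MulAut.conj g).injective hca]
  have hT' : ∀ g : G, g ∈ T ↔ g ∈ Subgroup.normalizer (P : Set G) ∧
      StabilizesBlock C[P] f g := fun g => by
    rw [hT]
    refine and_congr_right fun hg => ?_
    rw [stabilizesBlock_iff_coeff (hnorm g hg),
      stabilizesBlock_iff_coeff (mem_normalizer_centralizer hg)]
    simp only [hcoeff]
  constructor
  · intro hD
    exact not_dvd_relIndex_of_maximal hM (maximal_of_defectGroup hM hpair hD) hT'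
  · intro hnd
    obtain ⟨R, g, hle, hmax⟩ := exists_maximal_above hM hpair
    have hPR := subpairLE_le hle
    rcases hPR.eq_or_lt with h | hlt
    · cases h
      exact isDefectGroup_of_maximal hM hmax
    · exfalso
      obtain ⟨D, hD, hRD⟩ := le_defectGroup_of_subpair hM hloc hmax.1.1 hle
      have heq : P = R ⊓ (P ⊔ C[P]) := by
        refine Subgroup.eq_of_le_of_card_ge (le_inf hPR le_sup_left) ?_
        rw [← Nat.card_congr (Subgroup.subgroupOfEquivOfLe
          (inf_le_right : R ⊓ (P ⊔ C[P]) ≤ P ⊔ C[P])).toEquiv]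
        refine (Subgroup.card_le_of_le hRD).trans_eq ?_
        rw [card_defectGroup hM hb hD, ← card_defectGroup hM hb hbP,
          Nat.card_congr (Subgroup.subgroupOfEquivOfLe (le_sup_left : P ≤ P ⊔ C[P])).toEquiv]
      refine (lt_inf_normalizer hmax.1.1.1 hlt).not_ge fun y hy => ?_
      have hyT : y ∈ T := (hT' y).2 ⟨hy.2, inf_normalizer_le_stab hM hmax.1.1 hle hy⟩
      haveI : ((P ⊔ C[P]).subgroupOf T).Normal :=
        Subgroup.normal_subgroupOf_of_le_normalizer fun z hz => hnorm z ((hT' z).1 hz).1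
      obtain ⟨k, hk⟩ := IsPGroup.iff_orderOf.1 hmax.1.1.1 ⟨y, hy.1⟩
      rw [Subgroup.orderOf_mk] at hk
      have h1 : orderOf (((⟨y, hyT⟩ : T) : T ⧸ (P ⊔ C[P]).subgroupOf T)) ∣ p ^ k := by
        rw [← hk, ← Subgroup.orderOf_mk y hyT]
        exact orderOf_map_dvd (QuotientGroup.mk' _) (⟨y, hyT⟩ : T)
      have h2 := orderOf_eq_one_iff.1 (Nat.eq_one_of_dvd_coprimes
        (Nat.Coprime.pow_left k (hp.coprime_iff_not_dvd.2 hnd)) h1 (orderOf_dvd_natCard _))
      rw [heq]
      exact ⟨hy.1, Subgroup.mem_subgroupOf.1 ((QuotientGroup.eq_one_iff _).1 h2)⟩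

end Cfsg.Lib.Block
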