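import Cfsg.Agent.Lib.Block.Induced
import Cfsg.Agent.Lib.Block.InducedFull

/-!
# Induction of blocks in steps
-/

set_option autoImplicit false
set_option linter.unusedSectionVars false
set_option maxHeartbeats 1000000

namespace Cfsg.Lib.Block

open Cfsg

universe u

noncomputable local instance (priority := high) fintypeSubgroupInducedTrans {A : Type u}
    [Group A] [Fintype A] (H : Subgroup A) : Fintype H := Fintype.ofFinite H

variable {p : ℕ} [Fact p.Prime] {M : Ideal AlgInt} {G : Type u} [Group G] [Fintype G]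
  (hM : IsPModular p M)

include hM in
open Classical in
/-- The induced central characters agree along an induction inside `H`. -/
theorem inducedCentralChar_step {K H : Subgroup G} {K' : Subgroup H} (e : K ≃* K')
    (he : ∀ k : K, ((e k : H) : G) = k)
    {c₁ : Set (IrrCharacter K')} {c : Set (IrrCharacter H)} (h₁ : IsInducedBlock M K' c₁ c)
    {ξ₁ : IrrCharacter K'} (hξ₁ : ξ₁ ∈ c₁) {θ : IrrCharacter H} (hθ : θ ∈ c) (g : G) :
    MemLocalIdeal M (inducedCentralChar K (compIrr e ξ₁ : K → ℂ) g -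
      inducedCentralChar H (θ : H → ℂ) g) := by
  set F : H → ℂ := fun h => if IsConj g (h : G) then 1 else 0 with hF
  have hFc : IsClassFunction H F := fun x k => by
    have hk : IsConj (x : G) ((k * x * k⁻¹ : H) : G) := isConj_iff.2 ⟨(k : G), rfl⟩
    simp only [hF]
    exact if_congr ⟨fun h => h.trans hk.symm, fun h => h.trans hk⟩ rfl rfl
  haveI : Finite (ConjClasses H) := Quotient.finite _
  haveI : Fintype (ConjClasses H) := Fintype.ofFinite _
  have hH : inducedCentralChar H (θ : H → ℂ) g =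
      ∑ C : ConjClasses H, F C.out * centralChar (θ : H → ℂ) C.out := by
    rw [inducedCentralChar_eq, ← sum_mul_char_eq hFc θ]
    congr 1
    funext h
    simp only [hF]
    congr 1
  have hK : inducedCentralChar K (compIrr e ξ₁ : K → ℂ) g =
      ∑ C : ConjClasses H, F C.out *
        inducedCentralChar K' (ξ₁ : K' → ℂ) C.out := by
    rw [inducedCentralChar_eq, vec]
    rw [Fintype.sum_equiv e.toEquiv _
      (fun k : K' => F (k : H) * (ξ₁ : K' → ℂ) k) fun k => by
        simp only [hF, compIrr_apply, MulEquiv.toEquiv_eq_coe, EquivLike.coe_coe, he]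
        congr]
    rw [compIrr_apply, map_one, ← Finset.sum_fiberwise (Finset.univ : Finset K')
      (fun k => ConjClasses.mk (k : H)), Finset.sum_div]
    refine Finset.sum_congr rfl fun C _ => ?_
    rw [inducedCentralChar_eq, vec, ← mul_div_assoc, Finset.mul_sum]
    congr 1
    rw [Finset.sum_filter]
    refine Finset.sum_congr rfl fun k _ => ?_
    have hC : ConjClasses.mk C.out = C := Quotient.out_eq C
    have hiff : IsConj C.out (k : H) ↔ ConjClasses.mk (k : H) = C := by
      rw [← ConjClasses.mk_eq_mk_iff_isConj, hC]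
      exact eq_comm
    by_cases hk : ConjClasses.mk (k : H) = C
    · rw [if_pos hk, if_pos (hiff.2 hk), one_mul]
      congr 1
      obtain ⟨t, ht⟩ := isConj_iff.1 (hiff.2 hk)
      rw [← ht, hFc]
    · rw [if_neg hk, if_neg fun h => hk (hiff.1 h), zero_mul, mul_zero]
  rw [hK, hH, ← Finset.sum_sub_distrib]
  refine memLocalIdeal_sum hM _ _ fun C _ => ?_
  rw [← mul_sub]
  refine memLocalIdeal_mul_left hM ?_ (h₁.2.2 ξ₁ hξ₁ θ hθ C.out)
  simp only [hF]
  split_ifs
  · exact one_mem _
  · exact zero_mem _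

include hM in
/-- A block inducing a block that induces `B` induces `B`. -/
theorem isInducedBlock_trans {K H : Subgroup G} {K' : Subgroup H} (e : K ≃* K')
    (he : ∀ k : K, ((e k : H) : G) = k)
    {c₁ : Set (IrrCharacter K')} {c : Set (IrrCharacter H)}
    {B : Set (IrrCharacter G)} (h₁ : IsInducedBlock M K' c₁ c)
    (h₂ : IsInducedBlock M H c B) :
    IsInducedBlock M K (pullSet e c₁) B := by
  refine ⟨isPBlock_pullSet e h₁.1, h₂.2.1, fun ξ hξ χ hχ g => ?_⟩
  obtain ⟨ξ₁, hξ₁, rfl⟩ : ∃ ξ₁ ∈ c₁, compIrr e ξ₁ = ξ := by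
    refine ⟨compIrr e.symm ξ, ?_, compIrr_compIrr_symm e ξ⟩
    have h := hξ
    rw [← compIrr_compIrr_symm e ξ] at h
    exact mem_pullSet.1 h
  obtain ⟨θ, hθ⟩ := nonempty_of_isPBlock hM h₁.2.1
  have h := memLocalIdeal_add hM (inducedCentralChar_step hM e he h₁ hξ₁ hθ g) (h₂.2.2 θ hθ χ hχ g)
  rwa [sub_add_sub_cancel] at h

include hM in
/-- A block induces `B` when a block inducing it does. -/
theorem isInducedBlock_of_trans {K H : Subgroup G} {K' : Subgroup H} (e : K ≃* K')
    (he : ∀ k : K, ((e k : H) : G) = k)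
    {c₁ : Set (IrrCharacter K')} {c : Set (IrrCharacter H)}
    {B : Set (IrrCharacter G)} (h₁ : IsInducedBlock M K' c₁ c)
    (h₂ : IsInducedBlock M K (pullSet e c₁) B) : IsInducedBlock M H c B := by
  refine ⟨h₁.2.1, h₂.2.1, fun θ hθ χ hχ g => ?_⟩
  obtain ⟨ξ₁, hξ₁⟩ := nonempty_of_isPBlock hM h₁.1
  have h := memLocalIdeal_sub hM (h₂.2.2 _ (mem_pullSet.2 hξ₁) χ hχ g)
    (inducedCentralChar_step hM e he h₁ hξ₁ hθ g)
  rwa [sub_sub_sub_cancel_left] at h

/-- Stabilizing a block of a subgroup of `H` is seen inside `H`. -/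
theorem stabilizesBlock_inside {K H : Subgroup G} {K' : Subgroup H} (e : K ≃* K')
    (he : ∀ k : K, ((e k : H) : G) = k) (c₁ : Set (IrrCharacter K')) {x : H}
    (hx : (x : G) ∈ Subgroup.normalizer (K : Set G)) (hx' : x ∈ Subgroup.normalizer (K' : Set H)) :
    StabilizesBlock K (pullSet e c₁) (x : G) ↔ StabilizesBlock K' c₁ x := by
  rw [stabilizesBlock_iff_forall hx, stabilizesBlock_iff_forall hx']
  have hval : ∀ a : K', (((e.symm a : K) : G)) = ((a : H) : G) := fun a => by
    rw [← he (e.symm a), MulEquiv.apply_symm_apply]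
  constructor
  · intro h θ hθ θ' hc
    have h' := h (compIrr e θ) (mem_pullSet.2 hθ) (compIrr e θ') fun k k' hk => by
      rw [compIrr_apply, compIrr_apply]
      exact hc _ _ (Subtype.ext (by rw [Subgroup.coe_mul, Subgroup.coe_mul, Subgroup.coe_inv, he, he, hk]))
    exact mem_pullSet.1 h'
  · intro h θ hθ θ' hc
    rw [← compIrr_compIrr_symm e θ] at hθ hc
    rw [← compIrr_compIrr_symm e θ']
    refine mem_pullSet.2 (h _ (mem_pullSet.1 hθ) _ fun k k' hk => ?_)
    have h' := hc (e.symm k) (e.symm k') (by rw [hval, hval, hk]; rfl)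
    simpa only [compIrr_apply, MulEquiv.apply_symm_apply] using h'

end Cfsg.Lib.Block
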