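import Cfsg.Agent.Lib.Block.SectionCount
import Cfsg.Agent.Lib.Block.AbelianSections
import Cfsg.Agent.Lib.Block.InducedTrans
import Cfsg.Agent.Lib.Block.BrauerPairs

/-!
# The alternating sum over chains of the characters less the rank
-/

set_option autoImplicit false
set_option linter.unusedSectionVars false
set_option maxHeartbeats 1000000

namespace Cfsg.Lib.Block

open Cfsg
open scoped ComplexConjugate

universe u

noncomputable local instance (priority := high) fintypeSubgroupChainSum {A : Type u}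
    [Group A] [Fintype A] (H : Subgroup A) : Fintype H := Fintype.ofFinite H

section Combinatorics

variable {α : Type*} [DecidableEq α]

/-- An alternating sum over a family of finite sets stable under toggling an element. -/
theorem sum_toggle_eq_zero (S : Finset (Finset α)) (t : Finset α → α) (f : Finset α → ℤ)
    (h : ∀ s ∈ S, ∀ s', s.erase (t s) ⊆ s' → s' ⊆ insert (t s) s →
      s' ∈ S ∧ t s' = t s ∧ f s' = f s) :
    ∑ s ∈ S, (-1 : ℤ) ^ s.card * f s = 0 := by
  set g : Finset α → Finset α := fun s => if t s ∈ s then s.erase (t s) else insert (t s) s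
    with hg
  have hsub : ∀ s, s.erase (t s) ⊆ g s ∧ g s ⊆ insert (t s) s := fun s => by
    simp only [hg]
    split_ifs
    · exact ⟨Finset.Subset.refl _, (Finset.erase_subset _ _).trans (Finset.subset_insert _ _)⟩
    · exact ⟨(Finset.erase_subset _ _).trans (Finset.subset_insert _ _), Finset.Subset.refl _⟩
  have hne : ∀ s, g s ≠ s := fun s e => by
    simp only [hg] at e
    split_ifs at e with hm
    · exact Finset.erase_eq_self.1 e hm
    · exact hm (Finset.insert_eq_self.1 e)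
  refine Finset.sum_involution (fun s _ => g s) (fun s hs => ?_) (fun s _ _ => hne s)
    (fun s hs => (h s hs _ (hsub s).1 (hsub s).2).1) fun s hs => ?_
  · rw [(h s hs _ (hsub s).1 (hsub s).2).2.2]
    simp only [hg]
    split_ifs with hm
    · rw [← Finset.card_erase_add_one hm]
      ring
    · rw [Finset.card_insert_of_notMem hm]
      ring
  · have ht := (h s hs _ (hsub s).1 (hsub s).2).2.1
    simp only [hg] at ht ⊢
    split_ifs at ht ⊢ with hm <;>
      simp_all

end Combinatorics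

section Lattice

variable {α : Type*} [Lattice α]

theorem sup_eq_bot_or_mem [OrderBot α] {s : Finset α}
    (h : ∀ a ∈ s, ∀ b ∈ s, a ≤ b ∨ b ≤ a) : s.sup id = ⊥ ∨ s.sup id ∈ s := by
  refine Finset.sup_induction (p := fun a => a = ⊥ ∨ a ∈ s) (Or.inl rfl) ?_ fun a ha => Or.inr ha
  rintro a (rfl | ha) b hb
  · rwa [bot_sup_eq]
  rcases hb with rfl | hb
  · exact Or.inr (by rwa [sup_bot_eq])
  rcases h a ha b hb with e | e
  · exact Or.inr (by rwa [sup_eq_right.2 e])
  · exact Or.inr (by rwa [sup_eq_left.2 e])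

theorem inf_eq_top_or_mem [OrderTop α] {s : Finset α}
    (h : ∀ a ∈ s, ∀ b ∈ s, a ≤ b ∨ b ≤ a) : s.inf id = ⊤ ∨ s.inf id ∈ s := by
  refine Finset.inf_induction (p := fun a => a = ⊤ ∨ a ∈ s) (Or.inl rfl) ?_ fun a ha => Or.inr ha
  rintro a (rfl | ha) b hb
  · rwa [top_inf_eq]
  rcases hb with rfl | hb
  · exact Or.inr (by rwa [inf_top_eq])
  rcases h a ha b hb with e | e
  · exact Or.inr (by rwa [inf_eq_left.2 e])
  · exact Or.inr (by rwa [inf_eq_right.2 e])

theorem inf_mem_of_nonempty [OrderTop α] {s : Finset α}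
    (h : ∀ a ∈ s, ∀ b ∈ s, a ≤ b ∨ b ≤ a) (hne : s.Nonempty) : s.inf id ∈ s := by
  rcases inf_eq_top_or_mem h with e | e
  · obtain ⟨a, ha⟩ := hne
    have : a = ⊤ := top_le_iff.1 (e ▸ Finset.inf_le (f := id) ha)
    rw [e, ← this]
    exact ha
  · exact e

theorem sup_mem_of_nonempty [OrderBot α] {s : Finset α}
    (h : ∀ a ∈ s, ∀ b ∈ s, a ≤ b ∨ b ≤ a) (hne : s.Nonempty) : s.sup id ∈ s := by
  rcases sup_eq_bot_or_mem h with e | e
  · obtain ⟨a, ha⟩ := hne
    have : a = ⊥ := le_bot_iff.1 (e ▸ Finset.le_sup (f := id) ha)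
    rw [e, ← this]
    exact ha
  · exact e

end Lattice

variable {p : ℕ} {M : Ideal AlgInt} {G : Type u} [Group G] [Fintype G] [Fact p.Prime]
  (hM : IsPModular p M)

open Classical in
include hM in
/-- The characters of a block less its rank, counted by the elements of `p`-power order. -/
theorem card_mul_card_sub_rank {B : Set (IrrCharacter G)} (hB : IsPBlock M B) :
    (Nat.card G : ℂ) * ((Nat.card B : ℂ) - (blockRank p B : ℂ)) =
      ∑ x ∈ Finset.univ.filter (fun x : G => (∃ k : ℕ, orderOf x = p ^ k) ∧ x ≠ 1),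
        (Nat.card (Subgroup.centralizer ({x} : Set G)) : ℂ) *
          (blockRank p (indSet M (Subgroup.centralizer ({x} : Set G)) B) : ℂ) := by
  set F : G → ℂ := fun g => ∑ χ ∈ B.toFinset, (χ : G → ℂ) g * conj ((χ : G → ℂ) g) with hFdef
  have htot : ∑ g, F g = (Nat.card G : ℂ) * (Nat.card B : ℂ) := by
    simp only [hFdef]
    rw [Finset.sum_comm, Finset.sum_congr rfl (fun (χ : IrrCharacter G) (_ : χ ∈ B.toFinset) => show
      ∑ g, (χ : G → ℂ) g * conj ((χ : G → ℂ) g) = (Nat.card G : ℂ) from ?_), Finset.sum_const,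
      nsmul_eq_mul, Set.toFinset_card, Nat.card_eq_fintype_card (α := B), mul_comm]
    have := Char.classInner_irr_self χ.2
    rw [classInner, inv_mul_eq_one₀ Char.card_cast_ne_zero] at this
    exact this.symm
  have hone : (Nat.card G : ℂ) * (blockRank p B : ℂ) =
      ∑ g ∈ Finset.univ.filter (fun g => pPt p g = 1), F g := by
    rw [card_mul_blockRank hM (vInt_indVec hM hB), Finset.sum_filter]
    refine Finset.sum_congr rfl fun g _ => ?_
    simp only [finsum_mem_eq_toFinset_sum, hFdef]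
    by_cases hg : IsPRegular p g
    · rw [if_pos ((pPt_eq_one_iff g).2 hg)]
      exact Finset.sum_congr rfl fun χ _ => by rw [pRegularPart_of_reg hg]
    · rw [if_neg (mt (pPt_eq_one_iff g).1 hg)]
      exact Finset.sum_eq_zero fun χ _ => by rw [pRegularPart_of_sing hg, zero_mul]
  have hmaps : ∀ g ∈ (Finset.univ : Finset G), pPt p g ∈
      Finset.univ.filter (fun x : G => ∃ k : ℕ, orderOf x = p ^ k) := fun g _ =>
    Finset.mem_filter.2 ⟨Finset.mem_univ _, exists_orderOf_pPt g⟩
  have h1 : (1 : G) ∈ Finset.univ.filter (fun x : G => ∃ k : ℕ, orderOf x = p ^ k) :=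
    Finset.mem_filter.2 ⟨Finset.mem_univ _, 0, by simp⟩
  rw [mul_sub, ← htot, hone, ← Finset.sum_fiberwise_of_maps_to hmaps,
    ← Finset.add_sum_erase _ _ h1, add_sub_cancel_left]
  refine Finset.sum_congr (by ext x; simp [and_comm]) fun x hx => ?_
  have hxp : ∃ k : ℕ, orderOf x = p ^ k := (Finset.mem_filter.1 hx).2.1
  have hHx : ∀ h : Subgroup.centralizer ({x} : Set G), Commute x (h : G) := fun h =>
    Subgroup.mem_centralizer_iff.1 h.2 x rfl
  rw [sum_pPt_eq hxp hHx le_rfl F, ← sum_reg_regKer hM (vInt_indSet hM B),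
    finsum_eq_sum_of_fintype]
  refine Finset.sum_congr rfl fun y _ => ?_
  by_cases hy : IsPRegular p y
  · rw [if_pos hy, pRegularPart_of_reg hy]
    exact sum_block_mul_conj hM hxp hHx le_rfl hB hy hy
  · rw [if_neg hy, pRegularPart_of_sing hy]

open Classical in
include hM in
/-- The same count over the blocks of a subgroup inducing a block of the group. -/
theorem card_mul_card_indSet_sub_rank (b : Set (IrrCharacter G)) (H : Subgroup G) :
    (Nat.card H : ℂ) * ((Nat.card (indSet M H b) : ℂ) - (blockRank p (indSet M H b) : ℂ)) =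
      ∑ x ∈ Finset.univ.filter
        (fun x : G => (∃ k : ℕ, orderOf x = p ^ k) ∧ x ≠ 1 ∧ x ∈ H),
        (Nat.card (H ⊓ Subgroup.centralizer ({x} : Set G) : Subgroup G) : ℂ) *
          (blockRank p (indSet M (H ⊓ Subgroup.centralizer ({x} : Set G)) b) : ℂ) := by
  set S := indSet M H b with hS
  set Bl := S.toFinset.image fun η : IrrCharacter H => blockOf M (η : H → ℂ) with hBl
  have hblk : ∀ β, β ∈ Bl ↔ IsInducedBlock M H β b := by
    intro β
    simp only [hBl, Finset.mem_image, Set.mem_toFinset]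
    constructor
    · rintro ⟨η, hη, rfl⟩
      exact hη
    · intro h
      obtain ⟨η, hη⟩ := nonempty_of_isPBlock hM h.1
      refine ⟨η, ?_, (eq_blockOf_of_mem hM h.1 hη).symm⟩
      show IsInducedBlock M H (blockOf M (η : H → ℂ)) b
      rwa [← eq_blockOf_of_mem hM h.1 hη]
  have hfib : ∀ β ∈ Bl,
      (S.toFinset.filter fun η : IrrCharacter H => blockOf M (η : H → ℂ) = β) = β.toFinset := by
    intro β hβ
    have hβb := (hblk β).1 hβ
    ext η
    simp only [Finset.mem_filter, Set.mem_toFinset]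
    constructor
    · rintro ⟨-, rfl⟩
      exact self_mem_blockOf hM η
    · intro h
      refine ⟨?_, (eq_blockOf_of_mem hM hβb.1 h).symm⟩
      show IsInducedBlock M H (blockOf M (η : H → ℂ)) b
      rwa [← eq_blockOf_of_mem hM hβb.1 h]
  have hsplit : ∀ f : IrrCharacter H → ℂ,
      ∑ η ∈ S.toFinset, f η = ∑ β ∈ Bl, ∑ η ∈ β.toFinset, f η := fun f => by
    rw [← Finset.sum_fiberwise_of_maps_to
      (g := fun η : IrrCharacter H => blockOf M (η : H → ℂ)) (t := Bl)
      fun η hη => Finset.mem_image_of_mem _ hη]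
    exact Finset.sum_congr rfl fun β hβ => by rw [hfib β hβ]
  have hcard : (Nat.card S : ℂ) = ∑ β ∈ Bl, (Nat.card β : ℂ) := by
    have h := hsplit fun _ => 1
    simp only [Finset.sum_const, nsmul_eq_mul, mul_one] at h
    simpa only [Set.toFinset_card, ← Nat.card_eq_fintype_card] using h
  have hrank : (blockRank p S : ℂ) = ∑ β ∈ Bl, (blockRank p β : ℂ) := by
    rw [blockRank_eq_sum_regInner hM (vInt_indSet hM b), hsplit]
    exact Finset.sum_congr rfl fun β hβ =>
      (blockRank_eq_sum_regInner hM (vInt_indVec hM ((hblk β).1 hβ).1)).symm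
  rw [hcard, hrank, ← Finset.sum_sub_distrib, Finset.mul_sum,
    Finset.sum_congr rfl fun β hβ => card_mul_card_sub_rank hM ((hblk β).1 hβ).1,
    Finset.sum_comm]
  refine Finset.sum_bij' (fun (x : H) _ => (x : G))
    (fun (x : G) hx => (⟨x, (Finset.mem_filter.mp hx).2.2.2⟩ : H)) ?_ ?_ ?_ ?_ ?_
  · intro x hx
    simp only [Finset.mem_filter, Finset.mem_univ, true_and] at hx ⊢
    obtain ⟨hk, h1⟩ := hx
    refine ⟨?_, ?_, x.2⟩
    · rwa [Subgroup.orderOf_coe]
    · exact fun h => h1 (Subtype.ext h)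
  · intro x hx
    simp only [Finset.mem_filter, Finset.mem_univ, true_and] at hx ⊢
    obtain ⟨hk, h1, -⟩ := hx
    refine ⟨?_, ?_⟩
    · rwa [Subgroup.orderOf_mk]
    · exact fun h => h1 (congrArg Subtype.val h)
  · exact fun _ _ => rfl
  · exact fun _ _ => rfl
  intro x hx
  simp only [Finset.mem_filter, Finset.mem_univ, true_and] at hx
  obtain ⟨hk, -⟩ := hx
  set C : Subgroup H := Subgroup.centralizer ({x} : Set H) with hC
  set K : Subgroup G := H ⊓ Subgroup.centralizer ({(x : G)} : Set G) with hK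
  let e : K ≃* C :=
    { toFun := fun k => ⟨⟨(k : G), (Subgroup.mem_inf.1 k.2).1⟩,
        Subgroup.mem_centralizer_singleton_iff.2 (Subtype.ext
          (Subgroup.mem_centralizer_singleton_iff.1 (Subgroup.mem_inf.1 k.2).2))⟩
      invFun := fun c => ⟨((c : H) : G), Subgroup.mem_inf.2 ⟨(c : H).2,
        Subgroup.mem_centralizer_singleton_iff.2
          (congrArg Subtype.val (Subgroup.mem_centralizer_singleton_iff.1 c.2))⟩⟩
      left_inv := fun _ => rfl
      right_inv := fun _ => rfl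
      map_mul' := fun _ _ => rfl }
  have he : ∀ k : K, ((e k : H) : G) = k := fun _ => rfl
  have hcomm : ∀ h : C, Commute x (h : H) := fun h =>
    Subgroup.mem_centralizer_iff.1 h.2 x rfl
  set T : Set (IrrCharacter C) := {θ | ∃ β ∈ Bl, θ ∈ indSet M C β} with hT
  have hTclosed : ∀ θ ∈ T, blockOf M (θ : C → ℂ) ⊆ T := fun θ ⟨β, hβ, hθ⟩ ψ hψ =>
    ⟨β, hβ, indSet_closed hM β θ hθ hψ⟩
  have hTrank : (blockRank p T : ℂ) = ∑ β ∈ Bl, (blockRank p (indSet M C β) : ℂ) := by
    rw [blockRank_eq_sum_regInner hM (vInt_indVec_closed hM hTclosed),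
      Finset.sum_congr (s₂ := Bl.biUnion fun β => (indSet M C β).toFinset)
        (by ext θ; simp [hT]) (fun _ _ => rfl), Finset.sum_biUnion]
    · exact Finset.sum_congr rfl fun β _ =>
        (blockRank_eq_sum_regInner hM (vInt_indSet hM β)).symm
    · intro β hβ β' hβ' hne
      rw [Function.onFun, Finset.disjoint_left]
      intro θ h h'
      have k1 : θ ∈ indSet M C β := Set.mem_toFinset.1 h
      have k2 : θ ∈ indSet M C β' := Set.mem_toFinset.1 h'
      exact hne (isInducedBlock_unique hM k1 k2)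
  have hpull : indSet M K b = pullSet e T := by
    ext θ'
    obtain ⟨θ, rfl⟩ : ∃ θ, compIrr e θ = θ' := ⟨_, compIrr_compIrr_symm e θ'⟩
    rw [mem_pullSet]
    show IsInducedBlock M K (blockOf M (compIrr e θ : K → ℂ)) b ↔ _
    rw [blockOf_compIrr]
    constructor
    · intro h
      obtain ⟨β, hβ⟩ := exists_isInducedBlock_of_centralizer hM hk hcomm le_rfl
        (isPBlock_blockOf (M := M) θ)
      exact ⟨β, (hblk β).2 (isInducedBlock_of_trans hM e he hβ h), hβ⟩
    · rintro ⟨β, hβ, hθ⟩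
      exact isInducedBlock_trans hM e he hθ ((hblk β).1 hβ)
  rw [← Finset.mul_sum, ← hTrank]
  show _ = (Nat.card K : ℂ) * (blockRank p (indSet M K b) : ℂ)
  rw [hpull, blockRank_pullSet, Nat.card_congr e.toEquiv]

section Chains

variable (p)

/-- The stabilizer of a chain. -/
noncomputable def chainStab (s : Finset (Subgroup G)) : Subgroup G :=
  ⨅ Q ∈ s, Subgroup.normalizer ((Q : Subgroup G) : Set G)

theorem mem_chainStab {s : Finset (Subgroup G)} {g : G} :
    g ∈ chainStab s ↔ ∀ Q ∈ s, g ∈ Subgroup.normalizer (Q : Set G) := by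
  simp [chainStab, Subgroup.mem_iInf]

theorem chainStab_le {s : Finset (Subgroup G)} {Q : Subgroup G} (hQ : Q ∈ s) :
    chainStab s ≤ Subgroup.normalizer (Q : Set G) := fun _ hg => mem_chainStab.1 hg Q hQ

/-- A chain of nontrivial `p`-subgroups, possibly empty. -/
def IsPChain (s : Finset (Subgroup G)) : Prop :=
  (∀ Q ∈ s, ∀ R ∈ s, Q ≤ R ∨ R ≤ Q) ∧ ∀ Q ∈ s, Q ≠ ⊥ ∧ IsPGroup p Q

/-- Every member is normal in the largest one. -/
def IsNormalPChain (s : Finset (Subgroup G)) : Prop :=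
  ∀ Q ∈ s, s.sup id ≤ Subgroup.normalizer ((Q : Subgroup G) : Set G)

variable {p}

theorem IsPChain.of_insert {s s' : Finset (Subgroup G)} {T : Subgroup G} [DecidableEq (Subgroup G)]
    (h : IsPChain p s) (h2 : s' ⊆ insert T s) (hT0 : T ≠ ⊥) (hTp : IsPGroup p T)
    (hT : ∀ Q ∈ s, Q ≤ T ∨ T ≤ Q) : IsPChain p s' := by
  refine ⟨fun Q hQ R hR => ?_, fun Q hQ => ?_⟩
  · rcases Finset.mem_insert.1 (h2 hQ) with rfl | hQ' <;>
      rcases Finset.mem_insert.1 (h2 hR) with rfl | hR'
    · exact Or.inl le_rfl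
    · exact (hT R hR').symm
    · exact hT Q hQ'
    · exact h.1 Q hQ' R hR'
  · rcases Finset.mem_insert.1 (h2 hQ) with rfl | hQ'
    · exact ⟨hT0, hTp⟩
    · exact h.2 Q hQ'

open Classical in
/-- For a fixed element the chains it stabilizes cancel. -/
theorem sum_chains_of_mem {x : G} (hx : ∃ k : ℕ, orderOf x = p ^ k) (hx1 : x ≠ 1)
    (w : Subgroup G → ℤ) (S : Finset (Finset (Subgroup G)))
    (hS : ∀ s, s ∈ S ↔ IsPChain p s ∧ x ∈ chainStab s) :
    ∑ s ∈ S, (-1 : ℤ) ^ s.card *
      w (chainStab s ⊓ Subgroup.centralizer ({x} : Set G)) = 0 := by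
  set J : Finset (Subgroup G) → Subgroup G := fun s => (s.filter fun Q => x ∉ Q).sup id with hJ
  refine sum_toggle_eq_zero S (fun s => J s ⊔ Subgroup.zpowers x) _ fun s hs s' h1 h2 => ?_
  obtain ⟨hc, hxN⟩ := (hS s).1 hs
  set T : Subgroup G := J s ⊔ Subgroup.zpowers x with hT
  have hJmem : J s = ⊥ ∨ (J s ∈ s ∧ x ∉ J s) := by
    rcases sup_eq_bot_or_mem (s := s.filter fun Q => x ∉ Q)
      fun a ha b hb => hc.1 a (Finset.mem_filter.1 ha).1 b (Finset.mem_filter.1 hb).1 with e | e
    · exact Or.inl e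
    · exact Or.inr (Finset.mem_filter.1 e)
  have hxT : x ∈ T := (le_sup_right : _ ≤ T) (Subgroup.mem_zpowers x)
  have hT0 : T ≠ ⊥ := fun h => hx1 (by rwa [h, Subgroup.mem_bot] at hxT)
  have hzp : IsPGroup p (Subgroup.zpowers x) := by
    obtain ⟨k, hk⟩ := hx
    exact IsPGroup.of_card (by rw [Nat.card_zpowers, hk])
  have hJp : IsPGroup p (J s) ∧ x ∈ Subgroup.normalizer (J s : Set G) := by
    rcases hJmem with e | ⟨e, -⟩
    · rw [e]
      exact ⟨IsPGroup.of_bot, Subgroup.le_normalizer_of_normal (Subgroup.mem_top x)⟩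
    · exact ⟨(hc.2 _ e).2, chainStab_le e hxN⟩
  have hTp : IsPGroup p T := by
    rw [hT, sup_comm]
    exact IsPGroup.to_sup_of_normal_right' hzp hJp.1 (Subgroup.zpowers_le.2 hJp.2)
  have hcomp : ∀ Q ∈ s, (x ∈ Q → T ≤ Q) ∧ (x ∉ Q → Q ≤ T) := by
    refine fun Q hQ => ⟨fun hxQ => sup_le ?_ (Subgroup.zpowers_le.2 hxQ), fun hxQ => ?_⟩
    · refine Finset.sup_le fun R hR => ?_
      obtain ⟨hR, hxR⟩ := Finset.mem_filter.1 hR
      rcases hc.1 Q hQ R hR with e | e
      · exact absurd (e hxQ) hxR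
      · exact e
    · exact le_trans (Finset.le_sup (f := id) (Finset.mem_filter.2 ⟨hQ, hxQ⟩)) le_sup_left
  have hc' : IsPChain p s' := hc.of_insert h2 hT0 hTp fun Q hQ =>
    (Classical.em (x ∈ Q)).elim (fun h => Or.inr ((hcomp Q hQ).1 h)) fun h => Or.inl ((hcomp Q hQ).2 h)
  have hfil : (s'.filter fun Q => x ∉ Q) = s.filter fun Q => x ∉ Q := by
    ext Q
    simp only [Finset.mem_filter]
    constructor
    · rintro ⟨hQ, hxQ⟩
      rcases Finset.mem_insert.1 (h2 hQ) with rfl | hQ'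
      · exact absurd hxT hxQ
      · exact ⟨hQ', hxQ⟩
    · rintro ⟨hQ, hxQ⟩
      exact ⟨h1 (Finset.mem_erase.2 ⟨fun h => hxQ (h ▸ hxT), hQ⟩), hxQ⟩
  have hcx : Subgroup.centralizer ({x} : Set G) ≤
      Subgroup.normalizer (Subgroup.zpowers x : Set G) := by
    rw [Subgroup.zpowers_eq_closure]
    refine le_trans ?_ (Subgroup.centralizer_le_normalizer _)
    rw [Subgroup.centralizer_closure]
  have key : ∀ t : Finset (Subgroup G), (∀ Q ∈ s, x ∉ Q → Q ∈ t) →
      chainStab t ⊓ Subgroup.centralizer ({x} : Set G) ≤ Subgroup.normalizer (T : Set G) := by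
    intro t ht
    refine le_trans (le_inf ?_ (inf_le_right.trans hcx))
      (Subgroup.normalizer_inf_normalizer_le_normalizer_sup _ _)
    rcases hJmem with e | ⟨e, hxJ⟩
    · rw [e]
      exact Subgroup.le_normalizer_of_normal
    · exact inf_le_left.trans (chainStab_le (ht _ e hxJ))
  have hN : chainStab s' ⊓ Subgroup.centralizer ({x} : Set G) =
      chainStab s ⊓ Subgroup.centralizer ({x} : Set G) := by
    refine le_antisymm (fun g hg => ?_) fun g hg => ?_
    · refine Subgroup.mem_inf.2 ⟨mem_chainStab.2 fun Q hQ => ?_, (Subgroup.mem_inf.1 hg).2⟩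
      by_cases e : Q = T
      · subst e
        refine key s' (fun R hR hxR => h1 (Finset.mem_erase.2 ⟨fun h => hxR (h ▸ hxT), hR⟩)) hg
      · exact mem_chainStab.1 (Subgroup.mem_inf.1 hg).1 Q (h1 (Finset.mem_erase.2 ⟨e, hQ⟩))
    · refine Subgroup.mem_inf.2 ⟨mem_chainStab.2 fun Q hQ => ?_, (Subgroup.mem_inf.1 hg).2⟩
      rcases Finset.mem_insert.1 (h2 hQ) with rfl | hQ'
      · exact key s (fun R hR _ => hR) hg
      · exact mem_chainStab.1 (Subgroup.mem_inf.1 hg).1 Q hQ'
  refine ⟨(hS s').2 ⟨hc', mem_chainStab.2 fun Q hQ => ?_⟩, ?_, congrArg w hN⟩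
  · rcases Finset.mem_insert.1 (h2 hQ) with rfl | hQ'
    · exact Subgroup.le_normalizer hxT
    · exact mem_chainStab.1 hxN Q hQ'
  · show J s' ⊔ _ = J s ⊔ _
    simp only [hJ, hfil]

open Classical in
/-- The chains with a member not normal in the largest one cancel. -/
theorem sum_chains_not_normal (W : Subgroup G → ℤ) (S : Finset (Finset (Subgroup G)))
    (hS : ∀ s, s ∈ S ↔ IsPChain p s ∧ ¬ IsNormalPChain s) :
    ∑ s ∈ S, (-1 : ℤ) ^ s.card * W (chainStab s) = 0 := by
  set Fi : Finset (Subgroup G) → Finset (Subgroup G) := fun s =>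
    s.filter fun Q => ¬ s.sup id ≤ Subgroup.normalizer (Q : Set G) with hFi
  set Fj : Finset (Subgroup G) → Finset (Subgroup G) := fun s =>
    s.filter fun Q => ¬ Q ≤ Subgroup.normalizer (((Fi s).inf id : Subgroup G) : Set G) with hFj
  refine sum_toggle_eq_zero S
    (fun s => (Fj s).inf id ⊓ Subgroup.normalizer (((Fi s).inf id : Subgroup G) : Set G)) _
    fun s hs s' h1 h2 => ?_
  obtain ⟨hc, hnn⟩ := (hS s).1 hs
  set R : Subgroup G := s.sup id with hR
  set Qi : Subgroup G := (Fi s).inf id with hQi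
  set Qj : Subgroup G := (Fj s).inf id with hQj
  set T : Subgroup G := Qj ⊓ Subgroup.normalizer (Qi : Set G) with hT
  have hne : (Fi s).Nonempty := by
    obtain ⟨Q, hQ, hQR⟩ : ∃ Q ∈ s, ¬ R ≤ Subgroup.normalizer (Q : Set G) := by
      by_contra hcon
      push Not at hcon
      exact hnn hcon
    exact ⟨Q, Finset.mem_filter.2 ⟨hQ, hQR⟩⟩
  obtain ⟨hQis, hQiR⟩ : Qi ∈ s ∧ ¬ R ≤ Subgroup.normalizer (Qi : Set G) :=
    Finset.mem_filter.1 (inf_mem_of_nonempty
      (fun a ha b hb => hc.1 a (Finset.mem_filter.1 ha).1 b (Finset.mem_filter.1 hb).1) hne)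
  have hRs : R ∈ s := sup_mem_of_nonempty hc.1 ⟨Qi, hQis⟩
  have hle : ∀ Q ∈ s, Q ≤ R := fun Q hQ => Finset.le_sup (f := id) hQ
  have hne' : (Fj s).Nonempty := ⟨R, Finset.mem_filter.2 ⟨hRs, hQiR⟩⟩
  obtain ⟨hQjs, hQjN⟩ : Qj ∈ s ∧ ¬ Qj ≤ Subgroup.normalizer (Qi : Set G) :=
    Finset.mem_filter.1 (inf_mem_of_nonempty
      (fun a ha b hb => hc.1 a (Finset.mem_filter.1 ha).1 b (Finset.mem_filter.1 hb).1) hne')
  have hij : Qi < Qj := by
    rcases hc.1 Qi hQis Qj hQjs with e | e
    · exact lt_of_le_of_ne e fun h => hQjN (h ▸ Subgroup.le_normalizer)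
    · exact absurd (e.trans Subgroup.le_normalizer) hQjN
  have hiT : Qi < T := lt_inf_normalizer (hc.2 _ hQjs).2 hij
  have hTj : T < Qj := lt_of_le_of_ne inf_le_left fun h => hQjN (h ▸ inf_le_right)
  have hTN : T ≤ Subgroup.normalizer (Qi : Set G) := inf_le_right
  have hcomp : ∀ Q ∈ s, Q ≤ T ∨ T ≤ Q := by
    intro Q hQ
    by_cases hq : Q ≤ Subgroup.normalizer (Qi : Set G)
    · rcases hc.1 Q hQ Qj hQjs with e | e
      · exact Or.inl (le_inf e hq)
      · exact absurd (e.trans hq) hQjN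
    · exact Or.inr (hTj.le.trans (Finset.inf_le (f := id) (Finset.mem_filter.2 ⟨hQ, hq⟩)))
  have hT0 : T ≠ ⊥ := fun h => not_lt_bot (h ▸ hiT)
  have hc' : IsPChain p s' := hc.of_insert h2 hT0 ((hc.2 _ hQjs).2.to_le hTj.le) hcomp
  have hmem : ∀ Q ∈ s, Q ≠ T → Q ∈ s' := fun Q hQ h => h1 (Finset.mem_erase.2 ⟨h, hQ⟩)
  have hiS : Qi ∈ s' := hmem _ hQis hiT.ne
  have hjS : Qj ∈ s' := hmem _ hQjs hTj.ne'
  have hRS : R ∈ s' := hmem _ hRs (lt_of_lt_of_le hTj (hle _ hQjs)).ne'
  have hR' : s'.sup id = R := by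
    refine le_antisymm (Finset.sup_le fun Q hQ => ?_) (Finset.le_sup (f := id) hRS)
    rcases Finset.mem_insert.1 (h2 hQ) with rfl | hQ'
    · exact hTj.le.trans (hle _ hQjs)
    · exact hle _ hQ'
  have hQi' : (Fi s').inf id = Qi := by
    refine le_antisymm (Finset.inf_le (f := id) (Finset.mem_filter.2 ⟨hiS, by rwa [hR']⟩))
      (Finset.le_inf fun Q hQ => ?_)
    obtain ⟨hQ, hq⟩ := Finset.mem_filter.1 hQ
    rw [hR'] at hq
    rcases Finset.mem_insert.1 (h2 hQ) with rfl | hQ'
    · exact hiT.le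
    · exact Finset.inf_le (f := id) (Finset.mem_filter.2 ⟨hQ', hq⟩)
  have hQj' : (Fj s').inf id = Qj := by
    refine le_antisymm (Finset.inf_le (f := id) (Finset.mem_filter.2 ⟨hjS, by rwa [hQi']⟩))
      (Finset.le_inf fun Q hQ => ?_)
    obtain ⟨hQ, hq⟩ := Finset.mem_filter.1 hQ
    rw [hQi'] at hq
    rcases Finset.mem_insert.1 (h2 hQ) with rfl | hQ'
    · exact absurd hTN hq
    · exact Finset.inf_le (f := id) (Finset.mem_filter.2 ⟨hQ', hq⟩)
  have key : ∀ t : Finset (Subgroup G), Qi ∈ t → Qj ∈ t →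
      chainStab t ≤ Subgroup.normalizer (T : Set G) := fun t hi hj =>
    le_trans (le_inf (chainStab_le hj) ((chainStab_le hi).trans Subgroup.le_normalizer))
      Subgroup.inf_normalizer_le_normalizer_inf
  have hN : chainStab s' = chainStab s := by
    refine le_antisymm (fun g hg => mem_chainStab.2 fun Q hQ => ?_)
      fun g hg => mem_chainStab.2 fun Q hQ => ?_
    · by_cases e : Q = T
      · subst e
        exact key s' hiS hjS hg
      · exact mem_chainStab.1 hg Q (hmem Q hQ e)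
    · rcases Finset.mem_insert.1 (h2 hQ) with rfl | hQ'
      · exact key s hQis hQjs hg
      · exact mem_chainStab.1 hg Q hQ'
  refine ⟨(hS s').2 ⟨hc', fun h => hQiR ?_⟩, ?_, congrArg W hN⟩
  · simpa [hR'] using h Qi hiS
  · show (Fj s').inf id ⊓ Subgroup.normalizer (((Fi s').inf id : Subgroup G) : Set G) = T
    rw [hQi', hQj']

open Classical in
include hM in
/-- The alternating sum over normal chains of the characters less the rank. -/
theorem sum_normal_chains {b : Set (IrrCharacter G)} (hb : IsPBlock M b)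
    (S : Finset (Finset (Subgroup G)))
    (hS : ∀ s, s ∈ S ↔ s.Nonempty ∧ IsPChain p s ∧ IsNormalPChain s) :
    (Nat.card G : ℤ) * ((Nat.card b : ℤ) - (blockRank p b : ℤ)) =
      ∑ s ∈ S, (-1 : ℤ) ^ (s.card - 1) * (Nat.card (chainStab s) : ℤ) *
        ((Nat.card (indSet M (chainStab s) b) : ℤ) -
          (blockRank p (indSet M (chainStab s) b) : ℤ)) := by
  set X := Finset.univ.filter fun x : G => (∃ k : ℕ, orderOf x = p ^ k) ∧ x ≠ 1 with hX
  set w : Subgroup G → ℤ := fun K => (Nat.card K : ℤ) * (blockRank p (indSet M K b) : ℤ) with hw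
  set W : Subgroup G → ℤ := fun H => ∑ x ∈ X,
    if x ∈ H then w (H ⊓ Subgroup.centralizer ({x} : Set G)) else 0 with hW
  have hWH : ∀ H : Subgroup G, (Nat.card H : ℤ) *
      ((Nat.card (indSet M H b) : ℤ) - (blockRank p (indSet M H b) : ℤ)) = W H := by
    intro H
    apply Int.cast_injective (α := ℂ)
    simp only [hW, hw, ← Finset.sum_filter, Int.cast_sum]
    push_cast
    rw [card_mul_card_indSet_sub_rank hM b H]
    refine Finset.sum_congr ?_ fun _ _ => rfl
    ext x
    simp [hX, and_assoc]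
  have hG : (Nat.card G : ℤ) * ((Nat.card b : ℤ) - (blockRank p b : ℤ)) = W ⊤ := by
    apply Int.cast_injective (α := ℂ)
    simp only [hW, hw, Subgroup.mem_top, if_true, Int.cast_sum]
    push_cast
    rw [card_mul_card_sub_rank hM hb]
    refine Finset.sum_congr rfl fun x _ => ?_
    rw [top_inf_eq]
  have : Fintype (Subgroup G) := Fintype.ofFinite _
  set Ch := (Finset.univ : Finset (Finset (Subgroup G))).filter fun s => IsPChain p s with hCh
  have htot : ∑ s ∈ Ch, (-1 : ℤ) ^ s.card * W (chainStab s) = 0 := by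
    simp only [hW, Finset.mul_sum]
    rw [Finset.sum_comm]
    refine Finset.sum_eq_zero fun x hx => ?_
    simp only [mul_ite, mul_zero, ← Finset.sum_filter]
    simp only [hX, Finset.mem_filter, Finset.mem_univ, true_and] at hx
    obtain ⟨hk, h1⟩ := hx
    exact sum_chains_of_mem hk h1 w _ fun s => by simp [hCh]
  have hnn : ∑ s ∈ Ch.filter (fun s => ¬ IsNormalPChain s),
      (-1 : ℤ) ^ s.card * W (chainStab s) = 0 :=
    sum_chains_not_normal (p := p) W _ fun s => by simp [hCh]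
  rw [← Finset.sum_filter_add_sum_filter_not Ch (fun s => IsNormalPChain s), hnn, add_zero]
    at htot
  have hins : Ch.filter (fun s => IsNormalPChain s) = insert ∅ S := by
    ext s
    simp only [Finset.mem_filter, Finset.mem_insert, hS, hCh, Finset.mem_univ, true_and]
    rcases s.eq_empty_or_nonempty with rfl | h
    · simp [IsPChain, IsNormalPChain]
    · simp [h, h.ne_empty]
  rw [hins, Finset.sum_insert fun h => Finset.not_nonempty_empty ((hS ∅).1 h).1,
    Finset.card_empty, pow_zero, one_mul] at htot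
  have h0 : chainStab (∅ : Finset (Subgroup G)) = ⊤ := by simp [chainStab]
  rw [h0] at htot
  rw [hG, eq_neg_of_add_eq_zero_left htot, ← Finset.sum_neg_distrib]
  refine Finset.sum_congr rfl fun s hs => ?_
  rw [mul_assoc, hWH]
  obtain ⟨n, hn⟩ : ∃ n, s.card = n + 1 :=
    ⟨s.card - 1, (Nat.sub_add_cancel (Finset.card_pos.2 ((hS s).1 hs).1)).symm⟩
  rw [hn, Nat.add_sub_cancel, pow_succ]
  ring

end Chains

end Cfsg.Lib.Block
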