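import Cfsg.Agent.Lib.Block.Defect
import Cfsg.Agent.Lib.Block.BrauerHom
import Mathlib.LinearAlgebra.Matrix.Rank

/-!
# Blocks of given defect and the classes that separate them
-/

set_option autoImplicit false
set_option linter.unusedSectionVars false
set_option maxHeartbeats 800000

namespace Cfsg.Lib.Block

open Cfsg

universe u

variable {p : ℕ} {M : Ideal AlgInt} {G : Type u} [Group G] [Fintype G] [Fact p.Prime]

theorem cenCard_eq_of_mk_eq {g h : G} (e : ConjClasses.mk g = ConjClasses.mk h) :
    cenCard g = cenCard h := by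
  obtain ⟨c, hc⟩ := isConj_iff.1 (ConjClasses.mk_eq_mk_iff_isConj.1 e)
  have h1 : (Subgroup.centralizer ({c * g * c⁻¹} : Set G)) =
      (Subgroup.centralizer ({g} : Set G)).map (MulAut.conj c).toMonoidHom := by
    ext x
    simp only [Subgroup.mem_centralizer_iff, Set.mem_singleton_iff, forall_eq, Subgroup.mem_map,
      MulEquiv.coe_toMonoidHom, MulAut.conj_apply]
    refine ⟨fun hx => ⟨c⁻¹ * x * c, ?_, by group⟩, fun ⟨y, hy, e⟩ => ?_⟩
    · calc g * (c⁻¹ * x * c) = c⁻¹ * (c * g * c⁻¹ * x) * c := by group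
        _ = c⁻¹ * (x * (c * g * c⁻¹)) * c := by rw [hx]
        _ = c⁻¹ * x * c * g := by group
    · rw [← e]
      calc c * g * c⁻¹ * (c * y * c⁻¹) = c * (g * y) * c⁻¹ := by group
        _ = c * (y * g) * c⁻¹ := by rw [hy]
        _ = _ := by group
  rw [← hc]
  simp only [cenCard]
  rw [h1, Subgroup.card_map_of_injective (MulAut.conj c).injective]

theorem isPRegular_iff_of_mk_eq {g h : G} (e : ConjClasses.mk g = ConjClasses.mk h) :
    p ∣ orderOf g ↔ p ∣ orderOf h := by
  obtain ⟨c, hc⟩ := isConj_iff.1 (ConjClasses.mk_eq_mk_iff_isConj.1 e)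
  rw [← hc, show orderOf (c * g * c⁻¹) = orderOf g from (MulAut.conj c).orderOf_eq g]

open Classical in
/-- Expansion of a block's indicator over the classes carrying it. -/
theorem indVec_sub_sum_mem (hM : IsPModular p M) [Fintype (ConjClasses G)]
    {B : Set (IrrCharacter G)} (hB : IsPBlock M B) (T : Finset (ConjClasses G))
    (χ : IrrCharacter G)
    (hT : ∀ g : G, ConjClasses.mk g ∉ T →
      MemLocalIdeal M (blockCoeff B g * centralChar (χ : G → ℂ) g)) :
    MemLocalIdeal M ((if χ ∈ B then 1 else 0) -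
      ∑ C ∈ T, blockCoeff B C.out * centralChar (χ : G → ℂ) C.out) := by
  have h1 : (if χ ∈ B then 1 else 0 : ℂ) =
      ∑ C : ConjClasses G, blockCoeff B C.out * centralChar (χ : G → ℂ) C.out := by
    rw [← sum_mul_char_eq (fun g x => blockCoeff_conj_invariant B g x)]
    have : blockCoeff B = zc (indVec B) := funext fun g => (zc_indVec B g).symm
    rw [this, vec_zc]; rfl
  rw [h1, ← Finset.sum_sdiff (Finset.subset_univ T), add_sub_cancel_right]
  refine memLocalIdeal_sum hM _ _ fun C hC => hT _ ?_
  rw [show ConjClasses.mk C.out = C from Quotient.out_eq C]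
  exact (Finset.mem_sdiff.1 hC).2

/-- Blocks are at most as many as the classes separating them. -/
theorem card_blocks_le (hM : IsPModular p M) (P : Set (IrrCharacter G) → Prop)
    (Q : ConjClasses G → Prop) (hP : ∀ B, P B → IsPBlock M B)
    (hT : ∀ B B', P B → P B' → ∀ χ ∈ B', ∀ g : G, ¬ Q (ConjClasses.mk g) →
      MemLocalIdeal M (blockCoeff B g * centralChar (χ : G → ℂ) g)) :
    Nat.card {B : Set (IrrCharacter G) // P B} ≤ Nat.card {C : ConjClasses G // Q C} := by
  classical
  haveI : Finite (ConjClasses G) := Quotient.finite _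
  haveI := Fintype.ofFinite (ConjClasses G)
  haveI := Fintype.ofFinite {B : Set (IrrCharacter G) // P B}
  set k := resField hM
  choose rep hrep using fun B : {B : Set (IrrCharacter G) // P B} =>
    nonempty_of_isPBlock hM (hP B.1 B.2)
  let W : Matrix {B : Set (IrrCharacter G) // P B} {C : ConjClasses G // Q C} (resField hM) :=
    Matrix.of fun B C => res hM (centralChar (rep B : G → ℂ) C.1.out)
  let F : Matrix {C : ConjClasses G // Q C} {B : Set (IrrCharacter G) // P B} (resField hM) :=
    Matrix.of fun C B => res hM (blockCoeff B.1 C.1.out)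
  have hcoeff : ∀ B : {B : Set (IrrCharacter G) // P B}, ∀ g, blockCoeff B.1 g ∈ locRing hM :=
    fun B g => zc_indVec B.1 g ▸ vInt_indVec hM (hP B.1 B.2) g
  have hWF : W * F = 1 := by
    ext B' B
    have h := indVec_sub_sum_mem hM (hP B.1 B.2) (Finset.univ.filter Q) (rep B') fun g hg =>
      hT B.1 B'.1 B.2 B'.2 _ (hrep B') g fun h => hg (Finset.mem_filter.2 ⟨Finset.mem_univ _, h⟩)
    have hmem : ∀ C : ConjClasses G,
        blockCoeff B.1 C.out * centralChar (rep B' : G → ℂ) C.out ∈ locRing hM := fun C =>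
      mul_mem (hcoeff B _) (centralChar_mem_locRing hM _ _)
    have hite : (if rep B' ∈ B.1 then 1 else 0 : ℂ) ∈ locRing hM := by
      split_ifs
      exacts [(locRing hM).one_mem, (locRing hM).zero_mem]
    rw [← res_eq_iff hM hite (sum_mem fun C _ => hmem C), res_sum hM _ _ fun C _ => hmem C] at h
    rw [Matrix.mul_apply, Finset.sum_subtype (Finset.univ.filter Q) (p := Q) (by simp)] at *
    rw [show (∑ C : {C : ConjClasses G // Q C}, W B' C * F C B) = ∑ C : {C : ConjClasses G // Q C},
        res hM (blockCoeff B.1 C.1.out * centralChar (rep B' : G → ℂ) C.1.out) from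
      Finset.sum_congr rfl fun C _ => by
        rw [res_mul hM (hcoeff B _) (centralChar_mem_locRing hM _ _)]
        exact mul_comm _ _, ← h, Matrix.one_apply]
    by_cases e : B' = B
    · subst e
      rw [if_pos rfl, if_pos (hrep B'), res_one]
    · rw [if_neg e, if_neg, res_zero]
      exact fun hmem => e (Subtype.ext
        (isPBlock_eq_of_mem hM (hP B'.1 B'.2) (hP B.1 B.2) (hrep B') hmem))
  have h1 := congrArg Matrix.rank hWF
  rw [Matrix.rank_one] at h1
  rw [Nat.card_eq_fintype_card, Nat.card_eq_fintype_card, ← h1]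
  exact (Matrix.rank_mul_le_left W F).trans (Matrix.rank_le_card_width W)

/-- Off the regular classes of the common defect, products of coefficient and central character
vanish modulo `M`. -/
theorem coeff_mul_mem (hM : IsPModular p M) {B B' : Set (IrrCharacter G)} (hB : IsPBlock M B)
    (hB' : IsPBlock M B') {χ : IrrCharacter G} (hχ : χ ∈ B') {g : G}
    (h : p ∣ orderOf g ∨ blockDefect p B < (cenCard g).factorization p ∨
      (cenCard g).factorization p < blockDefect p B') :
    MemLocalIdeal M (blockCoeff B g * centralChar (χ : G → ℂ) g) := by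
  have hI := vInt_indVec hM hB
  rcases h with h | h | h
  · rw [blockCoeff_eq_zero_of_dvd hM hI h, zero_mul]
    exact memLocalIdeal_zero hM
  · exact memLocalIdeal_mul_right hM (blockCoeff_mem_ideal_of_lt hM hB h)
      (centralChar_mem_locRing hM χ g)
  · exact memLocalIdeal_mul_left hM (zc_indVec B g ▸ hI g)
      (centralChar_mem_ideal_of_lt hM hB' hχ h)

theorem card_blocks_defect_ge (hM : IsPModular p M) (d : ℕ) :
    Nat.card {B : Set (IrrCharacter G) // IsPBlock M B ∧ d ≤ blockDefect p B} ≤
      Nat.card {C : ConjClasses G // ∃ g : G, ConjClasses.mk g = C ∧ ¬ p ∣ orderOf g ∧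
        d ≤ (cenCard g).factorization p} := by
  refine card_blocks_le hM _ _ (fun B h => h.1) fun B B' hB hB' χ hχ g hg =>
    coeff_mul_mem hM hB.1 hB'.1 hχ ?_
  by_contra hcon
  simp only [not_or, not_lt] at hcon
  exact hg ⟨g, rfl, hcon.1, hB'.2.trans hcon.2.2⟩

theorem card_blocks_defect_eq (hM : IsPModular p M) (d : ℕ) :
    Nat.card {B : Set (IrrCharacter G) // IsPBlock M B ∧ blockDefect p B = d} ≤
      Nat.card {C : ConjClasses G // ∃ g : G, ConjClasses.mk g = C ∧ ¬ p ∣ orderOf g ∧
        (cenCard g).factorization p = d} := by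
  refine card_blocks_le hM _ _ (fun B h => h.1) fun B B' hB hB' χ hχ g hg =>
    coeff_mul_mem hM hB.1 hB'.1 hχ ?_
  by_contra hcon
  simp only [not_or, not_lt] at hcon
  exact hg ⟨g, rfl, hcon.1, le_antisymm (hB.2 ▸ hcon.2.1) (hB'.2 ▸ hcon.2.2)⟩

/-- Central characters on the regular classes of defect `d` separate the blocks of defect `d`. -/
theorem sameBlock_iff_defect_classes (hM : IsPModular p M) {d : ℕ} {χ ψ : IrrCharacter G}
    (hχ : blockDefect p (blockOf M (χ : G → ℂ)) = d)
    (hψ : blockDefect p (blockOf M (ψ : G → ℂ)) = d) :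
    SameBlock M (χ : G → ℂ) (ψ : G → ℂ) ↔ ∀ x : G, ¬ p ∣ orderOf x →
      (cenCard x).factorization p = d →
        MemLocalIdeal M (centralChar (χ : G → ℂ) x - centralChar (ψ : G → ℂ) x) := by
  classical
  refine ⟨fun h x _ _ => h x, fun h => ?_⟩
  haveI : Finite (ConjClasses G) := Quotient.finite _
  haveI := Fintype.ofFinite (ConjClasses G)
  set B := blockOf M (χ : G → ℂ) with hB
  set T := Finset.univ.filter fun C : ConjClasses G =>
    ¬ p ∣ orderOf C.out ∧ (cenCard C.out).factorization p = d with hT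
  have key : ∀ η : IrrCharacter G, blockDefect p (blockOf M (η : G → ℂ)) = d →
      MemLocalIdeal M ((if η ∈ B then 1 else 0) -
        ∑ C ∈ T, blockCoeff B C.out * centralChar (η : G → ℂ) C.out) := fun η hη =>
    indVec_sub_sum_mem hM (isPBlock_blockOf χ) T η fun g hg => by
      refine coeff_mul_mem hM (isPBlock_blockOf χ) (isPBlock_blockOf η) (self_mem_blockOf hM η) ?_
      by_contra hcon
      simp only [not_or, not_lt] at hcon
      refine hg (Finset.mem_filter.2 ⟨Finset.mem_univ _, ?_⟩)
      have e : ConjClasses.mk (ConjClasses.mk g).out = ConjClasses.mk g := Quotient.out_eq _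
      rw [isPRegular_iff_of_mk_eq e, cenCard_eq_of_mk_eq e]
      exact ⟨hcon.1, le_antisymm (hχ ▸ hcon.2.1) (hη ▸ hcon.2.2)⟩
  have h1 := key χ hχ
  have h2 := key ψ hψ
  rw [if_pos (show χ ∈ B from self_mem_blockOf hM χ)] at h1
  have hdiff : MemLocalIdeal M (∑ C ∈ T, blockCoeff B C.out * centralChar (χ : G → ℂ) C.out -
      ∑ C ∈ T, blockCoeff B C.out * centralChar (ψ : G → ℂ) C.out) := by
    rw [← Finset.sum_sub_distrib]
    refine memLocalIdeal_sum hM _ _ fun C hC => ?_
    rw [← mul_sub]
    exact memLocalIdeal_mul_left hM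
      (zc_indVec B C.out ▸ vInt_indVec hM (isPBlock_blockOf χ) C.out)
      (h _ (Finset.mem_filter.1 hC).2.1 (Finset.mem_filter.1 hC).2.2)
  have h3 := memLocalIdeal_add hM h1 hdiff
  by_contra hcon
  rw [if_neg (show ψ ∉ B from hcon), zero_sub] at h2
  have h4 := memLocalIdeal_sub hM h3 h2
  refine not_memLocalIdeal_one hM ?_
  convert h4 using 1
  ring

end Cfsg.Lib.Block
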