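import Mathlib

/-!
# The rank of a matrix under a change of fields
-/

set_option autoImplicit false

namespace Cfsg.Lib.Block

universe u v w w'

open Matrix

/-- A homomorphism of fields keeps the rank of matrices. -/
theorem rank_map_ringHom {K : Type u} {L : Type v} [Field K] [Field L] (f : K →+* L)
    {m : Type w} {n : Type w'} [Fintype m] [Fintype n] [DecidableEq m] [DecidableEq n]
    (A : Matrix m n K) : (A.map f).rank = A.rank := by
  classical
  set r := Module.finrank K (LinearMap.range A.mulVecLin) with hr
  let b := Module.finBasisOfFinrankEq K (LinearMap.range A.mulVecLin) hr.symm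
  let U : Matrix m (Fin r) K := Matrix.of fun i j => (b j : m → K) i
  let V : Matrix (Fin r) n K := Matrix.of fun j c =>
    b.repr ⟨A.mulVecLin (Pi.single c 1), LinearMap.mem_range_self _ _⟩ j
  have hUV : A = U * V := by
    ext i c
    have h := congrFun (congrArg Subtype.val
      (b.sum_repr ⟨A.mulVecLin (Pi.single c 1), LinearMap.mem_range_self _ _⟩)) i
    simp only [AddSubmonoidClass.coe_finset_sum, Finset.sum_apply, SetLike.val_smul,
      Pi.smul_apply, smul_eq_mul, Matrix.mulVecLin_apply, Matrix.mulVec_single_one] at h
    rw [Matrix.mul_apply]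
    refine h.symm.trans (Finset.sum_congr rfl fun j _ => ?_)
    simp [U, V, mul_comm]
  have hUi : Function.Injective U.mulVecLin := by
    intro v v' h
    have e : ∀ z : Fin r → K, U.mulVecLin z = (∑ j, z j • b j : LinearMap.range A.mulVecLin) := by
      intro z
      funext i
      simp only [U, Matrix.mulVecLin_apply, Matrix.mulVec, dotProduct, Matrix.of_apply,
        AddSubmonoidClass.coe_finset_sum, Finset.sum_apply, SetLike.val_smul, Pi.smul_apply,
        smul_eq_mul]
      exact Finset.sum_congr rfl fun j _ => mul_comm _ _
    rw [e, e] at h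
    funext j
    have h2 := congrArg (fun x => b.repr x j) (Subtype.ext h)
    simpa [Finsupp.single_apply] using h2
  obtain ⟨g, hg⟩ := LinearMap.exists_leftInverse_of_injective _ (LinearMap.ker_eq_bot.2 hUi)
  have hpre : ∀ j, ∃ y : n → K, A.mulVecLin y = (b j : m → K) := fun j => (b j).2
  choose y hy using hpre
  set X : Matrix (Fin r) m K := LinearMap.toMatrix' g with hX
  set Y : Matrix n (Fin r) K := Matrix.of fun c j => y j c with hY
  have hAY : A * Y = U := by
    ext i j
    exact congrFun (hy j) i
  have hXU : X * U = 1 := by
    rw [hX, ← LinearMap.toMatrix'_toLin' U, ← LinearMap.toMatrix'_comp, Matrix.toLin'_apply', hg,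
      LinearMap.toMatrix'_id]
  have hXAY : X * A * Y = 1 := by rw [Matrix.mul_assoc, hAY, hXU]
  show (A.map f).rank = r
  refine le_antisymm ?_ ?_
  · rw [hUV, Matrix.map_mul]
    exact (Matrix.rank_mul_le_left _ _).trans
      ((Matrix.rank_le_card_width _).trans (le_of_eq (Fintype.card_fin r)))
  · have h := congrArg (fun Z : Matrix (Fin r) (Fin r) K => Z.map f) hXAY
    simp only [Matrix.map_mul, Matrix.map_one f (map_zero f) (map_one f)] at h
    calc r = ((X.map f) * (A.map f) * (Y.map f)).rank := by
          rw [h, Matrix.rank_one, Fintype.card_fin]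
      _ ≤ (A.map f).rank := (Matrix.rank_mul_le_left _ _).trans (Matrix.rank_mul_le_right _ _)

end Cfsg.Lib.Block
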