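import Cfsg.Agent.Lib.Block.Supp
import Cfsg.Agent.Lib.Block.Defect
import Cfsg.Agent.Lib.Block.RankMap

/-!
# Blocks with a given defect group from a matrix of class intersections

For classes whose centralizers have the Sylow subgroup `D`, the numbers of pairs `(y, z)` with
`z y⁻¹` in a fixed Sylow subgroup are, modulo `p`, a weighted sum over the blocks with defect group
`D` of products of central characters.
-/

set_option autoImplicit false
set_option linter.unusedSectionVars false
set_option maxHeartbeats 800000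

namespace Cfsg.Lib.Block

open Cfsg
open scoped ComplexConjugate
open Matrix

universe u v

variable {p : ℕ} [hp : Fact p.Prime] {M : Ideal AlgInt} {G : Type u} [Group G] [Fintype G]

/-- The blocks with defect group `D`. -/
abbrev DefBlock (p : ℕ) (M : Ideal AlgInt) {G : Type u} [Group G] (D : Subgroup G) :=
  {B : Set (IrrCharacter G) // IsPBlock M B ∧ IsDefectGroup p M B D}

/-- The number of pairs of conjugates with quotient in `S`. -/
noncomputable def pairCount (S : Subgroup G) (g h : G) : ℕ :=
  Nat.card {yz : G × G // IsConj g yz.1 ∧ IsConj h yz.2 ∧ yz.2 * yz.1⁻¹ ∈ S}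

/-- A chosen member of a block. -/
noncomputable def rep (hM : IsPModular p M) {D : Subgroup G} (B : DefBlock p M D) : IrrCharacter G :=
  (nonempty_of_isPBlock hM B.2.1).some

theorem rep_mem (hM : IsPModular p M) {D : Subgroup G} (B : DefBlock p M D) :
    rep hM B ∈ B.1 := (nonempty_of_isPBlock hM B.2.1).some_mem

/-- The reduced central character. -/
noncomputable def omega (hM : IsPModular p M) {D : Subgroup G} (B : DefBlock p M D) (g : G) :
    resField hM :=
  res hM (centralChar (rep hM B : G → ℂ) g)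

open Classical in
/-- The weight of a block. -/
noncomputable def blockWeight (hM : IsPModular p M) {D : Subgroup G} (B : DefBlock p M D) (k : ℕ) :
    resField hM :=
  res hM ((∑ χ ∈ B.1.toFinset, charDegree (χ : G → ℂ) ^ 2 : ℕ) /
    ((Nat.card G * p ^ k : ℕ) : ℂ))

include hp in
/-- The count as a sum over characters. -/
theorem pairCount_eq_sum (S : Subgroup G) (g h : G) :
    (pairCount S g h : ℂ) = (Nat.card G : ℂ)⁻¹ * ∑ χ : IrrCharacter G,
      centralChar (χ : G → ℂ) h * centralChar (χ : G → ℂ) g⁻¹ * (χ : G → ℂ) 1 *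
        (∑ᶠ w : S, (χ : G → ℂ) w) := by
  classical
  haveI := Fintype.ofFinite S
  set v : IrrCharacter G → ℂ := fun χ => centralChar (χ : G → ℂ) h with hv
  set w : IrrCharacter G → ℂ := fun χ => centralChar (χ : G → ℂ) g⁻¹ with hw
  have h1 : ∑ s : S, zc (v * w) (s : G)⁻¹ = (Nat.card G : ℂ)⁻¹ * ∑ χ : IrrCharacter G,
      centralChar (χ : G → ℂ) h * centralChar (χ : G → ℂ) g⁻¹ * (χ : G → ℂ) 1 *
        (∑ᶠ w : S, (χ : G → ℂ) w) := by
    simp only [zc, inv_inv, Pi.mul_apply, hv, hw, finsum_eq_sum_of_fintype, ← Finset.mul_sum]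
    rw [Finset.sum_comm]
    simp only [← Finset.mul_sum]
  have h2 : ∀ x : G, zc (v * w) x = ∑ z : G,
      if IsConj h z ∧ IsConj g⁻¹ (z⁻¹ * x) then (1 : ℂ) else 0 := fun x => by
    rw [zc_mul]
    refine Finset.sum_congr rfl fun z _ => ?_
    rw [hv, hw, zc_centralChar, zc_centralChar, ite_and]
    split_ifs <;> simp
  rw [← h1, Finset.sum_congr rfl fun s _ => h2 _]
  rw [← Fintype.sum_prod_type' (f := fun (s : S) (z : G) =>
    if IsConj h z ∧ IsConj g⁻¹ (z⁻¹ * (s : G)⁻¹) then (1 : ℂ) else 0),
    ← Finset.sum_filter, Finset.sum_const, nsmul_eq_mul, mul_one]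
  congr 1
  rw [pairCount, ← Fintype.card_subtype, ← Nat.card_eq_fintype_card]
  have hinv : ∀ a b : G, IsConj a b → IsConj a⁻¹ b⁻¹ := fun a b hab => by
    obtain ⟨c, hc⟩ := isConj_iff.1 hab
    exact isConj_iff.2 ⟨c, by rw [← hc]; group⟩
  refine Nat.card_congr
    { toFun := fun yz => ⟨(⟨(yz.1.2 * yz.1.1⁻¹)⁻¹, S.inv_mem yz.2.2.2⟩, yz.1.2), yz.2.2.1, by
        show IsConj g⁻¹ (yz.1.2⁻¹ * ((yz.1.2 * yz.1.1⁻¹)⁻¹)⁻¹)
        rw [inv_inv, inv_mul_cancel_left]
        exact hinv _ _ yz.2.1⟩
      invFun := fun sz => ⟨((sz.1.1 : G) * sz.1.2, sz.1.2), by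
        have := hinv _ _ sz.2.2
        simpa using this, sz.2.1, by
        show sz.1.2 * ((sz.1.1 : G) * sz.1.2)⁻¹ ∈ S
        simp⟩
      left_inv := fun yz => Subtype.ext (Prod.ext (by simp) rfl)
      right_inv := fun sz => Subtype.ext (Prod.ext (Subtype.ext (by simp)) rfl) }

include hp in
/-- A non-vanishing central character forces the defect group. -/
theorem isDefectGroup_of_centralChar (hM : IsPModular p M) {B : Set (IrrCharacter G)}
    (hB : IsPBlock M B) {D : Subgroup G} {x : G}
    (hD : ∃ P : Sylow p (Subgroup.centralizer ({x} : Set G)), cenSyl x P = D)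
    (hd : blockDefect p B = (cenCard x).factorization p) {χ : IrrCharacter G} (hχ : χ ∈ B)
    (hne : ¬ MemLocalIdeal M (centralChar (χ : G → ℂ) x)) : IsDefectGroup p M B D := by
  obtain ⟨P, rfl⟩ := hD
  obtain ⟨E, hE⟩ := exists_defectGroup hM hB
  obtain ⟨y, hy⟩ := exists_conj_le_of_centralChar hM hB hE hχ hne P
  have h := Subgroup.eq_of_le_of_card_ge hy (le_of_eq ?_)
  · exact h ▸ isDefectGroup_conj hM hB hE y
  · rw [Subgroup.card_map_of_injective (MulAut.conj y).injective, card_defectGroup hM hB hE, hd,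
      cenSyl, Subgroup.card_map_of_injective (Subgroup.subtype_injective _),
      P.card_eq_multiplicity]
    rfl

include hp in
/-- The class counts modulo `p`. -/
theorem pairCount_congr (hM : IsPModular p M) (S : Sylow p G) {D : Subgroup G}
    [Fintype (DefBlock p M D)] {g h : G}
    (hg : ∃ P : Sylow p (Subgroup.centralizer ({g} : Set G)), cenSyl g P = D)
    (hh : ∃ P : Sylow p (Subgroup.centralizer ({h} : Set G)), cenSyl h P = D) {k : ℕ}
    (hk : k + (Nat.card D).factorization p = (Nat.card G).factorization p) :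
    (pairCount (S : Subgroup G) g h : ℂ) / ((p ^ k : ℕ) : ℂ) ∈ locRing hM ∧
      res hM ((pairCount (S : Subgroup G) g h : ℂ) / ((p ^ k : ℕ) : ℂ)) =
        ∑ B : DefBlock p M D, omega hM B g⁻¹ * blockWeight hM B k * omega hM B h := by
  classical
  have hcen : ∀ x : G, (∃ P : Sylow p (Subgroup.centralizer ({x} : Set G)), cenSyl x P = D) →
      (cenCard x).factorization p = (Nat.card D).factorization p := by
    rintro x ⟨P, rfl⟩
    rw [cenSyl, Subgroup.card_map_of_injective (Subgroup.subtype_injective _),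
      P.card_eq_multiplicity, hp.out.factorization_pow, Finsupp.single_eq_same]
    rfl
  have hg' : ∃ P : Sylow p (Subgroup.centralizer ({g⁻¹} : Set G)), cenSyl g⁻¹ P = D := by
    have e : Subgroup.centralizer ({g⁻¹} : Set G) = Subgroup.centralizer ({g} : Set G) := by
      ext z
      simp only [Subgroup.mem_centralizer_iff, Set.mem_singleton_iff, forall_eq]
      exact ⟨fun hz => (Commute.inv_left_iff.1 (hz : Commute g⁻¹ z)).eq,
        fun hz => (Commute.inv_left_iff.2 (hz : Commute g z)).eq⟩
    have aux : ∀ U V : Subgroup G, U = V →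
        (∃ P : Sylow p U, (P : Subgroup U).map U.subtype = D) →
          ∃ P : Sylow p V, (P : Subgroup V).map V.subtype = D := by
      rintro U V rfl h
      exact h
    exact aux _ _ e.symm hg
  choose m hm using fun χ : IrrCharacter G => exists_restrict_mult χ (S : Subgroup G)
  set c : ℕ := p ^ k with hc
  have hS : Nat.card (S : Subgroup G) = p ^ (Nat.card G).factorization p := S.card_eq_multiplicity
  have hpk : c.factorization p = k := by
    rw [hc, hp.out.factorization_pow, Finsupp.single_eq_same]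
  -- the weight of a character
  set a : IrrCharacter G → ℕ := fun χ => charDegree (χ : G → ℂ) *
    (Nat.card (S : Subgroup G) * m χ) with ha
  have hterm : (pairCount (S : Subgroup G) g h : ℂ) / (c : ℂ) = ∑ χ : IrrCharacter G,
      centralChar (χ : G → ℂ) g⁻¹ * centralChar (χ : G → ℂ) h *
        ((a χ : ℂ) / ((Nat.card G * c : ℕ) : ℂ)) := by
    rw [pairCount_eq_sum (p := p), Finset.mul_sum, Finset.sum_div]
    refine Finset.sum_congr rfl fun χ _ => ?_
    rw [hm χ, apply_one_eq_charDegree χ, ha]
    push_cast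
    ring
  have hGc : Nat.card G * c ≠ 0 :=
    Nat.mul_ne_zero Nat.card_pos.ne' (pow_ne_zero k hp.out.ne_zero)
  have hGcf : (Nat.card G * c).factorization p = (Nat.card G).factorization p + k := by
    rw [Nat.factorization_mul Nat.card_pos.ne' (pow_ne_zero k hp.out.ne_zero), Finsupp.add_apply,
      hpk]
  have haf : ∀ χ, a χ = 0 ∨ (charDegree (χ : G → ℂ)).factorization p +
      (Nat.card G).factorization p ≤ (a χ).factorization p := by
    intro χ
    rcases Nat.eq_zero_or_pos (m χ) with h0 | h0
    · exact Or.inl (by simp [ha, h0])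
    · right
      rw [ha]
      simp only
      rw [Nat.factorization_mul (charDegree_pos χ).ne'
        (Nat.mul_ne_zero Nat.card_pos.ne' h0.ne'), Finsupp.add_apply,
        Nat.factorization_mul Nat.card_pos.ne' h0.ne', Finsupp.add_apply, hS,
        hp.out.factorization_pow, Finsupp.single_eq_same]
      omega
  -- a block as seen by one of its characters
  have hdeg : ∀ χ : IrrCharacter G, (Nat.card G).factorization p ≤
      blockDefect p (blockOf M (χ : G → ℂ)) + (charDegree (χ : G → ℂ)).factorization p := by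
    intro χ
    have h1 := minVal_le (p := p) (self_mem_blockOf hM χ)
    have h2 := blockDefect_add_minVal (p := p) (nonempty_of_isPBlock hM (isPBlock_blockOf χ))
    omega
  have hint : ∀ χ : IrrCharacter G, MemLocalIdeal M (centralChar (χ : G → ℂ) g⁻¹ *
        centralChar (χ : G → ℂ) h * ((a χ : ℂ) / ((Nat.card G * c : ℕ) : ℂ))) ∨
      (IsDefectGroup p M (blockOf M (χ : G → ℂ)) D ∧
        (a χ : ℂ) / ((Nat.card G * c : ℕ) : ℂ) ∈ locRing hM) := by
    intro χ
    have hb := isPBlock_blockOf (M := M) χ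
    rcases lt_trichotomy (blockDefect p (blockOf M (χ : G → ℂ))) ((Nat.card D).factorization p)
      with hlt | heq | hgt
    · left
      refine memLocalIdeal_mul_left hM (Subring.mul_mem _ (centralChar_mem_locRing hM χ _)
        (centralChar_mem_locRing hM χ _)) (natCast_div_mem_ideal hM hGc ?_)
      rcases haf χ with h0 | h0
      · exact Or.inl h0
      · exact Or.inr (by rw [hGcf]; have := hdeg χ; omega)
    · have hmem : (a χ : ℂ) / ((Nat.card G * c : ℕ) : ℂ) ∈ locRing hM := by
        refine natCast_div_mem hM hGc ?_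
        rcases haf χ with h0 | h0
        · exact Or.inl h0
        · exact Or.inr (by rw [hGcf]; have := hdeg χ; omega)
      by_cases hne : MemLocalIdeal M (centralChar (χ : G → ℂ) h)
      · left
        exact memLocalIdeal_mul_right hM (memLocalIdeal_mul_left hM
          (centralChar_mem_locRing hM χ _) hne) hmem
      · exact Or.inr ⟨isDefectGroup_of_centralChar hM hb hh (by rw [hcen h hh, heq])
          (self_mem_blockOf hM χ) hne, hmem⟩
    · left
      have hω := centralChar_mem_ideal_of_lt hM hb (self_mem_blockOf hM χ)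
        (g := g⁻¹) (by rw [hcen _ hg']; exact hgt)
      have hcd : charDegree (χ : G → ℂ) * cenCard h ≠ 0 :=
        Nat.mul_ne_zero (charDegree_pos χ).ne' (cenCard_pos h).ne'
      have e : centralChar (χ : G → ℂ) g⁻¹ * centralChar (χ : G → ℂ) h *
          ((a χ : ℂ) / ((Nat.card G * c : ℕ) : ℂ)) =
          centralChar (χ : G → ℂ) g⁻¹ * ((χ : G → ℂ) h *
            (((Nat.card (S : Subgroup G) * m χ : ℕ) : ℂ) / ((cenCard h * c : ℕ) : ℂ))) := by
        rw [charVal_eq χ h, ha]
        have h1 : ((cenCard h : ℕ) : ℂ) ≠ 0 := by exact_mod_cast (cenCard_pos h).ne'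
        have h2 : (c : ℂ) ≠ 0 := by exact_mod_cast pow_ne_zero k hp.out.ne_zero
        push_cast
        field_simp
      rw [e]
      refine memLocalIdeal_mul_right hM hω (Subring.mul_mem _ (charVal_mem_locRing hM χ h) ?_)
      refine natCast_div_mem hM
        (Nat.mul_ne_zero (cenCard_pos h).ne' (pow_ne_zero k hp.out.ne_zero)) ?_
      rcases Nat.eq_zero_or_pos (m χ) with h0 | h0
      · exact Or.inl (by simp [h0])
      · right
        rw [Nat.factorization_mul (cenCard_pos h).ne' (pow_ne_zero k hp.out.ne_zero),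
          Nat.factorization_mul Nat.card_pos.ne' h0.ne', Finsupp.add_apply, Finsupp.add_apply,
          hpk, hcen h hh, hS, hp.out.factorization_pow, Finsupp.single_eq_same]
        omega
  have hloc : ∀ χ : IrrCharacter G, centralChar (χ : G → ℂ) g⁻¹ *
      centralChar (χ : G → ℂ) h * ((a χ : ℂ) / ((Nat.card G * c : ℕ) : ℂ)) ∈ locRing hM :=
    fun χ => (hint χ).elim (memLocRing_of_memLocalIdeal hM) fun h' =>
      Subring.mul_mem _ (Subring.mul_mem _ (centralChar_mem_locRing hM χ _)
        (centralChar_mem_locRing hM χ _)) h'.2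
  rw [hterm]
  refine ⟨Subring.sum_mem _ fun χ _ => hloc χ, ?_⟩
  rw [res_sum hM _ _ fun χ _ => hloc χ,
    ← Finset.sum_subset (Finset.subset_univ
      ((Finset.univ : Finset (DefBlock p M D)).biUnion fun B => B.1.toFinset)) fun χ _ hn => by
        rcases hint χ with h' | h'
        · exact (res_eq_zero_iff hM (hloc χ)).2 h'
        · exact absurd (Finset.mem_biUnion.2
            ⟨(⟨blockOf M (χ : G → ℂ), isPBlock_blockOf χ, h'.1⟩ : DefBlock p M D),
              Finset.mem_univ _, Set.mem_toFinset.2 (self_mem_blockOf hM χ)⟩) hn,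
    Finset.sum_biUnion fun B₁ _ B₂ _ hne => Finset.disjoint_left.2 fun χ h1 h2 => hne
      (Subtype.ext (isPBlock_eq_of_mem hM B₁.2.1 B₂.2.1 (Set.mem_toFinset.1 h1)
        (Set.mem_toFinset.1 h2)))]
  refine Finset.sum_congr rfl fun B _ => ?_
  have hBd : blockDefect p B.1 = (Nat.card D).factorization p := by
    rw [card_defectGroup hM B.2.1 B.2.2, hp.out.factorization_pow, Finsupp.single_eq_same]
  have hmemB : ∀ χ ∈ B.1, (a χ : ℂ) / ((Nat.card G * c : ℕ) : ℂ) ∈ locRing hM := by
    intro χ hχ
    refine natCast_div_mem hM hGc ?_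
    rcases haf χ with h0 | h0
    · exact Or.inl h0
    · refine Or.inr ?_
      rw [hGcf]
      have h1 := minVal_le (p := p) hχ
      have h2 := blockDefect_add_minVal (p := p) (nonempty_of_isPBlock hM B.2.1)
      omega
  have hstep : ∀ χ ∈ B.1, res hM (centralChar (χ : G → ℂ) g⁻¹ *
      centralChar (χ : G → ℂ) h * ((a χ : ℂ) / ((Nat.card G * c : ℕ) : ℂ))) =
      omega hM B g⁻¹ * omega hM B h * res hM ((a χ : ℂ) / ((Nat.card G * c : ℕ) : ℂ)) := by
    intro χ hχ
    rw [res_mul hM (Subring.mul_mem _ (centralChar_mem_locRing hM χ _)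
      (centralChar_mem_locRing hM χ _)) (hmemB χ hχ), res_mul hM (centralChar_mem_locRing hM χ _)
      (centralChar_mem_locRing hM χ _)]
    have hs := sameBlock_of_mem hM B.2.1 hχ (rep_mem hM B)
    rw [omega, omega, res_apply_eq hM (vInt_centralChar hM g⁻¹) hs,
      res_apply_eq hM (vInt_centralChar hM h) hs]
  rw [Finset.sum_congr rfl fun χ hχ => hstep χ (Set.mem_toFinset.1 hχ), ← Finset.mul_sum,
    ← res_sum hM _ _ fun χ hχ => hmemB χ (Set.mem_toFinset.1 hχ), ← Finset.sum_div,
    mul_right_comm]
  congr 2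
  rw [blockWeight]
  congr 1
  congr 1
  -- the singular elements do not contribute
  have key : ∀ s : G, ∑ χ ∈ B.1.toFinset, (χ : G → ℂ) 1 * conj ((χ : G → ℂ) s) =
      (Nat.card G : ℂ) * blockCoeff B.1 s := by
    intro s
    rw [blockCoeff, finsum_mem_eq_toFinset_sum, ← mul_assoc,
      mul_inv_cancel₀ Char.card_cast_ne_zero, one_mul]
  have e1 : ∀ χ : IrrCharacter G, (a χ : ℂ) =
      ∑ s : (S : Subgroup G), (χ : G → ℂ) 1 * conj ((χ : G → ℂ) s) := fun χ => by
    rw [← Finset.mul_sum, ← map_sum, ← finsum_eq_sum_of_fintype, hm χ, ha, map_mul,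
      Complex.conj_natCast, Complex.conj_natCast, apply_one_eq_charDegree χ]
    push_cast
    ring
  rw [Finset.sum_congr rfl fun χ _ => e1 χ, Finset.sum_comm]
  simp only [key]
  rw [Finset.sum_eq_single (1 : (S : Subgroup G))]
  · rw [OneMemClass.coe_one, ← key 1, Nat.cast_sum]
    refine Finset.sum_congr rfl fun χ _ => ?_
    rw [conj_apply_one, apply_one_eq_charDegree, Nat.cast_pow, sq]
  · intro s _ hs
    rw [blockCoeff_eq_zero_of_dvd hM (vInt_indVec hM B.2.1)
      (dvd_orderOf_of_mem_pgroup S.2 s.2 fun h => hs (Subtype.ext h)), mul_zero]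
  · simp

include hp in
open Classical in
theorem blockWeight_ne_zero (hM : IsPModular p M) {D : Subgroup G} (B : DefBlock p M D) {k : ℕ}
    (hk : k + (Nat.card D).factorization p = (Nat.card G).factorization p) :
    blockWeight hM B k ≠ 0 := by
  have hBd : blockDefect p B.1 = (Nat.card D).factorization p := by
    rw [card_defectGroup hM B.2.1 B.2.2, hp.out.factorization_pow, Finsupp.single_eq_same]
  have hf := factorization_sum_sq hM B.2.1
  set A := ∑ χ ∈ B.1.toFinset, charDegree (χ : G → ℂ) ^ 2 with hA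
  have hA0 : A ≠ 0 := fun h => by
    obtain ⟨χ, hχ⟩ := nonempty_of_isPBlock hM B.2.1
    exact (charDegree_pos χ).ne'
      (by simpa using (Finset.sum_eq_zero_iff.1 h) χ (Set.mem_toFinset.2 hχ))
  have hb : Nat.card G * p ^ k ≠ 0 :=
    Nat.mul_ne_zero Nat.card_pos.ne' (pow_ne_zero k hp.out.ne_zero)
  have hbf : (Nat.card G * p ^ k).factorization p = (Nat.card G).factorization p + k := by
    rw [Nat.factorization_mul Nat.card_pos.ne' (pow_ne_zero k hp.out.ne_zero), Finsupp.add_apply,
      hp.out.factorization_pow, Finsupp.single_eq_same]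
  have hAf : A.factorization p = (Nat.card G * p ^ k).factorization p := by
    rw [hbf]; omega
  rw [blockWeight, Ne, res_eq_zero_iff hM (natCast_div_mem hM hb (Or.inr hAf.ge))]
  exact natCast_div_not_ideal hM hA0 hb hAf

end Cfsg.Lib.Block
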