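import Cfsg.Agent.Lib.Block.BrauerPairs

/-!
# Conjugation of Brauer pairs
-/

set_option autoImplicit false
set_option linter.unusedSectionVars false
set_option maxHeartbeats 400000

namespace Cfsg.Lib.Block

open Cfsg
open scoped ComplexConjugate

universe u

noncomputable local instance (priority := high) fintypeSubgroupPairConj {G : Type u} [Group G]
    [Fintype G] (H : Subgroup G) : Fintype H := Fintype.ofFinite H

local notation "C[" Q "]" => Subgroup.centralizer (SetLike.coe Q)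

variable {p : ℕ} {M : Ideal AlgInt} {G : Type u} [Group G] [Fintype G] [Fact p.Prime]
  (hM : IsPModular p M)

/-- Conjugation on the indices of Brauer pairs. -/
def conjIdx (x : G) (a : BrauerPairIdx G) : BrauerPairIdx G :=
  ⟨a.1.map (MulAut.conj x).toMonoidHom, conjBlock a.1 x a.2⟩

theorem conjIdx_eq {Q Q' : Subgroup G} {x : G} (h : Q.map (MulAut.conj x).toMonoidHom = Q')
    (f : Set (IrrCharacter C[Q])) :
    conjIdx x ⟨Q, f⟩ = ⟨Q', conjSet (conjMaps_centralizer h) f⟩ := by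
  subst h
  exact Sigma.ext rfl (heq_of_eq (conjBlock_eq Q x f))

theorem map_conj_eq_self {Q : Subgroup G} {x : G} (hx : x ∈ Subgroup.normalizer (Q : Set G)) :
    Q.map (MulAut.conj x).toMonoidHom = Q := by
  ext a
  simp only [Subgroup.mem_map, MulEquiv.coe_toMonoidHom, MulAut.conj_apply]
  constructor
  · rintro ⟨b, hb, rfl⟩
    exact (Subgroup.mem_normalizer_iff.1 hx b).1 hb
  · intro ha
    refine ⟨x⁻¹ * a * x, ?_, by group⟩
    rw [Subgroup.mem_normalizer_iff.1 hx]
    rwa [show x * (x⁻¹ * a * x) * x⁻¹ = a by group]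

theorem map_conj_one (Q : Subgroup G) : Q.map (MulAut.conj (1 : G)).toMonoidHom = Q :=
  map_conj_eq_self (one_mem _)

theorem conjIdx_one (a : BrauerPairIdx G) : conjIdx 1 a = a := by
  obtain ⟨Q, f⟩ := a
  rw [conjIdx_eq (map_conj_one Q)]
  exact Sigma.ext rfl (heq_of_eq (conjSet_of_mem _ (one_mem _) f))

theorem conjIdx_mul (x y : G) (a : BrauerPairIdx G) :
    conjIdx y (conjIdx x a) = conjIdx (y * x) a := by
  obtain ⟨Q, f⟩ := a
  rw [conjIdx_eq (rfl : Q.map (MulAut.conj x).toMonoidHom = _), conjIdx_eq rfl,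
    conjIdx_eq (map_conj_map_conj Q x y).symm]
  exact Sigma.ext rfl (heq_of_eq (conjSet_mul _ _ f))

theorem extF_conjSet {x : G} {K K' : Subgroup G} (h : ConjMaps x K K')
    (f : Set (IrrCharacter K)) (g : G) :
    extF K' (indVec (conjSet h f)) (x * g * x⁻¹) = extF K (indVec f) g := by
  rw [extF_indVec, extF_indVec, subgroupBlockCoeff_conjSet]

theorem vec_conjIso {x : G} {K K' : Subgroup G} (h : ConjMaps x K K') {F : K → ℂ} {F' : K' → ℂ}
    (hF : ∀ k : K, F' (conjIso h k) = F k) (ξ : IrrCharacter K') :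
    vec F' ξ = vec F (compIrr (conjIso h) ξ) := by
  simp only [vec, compIrr_apply, map_one]
  congr 1
  exact (Fintype.sum_equiv (conjIso h).toEquiv _ _ fun k => by simp [hF]).symm

theorem trV_conj {x : G} {E E' K K' : Subgroup G} (hE : ConjMaps x E E') (h : ConjMaps x K K')
    (f : Set (IrrCharacter K)) (ξ : IrrCharacter E') :
    trV E' K' (indVec (conjSet h f)) ξ = trV E K (indVec f) (compIrr (conjIso hE) ξ) :=
  vec_conjIso hE (fun k => extF_conjSet h f (k : G)) ξ

theorem brU_conj {x : G} {P P' : Subgroup G} (h : P.map (MulAut.conj x).toMonoidHom = P')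
    (B : Set (IrrCharacter G)) (ξ : IrrCharacter C[P']) :
    brU P' B ξ = brU P B (compIrr (conjIso (conjMaps_centralizer h)) ξ) := by
  refine vec_conjIso (conjMaps_centralizer h) (fun k => ?_) ξ
  rw [brF_of_mem k.2, brF_of_mem (conjIso (conjMaps_centralizer h) k).2, zc_indVec, zc_indVec]
  exact blockCoeff_conj_invariant B (k : G) x

theorem isBrauerPair_conj {x : G} {Q Q' : Subgroup G}
    (h : Q.map (MulAut.conj x).toMonoidHom = Q') {f : Set (IrrCharacter C[Q])}
    (hf : IsBrauerPair p M Q f) :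
    IsBrauerPair p M Q' (conjSet (conjMaps_centralizer h) f) :=
  ⟨h ▸ hf.1.map _, isPBlock_conjSet _ hf.2⟩

include hM in
theorem normalSubpairRel_conjIdx (x : G) {a b : BrauerPairIdx G}
    (h : NormalSubpairRel p M a b) : NormalSubpairRel p M (conjIdx x a) (conjIdx x b) := by
  obtain ⟨Q, f⟩ := a
  obtain ⟨P, e⟩ := b
  rw [conjIdx_eq (rfl : Q.map (MulAut.conj x).toMonoidHom = _),
    conjIdx_eq (rfl : P.map (MulAut.conj x).toMonoidHom = _)]
  obtain ⟨hQ, hP, hle, hN, hi, hs⟩ := (isNormalSubpair_iff hM).1 h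
  refine (isNormalSubpair_iff hM).2 ⟨isBrauerPair_conj rfl hQ, isBrauerPair_conj rfl hP,
    Subgroup.map_mono hle, ?_, ?_, ?_⟩
  · rintro _ ⟨y, hy, rfl⟩
    refine Subgroup.mem_normalizer_iff.2 fun a => ?_
    simp only [MulEquiv.coe_toMonoidHom, MulAut.conj_apply, Subgroup.mem_map]
    constructor
    · rintro ⟨q, hq, rfl⟩
      exact ⟨y * q * y⁻¹, (Subgroup.mem_normalizer_iff.1 (hN hy) q).1 hq, by group⟩
    · rintro ⟨q, hq, he⟩
      refine ⟨y⁻¹ * q * y, ?_, ?_⟩
      · rw [Subgroup.mem_normalizer_iff.1 (hN hy)]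
        rwa [show y * (y⁻¹ * q * y) * y⁻¹ = q by group]
      · calc x * (y⁻¹ * q * y) * x⁻¹ =
            (x * y * x⁻¹)⁻¹ * (x * q * x⁻¹) * (x * y * x⁻¹) := by group
          _ = a := by rw [he]; group
  · rintro _ ⟨y, hy, rfl⟩ g
    simp only [MulEquiv.coe_toMonoidHom, MulAut.conj_apply]
    obtain ⟨k, rfl⟩ : ∃ k, x * k * x⁻¹ = g := ⟨x⁻¹ * g * x, by group⟩
    rw [show x * y * x⁻¹ * (x * k * x⁻¹) * (x * y * x⁻¹)⁻¹ = x * (y * k * y⁻¹) * x⁻¹ by group,
      extF_conjSet, extF_conjSet, hi y hy k]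
  · intro ξ hξ
    rw [trV_conj (conjMaps_centralizer rfl)]
    exact hs _ hξ

include hM in
theorem rel_conjIdx (x : G) {a b : BrauerPairIdx G}
    (h : Relation.ReflTransGen (NormalSubpairRel p M) a b) :
    Relation.ReflTransGen (NormalSubpairRel p M) (conjIdx x a) (conjIdx x b) := by
  induction h with
  | refl => exact Relation.ReflTransGen.refl
  | tail _ hbc ih => exact ih.tail (normalSubpairRel_conjIdx hM x hbc)

include hM in
theorem isBrauerPairOf_conjIdx (x : G) {B : Set (IrrCharacter G)} {a : BrauerPairIdx G}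
    (h : IsBrauerPairOf p M B a.1 a.2) :
    IsBrauerPairOf p M B (conjIdx x a).1 (conjIdx x a).2 := by
  obtain ⟨P, e⟩ := a
  rw [conjIdx_eq (rfl : P.map (MulAut.conj x).toMonoidHom = _)]
  obtain ⟨hP, hB, hs⟩ := (isBrauerPairOf_iff_brU hM B P e).1 h
  refine (isBrauerPairOf_iff_brU hM B _ _).2 ⟨isBrauerPair_conj rfl hP, hB, fun ξ hξ => ?_⟩
  rw [brU_conj rfl]
  exact hs _ hξ

include hM in
theorem isBrauerPairOf_of_rel {B : Set (IrrCharacter G)} {a b : BrauerPairIdx G}
    (h : Relation.ReflTransGen (NormalSubpairRel p M) a b) :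
    IsBrauerPairOf p M B b.1 b.2 ↔ IsBrauerPairOf p M B a.1 a.2 :=
  isBrauerPairOf_iff_of_le hM h B

end Cfsg.Lib.Block
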