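import Cfsg.Agent.Lib.Block.ClassMatrix
import Cfsg.Agent.Lib.Core.Cores
import Cfsg.Agent.Lib.Block.PairConj

/-!
# Counting and separating blocks with a given defect group
-/

set_option autoImplicit false
set_option linter.unusedSectionVars false
set_option maxHeartbeats 800000

namespace Cfsg.Lib.Block

open Cfsg
open scoped ComplexConjugate
open Matrix

universe u v

variable {p : ℕ} [hp : Fact p.Prime] {M : Ideal AlgInt} {G : Type u} [Group G] [Fintype G]

include hp in
open Classical in
/-- Coefficients of idempotents invert central characters on a complete set of classes. -/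
theorem sum_coeff_omega (hM : IsPModular p M) {D : Subgroup G} [D.Normal] {ι : Type v} [Fintype ι]
    (y : ι → G) (hinj : ∀ i j, IsConj (y i) (y j) → i = j)
    (hcov : ∀ x : G, ¬ p ∣ orderOf x →
      (∃ P : Sylow p (Subgroup.centralizer ({x} : Set G)), cenSyl x P = D) → ∃ i, IsConj x (y i))
    (B B' : DefBlock p M D) :
    ∑ i, omega hM B (y i) * res hM (blockCoeff B'.1 (y i)) = if B = B' then 1 else 0 := by
  haveI : Finite (ConjClasses G) := Quotient.finite _
  haveI := Fintype.ofFinite (ConjClasses G)
  set χ := rep hM B with hχ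
  have hI : ∀ x : G, blockCoeff B'.1 x * centralChar (χ : G → ℂ) x ∈ locRing hM := fun x =>
    Subring.mul_mem _ (blockCoeff_mem_locRing hM B'.2.1 x) (centralChar_mem_locRing hM χ x)
  have h : indVec B'.1 χ =
      ∑ C : ConjClasses G, blockCoeff B'.1 C.out * centralChar (χ : G → ℂ) C.out := by
    rw [← congrFun (vec_zc (indVec B'.1)) χ,
      show zc (indVec B'.1) = blockCoeff B'.1 from funext (zc_indVec B'.1),
      sum_mul_char_eq (fun g x => blockCoeff_conj_invariant B'.1 g x)]
  have hrhs : res hM (indVec B'.1 χ) = if B = B' then 1 else 0 := by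
    rw [indVec]
    by_cases hb : B = B'
    · subst hb; rw [if_pos (rep_mem hM B), if_pos rfl, res_one]
    · rw [if_neg hb, if_neg fun hm => hb (Subtype.ext
        (isPBlock_eq_of_mem hM B.2.1 B'.2.1 (rep_mem hM B) hm)), res_zero]
  have hbc : ∀ a b : G, IsConj a b → blockCoeff B'.1 a = blockCoeff B'.1 b := fun a b hab => by
    rw [← zc_indVec, ← zc_indVec]; exact (zc_eq_of_isConj (indVec B'.1) hab).symm
  rw [← hrhs, h, res_sum hM Finset.univ
    (fun C : ConjClasses G => blockCoeff B'.1 C.out * centralChar (χ : G → ℂ) C.out)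
    fun C _ => hI _]
  refine Finset.sum_bij_ne_zero (fun i _ _ => ConjClasses.mk (y i)) (fun i _ _ => Finset.mem_univ _)
    (fun i _ _ j _ _ e => hinj i j (ConjClasses.mk_eq_mk_iff_isConj.1 e)) (fun C _ hne => ?_)
    fun i _ _ => ?_
  · have he : ¬ MemLocalIdeal M (blockCoeff B'.1 C.out) := fun h' => hne
      ((res_eq_zero_iff hM (hI _)).2
        (memLocalIdeal_mul_right hM h' (centralChar_mem_locRing hM χ _)))
    have hω : ¬ MemLocalIdeal M (centralChar (χ : G → ℂ) C.out) := fun h' => hne
      ((res_eq_zero_iff hM (hI _)).2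
        (memLocalIdeal_mul_left hM (blockCoeff_mem_locRing hM B'.2.1 _) h'))
    have hreg : ¬ p ∣ orderOf C.out := fun hd => he (by
      rw [blockCoeff_eq_zero_of_dvd hM (vInt_indVec hM B'.2.1) hd]; exact memLocalIdeal_zero hM)
    obtain ⟨P⟩ : Nonempty (Sylow p (Subgroup.centralizer ({C.out} : Set G))) := inferInstance
    obtain ⟨x, hx⟩ := exists_conj_le_of_centralChar hM B.2.1 B.2.2 (rep_mem hM B) hω P
    obtain ⟨z, hz⟩ := dClass_of_coeff hM B'.2.1 B'.2.2 he _ (isPGroup_cenSyl _ P) (cenSyl_le _ P)
    have hnorm : ∀ w : G, D.map (MulAut.conj w).toMonoidHom = D := fun w =>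
      map_conj_eq_self ((Subgroup.normalizer_eq_top_iff.2 inferInstance).ge (Subgroup.mem_top w))
    rw [hnorm] at hx
    have hcard : Nat.card (cenSyl C.out P) ≤ Nat.card D := by
      have := Subgroup.card_le_of_le hz
      rwa [Subgroup.card_map_of_injective (MulAut.conj z).injective] at this
    obtain ⟨i, hi⟩ := hcov C.out hreg ⟨P, (Subgroup.eq_of_le_of_card_ge hx hcard).symm⟩
    have hCi : ConjClasses.mk (y i) = C := by
      rw [← ConjClasses.mk_eq_mk_iff_isConj.2 hi]; exact Quotient.out_eq C
    refine ⟨i, Finset.mem_univ _, ?_, hCi⟩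
    rw [omega, ← res_mul hM (centralChar_mem_locRing hM _ _) (blockCoeff_mem_locRing hM B'.2.1 _),
      mul_comm]
    rw [centralChar_eq_of_isConj χ hi.symm, hbc _ _ hi] at hne
    exact hne
  · have hc : IsConj (y i) (ConjClasses.mk (y i)).out :=
      ConjClasses.mk_eq_mk_iff_isConj.1 (Quotient.out_eq _).symm
    rw [omega, ← res_mul hM (centralChar_mem_locRing hM _ _) (blockCoeff_mem_locRing hM B'.2.1 _),
      mul_comm (centralChar _ _), centralChar_eq_of_isConj χ hc,
      hbc _ _ hc]

include hp in
/-- The count of blocks with normal defect group `D` is the rank of the class matrix. -/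
theorem card_defBlock_eq_rank (hM : IsPModular p M) {D : Subgroup G} [D.Normal] (S : Sylow p G)
    {k : ℕ} (hk : k + (Nat.card D).factorization p = (Nat.card G).factorization p)
    {ι : Type v} [Fintype ι] [DecidableEq ι] (x : ι → G)
    (hinj : ∀ i j, IsConj (x i) (x j) → i = j)
    (hcen : ∀ i, ∃ P : Sylow p (Subgroup.centralizer ({x i} : Set G)), cenSyl (x i) P = D)
    (hcov : ∀ y : G, ¬ p ∣ orderOf y →
      (∃ P : Sylow p (Subgroup.centralizer ({y} : Set G)), cenSyl y P = D) → ∃ i, IsConj y (x i)) :
    Nat.card (DefBlock p M D) = (Matrix.of fun i j : ι =>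
      ((pairCount (S : Subgroup G) (x i) (x j) / p ^ k : ℕ) : ZMod p)).rank := by
  classical
  haveI : Fintype (DefBlock p M D) := Fintype.ofFinite _
  haveI := resField_charP hM
  set f : ZMod p →+* resField hM := ZMod.castHom dvd_rfl _ with hf
  rw [← rank_map_ringHom f]
  have hinv : ∀ a b : G, IsConj a b → IsConj a⁻¹ b⁻¹ := fun a b hab => by
    obtain ⟨c, hc⟩ := isConj_iff.1 hab
    exact isConj_iff.2 ⟨c, by rw [← hc]; group⟩
  set Ω : Matrix (DefBlock p M D) ι (resField hM) := Matrix.of fun B i => omega hM B (x i) with hΩ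
  set Ω' : Matrix (DefBlock p M D) ι (resField hM) :=
    Matrix.of fun B i => omega hM B (x i)⁻¹ with hΩ'
  set C : Matrix ι (DefBlock p M D) (resField hM) :=
    Matrix.of fun i B => res hM (blockCoeff B.1 (x i)) with hC
  set C' : Matrix ι (DefBlock p M D) (resField hM) :=
    Matrix.of fun i B => res hM (blockCoeff B.1 (x i)⁻¹) with hC'
  set Λ := Matrix.diagonal fun B : DefBlock p M D => blockWeight hM B k with hΛ
  have hdvd : ∀ i j, p ^ k ∣ pairCount (S : Subgroup G) (x i) (x j) := by
    intro i j
    have hmem := (pairCount_congr hM S (D := D) (hcen i) (hcen j) hk).1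
    by_contra hn
    have h0 : pairCount (S : Subgroup G) (x i) (x j) ≠ 0 := fun h => hn (h ▸ dvd_zero _)
    rw [hp.out.pow_dvd_iff_le_factorization h0, not_le] at hn
    set v := (pairCount (S : Subgroup G) (x i) (x j)).factorization p
    refine natCast_div_not_ideal hM h0 (pow_ne_zero v hp.out.ne_zero)
      (b := p ^ v) (by rw [hp.out.factorization_pow, Finsupp.single_eq_same]) ?_
    rw [show ((pairCount (S : Subgroup G) (x i) (x j) : ℕ) : ℂ) / ((p ^ v : ℕ) : ℂ) =
      (pairCount (S : Subgroup G) (x i) (x j) : ℂ) / ((p ^ k : ℕ) : ℂ) *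
        ((p ^ (k - v) : ℕ) : ℂ) by
      have hp0 : (p : ℂ) ≠ 0 := by exact_mod_cast hp.out.ne_zero
      push_cast
      rw [← Nat.sub_add_cancel hn.le, pow_add, Nat.sub_add_cancel hn.le]
      field_simp]
    exact memLocalIdeal_mul_left hM hmem
      ((memLocalIdeal_natCast_iff hM _).2 (dvd_pow_self p (by omega)))
  have hW : (Matrix.of fun i j : ι =>
      ((pairCount (S : Subgroup G) (x i) (x j) / p ^ k : ℕ) : ZMod p)).map f =
      Ω'ᵀ * Λ * Ω := by
    ext i j
    rw [Matrix.map_apply, Matrix.of_apply, map_natCast]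
    obtain ⟨-, h⟩ := pairCount_congr hM S (D := D) (hcen i) (hcen j) hk
    obtain ⟨q, hq⟩ := hdvd i j
    rw [hq, Nat.mul_div_cancel_left _ (pow_pos hp.out.pos k), ← res_natCast hM]
    rw [hq, Nat.cast_mul, mul_div_cancel_left₀ _
      (by exact_mod_cast pow_ne_zero k hp.out.ne_zero)] at h
    rw [h, Matrix.mul_apply]
    exact Finset.sum_congr rfl fun B _ => by
      simp only [hΛ, Matrix.mul_diagonal, Matrix.transpose_apply, hΩ, hΩ', Matrix.of_apply]
  have hΩC : Ω * C = 1 := by
    ext B B'
    rw [Matrix.mul_apply, Matrix.one_apply]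
    exact sum_coeff_omega hM x hinj hcov B B'
  have hΩC' : Ω' * C' = 1 := by
    ext B B'
    rw [Matrix.mul_apply, Matrix.one_apply]
    refine sum_coeff_omega hM (fun i => (x i)⁻¹) (fun i j h => hinj i j ?_) (fun y hy hP => ?_) B B'
    · simpa using hinv _ _ h
    · obtain ⟨P, hP⟩ := hP
      have e : Subgroup.centralizer ({y} : Set G) = Subgroup.centralizer ({y⁻¹} : Set G) := by
        ext z
        simp only [Subgroup.mem_centralizer_iff, Set.mem_singleton_iff, forall_eq]
        exact ⟨fun hz => (Commute.inv_left_iff.2 (hz : Commute y z)).eq,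
          fun hz => (Commute.inv_left_iff.1 (hz : Commute y⁻¹ z)).eq⟩
      have aux : ∀ U V : Subgroup G, U = V →
          (∃ P : Sylow p U, (P : Subgroup U).map U.subtype = D) →
            ∃ P : Sylow p V, (P : Subgroup V).map V.subtype = D := by
        rintro U V rfl h
        exact h
      obtain ⟨i, hi⟩ := hcov y⁻¹ (by rwa [orderOf_inv]) (aux _ _ e ⟨P, hP⟩)
      exact ⟨i, by simpa using hinv _ _ hi⟩
  rw [hW]
  refine le_antisymm ?_ ?_
  · have h : C'ᵀ * (Ω'ᵀ * Λ * Ω) * C = Λ := by
      rw [← Matrix.mul_assoc, ← Matrix.mul_assoc, ← Matrix.transpose_mul, hΩC',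
        Matrix.transpose_one, Matrix.one_mul, Matrix.mul_assoc, hΩC, Matrix.mul_one]
    have hr : Λ.rank = Fintype.card (DefBlock p M D) := by
      rw [hΛ, Matrix.rank_diagonal]
      exact Fintype.card_congr (Equiv.subtypeUnivEquiv fun B => blockWeight_ne_zero hM B hk)
    rw [Nat.card_eq_fintype_card, ← hr]
    calc Λ.rank = (C'ᵀ * (Ω'ᵀ * Λ * Ω) * C).rank := by rw [h]
      _ ≤ (Ω'ᵀ * Λ * Ω).rank :=
        (Matrix.rank_mul_le_left _ _).trans (Matrix.rank_mul_le_right _ _)
  · rw [Nat.card_eq_fintype_card]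
    exact (Matrix.rank_mul_le_right _ _).trans (Matrix.rank_le_card_height _)

include hp in
/-- Separated classes give as many blocks with independent character values. -/
theorem exists_blocks_of_separated (hM : IsPModular p M) (S : Sylow p G) {D : Subgroup G} {r : ℕ}
    (x : Fin r → G) (hinj : ∀ i j, IsConj (x i) (x j) → i = j)
    (hcen : ∀ i, ∃ P : Sylow p (Subgroup.centralizer ({x i} : Set G)), cenSyl (x i) P = D)
    (hsep : ∀ i j : Fin r, ∀ g h : G, IsConj (x i) g → IsConj (x j) h →
      ∀ k : ℕ, 0 < k → orderOf (g * h⁻¹) ≠ p ^ k) :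
    ∃ B : Fin r → Set (IrrCharacter G), Function.Injective B ∧
      (∀ i, IsPBlock M (B i) ∧ IsDefectGroup p M (B i) D) ∧
      ∀ χ : Fin r → IrrCharacter G, (∀ i, χ i ∈ B i ∧ blockHeight p (B i) (χ i : G → ℂ) = 0) →
        ¬ MemLocalIdeal M (Matrix.det (Matrix.of fun i j => (χ i : G → ℂ) (x j))) := by
  classical
  haveI : Fintype (DefBlock p M D) := Fintype.ofFinite _
  have hcd : ∀ i, (cenCard (x i)).factorization p = (Nat.card D).factorization p := by
    intro i
    obtain ⟨P, hP⟩ := hcen i
    rw [← hP, cenSyl, Subgroup.card_map_of_injective (Subgroup.subtype_injective _),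
      P.card_eq_multiplicity, hp.out.factorization_pow, Finsupp.single_eq_same]
    rfl
  set k := (Nat.card G).factorization p - (Nat.card D).factorization p with hkdef
  have hk : k + (Nat.card D).factorization p = (Nat.card G).factorization p := by
    have := (Nat.factorization_le_iff_dvd Nat.card_pos.ne' Nat.card_pos.ne').2
      (Subgroup.card_subgroup_dvd_card D) p
    omega
  -- the matrix is diagonal with unit entries
  have hcount : ∀ i j, pairCount (S : Subgroup G) (x i) (x j) =
      if i = j then (Subgroup.centralizer ({x j} : Set G)).index else 0 := by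
    intro i j
    have heq : ∀ y z : G, IsConj (x i) y → IsConj (x j) z → z * y⁻¹ ∈ (S : Subgroup G) → z = y := by
      intro y z hy hz hs
      obtain ⟨e, he⟩ := exists_orderOf_eq_pow_of_mem S.2 hs
      rcases Nat.eq_zero_or_pos e with rfl | he0
      · exact mul_inv_eq_one.1 (orderOf_eq_one_iff.1 (by simpa using he))
      · exact absurd he (hsep j i z y hz hy e he0)
    by_cases hij : i = j
    · subst hij
      rw [if_pos rfl, pairCount]
      rw [← Char.card_classFinset, ← Fintype.card_coe, ← Nat.card_eq_fintype_card]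
      exact Nat.card_congr
        { toFun := fun yz => ⟨yz.1.1, Char.mem_classFinset.2 yz.2.1⟩
          invFun := fun z => ⟨(z.1, z.1), Char.mem_classFinset.1 z.2, Char.mem_classFinset.1 z.2,
            by simp⟩
          left_inv := fun yz => Subtype.ext (Prod.ext rfl (heq _ _ yz.2.1 yz.2.2.1 yz.2.2.2).symm)
          right_inv := fun z => rfl }
    · rw [if_neg hij, pairCount, Nat.card_eq_zero]
      refine Or.inl ⟨fun yz => hij (hinj i j ?_)⟩
      have h := heq _ _ yz.2.1 yz.2.2.1 yz.2.2.2
      exact yz.2.1.trans (h ▸ yz.2.2.1.symm)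
  have hidx : ∀ j, (Subgroup.centralizer ({x j} : Set G)).index.factorization p = k := fun j => by
    have h1 : (Subgroup.centralizer ({x j} : Set G)).index.factorization p +
        (cenCard (x j)).factorization p = (Nat.card G).factorization p := by
      rw [← Finsupp.add_apply, ← Nat.factorization_mul Subgroup.index_ne_zero_of_finite
        (cenCard_pos _).ne', cenCard, Subgroup.index_mul_card]
    rw [hcd] at h1
    omega
  set w : Fin r → resField hM := fun j =>
    res hM (((Subgroup.centralizer ({x j} : Set G)).index : ℂ) / ((p ^ k : ℕ) : ℂ)) with hw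
  have hw0 : ∀ j, w j ≠ 0 := fun j => by
    have hpk : (p ^ k).factorization p = (Subgroup.centralizer ({x j} : Set G)).index.factorization p := by
      rw [hidx, hp.out.factorization_pow, Finsupp.single_eq_same]
    rw [hw, Ne, res_eq_zero_iff hM (natCast_div_mem hM (pow_ne_zero k hp.out.ne_zero)
      (Or.inr hpk.le))]
    exact natCast_div_not_ideal hM Subgroup.index_ne_zero_of_finite (pow_ne_zero k hp.out.ne_zero)
      hpk.symm
  set Ω : Matrix (DefBlock p M D) (Fin r) (resField hM) :=
    Matrix.of fun B i => omega hM B (x i) with hΩ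
  set Y : Matrix (Fin r) (DefBlock p M D) (resField hM) :=
    Matrix.of fun i B => omega hM B (x i)⁻¹ * blockWeight hM B k with hY
  have hYΩ : Y * Ω = Matrix.diagonal w := by
    ext i j
    rw [Matrix.mul_apply]
    obtain ⟨-, h⟩ := pairCount_congr hM S (D := D) (hcen i) (hcen j) hk
    simp only [hY, hΩ, Matrix.of_apply]
    rw [← h, hcount, Matrix.diagonal_apply]
    split_ifs with hij
    · subst hij; rfl
    · simp [res_zero]
  have hinj' : Function.Injective Ω.mulVec := by
    intro u v huv
    have h := congrArg Y.mulVec huv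
    rw [Matrix.mulVec_mulVec, Matrix.mulVec_mulVec, hYΩ] at h
    funext j
    have h2 := congrFun h j
    rw [Matrix.mulVec_diagonal, Matrix.mulVec_diagonal] at h2
    exact mul_left_cancel₀ (hw0 j) h2
  -- choose independent rows
  have hrank : Ω.rank = r := by
    rw [Matrix.rank, LinearMap.finrank_range_of_inj (f := Ω.mulVecLin) hinj',
      Module.finrank_fintype_fun_eq_card, Fintype.card_fin]
  obtain ⟨b, hb, hspan, hli⟩ := exists_linearIndependent (resField hM) (Set.range Ω.row)
  haveI := (hli.finite : Finite b)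
  haveI := Fintype.ofFinite b
  have hbr : Fintype.card b = r := by
    have h := finrank_span_eq_card hli
    rw [Subtype.range_coe_subtype, Set.setOf_mem_eq, hspan,
      ← Matrix.rank_eq_finrank_span_row, hrank] at h
    exact h.symm
  set e : Fin r ≃ b := (Fintype.equivFinOfCardEq hbr).symm with he
  have hpre : ∀ i, ∃ B : DefBlock p M D, Ω.row B = (e i : Fin r → resField hM) := fun i =>
    hb (e i).2
  choose Bf hBf using hpre
  have hBfi : Function.Injective Bf := fun i j h =>
    e.injective (Subtype.ext ((hBf i).symm.trans ((congrArg Ω.row h).trans (hBf j))))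
  refine ⟨fun i => (Bf i).1, Subtype.val_injective.comp hBfi, fun i => (Bf i).2, fun χ hχ => ?_⟩
  set A : Matrix (Fin r) (Fin r) (resField hM) := Ω.submatrix Bf id with hA
  have hAdet : A.det ≠ 0 := by
    have hli' : LinearIndependent (resField hM) A.row := by
      have e1 : A.row = fun i => (e i : Fin r → resField hM) := funext fun i => hBf i
      rw [e1]
      exact hli.comp e e.injective
    exact ((Matrix.isUnit_iff_isUnit_det A).1
      (Matrix.linearIndependent_rows_iff_isUnit.1 hli')).ne_zero
  -- pass to character values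
  set u : Fin r → ℂ := fun i => (charDegree (χ i : G → ℂ) : ℂ) / ((p ^ k : ℕ) : ℂ) with hu
  set t : Fin r → ℂ := fun j => ((cenCard (x j) * p ^ k : ℕ) : ℂ) / (Nat.card G : ℕ) with ht
  have hdegk : ∀ i, (p ^ k).factorization p = (charDegree (χ i : G → ℂ)).factorization p := by
    intro i
    have h1 : (charDegree (χ i : G → ℂ)).factorization p = minVal p (Bf i).1 :=
      (blockHeight_eq_zero_iff (hχ i).1).1 (hχ i).2
    have h2 := blockDefect_add_minVal (p := p) (nonempty_of_isPBlock hM (Bf i).2.1)
    rw [card_defectGroup hM (Bf i).2.1 (Bf i).2.2, hp.out.factorization_pow,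
      Finsupp.single_eq_same] at hk
    rw [hp.out.factorization_pow, Finsupp.single_eq_same, h1]
    omega
  have htk : ∀ j, (cenCard (x j) * p ^ k).factorization p = (Nat.card G).factorization p := by
    intro j
    rw [Nat.factorization_mul (cenCard_pos _).ne' (pow_ne_zero k hp.out.ne_zero),
      Finsupp.add_apply, hcd, hp.out.factorization_pow, Finsupp.single_eq_same]
    omega
  have hum : ∀ i, u i ∈ locRing hM := fun i =>
    natCast_div_mem hM (pow_ne_zero k hp.out.ne_zero) (Or.inr (hdegk i).le)
  have htm : ∀ j, t j ∈ locRing hM := fun j =>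
    natCast_div_mem hM Nat.card_pos.ne' (Or.inr (htk j).ge)
  set Z : Matrix (Fin r) (Fin r) (locRing hM) := Matrix.of fun i j =>
    (⟨u i, hum i⟩ : locRing hM) * ⟨_, centralChar_mem_locRing hM (χ i) (x j)⟩ * ⟨t j, htm j⟩
      with hZ
  have hval : (Matrix.of fun i j => (χ i : G → ℂ) (x j)) = Z.map (locRing hM).subtype := by
    ext i j
    rw [Matrix.of_apply, charVal_eq (χ i) (x j), Matrix.map_apply, hZ, Matrix.of_apply]
    have hpk : ((p ^ k : ℕ) : ℂ) ≠ 0 := by exact_mod_cast pow_ne_zero k hp.out.ne_zero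
    simp only [map_mul, Subring.subtype_apply, hu, ht]
    push_cast at hpk ⊢
    field_simp
  have hdet : Matrix.det (Matrix.of fun i j => (χ i : G → ℂ) (x j)) = ((Z.det : locRing hM) : ℂ) := by
    rw [hval]
    exact ((locRing hM).subtype.map_det Z).symm
  rw [hdet, ← res_eq_zero_iff hM Z.det.2, res_coe, RingHom.map_det]
  have hZA : (resMap hM).mapMatrix Z = Matrix.diagonal (fun i => res hM (u i)) * A *
      Matrix.diagonal (fun j => res hM (t j)) := by
    ext i j
    rw [Matrix.mul_diagonal, Matrix.diagonal_mul, RingHom.mapMatrix_apply, Matrix.map_apply, hZ,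
      Matrix.of_apply, map_mul, map_mul, ← res_coe, ← res_coe, ← res_coe]
    congr 2
    exact res_apply_eq hM (vInt_centralChar hM (x j))
      (sameBlock_of_mem hM (Bf i).2.1 (hχ i).1 (rep_mem hM (Bf i)))
  rw [hZA, Matrix.det_mul, Matrix.det_mul, Matrix.det_diagonal, Matrix.det_diagonal]
  refine mul_ne_zero (mul_ne_zero (Finset.prod_ne_zero_iff.2 fun i _ => ?_) hAdet)
    (Finset.prod_ne_zero_iff.2 fun j _ => ?_)
  · rw [Ne, res_eq_zero_iff hM (hum i)]
    exact natCast_div_not_ideal hM (charDegree_pos _).ne' (pow_ne_zero k hp.out.ne_zero)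
      (hdegk i).symm
  · rw [Ne, res_eq_zero_iff hM (htm j)]
    exact natCast_div_not_ideal hM
      (Nat.mul_ne_zero (cenCard_pos _).ne' (pow_ne_zero k hp.out.ne_zero)) Nat.card_pos.ne' (htk j)

end Cfsg.Lib.Block
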