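import Cfsg.Agent.Lib.Block.Supp
import Cfsg.Agent.Lib.Char.Clifford
import Cfsg.Prelude.Def_BlockLocal
import Cfsg.Prelude.Def_BrauerPairs

/-!
# Transport of blocks along isomorphisms and conjugation

Sets of irreducible characters, their idempotent coefficients, blocks, defect classes and defect
groups are carried along group isomorphisms, in particular along conjugation between subgroups.
-/

set_option autoImplicit false
set_option linter.unusedSectionVars false
set_option maxHeartbeats 400000

namespace Cfsg.Lib.Block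

open Cfsg
open scoped ComplexConjugate

universe u v

section Iso

variable {A : Type u} [Group A] {B : Type u} [Group B]

/-- An irreducible character composed with an isomorphism. -/
def compIrr (e : A ≃* B) (χ : IrrCharacter B) : IrrCharacter A :=
  ⟨fun a => (χ : B → ℂ) (e a), Char.isIrrCharacter_comp_equiv e χ.2⟩

theorem compIrr_apply (e : A ≃* B) (χ : IrrCharacter B) (a : A) :
    (compIrr e χ : A → ℂ) a = (χ : B → ℂ) (e a) := rfl

theorem compIrr_symm_compIrr (e : A ≃* B) (χ : IrrCharacter B) :
    compIrr e.symm (compIrr e χ) = χ :=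
  Subtype.ext (funext fun b => by simp [compIrr])

theorem compIrr_compIrr_symm (e : A ≃* B) (χ : IrrCharacter A) :
    compIrr e (compIrr e.symm χ) = χ :=
  Subtype.ext (funext fun a => by simp [compIrr])

/-- Composition with an isomorphism, as a bijection. -/
def irrEquiv (e : A ≃* B) : IrrCharacter B ≃ IrrCharacter A where
  toFun := compIrr e
  invFun := compIrr e.symm
  left_inv := compIrr_symm_compIrr e
  right_inv := compIrr_compIrr_symm e

/-- A set of characters pulled back along an isomorphism. -/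
def pullSet (e : A ≃* B) (b : Set (IrrCharacter B)) : Set (IrrCharacter A) :=
  compIrr e.symm ⁻¹' b

theorem mem_pullSet {e : A ≃* B} {b : Set (IrrCharacter B)} {χ : IrrCharacter B} :
    compIrr e χ ∈ pullSet e b ↔ χ ∈ b := by
  simp [pullSet, compIrr_symm_compIrr]

theorem pullSet_symm (e : A ≃* B) (b : Set (IrrCharacter B)) :
    pullSet e.symm (pullSet e b) = b := by
  ext χ
  show compIrr e.symm (compIrr e.symm.symm χ) ∈ b ↔ χ ∈ b
  rw [MulEquiv.symm_symm, compIrr_symm_compIrr]

theorem pullSet_injective (e : A ≃* B) : Function.Injective (pullSet e) :=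
  fun b b' h => by rw [← pullSet_symm e b, h, pullSet_symm]

theorem index_centralizer_equiv (e : A ≃* B) (a : A) :
    (Subgroup.centralizer ({e a} : Set B)).index = (Subgroup.centralizer ({a} : Set A)).index := by
  rw [← Subgroup.index_map_equiv _ e]
  congr 1
  ext b
  simp only [Subgroup.mem_centralizer_iff, Set.mem_singleton_iff, forall_eq, Subgroup.mem_map,
    MonoidHom.coe_coe]
  constructor
  · intro h
    refine ⟨e.symm b, e.injective ?_, e.apply_symm_apply b⟩
    rw [map_mul, map_mul, e.apply_symm_apply]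
    exact h
  · rintro ⟨x, hx, rfl⟩
    rw [← map_mul, ← map_mul, hx]

theorem centralChar_compIrr (e : A ≃* B) (χ : IrrCharacter B) (a : A) :
    centralChar (compIrr e χ : A → ℂ) a = centralChar (χ : B → ℂ) (e a) := by
  simp only [centralChar, compIrr_apply, map_one, index_centralizer_equiv]

variable {M : Ideal AlgInt}

theorem sameBlock_compIrr (e : A ≃* B) (χ ψ : IrrCharacter B) :
    SameBlock M (compIrr e χ : A → ℂ) (compIrr e ψ : A → ℂ) ↔
      SameBlock M (χ : B → ℂ) (ψ : B → ℂ) := by
  simp only [SameBlock, centralChar_compIrr]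
  exact ⟨fun h b => by simpa using h (e.symm b), fun h a => h (e a)⟩

theorem blockOf_compIrr (e : A ≃* B) (χ : IrrCharacter B) :
    blockOf M (compIrr e χ : A → ℂ) = pullSet e (blockOf M (χ : B → ℂ)) := by
  ext η
  obtain ⟨ψ, rfl⟩ : ∃ ψ, compIrr e ψ = η := ⟨_, compIrr_compIrr_symm e η⟩
  rw [mem_pullSet]
  exact sameBlock_compIrr e χ ψ

theorem isPBlock_pullSet (e : A ≃* B) {b : Set (IrrCharacter B)} (hb : IsPBlock M b) :
    IsPBlock M (pullSet e b) := by
  obtain ⟨χ, rfl⟩ := hb
  exact ⟨compIrr e χ, (blockOf_compIrr e χ).symm⟩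

theorem blockCoeff_pullSet [Finite A] (e : A ≃* B) (b : Set (IrrCharacter B)) (a : A) :
    blockCoeff (pullSet e b) a = blockCoeff b (e a) := by
  rw [blockCoeff, blockCoeff, Nat.card_congr e.toEquiv]
  congr 1
  refine (finsum_mem_eq_of_bijOn (compIrr e) ⟨fun χ h => mem_pullSet.2 h,
    (irrEquiv e).injective.injOn, fun η hη => ?_⟩ fun χ _ => ?_).symm
  · exact ⟨compIrr e.symm η, hη, compIrr_compIrr_symm e η⟩
  · simp [compIrr]

theorem isDefectClass_pullSet [Finite A] (e : A ≃* B) (b : Set (IrrCharacter B)) (a : A) :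
    IsDefectClass M (pullSet e b) a ↔ IsDefectClass M b (e a) := by
  simp only [IsDefectClass, blockCoeff_pullSet]
  refine and_congr_right fun _ => and_congr_right fun _ => ?_
  constructor
  · intro h χ hχ
    rw [← centralChar_compIrr]
    exact h _ (mem_pullSet.2 hχ)
  · intro h η hη
    have := h _ hη
    rw [← compIrr_compIrr_symm e η, centralChar_compIrr]
    exact this

theorem blockDefect_pullSet (p : ℕ) (e : A ≃* B) (b : Set (IrrCharacter B)) :
    blockDefect p (pullSet e b) = blockDefect p b := by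
  have hdeg : ∀ χ : IrrCharacter B, charDegree (compIrr e χ : A → ℂ) = charDegree (χ : B → ℂ) :=
    fun χ => by simp [charDegree, compIrr]
  rw [blockDefect, blockDefect, Nat.card_congr e.toEquiv]
  congr 2
  ext n
  simp only [Set.mem_image]
  constructor
  · rintro ⟨η, hη, rfl⟩
    exact ⟨_, hη, by rw [← hdeg, compIrr_compIrr_symm]⟩
  · rintro ⟨χ, hχ, rfl⟩
    exact ⟨_, mem_pullSet.2 hχ, by rw [hdeg]⟩

theorem isDefectGroup_pullSet [Finite A] [Finite B] {p : ℕ} [Fact p.Prime] (e : A ≃* B)
    {b : Set (IrrCharacter B)} {D : Subgroup B} (hD : IsDefectGroup p M b D) :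
    IsDefectGroup p M (pullSet e b) (D.map e.symm.toMonoidHom) := by
  haveI := Fintype.ofFinite A
  haveI := Fintype.ofFinite B
  obtain ⟨g, hg, P, rfl⟩ := isDefectGroup_iff.1 hD
  set a : A := e.symm g with ha
  have hga : e a = g := e.apply_symm_apply g
  set S : Subgroup A := (cenSyl g P).map e.symm.toMonoidHom with hS
  have hle : S ≤ Subgroup.centralizer ({a} : Set A) := by
    rintro _ ⟨x, hx, rfl⟩
    refine Subgroup.mem_centralizer_iff.2 fun z hz => ?_
    rw [Set.mem_singleton_iff] at hz
    subst hz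
    have := congrArg e.symm (Subgroup.mem_centralizer_iff.1 (cenSyl_le g P hx) g rfl)
    simpa [ha] using this
  have hcard : Nat.card (Subgroup.centralizer ({a} : Set A)) =
      Nat.card (Subgroup.centralizer ({g} : Set B)) := by
    refine Nat.card_congr (Equiv.subtypeEquiv e.toEquiv fun x => ?_)
    simp only [Subgroup.mem_centralizer_iff, Set.mem_singleton_iff, forall_eq, MulEquiv.toEquiv_eq_coe,
      EquivLike.coe_coe, ← hga, ← map_mul, EmbeddingLike.apply_eq_iff_eq]
  refine isDefectGroup_iff.2 ⟨a, (isDefectClass_pullSet e b a).2 (hga.symm ▸ hg),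
    Sylow.ofCard (S.subgroupOf (Subgroup.centralizer ({a} : Set A))) ?_, ?_⟩
  · rw [Nat.card_congr (Subgroup.subgroupOfEquivOfLe hle).toEquiv, hS,
      Subgroup.card_map_of_injective e.symm.injective, hcard, cenSyl,
      Subgroup.card_map_of_injective (Subgroup.subtype_injective _), P.card_eq_multiplicity]
  · rw [cenSyl, Sylow.coe_ofCard, Subgroup.map_subgroupOf_eq_of_le hle]

end Iso

/-- A set of characters is determined by its idempotent coefficients. -/
theorem eq_of_blockCoeff_eq {A : Type u} [Group A] [Finite A] {b b' : Set (IrrCharacter A)}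
    (h : ∀ a, blockCoeff b a = blockCoeff b' a) : b = b' := by
  classical
  haveI := Fintype.ofFinite A
  have hv : indVec b = indVec b' := zc_injective fun a => by rw [zc_indVec, zc_indVec, h]
  ext χ
  have := congrFun hv χ
  simp only [indVec] at this
  by_cases h1 : χ ∈ b <;> by_cases h2 : χ ∈ b' <;> simp_all

section Conj

variable {G : Type u} [Group G]

/-- `x` carries the subgroup `K` onto `K'`. -/
def ConjMaps (x : G) (K K' : Subgroup G) : Prop :=
  ∀ g : G, g ∈ K ↔ x * g * x⁻¹ ∈ K'

theorem conjMaps_normalizer {x : G} {K : Subgroup G} (hx : x ∈ Subgroup.normalizer (K : Set G)) :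
    ConjMaps x K K := fun g => Subgroup.mem_normalizer_iff.1 hx g

theorem conjMaps_centralizer {x : G} {Q Q' : Subgroup G}
    (h : Q.map (MulAut.conj x).toMonoidHom = Q') :
    ConjMaps x (Subgroup.centralizer (Q : Set G)) (Subgroup.centralizer (Q' : Set G)) := by
  subst h
  intro g
  simp only [Subgroup.mem_centralizer_iff]
  constructor
  · intro hg
    rintro _ ⟨q, hq, rfl⟩
    simp only [MulEquiv.coe_toMonoidHom, MulAut.conj_apply]
    calc x * q * x⁻¹ * (x * g * x⁻¹) = x * (q * g) * x⁻¹ := by group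
      _ = x * (g * q) * x⁻¹ := by rw [hg q hq]
      _ = _ := by group
  · intro hg q hq
    have := hg _ ⟨q, hq, rfl⟩
    simp only [MulEquiv.coe_toMonoidHom, MulAut.conj_apply] at this
    exact mul_left_cancel (a := x) (mul_right_cancel (b := x⁻¹) (by
      calc x * (q * g) * x⁻¹ = x * q * x⁻¹ * (x * g * x⁻¹) := by group
        _ = x * g * x⁻¹ * (x * q * x⁻¹) := this
        _ = x * (g * q) * x⁻¹ := by group))

theorem conjMaps_inv {x : G} {K K' : Subgroup G} (h : ConjMaps x K K') : ConjMaps x⁻¹ K' K :=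
  fun g => by rw [h, show x * (x⁻¹ * g * x⁻¹⁻¹) * x⁻¹ = g by group]

theorem conjMaps_mul {x y : G} {K K' K'' : Subgroup G} (h : ConjMaps x K K')
    (h' : ConjMaps y K' K'') : ConjMaps (y * x) K K'' :=
  fun g => by rw [h, h', show y * x * g * (y * x)⁻¹ = y * (x * g * x⁻¹) * y⁻¹ by group]

/-- The isomorphism given by conjugation. -/
def conjIso {x : G} {K K' : Subgroup G} (h : ConjMaps x K K') : K ≃* K' where
  toFun k := ⟨x * (k : G) * x⁻¹, (h _).1 k.2⟩
  invFun k := ⟨x⁻¹ * (k : G) * x, (h _).2 (by
    rw [show x * (x⁻¹ * (k : G) * x) * x⁻¹ = (k : G) by group]; exact k.2)⟩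
  left_inv k := Subtype.ext (by simp [mul_assoc])
  right_inv k := Subtype.ext (by simp [mul_assoc])
  map_mul' a b := Subtype.ext (by simp [mul_assoc])

/-- The conjugate of a set of characters. -/
def conjSet {x : G} {K K' : Subgroup G} (h : ConjMaps x K K') (f : Set (IrrCharacter K)) :
    Set (IrrCharacter K') :=
  pullSet (conjIso h).symm f

variable [Finite G] {M : Ideal AlgInt}

theorem isPBlock_conjSet {x : G} {K K' : Subgroup G} (h : ConjMaps x K K')
    {f : Set (IrrCharacter K)} (hf : IsPBlock M f) : IsPBlock M (conjSet h f) :=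
  isPBlock_pullSet _ hf

theorem subgroupBlockCoeff_conjSet {x : G} {K K' : Subgroup G} (h : ConjMaps x K K')
    (f : Set (IrrCharacter K)) (g : G) :
    subgroupBlockCoeff K' (conjSet h f) (x * g * x⁻¹) = subgroupBlockCoeff K f g := by
  simp only [subgroupBlockCoeff]
  by_cases hg : g ∈ K
  · rw [dif_pos hg, dif_pos ((h g).1 hg), conjSet, blockCoeff_pullSet]
    congr 1
    exact Subtype.ext (by simp [conjIso, mul_assoc])
  · rw [dif_neg hg, dif_neg fun h' => hg ((h g).2 h')]

theorem eq_of_subgroupBlockCoeff_eq {K : Subgroup G} {f f' : Set (IrrCharacter K)}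
    (h : ∀ g, subgroupBlockCoeff K f g = subgroupBlockCoeff K f' g) : f = f' :=
  eq_of_blockCoeff_eq fun a => by simpa [subgroupBlockCoeff] using h (a : G)

theorem conjSet_congr {x y : G} {K K' : Subgroup G} (h : ConjMaps x K K') (h' : ConjMaps y K K')
    (e : x = y) (f : Set (IrrCharacter K)) : conjSet h f = conjSet h' f := by
  subst e; rfl

theorem conjSet_mul {x y : G} {K K' K'' : Subgroup G} (h : ConjMaps x K K')
    (h' : ConjMaps y K' K'') (f : Set (IrrCharacter K)) :
    conjSet h' (conjSet h f) = conjSet (conjMaps_mul h h') f := by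
  refine eq_of_subgroupBlockCoeff_eq fun g => ?_
  obtain ⟨k, rfl⟩ : ∃ k, y * x * k * (y * x)⁻¹ = g := ⟨(y * x)⁻¹ * g * (y * x), by group⟩
  rw [subgroupBlockCoeff_conjSet (conjMaps_mul h h'),
    show y * x * k * (y * x)⁻¹ = y * (x * k * x⁻¹) * y⁻¹ by group,
    subgroupBlockCoeff_conjSet h', subgroupBlockCoeff_conjSet h]

theorem conjSet_of_mem {K : Subgroup G} {x : G} (hx : ConjMaps x K K) (hxK : x ∈ K)
    (f : Set (IrrCharacter K)) : conjSet hx f = f := by
  refine eq_of_subgroupBlockCoeff_eq fun g => ?_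
  obtain ⟨k, rfl⟩ : ∃ k, x * k * x⁻¹ = g := ⟨x⁻¹ * g * x, by group⟩
  rw [subgroupBlockCoeff_conjSet]
  haveI := Fintype.ofFinite K
  simp only [subgroupBlockCoeff]
  by_cases hk : k ∈ K
  · rw [dif_pos hk, dif_pos ((hx k).1 hk)]
    exact (blockCoeff_conj_invariant f ⟨k, hk⟩ ⟨x, hxK⟩).symm
  · rw [dif_neg hk, dif_neg fun h => hk ((hx k).2 h)]

/-- The frozen conjugate of a block is the conjugate set. -/
theorem conjBlock_eq (Q : Subgroup G) (x : G)
    (f : Set (IrrCharacter (Subgroup.centralizer (Q : Set G)))) :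
    conjBlock Q x f = conjSet (conjMaps_centralizer (rfl : Q.map (MulAut.conj x).toMonoidHom =
      Q.map (MulAut.conj x).toMonoidHom)) f := by
  set h := conjMaps_centralizer (rfl : Q.map (MulAut.conj x).toMonoidHom =
    Q.map (MulAut.conj x).toMonoidHom)
  ext η
  show (∃ ξ ∈ f, _) ↔ compIrr (conjIso h).symm.symm η ∈ f
  rw [MulEquiv.symm_symm]
  constructor
  · rintro ⟨ξ, hξ, heq⟩
    have : compIrr (conjIso h) η = ξ :=
      Subtype.ext (funext fun c => heq c (conjIso h c) rfl)
    rwa [this]
  · intro hη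
    exact ⟨_, hη, fun c c' hc => by
      rw [compIrr_apply, show c' = conjIso h c from Subtype.ext hc]⟩

/-- Stabilizing a block means fixing it under conjugation. -/
theorem stabilizesBlock_iff {K : Subgroup G} {f : Set (IrrCharacter K)} {x : G}
    (hx : x ∈ Subgroup.normalizer (K : Set G)) :
    StabilizesBlock K f x ↔ conjSet (conjMaps_normalizer hx) f = f := by
  classical
  haveI := Fintype.ofFinite K
  set h := conjMaps_normalizer hx
  have key : ∀ χ χ' : IrrCharacter K, IsConjCharOf K x (χ : K → ℂ) (χ' : K → ℂ) ↔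
      compIrr (conjIso h).symm χ = χ' := by
    intro χ χ'
    constructor
    · intro hc
      refine Subtype.ext (funext fun k' => ?_)
      exact (hc ((conjIso h).symm k') k' (by simp [conjIso, mul_assoc])).symm
    · rintro rfl k k' hk
      show (χ : K → ℂ) ((conjIso h).symm k') = _
      have : k' = conjIso h k := Subtype.ext hk
      rw [this, MulEquiv.symm_apply_apply]
  constructor
  · intro hst
    have hsub : ∀ χ ∈ f, compIrr (conjIso h).symm χ ∈ f := fun χ hχ => by
      obtain ⟨χ', hχ', hc⟩ := hst.2 χ hχ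
      rwa [(key χ χ').1 hc]
    have himg : f.toFinset.image (compIrr (conjIso h).symm) = f.toFinset := by
      refine Finset.eq_of_subset_of_card_le ?_
        (le_of_eq (Finset.card_image_of_injective _ fun a b hab =>
          (irrEquiv (conjIso h).symm).injective hab).symm)
      intro η hη
      obtain ⟨χ, hχ, rfl⟩ := Finset.mem_image.1 hη
      exact Set.mem_toFinset.2 (hsub χ (Set.mem_toFinset.1 hχ))
    ext η
    constructor
    · intro hη
      have := hsub _ hη
      rwa [compIrr_compIrr_symm] at this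
    · intro hη
      obtain ⟨χ, hχ, rfl⟩ := Finset.mem_image.1 (himg.symm ▸ Set.mem_toFinset.2 hη)
      exact mem_pullSet.2 (Set.mem_toFinset.1 hχ)
  · intro he
    refine ⟨hx, fun χ hχ => ⟨compIrr (conjIso h).symm χ, ?_, (key _ _).2 rfl⟩⟩
    rw [← he]
    exact mem_pullSet.2 hχ

/-- Stabilizing a block means fixing its coefficients. -/
theorem stabilizesBlock_iff_coeff {K : Subgroup G} {f : Set (IrrCharacter K)} {x : G}
    (hx : x ∈ Subgroup.normalizer (K : Set G)) :
    StabilizesBlock K f x ↔
      ∀ g, subgroupBlockCoeff K f (x * g * x⁻¹) = subgroupBlockCoeff K f g := by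
  rw [stabilizesBlock_iff hx]
  constructor
  · intro he g
    conv_lhs => rw [← he]
    rw [subgroupBlockCoeff_conjSet]
  · intro hc
    refine eq_of_subgroupBlockCoeff_eq fun g => ?_
    obtain ⟨k, rfl⟩ : ∃ k, x * k * x⁻¹ = g := ⟨x⁻¹ * g * x, by group⟩
    rw [subgroupBlockCoeff_conjSet, hc]

end Conj

end Cfsg.Lib.Block
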