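import Cfsg.Agent.Lib.Block.KleinCore

/-!
# Characters of the principal 2-block for a four-group Sylow subgroup
-/

set_option autoImplicit false
set_option linter.unusedSectionVars false
set_option maxHeartbeats 800000

namespace Cfsg.Lib.Block

open Cfsg
open scoped ComplexConjugate

universe u

variable {G : Type u} [Group G] [Fintype G] {P : Sylow 2 G} {M : Ideal AlgInt}

theorem int_value_involution (χ : IrrCharacter G) {z : G} (hz : orderOf z = 2) :
    ∃ m : ℤ, (χ : G → ℂ) z = m := by
  refine Char.exists_int_of_pow_invariant χ.2.isCharacter z fun k hk => ?_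
  have h2 : 2 ∣ Nat.card G := hz ▸ orderOf_dvd_natCard z
  have hodd : ¬ 2 ∣ k := fun h => by
    have := Nat.dvd_gcd h h2
    rw [hk] at this
    omega
  obtain ⟨j, rfl⟩ : Odd k := Nat.not_even_iff_odd.1 fun he => hodd (even_iff_two_dvd.1 he)
  rw [pow_succ, pow_mul, ← hz, pow_orderOf_eq_one, one_pow, one_mul]

open Classical in
/-- The sum of a character over a normal complement of a Sylow subgroup. -/
theorem sum_complement_eq {p : ℕ} [Fact p.Prime] (hM : IsPModular p M) {N : Subgroup G} [N.Normal]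
    [Fintype N] (hN : ¬ p ∣ Nat.card N) (hidx : ∃ k : ℕ, N.index = p ^ k) (η : IrrCharacter G) :
    ∑ n : N, (η : G → ℂ) (n : G) =
      if η ∈ principalBlock M G then (Nat.card N : ℂ) * (η : G → ℂ) 1 else 0 := by
  rw [principalBlock_eq_of_complement hM hN hidx]
  split_ifs with hη
  · rw [Finset.sum_congr rfl fun (n : N) _ => hη (n : G) n.2, Finset.sum_const, Finset.card_univ,
      nsmul_eq_mul, Nat.card_eq_fintype_card]
  · by_contra hne
    rw [← finsum_eq_sum_of_fintype] at hne
    obtain ⟨ψ, hψ, hne'⟩ := exists_trivial_on_of_classInner_ne (Q := N) η.2.isClassFunction hne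
    refine hη (?_ : η ∈ {χ : IrrCharacter G | ∀ n ∈ N, (χ : G → ℂ) n = (χ : G → ℂ) 1})
    have : η = ψ := Subtype.ext (by
      by_contra hcon
      exact hne' (Char.classInner_irr_ne η.2 ψ.2 hcon))
    rw [this]
    exact hψ

variable (hM : IsPModular 2 M) (hP : KleinCond P) {z : G} (hz : orderOf z = 2)

include hM hP hz in
/-- The values of the principal block on the section of an involution. -/
theorem klein_apply_section {χ : IrrCharacter G} (hχ : χ ∈ principalBlock M G) {y : G}
    (hyz : Commute z y) (hy : IsPRegular 2 y) :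
    (χ : G → ℂ) (z * y) = (χ : G → ℂ) z := by
  classical
  haveI : Fact (Nat.Prime 2) := ⟨Nat.prime_two⟩
  obtain ⟨Q, hzQ, hQ⟩ := hP.exists_sylow hz
  let C := Subgroup.centralizer ({z} : Set G)
  obtain ⟨O, hOn, hOd, hOi, -⟩ : ∃ O : Subgroup C, O.Normal ∧ ¬ 2 ∣ Nat.card O ∧ O.index = 4 ∧ _ :=
    hQ.exists_complement hzQ hz
  letI : Fintype C := Fintype.ofFinite _
  have hu : ∃ k : ℕ, orderOf z = 2 ^ k := ⟨1, by rw [hz, pow_one]⟩
  have hHu : ∀ h : C, Commute z (h : G) := fun h =>
    (Subgroup.mem_centralizer_singleton_iff.1 h.2).symm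
  have hidx : ∃ k : ℕ, O.index = 2 ^ k := ⟨2, by rw [hOi]; norm_num⟩
  have hb0 := indSet_principal hM hu hHu (le_refl C)
  have hy1 : IsPRegular 2 (1 : C) := by simp [IsPRegular]
  set yC : C := ⟨y, Subgroup.mem_centralizer_singleton_iff.2 hyz.eq.symm⟩ with hyC
  have hyr : IsPRegular 2 yC := by rw [IsPRegular, hyC, Subgroup.orderOf_mk]; exact hy
  have e1 := blockPart_indSet hM hu hHu (le_refl C) (isPBlock_principal (M := M) (G := G)) χ hyr
  have e2 := blockPart_indSet hM hu hHu (le_refl C) (isPBlock_principal (M := M) (G := G)) χ hy1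
  rw [if_pos hχ, hb0] at e1 e2
  have hyO : yC ∈ O := (mem_iff_isPRegular hM hOd hidx _).2 hyr
  have : blockPart (principalBlock M C) (secFn z C (χ : G → ℂ)) yC =
      blockPart (principalBlock M C) (secFn z C (χ : G → ℂ)) 1 := by
    simp only [blockPart]
    refine finsum_congr fun η => ?_
    refine finsum_congr fun hη => ?_
    rw [principalBlock_eq_of_complement hM hOd hidx] at hη
    rw [hη _ hyO]
  rw [e1, e2] at this
  simpa using this

include hM hP hz in
/-- Summing a character over the singular elements. -/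
theorem klein_sum_singular (χ : IrrCharacter G) [DecidablePred (IsPRegular (G := G) 2)]
    [Decidable (χ ∈ principalBlock M G)] :
    4 * ∑ g ∈ Finset.univ.filter (fun g : G => ¬ IsPRegular 2 g), (χ : G → ℂ) g =
      (Nat.card G : ℂ) * (if χ ∈ principalBlock M G then (χ : G → ℂ) z else 0) := by
  classical
  haveI : Fact (Nat.Prime 2) := ⟨Nat.prime_two⟩
  obtain ⟨Q, hzQ, hQ⟩ := hP.exists_sylow hz
  let C := Subgroup.centralizer ({z} : Set G)
  obtain ⟨O, hOn, hOd, hOi, -⟩ : ∃ O : Subgroup C, O.Normal ∧ ¬ 2 ∣ Nat.card O ∧ O.index = 4 ∧ _ :=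
    hQ.exists_complement hzQ hz
  letI : Fintype C := Fintype.ofFinite _
  letI : Fintype O := Fintype.ofFinite _
  have hu : ∃ k : ℕ, orderOf z = 2 ^ k := ⟨1, by rw [hz, pow_one]⟩
  have hHu : ∀ h : C, Commute z (h : G) := fun h =>
    (Subgroup.mem_centralizer_singleton_iff.1 h.2).symm
  have hidx : ∃ k : ℕ, O.index = 2 ^ k := ⟨2, by rw [hOi]; norm_num⟩
  have hb0 := indSet_principal hM hu hHu (le_refl C)
  have hy1 : IsPRegular 2 (1 : C) := by simp [IsPRegular]
  have e2 := blockPart_indSet hM hu hHu (le_refl C) (isPBlock_principal (M := M) (G := G)) χ hy1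
  rw [hb0] at e2
  simp only [OneMemClass.coe_one, mul_one] at e2
  have hfil : (Finset.univ.filter fun g : G => IsConj (pPt 2 g) z) =
      Finset.univ.filter fun g : G => ¬ IsPRegular 2 g :=
    Finset.filter_congr fun g _ => hP.singular_iff hz g
  have h1 := card_mul_sum_pPt_conj (p := 2) χ.2.isClassFunction z
  rw [hfil, sum_pPt_eq hu hHu (le_refl C) (χ : G → ℂ)] at h1
  have h2 : ∑ y : C, (if IsPRegular 2 y then (χ : G → ℂ) (z * (y : G)) else 0) =
      ∑ n : O, secFn z C (χ : G → ℂ) (n : C) := by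
    rw [← Finset.sum_filter]
    refine Finset.sum_subtype (f := fun y : C => secFn z C (χ : G → ℂ) y) _ (fun y => ?_)
    simp [mem_iff_isPRegular hM hOd hidx y]
  have hdec := Char.eq_sum_classInner (isClassFunction_secFn hHu χ)
  have h3 : ∀ η : IrrCharacter C, ∑ n : O, (η : C → ℂ) (n : C) =
      if η ∈ principalBlock M C then (Nat.card O : ℂ) * (η : C → ℂ) 1 else 0 := by
    intro η
    rw [sum_complement_eq hM hOd hidx η]
  have h4 : ∑ n : O, secFn z C (χ : G → ℂ) (n : C) =
      (Nat.card O : ℂ) * (if χ ∈ principalBlock M G then (χ : G → ℂ) z else 0) := by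
    rw [← e2]
    conv_lhs => enter [2, n]; rw [hdec]
    simp only [Finset.sum_apply, Pi.smul_apply, smul_eq_mul]
    simp only [blockPart, finsum_mem_eq_toFinset_sum, Finset.mul_sum]
    rw [Finset.sum_comm]
    simp only [← Finset.mul_sum, h3, mul_ite, mul_zero]
    rw [← Finset.sum_filter]
    rw [Finset.mul_sum]
    refine Finset.sum_congr ?_ fun η _ => ?_
    · ext η; simp
    · simp only [classInner]
      rw [Finset.sum_congr (show (Finset.univ : Finset C) = @Finset.univ C (Fintype.ofFinite C) by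
        ext; simp) fun _ _ => rfl]
      ring
  rw [h2, h4] at h1
  have hc : (Nat.card C : ℂ) = 4 * (Nat.card O : ℂ) := by
    rw [← O.card_mul_index, hOi, Nat.cast_mul]
    push_cast
    ring
  have hO : (Nat.card O : ℂ) ≠ 0 := Nat.cast_ne_zero.2 Nat.card_pos.ne'
  rw [hc] at h1
  refine mul_left_cancel₀ hO ?_
  linear_combination h1

end Cfsg.Lib.Block
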