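import Cfsg.Agent.Lib.Block.KleinBlock

/-!
# Values on an involution of the principal 2-block characters, four-group Sylow subgroup
-/

set_option autoImplicit false
set_option linter.unusedSectionVars false
set_option maxHeartbeats 800000

namespace Cfsg.Lib.Block

open Cfsg
open scoped ComplexConjugate

universe u

variable {G : Type u} [Group G] [Fintype G] {P : Sylow 2 G} {M : Ideal AlgInt}
  (hM : IsPModular 2 M) (hP : KleinCond P) {z : G} (hz : orderOf z = 2)

include hM hP hz in
open Classical in
/-- A character of the principal block is constant on the singular elements. -/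
theorem klein_apply_singular {χ : IrrCharacter G} (hχ : χ ∈ principalBlock M G) {g : G}
    (hg : ¬ IsPRegular 2 g) : (χ : G → ℂ) g = (χ : G → ℂ) z := by
  haveI : Fact (Nat.Prime 2) := ⟨Nat.prime_two⟩
  have hw := hP.orderOf_pPt hg
  have h := klein_apply_section hM hP hw hχ (pPt_commute_pReg (p := 2) g)
    (not_dvd_orderOf_pReg g)
  rw [pPt_mul_pReg] at h
  obtain ⟨c, hc⟩ := isConj_iff.1 (hP.fuse _ _ hw hz)
  rw [h, ← hc]
  exact (χ.2.isClassFunction _ c).symm

open Classical in
theorem sum_irr_eq_card (χ : IrrCharacter G) :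
    ∑ g, (χ : G → ℂ) g = if χ = trivChar G then (Nat.card G : ℂ) else 0 := by
  have hG : (Nat.card G : ℂ) ≠ 0 := Char.card_cast_ne_zero
  by_cases hc : χ = trivChar G
  · subst hc
    rw [if_pos rfl]
    simp [trivChar_coe, Nat.card_eq_fintype_card]
  · rw [if_neg hc]
    have h := Char.classInner_irr_ne χ.2 (trivChar G).2 (fun h' => hc (Subtype.ext h'))
    rw [classInner] at h
    simp only [trivChar_coe, map_one, mul_one] at h
    exact (mul_eq_zero.1 h).resolve_left (inv_ne_zero hG)

include hM hP hz in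
open Classical in
theorem klein_sum_regular (χ : IrrCharacter G) :
    4 * ∑ g, pRegularPart 2 (χ : G → ℂ) g =
      (Nat.card G : ℂ) * ((if χ = trivChar G then 4 else 0) -
        (if χ ∈ principalBlock M G then (χ : G → ℂ) z else 0)) := by
  have h := Finset.sum_filter_add_sum_filter_not Finset.univ (fun g : G => IsPRegular 2 g)
    (fun g => (χ : G → ℂ) g)
  rw [sum_irr_eq_card] at h
  have hs := klein_sum_singular hM hP hz χ
  have e : ∑ g, pRegularPart 2 (χ : G → ℂ) g =
      ∑ g ∈ Finset.univ.filter (fun g : G => IsPRegular 2 g), (χ : G → ℂ) g := by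
    rw [Finset.sum_filter]
    exact Finset.sum_congr rfl fun g _ => by simp [pRegularPart]
  rw [e, mul_sub, ← hs]
  have hd : ((if χ = trivChar G then (Nat.card G : ℂ) else 0) * 4) =
      (Nat.card G : ℂ) * (if χ = trivChar G then 4 else 0) := by split_ifs <;> simp
  linear_combination 4 * h + hd

include hM hP hz in
/-- The regular sum of a character of the principal block does not vanish. -/
theorem klein_regSum_ne {χ : IrrCharacter G} (hχ : χ ∈ principalBlock M G) :
    ∑ g, pRegularPart 2 (χ : G → ℂ) g ≠ 0 := by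
  classical
  haveI : Fact (Nat.Prime 2) := ⟨Nat.prime_two⟩
  intro h0
  set f : G → ℂ := pRegularPart 2 (fun _ => (1 : ℂ)) with hf
  have hfc : IsClassFunction G f := isClassFunction_pRegularPart fun g x => rfl
  have hf01 : ∀ g, f g ∈ locRing hM := fun g => by
    simp only [hf, pRegularPart]
    split_ifs
    · exact one_mem _
    · exact zero_mem _
  have hfint : VInt hM (vec f) := fun g => by
    rw [zc_vec hfc]
    exact hf01 g
  have hv : ∀ ψ : IrrCharacter G, vec f ψ =
      (∑ g, pRegularPart 2 (ψ : G → ℂ) g) / (ψ : G → ℂ) 1 := fun ψ => by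
    simp only [vec]
    congr 1
    refine Finset.sum_congr rfl fun g _ => ?_
    simp only [hf, pRegularPart]
    split_ifs <;> simp
  have h := apply_sub_apply_mem hM hfint
    (sameBlock_of_mem hM isPBlock_principal (trivChar_mem_principal hM) hχ)
  rw [hv χ, h0, zero_div, sub_zero, hv] at h
  simp only [trivChar_coe, div_one] at h
  have h1 := res_sum_reg_two hM hf01 (fun g hg => by
      simp [hf, pRegularPart, IsPRegular, hg]) (fun g hg => by
      simp [hf, pRegularPart, IsPRegular, hg])
  have h2 : res hM (∑ g, f g) = 0 := (res_eq_zero_iff hM (sum_mem fun g _ => hf01 g)).2 h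
  rw [h2] at h1
  have h3 : f 1 = 1 := by simp [hf, pRegularPart, IsPRegular]
  rw [h3, res_one] at h1
  exact zero_ne_one h1

include hM hP hz in
theorem klein_apply_ne_zero {χ : IrrCharacter G} (hχ : χ ∈ principalBlock M G) :
    (χ : G → ℂ) z ≠ 0 := by
  classical
  intro h0
  by_cases ht : χ = trivChar G
  · subst ht
    simp [trivChar_coe] at h0
  · have h := klein_sum_regular hM hP hz χ
    rw [if_neg ht, if_pos hχ, h0, sub_zero, mul_zero] at h
    exact klein_regSum_ne hM hP hz hχ ((mul_eq_zero.1 h).resolve_left (by norm_num))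

include hM hP hz in
open Classical in
theorem klein_sum_sq :
    ∑ χ ∈ (principalBlock M G).toFinset, (χ : G → ℂ) z * conj ((χ : G → ℂ) z) = 4 := by
  haveI : Fact (Nat.Prime 2) := ⟨Nat.prime_two⟩
  obtain ⟨Q, hzQ, hQ⟩ := hP.exists_sylow hz
  let C := Subgroup.centralizer ({z} : Set G)
  obtain ⟨O, hOn, hOd, hOi, -⟩ : ∃ O : Subgroup C, O.Normal ∧ ¬ 2 ∣ Nat.card O ∧ O.index = 4 ∧ _ :=
    hQ.exists_complement hzQ hz
  letI : Fintype C := Fintype.ofFinite _
  letI : Fintype O := Fintype.ofFinite _
  have hidx : ∃ k : ℕ, O.index = 2 ^ k := ⟨2, by rw [hOi]; norm_num⟩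
  have hu : ∃ k : ℕ, orderOf z = 2 ^ k := ⟨1, by rw [hz, pow_one]⟩
  have hHu : ∀ h : C, Commute z (h : G) := fun h =>
    (Subgroup.mem_centralizer_singleton_iff.1 h.2).symm
  have hy1 : IsPRegular 2 (1 : C) := by simp [IsPRegular]
  have h := sum_block_mul_conj hM hu hHu (le_refl C) (isPBlock_principal (M := M) (G := G)) hy1 hy1
  rw [indSet_principal hM hu hHu (le_refl C)] at h
  simp only [OneMemClass.coe_one, mul_one] at h
  rw [h, regKer]
  apply mul_left_cancel₀ (Nat.cast_ne_zero.2 Nat.card_pos.ne' : (Nat.card O : ℂ) ≠ 0)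
  have hkey : ∑ n : O, ∑ η : IrrCharacter C, (η : C → ℂ) (n : C) * conj ((η : C → ℂ) 1) =
      (Nat.card C : ℂ) := by
    rw [Finset.sum_eq_single (1 : O)]
    · rw [← Char.sum_sq_degree (G := C)]
      exact Finset.sum_congr rfl fun η _ => by
        rw [OneMemClass.coe_one, conj_apply_one, pow_two]
    · intro n _ hn
      rw [Char.column_orthogonality, if_neg]
      intro hc
      rw [isConj_one_left] at hc
      exact hn (Subtype.ext hc)
    · exact fun h => absurd (Finset.mem_univ _) h
  rw [Finset.sum_comm] at hkey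
  simp only [← Finset.sum_mul, sum_complement_eq hM hOd hidx, ite_mul, zero_mul] at hkey
  rw [← Finset.sum_filter] at hkey
  have hc : (Nat.card C : ℂ) = (Nat.card O : ℂ) * 4 := by
    rw [← O.card_mul_index, hOi, Nat.cast_mul]
    push_cast
    ring
  rw [← hc, ← hkey, Finset.mul_sum]
  exact Finset.sum_congr (by ext; simp) fun η _ => by ring

include hM hP hz in
/-- The values on an involution are signs and the principal block has four characters. -/
theorem klein_signs :
    (∀ χ ∈ principalBlock M G, (χ : G → ℂ) z = 1 ∨ (χ : G → ℂ) z = -1) ∧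
      Nat.card (principalBlock M G) = 4 := by
  classical
  choose m hm using fun χ : IrrCharacter G => int_value_involution χ hz
  set B := (principalBlock M G).toFinset with hB
  have hne : ∀ χ ∈ B, m χ ≠ 0 := fun χ hχ h => klein_apply_ne_zero hM hP hz
    (Set.mem_toFinset.1 hχ) (by rw [hm, h, Int.cast_zero])
  have hsum : ∑ χ ∈ B, m χ * m χ = 4 := by
    have h := klein_sum_sq hM hP hz
    have e : ((∑ χ ∈ B, m χ * m χ : ℤ) : ℂ) = ((4 : ℤ) : ℂ) := by
      push_cast
      rw [← h]
      exact Finset.sum_congr (by ext; simp [hB]) fun χ _ => by rw [hm, map_intCast]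
    exact_mod_cast e
  have hge : ∀ χ ∈ B, (1 : ℤ) ≤ m χ * m χ := fun χ hχ => by
    have := mul_self_pos.2 (hne χ hχ)
    omega
  have htriv : trivChar G ∈ B := Set.mem_toFinset.2 (trivChar_mem_principal hM)
  have hmt : m (trivChar G) = 1 := by
    have := hm (trivChar G)
    simp only [trivChar_coe] at this
    exact_mod_cast this.symm
  have hle : ∀ χ ∈ B, m χ * m χ = 1 := by
    intro χ hχ
    have h4 : m χ * m χ ≤ 4 := hsum ▸ Finset.single_le_sum (f := fun η => m η * m η)
      (fun η _ => mul_self_nonneg (m η)) hχ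
    have hb1 : -2 ≤ m χ := by nlinarith
    have hb2 : m χ ≤ 2 := by nlinarith
    by_contra hne1
    have hsq : m χ * m χ = 4 := by
      have := hne χ hχ
      interval_cases h : m χ <;> simp_all
    have hχt : χ ≠ trivChar G := fun e => by rw [e, hmt] at hsq; norm_num at hsq
    have h2 := Finset.sum_le_sum_of_subset_of_nonneg (f := fun η => m η * m η)
      (s := {χ, trivChar G}) (t := B) (by simp [Finset.insert_subset_iff, hχ, htriv])
      (fun η hη _ => mul_self_nonneg _)
    rw [hsum, Finset.sum_pair hχt, hsq, hmt] at h2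
    norm_num at h2
  refine ⟨fun χ hχ => ?_, ?_⟩
  · rcases mul_self_eq_one_iff.1 (hle χ (Set.mem_toFinset.2 hχ)) with h | h <;>
      simp [hm, h]
  · rw [Finset.sum_congr rfl hle, Finset.sum_const] at hsum
    rw [Nat.card_coe_set_eq, Set.ncard_eq_toFinset_card']
    simp only [hB] at hsum ⊢
    simp only [Int.nsmul_eq_mul, mul_one, nsmul_eq_mul] at hsum
    exact_mod_cast hsum

include hM hP hz in
open Classical in
/-- The relation between the degrees in the principal block. -/
theorem klein_relation {y : G} (hy : IsPRegular 2 y) :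
    ∑ χ ∈ (principalBlock M G).toFinset, (χ : G → ℂ) z * (χ : G → ℂ) y = 0 := by
  have hG : (Nat.card G : ℂ) ≠ 0 := Char.card_cast_ne_zero
  have hy' : IsPRegular 2 y⁻¹ := by rwa [IsPRegular, orderOf_inv]
  have h0 : ∑ g ∈ Finset.univ.filter (fun g : G => ¬ IsPRegular 2 g),
      ∑ χ : IrrCharacter G, (χ : G → ℂ) g * conj ((χ : G → ℂ) y⁻¹) = 0 := by
    refine Finset.sum_eq_zero fun g hg => ?_
    rw [Char.column_orthogonality, if_neg]
    intro hc
    obtain ⟨c, hc⟩ := isConj_iff.1 hc
    refine (Finset.mem_filter.1 hg).2 ?_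
    rw [← isPRegular_conj_iff g c, hc]
    exact hy'
  rw [Finset.sum_comm] at h0
  simp only [← Finset.sum_mul] at h0
  have h1 := congrArg (fun t => 4 * t) h0
  simp only [Finset.mul_sum, mul_zero, ← mul_assoc, klein_sum_singular hM hP hz] at h1
  simp only [mul_ite, ite_mul, mul_zero, zero_mul, ← Finset.sum_filter, mul_assoc,
    ← Finset.mul_sum] at h1
  rw [mul_eq_zero, or_iff_right hG] at h1
  refine Eq.trans (Finset.sum_congr (by ext; simp) fun χ _ => ?_) h1
  rw [χ.2.isCharacter.apply_inv, Complex.conj_conj]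

include hM hP hz in
/-- The degree congruence modulo four. -/
theorem klein_degree_congr (χ : IrrCharacter G) {ε : ℤ} (hε : (χ : G → ℂ) z = ε) :
    (4 : ℤ) ∣ (charDegree (χ : G → ℂ) : ℤ) + 3 * ε := by
  classical
  letI : Fintype (P : Subgroup G) := Fintype.ofFinite _
  obtain ⟨n, hn⟩ := (χ.2.isCharacter.comp (P : Subgroup G).subtype).exists_nat_classInner
    (Char.isCharacter_one (G := (P : Subgroup G)))
  rw [classInner] at hn
  simp only [map_one, mul_one, Subgroup.coe_subtype] at hn
  have hval : ∀ x : (P : Subgroup G), x ≠ 1 → (χ : G → ℂ) (x : G) = ε := by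
    intro x hx
    have hx2 : orderOf (x : G) = 2 :=
      orderOf_eq_two_of_sq (hP.sq x x.2) fun e => hx (Subtype.ext e)
    obtain ⟨c, hc⟩ := isConj_iff.1 (hP.fuse _ _ hx2 hz)
    rw [← hε, ← hc]
    exact (χ.2.isClassFunction _ c).symm
  rw [← Finset.add_sum_erase _ _ (Finset.mem_univ (1 : (P : Subgroup G))),
    Finset.sum_congr rfl (fun x hx => hval x (Finset.mem_erase.1 hx).1), Finset.sum_const,
    Finset.card_erase_of_mem (Finset.mem_univ _), Finset.card_univ, ← Nat.card_eq_fintype_card,
    show Nat.card (P : Subgroup G) = 4 from hP.card, OneMemClass.coe_one,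
    apply_one_eq_charDegree] at hn
  refine ⟨n, ?_⟩
  have e : (((charDegree (χ : G → ℂ) : ℤ) + 3 * ε : ℤ) : ℂ) = ((4 * n : ℤ) : ℂ) := by
    push_cast
    norm_num at hn
    linear_combination 4 * hn
  exact_mod_cast e

end Cfsg.Lib.Block
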