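import Cfsg.Agent.Lib.Block.InflateRegular
import Cfsg.Agent.Lib.Char.Galois
import Mathlib.FieldTheory.IsAlgClosed.Classification
import Mathlib.FieldTheory.Normal.Basic

/-!
# Twisting characters by field automorphisms of the complex numbers
-/

set_option autoImplicit false
set_option linter.unusedSectionVars false
set_option linter.style.haveILetI false

namespace Cfsg.Lib.Block

open Cfsg
open scoped IntermediateField

universe u

/-- An automorphism of a subfield of the complex numbers extends to the complex numbers. -/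
theorem exists_ringEquiv_extend (F : IntermediateField ℚ ℂ) (σ : F ≃+* F) :
    ∃ s : ℂ ≃+* ℂ, ∀ a : F, s a = (σ a : ℂ) := by
  obtain ⟨S, hS⟩ := exists_isTranscendenceBasis F ℂ
  letI := IsAlgClosed.isAlgClosure_of_transcendence_basis (R := F) ((↑) : S → ℂ) hS
  let e : Algebra.adjoin F (Set.range ((↑) : S → ℂ)) ≃+*
      Algebra.adjoin F (Set.range ((↑) : S → ℂ)) :=
    (hS.1.aevalEquiv.symm.toRingEquiv.trans (MvPolynomial.mapEquiv S σ)).trans
      hS.1.aevalEquiv.toRingEquiv
  refine ⟨IsAlgClosure.equivOfEquiv ℂ ℂ e, fun a => ?_⟩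
  have h := IsAlgClosure.equivOfEquiv_algebraMap ℂ ℂ e
    (algebraMap F (Algebra.adjoin F (Set.range ((↑) : S → ℂ))) a)
  refine h.trans ?_
  show algebraMap _ ℂ (hS.1.aevalEquiv (MvPolynomial.mapEquiv S σ
    (hS.1.aevalEquiv.symm (algebraMap F _ a)))) = _
  rw [AlgEquiv.commutes, AlgebraicIndependent.algebraMap_aevalEquiv, MvPolynomial.mapEquiv_apply,
    MvPolynomial.algebraMap_eq, MvPolynomial.map_C, MvPolynomial.aeval_C]
  rfl

variable {G : Type u} [Group G]

/-- A power map with exponent prime to the order is realised by a field automorphism. -/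
theorem exists_ringEquiv_pow [Finite G] {k : ℕ} (hk : k.Coprime (Nat.card G)) :
    ∃ s : ℂ ≃+* ℂ, (∀ z : ℂ, z ^ Nat.card G = 1 → s z = z ^ k) ∧
      ∀ (χ : G → ℂ), IsCharacter G χ → ∀ g, s (χ g) = χ (g ^ k) := by
  haveI : NeZero (Nat.card G) := ⟨Nat.card_pos.ne'⟩
  obtain ⟨σ, hσ⟩ := Char.exists_of_coprime hk
  haveI := Char.finiteDimensional_cycField (Nat.card G)
  have hmem : ∀ x : Char.cycField (Nat.card G), σ x ∈ Char.cycField (Nat.card G) := by
    intro x
    have hx : (x : ℂ) ∈ (Algebra.adjoin ℚ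
        {Complex.exp (2 * Real.pi * Complex.I / (Nat.card G : ℂ))}) := by
      rw [← IntermediateField.adjoin_simple_toSubalgebra_of_isAlgebraic
        (Char.zeta_isIntegral (Nat.card G)).isAlgebraic]
      exact x.2
    rw [Algebra.adjoin_singleton_eq_range_aeval] at hx
    obtain ⟨r, hr⟩ := hx
    have hx' : x = Polynomial.aeval (Char.cycGen (Nat.card G)) r := by
      refine Subtype.ext (hr.symm.trans ?_)
      exact (IntermediateField.AdjoinSimple.coe_aeval_gen_apply ℚ (f := r) _).symm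
    have hgen : ((Char.cycGen (Nat.card G) : Char.cycField (Nat.card G)) : ℂ) ^ Nat.card G = 1 := by
      rw [Char.cycGen_val]
      exact (Complex.isPrimitiveRoot_exp _ (NeZero.ne _)).pow_eq_one
    rw [hx', ← Polynomial.aeval_algHom_apply, hσ _ hgen]
    have hpow : Polynomial.aeval ((Char.cycGen (Nat.card G) : ℂ) ^ k) r =
        ((Polynomial.aeval (Char.cycGen (Nat.card G) ^ k) r : Char.cycField (Nat.card G)) : ℂ) := by
      have := Polynomial.aeval_algHom_apply (Char.cycField (Nat.card G)).val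
        (Char.cycGen (Nat.card G) ^ k) r
      simpa using this
    rw [hpow]
    exact SetLike.coe_mem _
  let σ₀ : Char.cycField (Nat.card G) →ₐ[ℚ] Char.cycField (Nat.card G) :=
    σ.codRestrict (Char.cycField (Nat.card G)).toSubalgebra hmem
  let σ₁ : Char.cycField (Nat.card G) ≃ₐ[ℚ] Char.cycField (Nat.card G) :=
    AlgEquiv.ofBijective σ₀ (Algebra.IsAlgebraic.algHom_bijective σ₀)
  obtain ⟨s, hs⟩ := exists_ringEquiv_extend _ σ₁.toRingEquiv
  refine ⟨s, fun z hz => ?_, fun χ hχ g => ?_⟩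
  · rw [show z = ((⟨z, Char.mem_cycField hz⟩ : Char.cycField (Nat.card G)) : ℂ) from rfl, hs]
    exact hσ _ hz
  · rw [show χ g = ((Char.charVal dvd_rfl hχ g : Char.cycField (Nat.card G)) : ℂ) from rfl, hs]
    exact Char.galois_charVal dvd_rfl hσ hχ g

/-- A field automorphism acts on the characters through a power map. -/
theorem exists_pow_of_ringEquiv [Finite G] (s : ℂ ≃+* ℂ) :
    ∃ k : ℕ, k.Coprime (Nat.card G) ∧ (∀ z : ℂ, z ^ Nat.card G = 1 → s z = z ^ k) ∧
      ∀ (χ : G → ℂ), IsCharacter G χ → ∀ g, s (χ g) = χ (g ^ k) := by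
  haveI : NeZero (Nat.card G) := ⟨Nat.card_pos.ne'⟩
  let σ : Char.cycField (Nat.card G) →ₐ[ℚ] ℂ :=
    { (s : ℂ →+* ℂ).comp (Char.cycField (Nat.card G)).val.toRingHom with
      commutes' := fun r => by
        show s (algebraMap ℚ ℂ r) = algebraMap ℚ ℂ r
        simp }
  obtain ⟨k, hk, hσ⟩ := Char.exists_actsAsPow σ
  exact ⟨k, hk, fun z hz => hσ ⟨z, Char.mem_cycField hz⟩ hz,
    fun χ hχ g => Char.galois_charVal dvd_rfl hσ hχ g⟩

/-- An exponent fixing the roots of unity of order `m` is congruent to one modulo `m`. -/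
theorem modEq_one_of_root {m k : ℕ} (hm : m ≠ 0)
    (h : Complex.exp (2 * Real.pi * Complex.I / (m : ℂ)) ^ k =
      Complex.exp (2 * Real.pi * Complex.I / (m : ℂ))) : k ≡ 1 [MOD m] := by
  have hζ := Complex.isPrimitiveRoot_exp m hm
  have hmod : ∀ j, Complex.exp (2 * Real.pi * Complex.I / (m : ℂ)) ^ (j % m) =
      Complex.exp (2 * Real.pi * Complex.I / (m : ℂ)) ^ j := fun j =>
    (pow_eq_pow_mod j hζ.pow_eq_one).symm
  refine hζ.pow_inj (Nat.mod_lt _ (Nat.pos_of_ne_zero hm))
    (Nat.mod_lt _ (Nat.pos_of_ne_zero hm)) ?_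
  rw [hmod, hmod, h, pow_one]

/-- The power twist of an irreducible character. -/
def powTwist [Finite G] (k : ℕ) (hk : k.Coprime (Nat.card G)) (χ : IrrCharacter G) :
    IrrCharacter G :=
  ⟨fun g => (χ : G → ℂ) (g ^ k), Char.isIrrCharacter_comp_pow hk χ.2⟩

theorem powTwist_apply [Finite G] (k : ℕ) (hk : k.Coprime (Nat.card G)) (χ : IrrCharacter G)
    (g : G) : (powTwist k hk χ : G → ℂ) g = (χ : G → ℂ) (g ^ k) := rfl

theorem powTwist_injective [Finite G] (k : ℕ) (hk : k.Coprime (Nat.card G)) :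
    Function.Injective (powTwist (G := G) k hk) := fun χ ψ h => by
  refine Subtype.ext (funext fun g => ?_)
  obtain ⟨g', rfl⟩ := (Char.powBij_of_coprime hk).surjective g
  exact congrArg (fun η : IrrCharacter G => (η : G → ℂ) g') h

/-- An exponent congruent to one modulo the `p'`-part of the order fixes the regular elements. -/
theorem pow_eq_self_of_regular [Finite G] {p k : ℕ} [Fact p.Prime]
    (hk : k ≡ 1 [MOD Nat.card G / p ^ (Nat.card G).factorization p]) {g : G}
    (hg : IsPRegular p g) : g ^ k = g := by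
  have hdvd : orderOf g ∣ Nat.card G / p ^ (Nat.card G).factorization p := by
    refine Nat.Coprime.dvd_of_dvd_mul_right (k := orderOf g)
      (n := p ^ (Nat.card G).factorization p) ?_ ?_
    · exact Nat.Coprime.pow_right _ (((Fact.out : p.Prime).coprime_iff_not_dvd.2 hg).symm)
    · rw [Nat.div_mul_cancel (Nat.ordProj_dvd _ _)]
      exact orderOf_dvd_natCard g
  rw [← pow_mod_orderOf g k, show k % orderOf g = 1 % orderOf g from hk.of_dvd hdvd,
    pow_mod_orderOf, pow_one]

/-- Twists fixing the regular elements preserve blocks. -/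
theorem powTwist_mem [Fintype G] {p k : ℕ} [Fact p.Prime] {M : Ideal AlgInt}
    (hM : IsPModular p M) (hk : k.Coprime (Nat.card G))
    (hk1 : k ≡ 1 [MOD Nat.card G / p ^ (Nat.card G).factorization p])
    {B : Set (IrrCharacter G)} (hB : IsPBlock M B) {χ : IrrCharacter G} (hχ : χ ∈ B) :
    powTwist k hk χ ∈ B := by
  rw [eq_blockOf_of_mem hM hB hχ]
  refine sameBlock_of_regular_centralizer hM (⊥ : Subgroup G) IsPGroup.of_bot fun g hg _ => ?_
  have hone : IsPRegular p (1 : G) := by simp [IsPRegular, (Fact.out : p.Prime).ne_one]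
  have h1 : (powTwist k hk χ : G → ℂ) g = (χ : G → ℂ) g := by
    rw [powTwist_apply, pow_eq_self_of_regular hk1 hg]
  have h2 : (powTwist k hk χ : G → ℂ) 1 = (χ : G → ℂ) 1 := by rw [powTwist_apply, one_pow]
  simp only [centralChar, h1, h2, sub_self]
  exact memLocalIdeal_zero hM

/-- Power maps commute with induction. -/
theorem indFun_comp_pow [Fintype G] {k : ℕ} (hk : k.Coprime (Nat.card G)) (H : Subgroup G)
    (F : H → ℂ) (g : G) : indFun H F (g ^ k) = indFun H (fun h => F (h ^ k)) g := by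
  classical
  unfold indFun
  congr 1
  refine Finset.sum_congr rfl fun x _ => ?_
  have e : x⁻¹ * g ^ k * x = (x⁻¹ * g * x) ^ k := by
    simpa using (conj_pow (a := x⁻¹) (b := g) (i := k)).symm
  have hiff : (x⁻¹ * g * x) ^ k ∈ H ↔ x⁻¹ * g * x ∈ H := by
    refine ⟨fun h => ?_, fun h => H.pow_mem h k⟩
    obtain ⟨n, hn⟩ := exists_pow_eq_self_of_coprime
      (hk.coprime_dvd_right (orderOf_dvd_natCard (x⁻¹ * g * x)))
    rw [← hn]
    exact H.pow_mem h n
  simp only [extendByZero, e]
  by_cases h : x⁻¹ * g * x ∈ H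
  · exact (Subtype.val_injective.extend_apply F 0 (⟨_, h⟩ ^ k : H)).trans
      (Subtype.val_injective.extend_apply (fun a : H => F (a ^ k)) 0 ⟨_, h⟩).symm
  · rw [Function.extend_apply' _ _ _ (by rintro ⟨a, ha⟩; exact h (hiff.1 (ha ▸ a.2))),
      Function.extend_apply' _ _ _ (by rintro ⟨a, ha⟩; exact h (ha ▸ a.2))]
    rfl

end Cfsg.Lib.Block
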