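import Cfsg.Agent.Lib.Block.AlperinRestriction
import Cfsg.Agent.Lib.Block.PrincipalSums
import Cfsg.Agent.Lib.Block.GaloisTwist
import Cfsg.Agent.Lib.Char.LinearExt
import Cfsg.Agent.Lib.Char.ColumnField

/-!
# Normalized rational extensions of characters of the principal block
-/

set_option autoImplicit false
set_option linter.unusedSectionVars false
set_option linter.style.haveILetI false

namespace Cfsg.Lib.Block

open Cfsg Cfsg.Lib Module
open scoped ComplexConjugate

universe u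

section Twist

variable {G : Type u} [Group G] [Finite G] {p : ℕ} [Fact p.Prime]

/-- A p-rational character is fixed by the power maps congruent to one modulo the `p'`-part of the
order. -/
theorem apply_pow_of_pRational {m k : ℕ} (hpm : ¬ p ∣ m) {χ : G → ℂ} (hχ : IsCharacter G χ)
    (hrat : ∀ g, χ g ∈ IntermediateField.adjoin ℚ
      ({Complex.exp (2 * Real.pi * Complex.I / m)} : Set ℂ))
    (hk : k.Coprime (Nat.card G))
    (hk1 : k ≡ 1 [MOD Nat.card G / p ^ (Nat.card G).factorization p]) (g : G) :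
    χ (g ^ k) = χ g := by
  have hp : p.Prime := Fact.out
  have hn0 : Nat.card G ≠ 0 := Nat.card_pos.ne'
  set a := (Nat.card G).factorization p with ha
  set n' := Nat.card G / p ^ a with hn'
  have hm0 : m ≠ 0 := fun h => hpm (h ▸ dvd_zero p)
  have hpn' : ¬ p ∣ n' := Nat.not_dvd_ordCompl hp hn0
  have hn'0 : n' ≠ 0 := fun h => hpn' (h ▸ dvd_zero p)
  set R := Nat.lcm n' m with hR
  have hR0 : R ≠ 0 := Nat.lcm_ne_zero hn'0 hm0
  have hpR : ¬ p ∣ R := fun h => by
    rcases hp.dvd_mul.1 (h.trans (Nat.lcm_dvd_mul n' m)) with h1 | h1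
    · exact hpn' h1
    · exact hpm h1
  have hco : Nat.Coprime (p ^ a) R := Nat.Coprime.pow_left _ (hp.coprime_iff_not_dvd.2 hpR)
  obtain ⟨k', hk'1, hk'2⟩ := Nat.chineseRemainder hco k 1
  have hmod : k' ≡ k [MOD Nat.card G] := by
    rw [← Nat.ordProj_mul_ordCompl_eq_self (Nat.card G) p]
    refine (Nat.modEq_and_modEq_iff_modEq_mul
      (Nat.Coprime.pow_left _ (hp.coprime_iff_not_dvd.2 hpn'))).1 ⟨hk'1, ?_⟩
    exact (hk'2.of_dvd (Nat.dvd_lcm_left _ _)).trans hk1.symm
  haveI : NeZero (p ^ a * R) := ⟨Nat.mul_ne_zero (pow_ne_zero _ hp.ne_zero) hR0⟩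
  have hk' : k'.Coprime (p ^ a * R) := Nat.Coprime.mul_right
    (by rw [Nat.Coprime, hk'1.gcd_eq]; exact hk.coprime_dvd_right (Nat.ordProj_dvd _ _))
    (by rw [Nat.Coprime, hk'2.gcd_eq, Nat.gcd_one_left])
  obtain ⟨σ, hσ⟩ := Char.exists_of_coprime hk'
  have hdvd : Nat.card G ∣ p ^ a * R := by
    conv_lhs => rw [← Nat.ordProj_mul_ordCompl_eq_self (Nat.card G) p]
    exact mul_dvd_mul_left _ (Nat.dvd_lcm_left _ _)
  have h1 := Char.galois_charVal hdvd hσ hχ g
  have hgk : g ^ k' = g ^ k := pow_eq_pow_iff_modEq.2 (hmod.of_dvd (orderOf_dvd_natCard g))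
  rw [hgk] at h1
  haveI : NeZero m := ⟨hm0⟩
  set ζ := Complex.exp (2 * Real.pi * Complex.I / (m : ℂ)) with hζ
  have hζp : IsPrimitiveRoot ζ m := Complex.isPrimitiveRoot_exp m hm0
  have hζN : ζ ^ (p ^ a * R) = 1 := by
    obtain ⟨t, ht⟩ : m ∣ p ^ a * R := (Nat.dvd_lcm_right n' m).mul_left _
    rw [ht, pow_mul, hζp.pow_eq_one, one_pow]
  have hζmem : ζ ∈ Char.cycField (p ^ a * R) := Char.mem_cycField hζN
  have hle : IntermediateField.adjoin ℚ ({ζ} : Set ℂ) ≤ Char.cycField (p ^ a * R) :=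
    IntermediateField.adjoin_simple_le_iff.2 hζmem
  have heq : σ.comp (IntermediateField.inclusion hle) =
      (IntermediateField.adjoin ℚ ({ζ} : Set ℂ)).val := by
    refine (IntermediateField.adjoin.powerBasis (Char.zeta_isIntegral m)).algHom_ext ?_
    rw [IntermediateField.adjoin.powerBasis_gen]
    show σ ⟨ζ, hζmem⟩ = ζ
    rw [hσ ⟨ζ, hζmem⟩ hζN]
    show ζ ^ k' = ζ
    conv_rhs => rw [← pow_one ζ]
    have hk'm : k' ≡ 1 [MOD m] := hk'2.of_dvd (Nat.dvd_lcm_right _ _)
    rw [pow_eq_pow_mod k' hζp.pow_eq_one, show k' % m = 1 % m from hk'm,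
      ← pow_eq_pow_mod 1 hζp.pow_eq_one]
  have h2 := DFunLike.congr_fun heq ⟨χ g, hrat g⟩
  exact h1.symm.trans h2

/-- A character fixed by the power maps congruent to one modulo the `p'`-part of the order has
values in the corresponding cyclotomic field. -/
theorem mem_adjoin_of_apply_pow {χ : G → ℂ} (hχ : IsCharacter G χ)
    (h : ∀ k : ℕ, k.Coprime (Nat.card G) →
      k ≡ 1 [MOD Nat.card G / p ^ (Nat.card G).factorization p] → ∀ g, χ (g ^ k) = χ g) (g : G) :
    χ g ∈ IntermediateField.adjoin ℚ ({Complex.exp (2 * Real.pi * Complex.I /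
      (Nat.card G / p ^ (Nat.card G).factorization p : ℕ))} : Set ℂ) := by
  have hp : p.Prime := Fact.out
  have hn0 : Nat.card G ≠ 0 := Nat.card_pos.ne'
  set n' := Nat.card G / p ^ (Nat.card G).factorization p with hn'
  have hn'0 : n' ≠ 0 := (Nat.ordCompl_pos p hn0).ne'
  haveI : NeZero (Nat.card G) := ⟨hn0⟩
  have hζp := Complex.isPrimitiveRoot_exp n' hn'0
  have hζN : Complex.exp (2 * Real.pi * Complex.I / (n' : ℂ)) ^ Nat.card G = 1 := by
    obtain ⟨t, ht⟩ := Nat.ordCompl_dvd (Nat.card G) p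
    rw [ht, ← hn', pow_mul, hζp.pow_eq_one, one_pow]
  refine Char.mem_of_fixed (IntermediateField.adjoin_simple_le_iff.2 (Char.mem_cycField hζN))
    (Char.charVal (dvd_refl _) hχ g) fun σ hσ => ?_
  obtain ⟨k, hk, hact⟩ := Char.exists_actsAsPow σ
  have hk1 : k ≡ 1 [MOD n'] := by
    refine modEq_one_of_root hn'0 ?_
    rw [← hact ⟨_, Char.mem_cycField hζN⟩ hζN]
    exact hσ _ (IntermediateField.mem_adjoin_simple_self ℚ _)
  rw [Char.galois_charVal (dvd_refl _) hact hχ g, h k hk hk1 g]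
  rfl

variable {V : Type*} [AddCommGroup V] [Module ℂ V] [FiniteDimensional ℂ V]

/-- The determinant of a power twist. -/
theorem detHom_of_char_pow {W : Type*} [AddCommGroup W] [Module ℂ W] [FiniteDimensional ℂ W]
    {k : ℕ} (ρ : Representation ℂ G V) (σ : Representation ℂ G W)
    (h : ∀ x, σ.character x = ρ.character (x ^ k)) (x : G) :
    Char.detHom σ x = Char.detHom ρ x ^ k := by
  let τ : Representation ℂ (Subgroup.zpowers x) V :=
    { toFun := fun z => ρ ((z : G) ^ k)
      map_one' := by simp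
      map_mul' := fun z w => by
        obtain ⟨i, hi⟩ := Subgroup.mem_zpowers_iff.1 z.2
        obtain ⟨j, hj⟩ := Subgroup.mem_zpowers_iff.1 w.2
        have hc : Commute (z : G) (w : G) := hi ▸ hj ▸ Commute.zpow_zpow_self x i j
        rw [Subgroup.coe_mul, hc.mul_pow, map_mul] }
  obtain ⟨φ⟩ := Char.nonempty_equiv_of_character_eq τ (σ.comp (Subgroup.zpowers x).subtype)
    (funext fun z => (h z).symm)
  refine Units.ext ?_
  rw [Units.val_pow_eq_pow_val, Char.detHom_apply, Char.detHom_apply, ← map_pow, ← map_pow]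
  exact Char.det_eq_of_equiv φ ⟨x, Subgroup.mem_zpowers x⟩

/-- A p-rational representation has determinant of order prime to `p`, for odd `p`. -/
theorem detHom_pow_ordCompl_eq_one (hp2 : p ≠ 2) (σ : Representation ℂ G V)
    (h : ∀ k : ℕ, k.Coprime (Nat.card G) →
      k ≡ 1 [MOD Nat.card G / p ^ (Nat.card G).factorization p] →
      ∀ x, σ.character (x ^ k) = σ.character x) (x : G) :
    Char.detHom σ x ^ (Nat.card G / p ^ (Nat.card G).factorization p) = 1 := by
  have hp : p.Prime := Fact.out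
  have hn0 : Nat.card G ≠ 0 := Nat.card_pos.ne'
  set a := (Nat.card G).factorization p with ha
  set n' := Nat.card G / p ^ a with hn'
  have hpn' : ¬ p ∣ n' := Nat.not_dvd_ordCompl hp hn0
  have hco : Nat.Coprime (p ^ a) n' := Nat.Coprime.pow_left _ (hp.coprime_iff_not_dvd.2 hpn')
  obtain ⟨k, hk1, hk2⟩ := Nat.chineseRemainder hco 2 1
  have h2 : Nat.Coprime 2 (p ^ a) := Nat.Coprime.pow_right _ (Nat.coprime_two_left.2
    (hp.odd_of_ne_two hp2))
  have hmul : p ^ a * n' = Nat.card G := Nat.ordProj_mul_ordCompl_eq_self _ _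
  have hk : k.Coprime (Nat.card G) := by
    rw [← hmul]
    exact Nat.Coprime.mul_right (by rw [Nat.Coprime, hk1.gcd_eq]; exact h2)
      (by rw [Nat.Coprime, hk2.gcd_eq, Nat.gcd_one_left])
  set z := Char.detHom σ x with hz
  have hzk : z ^ k = z ^ 1 := by
    rw [pow_one, hz, ← detHom_of_char_pow σ σ (fun y => (h k hk hk2 y).symm) x]
  have hdvd : orderOf z ∣ Nat.card G := orderOf_dvd_of_pow_eq_one (by
    rw [hz, ← map_pow, pow_card_eq_one', map_one])
  have hmod := pow_eq_pow_iff_modEq.1 hzk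
  refine orderOf_dvd_iff_pow_eq_one.1 (Nat.Coprime.dvd_of_dvd_mul_left ?_
    (hmul.symm ▸ hdvd : orderOf z ∣ p ^ a * n'))
  refine Nat.Coprime.pow_right _ (hp.coprime_iff_not_dvd.2 fun hpz => ?_).symm
  have ha0 : a ≠ 0 := (hp.factorization_pos_of_dvd hn0 (hpz.trans hdvd)).ne'
  have h21 : 2 ≡ 1 [MOD p] :=
    ((hk1.of_dvd (dvd_pow_self p ha0)).symm).trans (hmod.of_dvd hpz)
  have := (Nat.modEq_iff_dvd' (by norm_num)).1 h21.symm
  exact hp.ne_one (Nat.dvd_one.1 this)

end Twist

variable {G : Type u} [Group G] [Fintype G] {N : Subgroup G} [hN : N.Normal]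
  {p : ℕ} [Fact p.Prime] {M : Ideal AlgInt} {d : ℕ}

/-- Normalized extensions with determinant of order prime to `p` are unique. -/
theorem eq_of_normalized (hM : IsPModular p M) (C : Subgroup G) (hcov : N ⊔ C = ⊤)
    {σ : Representation ℂ N (Fin d → ℂ)} [σ.IsIrreducible] (hd : ¬ p ∣ d)
    {ρ ρ' : Representation ℂ G (Fin d → ℂ)}
    (hρ : ∀ n : N, ρ (n : G) = σ n) (hρ' : ∀ n : N, ρ' (n : G) = σ n)
    (hdet : ∃ m, ¬ p ∣ m ∧ ∀ x, Char.detHom ρ x ^ m = 1)
    (hdet' : ∃ m, ¬ p ∣ m ∧ ∀ x, Char.detHom ρ' x ^ m = 1)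
    (hu : ∀ c ∈ C, MemLocalIdeal M (ρ.character c / (d : ℂ) - 1))
    (hu' : ∀ c ∈ C, MemLocalIdeal M (ρ'.character c / (d : ℂ) - 1)) : ρ' = ρ := by
  have hp : p.Prime := Fact.out
  obtain ⟨lam, hlamN, hlam⟩ := Char.exists_hom_of_two_extensions hρ hρ'
  obtain ⟨m, hm, hdm⟩ := hdet
  obtain ⟨m', hm', hdm'⟩ := hdet'
  have hpow : ∀ x, lam x ^ (d * (m * m')) = 1 := fun x => by
    have h1 : Char.detHom ρ' x = lam x ^ d * Char.detHom ρ x := Units.ext (by
      rw [Char.detHom_apply, hlam x, LinearMap.det_smul, Module.finrank_fintype_fun_eq_card,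
        Fintype.card_fin, Units.val_mul, Units.val_pow_eq_pow_val, Char.detHom_apply])
    have h2 : Char.detHom ρ' x ^ (m * m') = 1 := by rw [mul_comm, pow_mul, hdm', one_pow]
    rw [h1, mul_pow, pow_mul (Char.detHom ρ x), hdm, one_pow, mul_one, ← pow_mul] at h2
    exact h2
  have hpm : ¬ p ∣ d * (m * m') := fun h => by
    rcases hp.dvd_mul.1 h with h1 | h1
    · exact hd h1
    · rcases hp.dvd_mul.1 h1 with h2 | h2
      · exact hm h2
      · exact hm' h2
  have hC : C ≤ lam.ker := fun c hc => by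
    rw [MonoidHom.mem_ker]
    refine Units.ext (eq_one_of_memLocalIdeal_sub_one hM hpm (by
      rw [← Units.val_pow_eq_pow_val, hpow, Units.val_one]) ?_)
    have hroot : ((lam c : ℂˣ) : ℂ) ∈ locRing hM :=
      root_of_unity_mem_locRing hM (Nat.pos_of_ne_zero (fun (h0 : d * (m * m') = 0) => hpm (by rw [h0]; exact dvd_zero p)))
        (by rw [← Units.val_pow_eq_pow_val, hpow, Units.val_one])
    have hval : ρ'.character c = (lam c : ℂ) * ρ.character c := by
      show LinearMap.trace ℂ _ (ρ' c) = _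
      rw [hlam c, map_smul, smul_eq_mul]; rfl
    have h := memLocalIdeal_sub hM (hu' c hc) (memLocalIdeal_mul_left hM hroot (hu c hc))
    rw [hval] at h
    convert h using 1
    ring
  have htop : (⊤ : Subgroup G) ≤ lam.ker :=
    hcov ▸ sup_le (fun n hn => MonoidHom.mem_ker.2 (hlamN n hn)) hC
  refine MonoidHom.ext fun g => ?_
  rw [hlam g, MonoidHom.mem_ker.1 (htop (Subgroup.mem_top g)), Units.val_one, one_smul]

variable (N) in
/-- A Sylow subgroup seen inside an intermediate group, with its centralizer. -/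
theorem exists_sylow_subgroupOf (P : Sylow p N) (K : Subgroup G) (hNK : N ≤ K)
    (hK : K ≤ N ⊔ Subgroup.centralizer (((P : Subgroup N).map N.subtype : Subgroup G) : Set G)) :
    ∃ P' : Sylow p (N.subgroupOf K),
      (∀ c : K, c ∈ Subgroup.centralizer
          (((P' : Subgroup (N.subgroupOf K)).map (N.subgroupOf K).subtype : Subgroup K) : Set K) ↔
        (c : G) ∈ Subgroup.centralizer (((P : Subgroup N).map N.subtype : Subgroup G) : Set G)) ∧
      N.subgroupOf K ⊔ Subgroup.centralizer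
        (((P' : Subgroup (N.subgroupOf K)).map (N.subgroupOf K).subtype : Subgroup K) : Set K)
          = ⊤ := by
  let e := Subgroup.subgroupOfEquivOfLe hNK
  have hsurj : Function.Surjective e.symm.toMonoidHom := e.symm.surjective
  let P' : Sylow p (N.subgroupOf K) := P.mapSurjective hsurj
  have hP' : (P' : Subgroup (N.subgroupOf K)) = (P : Subgroup N).map e.symm.toMonoidHom := rfl
  refine ⟨P', ?_⟩
  have hmem : ∀ c : K, c ∈ Subgroup.centralizer
      (((P' : Subgroup (N.subgroupOf K)).map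
        (N.subgroupOf K).subtype : Subgroup K) : Set K) ↔
      (c : G) ∈ Subgroup.centralizer (((P : Subgroup N).map N.subtype : Subgroup G) : Set G) := by
    intro c
    rw [hP', Subgroup.mem_centralizer_iff, Subgroup.mem_centralizer_iff]
    constructor
    · rintro h y ⟨n, hn, rfl⟩
      exact congrArg Subtype.val (h ⟨(n : G), hNK n.2⟩ ⟨e.symm n, ⟨n, hn, rfl⟩, rfl⟩)
    · rintro h y ⟨y', ⟨n, hn, rfl⟩, rfl⟩
      exact Subtype.ext (h (n : G) ⟨n, hn, rfl⟩)
  refine ⟨hmem, eq_top_iff.2 fun x _ => ?_⟩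
  have hx := hK x.2
  rw [← SetLike.mem_coe, Subgroup.normal_mul] at hx
  obtain ⟨n, hn, c, hc, hnc⟩ := Set.mem_mul.mp hx
  have hcK : c ∈ K := by
    have := K.mul_mem (K.inv_mem (hNK hn)) x.2
    rwa [← hnc, inv_mul_cancel_left] at this
  rw [show x = (⟨n, hNK hn⟩ : K) * ⟨c, hcK⟩ from Subtype.ext hnc.symm]
  exact Subgroup.mul_mem _ (Subgroup.mem_sup_left (Subgroup.mem_subgroupOf.2 hn))
    (Subgroup.mem_sup_right ((hmem ⟨c, hcK⟩).2 hc))

/-- Membership in the principal block is preserved by isomorphisms. -/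
theorem compIrr_mem_principal {A B : Type u} [Group A] [Group B] (e : A ≃* B)
    {χ : IrrCharacter B} (h : χ ∈ principalBlock M B) :
    compIrr e χ ∈ principalBlock M A :=
  (sameBlock_compIrr e (trivChar B) χ).2 h

variable (N) [Fintype N]

/-- A character of the principal block with determinant order and degree prime to `p` has a
normalized extension in the principal block. -/
theorem exists_normalized_rep (hM : IsPModular p M) (P : Sylow p N)
    (hcov : N ⊔ Subgroup.centralizer (((P : Subgroup N).map N.subtype : Subgroup G) : Set G) = ⊤)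
    (θ : IrrCharacter N) (hθ : θ ∈ principalBlock M N) (σ : Representation ℂ N (Fin d → ℂ))
    [σ.IsIrreducible] (hσθ : σ.character = (θ : N → ℂ)) (hd : ¬ p ∣ d)
    (hdet : ¬ p ∣ orderOf (Char.detHom σ)) :
    ∃ ρ : Representation ℂ G (Fin d → ℂ), (∀ n : N, ρ (n : G) = σ n) ∧
      (∃ m, ¬ p ∣ m ∧ ∀ x, Char.detHom ρ x ^ m = 1) ∧
      (∀ c ∈ Subgroup.centralizer (((P : Subgroup N).map N.subtype : Subgroup G) : Set G),
        MemLocalIdeal M (ρ.character c / (d : ℂ) - 1)) ∧
      ∃ χ : IrrCharacter G, (χ : G → ℂ) = ρ.character ∧ χ ∈ principalBlock M G := by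
  classical
  have hp : p.Prime := Fact.out
  have hinv : ∀ (g : G) (n : N), σ.character (MulAut.conjNormal g n) = σ.character n := fun g n => by
    rw [hσθ]; exact congrFun (invariant_of_covered N hM P hcov θ hθ g) n
  set o := orderOf (Char.detHom σ) with ho
  obtain ⟨ρ₀, hρ₀⟩ := Char.exists_extension_of_hom σ hinv (Char.intMem_of_primes _ fun r hr => by
    by_cases hrp : r = p
    · subst hrp
      refine ⟨d * o, Nat.Coprime.mul_left (hr.coprime_iff_not_dvd.2 hd).symm
        (hr.coprime_iff_not_dvd.2 hdet).symm,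
        (LinearMap.det.comp (Char.extOp σ)).toHomUnits ^ o, fun n => ?_, fun c => Units.ext ?_⟩
      · have h1 : (LinearMap.det.comp (Char.extOp σ)).toHomUnits (Char.extGraph σ n) =
            Char.detHom σ n := Units.ext rfl
        rw [MonoidHom.pow_apply, h1, ← MonoidHom.pow_apply, ho, pow_orderOf_eq_one]
        rfl
      · rw [MonoidHom.pow_apply, Units.val_pow_eq_pow_val, MonoidHom.coe_toHomUnits,
          zpow_natCast, Units.val_pow_eq_pow_val]
        show LinearMap.det (Char.extOp σ (Char.extScalar σ c)) ^ o = _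
        rw [Char.extOp_extScalar, LinearMap.det_smul, map_one, mul_one,
          Module.finrank_fintype_fun_eq_card, Fintype.card_fin, pow_mul]
    · haveI := Fact.mk hr
      obtain ⟨R⟩ : Nonempty (Sylow r G) := inferInstance
      set P0 := N ⊔ (R : Subgroup G) with hP0
      have hidx : ¬ p ∣ (N.subgroupOf P0).index := by
        show ¬ p ∣ N.relIndex P0
        rw [hP0, sup_comm, Subgroup.relIndex_sup_right]
        intro h
        have h1 := h.trans (N.relIndex_dvd_card (K := (R : Subgroup G)))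
        rw [R.card_eq_multiplicity] at h1
        exact hrp ((Nat.prime_dvd_prime_iff_eq hp hr).1 (hp.dvd_of_dvd_pow h1)).symm
      obtain ⟨P', -, hcov'⟩ := exists_sylow_subgroupOf N P P0 le_sup_left (by rw [hcov]; exact le_top)
      haveI := Fintype.ofFinite P0
      haveI := Fintype.ofFinite (N.subgroupOf P0)
      obtain ⟨η, -, hη⟩ := exists_principal_extension_of_index (N.subgroupOf P0) hM hidx P' hcov'
        (compIrr (Subgroup.subgroupOfEquivOfLe le_sup_left) θ)
        (compIrr_mem_principal _ hθ)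
      obtain ⟨ρP, hρP, -⟩ := Char.exists_rep_of_res_eq (Subgroup.inclusion (le_sup_left : N ≤ P0)) σ
        η.2.isCharacter (fun n => by
          rw [hσθ]
          exact (hη ⟨Subgroup.inclusion le_sup_left n, n.2⟩).trans (congrArg (θ : N → ℂ)
            (Subtype.ext rfl)))
      exact ⟨P0.index, ((hr.coprime_iff_not_dvd).2 fun h => R.not_dvd_index
        (h.trans (Subgroup.index_dvd_of_le le_sup_right))).symm,
        Char.index_mem_extExponents σ hinv P0 le_sup_left ρP hρP⟩)
  haveI := Char.isIrreducible_of_extension hρ₀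
  obtain ⟨χ₁, hχ₁, hu, hJ⟩ := exists_normalized_principal_extension N hM P hcov θ hθ
    ⟨⟨ρ₀.character, Char.isIrrCharacter_character ρ₀⟩, fun n => by
      show ρ₀.character (n : G) = _
      rw [← hσθ]
      exact congrArg (LinearMap.trace ℂ _) (hρ₀ n)⟩
  have hχ₁B : χ₁ ∈ principalBlock M G := by
    obtain ⟨ξ, hξ, hξv⟩ := hJ ⊤ le_top
    exact mem_principal_of_top χ₁ hξ hξv
  obtain ⟨ρ₁, hρ₁, hρ₁χ⟩ := Char.exists_rep_of_res_eq N.subtype σ χ₁.2.isCharacter
    (fun n => by rw [hσθ]; exact hχ₁ n)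
  have hd1 : (θ : N → ℂ) 1 = (d : ℂ) := by
    rw [← hσθ, Representation.char_one, Module.finrank_fintype_fun_eq_card, Fintype.card_fin]
  -- remove the `p`-part of the determinant
  have hn0 : Nat.card G ≠ 0 := Nat.card_pos.ne'
  set a := (Nat.card G).factorization p with ha
  set n' := Nat.card G / p ^ a with hn'
  have hpn' : ¬ p ∣ n' := Nat.not_dvd_ordCompl hp hn0
  have hmul : p ^ a * n' = Nat.card G := Nat.ordProj_mul_ordCompl_eq_self _ _
  set β : G →* ℂˣ := Char.detHom ρ₁ ^ n' with hβ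
  have hβp : ∀ x, β x ^ p ^ a = 1 := fun x => by
    rw [hβ, MonoidHom.pow_apply, ← pow_mul, mul_comm, hmul, ← map_pow, pow_card_eq_one', map_one]
  have hβN : ∀ n ∈ N, β n = 1 := fun n hn => by
    have h1 : Char.detHom ρ₁ n = Char.detHom σ ⟨n, hn⟩ :=
      Units.ext (congrArg LinearMap.det (hρ₁ ⟨n, hn⟩))
    rw [hβ, MonoidHom.pow_apply, h1]
    refine orderOf_dvd_iff_pow_eq_one.1 ?_
    have h2 : orderOf (Char.detHom σ ⟨n, hn⟩) ∣ Nat.card G := orderOf_dvd_of_pow_eq_one (by
      rw [← h1, ← map_pow, pow_card_eq_one', map_one])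
    have h3 : orderOf (Char.detHom σ ⟨n, hn⟩) ∣ o := orderOf_dvd_of_pow_eq_one (by
      rw [← MonoidHom.pow_apply, ho, pow_orderOf_eq_one]; rfl)
    exact Nat.Coprime.dvd_of_dvd_mul_left (Nat.Coprime.pow_right _
      (hp.coprime_iff_not_dvd.2 fun h => hdet (h.trans h3)).symm) (hmul.symm ▸ h2)
  obtain ⟨a0, b0, hab⟩ : IsCoprime ((d * n' : ℕ) : ℤ) ((p ^ a : ℕ) : ℤ) :=
    Nat.isCoprime_iff_coprime.2 (Nat.Coprime.pow_right _ (Nat.Coprime.mul_left
      (hp.coprime_iff_not_dvd.2 hd).symm (hp.coprime_iff_not_dvd.2 hpn').symm))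
  set lam : G →* ℂˣ := β ^ (-a0) with hlam
  have hlamp : ∀ x, lam x ^ p ^ a = 1 := fun x => by
    rw [hlam, MonoidHom.zpow_apply, ← zpow_natCast, ← zpow_mul, mul_comm, zpow_mul, zpow_natCast,
      hβp, one_zpow]
  let ρ : Representation ℂ G (Fin d → ℂ) :=
    { toFun := fun g => (lam g : ℂ) • ρ₁ g
      map_one' := by simp
      map_mul' := fun x y => by
        simp only [map_mul, Units.val_mul]
        rw [smul_mul_smul_comm] }
  have hρ : ∀ n : N, ρ (n : G) = σ n := fun n => by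
    show (lam n : ℂ) • ρ₁ (n : G) = σ n
    rw [hlam, MonoidHom.zpow_apply, hβN _ n.2, one_zpow, Units.val_one, one_smul]; exact hρ₁ n
  have hval : ∀ g, ρ.character g = (lam g : ℂ) * (χ₁ : G → ℂ) g := fun g => by
    show LinearMap.trace ℂ _ ((lam g : ℂ) • ρ₁ g) = _
    rw [map_smul, smul_eq_mul, ← hρ₁χ]; rfl
  refine ⟨ρ, hρ, ⟨n', hpn', fun x => ?_⟩, fun c hc => ?_, ?_⟩
  · have h1 : Char.detHom ρ x = lam x ^ d * Char.detHom ρ₁ x := Units.ext (by
      rw [Char.detHom_apply]
      show LinearMap.det ((lam x : ℂ) • ρ₁ x) = _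
      rw [LinearMap.det_smul, Module.finrank_fintype_fun_eq_card,
        Fintype.card_fin, Units.val_mul, Units.val_pow_eq_pow_val, Char.detHom_apply])
    have h2 : (β x) ^ (((p ^ a : ℕ) : ℤ)) = 1 := by rw [zpow_natCast, hβp]
    have h3 : lam x ^ (d * n') = (β x)⁻¹ := by
      rw [hlam, MonoidHom.zpow_apply, ← zpow_natCast, ← zpow_mul]
      calc β x ^ (-a0 * ((d * n' : ℕ) : ℤ))
          = β x ^ ((-1 : ℤ) + ((p ^ a : ℕ) : ℤ) * b0) := by congr 1; linear_combination -hab
        _ = (β x)⁻¹ := by rw [zpow_add, zpow_mul, h2, one_zpow, mul_one, zpow_neg_one]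
    rw [h1, mul_pow, ← pow_mul, h3, hβ, MonoidHom.pow_apply, inv_mul_cancel]
  · have hc1 : ((lam c : ℂˣ) : ℂ) ^ p ^ a = 1 := by
      rw [← Units.val_pow_eq_pow_val, hlamp, Units.val_one]
    have h := memLocalIdeal_add hM (memLocalIdeal_mul_left hM
      (root_of_unity_mem_locRing hM (pow_pos hp.pos a) hc1) (hu c hc))
      (memLocalIdeal_sub_one_of_pow_prime_pow hM hc1)
    rw [hval]
    convert h using 1
    rw [hd1]; ring
  · haveI := Char.isIrreducible_of_extension hρ
    refine ⟨⟨ρ.character, Char.isIrrCharacter_character ρ⟩, rfl, ?_⟩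
    rw [mem_principal_iff_regSum hM] at hχ₁B ⊢
    refine fun h0 => hχ₁B (Eq.trans (Finset.sum_congr rfl fun g _ => ?_) h0)
    by_cases hg : IsPRegular p g
    · rw [pRegularPart_of_reg hg, pRegularPart_of_reg hg]
      show (χ₁ : G → ℂ) g = ρ.character g
      have h1 : lam g ^ orderOf g = 1 := by rw [← map_pow, pow_orderOf_eq_one, map_one]
      have h2 : lam g = 1 := orderOf_eq_one_iff.1 (Nat.eq_one_of_dvd_coprimes
        (Nat.Coprime.pow_left a (hp.coprime_iff_not_dvd.2 hg))
        (orderOf_dvd_of_pow_eq_one (hlamp g)) (orderOf_dvd_of_pow_eq_one h1))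
      rw [hval, h2, Units.val_one, one_mul]
    · rw [pRegularPart_of_sing hg, pRegularPart_of_sing hg]

end Cfsg.Lib.Block
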