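import Cfsg.Agent.Lib.Block.CyclicBound
import Cfsg.Agent.Lib.Block.CyclicPrimeStructure

/-!
# Blocks with cyclic defect groups: rank, exceptional characters, degrees
-/

set_option autoImplicit false
set_option linter.unusedSectionVars false
set_option maxHeartbeats 1000000

namespace Cfsg.Lib.Block

open Cfsg
open scoped ComplexConjugate

universe u v

noncomputable local instance (priority := high) fintypeSubgroupCyclicStructure {A : Type u}
    [Group A] [Fintype A] (H : Subgroup A) : Fintype H := Fintype.ofFinite H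

local notation "C[" P "]" => Subgroup.centralizer (SetLike.coe P)

variable {p : ℕ} [Fact p.Prime] {M : Ideal AlgInt} {G : Type u} [Group G] [Fintype G]
  (hM : IsPModular p M)

/-! ## Consequences of a split lattice -/

section Split

variable {B : Set (IrrCharacter G)} {e : ℕ} {ι : Type v} [Fintype ι] [DecidableEq ι]
  {τ : ι → G → ℂ} (V : CycVectors p B e τ) {X : Set (IrrCharacter G)} {y : ι → IrrCharacter G}
  {δ : IrrCharacter G → ℤ} {δ₀ : ℤ} (hy : Function.Injective y) (hBX : B = X ∪ Set.range y)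
  (hdis : Disjoint X (Set.range y)) (hX : Nat.card X = e)
  (hδ : ∀ χ ∈ X, δ χ = 1 ∨ δ χ = -1) (hδ₀ : δ₀ = 1 ∨ δ₀ = -1)
  (hτ : ∀ i g, τ i g = (δ₀ : ℂ) * (y i : G → ℂ) g + ∑ᶠ χ ∈ X, (δ χ : ℂ) * (χ : G → ℂ) g)

include hy hdis hτ in
open Classical in
theorem split_inner_left (i : ι) :
    (∀ χ ∈ X, classInner (χ : G → ℂ) (τ i) = (δ χ : ℂ)) ∧
      ∀ j, classInner (y j : G → ℂ) (τ i) = if i = j then (δ₀ : ℂ) else 0 := by
  have hcoef : ∀ (η : IrrCharacter G), classInner (τ i) (η : G → ℂ) =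
      (δ₀ : ℂ) * (if y i = η then 1 else 0) + if η ∈ X then (δ η : ℂ) else 0 := by
    intro η
    have hirr : ∀ a c : IrrCharacter G, classInner (a : G → ℂ) (c : G → ℂ) =
        if a = c then (1 : ℂ) else 0 := fun a c => by
      split_ifs with e'
      · rw [e']; exact Char.classInner_irr_self c.2
      · exact Char.classInner_irr_ne a.2 c.2 fun he => e' (Subtype.ext he)
    rw [show τ i = (δ₀ : ℂ) • (y i : G → ℂ) + ∑ χ ∈ X.toFinset, (δ χ : ℂ) • (χ : G → ℂ) from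
      funext fun g => by
        rw [hτ, finsum_mem_eq_toFinset_sum]
        simp [Finset.sum_apply]]
    rw [Char.classInner_add_left, Char.classInner_smul_left, Char.classInner_sum_left, hirr]
    simp only [Char.classInner_smul_left, hirr, mul_ite, mul_one, mul_zero, Finset.sum_ite_eq',
      Set.mem_toFinset]
  refine ⟨fun χ hχ => ?_, fun j => ?_⟩
  · rw [← Char.classInner_conj_symm, hcoef, if_pos hχ, if_neg, mul_zero, zero_add, map_intCast]
    exact fun h => Set.disjoint_left.1 hdis hχ ⟨i, h⟩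
  · rw [← Char.classInner_conj_symm, hcoef,
      if_neg (fun h => Set.disjoint_left.1 hdis h ⟨j, rfl⟩), add_zero]
    by_cases h : i = j
    · rw [if_pos (congrArg y h), if_pos h, mul_one, map_intCast]
    · rw [if_neg (fun h' => h (hy h')), if_neg h, mul_zero, map_zero]

include V in
open Classical in
/-- An integral combination orthogonal to the lattice has degree divisible by the Sylow order. -/
theorem dvd_degree_of_orth (c : IrrCharacter G → ℤ)
    (hc : ∀ i, ∑ η ∈ B.toFinset, (c η : ℂ) * classInner (η : G → ℂ) (τ i) = 0) :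
    (p : ℤ) ^ (Nat.card G).factorization p ∣
      ∑ η ∈ B.toFinset, c η * (charDegree (η : G → ℂ) : ℤ) := by
  refine dvd_degree_of_vanish (F := fun g => ∑ η ∈ B.toFinset, (c η : ℂ) * (η : G → ℂ) g)
    ?_ (fun g hg => ?_) ?_
  · rw [show (fun g => ∑ η ∈ B.toFinset, (c η : ℂ) * (η : G → ℂ) g) =
      ∑ η ∈ B.toFinset, c η • (η : G → ℂ) from funext fun g => by simp [Finset.sum_apply]]
    exact IsGeneralizedCharacter.sum _ _ fun η _ => η.2.isGeneralized.zsmul (c η)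
  · have := V.complete (fun η => (c η : ℂ)) (fun i => ?_) g hg
    · rwa [finsum_mem_eq_toFinset_sum] at this
    · simp only [finsum_mem_eq_toFinset_sum]
      rw [show (fun g => ∑ η ∈ B.toFinset, (c η : ℂ) * (η : G → ℂ) g) =
        ∑ η ∈ B.toFinset, (c η : ℂ) • (η : G → ℂ) from funext fun g => by simp [Finset.sum_apply],
        Char.classInner_sum_left]
      simp only [Char.classInner_smul_left]
      exact hc i
  · simp [apply_one_eq_charDegree]

include V hy hBX hdis hX hδ hδ₀ hτ in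
open Classical in
/-- The congruences between the degrees. -/
theorem split_congr :
    (∀ χ ∈ X, ∀ χ' ∈ X, (p : ℤ) ^ (Nat.card G).factorization p ∣
        δ χ * (charDegree (χ : G → ℂ) : ℤ) - δ χ' * (charDegree (χ' : G → ℂ) : ℤ)) ∧
    (∀ i, ∀ χ ∈ X, (p : ℤ) ^ (Nat.card G).factorization p ∣
        (charDegree (y i : G → ℂ) : ℤ) + (e : ℤ) * δ₀ * δ χ * (charDegree (χ : G → ℂ) : ℤ)) := by
  have hcong : ∀ χ ∈ X, ∀ χ' ∈ X, (p : ℤ) ^ (Nat.card G).factorization p ∣
      δ χ * (charDegree (χ : G → ℂ) : ℤ) - δ χ' * (charDegree (χ' : G → ℂ) : ℤ) := by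
    intro χ hχ χ' hχ'
    have hχB : χ ∈ B.toFinset := by simp [hBX, hχ]
    have hχB' : χ' ∈ B.toFinset := by simp [hBX, hχ']
    have h := dvd_degree_of_orth V
      (fun η => (if η = χ then δ χ else 0) - if η = χ' then δ χ' else 0) fun i => by
      simp only [Int.cast_sub, Int.cast_ite, Int.cast_zero, sub_mul, ite_mul, zero_mul,
        Finset.sum_sub_distrib, Finset.sum_ite_eq', hχB, hχB', if_true,
        (split_inner_left hy hdis hτ i).1 χ hχ, (split_inner_left hy hdis hτ i).1 χ' hχ']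
      have h1 : (δ χ : ℂ) * δ χ = 1 := by rcases hδ χ hχ with h | h <;> simp [h]
      have h2 : (δ χ' : ℂ) * δ χ' = 1 := by rcases hδ χ' hχ' with h | h <;> simp [h]
      rw [h1, h2, sub_self]
    simpa only [sub_mul, ite_mul, zero_mul, Finset.sum_sub_distrib, Finset.sum_ite_eq', hχB, hχB',
      if_true] using h
  refine ⟨hcong, fun i₀ χ hχ => ?_⟩
  have h2 : δ₀ * δ₀ = 1 := by rcases hδ₀ with h | h <;> simp [h]
  set q : ℤ := (p : ℤ) ^ (Nat.card G).factorization p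
  have hsum1 : (δ₀ : ℤ) * (charDegree (y i₀ : G → ℂ) : ℤ) +
      ∑ η ∈ X.toFinset, δ η * (charDegree (η : G → ℂ) : ℤ) = 0 := by
    have h1 := hτ i₀ 1
    rw [V.apply_one i₀, finsum_mem_eq_toFinset_sum] at h1
    simp only [apply_one_eq_charDegree] at h1
    exact_mod_cast h1.symm
  have hX' : (X.toFinset.card : ℤ) = e := by
    rw [Set.toFinset_card, ← Nat.card_eq_fintype_card, hX]
  have hd2 := Finset.dvd_sum (f := fun η : IrrCharacter G =>
    δ η * (charDegree (η : G → ℂ) : ℤ) - δ χ * (charDegree (χ : G → ℂ) : ℤ)) (s := X.toFinset)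
    (a := q) fun η hη => hcong η (Set.mem_toFinset.1 hη) χ hχ
  rw [Finset.sum_sub_distrib, Finset.sum_const, nsmul_eq_mul, hX'] at hd2
  have := dvd_mul_of_dvd_right hd2 δ₀
  rw [← dvd_neg]
  convert this using 1
  linear_combination -(δ₀ : ℤ) * hsum1 + (charDegree (y i₀ : G → ℂ) : ℤ) * h2

include V hy hBX hdis hX hδ hδ₀ hτ in
/-- All members have the same `p`-part of the degree, of valuation below that of the group. -/
theorem split_height_zero {χ₀ : IrrCharacter G} (hχ₀ : χ₀ ∈ B)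
    (hlow : (charDegree (χ₀ : G → ℂ)).factorization p < (Nat.card G).factorization p)
    (he : ¬ p ∣ e) {χ : IrrCharacter G} (hχ : χ ∈ B) :
    (charDegree (χ : G → ℂ)).factorization p = (charDegree (χ₀ : G → ℂ)).factorization p := by
  obtain ⟨hXX, hYX⟩ := split_congr V hy hBX hdis hX hδ hδ₀ hτ
  set N := (Nat.card G).factorization p with hN
  -- divisibility by small powers of `p` is the same
  have hiff : ∀ (k : ℕ) (a : ℕ), 0 < a → (p ^ k ∣ a ↔ k ≤ a.factorization p) := fun k a ha =>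
    (Fact.out : p.Prime).pow_dvd_iff_le_factorization ha.ne'
  have hpZ : Prime (p : ℤ) := Nat.prime_iff_prime_int.1 Fact.out
  have hep : ¬ (p : ℤ) ∣ (e : ℤ) := fun h => he (Int.natCast_dvd_natCast.1 h)
  have hunit : ∀ χ ∈ X, IsUnit (δ χ) := fun χ hχ => by
    rcases hδ χ hχ with h | h <;> simp [h]
  have hu₀ : IsUnit δ₀ := by rcases hδ₀ with h | h <;> simp [h]
  have hXk : ∀ χ ∈ X, ∀ χ' ∈ X, ∀ k ≤ N,
      (p ^ k ∣ charDegree (χ : G → ℂ) ↔ p ^ k ∣ charDegree (χ' : G → ℂ)) := by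
    intro χ hχ χ' hχ' k hk
    have h := dvd_trans (pow_dvd_pow (p : ℤ) hk) (hXX χ hχ χ' hχ')
    rw [← Int.natCast_dvd_natCast, ← Int.natCast_dvd_natCast, Nat.cast_pow,
      ← (hunit χ hχ).dvd_mul_left, ← (hunit χ' hχ').dvd_mul_left (b := (charDegree (χ' : G → ℂ) : ℤ))]
    exact ⟨fun h1 => (dvd_sub_right h1).1 h, fun h1 => (dvd_sub_left h1).1 h⟩
  have hYk : ∀ i, ∀ χ ∈ X, ∀ k ≤ N,
      (p ^ k ∣ charDegree (y i : G → ℂ) ↔ p ^ k ∣ charDegree (χ : G → ℂ)) := by
    intro i χ hχ k hk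
    have h := dvd_trans (pow_dvd_pow (p : ℤ) hk) (hYX i χ hχ)
    rw [← Int.natCast_dvd_natCast, ← Int.natCast_dvd_natCast, Nat.cast_pow]
    constructor
    · intro h1
      have h2 := (dvd_add_right h1).1 h
      rw [mul_assoc, mul_assoc] at h2
      have h3 := hpZ.pow_dvd_of_dvd_mul_left k hep h2
      rwa [hu₀.dvd_mul_left, (hunit χ hχ).dvd_mul_left] at h3
    · intro h1
      exact (dvd_add_left (dvd_mul_of_dvd_right h1 _)).1 h
  have hBk : ∀ ψ ∈ B, ∀ χ ∈ X, ∀ k ≤ N,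
      (p ^ k ∣ charDegree (ψ : G → ℂ) ↔ p ^ k ∣ charDegree (χ : G → ℂ)) := by
    intro ψ hψ χ hχ k hk
    rw [hBX] at hψ
    rcases hψ with h | ⟨i, rfl⟩
    · exact hXk ψ h χ hχ k hk
    · exact hYk i χ hχ k hk
  have he0 : e ≠ 0 := fun h => he (h ▸ dvd_zero p)
  obtain ⟨⟨ξ, hξ⟩⟩ := (Nat.card_pos_iff.1 (hX ▸ Nat.pos_of_ne_zero he0 : 0 < Nat.card X)).1
  have hall : ∀ k ≤ N, (k ≤ (charDegree (χ : G → ℂ)).factorization p ↔
      k ≤ (charDegree (χ₀ : G → ℂ)).factorization p) := fun k hk => by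
    rw [← hiff k _ (charDegree_pos χ), ← hiff k _ (charDegree_pos χ₀), hBk χ hχ ξ hξ k hk,
      hBk χ₀ hχ₀ ξ hξ k hk]
  have h1 := (hall _ hlow.le).2 le_rfl
  have h2 := hall ((charDegree (χ₀ : G → ℂ)).factorization p + 1) hlow
  omega

end Split

/-! ## The split of a cyclic block -/

variable {B : Set (IrrCharacter G)} {P : Subgroup G} {c : Set (IrrCharacter C[P])}
  (hB : IsPBlock M B) (hD : IsDefectGroup p M B P) (hcyc : IsCyclic P)
  (hc : IsInducedBlock M C[P] c B) {T : Subgroup G}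
  (hT : ∀ g : G, g ∈ T ↔ g ∈ Subgroup.normalizer (P : Set G) ∧ StabilizesBlock C[P] c g)
  (hP : P ≠ ⊥)

include hM hB hD hcyc hc hT hP

open Classical in
/-- Exceptional and non-exceptional characters of a block with cyclic defect group. -/
theorem cyclic_split :
    ∃ (z : G) (f : Set (IrrCharacter C[Subgroup.zpowers z])) (S : Subgroup G) (h : G)
      (ψ₀ : IrrCharacter C[Subgroup.zpowers z]) (ι : Type u) (_ : Fintype ι) (τ : ι → G → ℂ)
      (X : Set (IrrCharacter G)) (y : ι → IrrCharacter G) (δ : IrrCharacter G → ℤ) (δ₀ : ℤ),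
      CycLocal p M B P z f S ((C[P]).relIndex T) h ∧ SubpairLE p M (Subgroup.zpowers z) f P c ∧
      ψ₀ ∈ f ∧ (∀ g ∈ S, ∀ k k' : C[Subgroup.zpowers z], (k' : G) = g * k * g⁻¹ →
        (ψ₀ : C[Subgroup.zpowers z] → ℂ) k' = (ψ₀ : C[Subgroup.zpowers z] → ℂ) k) ∧
      Fintype.card ι * (C[P]).relIndex T + 1 = Nat.card P ∧
      CycVectors p B ((C[P]).relIndex T) τ ∧
      Function.Injective y ∧ B = X ∪ Set.range y ∧ Disjoint X (Set.range y) ∧
      Nat.card X = (C[P]).relIndex T ∧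
      (∀ χ ∈ X, δ χ = 1 ∨ δ χ = -1) ∧ (δ₀ = 1 ∨ δ₀ = -1) ∧
      (∀ i g, τ i g = (δ₀ : ℂ) * (y i : G → ℂ) g + ∑ᶠ χ ∈ X, (δ χ : ℂ) * (χ : G → ℂ) g) ∧
      blockRank p B = (C[P]).relIndex T ∧ Nat.card B = (C[P]).relIndex T + Fintype.card ι ∧
      (∀ ψ ∈ f, ψ ≠ ψ₀ → ∃ i, indFun C[Subgroup.zpowers z]
        ((ψ : C[Subgroup.zpowers z] → ℂ) - (ψ₀ : C[Subgroup.zpowers z] → ℂ)) = τ i) ∧
      (∀ i, ∃ ψ ∈ f, ψ ≠ ψ₀ ∧ indFun C[Subgroup.zpowers z]
        ((ψ : C[Subgroup.zpowers z] → ℂ) - (ψ₀ : C[Subgroup.zpowers z] → ℂ)) = τ i) := by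
  obtain ⟨z, f, S, h, L, hle⟩ := exists_cycLocal hM hB hD hcyc hc hT hP
  obtain ⟨ψ₀, hψ₀, hfix⟩ := L.sys.exists_fixed hM S L.stab
  obtain ⟨ι, hι, τ, hcard, hgen, hreg, hout, hgram, hcompl, hA, hA', -⟩ :=
    L.sys.exists_vectors hM S L.stab hψ₀ hfix
  rw [L.index] at hcard hgram
  have hPK : P ≤ C[Subgroup.zpowers z] :=
    le_centralizer_of_abelian (comm_of_isCyclic hcyc) (Subgroup.zpowers_le.2 L.memP)
  have hcardP : Nat.card (P.subgroupOf C[Subgroup.zpowers z]) = Nat.card P :=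
    Nat.card_congr (Subgroup.subgroupOfEquivOfLe hPK).toEquiv
  obtain ⟨c', hc'ind, hc'i⟩ := L.root
  obtain ⟨χf, hχf⟩ := nonempty_of_isPBlock hM L.sys.induced.1
  have R := regBlock_of_inertial hM L.sys.induced.1 L.defect
    (isCyclic_of_surjective (Subgroup.subgroupOfEquivOfLe hPK).symm
      (Subgroup.subgroupOfEquivOfLe hPK).symm.surjective) hc'ind hc'i hχf
  rw [R.card, hcardP] at hcard
  have V : CycVectors p B ((C[P]).relIndex T) τ :=
    { gen := hgen
      regular := hreg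
      outside := hout
      gram := hgram
      complete := fun cc hcc g hg => by
        rw [finsum_mem_eq_toFinset_sum]
        refine hcompl cc (fun i => ?_) g hg
        have := hcc i
        simp only [finsum_mem_eq_toFinset_sum] at this
        exact this }
  have hP1 : 1 < Nat.card P := (Subgroup.one_lt_card_iff_ne_bot P).2 hP
  have hne : Nonempty ι := Fintype.card_pos_iff.1 (Nat.pos_of_ne_zero fun h0 => by
    rw [h0, zero_mul, zero_add] at hcard
    omega)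
  have hd : 0 < blockDefect p B := Nat.pos_of_ne_zero fun h0 => by
    have h1 := card_defectGroup hM hB hD
    rw [h0, pow_zero] at h1
    omega
  obtain ⟨hle', hsplit⟩ := V.rank_le hM hB hd hne
  have hge := cycLocal_le_blockRank hM L hB hcyc
  obtain ⟨X, y, δ, δ₀, hy, hBX, hdis, hX, hδ, hδ₀, hτ⟩ := hsplit hge
  have hk := V.rank_add hM hB
  exact ⟨z, f, S, h, ψ₀, ι, hι, τ, X, y, δ, δ₀, L, hle, hψ₀, hfix, hcard.symm, V, hy, hBX, hdis,
    hX, hδ, hδ₀, hτ, le_antisymm hle' hge, by omega, hA, hA'⟩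

/-- The rank of a block with nontrivial cyclic defect group is the inertial index. -/
theorem cyclic_rank : blockRank p B = (C[P]).relIndex T := by
  obtain ⟨_, _, _, _, _, _, _, _, _, _, _, _, -, -, -, -, -, -, -, -, -, -, -, -, -, h, -⟩ :=
    cyclic_split hM hB hD hcyc hc hT hP
  exact h

open Classical in
/-- All members of a block with cyclic defect group have height zero, and they split into the
exceptional and the non-exceptional ones. -/
theorem cyclic_structure :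
    (∀ χ ∈ B, blockHeight p B (χ : G → ℂ) = 0) ∧
    ∃ (X Y : Set (IrrCharacter G)) (δ : IrrCharacter G → ℤ) (δ₀ : ℤ),
      B = X ∪ Y ∧ Disjoint X Y ∧ Nat.card X = (C[P]).relIndex T ∧
      Nat.card Y = (Nat.card P - 1) / (C[P]).relIndex T ∧ Y.Nonempty ∧
      (∀ χ ∈ X, δ χ = 1 ∨ δ χ = -1) ∧ (δ₀ = 1 ∨ δ₀ = -1) ∧
      (∀ ψ ∈ Y, ∀ ψ' ∈ Y, ∀ g : G, IsPRegular p g → (ψ : G → ℂ) g = (ψ' : G → ℂ) g) ∧
      (∀ ψ ∈ Y, ∀ g : G, IsPRegular p g →
        (δ₀ : ℂ) * (ψ : G → ℂ) g + ∑ᶠ χ ∈ X, (δ χ : ℂ) * (χ : G → ℂ) g = 0) ∧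
      (∀ χ ∈ X, ∀ χ' ∈ X, (p : ℤ) ^ (Nat.card G).factorization p ∣
        δ χ * (charDegree (χ : G → ℂ) : ℤ) - δ χ' * (charDegree (χ' : G → ℂ) : ℤ)) ∧
      (∀ ψ ∈ Y, ∀ χ ∈ X, (p : ℤ) ^ (Nat.card G).factorization p ∣
        (charDegree (ψ : G → ℂ) : ℤ) +
          ((C[P]).relIndex T : ℤ) * δ₀ * δ χ * (charDegree (χ : G → ℂ) : ℤ)) := by
  obtain ⟨z, f, S, h, ψ₀, ι, hι, τ, X, y, δ, δ₀, L, -, -, -, hq, V, hy, hBX, hdis, hX, hδ, hδ₀, hτ,
    -, -, -, -⟩ := cyclic_split hM hB hD hcyc hc hT hP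
  obtain ⟨hXX, hYX⟩ := split_congr V hy hBX hdis hX hδ hδ₀ hτ
  have hpe : ¬ p ∣ (C[P]).relIndex T := inertial_not_dvd hM hB hD hcyc hc hT
  refine ⟨fun χ hχ => ?_, X, Set.range y, δ, δ₀, hBX, hdis, hX, ?_, ?_, hδ, hδ₀, ?_, ?_, hXX, ?_⟩
  · obtain ⟨χ₀, hχ₀, hmin⟩ := exists_minVal (p := p) (nonempty_of_isPBlock hM hB)
    rw [blockHeight_eq_zero_iff hχ, ← hmin]
    refine split_height_zero V hy hBX hdis hX hδ hδ₀ hτ hχ₀ ?_ hpe hχ
    have h1 := blockDefect_add_minVal (p := p) (nonempty_of_isPBlock hM hB)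
    have h2 := card_defectGroup hM hB hD
    have h3 : blockDefect p B ≠ 0 := fun h0 => by
      rw [h0, pow_zero] at h2
      exact hP (Subgroup.eq_bot_of_card_eq P h2)
    omega
  · rw [Nat.card_range_of_injective hy, Nat.card_eq_fintype_card, ← hq, Nat.add_sub_cancel,
      Nat.mul_div_cancel _ (Nat.pos_of_ne_zero fun h0 : (C[P]).relIndex T = 0 =>
        hpe (h0 ▸ dvd_zero p))]
  · refine (Set.range_nonempty_iff_nonempty).2 (Fintype.card_pos_iff.1 (Nat.pos_of_ne_zero fun h0 => ?_))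
    rw [h0, zero_mul, zero_add] at hq
    exact absurd ((Subgroup.one_lt_card_iff_ne_bot P).2 hP) (by omega)
  · rintro _ ⟨i, rfl⟩ _ ⟨j, rfl⟩ g hg
    have h1 := hτ i g
    rw [V.regular i g hg] at h1
    have h2 := hτ j g
    rw [V.regular j g hg] at h2
    have hd0 : (δ₀ : ℂ) ≠ 0 := by rcases hδ₀ with h' | h' <;> simp [h']
    exact mul_left_cancel₀ hd0 (by linear_combination h2 - h1)
  · rintro _ ⟨i, rfl⟩ g hg
    rw [← hτ i g]
    exact V.regular i g hg
  · rintro _ ⟨i, rfl⟩ χ hχ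
    exact hYX i χ hχ

end Cfsg.Lib.Block
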