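import Cfsg.Agent.Lib.Block.FreeLattice
import Cfsg.Agent.Lib.Block.CyclicStructure

/-!
# Counting the characters of a block with free inertial action

The rank is at most the inertial index `e`, the block has `(#P - 1) / e` further characters, and
for `e ≤ 3` the rank is equal to `e`.
-/

set_option autoImplicit false
set_option linter.unusedSectionVars false
set_option maxHeartbeats 800000

namespace Cfsg.Lib.Block

open Cfsg Cfsg.Lib.Char
open scoped ComplexConjugate

universe u v

noncomputable local instance (priority := high) fintypeSubgroupFreeCount {A : Type u}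
    [Group A] [Fintype A] (H : Subgroup A) : Fintype H := Fintype.ofFinite H

local notation "C[" Q "]" => Subgroup.centralizer (SetLike.coe Q)

theorem card_eq_of_sq_sum {α : Type*} (s : Finset α) (n : α → ℤ) (hne : ∀ x ∈ s, n x ≠ 0) {e : ℤ}
    (hsum : ∑ x ∈ s, n x * n x = e) (he : e ≤ 3) : (s.card : ℤ) = e := by
  rw [← hsum, Finset.card_eq_sum_ones, Nat.cast_sum]
  refine Finset.sum_congr rfl fun x hx => ?_
  have h1 : n x * n x ≤ 3 := le_trans
    (hsum ▸ Finset.single_le_sum (fun y _ => mul_self_nonneg (n y)) hx) he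
  have h2 : -1 ≤ n x ∧ n x ≤ 1 := ⟨by nlinarith, by nlinarith⟩
  have h3 := hne x hx
  rcases (by omega : n x = 1 ∨ n x = -1) with e' | e' <;> rw [e'] <;> rfl

section Lattice

variable {p : ℕ} [Fact p.Prime] {M : Ideal AlgInt} {G : Type u} [Group G] [Fintype G]
  (hM : IsPModular p M) {B : Set (IrrCharacter G)} {e : ℕ} {ι : Type v} [Fintype ι] [DecidableEq ι]
  {τ : ι → G → ℂ} (V : CycVectors p B e τ)

include hM V in
/-- For `e ≤ 3` the rank is `e`, except possibly with three or four vectors. -/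
theorem CycVectors.rank_eq_or (hB : IsPBlock M B) (hd : 0 < blockDefect p B) (hι : Nonempty ι)
    (he : e ≤ 3) :
    blockRank p B = e ∨ (3 ≤ Fintype.card ι ∧ Fintype.card ι ≤ e + 1) := by
  classical
  have hk := V.rank_add hM hB
  have hpos := blockRank_pos hM hB
  obtain ⟨v, hv, -, -, hgramC⟩ := V.exists_coeff
  have hgram : ∀ i, ∑ χ ∈ B.toFinset, v i χ * v i χ = (e : ℤ) + 1 := fun i => by
    have := hgramC i i
    rw [if_pos rfl] at this
    exact_mod_cast this
  have hrow : ∀ χ ∈ B.toFinset, ∃ i, v i χ ≠ 0 := by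
    intro χ hχ
    obtain ⟨i, hi⟩ := V.exists_ne_zero hM hB hd (Set.mem_toFinset.1 hχ)
    exact ⟨i, fun h => hi (by rw [hv, h, Int.cast_zero])⟩
  rw [Nat.card_eq_card_toFinset] at hk
  obtain ⟨i₀⟩ := id hι
  by_cases h1 : Fintype.card ι = 1
  · left
    obtain ⟨j, hj⟩ := Fintype.card_eq_one_iff.1 h1
    have hne : ∀ χ ∈ B.toFinset, v i₀ χ ≠ 0 := fun χ hχ => by
      obtain ⟨i, hi⟩ := hrow χ hχ
      rwa [hj i₀, ← hj i]
    have hone : ∀ χ ∈ B.toFinset, v i₀ χ * v i₀ χ = 1 := by
      intro χ hχ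
      obtain ⟨η, hη, hηne⟩ := Finset.exists_mem_ne (by omega : 1 < B.toFinset.card) χ
      have h5 : 1 ≤ v i₀ η * v i₀ η := mul_self_pos.2 (hne η hη)
      have h6 : v i₀ χ * v i₀ χ + v i₀ η * v i₀ η ≤ (e : ℤ) + 1 := by
        rw [← hgram i₀, ← Finset.sum_pair (f := fun ξ => v i₀ ξ * v i₀ ξ) hηne.symm]
        refine Finset.sum_le_sum_of_subset_of_nonneg (fun ξ hξ => ?_) fun ξ _ _ => mul_self_nonneg _
        rcases Finset.mem_insert.1 hξ with rfl | h
        · exact hχ
        · rwa [Finset.mem_singleton.1 h]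
      have h2 : -1 ≤ v i₀ χ ∧ v i₀ χ ≤ 1 := ⟨by nlinarith, by nlinarith⟩
      have h3 := hne χ hχ
      rcases (by omega : v i₀ χ = 1 ∨ v i₀ χ = -1) with e' | e' <;> rw [e'] <;> rfl
    have h := hgram i₀
    rw [Finset.sum_congr rfl hone, Finset.sum_const, nsmul_eq_mul, mul_one] at h
    omega
  have ht : 2 ≤ Fintype.card ι := by
    have := Fintype.card_pos (α := ι)
    omega
  obtain ⟨y, n, δ, w, hy, hyB, hδ, hcy, hcn, -, -⟩ := V.shape ht
  obtain ⟨R, hR⟩ : ∃ R : Finset (IrrCharacter G), R = B.toFinset \ Finset.univ.image y := ⟨_, rfl⟩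
  have hsub : Finset.univ.image y ⊆ B.toFinset := fun χ hχ => by
    obtain ⟨j, -, rfl⟩ := Finset.mem_image.1 hχ
    exact Set.mem_toFinset.2 (hyB j)
  have hcardR : R.card + Fintype.card ι = B.toFinset.card := by
    rw [hR, ← Finset.card_univ (α := ι), ← Finset.card_image_of_injective _ hy,
      Finset.card_sdiff_add_card_eq_card hsub]
  have hRn : ∀ χ ∈ R, ∀ i, v i χ = n χ := by
    intro χ hχ i
    have h := hcn χ (fun ⟨j, hj⟩ => (Finset.mem_sdiff.1 (hR ▸ hχ)).2
      (Finset.mem_image.2 ⟨j, Finset.mem_univ _, hj⟩)) i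
    rw [hv] at h
    exact_mod_cast h
  have hne : ∀ χ ∈ R, n χ ≠ 0 := fun χ hχ => by
    obtain ⟨i, hi⟩ := hrow χ (Finset.mem_sdiff.1 (hR ▸ hχ)).1
    rwa [hRn χ hχ] at hi
  have hvy : ∀ i j, v i (y j) = w + if i = j then δ else 0 := fun i j => by
    have h := hcy i j
    rw [hv] at h
    exact_mod_cast h
  have hδ2 : δ * δ = 1 := by rcases hδ with h | h <;> simp [h]
  have hnorm : ∑ χ ∈ R, n χ * n χ + (Fintype.card ι : ℤ) * (w * w) + 2 * (w * δ) = e := by
    have h := hgram i₀
    rw [← Finset.sum_sdiff hsub, Finset.sum_image fun a _ b _ hab => hy hab, ← hR,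
      Finset.sum_congr rfl fun χ hχ => by rw [hRn χ hχ i₀],
      Finset.sum_congr rfl (g := fun j => w * w + if i₀ = j then 2 * (w * δ) + 1 else 0)
        fun j _ => by
          rw [hvy]
          split_ifs
          · linear_combination hδ2
          · ring,
      Finset.sum_add_distrib, Finset.sum_ite_eq, if_pos (Finset.mem_univ _), Finset.sum_const,
      Finset.card_univ, nsmul_eq_mul] at h
    linarith
  by_cases hw : w = 0
  · left
    subst hw
    have h := card_eq_of_sq_sum R n hne (e := (e : ℤ)) (by linarith) (by exact_mod_cast he)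
    omega
  · have he' : (e : ℤ) ≤ 3 := by exact_mod_cast he
    have hnn : 0 ≤ ∑ χ ∈ R, n χ * n χ := Finset.sum_nonneg fun χ _ => mul_self_nonneg _
    have hN : (2 : ℤ) ≤ Fintype.card ι := by exact_mod_cast ht
    have hw2 : w * δ = -1 := by
      obtain ⟨a, ha⟩ : ∃ a, a = w * δ := ⟨_, rfl⟩
      have haw : a * a = w * w := by rw [ha]; linear_combination (w * w) * hδ2
      rw [← ha] at hnorm ⊢
      rw [← haw] at hnorm
      have ha0 : a ≠ 0 := fun h0 => hw (mul_self_eq_zero.1 (by rw [← haw, h0, mul_zero]))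
      have hb : -1 ≤ a ∧ a ≤ 1 := ⟨by nlinarith, by nlinarith⟩
      rcases (by omega : a = 1 ∨ a = -1) with h | h
      · exfalso; subst h; linarith
      · exact h
    have hww : w * w = 1 := by
      have : w * w = (w * δ) * (w * δ) := by linear_combination -(w * w) * hδ2
      rw [this, hw2]; rfl
    rw [hw2, hww] at hnorm
    have h := card_eq_of_sq_sum R n hne
      (e := (e : ℤ) + 2 - (Fintype.card ι : ℤ)) (by linarith) (by linarith)
    omega

end Lattice

namespace FreeSetup

variable {p : ℕ} [Fact p.Prime] {M : Ideal AlgInt} {G : Type u} [Group G] [Fintype G]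
  {B : Set (IrrCharacter G)} {P : Subgroup G} {c : Set (IrrCharacter C[P])} {T : Subgroup G}
  (S : FreeSetup p M B P c T)

include S

/-- The invariants of a block with free inertial action. -/
theorem free_count (hP : P ≠ ⊥) :
    blockRank p B ≤ (C[P]).relIndex T ∧
      Nat.card B = blockRank p B + (Nat.card P - 1) / (C[P]).relIndex T ∧
      ((C[P]).relIndex T ≤ 3 → blockRank p B = (C[P]).relIndex T) := by
  obtain ⟨ι, hι, hdec, τ, V, hcard⟩ := S.exists_cycVectors
  obtain ⟨e, he⟩ : ∃ e, e = (C[P]).relIndex T := ⟨_, rfl⟩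
  rw [← he] at hcard V ⊢
  have hq : 1 < Nat.card P := (Subgroup.one_lt_card_iff_ne_bot P).2 hP
  have he0 : 0 < e := Nat.pos_of_ne_zero fun h => by rw [h, mul_zero] at hcard; omega
  have hne : Nonempty ι := Fintype.card_pos_iff.1 (Nat.pos_of_ne_zero fun h0 => by
    rw [h0, zero_mul] at hcard; omega)
  have hdef := card_defectGroup S.modular S.block S.defect
  have hd : 0 < blockDefect p B := Nat.pos_of_ne_zero fun h0 => by
    rw [h0, pow_zero] at hdef; omega
  have hN : (Nat.card P - 1) / e = Fintype.card ι := by rw [← hcard, Nat.mul_div_cancel _ he0]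
  refine ⟨(V.rank_le S.modular S.block hd hne).1, ?_, fun h3 => ?_⟩
  · rw [hN, V.rank_add S.modular S.block]
  rcases V.rank_eq_or S.modular S.block hd hne h3 with h | ⟨h1, h2⟩
  · exact h
  have hq' : Nat.card P = Fintype.card ι * e + 1 := by omega
  have hprime : (Nat.card P).Prime := by
    have hcases : Nat.card P = 7 ∨ Nat.card P = 10 ∨ Nat.card P = 13 := by
      have : Fintype.card ι = 3 ∨ Fintype.card ι = 4 := by omega
      have : e = 2 ∨ e = 3 := by omega
      rcases this with rfl | rfl <;> omega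
    rcases hcases with h | h | h
    · rw [h]; norm_num
    · exfalso
      have hp := (Fact.out : p.Prime)
      have h2 : 2 ∣ p ^ blockDefect p B := by rw [← hdef, h]; norm_num
      have h5 : 5 ∣ p ^ blockDefect p B := by rw [← hdef, h]; norm_num
      have e2 := (Nat.prime_dvd_prime_iff_eq Nat.prime_two hp).1 (Nat.prime_two.dvd_of_dvd_pow h2)
      have e5 := (Nat.prime_dvd_prime_iff_eq Nat.prime_five hp).1 (Nat.prime_five.dvd_of_dvd_pow h5)
      omega
    · rw [h]; norm_num
  haveI : Fact (Nat.card P).Prime := ⟨hprime⟩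
  rw [he]
  exact cyclic_rank S.modular S.block S.defect (isCyclic_of_prime_card rfl) S.root S.stab hP

end FreeSetup

end Cfsg.Lib.Block
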