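import Cfsg.Agent.Lib.Block.RegularOrbit
import Cfsg.Agent.Lib.Block.SubsectionApps
import Cfsg.Agent.Lib.Block.PrincipalSums
import Cfsg.Agent.Lib.Char.Clifford
import Cfsg.Agent.Lib.Char.Ramification
import Cfsg.Agent.Lib.Char.Quotient
import Cfsg.Agent.Lib.Recog.DegreeSquare.Defect
import Cfsg.Agent.Lib.SimpleAbTwo.ConjAbelian
import Cfsg.Agent.Lib.Walter3.Socle
import Cfsg.Agent.S2300
import Cfsg.Agent.S3188

/-!
# Odd degrees when the involutions of an elementary subgroup of order sixteen form one orbit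

Modulo its odd core a nonsolvable such group has a normal subgroup `SL₂(16)` of odd index.
-/

set_option autoImplicit false
set_option linter.unusedSectionVars false
set_option linter.style.haveILetI false

namespace Cfsg.Lib.Block.RegularOrbit

open Cfsg Cfsg.Lib Cfsg.Lib.Block Subgroup Matrix
open scoped Classical

universe u

variable {G : Type u} [Group G] [Fintype G] {M : Ideal AlgInt}

/-- A character of full two-defect zero is not in the principal block. -/
theorem not_principal_of_dvd (hM : IsPModular 2 M) (h2 : 2 ∣ Nat.card G) {χ : IrrCharacter G}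
    (h : ∀ n, 2 ^ n ∣ Nat.card G → 2 ^ n ∣ charDegree (χ : G → ℂ)) :
    χ ∉ principalBlock M G := by
  haveI : Fact (Nat.Prime 2) := ⟨Nat.prime_two⟩
  intro hχ
  refine (mem_principal_iff_regSum hM χ).1 hχ ?_
  have hreg : ∀ g : G, pRegularPart 2 (χ : G → ℂ) g = (χ : G → ℂ) g := fun g => by
    by_cases hg : IsPRegular 2 g
    · exact pRegularPart_of_reg hg
    · rw [pRegularPart_of_sing hg, DegreeSquare.vanish_of_dvd χ
        (apply_one_eq_charDegree χ) Nat.prime_two h (not_not.1 hg)]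
  rw [Finset.sum_congr rfl fun g _ => hreg g]
  have hne : (χ : G → ℂ) ≠ fun _ => 1 := by
    intro he
    have h1 := h 1 (by rwa [pow_one])
    rw [charDegree_eq_of_apply_one (n := 1) (by rw [he, Nat.cast_one])] at h1
    omega
  have h0 := Char.classInner_irr_ne χ.2 (trivChar G).2 (by rw [trivChar_coe]; exact hne)
  rw [trivChar_coe, Char.classInner_one_right] at h0
  exact (mul_eq_zero.1 h0).resolve_left (inv_ne_zero Char.card_cast_ne_zero)

theorem card_good_field {F : Type} [Field F] [Fintype F]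
    (hF : ((Fintype.card F % 8 = 3 ∨ Fintype.card F % 8 = 5) ∧ 5 ≤ Fintype.card F) ∨
      ∃ n : ℕ, 2 ≤ n ∧ Fintype.card F = 2 ^ n)
    (h16 : 16 ∣ Nat.card (ProjectiveSpecialLinearGroup (Fin 2) F))
    (h32 : ¬ 32 ∣ Nat.card (ProjectiveSpecialLinearGroup (Fin 2) F)) :
    Fintype.card F = 2 ^ 4 := by
  have hc := Linear.Two.card_PSL_two (F := F)
  have hpsl : Nat.card (ProjectiveSpecialLinearGroup (Fin 2) F) = Nat.card
      (ProjectiveSpecialLinearGroup (Fin 2) F) := rfl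
  rcases hF with ⟨hq, h5⟩ | ⟨n, hn, hF⟩
  · exfalso
    set q := Fintype.card F with hqdef
    obtain ⟨c, hcc⟩ := h16
    rw [hcc] at hc
    have hg : Nat.gcd 2 (q - 1) = 2 :=
      Nat.gcd_eq_left (Nat.dvd_of_mod_eq_zero (by omega))
    rw [hg] at hc
    obtain ⟨k, hk⟩ : ∃ k, q ^ 2 = 16 * k + 9 := by
      refine ⟨(q ^ 2 - 9) / 16, ?_⟩
      have h9 : q ^ 2 % 16 = 9 := by
        have : q % 16 = 3 ∨ q % 16 = 5 ∨ q % 16 = 11 ∨ q % 16 = 13 := by omega
        rw [Nat.pow_mod]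
        rcases this with h | h | h | h <;> rw [h]
      omega
    rw [hk, show 16 * k + 9 - 1 = 8 * (2 * k + 1) by omega] at hc
    have : 2 * (2 * c) = q * (2 * k + 1) := by nlinarith
    have hodd : Odd (q * (2 * k + 1)) := (Nat.odd_iff.2 (by omega)).mul ⟨k, rfl⟩
    rw [← this] at hodd
    exact Nat.not_odd_iff_even.2 (even_two_mul _) hodd
  · have hev : 2 ∣ 2 ^ n := dvd_pow_self 2 (by omega)
    have h1 : 1 ≤ 2 ^ n := Nat.one_le_two_pow
    have hg : Nat.gcd 2 (2 ^ n - 1) = 1 := Nat.coprime_two_left.2 (Nat.odd_iff.2 (by omega))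
    rw [hF, hg, one_mul] at hc
    rw [hc] at h16 h32
    have hodd : ¬ 2 ∣ (2 ^ n) ^ 2 - 1 := by
      have : 2 ∣ (2 ^ n) ^ 2 := dvd_pow hev two_ne_zero
      have : 1 ≤ (2 ^ n) ^ 2 := Nat.one_le_pow _ _ (by positivity)
      omega
    have hco : ∀ j : ℕ, Nat.Coprime (2 ^ j) ((2 ^ n) ^ 2 - 1) := fun j =>
      (Nat.prime_two.coprime_iff_not_dvd.2 hodd).pow_left j
    have h4 : 4 ≤ n := (Nat.pow_dvd_pow_iff_le_right (by norm_num)).1
      (Nat.Coprime.dvd_of_dvd_mul_right (hco 4) h16)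
    have h5 : n < 5 := by
      by_contra hcon
      exact h32 ((pow_dvd_pow 2 (not_lt.1 hcon)).trans (dvd_mul_right _ _))
    rw [hF, show n = 4 by omega]

/-- The principal block of a nonsolvable group with these data has odd degrees. -/
theorem odd_of_orbit (hM : IsPModular 2 M) (P : Sylow 2 G)
    (hab : IsMulCommutative (P : Subgroup G)) (h16 : Nat.card (P : Subgroup G) = 16) {x : G}
    (htrans : ∀ v ∈ (P : Subgroup G), v ≠ 1 →
      ∃ n ∈ normalizer ((P : Subgroup G) : Set G), n * x * n⁻¹ = v)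
    (hcompl : ∀ t : G, orderOf t = 2 → HasNormalPComplement 2 (centralizer ({t} : Set G)))
    (hns : ¬ Group.IsSolvable G) {χ : IrrCharacter G} (hχ : χ ∈ principalBlock M G) :
    Odd (charDegree (χ : G → ℂ)) := by
  haveI : Fact (Nat.Prime 2) := ⟨Nat.prime_two⟩
  have hsolv : ∀ t : G, orderOf t = 2 → Group.IsSolvable ↥(centralizer ({t} : Set G)) :=
    fun t ht => FTCons.MetacyclicSylow.solvable_of_complement
      (fun H _ _ h => Cfsg.Agent.S0205.result h) (hcompl t ht)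
  obtain ⟨F, iF, iF', hq, N, hN, ⟨e⟩, -⟩ :=
    (Cfsg.Agent.S3188.result P hab hsolv).resolve_left hns
  set O := Cfsg.oddCore G with hOdef
  haveI : N.Normal := hN
  haveI := Fintype.ofFinite (G ⧸ O)
  haveI := Fintype.ofFinite N
  set π := QuotientGroup.mk' O with hπ
  have hO : ¬ 2 ∣ Nat.card O := AbTwo.not_dvd_of_odd AbTwo.odd_oddCore
  obtain ⟨m, hm, hcardG⟩ : ∃ m, ¬ 2 ∣ m ∧ Nat.card G = 16 * m :=
    ⟨(P : Subgroup G).index, P.not_dvd_index, by
      rw [← (P : Subgroup G).card_mul_index, h16]⟩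
  have hquot : Nat.card (G ⧸ O) * Nat.card O = Nat.card G :=
    O.card_eq_card_quotient_mul_card_subgroup.symm
  -- `N` has even order
  have hNev : 2 ∣ Nat.card N := by
    rw [Nat.card_congr e.toEquiv]
    refine Walter3.two_dvd_psl ?_
    rcases hq with ⟨-, h⟩ | ⟨n, hn, h⟩
    · omega
    · rw [h]; exact Nat.pow_le_pow_right two_pos hn
  obtain ⟨z, hz⟩ := exists_prime_orderOf_dvd_card' 2 hNev
  have hz2 : orderOf (z : G ⧸ O) = 2 := (Subgroup.orderOf_coe z).trans hz
  obtain ⟨c, hc⟩ := Invol.exists_conj_mem_sylow (P.mapSurjective (QuotientGroup.mk'_surjective O))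
    (IsPGroup.of_card (n := 1) (by rw [Nat.card_zpowers, hz2, pow_one]) :
      IsPGroup 2 (zpowers (z : G ⧸ O)))
  have hzc := hc _ (mem_zpowers _)
  rw [Sylow.coe_mapSurjective, mem_map] at hzc
  obtain ⟨v₀, hv₀, hv₀z⟩ := hzc
  have hv₀N : π v₀ ∈ N := by rw [hv₀z]; exact hN.conj_mem _ z.2 c
  have hv₀1 : v₀ ≠ 1 := fun h => by
    rw [h, map_one] at hv₀z
    have h1 := conj_eq_one_iff.1 hv₀z.symm
    rw [h1, orderOf_one] at hz2
    omega
  obtain ⟨n₀, -, hn₀⟩ := htrans v₀ hv₀ hv₀1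
  have hxN : π x ∈ N := by
    have h := hN.conj_mem _ hv₀N (π n₀)⁻¹
    rw [← hn₀] at h
    simpa [mul_assoc] using h
  have hPN : (P : Subgroup G).map π ≤ N := by
    rintro _ ⟨v, hv, rfl⟩
    rcases eq_or_ne v 1 with rfl | hv1
    · rw [map_one]; exact one_mem N
    · obtain ⟨n, -, hn⟩ := htrans v hv hv1
      rw [← hn, map_mul, map_mul, map_inv]
      exact hN.conj_mem _ hxN _
  have hidx : ¬ 2 ∣ N.index := fun h =>
    P.not_dvd_index ((h.trans (index_dvd_of_le hPN)).trans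
      (index_map_dvd _ (QuotientGroup.mk'_surjective O)))
  have hG16 : 16 ∣ Nat.card (G ⧸ O) := by
    have h : (2 ^ 4) ∣ Nat.card (G ⧸ O) * Nat.card O := by rw [hquot, hcardG]; exact dvd_mul_right _ _
    exact ((Nat.prime_two.coprime_iff_not_dvd.2 hO).pow_left 4).dvd_of_dvd_mul_right h
  have hN16 : 16 ∣ Nat.card N := by
    rw [← N.card_mul_index] at hG16
    exact ((Nat.prime_two.coprime_iff_not_dvd.2 hidx).pow_left 4).dvd_of_dvd_mul_right hG16
  have hG32 : ¬ 32 ∣ Nat.card G := fun h => hm (by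
    rw [hcardG, show 32 = 16 * 2 from rfl] at h
    exact Nat.dvd_of_mul_dvd_mul_left (by norm_num) h)
  have hN32 : ¬ 32 ∣ Nat.card N := fun h => hG32
    (h.trans (N.card_subgroup_dvd_card.trans ⟨_, hquot.symm⟩))
  have hF := card_good_field hq (Nat.card_congr e.toEquiv ▸ hN16) (Nat.card_congr e.toEquiv ▸ hN32)
  haveI : CharP F 2 := charP_of_card_eq_prime_pow hF
  obtain ⟨f⟩ := SimpleAbTwo.psl_equiv_sl_two (F := F) (by norm_num) hF
  haveI : Fintype (SpecialLinearGroup (Fin 2) F) := Fintype.ofFinite _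
  -- descend the character
  obtain ⟨ψ, hψ, hval⟩ := Char.exists_deflate_irr O χ.2 (principal_trivial_on hM hO hχ)
  have hd : ψ 1 = (charDegree (χ : G → ℂ) : ℂ) := by
    rw [← QuotientGroup.mk_one, hval, apply_one_eq_charDegree χ]
  obtain ⟨θ, hθ⟩ := Char.exists_irr_constituent_res N hψ
  obtain ⟨hdiv, hrat⟩ := Char.degree_ratio_dvd_index N hψ θ.2 hθ hd (apply_one_eq_charDegree θ)
  set η : SpecialLinearGroup (Fin 2) F → ℂ := fun g => (θ : N → ℂ) ((e.trans f).symm g) with hηdef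
  have hη : IsIrrCharacter _ η := Char.isIrrCharacter_comp_equiv (e.trans f).symm θ.2
  have hη1 : η 1 = (charDegree (θ : N → ℂ) : ℂ) := by
    rw [hηdef]; simp only [map_one, apply_one_eq_charDegree θ]
  have hdeg := (Cfsg.Agent.S2300.result (F := F)).1 η hη
  rw [hη1, hF] at hdeg
  norm_num at hdeg
  have hθ1 : charDegree (θ : N → ℂ) = 1 ∨ charDegree (θ : N → ℂ) = 15 ∨
      charDegree (θ : N → ℂ) = 16 ∨ charDegree (θ : N → ℂ) = 17 := by
    rcases hdeg with h | h | h | h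
    · exact Or.inl (by exact_mod_cast h)
    · exact Or.inr (Or.inl (by exact_mod_cast h))
    · exact Or.inr (Or.inr (Or.inl (by exact_mod_cast h)))
    · exact Or.inr (Or.inr (Or.inr (by exact_mod_cast h)))
  have h2G : 2 ∣ Nat.card G := ⟨8 * m, by rw [hcardG]; ring⟩
  have hne16 : charDegree (θ : N → ℂ) ≠ 16 := by
    intro h
    refine not_principal_of_dvd hM h2G (fun n hn => ?_) hχ
    rw [hcardG] at hn
    have h4 : (2 : ℕ) ^ n ∣ 2 ^ 4 :=
      ((Nat.prime_two.coprime_iff_not_dvd.2 hm).pow_left n).dvd_of_dvd_mul_right hn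
    exact h4.trans ((show (2 : ℕ) ^ 4 = charDegree (θ : N → ℂ) by rw [h]; norm_num).dvd.trans hdiv)
  obtain ⟨r, hr⟩ := hdiv
  have hθpos := charDegree_pos θ
  have hr2 : ¬ 2 ∣ r := fun h => hidx (h.trans (by
    rwa [hr, Nat.mul_div_cancel_left _ hθpos] at hrat))
  rw [hr]
  refine Odd.mul ?_ (Nat.odd_iff.2 (Nat.two_dvd_ne_zero.1 hr2))
  rcases hθ1 with h | h | h | h <;> first | exact absurd h hne16 | (rw [h]; decide)

end Cfsg.Lib.Block.RegularOrbit
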