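import Cfsg.Agent.Lib.Block.TameMain
import Cfsg.Agent.Lib.TwoGroup.QuasiDihedral

/-!
# Blocks with generalized quaternion or semidihedral defect group: the counts
-/

set_option autoImplicit false
set_option linter.unusedSectionVars false
set_option maxHeartbeats 800000

namespace Cfsg.Lib.Block

open Cfsg

universe u

noncomputable local instance (priority := high) fintypeSubgroupTameApps {A : Type u}
    [Group A] [Fintype A] (H : Subgroup A) : Fintype H := Fintype.ofFinite H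

variable {G : Type u} [Group G] [Finite G] {M : Ideal AlgInt} {B : Set (IrrCharacter G)}
  {D : Subgroup G}

/-- The invariants from generators of a defect group. -/
theorem tame_invariants (hM : IsPModular 2 M) (hB : IsPBlock M B) (hD : IsDefectGroup 2 M B D)
    {σ τ : G} {h e m : ℕ} (S : TameGrp D σ τ h e) (hh : h = 2 ^ m) :
    Nat.card {χ : IrrCharacter G // χ ∈ B ∧ blockHeight 2 B (χ : G → ℂ) = 0} = 4 ∧
      (∀ χ ∈ B, blockHeight 2 B (χ : G → ℂ) = 0 ∨ blockHeight 2 B (χ : G → ℂ) = 1 ∨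
        blockHeight 2 B (χ : G → ℂ) = m) ∧
      (4 ≤ h → Nat.card {χ : IrrCharacter G // χ ∈ B ∧ blockHeight 2 B (χ : G → ℂ) = 1} = h - 1) ∧
      1 ≤ blockRank 2 B ∧ blockRank 2 B ≤ 3 ∧
      (τ * τ ≠ 1 → Nat.card B = blockRank 2 B + h + 2) ∧
      (τ * τ = 1 → (Nat.card B = h + 3 ∨ Nat.card B = h + 4) ∧
        (blockRank 2 B = 3 → Nat.card B = h + 4) ∧ (blockRank 2 B = 1 → Nat.card B = h + 3)) := by
  classical
  haveI := Fintype.ofFinite G
  haveI : Fact (Nat.Prime 2) := ⟨Nat.prime_two⟩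
  have hDp : IsPGroup 2 D := isPGroup_defectGroup hM hD
  obtain ⟨c, hc⟩ := (exists_pair_iff hM hB hD hDp).2 ⟨1, (map_conj_one _).le⟩
  have SS : TameData M B D c σ τ h e := ⟨maximal_of_defectGroup hM hc hD, S⟩
  obtain ⟨⟨h0, hall, h1⟩, h3, h4, h5, h6⟩ := SS.main hM hh
  have hcount : ∀ v : ℕ, Nat.card {χ : IrrCharacter G // χ ∈ B ∧ blockHeight 2 B (χ : G → ℂ) = v} =
      (B.toFinset.filter fun χ : IrrCharacter G => blockHeight 2 B (χ : G → ℂ) = v).card := fun v => by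
    rw [Nat.card_eq_fintype_card, Fintype.card_subtype]
    congr 1
    ext χ
    simp
  exact ⟨by rw [hcount]; exact h0, fun χ hχ => hall χ (Set.mem_toFinset.2 hχ),
    fun h' => by rw [hcount]; exact h1 h', h3, h4, h5, h6⟩

/-- Generators of a generalized quaternion subgroup. -/
theorem exists_tameGrp_quaternion {n : ℕ} (hn : 3 ≤ n)
    (q : D ≃* QuaternionGroup (2 ^ (n - 2))) :
    ∃ σ τ : G, TameGrp D σ τ (2 ^ (n - 2)) (2 * 2 ^ (n - 2) - 1) ∧ τ * τ ≠ 1 := by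
  obtain ⟨h, hh⟩ : ∃ h, h = 2 ^ (n - 2) := ⟨_, rfl⟩
  rw [← hh] at q ⊢
  haveI : NeZero h := ⟨by rw [hh]; exact (Nat.two_pow_pos _).ne'⟩
  obtain ⟨A, hA⟩ : ∃ A : QuaternionGroup h, A = QuaternionGroup.a 1 := ⟨_, rfl⟩
  obtain ⟨X, hX⟩ : ∃ X : QuaternionGroup h, X = QuaternionGroup.xa 0 := ⟨_, rfl⟩
  have hXX : X * X = A ^ h := by
    rw [hX, hA, QuaternionGroup.a_one_pow]
    show QuaternionGroup.a _ = _
    congr 1
    simp
  have hconj : X * A * X⁻¹ = A ^ (2 * h - 1) := by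
    rw [hA, hX, QuaternionGroup.a_one_pow, mul_inv_eq_iff_eq_mul, QuaternionGroup.xa_mul_a,
      QuaternionGroup.a_mul_xa]
    congr 1
    have h0 : ((2 * h : ℕ) : ZMod (2 * h)) = 0 := ZMod.natCast_self _
    rw [Nat.cast_sub (by have := NeZero.pos h; omega), h0]
    simp
  have hnot : X ∉ Subgroup.zpowers A := by
    intro hm
    obtain ⟨i, hi⟩ := mem_powers_iff_mem_zpowers.2 hm
    rw [hA, hX] at hi
    simp only [QuaternionGroup.a_one_pow] at hi
    cases hi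
  have hinj : Function.Injective (fun x : QuaternionGroup h => ((q.symm x : D) : G)) :=
    Subtype.val_injective.comp q.symm.injective
  obtain ⟨f, hf⟩ : ∃ f : QuaternionGroup h →* G, f = D.subtype.comp q.symm.toMonoidHom := ⟨_, rfl⟩
  have hfi : Function.Injective f := by rw [hf]; exact hinj
  refine ⟨f A, f X, ⟨⟨n - 2, by omega, hh⟩, hf ▸ (q.symm A).2, hf ▸ (q.symm X).2, ?_, ?_, ?_, ?_,
    Or.inl ⟨rfl, ?_⟩⟩, ?_⟩
  · rw [orderOf_injective f hfi, hA, QuaternionGroup.orderOf_a_one]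
  · rw [Nat.card_congr q.toEquiv, Nat.card_eq_fintype_card, QuaternionGroup.card]
  · intro hm
    rw [← MonoidHom.map_zpowers] at hm
    exact hnot ((Subgroup.mem_map_iff_mem hfi).1 hm)
  · rw [← map_inv, ← map_mul, ← map_mul, ← map_pow, hconj]
  · rw [← map_mul, ← map_pow, hXX]
  · intro hc
    rw [← map_mul, hXX, map_eq_one_iff _ hfi, ← orderOf_dvd_iff_pow_eq_one, hA,
      QuaternionGroup.orderOf_a_one] at hc
    have := Nat.le_of_dvd (NeZero.pos h) hc
    have := NeZero.pos h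
    omega

/-- Generators of a semidihedral subgroup. -/
theorem exists_tameGrp_semidihedral {n : ℕ} (hn : 4 ≤ n) (hcard : Nat.card D = 2 ^ n)
    (hsd : IsQuasiDihedral D) :
    ∃ σ τ : G, TameGrp D σ τ (2 ^ (n - 2)) (2 ^ (n - 2) - 1) ∧ τ * τ = 1 := by
  obtain ⟨k, rfl⟩ : ∃ k, n = k + 2 := ⟨n - 2, by omega⟩
  obtain ⟨d⟩ := Cfsg.Lib.TwoGroup.sd_of_card hsd (n := k + 1) hcard
  have hyy : (d.y : G) * d.y = 1 := congrArg Subtype.val d.yy
  refine ⟨d.x, d.y, ⟨⟨k, by omega, by simp⟩, d.x.2, d.y.2, ?_, ?_, ?_, ?_,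
    Or.inr ⟨rfl, ?_, hyy⟩⟩, hyy⟩
  · rw [Subgroup.orderOf_coe, d.hx, Nat.add_sub_cancel, pow_succ']
  · rw [hcard, Nat.add_sub_cancel]; ring
  · intro hm
    obtain ⟨i, hi⟩ := Subgroup.mem_zpowers_iff.1 hm
    refine d.y_notMem ⟨i, Subtype.ext ?_⟩
    rw [← hi]; rfl
  · have := congrArg Subtype.val d.conj
    rw [Nat.add_sub_cancel] at this ⊢
    exact this
  · rw [Nat.add_sub_cancel]
    exact le_trans (by norm_num : 4 ≤ 2 ^ 2) (Nat.pow_le_pow_right two_pos (by omega))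

end Cfsg.Lib.Block
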