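import Cfsg.Agent.Lib.Block.TwistMain
import Cfsg.Agent.S4530

/-!
# A central cyclic subgroup with small quotient in a two-group with a cyclic subgroup of index four

A two-group with a cyclic subgroup of index at most four has a central element such that the
quotient is abelian with at most three involutions, dihedral, generalized quaternion or twisted.
Blocks with such a defect group have at most three modular irreducibles.
-/

set_option autoImplicit false
set_option linter.unusedSectionVars false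
set_option linter.style.haveILetI false
set_option maxHeartbeats 1000000

namespace Cfsg.Lib.Block

open Cfsg

universe u

noncomputable local instance (priority := high) fintypeSubgroupTwistClassify {A : Type u} [Group A]
    [Fintype A] (H : Subgroup A) : Fintype H := Fintype.ofFinite H

/-- Blocks with defect group of this type have rank at most three. -/
def GoodGrp (Q : Type u) [Group Q] : Prop :=
  ∀ (G : Type u) [Group G] [Fintype G] (M : Ideal AlgInt) (B : Set (IrrCharacter G))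
    (D : Subgroup G), IsPModular 2 M → IsPBlock M B → IsDefectGroup 2 M B D →
      Nonempty (D ≃* Q) → blockRank 2 B ≤ 3

variable {Q : Type u} [Group Q] [Finite Q]

theorem goodGrp_abelian (hab : ∀ x y : Q, x * y = y * x)
    (hinv : Nat.card {x : Q // x ^ 2 = 1} ≤ 4) : GoodGrp Q := by
  rintro G _ _ M B D hM hB hD ⟨ee⟩
  haveI : Fact (Nat.Prime 2) := ⟨Nat.prime_two⟩
  have hab' : ∀ x ∈ D, ∀ y ∈ D, x * y = y * x := fun x hx y hy => by
    have h : (⟨x, hx⟩ * ⟨y, hy⟩ : D) = ⟨y, hy⟩ * ⟨x, hx⟩ :=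
      ee.injective (by rw [map_mul, map_mul, hab])
    exact congrArg Subtype.val h
  by_cases hD1 : D = ⊥
  · obtain ⟨c, hc⟩ := exists_pair_at_defect hM hB hD
    subst hD1
    refine le_of_eq_of_le (abelian_inertial_one hM _ le_rfl hB hD hab'
      (isInducedBlock_of_isBrauerPairOf hM (le_centralizer_of_abelian hab' le_rfl) hc.1)
      fun g _ _ => Subgroup.mem_centralizer_iff.2 fun y hy => ?_).1 (by norm_num)
    rw [Subgroup.mem_bot.1 hy, one_mul, mul_one]
  · have hcard : Nat.card {x : D // x ^ 2 = 1} ≤ 4 := by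
      refine le_trans (le_of_eq (Nat.card_congr (ee.toEquiv.subtypeEquiv fun x => ?_))) hinv
      show x ^ 2 = 1 ↔ ee x ^ 2 = 1
      rw [← map_pow, MulEquiv.map_eq_one_iff]
    obtain ⟨k, hk, hl, -⟩ := three_involutions_invariants hM hB hD hab' hD1 hcard
    omega

theorem goodGrp_dihedral {n : ℕ} (hn : 3 ≤ n) (h : Nonempty (Q ≃* DihedralGroup (2 ^ (n - 1)))) :
    GoodGrp Q := by
  rintro G _ _ M B D hM hB hD ⟨ee⟩
  obtain ⟨f⟩ := h
  exact (Cfsg.Agent.S4528.result M hM B hB D hD n hn ⟨ee.trans f⟩).2.2.1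

theorem goodGrp_quaternion {n : ℕ} (hn : 3 ≤ n)
    (h : Nonempty (Q ≃* QuaternionGroup (2 ^ (n - 2)))) : GoodGrp Q := by
  rintro G _ _ M B D hM hB hD ⟨ee⟩
  obtain ⟨f⟩ := h
  exact (Cfsg.Agent.S4530.result M hM B hB D hD n hn ⟨ee.trans f⟩).2.1

theorem PairGrp.map {G : Type u} [Group G] {a t : Q} {m : ℕ} (S : PairGrp a t m) {f : Q →* G}
    (hf : Function.Injective f) : PairGrp (f a) (f t) m := by
  refine ⟨S.two_le, by rw [orderOf_injective f hf, S.ordA], by rw [orderOf_injective f hf, S.ordT],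
    fun h => S.tnot ?_, S.atc.map f⟩
  rw [← MonoidHom.map_zpowers] at h
  exact (Subgroup.mem_map_iff_mem hf).1 h

theorem TwBase.map {G : Type u} [Group G] {P : Subgroup Q} {a t x : Q} {m : ℕ}
    (S : TwBase P a t x m) {f : Q →* G} (hf : Function.Injective f) :
    TwBase (P.map f) (f a) (f t) (f x) m := by
  have hz : twZ (f a) m = f (twZ a m) := by rw [twZ, twZ, map_pow]
  have hc : twCm (f a) (f x) = f (twCm a x) := by
    rw [twCm, twCm, map_mul, map_mul, map_mul, map_inv]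
  have hV : ∀ v, InV a t m v → InV (f a) (f t) m (f v) := by
    rintro v (rfl | rfl | rfl | rfl)
    exacts [Or.inl (map_one f), Or.inr (Or.inl hz.symm), Or.inr (Or.inr (Or.inl rfl)),
      Or.inr (Or.inr (Or.inr (by rw [map_mul, hz])))]
  refine ⟨S.pair.map hf, ⟨a, S.amem, rfl⟩, ⟨t, S.tmem, rfl⟩, ⟨x, S.xmem, rfl⟩, S.xtc.map f,
    fun h => S.xnot ?_, by rw [Subgroup.card_map_of_injective hf, S.card], hc ▸ hV _ S.cmem,
    by rw [← map_mul]; exact hV _ S.qmem, ?_, ?_⟩
  · rw [twR, ← MonoidHom.map_zpowers, ← MonoidHom.map_zpowers, ← Subgroup.map_sup] at h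
    exact (Subgroup.mem_map_iff_mem hf).1 h
  · rw [← map_mul, hz]; exact fun h => S.qz (hf h)
  · rw [← map_mul, hc, ← map_mul, hz]; exact fun h => S.qcz (hf h)

theorem goodGrp_twBase {a t x : Q} {m : ℕ} (S : TwBase (⊤ : Subgroup Q) a t x m) : GoodGrp Q := by
  rintro G _ _ M B D hM hB hD ⟨ee⟩
  haveI : Fact (Nat.Prime 2) := ⟨Nat.prime_two⟩
  obtain ⟨f, hf⟩ : ∃ f : Q →* G, f = D.subtype.comp ee.symm.toMonoidHom := ⟨_, rfl⟩
  have hinj : Function.Injective f := by
    rw [hf]; exact Subtype.val_injective.comp ee.symm.injective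
  have hmap : (⊤ : Subgroup Q).map f = D := by
    rw [← MonoidHom.range_eq_map, hf, MonoidHom.range_comp,
      MonoidHom.range_eq_top.2 ee.symm.surjective, ← MonoidHom.range_eq_map, Subgroup.range_subtype]
  have S' := S.map hinj
  rw [hmap] at S'
  exact S'.blockRank_le_three hM hB hD

theorem goodGrp_small (h : Nat.card Q ≤ 4) (hp : IsPGroup 2 Q) : GoodGrp Q := by
  haveI : Fact (Nat.Prime 2) := ⟨Nat.prime_two⟩
  refine goodGrp_abelian (fun x y => ?_) (le_trans (Finite.card_subtype_le _) h)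
  obtain ⟨k, hk⟩ := IsPGroup.iff_card.1 hp
  rcases k with _ | _ | _ | k
  · haveI : Subsingleton Q := (Nat.card_eq_one_iff_unique.1 hk).1
    exact Subsingleton.elim _ _
  · haveI : Fact (Nat.Prime 2) := ⟨Nat.prime_two⟩
    haveI : IsCyclic Q := isCyclic_of_prime_card (p := 2) (by rw [hk, pow_one])
    exact (IsCyclic.isMulCommutative.is_comm.comm x y)
  · letI := IsPGroup.commGroupOfCardEqPrimeSq (p := 2) hk
    exact mul_comm x y
  · exfalso
    rw [hk] at h
    have h3 : 2 ^ 3 ≤ 2 ^ (k + 1 + 1 + 1) := Nat.pow_le_pow_right two_pos (by omega)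
    norm_num at h3
    omega

/-- An inverted cyclic subgroup of index two. -/
theorem goodGrp_inverted {r x : Q} {k : ℕ} (hk : 2 ≤ k) (hr : orderOf r = 2 ^ k)
    (hc : Nat.card Q = 2 ^ (k + 1)) (hx : x ∉ Subgroup.zpowers r) (hi : x * r * x⁻¹ = r⁻¹) :
    GoodGrp Q := by
  have hidx : (Subgroup.zpowers r).index = 2 := by
    have h := (Subgroup.zpowers r).card_mul_index
    rw [Nat.card_zpowers, hr, hc, pow_succ] at h
    exact Nat.eq_of_mul_eq_mul_left (Nat.two_pow_pos k) h
  obtain ⟨j, hj⟩ := Subgroup.mem_zpowers_iff.1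
    ((Subgroup.mul_mem_iff_of_index_two hidx (a := x) (b := x)).2 Iff.rfl)
  have hfix : r ^ j = r ^ (-j) := by
    conv_lhs => rw [hj, show x * x = x * (x * x) * x⁻¹ by group, ← hj]
    rw [← conj_zpow, hi, inv_zpow']
  have h2 : ((2 ^ k : ℕ) : ℤ) ∣ j - -j := by
    rw [← hr]; exact Cfsg.Lib.TwoGroup.zpow_eq_iff_dvd.1 hfix
  obtain ⟨c, hc'⟩ := h2
  have hj' : j = 2 ^ (k - 1) * c := by
    have e : ((2 ^ k : ℕ) : ℤ) = 2 * 2 ^ (k - 1) := by
      push_cast; rw [← pow_succ']; congr 1; omega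
    rw [e, mul_assoc] at hc'
    omega
  have hs : r ^ ((2 : ℤ) ^ (k - 1)) = r ^ 2 ^ (k - 1) := by rw [← zpow_natCast]; norm_num
  have hs2 : r ^ 2 ^ (k - 1) * r ^ 2 ^ (k - 1) = 1 := by
    rw [← pow_add, ← two_mul, ← pow_succ', Nat.sub_add_cancel (by omega), ← hr, pow_orderOf_eq_one]
  rcases Int.even_or_odd c with ⟨d, rfl⟩ | ⟨d, rfl⟩
  · have hxx : x * x = 1 := by
      rw [← hj, hj', zpow_mul, hs, ← two_mul, zpow_mul, zpow_two, hs2, one_zpow]
    obtain ⟨ee⟩ := Cfsg.Lib.TwoGroup.equiv_dihedral hxx hi hx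
    rw [hr] at ee
    have htop : Subgroup.closure ({r, x} : Set Q) = ⊤ := Subgroup.eq_top_of_card_eq _ (by
      rw [Nat.card_congr ee.toEquiv, DihedralGroup.nat_card, hc, pow_succ'])
    exact goodGrp_dihedral (n := k + 1) (by omega)
      ⟨(Subgroup.topEquiv.symm.trans (MulEquiv.subgroupCongr htop.symm)).trans ee⟩
  · have hxx : x * x = r ^ 2 ^ (k - 1) := by
      rw [← hj, hj', zpow_mul, hs, zpow_add, zpow_mul, zpow_two, hs2, one_zpow, one_mul, zpow_one]
    have hr' : orderOf r = 2 * 2 ^ (k - 1) := by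
      rw [hr, ← pow_succ']; congr 1; omega
    obtain ⟨ee⟩ := Cfsg.Lib.TwoGroup.equiv_quaternion hr' hxx hi hx
    haveI : NeZero (2 ^ (k - 1)) := ⟨(Nat.two_pow_pos _).ne'⟩
    have htop : Subgroup.closure ({r, x} : Set Q) = ⊤ := Subgroup.eq_top_of_card_eq _ (by
      rw [Nat.card_congr ee.toEquiv, Nat.card_eq_fintype_card, QuaternionGroup.card, hc,
        show (4 : ℕ) = 2 ^ 2 by norm_num, ← pow_add]
      congr 1
      omega)
    exact goodGrp_quaternion (n := k + 1) (by omega)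
      ⟨(Subgroup.topEquiv.symm.trans (MulEquiv.subgroupCongr htop.symm)).trans
        (by rw [show k + 1 - 2 = k - 1 by omega]; exact ee)⟩

/-- A group of order eight with an element of order at least four. -/
theorem goodGrp_eight (hc : Nat.card Q = 8) {g : Q} (hg : g ^ 2 ≠ 1) : GoodGrp Q := by
  have hord : orderOf g = 4 ∨ orderOf g = 8 := by
    have hd : orderOf g ∣ 2 ^ 3 := by
      rw [show (2 : ℕ) ^ 3 = Nat.card Q by (rw [hc]; norm_num)]
      exact orderOf_dvd_natCard g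
    obtain ⟨i, hi, he⟩ := (Nat.dvd_prime_pow Nat.prime_two).1 hd
    interval_cases i
    · exact absurd (by rw [orderOf_eq_one_iff.1 (he.trans (pow_zero 2)), one_pow]) hg
    · exact absurd (by rw [← show orderOf g = 2 by simpa using he, pow_orderOf_eq_one]) hg
    · exact Or.inl (by simpa using he)
    · exact Or.inr (by simpa using he)
  by_cases hab : ∀ x y : Q, x * y = y * x
  · refine goodGrp_abelian hab ?_
    letI : CommGroup Q := { (inferInstance : Group Q) with mul_comm := hab }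
    have hle : (powMonoidHom 2 : Q →* Q).ker ≠ ⊤ := fun h => hg (by
      have : g ∈ (powMonoidHom 2 : Q →* Q).ker := h ▸ Subgroup.mem_top g
      simpa [MonoidHom.mem_ker] using this)
    have h1 := (powMonoidHom 2 : Q →* Q).ker.card_mul_index
    have h2 : (powMonoidHom 2 : Q →* Q).ker.index ≠ 1 := fun h => hle (Subgroup.index_eq_one.1 h)
    have h0 : (powMonoidHom 2 : Q →* Q).ker.index ≠ 0 := Subgroup.index_ne_zero_of_finite
    have h3 : Nat.card {x : Q // x ^ 2 = 1} = Nat.card (powMonoidHom 2 : Q →* Q).ker :=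
      Nat.card_congr (Equiv.subtypeEquivRight fun x => by simp [MonoidHom.mem_ker])
    rw [h3, ← not_lt]
    intro hlt
    rw [hc] at h1
    have : 2 ≤ (powMonoidHom 2 : Q →* Q).ker.index := by omega
    nlinarith
  push_neg at hab
  obtain ⟨u, v, huv⟩ := hab
  have h4 : orderOf g = 4 := by
    rcases hord with h | h
    · exact h
    · exfalso
      have htop : Subgroup.zpowers g = ⊤ :=
        Subgroup.eq_top_of_card_eq _ (by rw [Nat.card_zpowers, h, hc])
      obtain ⟨i, rfl⟩ := Subgroup.mem_zpowers_iff.1 (htop ▸ Subgroup.mem_top u : u ∈ Subgroup.zpowers g)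
      obtain ⟨j, rfl⟩ := Subgroup.mem_zpowers_iff.1 (htop ▸ Subgroup.mem_top v : v ∈ Subgroup.zpowers g)
      exact huv ((Commute.refl g).zpow_zpow i j).eq
  have hidx : (Subgroup.zpowers g).index = 2 := by
    have h := (Subgroup.zpowers g).card_mul_index
    rw [Nat.card_zpowers, h4, hc] at h
    omega
  haveI := Subgroup.normal_of_index_eq_two hidx
  obtain ⟨x, hx⟩ : ∃ x : Q, x ∉ Subgroup.zpowers g := by
    by_contra hcon
    push_neg at hcon
    have h1 : Subgroup.zpowers g = ⊤ := eq_top_iff.2 fun y _ => hcon y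
    rw [h1, Subgroup.index_top] at hidx
    omega
  refine goodGrp_inverted (k := 2) le_rfl (h4.trans (by norm_num)) (by rw [hc]; norm_num) hx ?_
  obtain ⟨i, hi⟩ := Subgroup.mem_zpowers_iff.1
    (Subgroup.Normal.conj_mem inferInstance g (Subgroup.mem_zpowers g) x)
  have hgo : orderOf (g ^ i) = 4 := by
    rw [hi, ← h4]; exact (MulAut.conj x).orderOf_eq g
  have hred : g ^ i = g ^ (i % 4) := by
    rw [Cfsg.Lib.TwoGroup.zpow_eq_iff_dvd, h4]
    exact ⟨i / 4, by push_cast; omega⟩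
  have h04 : 0 ≤ i % 4 ∧ i % 4 < 4 := ⟨Int.emod_nonneg _ (by norm_num), Int.emod_lt_of_pos _ (by norm_num)⟩
  rw [← hi]
  obtain ⟨h0, h4'⟩ := h04
  rcases (show i % 4 = 0 ∨ i % 4 = 1 ∨ i % 4 = 2 ∨ i % 4 = 3 by omega) with e | e | e | e <;>
    rw [hred, e] at hgo ⊢
  · rw [zpow_zero, orderOf_one] at hgo; omega
  · exfalso
    rw [zpow_one] at hgo
    refine huv ?_
    have hxg : Commute x g := by
      rw [hred, e, zpow_one] at hi
      exact mul_inv_eq_iff_eq_mul.1 hi.symm
    have hall : ∀ y : Q, y ∈ Subgroup.zpowers g ∨ ∃ w ∈ Subgroup.zpowers g, y = w * x := fun y => by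
      by_cases hy : y ∈ Subgroup.zpowers g
      · exact Or.inl hy
      refine Or.inr ⟨y * x⁻¹, ?_, by group⟩
      exact (Subgroup.mul_mem_iff_of_index_two hidx).2 (iff_of_false hy fun h => hx (inv_inv x ▸ inv_mem h))
    have hcom : ∀ w ∈ Subgroup.zpowers g, Commute x w := fun w hw => by
      obtain ⟨j, rfl⟩ := Subgroup.mem_zpowers_iff.1 hw
      exact hxg.zpow_right j
    have hgg : ∀ w ∈ Subgroup.zpowers g, ∀ w' ∈ Subgroup.zpowers g, Commute w w' := by
      rintro _ ⟨i, rfl⟩ _ ⟨j, rfl⟩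
      exact (Commute.refl g).zpow_zpow i j
    rcases hall u with h | ⟨w, hw, rfl⟩ <;> rcases hall v with h' | ⟨w', hw', rfl⟩
    · exact (hgg _ h _ h').eq
    · exact ((hgg _ h _ hw').mul_right (hcom _ h).symm).eq
    · exact ((hgg _ hw _ h').mul_left (hcom _ h')).eq
    · exact (((hgg _ hw _ hw').mul_right (hcom _ hw).symm).mul_left
        ((hcom _ hw').mul_right (Commute.refl x))).eq
  · exfalso
    have h2 : (g ^ (2 : ℤ)) ^ 2 = 1 := by
      rw [zpow_ofNat, ← pow_mul, show 2 * 2 = orderOf g by rw [h4], pow_orderOf_eq_one]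
    have := Nat.le_of_dvd two_pos (orderOf_dvd_of_pow_eq_one h2)
    omega
  · rw [eq_inv_iff_mul_eq_one, ← zpow_add_one, show (3 : ℤ) + 1 = ((4 : ℕ) : ℤ) by norm_num,
      zpow_natCast, ← h4, pow_orderOf_eq_one]

section Classify

variable {D : Type u} [Group D] [Finite D]

/-- The conclusion. -/
def HasGoodCenter (D : Type u) [Group D] : Prop :=
  ∃ z ∈ Subgroup.center D, ∀ _ : (Subgroup.zpowers z).Normal, GoodGrp (D ⧸ Subgroup.zpowers z)

theorem card_quot {z : D} [(Subgroup.zpowers z).Normal] :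
    Nat.card (D ⧸ Subgroup.zpowers z) * orderOf z = Nat.card D := by
  rw [Subgroup.card_eq_card_quotient_mul_card_subgroup (Subgroup.zpowers z), Nat.card_zpowers]

theorem hasGoodCenter_small (hD : IsPGroup 2 D) {z : D} (hz : z ∈ Subgroup.center D)
    (h : Nat.card D ≤ 4 * orderOf z) : HasGoodCenter D := by
  refine ⟨z, hz, fun _ => goodGrp_small ?_ (hD.to_quotient _)⟩
  have h1 := card_quot (z := z)
  have := orderOf_pos z
  by_contra hlt
  rw [not_le] at hlt
  have h5 : 5 * orderOf z ≤ Nat.card (D ⧸ Subgroup.zpowers z) * orderOf z :=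
    Nat.mul_le_mul_right _ hlt
  omega

theorem hasGoodCenter_eight {z g : D} (hz : z ∈ Subgroup.center D)
    (hc : Nat.card D = 8 * orderOf z) (hg : g ^ 2 ∉ Subgroup.zpowers z) : HasGoodCenter D := by
  refine ⟨z, hz, fun _ => goodGrp_eight (g := (g : D ⧸ Subgroup.zpowers z)) ?_ ?_⟩
  · have h1 := card_quot (z := z)
    exact Nat.eq_of_mul_eq_mul_right (orderOf_pos z) (h1.trans hc)
  · rwa [← QuotientGroup.mk_pow, Ne, QuotientGroup.eq_one_iff]

theorem exists_center_involution (hD : IsPGroup 2 D) (h1 : Nat.card D ≠ 1) :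
    ∃ z ∈ Subgroup.center D, orderOf z = 2 := by
  haveI : Fact (Nat.Prime 2) := ⟨Nat.prime_two⟩
  haveI : Nontrivial D := Finite.one_lt_card_iff_nontrivial.1 (by
    have := Nat.card_pos (α := D); omega)
  haveI := hD.center_nontrivial
  obtain ⟨k, hk⟩ := IsPGroup.iff_card.1 (hD.to_subgroup (Subgroup.center D))
  have hk0 : k ≠ 0 := fun h => by
    subst h
    rw [pow_zero] at hk
    exact absurd hk (Finite.one_lt_card.ne')
  obtain ⟨z, hz⟩ := exists_prime_orderOf_dvd_card' (G := Subgroup.center D) 2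
    (hk ▸ dvd_pow_self 2 hk0)
  exact ⟨z, z.2, by rw [Subgroup.orderOf_coe, hz]⟩

/-- Index four with central square of the generator. -/
theorem hasGoodCenter_sq_central (hD : IsPGroup 2 D) {a : D} {n : ℕ} (hn : 2 ≤ n)
    (ha : orderOf a = 2 ^ n) (hcard : Nat.card D = 2 ^ (n + 2))
    (hc : a ^ 2 ∈ Subgroup.center D) : HasGoodCenter D := by
  have ho2 : orderOf (a ^ 2) = 2 ^ (n - 1) := by
    rw [orderOf_pow' _ two_ne_zero, ha, Nat.gcd_eq_right (dvd_pow_self 2 (by omega))]
    conv_lhs => rw [show n = n - 1 + 1 by omega, pow_succ]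
    rw [Nat.mul_div_cancel _ two_pos]
  have h4 : 2 ^ (n + 2) = 8 * 2 ^ (n - 1) := by
    rw [show (8 : ℕ) = 2 ^ 3 by norm_num, ← pow_add]; congr 1; omega
  by_cases hsq : ∃ g : D, g ^ 2 ∉ Subgroup.zpowers (a ^ 2)
  · obtain ⟨g, hg⟩ := hsq
    exact hasGoodCenter_eight hc (by rw [hcard, ho2, h4]) hg
  push_neg at hsq
  by_cases haZ : a ∈ Subgroup.center D
  · exact hasGoodCenter_small hD haZ (by rw [hcard, ha, pow_add]; omega)
  obtain ⟨b, hb⟩ : ∃ b : D, ¬ Commute b a := by
    by_contra hcon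
    push_neg at hcon
    exact haZ (Subgroup.mem_center_iff.2 fun g => (hcon g).eq)
  -- commutators are central of square one
  have hzc : ∀ y ∈ Subgroup.zpowers (a ^ 2), ∀ g : D, g * y = y * g := fun y hy g =>
    Subgroup.mem_center_iff.1 (Subgroup.zpowers_le.2 hc hy) g
  haveI hN : (Subgroup.zpowers (a ^ 2)).Normal := ⟨fun y hy g => by
    rwa [hzc y hy g, mul_inv_cancel_right]⟩
  have hqsq : ∀ q : D ⧸ Subgroup.zpowers (a ^ 2), q * q = 1 := fun q => by
    induction q using QuotientGroup.induction_on with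
    | H g => rw [← QuotientGroup.mk_mul, QuotientGroup.eq_one_iff, ← sq]; exact hsq g
  have hcomm : ∀ g h : D, ∃ w ∈ Subgroup.zpowers (a ^ 2), g * h = w * (h * g) := by
    intro g h
    refine ⟨g * h * (h * g)⁻¹, ?_, by group⟩
    rw [← QuotientGroup.eq_one_iff, QuotientGroup.mk_mul, QuotientGroup.mk_inv, QuotientGroup.mk_mul,
      QuotientGroup.mk_mul, mul_inv_eq_one]
    have hi : ∀ q : D ⧸ Subgroup.zpowers (a ^ 2), q⁻¹ = q := fun q =>
      inv_eq_of_mul_eq_one_right (hqsq q)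
    calc (g : D ⧸ Subgroup.zpowers (a ^ 2)) * h = ((g : D ⧸ Subgroup.zpowers (a ^ 2)) * h)⁻¹ :=
          (hi _).symm
      _ = (h : D ⧸ Subgroup.zpowers (a ^ 2)) * g := by rw [mul_inv_rev, hi, hi]
  -- the centralizer of two noncommuting elements
  obtain ⟨W, hW⟩ : ∃ W : Subgroup D, W = Subgroup.centralizer ({a} : Set D) ⊓
      Subgroup.centralizer ({b} : Set D) := ⟨_, rfl⟩
  have hidxle : ∀ g : D, (Subgroup.centralizer ({g} : Set D)).index ≤ 2 := by
    intro g
    by_contra hgt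
    rw [not_le] at hgt
    -- the conjugates of g form at most two elements
    have hz : ∀ y : D, ∃ w ∈ Subgroup.zpowers (a ^ 2), y * g = w * (g * y) ∧ w * w = 1 := by
      intro y
      obtain ⟨w, hw, he⟩ := hcomm y g
      refine ⟨w, hw, he, ?_⟩
      have e1 : y * g * y⁻¹ = w * g := by rw [he]; group
      have e2 : y * (w * g) * y⁻¹ = w * (w * g) := by
        rw [← mul_assoc y w, hzc w hw y, mul_assoc w y, mul_assoc w (y * g), e1]
      have hy2 : y * y ∈ Subgroup.zpowers (a ^ 2) := by rw [← sq]; exact hsq y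
      have e3 : y * (w * g) * y⁻¹ = g := by
        rw [← e1, show y * (y * g * y⁻¹) * y⁻¹ = y * y * g * (y * y)⁻¹ by group,
          ← hzc _ hy2 g, mul_inv_cancel_right]
      have e4 : w * w * g = g := by rw [mul_assoc, ← e2, e3]
      exact mul_eq_right.1 e4
    obtain ⟨f, hf⟩ : ∃ f : D ⧸ Subgroup.centralizer ({g} : Set D) →
        {w : D // w ∈ Subgroup.zpowers (a ^ 2) ∧ w * w = 1}, Function.Injective f := by
      refine ⟨fun q => ⟨q.out * g * q.out⁻¹ * g⁻¹, ?_⟩, fun q q' h => ?_⟩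
      · obtain ⟨w, hw, he, hw2⟩ := hz q.out
        rw [show q.out * g * q.out⁻¹ * g⁻¹ = w by rw [he]; group]
        exact ⟨hw, hw2⟩
      · have h1 := congrArg Subtype.val h
        simp only [mul_left_inj] at h1
        rw [← Quotient.out_eq q, ← Quotient.out_eq q']
        refine Quotient.sound (QuotientGroup.leftRel_apply.2 ?_)
        rw [Subgroup.mem_centralizer_singleton_iff]
        calc q.out⁻¹ * q'.out * g = q.out⁻¹ * (q'.out * g * q'.out⁻¹) * q'.out := by group
          _ = q.out⁻¹ * (q.out * g * q.out⁻¹) * q'.out := by rw [h1]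
          _ = g * (q.out⁻¹ * q'.out) := by group
    have h2 : Nat.card {w : D // w ∈ Subgroup.zpowers (a ^ 2) ∧ w * w = 1} ≤ 2 := by
      haveI : IsCyclic (Subgroup.zpowers (a ^ 2)) := Subgroup.isCyclic_zpowers _
      have hle := Nat.card_le_card_of_injective
        (fun w : {w : D // w ∈ Subgroup.zpowers (a ^ 2) ∧ w * w = 1} =>
          (⟨⟨w.1, w.2.1⟩, by rw [Subtype.ext_iff]; simpa [sq] using w.2.2⟩ :
            {v : Subgroup.zpowers (a ^ 2) // v ^ 2 = 1}))
        (fun w w' h => Subtype.ext (congrArg (fun v => ((v : Subgroup.zpowers (a ^ 2)) : D))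
          (congrArg Subtype.val h)))
      refine hle.trans ?_
      letI : CommGroup (Subgroup.zpowers (a ^ 2)) := IsCyclic.commGroup
      have hker : Nat.card {v : Subgroup.zpowers (a ^ 2) // v ^ 2 = 1} =
          Nat.card (powMonoidHom 2 : Subgroup.zpowers (a ^ 2) →* _).ker :=
        Nat.card_congr (Equiv.subtypeEquivRight fun v => by simp [MonoidHom.mem_ker])
      rw [hker, IsCyclic.card_powMonoidHom_ker]
      exact Nat.gcd_le_right _ two_pos
    have := Nat.card_le_card_of_injective f hf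
    rw [← Subgroup.index_eq_card] at this
    omega
  have hWidx : W.index ≤ 4 := by
    rw [hW]
    exact Subgroup.index_inf_le.trans
      (le_trans (Nat.mul_le_mul (hidxle a) (hidxle b)) (by norm_num))
  obtain ⟨w, hwW, hwn⟩ : ∃ w ∈ W, w ∉ Subgroup.zpowers (a ^ 2) := by
    by_contra hcon
    push_neg at hcon
    have h1 := Subgroup.card_le_of_le (show W ≤ Subgroup.zpowers (a ^ 2) from hcon)
    rw [Nat.card_zpowers, ho2] at h1
    have h2 := W.card_mul_index
    have h3 : Nat.card W * W.index ≤ 2 ^ (n - 1) * 4 := Nat.mul_le_mul h1 hWidx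
    rw [h2, hcard, h4] at h3
    have := Nat.two_pow_pos (n - 1)
    omega
  rw [hW, Subgroup.mem_inf, Subgroup.mem_centralizer_singleton_iff,
    Subgroup.mem_centralizer_singleton_iff] at hwW
  obtain ⟨hwa, hwb⟩ := hwW
  -- `w` is central
  have hwZ : w ∈ Subgroup.center D := by
    obtain ⟨K, hK⟩ : ∃ K : Subgroup D, K = Subgroup.centralizer ({w} : Set D) := ⟨_, rfl⟩
    have hKmem : ∀ y, y ∈ K ↔ Commute y w := fun y => by
      rw [hK]; exact Subgroup.mem_centralizer_singleton_iff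
    suffices K = ⊤ from Subgroup.mem_center_iff.2 fun g =>
      ((hKmem g).1 (this ▸ Subgroup.mem_top g)).eq
    have haK : a ∈ K := (hKmem a).2 hwa.symm
    have hbK : b ∈ K := (hKmem b).2 hwb.symm
    have hwK : w ∈ K := (hKmem w).2 (Commute.refl w)
    have hNK : Subgroup.zpowers (a ^ 2) ≤ K := fun y hy => (hKmem y).2 (hzc y hy w).symm
    obtain ⟨F, hF⟩ : ∃ F : Bool × Bool × Bool → D ⧸ Subgroup.zpowers (a ^ 2), F = fun s =>
        (((if s.1 then a else 1) * (if s.2.1 then b else 1) * (if s.2.2 then w else 1) : D) :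
          D ⧸ Subgroup.zpowers (a ^ 2)) := ⟨_, rfl⟩
    have hin : Function.Injective F := by
      have hcl : ∀ y y' : D, (y : D ⧸ Subgroup.zpowers (a ^ 2)) = y' → ∀ g : D,
          (Commute y g ↔ Commute y' g) := by
        intro y y' h g
        rw [QuotientGroup.eq] at h
        obtain ⟨c, hc', rfl⟩ : ∃ c ∈ Subgroup.zpowers (a ^ 2), y' = y * c :=
          ⟨y⁻¹ * y', h, (mul_inv_cancel_left y y').symm⟩
        refine ⟨fun hy => hy.mul_left (hzc c hc' g).symm, fun hy => ?_⟩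
        have := hy.mul_left (Commute.inv_left (hzc c hc' g).symm)
        rwa [mul_inv_cancel_right] at this
      intro s s' h
      rw [hF] at h
      simp only at h
      obtain ⟨sa, sb, sw⟩ := s
      obtain ⟨sa', sb', sw'⟩ := s'
      have hA : ∀ (p q r : Bool), Commute ((if p then a else 1) * (if q then b else 1) *
          (if r then w else 1)) a ↔ q = false := by
        intro p q r
        have h1 : Commute (if p then a else 1) a := by
          cases p
          exacts [Commute.one_left a, Commute.refl a]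
        have h2 : Commute (if r then w else 1) a := by
          cases r
          exacts [Commute.one_left a, hwa]
        cases q
        · simp only [Bool.false_eq_true, if_false, mul_one, iff_true]
          exact h1.mul_left h2
        · simp only [if_true, Bool.true_eq_false, iff_false]
          intro hc'
          refine hb ?_
          have := (h1.inv_left.mul_left hc').mul_left h2.inv_left
          rwa [show ((if p then a else 1))⁻¹ * ((if p then a else 1) * b *
            (if r then w else 1)) * (if r then w else 1)⁻¹ = b by group] at this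
      have hB : ∀ (p q r : Bool), Commute ((if p then a else 1) * (if q then b else 1) *
          (if r then w else 1)) b ↔ p = false := by
        intro p q r
        have h1 : Commute (if q then b else 1) b := by
          cases q
          exacts [Commute.one_left b, Commute.refl b]
        have h2 : Commute (if r then w else 1) b := by
          cases r
          exacts [Commute.one_left b, hwb]
        cases p
        · simp only [Bool.false_eq_true, if_false, one_mul, iff_true]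
          exact h1.mul_left h2
        · simp only [if_true, Bool.true_eq_false, iff_false]
          intro hc'
          refine hb ?_
          have := (hc'.mul_left h2.inv_left).mul_left h1.inv_left
          rw [show a * (if q then b else 1) * (if r then w else 1) * (if r then w else 1)⁻¹ *
            (if q then b else 1)⁻¹ = a by group] at this
          exact this.symm
      have e1 : sb = sb' := by
        have := hcl _ _ h a
        rw [hA, hA] at this
        cases sb <;> cases sb' <;> simp at this ⊢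
      have e2 : sa = sa' := by
        have := hcl _ _ h b
        rw [hB, hB] at this
        cases sa <;> cases sa' <;> simp at this ⊢
      subst e1 e2
      rw [QuotientGroup.eq, mul_inv_rev, mul_assoc, inv_mul_cancel_left] at h
      cases sw <;> cases sw' <;>
        simp only [Bool.false_eq_true, if_false, if_true, inv_one, one_mul, mul_one] at h
      · rfl
      · exact absurd h hwn
      · exact absurd (inv_inv w ▸ inv_mem h) hwn
      · rfl
    have hc8 : Nat.card (D ⧸ Subgroup.zpowers (a ^ 2)) = 8 := by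
      have h1 := card_quot (z := a ^ 2)
      rw [ho2, hcard, h4] at h1
      exact Nat.eq_of_mul_eq_mul_right (Nat.two_pow_pos _) h1
    haveI := Fintype.ofFinite (D ⧸ Subgroup.zpowers (a ^ 2))
    have hsur : Function.Surjective F :=
      ((Fintype.bijective_iff_injective_and_card F).2 ⟨hin, by
        rw [← Nat.card_eq_fintype_card, ← Nat.card_eq_fintype_card, hc8]
        simp [Nat.card_prod]⟩).2
    refine eq_top_iff.2 fun y _ => ?_
    obtain ⟨s, hs⟩ := hsur y
    rw [hF] at hs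
    simp only at hs
    rw [QuotientGroup.eq] at hs
    have hpre : (if s.1 then a else 1) * (if s.2.1 then b else 1) * (if s.2.2 then w else 1) ∈ K := by
      refine mul_mem (mul_mem ?_ ?_) ?_ <;> split_ifs <;>
        first | exact one_mem K | exact haK | exact hbK | exact hwK
    exact (Subgroup.mul_mem_cancel_left K (inv_mem hpre)).1 (hNK hs)
  obtain ⟨r, hr⟩ := Subgroup.mem_zpowers_iff.1 (hsq w)
  rcases Int.even_or_odd r with ⟨q, rfl⟩ | hodd
  · -- adjust to an involution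
    obtain ⟨w', hw'⟩ : ∃ w', w' = w * ((a ^ 2) ^ q)⁻¹ := ⟨_, rfl⟩
    have hqc : ((a ^ 2) ^ q) ∈ Subgroup.center D := zpow_mem hc q
    have hw'2 : w' * w' = 1 := by
      rw [hw', Commute.mul_mul_mul_comm (Subgroup.mem_center_iff.1 (inv_mem hqc) w).symm, ← sq, ← hr,
        ← mul_inv_rev, ← zpow_add, mul_inv_cancel]
    have hw'n : w' ∉ Subgroup.zpowers (a ^ 2) := fun h => hwn (by
      have := mul_mem h (zpow_mem (Subgroup.mem_zpowers (a ^ 2)) q)
      rwa [hw', inv_mul_cancel_right] at this)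
    have hw'c : w' ∈ Subgroup.center D := hw' ▸ mul_mem hwZ (inv_mem hqc)
    have hcom : Commute (a ^ 2) w' := Subgroup.mem_center_iff.1 hw'c (a ^ 2)
    have hmem : a ^ 2 ∉ Subgroup.zpowers (a ^ 2 * w') := by
      rintro ⟨k, hk⟩
      simp only at hk
      rw [hcom.mul_zpow] at hk
      rcases Int.even_or_odd k with ⟨j, rfl⟩ | ⟨j, rfl⟩
      · rw [← two_mul j, zpow_mul w', zpow_two, hw'2, one_zpow, mul_one] at hk
        have h1 : ((2 ^ (n - 1) : ℕ) : ℤ) ∣ 2 * j - 1 := by
          rw [← ho2, ← Cfsg.Lib.TwoGroup.zpow_eq_iff_dvd, hk, zpow_one]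
        have h2 : (2 : ℤ) ∣ 2 ^ (n - 1) := dvd_pow_self 2 (by omega)
        push_cast at h1
        have := h2.trans h1
        omega
      · rw [zpow_add_one w', zpow_mul w', zpow_two, hw'2, one_zpow, one_mul] at hk
        refine hw'n ?_
        rw [← mul_right_inj ((a ^ 2) ^ (2 * j + 1))⁻¹, inv_mul_cancel_left] at hk
        rw [hk]
        exact mul_mem (inv_mem (zpow_mem (Subgroup.mem_zpowers _) _)) (Subgroup.mem_zpowers _)
    refine hasGoodCenter_eight (g := a) (mul_mem hc hw'c) ?_ hmem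
    have hd : orderOf (a ^ 2 * w') = orderOf (a ^ 2) := by
      apply Nat.dvd_antisymm
      · refine orderOf_dvd_of_pow_eq_one ?_
        rw [hcom.mul_pow, pow_orderOf_eq_one, one_mul, ho2,
          show 2 ^ (n - 1) = 2 * 2 ^ (n - 2) by rw [← pow_succ']; congr 1; omega, pow_mul, sq w',
          hw'2, one_pow]
      · refine orderOf_dvd_of_pow_eq_one ?_
        have e := pow_orderOf_eq_one (a ^ 2 * w')
        rw [hcom.mul_pow] at e
        rcases Nat.even_or_odd (orderOf (a ^ 2 * w')) with ⟨j, hj⟩ | ⟨j, hj⟩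
        · rwa [show w' ^ orderOf (a ^ 2 * w') = 1 by
            rw [hj, ← two_mul, pow_mul, sq, hw'2, one_pow], mul_one] at e
        · exfalso
          rw [show w' ^ orderOf (a ^ 2 * w') = w' by
            rw [hj, pow_succ, pow_mul, sq, hw'2, one_pow, one_mul]] at e
          exact hw'n (eq_inv_of_mul_eq_one_right e ▸
            inv_mem (pow_mem (Subgroup.mem_zpowers _) _))
    rw [hd, hcard, ho2, h4]
  · -- `w` generates a larger group
    refine hasGoodCenter_small hD hwZ ?_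
    have hrcop : IsCoprime r ((2 ^ (n - 1) : ℕ) : ℤ) := by
      push_cast
      exact IsCoprime.pow_right
        ((Int.prime_two.coprime_iff_not_dvd.2 fun h2 => Int.not_even_iff_odd.2 hodd
          (even_iff_two_dvd.2 h2)).symm)
    obtain ⟨u, v, huv⟩ := hrcop
    have hle : Subgroup.zpowers (a ^ 2) ≤ Subgroup.zpowers w := by
      refine Subgroup.zpowers_le.2 ⟨2 * u, ?_⟩
      show w ^ (2 * u) = a ^ 2
      have e2 : w ^ (2 : ℤ) = (a ^ 2) ^ r := by rw [hr]; norm_cast
      rw [zpow_mul w, e2, ← zpow_mul (a ^ 2)]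
      conv_rhs => rw [← zpow_one (a ^ 2)]
      rw [Cfsg.Lib.TwoGroup.zpow_eq_iff_dvd, ho2]
      exact ⟨-v, by linear_combination huv⟩
    have hlt : Subgroup.zpowers (a ^ 2) < Subgroup.zpowers w :=
      lt_of_le_of_ne hle fun h => hwn (h ▸ Subgroup.mem_zpowers w)
    have h1 := Subgroup.card_dvd_of_le hle
    rw [Nat.card_zpowers, Nat.card_zpowers, ho2] at h1
    obtain ⟨c, hc'⟩ := h1
    have hc2 : 2 ≤ c := by
      rcases c with _ | _ | c
      · rw [mul_zero] at hc'; exact absurd hc' (orderOf_pos w).ne'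
      · refine absurd (Subgroup.eq_of_le_of_card_ge hle ?_) hlt.ne
        rw [Nat.card_zpowers, Nat.card_zpowers, hc', ho2, zero_add, mul_one]
      · omega
    have : 2 ^ (n - 1) * 2 ≤ orderOf w := hc' ▸ Nat.mul_le_mul_left _ hc2
    rw [hcard, h4]
    omega

/-- The quotient by the inverted part when the square of the generator is not central. -/
theorem hasGoodCenter_twisted (hD : IsPGroup 2 D) {a : D} {n : ℕ} (hn : 3 ≤ n)
    (ha : orderOf a = 2 ^ n) (hcard : Nat.card D = 2 ^ (n + 2))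
    (hmaxord : ∀ g : D, orderOf g ≤ 2 ^ n) (hnc : a ^ 2 ∉ Subgroup.center D) :
    HasGoodCenter D := by
  haveI : Fact (Nat.Prime 2) := ⟨Nat.prime_two⟩
  have hzi : ∀ {i j : ℤ}, a ^ i = a ^ j ↔ (2 ^ n : ℤ) ∣ i - j := fun {i j} => by
    rw [Cfsg.Lib.TwoGroup.zpow_eq_iff_dvd, ha]; push_cast; rfl
  have hpn : (2 : ℤ) ^ n = 2 * 2 ^ (n - 1) := by rw [← pow_succ']; congr 1; omega
  have h2n : (2 : ℤ) ∣ 2 ^ n := dvd_pow_self 2 (by omega)
  obtain ⟨C, hC⟩ : ∃ C, C = Subgroup.zpowers a := ⟨_, rfl⟩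
  have haC : a ∈ C := hC ▸ Subgroup.mem_zpowers a
  have hCidx : C.index = 4 := by
    have h := C.card_mul_index
    rw [hC, Nat.card_zpowers, ha, hcard, pow_add] at h
    rw [hC]
    exact Nat.eq_of_mul_eq_mul_left (Nat.two_pow_pos n) h
  have hsq_even : ∀ g : D, ∀ k : ℤ, g * g = a ^ k → (2 : ℤ) ∣ k := by
    intro g k hk
    by_contra hodd
    have hcop : IsCoprime k ((2 ^ n : ℕ) : ℤ) := by
      push_cast
      exact IsCoprime.pow_right ((Int.prime_two.coprime_iff_not_dvd.2 hodd).symm)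
    obtain ⟨u, v, huv⟩ := hcop
    have hmem : a ∈ Subgroup.zpowers (g * g) := ⟨u, by
      show (g * g) ^ u = a
      rw [hk, ← zpow_mul]
      conv_rhs => rw [← zpow_one a]
      rw [hzi]
      push_cast at huv
      exact ⟨-v, by linear_combination huv⟩⟩
    have h1 := Subgroup.card_le_of_le (Subgroup.zpowers_le.2 hmem)
    rw [Nat.card_zpowers, Nat.card_zpowers, ha, ← sq, orderOf_pow' g two_ne_zero] at h1
    obtain ⟨i, hi⟩ := IsPGroup.iff_orderOf.1 hD g
    rcases i with _ | i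
    · rw [hi, pow_zero] at h1
      have : 2 ^ 3 ≤ 2 ^ n := Nat.pow_le_pow_right two_pos hn
      have : 1 / Nat.gcd 1 2 = 1 := by simp
      omega
    · rw [hi, Nat.gcd_eq_right (dvd_pow_self 2 (by omega)), pow_succ,
        Nat.mul_div_cancel _ two_pos] at h1
      have h2 := hmaxord g
      rw [hi, pow_succ] at h2
      have := Nat.two_pow_pos n
      omega
  -- the subgroup generated by the square is normal
  have hnorm : ∀ g : D, ∃ u : ℤ, g * a ^ 2 * g⁻¹ = a ^ (2 * u) := by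
    obtain ⟨H₀, hH0i, hle0⟩ : ∃ H₀ : Subgroup D, H₀.index = 2 ∧ C ≤ H₀ := by
      have hCD : Nat.card C = 2 ^ n := by rw [hC, Nat.card_zpowers, ha]
      obtain ⟨H₀, hH, hle⟩ := Sylow.exists_subgroup_card_pow_succ (p := 2) (n := n)
        (by rw [hcard]; exact pow_dvd_pow 2 (by omega)) hCD
      refine ⟨H₀, ?_, hle⟩
      have h := H₀.card_mul_index
      rw [hH, hcard, pow_succ' 2 (n + 1), mul_comm 2] at h
      exact Nat.eq_of_mul_eq_mul_left (Nat.two_pow_pos _) h
    haveI := Subgroup.normal_of_index_eq_two hH0i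
    have hCH : (C.subgroupOf H₀).index = 2 := by
      have h := Subgroup.relIndex_mul_index hle0
      rw [hH0i, hCidx] at h
      show C.relIndex H₀ = 2
      omega
    intro g
    obtain ⟨y, hy⟩ : ∃ y, y = g * a * g⁻¹ := ⟨_, rfl⟩
    have hyH : y ∈ H₀ := hy ▸ Subgroup.Normal.conj_mem inferInstance a (hle0 haC) g
    have hyy : y * y ∈ C := Subgroup.mem_subgroupOf.1
      ((Subgroup.mul_mem_iff_of_index_two hCH (a := ⟨y, hyH⟩) (b := ⟨y, hyH⟩)).2 Iff.rfl)
    rw [hC] at hyy
    obtain ⟨k, hk⟩ := Subgroup.mem_zpowers_iff.1 hyy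
    obtain ⟨u, rfl⟩ := hsq_even y k hk.symm
    exact ⟨u, by rw [hk, hy, sq]; group⟩
  -- the centralizer of the square
  obtain ⟨H, hH⟩ : ∃ H : Subgroup D, H = Subgroup.centralizer ({a ^ 2} : Set D) := ⟨_, rfl⟩
  have hHmem : ∀ g, g ∈ H ↔ g * a ^ 2 * g⁻¹ = a ^ 2 := fun g => by
    rw [hH, Subgroup.mem_centralizer_singleton_iff, mul_inv_eq_iff_eq_mul]
  have hCH : C ≤ H := by
    rw [hC]
    exact Subgroup.zpowers_le.2 ((hHmem a).2 (by group))
  have hHtop : H ≠ ⊤ := fun h => hnc (Subgroup.mem_center_iff.2 fun g =>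
    mul_inv_eq_iff_eq_mul.1 ((hHmem g).1 (h ▸ Subgroup.mem_top g)))
  have hHidx : H.index = 2 := by
    have h := Subgroup.relIndex_mul_index hCH
    rw [hCidx] at h
    have h1 : H.index ≠ 1 := fun e => hHtop (Subgroup.index_eq_one.1 e)
    have hdvd : H.index ∣ 2 ^ 2 := ⟨C.relIndex H, by rw [mul_comm]; norm_num; exact h.symm⟩
    obtain ⟨i, hi, he⟩ := (Nat.dvd_prime_pow Nat.prime_two).1 hdvd
    interval_cases i
    · exact absurd (he.trans (pow_zero 2)) h1
    · exact he.trans (pow_one 2)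
    exfalso
    -- the index is four: the cyclic group is normal and the action is by inversion
    have hrel : H ≤ C := by rw [he] at h; norm_num at h; exact h
    have hHC : H = C := le_antisymm hrel hCH
    haveI hCn : C.Normal := ⟨fun y hy g => by
      rw [← hHC, hH, Subgroup.mem_centralizer_singleton_iff] at hy ⊢
      obtain ⟨u, hu⟩ := hnorm g⁻¹
      rw [inv_inv] at hu
      have hcy : Commute y (a ^ (2 * u)) := by
        rw [zpow_mul, show a ^ (2 : ℤ) = a ^ 2 by norm_cast]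
        exact Commute.zpow_right hy u
      rw [← hu] at hcy
      calc g * y * g⁻¹ * a ^ 2 = g * (y * (g⁻¹ * a ^ 2 * g)) * g⁻¹ := by group
        _ = g * (g⁻¹ * a ^ 2 * g * y) * g⁻¹ := by rw [hcy.eq]
        _ = a ^ 2 * (g * y * g⁻¹) := by group⟩
    have hall : ∀ g : D, g ∉ H → g * a ^ 2 * g⁻¹ = (a ^ 2)⁻¹ := by
      intro g hg
      obtain ⟨i, hi⟩ : ∃ i : ℤ, g * a * g⁻¹ = a ^ i := by
        have h2 := hCn.conj_mem a haC g
        rw [hC] at h2
        exact (Subgroup.mem_zpowers_iff.1 h2).imp fun _ h => h.symm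
      have hiter : ∀ k : ℕ, g ^ k * a * (g ^ k)⁻¹ = a ^ (i ^ k) := by
        intro k
        induction k with
        | zero => simp
        | succ k ih =>
          rw [pow_succ', show g * g ^ k * a * (g * g ^ k)⁻¹ = g * (g ^ k * a * (g ^ k)⁻¹) * g⁻¹ by
            group, ih, ← conj_zpow, hi, ← zpow_mul, pow_succ']
      have hg4 : g ^ 4 ∈ C := hCidx ▸ Subgroup.pow_index_mem C g
      rw [hC] at hg4
      obtain ⟨j, hj⟩ := Subgroup.mem_zpowers_iff.1 hg4
      have h4 := hiter 4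
      rw [← hj, (Commute.zpow_self a j).eq, mul_inv_cancel_right] at h4
      have h4' : (2 ^ n : ℤ) ∣ 1 - i ^ 4 := hzi.1 (by rw [zpow_one]; exact h4)
      have hiodd : i % 2 = 1 := by
        by_contra hcon
        have h2i : (2 : ℤ) ∣ i ^ 4 := dvd_pow (Int.dvd_of_emod_eq_zero (by omega)) (by norm_num)
        have := h2n.trans h4'
        omega
      obtain ⟨k, rfl⟩ : ∃ k, i = 2 * k + 1 := ⟨i / 2, by omega⟩
      rw [show 1 - (2 * k + 1) ^ 4 = 2 * ((1 - (2 * k + 1) ^ 2) * (2 * (k * (k + 1)) + 1)) by ring,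
        hpn] at h4'
      have h5 : (2 : ℤ) ^ (n - 1) ∣ 1 - (2 * k + 1) ^ 2 := by
        refine IsCoprime.dvd_of_dvd_mul_right ?_ (Int.dvd_of_mul_dvd_mul_left two_ne_zero h4')
        exact IsCoprime.pow_left ⟨-(k * (k + 1)), 1, by ring⟩
      have hg2 : g ^ 2 ∈ H := (hHmem _).2 (by
        rw [← conj_pow, hiter 2, ← zpow_natCast (a ^ _), ← zpow_mul, ← zpow_natCast a, hzi, hpn]
        push_cast
        obtain ⟨c, hc⟩ := h5
        exact ⟨-c, by linear_combination -2 * hc⟩)
      rw [hHC, hC] at hg2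
      obtain ⟨j', hj'⟩ := Subgroup.mem_zpowers_iff.1 hg2
      have h2 := hiter 2
      rw [← hj', (Commute.zpow_self a j').eq, mul_inv_cancel_right] at h2
      have h6 : (2 ^ n : ℤ) ∣ 1 - (2 * k + 1) ^ 2 := hzi.1 (by rw [zpow_one]; exact h2)
      rw [show 1 - (2 * k + 1) ^ 2 = 2 * (-(2 * (k * (k + 1)))) by ring, hpn] at h6
      have h7 : (2 : ℤ) ^ (n - 1) ∣ 2 * (k * (k + 1)) :=
        dvd_neg.1 (Int.dvd_of_mul_dvd_mul_left two_ne_zero h6)
      have hn2 : (2 : ℤ) ^ (n - 1) = 2 * 2 ^ (n - 2) := by rw [← pow_succ']; congr 1; omega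
      rw [hn2] at h7
      have h8 := Int.dvd_of_mul_dvd_mul_left two_ne_zero h7
      rw [← conj_pow, hi, ← zpow_natCast, ← zpow_mul, ← zpow_natCast a, ← zpow_neg, hzi, hpn, hn2]
      push_cast
      rcases Int.even_or_odd k with hk | hk
      · exfalso
        obtain ⟨r, hr⟩ := hk
        have hd : (2 : ℤ) ^ (n - 2) ∣ k := by
          refine IsCoprime.dvd_of_dvd_mul_right ?_ h8
          exact IsCoprime.pow_left ⟨-r, 1, by rw [hr]; ring⟩
        obtain ⟨c, hc⟩ := hd
        refine hg ((hHmem g).2 ?_)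
        rw [← conj_pow, hi, ← zpow_natCast, ← zpow_mul, ← zpow_natCast a, hzi, hpn, hn2, hc]
        push_cast
        exact ⟨c, by ring⟩
      · obtain ⟨r, hr⟩ := hk
        have hd : (2 : ℤ) ^ (n - 2) ∣ k + 1 := by
          refine IsCoprime.dvd_of_dvd_mul_left ?_ h8
          exact IsCoprime.pow_left ⟨-r, 1, by rw [hr]; ring⟩
        obtain ⟨c, hc⟩ := hd
        exact ⟨c, by linear_combination 4 * hc⟩
    have hidx2 : H.index ≤ 2 := by
      obtain ⟨g₀, hg₀⟩ : ∃ g₀, g₀ ∉ H := by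
        by_contra hcon
        push_neg at hcon
        exact hHtop (eq_top_iff.2 fun y _ => hcon y)
      refine le_of_eq (Subgroup.index_eq_two_iff.2 ⟨g₀, fun y => ?_⟩)
      rw [xor_iff_iff_not]
      constructor
      · intro h1 h2
        exact hg₀ ((Subgroup.mul_mem_cancel_left _ h2).1 h1)
      · intro hy
        refine (hHmem _).2 ?_
        rw [show y * g₀ * a ^ 2 * (y * g₀)⁻¹ = y * (g₀ * a ^ 2 * g₀⁻¹) * y⁻¹ by group,
          hall g₀ hg₀, show y * (a ^ 2)⁻¹ * y⁻¹ = (y * a ^ 2 * y⁻¹)⁻¹ by group, hall y hy, inv_inv]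
    rw [he] at hidx2
    norm_num at hidx2
  haveI := Subgroup.normal_of_index_eq_two hHidx
  obtain ⟨s, hs⟩ : ∃ s, s = a ^ ((2 : ℤ) ^ (n - 1)) := ⟨_, rfl⟩
  have hs2 : s * s = 1 := by
    rw [hs, ← zpow_add, ← zpow_zero a, hzi, hpn]; exact ⟨1, by ring⟩
  -- the part of the centralizer outside
  have hCidxH : (C.subgroupOf H).index = 2 := by
    have h := Subgroup.relIndex_mul_index hCH
    rw [hHidx, hCidx] at h
    show C.relIndex H = 2
    omega
  haveI := Subgroup.normal_of_index_eq_two hCidxH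
  obtain ⟨t₀, ht₀H, ht₀C⟩ : ∃ t₀ ∈ H, t₀ ∉ C := by
    by_contra hcon
    push_neg at hcon
    have h1 : H = C := le_antisymm hcon hCH
    rw [h1, hCidx] at hHidx
    norm_num at hHidx
  obtain ⟨ε, hε, hta⟩ : ∃ ε : ℤ, (ε = 0 ∨ ε = 1) ∧ t₀ * a * t₀⁻¹ = a * s ^ ε := by
    have h1 := Subgroup.mem_subgroupOf.1 (Subgroup.Normal.conj_mem inferInstance
      (⟨a, hCH haC⟩ : H) (Subgroup.mem_subgroupOf.2 (show a ∈ C from haC)) ⟨t₀, ht₀H⟩ :
      (⟨t₀, ht₀H⟩ * ⟨a, hCH haC⟩ * ⟨t₀, ht₀H⟩⁻¹ : H) ∈ C.subgroupOf H)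
    simp only [Subgroup.coe_mul, InvMemClass.coe_inv] at h1
    rw [hC] at h1
    obtain ⟨i, hi⟩ := Subgroup.mem_zpowers_iff.1 h1
    have h2 := (hHmem t₀).1 ht₀H
    rw [← conj_pow, ← hi, ← zpow_natCast (a ^ i), ← zpow_mul, ← zpow_natCast a, hzi, hpn] at h2
    push_cast at h2
    rw [show i * 2 - 2 = 2 * (i - 1) by ring] at h2
    obtain ⟨c, hc⟩ := Int.dvd_of_mul_dvd_mul_left two_ne_zero h2
    rcases Int.even_or_odd c with ⟨d, rfl⟩ | ⟨d, rfl⟩
    · refine ⟨0, Or.inl rfl, ?_⟩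
      rw [← hi, zpow_zero, mul_one]
      conv_rhs => rw [← zpow_one a]
      rw [hzi, hpn]
      exact ⟨d, by linear_combination hc⟩
    · refine ⟨1, Or.inr rfl, ?_⟩
      rw [← hi, zpow_one, hs]
      conv_rhs => arg 1; rw [← zpow_one a]
      rw [← zpow_add, hzi, hpn]
      exact ⟨d, by linear_combination hc⟩
  have hconjpow : ∀ k : ℤ, t₀ * a ^ k * t₀⁻¹ = a ^ (k * (1 + 2 ^ (n - 1) * ε)) := by
    intro k
    rw [← conj_zpow, hta, hs, ← zpow_mul]
    conv_lhs => arg 1; arg 1; rw [← zpow_one a]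
    rw [← zpow_add, ← zpow_mul]
    congr 1
    ring
  obtain ⟨t, htH, htC, ht2, htcomm⟩ : ∃ t ∈ H, t ∉ C ∧ t * t = 1 ∧
      t * a * t⁻¹ = a * s ^ ε := by
    have h1 : t₀ * t₀ ∈ C := Subgroup.mem_subgroupOf.1
      ((Subgroup.mul_mem_iff_of_index_two hCidxH (a := ⟨t₀, ht₀H⟩) (b := ⟨t₀, ht₀H⟩)).2 Iff.rfl)
    rw [hC] at h1
    obtain ⟨k, hk⟩ := Subgroup.mem_zpowers_iff.1 h1
    obtain ⟨k', rfl⟩ := hsq_even t₀ k hk.symm
    obtain ⟨j, hj⟩ : ∃ j : ℤ, j = -k' * (1 + 2 ^ (n - 2) * ε) := ⟨_, rfl⟩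
    refine ⟨t₀ * a ^ j, mul_mem ht₀H (zpow_mem (hCH haC) j), fun h =>
      ht₀C ((Subgroup.mul_mem_cancel_right _ (zpow_mem haC j)).1 h), ?_, ?_⟩
    · rw [show t₀ * a ^ j * (t₀ * a ^ j) = t₀ * a ^ j * t₀⁻¹ * (t₀ * t₀) * a ^ j by group,
        hconjpow, ← hk, ← zpow_add, ← zpow_add, ← zpow_zero a, hzi, sub_zero, hpn]
      obtain ⟨w, hw⟩ : ∃ w : ℤ, (2 : ℤ) ^ (n - 2) = 2 * w :=
        ⟨2 ^ (n - 3), by rw [← pow_succ']; congr 1; omega⟩
      have hw' : (2 : ℤ) ^ (n - 1) = 2 * (2 * w) := by rw [← hw, ← pow_succ']; congr 1; omega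
      rw [hj, hw', hw]
      rcases hε with rfl | rfl
      · exact ⟨0, by ring⟩
      · exact ⟨-k' * (1 + w), by ring⟩
    · rw [← hta, show t₀ * a ^ j * a * (t₀ * a ^ j)⁻¹ = t₀ * (a ^ j * a * (a ^ j)⁻¹) * t₀⁻¹ by group,
        (Commute.zpow_self a j).eq, mul_inv_cancel_right]
  have hHcases : ∀ g ∈ H, ∃ i : ℤ, g = a ^ i ∨ g = a ^ i * t := by
    intro g hg
    by_cases hgC : g ∈ C
    · rw [hC] at hgC
      obtain ⟨i, rfl⟩ := Subgroup.mem_zpowers_iff.1 hgC
      exact ⟨i, Or.inl rfl⟩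
    · have h1 := Subgroup.mem_subgroupOf.1 ((Subgroup.mul_mem_iff_of_index_two hCidxH
        (a := ⟨g, hg⟩) (b := ⟨t, htH⟩)).2 (iff_of_false
          (fun h => hgC (Subgroup.mem_subgroupOf.1 h)) fun h => htC (Subgroup.mem_subgroupOf.1 h)))
      simp only [Subgroup.coe_mul] at h1
      rw [hC] at h1
      obtain ⟨i, hi⟩ := Subgroup.mem_zpowers_iff.1 h1
      exact ⟨i, Or.inr (by rw [hi, mul_assoc, ht2, mul_one])⟩
  have htconj : ∀ k : ℤ, t * a ^ k * t⁻¹ = a ^ (k * (1 + 2 ^ (n - 1) * ε)) := by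
    intro k
    rw [← conj_zpow, htcomm, ← hta, conj_zpow, hconjpow]
  have hsqout : ∀ i : ℤ, a ^ i * t * (a ^ i * t) = a ^ (2 * i + i * (2 ^ (n - 1) * ε)) := by
    intro i
    rw [show a ^ i * t * (a ^ i * t) = a ^ i * (t * a ^ i * t⁻¹) * (t * t) by group, ht2, mul_one,
      htconj, ← zpow_add]
    congr 1
    ring
  -- an element outside
  obtain ⟨x, hx⟩ : ∃ x, x ∉ H := by
    by_contra hcon
    push_neg at hcon
    exact hHtop (eq_top_iff.2 fun y _ => hcon y)
  obtain ⟨u, hu⟩ := hnorm x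
  have huodd : u % 2 = 1 := by
    by_contra hcon
    obtain ⟨v, rfl⟩ : ∃ v, u = 2 * v := ⟨u / 2, by omega⟩
    have h1 : orderOf (a ^ 2) ∣ orderOf ((a ^ 2) ^ 2) := by
      rw [← (MulAut.conj x).orderOf_eq (a ^ 2), MulAut.conj_apply, hu]
      refine orderOf_dvd_of_pow_eq_one ?_
      have e : a ^ (2 * (2 * v)) = ((a ^ 2) ^ 2) ^ v := by
        rw [← pow_mul, ← zpow_natCast a, ← zpow_mul]; congr 1; push_cast; ring
      rw [e, ← zpow_natCast (((a ^ 2) ^ 2) ^ v), ← zpow_mul, mul_comm, zpow_mul, zpow_natCast,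
        pow_orderOf_eq_one, one_zpow]
    have ho : orderOf (a ^ 2) = 2 ^ (n - 1) := by
      rw [orderOf_pow' _ two_ne_zero, ha, Nat.gcd_eq_right (dvd_pow_self 2 (by omega))]
      conv_lhs => rw [show n = n - 1 + 1 by omega, pow_succ]
      rw [Nat.mul_div_cancel _ two_pos]
    rw [orderOf_pow' (a ^ 2) two_ne_zero, ho, Nat.gcd_eq_right (dvd_pow_self 2 (by omega))] at h1
    have h2 : 2 ^ (n - 1) = 2 * 2 ^ (n - 2) := by rw [← pow_succ']; congr 1; omega
    rw [h2, Nat.mul_div_cancel_left _ two_pos] at h1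
    have h3 := Nat.le_of_dvd (Nat.two_pow_pos _) h1
    have := Nat.two_pow_pos (n - 2)
    omega
  have hune : ¬ (2 : ℤ) ^ (n - 1) ∣ u - 1 := fun ⟨c, hc⟩ => hx ((hHmem x).2 (by
    rw [hu, ← zpow_natCast a, hzi, hpn]
    push_cast
    exact ⟨c, by linear_combination 2 * hc⟩))
  have hu2 : (2 : ℤ) ^ (n - 1) ∣ u * u - 1 := by
    have hxx : x * x ∈ H := (Subgroup.mul_mem_iff_of_index_two hHidx).2 Iff.rfl
    have h := (hHmem _).1 hxx
    rw [show x * x * a ^ 2 * (x * x)⁻¹ = x * (x * a ^ 2 * x⁻¹) * x⁻¹ by group, hu, zpow_mul a,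
      show a ^ (2 : ℤ) = a ^ 2 by norm_cast, ← conj_zpow, hu, ← zpow_mul,
      ← zpow_natCast a, hzi, hpn] at h
    push_cast at h
    rw [show 2 * u * u - 2 = 2 * (u * u - 1) by ring] at h
    exact Int.dvd_of_mul_dvd_mul_left two_ne_zero h
  have hu1 : u - 1 ≠ 0 := fun e => hune (e ▸ dvd_zero _)
  obtain ⟨v, o, ho, huv⟩ : ∃ (v : ℕ) (o : ℤ), o % 2 = 1 ∧ u - 1 = 2 ^ v * o := by
    obtain ⟨v, q, hq, he⟩ := Nat.exists_eq_pow_mul_and_not_dvd (Int.natAbs_ne_zero.2 hu1) 2
      (by norm_num)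
    rcases Int.natAbs_eq (u - 1) with e | e
    · exact ⟨v, q, by omega, by rw [e, he]; push_cast; ring⟩
    · exact ⟨v, -q, by omega, by rw [e, he]; push_cast; ring⟩
  have hv1 : 1 ≤ v := by
    by_contra hv
    obtain rfl : v = 0 := by omega
    rw [pow_zero, one_mul] at huv
    omega
  have hvn : v + 2 ≤ n := by
    by_contra hv
    exact hune ⟨2 ^ (v - (n - 1)) * o, by
      rw [huv, ← mul_assoc, ← pow_add]; congr 2; omega⟩
  obtain ⟨m, hm⟩ : ∃ m, m = n - v := ⟨_, rfl⟩
  have hplus : (2 : ℤ) ^ m ∣ 2 * (1 + u) := by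
    have h1 : (2 : ℤ) ^ v * 2 ^ (m - 1) ∣ 2 ^ v * (o * (1 + u)) := by
      rw [← pow_add, show v + (m - 1) = n - 1 by omega, ← mul_assoc, ← huv,
        show (u - 1) * (1 + u) = u * u - 1 by ring]
      exact hu2
    have h2 := Int.dvd_of_mul_dvd_mul_left (by positivity) h1
    have h3 : (2 : ℤ) ^ (m - 1) ∣ 1 + u := by
      refine IsCoprime.dvd_of_dvd_mul_left ?_ h2
      exact IsCoprime.pow_left ⟨-(o / 2), 1, by omega⟩
    rw [show (2 : ℤ) ^ m = 2 * 2 ^ (m - 1) by rw [← pow_succ']; congr 1; omega]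
    exact mul_dvd_mul_left 2 h3
  -- the central element
  obtain ⟨z, hz⟩ : ∃ z, z = a ^ 2 ^ m := ⟨_, rfl⟩
  have hzpow : ∀ i : ℤ, a ^ i ∈ Subgroup.zpowers z ↔ (2 : ℤ) ^ m ∣ i := by
    intro i
    have hdiv : (2 : ℤ) ^ m ∣ 2 ^ n := pow_dvd_pow 2 (by omega)
    rw [hz, Subgroup.mem_zpowers_iff]
    constructor
    · rintro ⟨j, hj⟩
      rw [← zpow_natCast a, ← zpow_mul, hzi] at hj
      push_cast at hj
      obtain ⟨c, hc⟩ := hdiv.trans hj
      exact ⟨j - c, by linear_combination -hc⟩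
    · rintro ⟨c, rfl⟩
      exact ⟨c, by rw [← zpow_natCast a, ← zpow_mul]; push_cast; rfl⟩
  have hzC : Subgroup.zpowers z ≤ C := by
    rw [hC, hz]; exact Subgroup.zpowers_le.2 (Subgroup.npow_mem_zpowers a _)
  have hzeq : z = a ^ ((2 : ℤ) ^ m) := by rw [hz, ← zpow_natCast]; norm_num
  have hxz : x * z * x⁻¹ = z := by
    have e : z = (a ^ 2) ^ ((2 : ℤ) ^ (m - 1)) := by
      rw [hzeq, ← zpow_natCast a, ← zpow_mul]
      push_cast
      congr 1
      rw [← pow_succ']; congr 1; omega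
    rw [e, ← conj_zpow, hu, ← zpow_natCast a, ← zpow_mul, ← zpow_mul, hzi]
    push_cast
    refine ⟨o, ?_⟩
    have : (2 : ℤ) ^ n = 2 * 2 ^ (m - 1) * 2 ^ v := by
      rw [mul_assoc, ← pow_add, ← pow_succ']; congr 1; omega
    rw [this]
    linear_combination (2 * (2 : ℤ) ^ (m - 1)) * huv
  have hzH : ∀ g ∈ H, g * z = z * g := by
    intro g hg
    have e : z = (a ^ 2) ^ 2 ^ (m - 1) := by
      rw [hz, ← pow_mul, ← pow_succ']; congr 2; omega
    rw [e]
    exact (Commute.pow_right (mul_inv_eq_iff_eq_mul.1 ((hHmem g).1 hg)) _).eq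
  have hzcen : z ∈ Subgroup.center D := Subgroup.mem_center_iff.2 fun g => by
    by_cases hg : g ∈ H
    · exact hzH g hg
    have h1 : g * x⁻¹ ∈ H := (Subgroup.mul_mem_iff_of_index_two hHidx).2
      (iff_of_false hg fun h => hx (inv_inv x ▸ inv_mem h))
    calc g * z = g * x⁻¹ * (x * z * x⁻¹) * x := by group
      _ = z * g := by rw [hxz, hzH _ h1]; group
  refine ⟨z, hzcen, fun hN => ?_⟩
  obtain ⟨π, hπ⟩ : ∃ π : D →* D ⧸ Subgroup.zpowers z, π = QuotientGroup.mk' _ := ⟨_, rfl⟩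
  have hπ1 : ∀ g, π g = 1 ↔ g ∈ Subgroup.zpowers z := fun g => by
    rw [hπ, QuotientGroup.mk'_apply, QuotientGroup.eq_one_iff]
  have hπz : ∀ i : ℤ, π a ^ i = 1 ↔ (2 : ℤ) ^ m ∣ i := fun i => by
    rw [← map_zpow, hπ1, hzpow]
  have hordA : orderOf (π a) = 2 ^ m := by
    have h1 : ∀ i : ℕ, π a ^ i = 1 ↔ 2 ^ m ∣ i := fun i => by
      rw [← zpow_natCast, hπz, show (2 : ℤ) ^ m = ((2 ^ m : ℕ) : ℤ) by norm_num,
        Int.natCast_dvd_natCast]
    exact Nat.dvd_antisymm (orderOf_dvd_of_pow_eq_one ((h1 _).2 dvd_rfl))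
      ((h1 _).1 (pow_orderOf_eq_one _))
  have hπs : π s = 1 := by
    rw [hπ1, hs, hzpow]; exact pow_dvd_pow 2 (by omega)
  have hπC : ∀ g, g ∈ C → g ∈ C := fun _ h => h
  have hPG : PairGrp (π a) (π t) m := by
    refine ⟨by omega, hordA, orderOf_eq_prime (by rw [sq, ← map_mul, ht2, map_one]) fun h =>
      htC (hzC ((hπ1 t).1 h)), ?_, ?_⟩
    · rintro ⟨i, hi⟩
      simp only at hi
      rw [← map_zpow, ← inv_mul_eq_one, ← map_inv, ← map_mul, hπ1] at hi
      exact htC ((Subgroup.mul_mem_cancel_left _ (inv_mem (zpow_mem haC i))).1 (hzC hi))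
    · have h := congrArg π htcomm
      rw [map_mul, map_mul, map_mul, map_zpow, hπs, one_zpow, mul_one, map_inv] at h
      exact (mul_inv_eq_iff_eq_mul.1 h).symm
  have hπR : ∀ g ∈ H, π g ∈ twR (π a) (π t) := fun g hg => by
    obtain ⟨i, hi⟩ := hHcases g hg
    rcases hi with rfl | rfl
    · rw [map_zpow]; exact zpow_mem hPG.a_mem i
    · rw [map_mul, map_zpow]; exact mul_mem (zpow_mem hPG.a_mem i) hPG.t_mem
  have hkey : ∀ y : D, y ∉ H → y * a ^ 2 * y⁻¹ = a ^ (2 * u) →
      InV (π a) (π t) m (π y * π y) ∧ π y * π y ≠ twZ (π a) m := by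
    intro y hy hyu
    have hyy : y * y ∈ H := (Subgroup.mul_mem_iff_of_index_two hHidx).2 Iff.rfl
    have hfix : y * (y * y) * y⁻¹ = y * y := by group
    obtain ⟨k, hk⟩ := hHcases _ hyy
    obtain ⟨δ, hδ⟩ : ∃ δ : ℤ, y * y * (y * y) = a ^ (2 * k + k * (2 ^ (n - 1) * δ)) ∧
        True := by
      rcases hk with hk | hk <;> rw [hk]
      · exact ⟨0, by rw [← zpow_add]; congr 1; ring, trivial⟩
      · exact ⟨ε, hsqout k, trivial⟩
    -- the square of the square is fixed
    have hdiv : (2 : ℤ) ^ (m - 1) ∣ k := by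
      obtain ⟨K, hK⟩ : ∃ K : ℤ, K = k * (1 + 2 ^ (n - 2) * δ) := ⟨_, rfl⟩
      have hn2 : (2 : ℤ) ^ (n - 1) = 2 * 2 ^ (n - 2) := by rw [← pow_succ']; congr 1; omega
      have e1 : y * y * (y * y) = (a ^ 2) ^ K := by
        rw [hδ.1, ← zpow_natCast a, ← zpow_mul, hK, hn2]; congr 1; push_cast; ring
      have e2 : y * (y * y * (y * y)) * y⁻¹ = y * y * (y * y) := by group
      rw [e1, ← conj_zpow, hyu, ← zpow_natCast a, ← zpow_mul, ← zpow_mul, hzi] at e2
      push_cast at e2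
      rw [show 2 * u * K - 2 * K = (2 * 2 ^ v) * (o * K) by linear_combination (2 * K) * huv,
        show (2 : ℤ) ^ n = (2 * 2 ^ v) * 2 ^ (m - 1) by
          rw [mul_assoc, ← pow_add, ← pow_succ']; congr 1; omega] at e2
      have e3 := Int.dvd_of_mul_dvd_mul_left (by positivity) e2
      have e4 : (2 : ℤ) ^ (m - 1) ∣ K := by
        refine IsCoprime.dvd_of_dvd_mul_left ?_ e3
        exact IsCoprime.pow_left ⟨-(o / 2), 1, by omega⟩
      rw [hK] at e4
      refine IsCoprime.dvd_of_dvd_mul_right ?_ e4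
      refine IsCoprime.pow_left ⟨-(2 ^ (n - 3) * δ), 1, ?_⟩
      rw [show (2 : ℤ) ^ (n - 2) = 2 ^ (n - 3) * 2 by rw [← pow_succ]; congr 1; omega]
      ring
    obtain ⟨c, hc⟩ := hdiv
    have hπk : π a ^ k = 1 ∨ π a ^ k = twZ (π a) m := by
      have e : π a ^ k = twZ (π a) m ^ c := by rw [hc, zpow_mul, ← hPG.z_eq]
      rw [e, hPG.inV_zpow hPG.inV_z c]
      split_ifs
      exacts [Or.inl rfl, Or.inr rfl]
    refine ⟨?_, fun hbad => ?_⟩
    · rw [← map_mul]
      rcases hk with h | h <;> rw [h] <;> simp only [map_mul, map_zpow] <;>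
        rcases hπk with e | e <;> rw [e]
      · exact hPG.inV_one
      · exact hPG.inV_z
      · rw [one_mul]; exact hPG.inV_t
      · exact Or.inr (Or.inr (Or.inr rfl))
    rw [← map_mul] at hbad
    rcases hk with h | h <;> rw [h] at hbad
    · -- a power fixed by the outside element
      rw [map_zpow, hPG.z_eq, hPG.zpow_eq_iff] at hbad
      obtain ⟨c', hc'⟩ := hbad
      have hm2 : (2 : ℤ) ^ m = 2 * 2 ^ (m - 1) := by rw [← pow_succ']; congr 1; omega
      have hk' : k = 2 ^ (m - 1) * (2 * c' + 1) := by linear_combination hc' + c' * hm2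
      obtain ⟨q, hq⟩ : ∃ q, k = 2 * q :=
        ⟨2 ^ (m - 2) * (2 * c' + 1), by
          rw [hk', ← mul_assoc, ← pow_succ']; congr 2; omega⟩
      have e2 : y * a ^ k * y⁻¹ = a ^ k := by rw [← h]; exact hfix
      rw [hq, zpow_mul, show a ^ (2 : ℤ) = a ^ 2 by norm_cast, ← conj_zpow, hyu,
        ← zpow_natCast a, ← zpow_mul, ← zpow_mul, hzi] at e2
      push_cast at e2
      rw [show 2 * u * q - 2 * q = k * (u - 1) by rw [hq]; ring, hk', huv,
        show (2 : ℤ) ^ (m - 1) * (2 * c' + 1) * (2 ^ v * o) =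
          (2 ^ (m - 1) * 2 ^ v) * ((2 * c' + 1) * o) by ring, hpn,
        ← pow_add, show m - 1 + v = n - 1 by omega, mul_comm (2 : ℤ) (2 ^ (n - 1))] at e2
      have e3 := Int.dvd_of_mul_dvd_mul_left (by positivity) e2
      have e4 : ((2 * c' + 1) * o) % 2 = 1 := by
        rw [Int.mul_emod, ho, Int.add_emod, Int.mul_emod_right]; norm_num
      omega
    · rw [map_mul, map_zpow, hPG.z_eq] at hbad
      exact hPG.zpow_ne_mul _ _ hbad.symm
  have hxa : x * a * x⁻¹ ∈ H := Subgroup.Normal.conj_mem inferInstance a (hCH haC) x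
  have hxR : π x ∉ twR (π a) (π t) := by
    intro h
    obtain ⟨i, hi⟩ := hPG.mem_twR.1 h
    rcases hi with hi | hi
    · rw [← map_zpow, ← mul_inv_eq_one, ← map_inv, ← map_mul, hπ1] at hi
      exact hx ((Subgroup.mul_mem_cancel_right _ (inv_mem (zpow_mem (hCH haC) i))).1 (hCH (hzC hi)))
    · rw [← map_zpow, ← map_mul, ← mul_inv_eq_one, ← map_inv, ← map_mul, hπ1] at hi
      exact hx ((Subgroup.mul_mem_cancel_right _
        (inv_mem (mul_mem (zpow_mem (hCH haC) i) htH))).1 (hCH (hzC hi)))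
  have hcx : twCm (π a) (π x) = π (a * (x * a * x⁻¹)) := by
    rw [twCm, map_mul, map_mul, map_mul, map_inv]
  have hxt : Commute (π x) (π t) := by
    have hmem : x * t * x⁻¹ ∈ H := Subgroup.Normal.conj_mem inferInstance t htH x
    have hsq1 : x * t * x⁻¹ * (x * t * x⁻¹) = 1 := by
      rw [show x * t * x⁻¹ * (x * t * x⁻¹) = x * (t * t) * x⁻¹ by group, ht2, mul_one,
        mul_inv_cancel]
    obtain ⟨i, hi⟩ := hHcases _ hmem
    have hm' : (2 : ℤ) ^ m ∣ 2 ^ (n - 1) := pow_dvd_pow 2 (by omega)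
    rcases hi with hi | hi <;> rw [hi] at hsq1
    · exfalso
      rw [← zpow_add, ← zpow_zero a, hzi, sub_zero, ← two_mul, hpn] at hsq1
      obtain ⟨c, hc⟩ := Int.dvd_of_mul_dvd_mul_left two_ne_zero hsq1
      have hmz : a ^ i ∈ Subgroup.zpowers z := (hzpow i).2 (hm'.trans ⟨c, hc⟩)
      have hcen : a ^ i ∈ Subgroup.center D := Subgroup.zpowers_le.2 hzcen hmz
      have e : t = a ^ i := by
        calc t = x⁻¹ * (x * t * x⁻¹) * x := by group
          _ = a ^ i := by rw [hi, Subgroup.mem_center_iff.1 hcen x⁻¹, inv_mul_cancel_right]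
      exact htC (e ▸ zpow_mem haC i)
    · rw [hsqout, ← zpow_zero a, hzi, sub_zero] at hsq1
      have hn2 : (2 : ℤ) ^ (n - 1) = 2 * 2 ^ (n - 2) := by rw [← pow_succ']; congr 1; omega
      rw [hn2, show 2 * i + i * (2 * 2 ^ (n - 2) * ε) = 2 * (i * (1 + 2 ^ (n - 2) * ε)) by ring,
        hpn] at hsq1
      have h5 : (2 : ℤ) ^ (n - 1) ∣ i := by
        refine IsCoprime.dvd_of_dvd_mul_right ?_ (Int.dvd_of_mul_dvd_mul_left two_ne_zero hsq1)
        refine IsCoprime.pow_left ⟨-(2 ^ (n - 3) * ε), 1, ?_⟩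
        rw [show (2 : ℤ) ^ (n - 2) = 2 ^ (n - 3) * 2 by rw [← pow_succ]; congr 1; omega]
        ring
      have h6 : π a ^ i = 1 := (hπz i).2 (hm'.trans h5)
      have h7 := congrArg π hi
      rw [map_mul π (a ^ i) t, map_zpow, h6, one_mul, map_mul, map_mul, map_inv] at h7
      exact mul_inv_eq_iff_eq_mul.1 h7
  have hcInV : InV (π a) (π t) m (twCm (π a) (π x)) := by
    refine (hPG.sq_one_iff (hcx ▸ hπR _ (mul_mem (hCH haC) hxa))).1 ?_
    have hAB : Commute (π a) (π x * π a * (π x)⁻¹) := by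
      have h2 := hπR _ hxa
      rw [map_mul, map_mul, map_inv] at h2
      exact hPG.R_comm hPG.a_mem h2
    rw [twCm, (hAB.symm).mul_mul_mul_comm, ← map_mul, ← map_mul, ← map_inv, ← map_mul,
      ← map_mul, ← map_mul]
    rw [show x * a * x⁻¹ * (x * a * x⁻¹) = x * a ^ 2 * x⁻¹ by rw [sq]; group, hu, hπ1, ← sq,
      ← zpow_natCast a, ← zpow_add, hzpow]
    push_cast
    rw [show (2 : ℤ) + 2 * u = 2 * (1 + u) by ring]
    exact hplus
  have hax : a * x ∉ H := fun h => hx ((Subgroup.mul_mem_cancel_left _ (hCH haC)).1 h)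
  have haxu : a * x * a ^ 2 * (a * x)⁻¹ = a ^ (2 * u) := by
    rw [show a * x * a ^ 2 * (a * x)⁻¹ = a * (x * a ^ 2 * x⁻¹) * a⁻¹ by group, hu,
      (Commute.self_zpow a (2 * u)).eq, mul_inv_cancel_right]
  have hsqc : twCm (π a) (π x) * (π x * π x) = π (a * x) * π (a * x) := by
    rw [twCm, map_mul]; group
  refine goodGrp_twBase (a := π a) (t := π t) (x := π x) (m := m) ⟨hPG, Subgroup.mem_top _,
    Subgroup.mem_top _, Subgroup.mem_top _, hxt, hxR, ?_, hcInV, (hkey x hx hu).1, (hkey x hx hu).2,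
    by rw [hsqc]; exact (hkey _ hax haxu).2⟩
  rw [Subgroup.card_top]
  have hc' := card_quot (z := z)
  have hoz : orderOf z = 2 ^ v := by
    rw [hz, orderOf_pow' _ (pow_ne_zero _ two_ne_zero), ha,
      Nat.gcd_eq_right (pow_dvd_pow 2 (by omega)), Nat.pow_div (by omega) two_pos]
    congr 1
    omega
  rw [hoz, hcard, show 2 ^ (n + 2) = 2 ^ (m + 2) * 2 ^ v by rw [← pow_add]; congr 1; omega] at hc'
  exact Nat.eq_of_mul_eq_mul_right (Nat.two_pow_pos v) hc'

/-- Every two-group with a cyclic subgroup of index at most four. -/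
theorem exists_goodCenter (hD : IsPGroup 2 D) {a₀ : D}
    (hidx : (Subgroup.zpowers a₀).index ≤ 4) : HasGoodCenter D := by
  haveI : Fact (Nat.Prime 2) := ⟨Nat.prime_two⟩
  obtain ⟨a, ha⟩ := Finite.exists_max (fun g : D => orderOf g)
  obtain ⟨n, hn⟩ := IsPGroup.iff_orderOf.1 hD a
  obtain ⟨k, hk⟩ := IsPGroup.iff_card.1 hD
  have hkn : k ≤ n + 2 := by
    have h1 := (Subgroup.zpowers a₀).card_mul_index
    rw [Nat.card_zpowers] at h1
    have h2 : Nat.card D ≤ orderOf a * 4 := h1 ▸ Nat.mul_le_mul (ha a₀) hidx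
    rw [hn, hk, show 2 ^ n * 4 = 2 ^ (n + 2) by rw [pow_add]; norm_num] at h2
    exact (Nat.pow_le_pow_iff_right (by norm_num)).1 h2
  have hnk : n ≤ k := (Nat.pow_dvd_pow_iff_le_right (by norm_num)).1
    (hn ▸ hk ▸ orderOf_dvd_natCard a)
  have hs1 : ∀ j, j ≤ 2 → k ≤ j → HasGoodCenter D := fun j hj hkj =>
    hasGoodCenter_small hD (one_mem _) (by
      rw [orderOf_one, mul_one, hk]
      exact le_trans (Nat.pow_le_pow_right two_pos (hkj.trans hj)) (by norm_num))
  by_cases hk2 : k ≤ 2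
  · exact hs1 2 le_rfl hk2
  obtain ⟨z₀, hz₀, hz₀o⟩ := exists_center_involution hD (by
    rw [hk]; exact (Nat.one_lt_two_pow (by omega)).ne')
  by_cases hk3 : k ≤ 3
  · refine hasGoodCenter_small hD hz₀ ?_
    rw [hk, hz₀o]
    exact le_trans (Nat.pow_le_pow_right two_pos hk3) (by norm_num)
  rcases Nat.lt_or_ge k (n + 2) with hlt | hge
  · -- index at most two
    rcases Nat.lt_or_ge n k with hnk' | hnk'
    swap
    · refine hasGoodCenter_small hD (z := a) (Subgroup.mem_center_iff.2 fun g => ?_) ?_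
      · have htop : Subgroup.zpowers a = ⊤ := Subgroup.eq_top_of_card_eq _ (by
          rw [Nat.card_zpowers, hn, hk, le_antisymm hnk' hnk])
        obtain ⟨i, rfl⟩ := Subgroup.mem_zpowers_iff.1
          (htop ▸ Subgroup.mem_top g : g ∈ Subgroup.zpowers a)
        exact (Commute.zpow_self a i).eq
      · rw [hk, hn, le_antisymm hnk' hnk]
        exact Nat.le_mul_of_pos_left _ (by norm_num)
    obtain rfl : k = n + 1 := by omega
    by_cases hc : a ^ 2 ∈ Subgroup.center D
    · refine hasGoodCenter_small hD hc ?_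
      rw [hk, orderOf_pow' _ two_ne_zero, hn, Nat.gcd_eq_right (dvd_pow_self 2 (by omega))]
      rw [show 2 ^ n / 2 = 2 ^ (n - 1) by
        conv_lhs => rw [show n = n - 1 + 1 by omega, pow_succ]
        rw [Nat.mul_div_cancel _ two_pos]]
      rw [show (4 : ℕ) = 2 ^ 2 by norm_num, ← pow_add]
      exact Nat.pow_le_pow_right two_pos (by omega)
    have hidx2 : (Subgroup.zpowers a).index = 2 := by
      have h := (Subgroup.zpowers a).card_mul_index
      rw [Nat.card_zpowers, hn, hk, pow_succ] at h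
      exact Nat.eq_of_mul_eq_mul_left (Nat.two_pow_pos n) h
    haveI := Subgroup.normal_of_index_eq_two hidx2
    obtain ⟨g, hg⟩ : ∃ g, g * a ^ 2 ≠ a ^ 2 * g := by
      by_contra hcon
      push_neg at hcon
      exact hc (Subgroup.mem_center_iff.2 hcon)
    have hga : g ∉ Subgroup.zpowers a := fun h => by
      obtain ⟨i, rfl⟩ := Subgroup.mem_zpowers_iff.1 h
      exact hg ((Commute.zpow_self a i).pow_right 2).eq
    obtain ⟨i, hi⟩ := Subgroup.mem_zpowers_iff.1
      (Subgroup.Normal.conj_mem inferInstance a (Subgroup.mem_zpowers a) g)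
    have hzi : ∀ {i j : ℤ}, a ^ i = a ^ j ↔ (2 ^ n : ℤ) ∣ i - j := fun {i j} => by
      rw [Cfsg.Lib.TwoGroup.zpow_eq_iff_dvd, hn]; push_cast; rfl
    have hgg : g * g ∈ Subgroup.zpowers a := (Subgroup.mul_mem_iff_of_index_two hidx2).2 Iff.rfl
    obtain ⟨j, hj⟩ := Subgroup.mem_zpowers_iff.1 hgg
    have hi2 : (2 ^ n : ℤ) ∣ 1 - i * i := by
      refine hzi.1 ?_
      rw [zpow_one, zpow_mul, hi, conj_zpow, hi,
        show g * (g * a * g⁻¹) * g⁻¹ = g * g * a * (g * g)⁻¹ by group, ← hj,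
        (Commute.zpow_self a j).eq, mul_inv_cancel_right]
    have hpn : (2 : ℤ) ^ n = 2 * 2 ^ (n - 1) := by rw [← pow_succ']; congr 1; omega
    have hn2 : (2 : ℤ) ^ (n - 1) = 2 * 2 ^ (n - 2) := by rw [← pow_succ']; congr 1; omega
    have hiodd : i % 2 = 1 := by
      by_contra hcon
      obtain ⟨c, rfl⟩ : ∃ c, i = 2 * c := ⟨i / 2, by omega⟩
      rw [show (1 : ℤ) - 2 * c * (2 * c) = 1 - 2 * (2 * c * c) by ring, hpn] at hi2
      have := (dvd_mul_right (2 : ℤ) _).trans hi2
      omega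
    obtain ⟨q, rfl⟩ : ∃ q, i = 2 * q + 1 := ⟨i / 2, by omega⟩
    rw [show (1 : ℤ) - (2 * q + 1) * (2 * q + 1) = 2 * (-(2 * (q * (q + 1)))) by ring, hpn] at hi2
    have h7 := dvd_neg.1 (Int.dvd_of_mul_dvd_mul_left two_ne_zero hi2)
    rw [hn2] at h7
    have h8 := Int.dvd_of_mul_dvd_mul_left two_ne_zero h7
    rcases Int.even_or_odd q with ⟨r, hr⟩ | ⟨r, hr⟩
    · exfalso
      obtain ⟨c, hc'⟩ : (2 : ℤ) ^ (n - 2) ∣ q := by
        refine IsCoprime.dvd_of_dvd_mul_right ?_ h8
        exact IsCoprime.pow_left ⟨-r, 1, by rw [hr]; ring⟩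
      refine hg (mul_inv_eq_iff_eq_mul.1 ?_)
      rw [← conj_pow, ← hi, ← zpow_natCast, ← zpow_mul, ← zpow_natCast a, hzi, hpn, hn2, hc']
      push_cast
      exact ⟨c, by ring⟩
    obtain ⟨c, hc'⟩ : (2 : ℤ) ^ (n - 2) ∣ q + 1 := by
      refine IsCoprime.dvd_of_dvd_mul_left ?_ h8
      exact IsCoprime.pow_left ⟨-r, 1, by rw [hr]; ring⟩
    -- the quotient by the involution
    obtain ⟨s, hs⟩ : ∃ s, s = a ^ 2 ^ (n - 1) := ⟨_, rfl⟩
    have hs' : s = a ^ ((2 : ℤ) ^ (n - 1)) := by rw [hs, ← zpow_natCast]; norm_num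
    have hso : orderOf s = 2 := by
      rw [hs, orderOf_pow' _ (pow_ne_zero _ two_ne_zero), hn,
        Nat.gcd_eq_right (pow_dvd_pow 2 (by omega)), Nat.pow_div (by omega) two_pos,
        show n - (n - 1) = 1 by omega, pow_one]
    have hgs : g * s = s * g := by
      refine mul_inv_eq_iff_eq_mul.1 ?_
      rw [hs', ← conj_zpow, ← hi, ← zpow_mul, hzi, hpn]
      exact ⟨q, by ring⟩
    have hscen : s ∈ Subgroup.center D := Subgroup.mem_center_iff.2 fun y => by
      have hsa : ∀ w ∈ Subgroup.zpowers a, w * s = s * w := by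
        rintro _ ⟨j, rfl⟩
        rw [hs]
        exact ((Commute.zpow_self a j).pow_right _).eq
      by_cases hy : y ∈ Subgroup.zpowers a
      · exact hsa y hy
      have h1 : y * g⁻¹ ∈ Subgroup.zpowers a := (Subgroup.mul_mem_iff_of_index_two hidx2).2
        (iff_of_false hy fun h => hga (inv_inv g ▸ inv_mem h))
      calc y * s = y * g⁻¹ * (g * s) := by group
        _ = y * g⁻¹ * s * g := by rw [hgs]; group
        _ = s * y := by rw [hsa _ h1]; group
    refine ⟨s, hscen, fun _ => goodGrp_inverted (k := n - 1) (by omega)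
      (r := (a : D ⧸ Subgroup.zpowers s)) (x := (g : D ⧸ Subgroup.zpowers s)) ?_ ?_ ?_ ?_⟩
    · have hss : s * s = 1 := by rw [← sq, ← hso, pow_orderOf_eq_one]
      obtain ⟨p, hp⟩ : ∃ p, n = p + 2 := ⟨n - 2, by omega⟩
      rw [hp, show p + 2 - 1 = p + 1 by omega]
      refine orderOf_eq_prime_pow (p := 2) ?_ ?_
      · rw [← QuotientGroup.mk_pow, QuotientGroup.eq_one_iff]
        intro hmem
        rcases mem_zpowers_of_sq hss hmem with e | e
        · rw [← orderOf_dvd_iff_pow_eq_one, hn, Nat.pow_dvd_pow_iff_le_right (by norm_num)] at e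
          omega
        · rw [hs, pow_eq_pow_iff_modEq, hn, hp, show p + 2 - 1 = p + 1 by omega,
            Nat.modEq_iff_dvd' (Nat.pow_le_pow_right two_pos (by omega))] at e
          have h1 : 2 ^ (p + 1) - 2 ^ p = 2 ^ p := by rw [pow_succ]; omega
          rw [h1, Nat.pow_dvd_pow_iff_le_right (by norm_num)] at e
          omega
      · rw [← QuotientGroup.mk_pow, QuotientGroup.eq_one_iff, hs, hp,
          show p + 2 - 1 = p + 1 by omega]
        exact Subgroup.mem_zpowers _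
    · have h := card_quot (z := s)
      rw [hso, hk] at h
      rw [show n - 1 + 1 = n by omega]
      have := pow_succ 2 n
      omega
    · rintro ⟨j', hj'⟩
      simp only at hj'
      rw [← QuotientGroup.mk_zpow, QuotientGroup.eq] at hj'
      refine hga ((Subgroup.mul_mem_cancel_left _
        (inv_mem (zpow_mem (Subgroup.mem_zpowers a) j'))).1 ?_)
      exact Subgroup.zpowers_le.2 (hs ▸ Subgroup.npow_mem_zpowers a _) hj'
    · rw [eq_inv_iff_mul_eq_one, ← QuotientGroup.mk_mul, ← QuotientGroup.mk_inv,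
        ← QuotientGroup.mk_mul, ← QuotientGroup.mk_mul, QuotientGroup.eq_one_iff, ← hi,
        ← zpow_add_one, hs']
      refine ⟨c, ?_⟩
      show (a ^ ((2 : ℤ) ^ (n - 1))) ^ c = _
      rw [← zpow_mul]
      congr 1
      rw [hn2]
      linear_combination -2 * hc'
  -- index four
  obtain rfl : k = n + 2 := le_antisymm hkn hge
  by_cases hc : a ^ 2 ∈ Subgroup.center D
  · exact hasGoodCenter_sq_central hD (by omega) hn hk hc
  rcases Nat.lt_or_ge n 3 with hn3 | hn3
  · obtain rfl : n = 2 := by omega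
    refine hasGoodCenter_eight hz₀ (g := a) (by rw [hk, hz₀o]; norm_num) fun h => hc ?_
    exact Subgroup.zpowers_le.2 hz₀ h
  exact hasGoodCenter_twisted hD hn3 hn hk (fun g => (ha g).trans hn.le) hc

end Classify

end Cfsg.Lib.Block
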