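import Cfsg.Agent.Lib.Block.MajorBound

/-!
# Parities at a major subsection of a two-block

Without an integral vector of value one the average contribution is at least three at height zero
and at least `2 ^ (h + 1)` at positive height `h`.
-/

set_option autoImplicit false
set_option linter.unusedSectionVars false
set_option maxHeartbeats 800000

namespace Cfsg.Lib.Block

open Cfsg Matrix
open scoped ComplexConjugate

universe u

theorem zeta_pow_half {e : ℕ} {ζ : ℂ} (hζ : IsPrimitiveRoot ζ (2 ^ (e + 1))) : ζ ^ (2 ^ e) = -1 :=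
  (hζ.pow (pow_pos two_pos _) (pow_succ 2 e)).eq_neg_one_of_two_right

theorem avgForm_two {e : ℕ} {n : Type*} [Fintype n] (N : Matrix n n ℤ)
    (t : Fin (2 ^ e) × Fin 2 → n → ℤ) :
    avgForm (fun a a' => t a ⬝ᵥ N *ᵥ t a') =
      (2 : ℤ) ^ e * ∑ r, (t (r, 0) - t (r, 1)) ⬝ᵥ N *ᵥ (t (r, 0) - t (r, 1)) := by
  rw [avgForm]
  push_cast
  congr 1
  refine Finset.sum_congr rfl fun r _ => ?_
  rw [← form_diff]
  simp only [Fin.sum_univ_two]
  ring

theorem cycForm_two {e : ℕ} {ζ : ℂ} (hζ : IsPrimitiveRoot ζ (2 ^ (e + 1))) {n : Type*} [Fintype n]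
    (N : Matrix n n ℤ) (t : Fin (2 ^ e) × Fin 2 → n → ℤ) :
    cycForm ζ (fun a a' => t a ⬝ᵥ N *ᵥ t a') 1 =
      ∑ r : Fin (2 ^ e), ∑ r' : Fin (2 ^ e),
        (((t (r, 0) - t (r, 1)) ⬝ᵥ N *ᵥ (t (r', 0) - t (r', 1)) : ℤ) : ℂ) *
          (ζ ^ (r : ℕ) * ζ ^ ((2 ^ (e + 1) - 1) * (r' : ℕ))) := by
  have hω := zeta_pow_half hζ
  have hω' : ζ ^ ((2 ^ (e + 1) - 1) * 2 ^ e) = -1 := by
    rw [mul_comm, pow_mul, hω, Odd.neg_one_pow]
    exact Nat.Even.sub_odd Nat.one_le_two_pow ((Nat.even_pow' e.succ_ne_zero).2 even_two) odd_one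
  simp only [cycForm]
  generalize hQ : 2 ^ (e + 1) - 1 = Q at hω' ⊢
  simp only [Fintype.sum_prod_type, Fin.sum_univ_two, one_mul, pos, Fin.val_zero,
    Fin.val_one, zero_mul, add_zero, pow_add, mul_add, hω, hω', Matrix.mulVec_sub, sub_dotProduct,
    dotProduct_sub, Int.cast_sub, one_mul, ← Finset.sum_add_distrib]
  exact Finset.sum_congr rfl fun r _ => Finset.sum_congr rfl fun r' _ => by ring

variable {M : Ideal AlgInt} {G : Type u} [Group G] [Fintype G] [Fact (Nat.Prime 2)]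
  {H : Subgroup G} [Fintype H] {u : G}
  {b : Set (IrrCharacter H)} {B : Set (IrrCharacter G)} {e : ℕ}
  {m : IrrCharacter H → IrrCharacter H → ℤ}

namespace MajorSetup

variable (hS : MajorSetup (p := 2) M e u b B m) (hM : IsPModular 2 M)

open Classical in
include hS hM in
/-- The scaled diagonal contribution at positive height lies in the ideal. -/
theorem contr_scaled_mem {χ : IrrCharacter G} (hχ : χ ∈ B)
    (hh : 0 < blockHeight 2 B (χ : G → ℂ)) :
    MemLocalIdeal M (contr 2 (blockDefect 2 b) u b χ χ /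
      ((2 : ℕ) : ℂ) ^ blockHeight 2 B (χ : G → ℂ)) := by
  set h := blockHeight 2 B (χ : G → ℂ) with hhdef
  obtain ⟨φ₀, hφ₀, h00, hm00, hd00⟩ := hS.exists_height_zero hM
  have hu' := hS.exists_order
  set T : IrrCharacter H → ℂ := fun φ => secT 2 (blockDefect 2 b) u χ φ with hT
  have hsc : ∀ φ, T φ / ((2 : ℕ) : ℂ) ^ h ∈ locRing hM := fun φ => (hS.secT_scaled hM hχ φ).1
  -- the scaled pairings are proportional to the row
  have hrow : ∀ φ ∈ b, MemLocalIdeal M (T φ / ((2 : ℕ) : ℂ) ^ h * (m φ₀ φ₀ : ℂ) -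
      T φ₀ / ((2 : ℕ) : ℂ) ^ h * (m φ φ₀ : ℂ)) := by
    intro φ hφ
    obtain ⟨χ₀, hχ₀, hmin⟩ := exists_minVal (p := 2) (nonempty_of_isPBlock hM hS.ind.2.1)
    have h0 := (blockHeight_eq_zero_iff hχ₀).2 hmin
    obtain ⟨hf1, -⟩ := degree_factor_facts hM hS.ind.2.1 hS.major.symm hχ
    obtain ⟨hg1, hg2⟩ := degree_factor_facts hM hS.ind.2.1 hS.major.symm hχ₀
    rw [h0, pow_zero, div_one] at hg1 hg2
    have h3 := hS.secT_row hM hφ₀ h00 χ₀ hφ
    rw [secT_eq_class hu' hS.comm hS.cen, secT_eq_class hu' hS.comm hS.cen,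
      mul_assoc, mul_assoc, ← mul_sub] at h3
    have hmem : ∀ (χ : IrrCharacter G), secS 2 u χ φ * (m φ₀ φ₀ : ℂ) -
        secS 2 u χ φ₀ * (m φ φ₀ : ℂ) ∈ locRing hM := fun χ =>
      sub_mem (mul_mem (secS_mem hM χ φ) (intCast_mem _ _))
        (mul_mem (secS_mem hM χ φ₀) (intCast_mem _ _))
    have h4 := ((memLocalIdeal_mul_iff hM hg1 (hmem χ₀)).1 h3).resolve_left hg2
    have h5 : MemLocalIdeal M (secS 2 u χ φ * (m φ₀ φ₀ : ℂ) -
        secS 2 u χ φ₀ * (m φ φ₀ : ℂ)) := by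
      have := memLocalIdeal_add hM h4 (memLocalIdeal_sub hM
        (memLocalIdeal_mul_right hM (secS_sub_mem (u := u) hM hS.ind.2.1 hχ hχ₀ φ)
          (intCast_mem _ (m φ₀ φ₀)))
        (memLocalIdeal_mul_right hM (secS_sub_mem (u := u) hM hS.ind.2.1 hχ hχ₀ φ₀)
          (intCast_mem _ (m φ φ₀))))
      convert this using 1
      ring
    have h6 := memLocalIdeal_mul_left hM hf1 h5
    simp only [hT, secT_eq_class hu' hS.comm hS.cen]
    convert h6 using 1
    rw [← hhdef]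
    ring
  have hT0 : MemLocalIdeal M (T φ₀) := by
    have h2 : MemLocalIdeal M (((2 : ℕ) : ℂ) ^ h) := by
      rw [← Nat.cast_pow, memLocalIdeal_natCast_iff hM]
      exact dvd_pow_self 2 hh.ne'
    have := memLocalIdeal_mul_left hM (hsc φ₀) h2
    rwa [div_mul_cancel₀ _ (pow_ne_zero _ (by norm_num))] at this
  have hcontr : contr 2 (blockDefect 2 b) u b χ χ = ∑ ξ ∈ b.toFinset,
      conj (classInner (secFn u H (χ : G → ℂ)) (ξ : H → ℂ)) * T ξ := by
    rw [contr_eq_sum hM hS.ind.1 _ rfl, Finset.sum_comm]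
    refine Finset.sum_congr rfl fun ξ hξ => ?_
    simp only [hT]
    rw [secT_eq_sum hM hS.comm hS.ind.1 rfl χ (Set.mem_toFinset.1 hξ), Finset.mul_sum]
    exact Finset.sum_congr rfl fun η _ => by ring
  have hconjT : MemLocalIdeal M (∑ ξ ∈ b.toFinset,
      conj (classInner (secFn u H (χ : G → ℂ)) (ξ : H → ℂ)) * (m ξ φ₀ : ℂ)) := by
    have e : T φ₀ = ∑ ξ ∈ b.toFinset,
        classInner (secFn u H (χ : G → ℂ)) (ξ : H → ℂ) * (m ξ φ₀ : ℂ) := by
      simp only [hT]
      rw [secT_eq_sum hM hS.comm hS.ind.1 rfl χ hφ₀]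
      exact Finset.sum_congr rfl fun ξ hξ => by rw [hS.form.eq ξ (Set.mem_toFinset.1 hξ) φ₀ hφ₀]
    have hd : MemLocalIdeal M (∑ ξ ∈ b.toFinset,
        conj (classInner (secFn u H (χ : G → ℂ)) (ξ : H → ℂ)) * (m ξ φ₀ : ℂ) - T φ₀) := by
      rw [e, ← Finset.sum_sub_distrib]
      exact memLocalIdeal_sum hM _ _ fun ξ _ => by
        rw [← sub_mul]
        exact memLocalIdeal_mul_right hM (hS.classInner_congr hM ξ χ).2.2 (intCast_mem _ _)
    have := memLocalIdeal_add hM hd hT0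
    rwa [sub_add_cancel] at this
  have hprod : MemLocalIdeal M (contr 2 (blockDefect 2 b) u b χ χ / ((2 : ℕ) : ℂ) ^ h *
      (m φ₀ φ₀ : ℂ)) := by
    have h1 : MemLocalIdeal M (∑ ξ ∈ b.toFinset,
        conj (classInner (secFn u H (χ : G → ℂ)) (ξ : H → ℂ)) *
          (T ξ / ((2 : ℕ) : ℂ) ^ h * (m φ₀ φ₀ : ℂ) - T φ₀ / ((2 : ℕ) : ℂ) ^ h * (m ξ φ₀ : ℂ))) :=
      memLocalIdeal_sum hM _ _ fun ξ hξ => memLocalIdeal_mul_left hM
        (hS.classInner_congr hM ξ χ).2.1 (hrow ξ (Set.mem_toFinset.1 hξ))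
    have := memLocalIdeal_add hM h1 (memLocalIdeal_mul_left hM (hsc φ₀) hconjT)
    convert this using 1
    rw [hcontr, Finset.sum_div, Finset.sum_mul, Finset.mul_sum, ← Finset.sum_add_distrib]
    exact Finset.sum_congr rfl fun ξ _ => by ring
  have hmem : contr 2 (blockDefect 2 b) u b χ χ / ((2 : ℕ) : ℂ) ^ h ∈ locRing hM := by
    rw [hcontr, Finset.sum_div]
    exact sum_mem fun ξ _ => by
      rw [mul_div_assoc]
      exact mul_mem (hS.classInner_congr hM ξ χ).2.1 (hsc ξ)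
  exact ((memLocalIdeal_mul_iff hM hmem (intCast_mem _ _)).1 hprod).resolve_right hm00

open Classical in
include hS hM in
/-- The average contribution of one character without a vector of value one. -/
theorem avg_two_lower (hno : ∀ w : b.toFinset → ℤ, w ⬝ᵥ formMat b m *ᵥ w ≠ 1) {ζ : ℂ}
    (hζ : IsPrimitiveRoot ζ (2 ^ (e + 1))) (S : SecData (H := H) 2 e u b ζ) {χ : IrrCharacter G}
    (hχ : χ ∈ B) :
    (2 : ℤ) ^ e * (if blockHeight 2 B (χ : G → ℂ) = 0 then 3
        else 2 ^ (blockHeight 2 B (χ : G → ℂ) + 1)) ≤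
      avgForm (fun a a' => S.t χ a ⬝ᵥ formMat b m *ᵥ S.t χ a') := by
  have hsq := formMat_sq hM hS.ind.1 hS.form
  have hsymm := formMat_symm hS.form
  obtain ⟨φ₀, hφ₀, h00, hm00, hd00⟩ := hS.exists_height_zero hM
  rw [avgForm_two]
  refine mul_le_mul_of_nonneg_left ?_ (by positivity)
  set h := blockHeight 2 B (χ : G → ℂ) with hhdef
  obtain ⟨w, hw⟩ : ∃ w : Fin (2 ^ e) → b.toFinset → ℤ,
      ∀ r, w r = S.t χ (r, 0) - S.t χ (r, 1) := ⟨_, fun _ => rfl⟩
  simp only [← hw]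
  set μ : ℤ := ∑ r, w r ⬝ᵥ formMat b m *ᵥ w r with hμdef
  have hdvd : ∀ r φ, (2 : ℤ) ^ h ∣ (formMat b m *ᵥ w r) φ := by
    intro r φ
    rw [hw, Matrix.mulVec_sub, Pi.sub_apply]
    exact diff_dvd_of_local hM hζ h (fun a => (formMat b m *ᵥ S.t χ a) φ)
      (by rw [← secT_eq_vec hM S hS.comm hS.ind.1 hS.form]; exact (hS.secT_scaled hM hχ _).1) r 0 1
  have hK : ∀ r r', (2 : ℤ) ^ h ∣ w r ⬝ᵥ formMat b m *ᵥ w r' := fun r r' =>
    Finset.dvd_sum fun φ _ => dvd_mul_of_dvd_right (hdvd r' φ) _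
  choose K hK' using hK
  have hKsym : ∀ r r', K r r' = K r' r := by
    intro r r'
    refine mul_left_cancel₀ (pow_ne_zero h (two_ne_zero : (2 : ℤ) ≠ 0)) ?_
    rw [← hK', ← hK', Matrix.dotProduct_mulVec, ← Matrix.mulVec_transpose, hsymm, dotProduct_comm]
  -- positivity
  have hne : ∃ r, formMat b m *ᵥ w r ≠ 0 := by
    by_contra hall
    simp only [not_exists, not_not] at hall
    refine (hS.secT_scaled hM hχ φ₀).2 ⟨hφ₀, h00⟩ ?_
    rw [show φ₀ = ((⟨φ₀, Set.mem_toFinset.2 hφ₀⟩ : b.toFinset) : IrrCharacter H) from rfl,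
      secT_eq_vec hM S hS.comm hS.ind.1 hS.form, eq_zero_of_const one_lt_two hζ _ ?_, zero_div]
    · exact memLocalIdeal_zero hM
    · intro r i j
      have := hall r
      rw [hw, Matrix.mulVec_sub, sub_eq_zero] at this
      fin_cases i <;> fin_cases j <;> simp [this]
  obtain ⟨r₀, hr₀⟩ := hne
  have hμ2 : 2 ≤ μ := by
    obtain ⟨h1, h2⟩ := formMat_quad_pos hsq hsymm (w r₀)
    have h3 := hno (w r₀)
    have h4 : w r₀ ⬝ᵥ formMat b m *ᵥ w r₀ ≠ 0 := fun h => hr₀ (h2 h)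
    have h5 : w r₀ ⬝ᵥ formMat b m *ᵥ w r₀ ≤ μ :=
      Finset.single_le_sum (f := fun r => w r ⬝ᵥ formMat b m *ᵥ w r)
        (fun r _ => (formMat_quad_pos hsq hsymm (w r)).1) (Finset.mem_univ r₀)
    omega
  -- parity
  set tr : ℤ := ∑ r, K r r with htr
  have hμtr : μ = 2 ^ h * tr := by
    rw [hμdef, htr, Finset.mul_sum]; exact Finset.sum_congr rfl fun r _ => hK' r r
  set tot : ℤ := ∑ r, ∑ r', K r r' with htot
  have heven : Even (tot - tr) := by
    have h1 := even_sum_symm (Finset.univ : Finset (Fin (2 ^ e)))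
      (fun r r' => if r = r' then 0 else K r r') (fun r _ r' _ => by
        rcases eq_or_ne r r' with rfl | hne
        · rfl
        · rw [if_neg hne, if_neg hne.symm, hKsym]) fun r _ => if_pos rfl
    convert h1 using 1
    rw [htot, htr, ← Finset.sum_sub_distrib]
    refine Finset.sum_congr rfl fun r _ => ?_
    have hsplit : ∀ r', (if r = r' then (0 : ℤ) else K r r') =
        K r r' - (if r = r' then K r r' else 0) := fun r' => by split_ifs <;> ring
    rw [Finset.sum_congr rfl fun r' _ => hsplit r', Finset.sum_sub_distrib, Finset.sum_ite_eq,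
      if_pos (Finset.mem_univ _)]
  have hcz : contr 2 (blockDefect 2 b) u b χ χ = ((2 : ℕ) : ℂ) ^ h * ∑ r : Fin (2 ^ e),
      ∑ r' : Fin (2 ^ e), (K r r' : ℂ) * (ζ ^ (r : ℕ) * ζ ^ ((2 ^ (e + 1) - 1) * (r' : ℕ))) := by
    rw [contr_eq_cycForm hM S hS.ind.1 hζ hS.form, cycForm_two hζ, Finset.mul_sum]
    refine Finset.sum_congr rfl fun r _ => ?_
    rw [Finset.mul_sum]
    refine Finset.sum_congr rfl fun r' _ => ?_
    rw [← hw, ← hw, hK']
    push_cast
    ring
  have hroot : ∀ n : ℕ, MemLocalIdeal M (ζ ^ n - 1) := fun n =>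
    memLocalIdeal_sub_one_of_pow_prime_pow hM (k := e + 1)
      (by rw [← pow_mul, mul_comm, pow_mul, hζ.pow_eq_one, one_pow])
  have hcong : MemLocalIdeal M (contr 2 (blockDefect 2 b) u b χ χ / ((2 : ℕ) : ℂ) ^ h -
      (tot : ℂ)) := by
    rw [hcz, mul_div_cancel_left₀ _ (pow_ne_zero _ (by norm_num)), htot]
    push_cast
    rw [← Finset.sum_sub_distrib]
    refine memLocalIdeal_sum hM _ _ fun r _ => ?_
    rw [← Finset.sum_sub_distrib]
    refine memLocalIdeal_sum hM _ _ fun r' _ => ?_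
    rw [← mul_sub_one, ← pow_add]
    exact memLocalIdeal_mul_left hM (intCast_mem _ _) (hroot _)
  by_cases hh : h = 0
  · rw [if_pos hh]
    have hodd : Odd tot := by
      rw [← Int.not_even_iff_odd]
      intro hev
      refine contr_not_mem hM hS.exists_order hS.comm hS.cen hS.ind rfl hχ hχ hh hh ?_
      rw [hh, pow_zero, div_one] at hcong
      have h2 : MemLocalIdeal M (tot : ℂ) := by
        obtain ⟨k, hk⟩ := hev.two_dvd
        rw [hk, Int.cast_mul, Int.cast_ofNat]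
        exact memLocalIdeal_mul_right hM ((memLocalIdeal_natCast_iff hM 2).2 dvd_rfl)
          (intCast_mem _ _)
      simpa using memLocalIdeal_add hM hcong h2
    have hμo : Odd μ := by
      rw [hμtr, hh, pow_zero, one_mul]
      have := hodd.sub_even heven
      rwa [sub_sub_cancel] at this
    obtain ⟨k, hk⟩ := hμo
    omega
  · rw [if_neg hh]
    have htot2 : (2 : ℤ) ∣ tot := by
      have h1 := memLocalIdeal_sub hM (hS.contr_scaled_mem hM hχ (Nat.pos_of_ne_zero hh)) hcong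
      rw [sub_sub_cancel] at h1
      exact_mod_cast dvd_of_memLocalIdeal_intCast hM h1
    obtain ⟨a, ha⟩ := htot2
    obtain ⟨c, hc⟩ := heven
    have hpos : 0 < tr := by
      by_contra hle
      have := mul_nonpos_of_nonneg_of_nonpos (by positivity : (0 : ℤ) ≤ 2 ^ h) (not_lt.1 hle)
      omega
    rw [hμtr, pow_succ]
    exact mul_le_mul_of_nonneg_left (by omega) (by positivity)

open Classical in
include hS hM in
/-- The weighted bound of a two-block with a major subsection of rank at most three. -/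
theorem two_weighted_le (hl : blockRank 2 b ≤ 3) :
    ∑ χ ∈ B.toFinset, (if blockHeight 2 B (χ : G → ℂ) = 0 then (3 : ℤ)
        else 2 * 2 ^ blockHeight 2 B (χ : G → ℂ)) ≤ 3 * 2 ^ blockDefect 2 B := by
  rw [← hS.major]
  by_cases hex : ∃ w : b.toFinset → ℤ, w ⬝ᵥ formMat b m *ᵥ w = 1
  · obtain ⟨w, hw⟩ := hex
    have h := hS.weighted_le_of_value_one hM w hw
    push_cast at h
    have h' := mul_le_mul_of_nonneg_left h (by norm_num : (0 : ℤ) ≤ 3)
    rw [Finset.mul_sum] at h'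
    refine le_trans (Finset.sum_le_sum fun χ _ => ?_) h'

    set h := blockHeight 2 B (χ : G → ℂ)
    split_ifs with hh
    · simp [hh]
    · have h1 : (2 : ℤ) ^ h ≤ 2 ^ (2 * h) := pow_le_pow_right₀ (by norm_num) (by omega)
      have : (0 : ℤ) ≤ 2 ^ (2 * h) := by positivity
      push_cast
      linarith
  · simp only [not_exists] at hex
    haveI : NeZero (2 ^ (e + 1)) := ⟨pow_ne_zero _ two_ne_zero⟩
    set ζ : ℂ := Complex.exp (2 * Real.pi * Complex.I / ((2 ^ (e + 1) : ℕ) : ℂ)) with hζdef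
    have hζ : IsPrimitiveRoot ζ (2 ^ (e + 1)) := Complex.isPrimitiveRoot_exp _ (NeZero.ne _)
    obtain ⟨S⟩ := exists_secData (b := b) hζ hS.pow_eq hS.mem hS.comm
    have hsum1 : ∑ χ ∈ B.toFinset,
        cycForm ζ (fun a a' => S.t χ a ⬝ᵥ formMat b m *ᵥ S.t χ a') 1 =
        (((2 : ℤ) ^ blockDefect 2 b * (blockRank 2 b : ℤ) : ℤ) : ℂ) := by
      rw [Finset.sum_congr rfl fun χ _ => (contr_eq_cycForm hM S hS.ind.1 hζ hS.form χ).symm,
        sum_contr_diag hM hS.exists_order hS.comm hS.cen hS.ind]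
      push_cast
      rfl
    have htot := sum_avgForm_eq B.toFinset (fun χ a a' => S.t χ a ⬝ᵥ formMat b m *ᵥ S.t χ a') _
      hζdef hsum1
    have h := Finset.sum_le_sum fun χ (hχ : χ ∈ B.toFinset) =>
      hS.avg_two_lower hM hex hζ S (Set.mem_toFinset.1 hχ)
    rw [htot, ← Finset.mul_sum] at h
    push_cast at h
    rw [show (2 : ℤ) ^ (e + 1) - 2 ^ e = 2 ^ e by rw [pow_succ]; ring] at h
    refine le_trans (le_of_eq ?_) (le_trans (le_of_mul_le_mul_left h (by positivity))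
      ?_)
    · exact Finset.sum_congr rfl fun χ _ => by split_ifs <;> simp [pow_succ, mul_comm]
    · have h2 : (blockRank 2 b : ℤ) ≤ 3 := by exact_mod_cast hl
      rw [mul_comm (3 : ℤ)]
      exact mul_le_mul_of_nonneg_left h2 (by positivity)

end MajorSetup

end Cfsg.Lib.Block
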