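import Cfsg.Agent.Lib.Block.BrauerFeit

/-!
# Multiples of regular parts as generalized characters
-/

set_option autoImplicit false
set_option linter.unusedSectionVars false

namespace Cfsg.Lib.Block

open Cfsg
open scoped ComplexConjugate

universe u

variable {p : ℕ} {M : Ideal AlgInt} {G : Type u} [Group G] [Fintype G] [Fact p.Prime]
  (hM : IsPModular p M)

theorem ite_dvd_eq (c : ℂ) (χ : G → ℂ) :
    (fun x : G => if p ∣ orderOf x then (0 : ℂ) else c * χ x) = c • pRegularPart p χ := by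
  funext x
  by_cases h : p ∣ orderOf x
  · simp [h, pRegularPart_of_sing (fun hr : IsPRegular p x => hr h)]
  · simp [h, pRegularPart_of_reg (show IsPRegular p x from h)]

theorem classInner_smul_regPart (c : ℂ) (χ ψ : G → ℂ) :
    classInner (c • pRegularPart p χ) ψ = c * regInner p χ ψ := Char.classInner_smul_left _ _ _

theorem pow_mul_regInner {B : Set (IrrCharacter G)} {m : IrrCharacter G → IrrCharacter G → ℤ}
    (hm : IsRegForm p B m) {χ ξ : IrrCharacter G} (hχ : χ ∈ B) (hξ : ξ ∈ B) (j : ℕ) :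
    ((p ^ (blockDefect p B + j) : ℕ) : ℂ) * regInner p (χ : G → ℂ) (ξ : G → ℂ) =
      (((p : ℤ) ^ j * m χ ξ : ℤ) : ℂ) := by
  have h := hm.eq χ hχ ξ hξ
  rw [regN] at h
  rw [Int.cast_mul, ← h, pow_add]
  push_cast
  ring

include hM in
theorem isGen_pow_regPart {B : Set (IrrCharacter G)} (hB : IsPBlock M B) {χ : IrrCharacter G}
    (hχ : χ ∈ B) {e : ℕ} (he : (Nat.card G).factorization p ≤
      e + (charDegree (χ : G → ℂ)).factorization p) :
    IsGeneralizedCharacter G (((p ^ e : ℕ) : ℂ) • pRegularPart p (χ : G → ℂ)) := by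
  rw [Char.isGeneralizedCharacter_iff]
  refine ⟨fun g x => ?_, fun ξ hξ => ?_⟩
  · simp only [Pi.smul_apply, isClassFunction_pRegularPart χ.2.isClassFunction g x]
  rw [classInner_smul_regPart]
  by_cases hmem : (⟨ξ, hξ⟩ : IrrCharacter G) ∈ B
  · obtain ⟨m, hm⟩ := exists_regForm hM hB
    have hle := minVal_le (p := p) hχ
    have hadd := blockDefect_add_minVal (p := p) (nonempty_of_isPBlock hM hB)
    obtain ⟨k, hk⟩ := hm.dvd _ hmem χ hχ
    rw [hm.symm χ hχ _ hmem] at hk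
    have hh := blockHeight_eq (p := p) B (χ : G → ℂ)
    have hcases : blockDefect p B ≤ e + blockHeight p B (χ : G → ℂ) := by omega
    obtain ⟨j, hj⟩ := Nat.exists_eq_add_of_le hcases
    refine ⟨(p : ℤ) ^ j * k, ?_⟩
    have h2 := pow_mul_regInner hm hχ hmem j
    rw [← hj, hk, pow_add, Nat.cast_mul] at h2
    have hph : ((p ^ blockHeight p B (χ : G → ℂ) : ℕ) : ℂ) ≠ 0 := by
      exact_mod_cast (pow_pos hM.1.pos _).ne'
    apply mul_left_cancel₀ hph
    calc ((p ^ blockHeight p B (χ : G → ℂ) : ℕ) : ℂ) * (((p ^ e : ℕ) : ℂ) * regInner p (χ : G → ℂ) ξ)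
        = ((p ^ e : ℕ) : ℂ) * ((p ^ blockHeight p B (χ : G → ℂ) : ℕ) : ℂ) *
            regInner p (χ : G → ℂ) ξ := by ring
      _ = _ := h2
      _ = _ := by push_cast; ring
  · exact ⟨0, by rw [regInner_eq_zero hM (vInt_indVec hM hB) hχ hmem, mul_zero, Int.cast_zero]⟩

include hM in
theorem not_isGen_div_regPart {B : Set (IrrCharacter G)} (hB : IsPBlock M B) {χ : IrrCharacter G}
    (hχ : χ ∈ B) :
    ¬ IsGeneralizedCharacter G ((((p ^ (Nat.card G).factorization p : ℕ) : ℂ) /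
      ((p ^ ((charDegree (χ : G → ℂ)).factorization p + 1) : ℕ) : ℂ)) •
        pRegularPart p (χ : G → ℂ)) := by
  intro h
  obtain ⟨ξ, hξ, hmin⟩ := exists_minVal (p := p) (nonempty_of_isPBlock hM hB)
  have h0 := (blockHeight_eq_zero_iff hξ).2 hmin
  obtain ⟨n, hn⟩ := (Char.isGeneralizedCharacter_iff.1 h).2 _ ξ.2
  obtain ⟨m, hm⟩ := exists_regForm hM hB
  have hle := minVal_le (p := p) hχ
  have hadd := blockDefect_add_minVal (p := p) (nonempty_of_isPBlock hM hB)
  have hh := blockHeight_eq (p := p) B (χ : G → ℂ)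
  rw [classInner_smul_regPart, div_mul_eq_mul_div, div_eq_iff
    (by exact_mod_cast (pow_pos hM.1.pos _).ne'), ← hadd,
    pow_mul_regInner hm hχ hξ (minVal p B)] at hn
  have e : (charDegree (χ : G → ℂ)).factorization p + 1 =
      minVal p B + (blockHeight p B (χ : G → ℂ) + 1) := by omega
  have h2 : (p : ℤ) ^ minVal p B * m χ ξ =
      n * ((p : ℤ) ^ minVal p B * (p : ℤ) ^ (blockHeight p B (χ : G → ℂ) + 1)) := by
    rw [← pow_add, ← e]
    have : (((p : ℤ) ^ minVal p B * m χ ξ : ℤ) : ℂ) =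
        ((n * (p : ℤ) ^ ((charDegree (χ : G → ℂ)).factorization p + 1) : ℤ) : ℂ) := by
      rw [hn]; push_cast; ring
    exact_mod_cast this
  rw [mul_left_comm] at h2
  have h3 := mul_left_cancel₀ (pow_ne_zero _ (by exact_mod_cast hM.1.ne_zero)) h2
  refine hm.not_dvd ξ hξ χ hχ h0 ?_
  rw [hm.symm χ hχ ξ hξ, h3]
  exact dvd_mul_left _ _

open Classical in
include hM in
theorem padicValInt_criterion {B : Set (IrrCharacter G)} (hB : IsPBlock M B) {χ ξ : IrrCharacter G}
    (hχ : χ ∈ B) (hξ : ξ ∈ B) :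
    blockHeight p B (χ : G → ℂ) = 0 ↔
      ∃ n : ℤ, classInner (fun x : G => if p ∣ orderOf x then (0 : ℂ) else
          ((p ^ (Nat.card G).factorization p : ℕ) : ℂ) * (χ : G → ℂ) x) (ξ : G → ℂ) = (n : ℂ) ∧
        n ≠ 0 ∧ padicValInt p n = (charDegree (ξ : G → ℂ)).factorization p := by
  rw [ite_dvd_eq, classInner_smul_regPart,
    ← blockDefect_add_minVal (p := p) (nonempty_of_isPBlock hM hB)]
  obtain ⟨m, hm⟩ := exists_regForm hM hB
  rw [pow_mul_regInner hm hχ hξ (minVal p B)]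
  have hle := minVal_le (p := p) hξ
  have hh := blockHeight_eq (p := p) B (ξ : G → ℂ)
  have hp0 : ((p : ℤ) ^ minVal p B) ≠ 0 := pow_ne_zero _ (by exact_mod_cast hM.1.ne_zero)
  have hval : ∀ k : ℤ, k ≠ 0 → padicValInt p ((p : ℤ) ^ minVal p B * k) =
      minVal p B + padicValInt p k := by
    intro k hk
    rw [padicValInt.mul hp0 hk]
    congr 1
    rw [padicValInt, Int.natAbs_pow, Int.natAbs_natCast, padicValNat.prime_pow]
  constructor
  · intro h0
    have hne : m χ ξ ≠ 0 := fun e => hm.not_dvd χ hχ ξ hξ h0 (e ▸ dvd_zero _)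
    refine ⟨_, rfl, mul_ne_zero hp0 hne, ?_⟩
    rw [hval _ hne]
    have h1 := (padicValInt_dvd_iff (blockHeight p B (ξ : G → ℂ)) (m χ ξ)).1 (hm.dvd χ hχ ξ hξ)
    have h2 := hm.not_dvd χ hχ ξ hξ h0
    rw [padicValInt_dvd_iff] at h2
    simp only [hne, false_or, not_le] at h1 h2
    omega
  · rintro ⟨n, hn, hn0, hnv⟩
    by_contra hpos
    have hn' : (p : ℤ) ^ minVal p B * m χ ξ = n := by exact_mod_cast hn
    have hne : m χ ξ ≠ 0 := fun e => hn0 (by rw [← hn', e, mul_zero])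
    rw [← hn', hval _ hne] at hnv
    have h1 := (padicValInt_dvd_iff (blockHeight p B (ξ : G → ℂ) + 1) (m χ ξ)).1
      (hm.dvd_succ χ hχ ξ hξ (Nat.pos_of_ne_zero hpos))
    simp only [hne, false_or] at h1
    omega

open Classical in
include hM in
/-- An integer combination of a block, times the defect power, on regular elements. -/
theorem regPart_int_expand {B : Set (IrrCharacter G)} (hB : IsPBlock M B)
    {χ : IrrCharacter G} (hχ : χ ∈ B) :
    ∃ a : IrrCharacter G → ℤ, (∀ ψ, ψ ∉ B → a ψ = 0) ∧ ∀ x : G,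
      ((p ^ blockDefect p B : ℕ) : ℂ) * pRegularPart p (χ : G → ℂ) x =
        ∑ ψ ∈ B.toFinset, (a ψ : ℂ) * (ψ : G → ℂ) x := by
  obtain ⟨m, hm⟩ := exists_regForm hM hB
  refine ⟨fun ψ => if ψ ∈ B then m χ ψ else 0, fun ψ h => if_neg h, fun x => ?_⟩
  conv_lhs => rw [regPart_expand hM (vInt_indVec hM hB) hχ]
  simp only [Finset.sum_apply, Pi.smul_apply, smul_eq_mul, Finset.mul_sum]
  refine Finset.sum_congr rfl fun ψ hψ => ?_
  rw [Set.mem_toFinset] at hψ
  rw [if_pos hψ, ← hm.eq χ hχ ψ hψ, regN]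
  ring

end Cfsg.Lib.Block
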