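import Cfsg.Agent.Lib.Block.CoverBasics
import Cfsg.Agent.Lib.Block.Cartan
import Cfsg.Agent.Lib.Block.RegApps
import Cfsg.Agent.Lib.Block.ThirdMain

/-!
# The principal blocks of a group and of a normal subgroup
-/

set_option autoImplicit false
set_option linter.unusedSectionVars false
set_option maxHeartbeats 800000

namespace Cfsg.Lib.Block

open Cfsg
open scoped ComplexConjugate

universe u

variable {p : ℕ} {M : Ideal AlgInt} {G : Type u} [Group G] [Fintype G] [Fact p.Prime]
variable (N : Subgroup G) [hN : N.Normal] [Fintype N]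

/-- Constituents on a normal subgroup of principal block characters lie in its principal block. -/
theorem principal_constituent_mem (hM : IsPModular p M) {χ : IrrCharacter G}
    (hχ : χ ∈ principalBlock M G) {ψ : IrrCharacter N}
    (hψ : classInner (fun n : N => (χ : G → ℂ) n) (ψ : N → ℂ) ≠ 0) :
    ψ ∈ principalBlock M N := by
  have h1 : classInner (fun n : N => (trivChar G : G → ℂ) n) (trivChar N : N → ℂ) ≠ 0 := by
    rw [show (fun n : N => (trivChar G : G → ℂ) n) = (trivChar N : N → ℂ) from rfl,
      Char.classInner_irr_self (trivChar N).2]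
    exact one_ne_zero
  obtain ⟨g, hg⟩ := constituent_conj N hM isPBlock_principal isPBlock_principal
    (trivChar_mem_principal hM) (trivChar_mem_principal hM) h1 hχ hψ
  have htriv : twistIrr N g (trivChar N) = trivChar N :=
    Subtype.ext (funext fun n => by rw [twistIrr_apply, trivChar_coe])
  refine mem_of_sameBlock hM isPBlock_principal (trivChar_mem_principal hM) ?_
  have h2 := sameBlock_of_mem hM isPBlock_principal (trivChar_mem_principal hM) hg
  rw [← htriv, sameBlock_twistIrr] at h2
  exact h2

/-- Each principal block character of a normal subgroup lies under one of the group. -/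
theorem exists_principal_over (hM : IsPModular p M) {θ : IrrCharacter N}
    (hθ : θ ∈ principalBlock M N) :
    ∃ χ ∈ principalBlock M G, classInner (fun n : N => (χ : G → ℂ) n) (θ : N → ℂ) ≠ 0 := by
  classical
  by_contra hcon
  simp only [not_exists, not_and, not_not] at hcon
  have hB := vInt_indVec hM (isPBlock_principal (M := M) (G := G))
  have hexp := regPart_expand hM hB (trivChar_mem_principal (G := G) hM)
  have hres : pRegularPart p (trivChar N : N → ℂ) =
      fun n : N => pRegularPart p (trivChar G : G → ℂ) (n : G) := by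
    funext n
    by_cases h : IsPRegular p n
    · rw [pRegularPart_of_reg h, pRegularPart_of_reg (by rwa [IsPRegular, Subgroup.orderOf_coe])]
      rfl
    · rw [pRegularPart_of_sing h,
        pRegularPart_of_sing (by rwa [IsPRegular, Subgroup.orderOf_coe])]
  have hzero : regInner p (trivChar N : N → ℂ) (θ : N → ℂ) = 0 := by
    rw [regInner, hres, hexp]
    have e : (fun n : N => (∑ ψ ∈ (principalBlock M G).toFinset,
        regInner p (trivChar G : G → ℂ) (ψ : G → ℂ) • (ψ : G → ℂ)) (n : G)) =
      ∑ ψ ∈ (principalBlock M G).toFinset,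
        regInner p (trivChar G : G → ℂ) (ψ : G → ℂ) • fun n : N => (ψ : G → ℂ) n := by
      funext n; simp
    rw [e, Char.classInner_sum_left]
    refine Finset.sum_eq_zero fun ψ hψ => ?_
    rw [Char.classInner_smul_left, hcon ψ (Set.mem_toFinset.1 hψ), mul_zero]
  refine regN_div_height_not_ideal hM isPBlock_principal (trivChar_mem_principal (G := N) hM) hθ
    (blockHeight_eq_zero_of_degree_one hM (by rw [trivChar_coe])) ?_
  rw [regN, hzero, mul_zero, zero_div]
  exact memLocalIdeal_zero hM

theorem principal_degSum_bounds (hM : IsPModular p M) :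
    (∑ᶠ θ ∈ principalBlock M N, charDegree (θ : N → ℂ) ^ 2) ≤
        (∑ᶠ χ ∈ principalBlock M G, charDegree (χ : G → ℂ) ^ 2) ∧
      (∑ᶠ χ ∈ principalBlock M G, charDegree (χ : G → ℂ) ^ 2) ≤
        N.index * ∑ᶠ θ ∈ principalBlock M N, charDegree (θ : N → ℂ) ^ 2 := by
  classical
  choose m hm using fun (χ : IrrCharacter G) (θ : IrrCharacter N) =>
    (χ.2.isCharacter.comp N.subtype).exists_nat_classInner θ.2.isCharacter
  set B := (Set.toFinite (principalBlock M G)).toFinset with hBdef
  set b := (Set.toFinite (principalBlock M N)).toFinset with hbdef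
  have hdeg : ∀ χ : IrrCharacter G, χ ∈ B →
      charDegree (χ : G → ℂ) = ∑ θ ∈ b, m χ θ * charDegree (θ : N → ℂ) := by
    intro χ hχ
    have h := congrFun (Char.eq_sum_classInner (f := fun n : N => (χ : G → ℂ) n)
      (χ.2.isCharacter.comp N.subtype).isClassFunction) 1
    simp only [Finset.sum_apply, Pi.smul_apply, smul_eq_mul, OneMemClass.coe_one] at h
    have hz : ∀ θ : IrrCharacter N, θ ∉ b → m χ θ = 0 := by
      intro θ hθ
      by_contra h0
      refine hθ ((Set.Finite.mem_toFinset _).2
        (principal_constituent_mem N hM ((Set.Finite.mem_toFinset _).1 hχ) ?_))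
      have := hm χ θ
      exact fun e => h0 (by exact_mod_cast (this.symm.trans e))
    rw [← Finset.sum_subset (Finset.subset_univ b) fun θ _ hθ => by
      rw [show classInner (fun n : N => (χ : G → ℂ) n) (θ : N → ℂ) = 0 by
        have := hm χ θ
        rw [hz θ hθ, Nat.cast_zero] at this
        exact this, zero_mul]] at h
    have h' : (charDegree (χ : G → ℂ) : ℂ) =
        ((∑ θ ∈ b, m χ θ * charDegree (θ : N → ℂ) : ℕ) : ℂ) := by
      rw [← apply_one_eq_charDegree χ, h, Nat.cast_sum]
      refine Finset.sum_congr rfl fun θ _ => ?_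
      rw [Nat.cast_mul, ← apply_one_eq_charDegree θ]
      congr 1
      exact hm χ θ
    exact_mod_cast h'
  have hind : ∀ θ : IrrCharacter N,
      ∑ χ : IrrCharacter G, m χ θ * charDegree (χ : G → ℂ) = N.index * charDegree (θ : N → ℂ) := by
    intro θ
    have h := congrFun (Char.eq_sum_classInner (Char.isClassFunction_indFun N (θ : N → ℂ))) 1
    simp only [Finset.sum_apply, Pi.smul_apply, smul_eq_mul, Char.indFun_apply_one] at h
    have h' : ((N.index * charDegree (θ : N → ℂ) : ℕ) : ℂ) =
        ((∑ χ : IrrCharacter G, m χ θ * charDegree (χ : G → ℂ) : ℕ) : ℂ) := by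
      rw [Nat.cast_mul, ← apply_one_eq_charDegree θ, h, Nat.cast_sum]
      refine Finset.sum_congr rfl fun χ _ => ?_
      rw [Nat.cast_mul, ← apply_one_eq_charDegree χ]
      congr 1
      rw [← Char.classInner_conj_symm, Char.classInner_indFun_right N _ χ.2.isClassFunction,
        show classInner (fun n : N => (χ : G → ℂ) n) (θ : N → ℂ) = (m χ θ : ℂ) from hm χ θ,
        Complex.conj_natCast]
    exact_mod_cast h'.symm
  rw [finsum_mem_eq_finite_toFinset_sum _ (Set.toFinite (principalBlock M G)),
    finsum_mem_eq_finite_toFinset_sum _ (Set.toFinite (principalBlock M N)), ← hBdef, ← hbdef]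
  have hS : ∑ χ ∈ B, charDegree (χ : G → ℂ) ^ 2 =
      ∑ θ ∈ b, ∑ χ ∈ B, m χ θ * charDegree (χ : G → ℂ) * charDegree (θ : N → ℂ) := by
    rw [Finset.sum_comm]
    refine Finset.sum_congr rfl fun χ hχ => ?_
    rw [pow_two]
    conv_lhs => rw [hdeg χ hχ, Finset.sum_mul]
    exact Finset.sum_congr rfl fun θ _ => by rw [← hdeg χ hχ]; ring
  constructor
  · rw [hS]
    refine Finset.sum_le_sum fun θ hθ => ?_
    obtain ⟨χ, hχ, hne⟩ := exists_principal_over N hM ((Set.Finite.mem_toFinset _).1 hθ)
    have hχB : χ ∈ B := (Set.Finite.mem_toFinset _).2 hχ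
    have hpos : 0 < m χ θ := Nat.pos_of_ne_zero fun h0 => hne (by
      have := hm χ θ
      rw [h0, Nat.cast_zero] at this
      exact this)
    refine le_trans ?_ (Finset.single_le_sum (fun _ _ => Nat.zero_le _) hχB)
    rw [pow_two]
    refine Nat.mul_le_mul_right _ (le_trans ?_ (Nat.le_mul_of_pos_left _ hpos))
    rw [hdeg χ hχB]
    exact le_trans (Nat.le_mul_of_pos_left _ hpos)
      (Finset.single_le_sum (f := fun η => m χ η * charDegree (η : N → ℂ))
        (fun _ _ => Nat.zero_le _) hθ)
  · rw [hS, Finset.mul_sum]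
    refine Finset.sum_le_sum fun θ _ => ?_
    rw [← Finset.sum_mul, pow_two, ← mul_assoc, ← hind θ]
    exact Nat.mul_le_mul_right _ (Finset.sum_le_univ_sum_of_nonneg fun _ => Nat.zero_le _)

end Cfsg.Lib.Block
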