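import Cfsg.Agent.Lib.Block.MajorBound
import Cfsg.Agent.Lib.Block.CosetAverage
import Cfsg.Agent.Lib.Block.StarNorm

/-!
# Galois action on contributions and their size at major subsections
-/

set_option autoImplicit false
set_option linter.unusedSectionVars false
set_option maxHeartbeats 1000000

namespace Cfsg.Lib.Block

open Cfsg
open scoped ComplexConjugate

universe u

noncomputable local instance (priority := high) fintypeSubgroupContrGalois {A : Type u}
    [Group A] [Fintype A] (H : Subgroup A) : Fintype H := Fintype.ofFinite H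

variable {p : ℕ} {M : Ideal AlgInt} {G : Type u} [Group G] [Fintype G] [Fact p.Prime]
  {H : Subgroup G} {u : G}

open Classical in
/-- The contribution as a rational expression in character values. -/
noncomputable def contrForm {R : Type*} [Field R] (p d : ℕ) (u : G) (b : Set (IrrCharacter H))
    (f g : G → R) (v : IrrCharacter H → H → R) : R :=
  ((p ^ d : ℕ) : R) * (((Nat.card H : ℕ) : R)⁻¹ * ∑ y : H, if IsPRegular p y then
    (∑ ξ : IrrCharacter H, if ξ ∈ b then
      ((Nat.card H : ℕ) : R)⁻¹ * (∑ t : H, f (u * (t : G)) * v ξ t⁻¹) * v ξ y else 0) *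
    (∑ ξ : IrrCharacter H, if ξ ∈ b then
      ((Nat.card H : ℕ) : R)⁻¹ * (∑ t : H, g (u * (t : G))⁻¹ * v ξ t) * v ξ y⁻¹ else 0)
    else 0)

theorem map_contrForm {R S : Type*} [Field R] [Field S] (φ : R →+* S) (d : ℕ)
    (b : Set (IrrCharacter H)) (f g : G → R) (v : IrrCharacter H → H → R) :
    φ (contrForm p d u b f g v) =
      contrForm p d u b (fun x => φ (f x)) (fun x => φ (g x)) (fun ξ y => φ (v ξ y)) := by
  classical
  simp only [contrForm, map_mul, map_inv₀, map_natCast, map_sum, apply_ite φ, map_zero]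

theorem contr_eq_contrForm (d : ℕ) (b : Set (IrrCharacter H)) (χ η : IrrCharacter G) :
    contr p d u b χ η =
      contrForm p d u b (χ : G → ℂ) (η : G → ℂ) (fun ξ => (ξ : H → ℂ)) := by
  classical
  have e1 : ∀ (ψ : IrrCharacter G) (y : H), blockPart b (secFn u H (ψ : G → ℂ)) y =
      ∑ ξ : IrrCharacter H, if ξ ∈ b then ((Nat.card H : ℕ) : ℂ)⁻¹ *
        (∑ t : H, (ψ : G → ℂ) (u * (t : G)) * (ξ : H → ℂ) t⁻¹) * (ξ : H → ℂ) y else 0 := by
    intro ψ y
    rw [blockPart_eq_inner_sum]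
    refine Finset.sum_congr rfl fun ξ _ => if_congr Iff.rfl ?_ rfl
    congr 1
    simp only [classInner]
    congr 1
    exact Finset.sum_congr rfl fun t _ => by rw [ξ.2.isCharacter.apply_inv]; rfl
  simp only [contr, classInner, contrForm]
  congr 2
  refine Finset.sum_congr rfl fun y _ => ?_
  by_cases hy : IsPRegular p y
  · rw [if_pos hy, pRegularPart_of_reg hy, e1, e1, map_sum]
    congr 1
    refine Finset.sum_congr rfl fun ξ _ => ?_
    rw [apply_ite (starRingEnd ℂ), map_zero]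
    refine if_congr Iff.rfl ?_ rfl
    rw [map_mul, map_mul, map_inv₀, map_natCast, map_sum, ← ξ.2.isCharacter.apply_inv]
    congr 2
    refine Finset.sum_congr rfl fun t _ => ?_
    rw [map_mul, ← η.2.isCharacter.apply_inv, ← ξ.2.isCharacter.apply_inv, inv_inv]
  · rw [if_neg hy, pRegularPart_of_sing hy, zero_mul]

theorem contrForm_pow {R : Type*} [Field R] (hHu : ∀ h : H, Commute u (h : G)) {k : ℕ}
    (hk : k.Coprime (Nat.card G)) (d : ℕ) (b : Set (IrrCharacter H)) (f g : G → R)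
    (v : IrrCharacter H → H → R) :
    contrForm p d u b (fun x => f (x ^ k)) (fun x => g (x ^ k)) (fun ξ y => v ξ (y ^ k)) =
      contrForm p d (u ^ k) b f g v := by
  classical
  have hkH : k.Coprime (Nat.card H) :=
    hk.coprime_dvd_right (Subgroup.card_subgroup_dvd_card H)
  let e : H ≃ H := Equiv.ofBijective _ (Char.powBij_of_coprime hkH)
  have hmul : ∀ t : H, (u * (t : G)) ^ k = u ^ k * ((t ^ k : H) : G) := fun t => by
    rw [(hHu t).mul_pow, Subgroup.coe_pow]
  simp only [contrForm]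
  congr 2
  refine Fintype.sum_equiv e _ _ fun y => ?_
  have hord : orderOf (y ^ k) = orderOf y :=
    Nat.Coprime.orderOf_pow ((hkH.coprime_dvd_right (orderOf_dvd_natCard y)).symm)
  have he : ∀ t : H, e t = t ^ k := fun _ => rfl
  simp only [he]
  refine if_congr (by rw [IsPRegular, IsPRegular, hord]) ?_ rfl
  congr 1
  · refine Finset.sum_congr rfl fun ξ _ => if_congr Iff.rfl ?_ rfl
    congr 2
    exact Fintype.sum_equiv e _ _ fun t => by rw [he, hmul, inv_pow]
  · refine Finset.sum_congr rfl fun ξ _ => if_congr Iff.rfl ?_ rfl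
    rw [inv_pow]
    congr 2
    exact Fintype.sum_equiv e _ _ fun t => by rw [he, inv_pow, hmul]

/-- The contribution is a cyclotomic number and its conjugates are the contributions at powers. -/
theorem exists_cyc_contr [NeZero (Nat.card G)] (hHu : ∀ h : H, Commute u (h : G)) (d : ℕ)
    (b : Set (IrrCharacter H)) (χ η : IrrCharacter G) :
    ∃ z : Char.cycField (Nat.card G), (z : ℂ) = contr p d u b χ η ∧
      ∀ (σ : Char.cycField (Nat.card G) →ₐ[ℚ] ℂ) (k : ℕ), k.Coprime (Nat.card G) →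
        Char.ActsAsPow σ k → σ z = contr p d (u ^ k) b χ η := by
  have hd := Subgroup.card_subgroup_dvd_card H
  refine ⟨contrForm p d u b (fun x => Char.charVal dvd_rfl χ.2.isCharacter x)
    (fun x => Char.charVal dvd_rfl η.2.isCharacter x)
    (fun ξ y => Char.charVal hd ξ.2.isCharacter y), ?_, fun σ k hk hσ => ?_⟩
  · rw [contr_eq_contrForm]
    exact map_contrForm (Char.cycField (Nat.card G)).val.toRingHom d b _ _ _
  · rw [contr_eq_contrForm, ← contrForm_pow hHu hk]
    refine (map_contrForm σ.toRingHom d b _ _ _).trans ?_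
    simp only [AlgHom.toRingHom_eq_coe, RingHom.coe_coe, Char.galois_charVal _ hσ]

variable (hM : IsPModular p M) {b : Set (IrrCharacter H)} {B : Set (IrrCharacter G)} {e : ℕ}
  {m : IrrCharacter H → IrrCharacter H → ℤ}

namespace MajorSetup

variable (hS : MajorSetup (p := p) M e u b B m)

open Classical in
include hS hM in
theorem isIntegral_contr (χ η : IrrCharacter G) :
    IsIntegral ℤ (contr p (blockDefect p b) u b χ η) := by
  have hint : ∀ (ψ : IrrCharacter G) (ξ : IrrCharacter H),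
      IsIntegral ℤ (classInner (secFn u H (ψ : G → ℂ)) (ξ : H → ℂ)) := by
    intro ψ ξ
    obtain ⟨c, hc, hcψ⟩ := classInner_secFn hS.mem hS.comm ψ ξ
    obtain ⟨n, hn⟩ := (ψ.2.isCharacter.comp H.subtype).exists_nat_classInner ξ.2.isCharacter
    rw [hcψ, show classInner (fun h : H => (ψ : G → ℂ) h) (ξ : H → ℂ) = n from hn]
    exact (IsIntegral.of_pow (orderOf_pos u) (hc.symm ▸ isIntegral_one)).mul (isIntegral_natCast _)
  rw [contr_eq_sum hM hS.ind.1 _ rfl]
  refine IsIntegral.sum _ fun ξ hξ => IsIntegral.sum _ fun ξ' hξ' => ?_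
  rw [hS.form.eq ξ (Set.mem_toFinset.1 hξ) ξ' (Set.mem_toFinset.1 hξ')]
  exact ((hint χ ξ).mul ((hint η ξ').map ((starRingEnd ℂ).toIntAlgHom))).mul (isIntegral_intCast _)

open Classical in
include hS hM in
/-- Against a height zero character the contribution is the height factor times a unit. -/
theorem contr_scaled {χ η : IrrCharacter G} (hχ : χ ∈ B) (hη : η ∈ B)
    (hη0 : blockHeight p B (η : G → ℂ) = 0) :
    contr p (blockDefect p b) u b χ η / (p : ℂ) ^ blockHeight p B (χ : G → ℂ) ∈ locRing hM ∧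
      ¬ MemLocalIdeal M
        (contr p (blockDefect p b) u b χ η / (p : ℂ) ^ blockHeight p B (χ : G → ℂ)) := by
  have hu' := hS.exists_order
  set h := blockHeight p B (χ : G → ℂ) with hh
  set d := blockDefect p b with hd
  have hsum : ∀ ψ : IrrCharacter G, contr p d u b ψ η =
      ∑ ξ ∈ b.toFinset, conj (classInner (secFn u H (η : G → ℂ)) (ξ : H → ℂ)) *
        secT p d u ψ ξ := by
    intro ψ
    rw [contr_eq_sum hM hS.ind.1 d rfl, Finset.sum_comm]
    refine Finset.sum_congr rfl fun ξ' hξ' => ?_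
    rw [secT_eq_sum hM hS.comm hS.ind.1 rfl ψ (Set.mem_toFinset.1 hξ'), Finset.mul_sum]
    exact Finset.sum_congr rfl fun ξ _ => by ring
  obtain ⟨hf, hf'⟩ := degree_factor_facts hM hS.ind.2.1 hS.major.symm hχ
  obtain ⟨hg, hg'⟩ := degree_factor_facts hM hS.ind.2.1 hS.major.symm hη
  rw [hη0, pow_zero, div_one] at hg hg'
  have hloc : contr p d u b χ η / (p : ℂ) ^ h ∈ locRing hM := by
    rw [hsum, Finset.sum_div]
    refine sum_mem fun ξ _ => ?_
    rw [mul_div_assoc]
    exact mul_mem (hS.classInner_congr hM ξ η).2.1 (hS.secT_scaled hM hχ ξ).1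
  refine ⟨hloc, fun hmem => ?_⟩
  set fχ := ((p ^ blockDefect p b : ℕ) : ℂ) * (χ : G → ℂ) 1 / (Nat.card G : ℂ) / (p : ℂ) ^ h
    with hfχ
  set fη := ((p ^ blockDefect p b : ℕ) : ℂ) * (η : G → ℂ) 1 / (Nat.card G : ℂ) with hfη
  have hdiff : MemLocalIdeal M (fη * (contr p d u b χ η / (p : ℂ) ^ h) -
      fχ * contr p d u b η η) := by
    rw [hsum, hsum, Finset.sum_div, Finset.mul_sum, Finset.mul_sum, ← Finset.sum_sub_distrib]
    refine memLocalIdeal_sum hM _ _ fun ξ _ => ?_
    have hs := secS_sub_mem (u := u) hM hS.ind.2.1 hχ hη ξ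
    have := memLocalIdeal_mul_left hM (mul_mem (hS.classInner_congr hM ξ η).2.1 (mul_mem hf hg)) hs
    convert this using 1
    rw [secT_eq_class hu' hS.comm hS.cen, secT_eq_class hu' hS.comm hS.cen, hfχ, hfη, hd]
    ring
  have h2 := memLocalIdeal_sub hM (memLocalIdeal_mul_left hM hg hmem) hdiff
  rw [sub_sub_cancel] at h2
  have hηloc : contr p d u b η η ∈ locRing hM := by
    rw [hsum]
    refine sum_mem fun ξ _ => mul_mem (hS.classInner_congr hM ξ η).2.1 ?_
    have := (hS.secT_scaled hM hη ξ).1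
    rwa [hη0, pow_zero, div_one] at this
  exact mul_not_ideal hM hf hηloc hf'
    (contr_not_mem hM hu' hS.comm hS.cen hS.ind rfl hη hη hη0 hη0) h2

end MajorSetup

include hM in
/-- A rational integer product of scaled units bounds the sum of the absolute values. -/
theorem card_mul_le_sum_norm {ι : Type*} (S : Finset ι) (c : ι → ℂ) (h : ℕ) {N : ℤ}
    (hN : ∏ i ∈ S, c i = (N : ℂ))
    (hc : ∀ i ∈ S, c i / (p : ℂ) ^ h ∈ locRing hM ∧ ¬ MemLocalIdeal M (c i / (p : ℂ) ^ h)) :
    (S.card : ℝ) * (p : ℝ) ^ h ≤ ∑ i ∈ S, ‖c i‖ := by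
  classical
  have hp := (Fact.out : p.Prime)
  have hpc : (p : ℂ) ≠ 0 := Nat.cast_ne_zero.2 hp.ne_zero
  have hdvd : ∀ (k : ℕ) (n : ℤ), (n : ℂ) / (p : ℂ) ^ k ∈ locRing hM → (p : ℤ) ^ k ∣ n := by
    intro k
    induction k with
    | zero => intro n _; simp
    | succ k ih =>
      intro n hn
      have h1 : MemLocalIdeal M (n : ℂ) := by
        have := memLocalIdeal_mul_right hM ((memLocalIdeal_natCast_iff hM p).2 dvd_rfl)
          (mul_mem (pow_mem (natCast_mem (locRing hM) p) k) hn)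
        convert this using 1
        rw [pow_succ]
        field_simp
      obtain ⟨n', rfl⟩ := dvd_of_memLocalIdeal_intCast hM h1
      rw [pow_succ']
      refine mul_dvd_mul_left _ (ih n' ?_)
      convert hn using 1
      push_cast
      rw [pow_succ]
      field_simp
  have hprod : (N : ℂ) / (p : ℂ) ^ (h * S.card) = ∏ i ∈ S, c i / (p : ℂ) ^ h := by
    rw [Finset.prod_div_distrib, hN, Finset.prod_const, pow_mul]
  have hkey : (∏ i ∈ S, c i / (p : ℂ) ^ h) ∈ locRing hM ∧
      ¬ MemLocalIdeal M (∏ i ∈ S, c i / (p : ℂ) ^ h) := by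
    refine Finset.prod_induction _ (fun x => x ∈ locRing hM ∧ ¬ MemLocalIdeal M x)
      (fun a b ha hb => ⟨mul_mem ha.1 hb.1, mul_not_ideal hM ha.1 hb.1 ha.2 hb.2⟩)
      ⟨one_mem _, fun h1 => hp.ne_one (Nat.dvd_one.1 ((memLocalIdeal_natCast_iff hM 1).1
        (by simpa using h1)))⟩ hc
  rw [← hprod] at hkey
  have hN0 : N ≠ 0 := fun h0 => hkey.2 (by
    rw [h0, Int.cast_zero, zero_div]; exact memLocalIdeal_zero hM)
  have hle : (p : ℝ) ^ (h * S.card) ≤ |(N : ℝ)| := by
    have := Int.le_of_dvd (abs_pos.2 hN0) ((dvd_abs _ _).2 (hdvd _ _ hkey.1))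
    exact_mod_cast this
  have hne : ∀ i ∈ S, c i ≠ 0 := fun i hi h0 => (hc i hi).2 (by
    rw [h0, zero_div]; exact memLocalIdeal_zero hM)
  have hpos : (0 : ℝ) < (p : ℝ) ^ h := pow_pos (Nat.cast_pos.2 hp.pos) _
  have hpn : ∀ i ∈ S, 0 < ‖c i‖ / (p : ℝ) ^ h := fun i hi =>
    div_pos (norm_pos_iff.2 (hne i hi)) hpos
  have h1 : (1 : ℝ) ≤ ∏ i ∈ S, ‖c i‖ / (p : ℝ) ^ h := by
    rw [Finset.prod_div_distrib, ← norm_prod, hN, Finset.prod_const, ← pow_mul,
      Complex.norm_intCast, one_le_div (pow_pos (Nat.cast_pos.2 hp.pos) _)]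
    exact hle
  have h2 : ∑ i ∈ S, Real.log (‖c i‖ / (p : ℝ) ^ h) ≤ ∑ i ∈ S, (‖c i‖ / (p : ℝ) ^ h - 1) :=
    Finset.sum_le_sum fun i hi => Real.log_le_sub_one_of_pos (hpn i hi)
  rw [← Real.log_prod fun i hi => (hpn i hi).ne', Finset.sum_sub_distrib, Finset.sum_const,
    nsmul_eq_mul, mul_one, ← Finset.sum_div] at h2
  have h3 : (S.card : ℝ) ≤ (∑ i ∈ S, ‖c i‖) / (p : ℝ) ^ h := by
    linarith [Real.log_nonneg h1]
  exact (le_div_iff₀ hpos).1 h3

end Cfsg.Lib.Block
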