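import Cfsg.Agent.Lib.Block.CentralPairs
import Cfsg.Agent.Lib.Block.StarNorm

/-!
# Sums of contributions over all subsections
-/

set_option autoImplicit false
set_option linter.unusedSectionVars false
set_option maxHeartbeats 1000000

namespace Cfsg.Lib.Block

open Cfsg
open scoped ComplexConjugate

universe u

noncomputable local instance (priority := high) fintypeSubgroupContrSum {A : Type u}
    [Group A] [Fintype A] (H : Subgroup A) : Fintype H := Fintype.ofFinite H

local notation "C[" Q "]" => Subgroup.centralizer (SetLike.coe Q)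

variable {p : ℕ} {M : Ideal AlgInt} {G : Type u} [Group G] [Fintype G] [Fact p.Prime]
  {H : Subgroup G} {u : G}

open Classical in
/-- The contribution as a sum over the regular elements. -/
theorem contr_eq_reg (d : ℕ) (b : Set (IrrCharacter H)) (χ η : IrrCharacter G) :
    contr p d u b χ η = ((p ^ d : ℕ) : ℂ) * ((Nat.card H : ℂ)⁻¹ * ∑ y : H,
      if IsPRegular p y then blockPart b (secFn u H (χ : G → ℂ)) y *
        conj (blockPart b (secFn u H (η : G → ℂ)) y) else 0) := by
  simp only [contr, classInner]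
  congr 2
  refine Finset.sum_congr rfl fun y _ => ?_
  by_cases hy : IsPRegular p y
  · rw [if_pos hy, pRegularPart_of_reg hy]
  · rw [if_neg hy, pRegularPart_of_sing hy, zero_mul]

open Classical in
/-- A diagonal contribution is real and nonnegative and dominates the mixed ones. -/
theorem contr_self_real (d : ℕ) (b : Set (IrrCharacter H)) (χ : IrrCharacter G) :
    contr p d u b χ χ = (((p ^ d : ℕ) : ℝ) * ((Nat.card H : ℝ)⁻¹ * ∑ y : H,
      if IsPRegular p y then ‖blockPart b (secFn u H (χ : G → ℂ)) y‖ ^ 2 else 0) : ℝ) := by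
  rw [contr_eq_reg]
  push_cast
  congr 2
  refine Finset.sum_congr rfl fun y _ => ?_
  split_ifs
  · rw [Complex.mul_conj', Complex.ofReal_pow]
  · simp

theorem contr_self_re_nonneg (d : ℕ) (b : Set (IrrCharacter H)) (χ : IrrCharacter G) :
    0 ≤ (contr p d u b χ χ).re := by
  classical
  rw [contr_self_real, Complex.ofReal_re]
  refine mul_nonneg (Nat.cast_nonneg _) (mul_nonneg (inv_nonneg.2 (Nat.cast_nonneg _))
    (Finset.sum_nonneg fun y _ => ?_))
  split_ifs
  · positivity
  · exact le_rfl

theorem norm_contr_le (d : ℕ) (b : Set (IrrCharacter H)) (χ η : IrrCharacter G) :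
    2 * ‖contr p d u b χ η‖ ≤ (contr p d u b χ χ).re + (contr p d u b η η).re := by
  classical
  rw [contr_self_real, contr_self_real, contr_eq_reg, Complex.ofReal_re, Complex.ofReal_re,
    norm_mul, norm_mul, norm_inv, Complex.norm_natCast, Complex.norm_natCast, ← mul_add,
    ← mul_add, mul_left_comm, mul_left_comm (2 : ℝ), ← Finset.sum_add_distrib]
  refine mul_le_mul_of_nonneg_left (mul_le_mul_of_nonneg_left
    ((mul_le_mul_of_nonneg_left (norm_sum_le _ _) zero_le_two).trans ?_)
      (inv_nonneg.2 (Nat.cast_nonneg _))) (Nat.cast_nonneg _)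
  rw [Finset.mul_sum]
  refine Finset.sum_le_sum fun y _ => ?_
  split_ifs
  · rw [norm_mul, Complex.norm_conj, ← mul_assoc]
    exact two_mul_le_add_sq _ _
  · simp

variable (hM : IsPModular p M)

open Classical in
include hM in
/-- The contributions of a character over all subsections add up to `p ^ d`. -/
theorem sum_contr_all (d : ℕ) (χ : IrrCharacter G) :
    ∑ x ∈ Finset.univ.filter (fun x : G => ∃ k : ℕ, orderOf x = p ^ k),
      (Nat.card C[Subgroup.zpowers x] : ℂ) *
        ∑ b ∈ blocksOf M C[Subgroup.zpowers x], contr p d x b χ χ =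
      ((p ^ d : ℕ) : ℂ) * (Nat.card G : ℂ) := by
  set F : G → ℂ := fun g => (χ : G → ℂ) g * conj ((χ : G → ℂ) g) with hFdef
  have htot : ∑ g, F g = (Nat.card G : ℂ) := by
    have := Char.classInner_irr_self χ.2
    rw [classInner, inv_mul_eq_one₀ Char.card_cast_ne_zero] at this
    exact this.symm
  rw [← htot, ← Finset.sum_fiberwise_of_maps_to (s := Finset.univ) (g := pPt p)
      (t := Finset.univ.filter fun x : G => ∃ k : ℕ, orderOf x = p ^ k)
      (fun g _ => Finset.mem_filter.2 ⟨Finset.mem_univ _, exists_orderOf_pPt g⟩),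
    Finset.mul_sum]
  refine Finset.sum_congr rfl fun x hx => ?_
  have hxp := (Finset.mem_filter.1 hx).2
  have hHx : ∀ h : C[Subgroup.zpowers x], Commute x (h : G) := fun h =>
    Subgroup.mem_centralizer_iff.1 h.2 x (Subgroup.mem_zpowers x)
  have hK : (Nat.card C[Subgroup.zpowers x] : ℂ) ≠ 0 := Char.card_cast_ne_zero
  simp only [contr_eq_reg]
  rw [sum_pPt_eq hxp hHx (centralizer_singleton_eq x).le F, ← Finset.mul_sum, ← Finset.mul_sum,
    mul_left_comm, mul_inv_cancel_left₀ hK]
  congr 1
  have hdiag : ∀ b ∈ blocksOf M C[Subgroup.zpowers x],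
      (∑ y : C[Subgroup.zpowers x], if IsPRegular p y then
        blockPart b (secFn x C[Subgroup.zpowers x] (χ : G → ℂ)) y *
          conj (blockPart b (secFn x C[Subgroup.zpowers x] (χ : G → ℂ)) y) else 0) =
      ∑ b' ∈ blocksOf M C[Subgroup.zpowers x],
        ∑ y : C[Subgroup.zpowers x], if IsPRegular p y then
          blockPart b (secFn x C[Subgroup.zpowers x] (χ : G → ℂ)) y *
            conj (blockPart b' (secFn x C[Subgroup.zpowers x] (χ : G → ℂ)) y) else 0 := fun b hb =>
    (Finset.sum_eq_single_of_mem (s := blocksOf M C[Subgroup.zpowers x]) (f := fun b' =>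
      ∑ y : C[Subgroup.zpowers x], if IsPRegular p y then
          blockPart b (secFn x C[Subgroup.zpowers x] (χ : G → ℂ)) y *
            conj (blockPart b' (secFn x C[Subgroup.zpowers x] (χ : G → ℂ)) y) else 0) b hb
      fun b' hb' hne => sum_reg_blockPart_mul_conj_ne hM ((mem_blocksOf hM).1 hb)
        ((mem_blocksOf hM).1 hb') hne.symm _ _).symm
  rw [Finset.sum_congr rfl hdiag, Finset.sum_congr rfl fun b _ => Finset.sum_comm,
    Finset.sum_comm]
  refine Finset.sum_congr rfl fun y _ => ?_
  by_cases hy : IsPRegular p y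
  · have e := sum_blocksOf_blockPart (p := p) hM (isClassFunction_secFn hHx χ) y
    simp only [if_pos hy]
    rw [← Finset.sum_mul_sum, ← map_sum, e]
    rfl
  · simp only [if_neg hy, Finset.sum_const_zero]

open Classical in
/-- Contributions are invariant under conjugation. -/
theorem contr_conjSet {g : G} {K K' : Subgroup G} (h : ConjMaps g K K') (d : ℕ) (x : G)
    (b : Set (IrrCharacter K)) (χ η : IrrCharacter G) :
    contr p d (g * x * g⁻¹) (conjSet h b) χ η = contr p d x b χ η := by
  have hsec : ∀ (ψ : IrrCharacter G) (k : K),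
      secFn (g * x * g⁻¹) K' (ψ : G → ℂ) (conjIso h k) = secFn x K (ψ : G → ℂ) k := fun ψ k => by
    show (ψ : G → ℂ) (g * x * g⁻¹ * (g * (k : G) * g⁻¹)) = (ψ : G → ℂ) (x * (k : G))
    rw [show g * x * g⁻¹ * (g * (k : G) * g⁻¹) = g * (x * k) * g⁻¹ by group]
    exact ψ.2.isClassFunction _ _
  have hbp : ∀ (ψ : IrrCharacter G) (k : K),
      blockPart (conjSet h b) (secFn (g * x * g⁻¹) K' (ψ : G → ℂ)) (conjIso h k) =
        blockPart b (secFn x K (ψ : G → ℂ)) k := by
    intro ψ k
    rw [blockPart_eq_inner_sum, blockPart_eq_inner_sum]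
    refine (Fintype.sum_equiv (irrEquiv (conjIso h).symm) _ _ fun η => ?_).symm
    show _ = if compIrr (conjIso h).symm η ∈ conjSet h b then _ else _
    refine if_congr (mem_pullSet (e := (conjIso h).symm) (b := b) (χ := η)).symm ?_ rfl
    congr 1
    · simp only [classInner, Nat.card_congr (conjIso h).toEquiv]
      congr 1
      refine Fintype.sum_equiv (conjIso h).toEquiv _ _ fun a => ?_
      show _ = secFn (g * x * g⁻¹) K' (ψ : G → ℂ) (conjIso h a) *
        conj ((η : K → ℂ) ((conjIso h).symm (conjIso h a)))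
      rw [hsec, MulEquiv.symm_apply_apply]
    · show _ = (η : K → ℂ) ((conjIso h).symm (conjIso h k))
      rw [MulEquiv.symm_apply_apply]
  rw [contr_eq_reg, contr_eq_reg, Nat.card_congr (conjIso h).toEquiv]
  congr 2
  refine (Fintype.sum_equiv (conjIso h).toEquiv _ _ fun k => ?_).symm
  show _ = if IsPRegular p (conjIso h k) then _ else _
  refine if_congr (by rw [IsPRegular, IsPRegular, (conjIso h).orderOf_eq]) ?_ rfl
  simp only [MulEquiv.toEquiv_eq_coe, EquivLike.coe_coe, hbp]

end Cfsg.Lib.Block
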