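import Cfsg.Agent.S0059
import Cfsg.Agent.Lib.Char.InvariantOver
import Cfsg.Agent.Lib.Char.Clifford2

/-!
# Invariant constituents and invariant characters under coprime operators on a normal layer
-/

set_option autoImplicit false
set_option linter.style.haveILetI false
set_option linter.unusedSectionVars false

namespace Cfsg.Lib.Block

open Cfsg Cfsg.Lib

universe u

variable {D : Type u} [Group D] [Fintype D] (G N S : Subgroup D) [hG : G.Normal] [hN : N.Normal]

private theorem twist_twist (η : N → ℂ) (x y : D) :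
    (fun n => (fun m => η (MulAut.conjNormal x⁻¹ m)) (MulAut.conjNormal y⁻¹ n)) =
      fun n => η (MulAut.conjNormal (y * x)⁻¹ n) := by
  funext n
  refine congrArg η (Subtype.ext ?_)
  simp only [MulAut.conjNormal_apply]
  group

/-- A character invariant under coprime operators has an invariant constituent in a normal
layer, when one of the two sides is solvable. -/
theorem exists_fixed_constituent [Fintype G] [Fintype N] (hGS : G ⊔ S = ⊤) (hNG : N ≤ G)
    (hcop : (N.relIndex G).Coprime (Nat.card S))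
    (hsolv : Group.IsSolvable S ∨ Group.IsSolvable (G ⧸ N.subgroupOf G)) {χ : G → ℂ}
    (hχ : IsIrrCharacter G χ) (hinv : ∀ (x : D) (g : G), χ (MulAut.conjNormal x g) = χ g) :
    ∃ θ : N → ℂ, IsIrrCharacter N θ ∧
      classInner (fun n : N => χ (Subgroup.inclusion hNG n)) θ ≠ 0 ∧
      ∀ s ∈ S, ∀ n : N, θ (MulAut.conjNormal s n) = θ n := by
  classical
  let res : N → ℂ := fun n => χ (Subgroup.inclusion hNG n)
  let X := {η : IrrCharacter N // classInner res (η : N → ℂ) ≠ 0}
  have hmem : ∀ (x : D) (η : X), classInner res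
      (fun n => (η.1 : N → ℂ) (MulAut.conjNormal x⁻¹ n)) ≠ 0 := by
    intro x η
    have h1 : res = fun n => res (MulAut.conjNormal x⁻¹ n) := by
      funext n
      exact (hinv x⁻¹ (Subgroup.inclusion hNG n)).symm.trans
        (congrArg χ (Subtype.ext (by simp [MulAut.conjNormal_apply])))
    have h2 : classInner res (fun n => (η.1 : N → ℂ) (MulAut.conjNormal x⁻¹ n)) =
        classInner res (η.1 : N → ℂ) :=
      (congrArg (fun f => classInner f _) h1).trans
        (Char.classInner_comp_equiv (MulAut.conjNormal x⁻¹ : MulAut N) res (η.1 : N → ℂ))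
    rw [h2]
    exact η.2
  letI act : MulAction D X :=
    { smul := fun x η => ⟨⟨fun n => (η.1 : N → ℂ) (MulAut.conjNormal x⁻¹ n),
          Char.isIrrCharacter_comp_equiv (MulAut.conjNormal x⁻¹ : MulAut N) η.1.2⟩, hmem x η⟩
      one_smul := fun η => Subtype.ext (Subtype.ext (funext fun n =>
        congrArg (η.1 : N → ℂ) (Subtype.ext (by simp [MulAut.conjNormal_apply]))))
      mul_smul := fun x y η => Subtype.ext (Subtype.ext (twist_twist N (η.1 : N → ℂ) y x).symm) }
  have hval : ∀ (x : D) (η : X) (n : N),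
      ((x • η).1 : N → ℂ) n = (η.1 : N → ℂ) (MulAut.conjNormal x⁻¹ n) := fun _ _ _ => rfl
  let ρ : D →* Equiv.Perm X := MulAction.toPermHom D X
  have hker : ∀ x ∈ N, ρ x = 1 := by
    intro x hx
    refine Equiv.ext fun η => Subtype.ext (Subtype.ext (funext fun n => ?_))
    show (η.1 : N → ℂ) (MulAut.conjNormal x⁻¹ n) = _
    exact η.1.2.isClassFunction n ⟨x⁻¹, inv_mem hx⟩ ▸ congrArg (η.1 : N → ℂ)
      (Subtype.ext (by simp [MulAut.conjNormal_apply]))
  let ρb : D ⧸ N →* Equiv.Perm X := QuotientGroup.lift N ρ fun x hx => hker x hx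
  letI : MulAction (D ⧸ N) X := MulAction.compHom X ρb
  have hsmul : ∀ (x : D) (η : X), ((x : D ⧸ N)) • η = x • η := fun x η => rfl
  let π := QuotientGroup.mk' N
  have hπ : Function.Surjective π := QuotientGroup.mk'_surjective N
  let K := G.map π
  let H := S.map π
  haveI : K.Normal := hG.map π hπ
  have hsup : K ⊔ H = ⊤ := by
    show G.map π ⊔ S.map π = ⊤
    rw [← Subgroup.map_sup, hGS, Subgroup.map_top_of_surjective π hπ]
  have hKcard : Nat.card K = N.relIndex G := by
    show Nat.card (G.map π) = _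
    rw [← Subgroup.relIndex_ker, QuotientGroup.ker_mk']
  have hHdvd : Nat.card H ∣ Nat.card S := by
    show Nat.card (S.map π) ∣ _
    exact Subgroup.card_map_dvd S π
  have hcopKH : (Nat.card K).Coprime (Nat.card H) := hKcard ▸ hcop.coprime_dvd_right hHdvd
  have hdisj : K ⊓ H = ⊥ := Subgroup.inf_eq_bot_of_coprime hcopKH
  have hcompl : Subgroup.IsComplement' K H :=
    Subgroup.isComplement'_of_disjoint_and_mul_eq_univ (disjoint_iff.mpr hdisj) (by
      rw [← Subgroup.normal_mul, hsup, Subgroup.coe_top])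
  have hidx : K.index = Nat.card H := hcompl.symm.index_eq_card
  have hsol : Group.IsSolvable K ∨ Group.IsSolvable ((D ⧸ N) ⧸ K) := by
    rcases hsolv with h | h
    · right
      haveI := h
      haveI : Group.IsSolvable H :=
        Group.isSolvable_of_surjective (π.subgroupMap_surjective S)
      exact Group.isSolvable_of_surjective (f := (hcompl.symm.QuotientMulEquiv).symm.toMonoidHom)
        (MulEquiv.surjective _)
    · left
      haveI := h
      have hk : N.subgroupOf G ≤ (π.subgroupMap G).ker := fun x hx => MonoidHom.mem_ker.mpr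
        (Subtype.ext ((QuotientGroup.eq_one_iff (x : D)).mpr hx))
      exact Group.isSolvable_of_surjective (f := QuotientGroup.lift _ (π.subgroupMap G) hk)
        fun y => by
          obtain ⟨x, hx⟩ := π.subgroupMap_surjective G y
          exact ⟨QuotientGroup.mk x, by rw [QuotientGroup.lift_mk]; exact hx⟩
  haveI : Nonempty X := by
    have hres : IsCharacter N res := hχ.isCharacter.comp (Subgroup.inclusion hNG)
    have hres1 : res 1 ≠ 0 := hχ.apply_one_ne_zero
    obtain ⟨η, hη⟩ := Char.exists_constituent hres hres1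
    exact ⟨⟨η, hη⟩⟩
  have htrans : MulAction.IsPretransitive K X := by
    refine ⟨fun η η' => ?_⟩
    haveI : (N.subgroupOf G).Normal := hN.subgroupOf G
    haveI := Fintype.ofFinite (N.subgroupOf G)
    let e := Subgroup.subgroupOfEquivOfLe hNG
    have hc : ∀ ζ : X, classInner (fun x : N.subgroupOf G => χ x)
        (fun x => (ζ.1 : N → ℂ) (e x)) ≠ 0 := by
      intro ζ
      have h := ζ.2
      rw [← Char.classInner_comp_equiv e] at h
      exact h
    obtain ⟨g, hg⟩ := (Char.mem_twistOrbit _).mp (Char.mem_twistOrbit_of_constituent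
      (N.subgroupOf G) hχ (Char.isIrrCharacter_comp_equiv e η.1.2)
      (Char.isIrrCharacter_comp_equiv e η'.1.2) (hc η) (hc η'))
    refine ⟨⟨π (g : D)⁻¹, Subgroup.mem_map_of_mem π (inv_mem g.2)⟩, ?_⟩
    show (((g : D)⁻¹ : D) : D ⧸ N) • η = η'
    rw [hsmul]
    refine Subtype.ext (Subtype.ext (funext fun n => ?_))
    rw [hval]
    have h := congrFun hg (e.symm n)
    simp only [MulEquiv.apply_symm_apply] at h
    rw [← h, Char.conjTwist_apply]
    refine congrArg (η.1 : N → ℂ) (Subtype.ext ?_)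
    simp only [MulAut.conjNormal_apply, inv_inv]
    rfl
  obtain ⟨⟨η, hη⟩, -⟩ := Cfsg.Agent.S0059.result (X := X) K H hcompl
    (by rw [hidx]; exact hcopKH) hsol htrans
  refine ⟨η.1, η.1.2, η.2, fun s hs n => ?_⟩
  have h := hη (π s⁻¹) (Subgroup.mem_map_of_mem π (inv_mem hs))
  have h' : s⁻¹ • η = η := h
  have h2 := congrFun (congrArg (fun z : X => (z.1 : N → ℂ)) h') n
  change ((s⁻¹ • η).1 : N → ℂ) n = _ at h2
  rw [hval, inv_inv] at h2
  exact h2

/-- A character of a normal layer fixed by coprime operators lies under a fixed character when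
the quotient is solvable. -/
theorem exists_fixed_over [Fintype G] [Fintype N] (hGS : G ⊔ S = ⊤) (hNG : N ≤ G)
    (hcop : (N.relIndex G).Coprime (Nat.card S)) (hsolv : Group.IsSolvable (G ⧸ N.subgroupOf G))
    {θ : N → ℂ} (hθ : IsIrrCharacter N θ)
    (hinv : ∀ s ∈ S, ∀ n : N, θ (MulAut.conjNormal s n) = θ n) :
    ∃ χ : G → ℂ, IsIrrCharacter G χ ∧
      classInner (fun n : N => χ (Subgroup.inclusion hNG n)) θ ≠ 0 ∧
      ∀ s ∈ S, ∀ g : G, χ (MulAut.conjNormal s g) = χ g := by
  classical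
  let T := Char.inertia N θ
  have hNT : N ≤ T := Char.le_inertia N hθ.isClassFunction
  have hST : S ≤ T := fun s hs => (Char.mem_inertia_iff N).mpr fun n =>
    Eq.trans (congrArg θ (Subtype.ext (by simp [MulAut.conjNormal_apply]))) (hinv s hs n)
  let G' : Subgroup T := G.subgroupOf T
  let N' : Subgroup T := N.subgroupOf T
  haveI : G'.Normal := hG.subgroupOf T
  haveI : N'.Normal := hN.subgroupOf T
  haveI := Fintype.ofFinite T
  haveI := Fintype.ofFinite G'
  haveI := Fintype.ofFinite N'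
  have hN'G' : N' ≤ G' := fun x hx => hNG hx
  have hidx : G'.index ∣ Nat.card S := by
    let f : S →* T ⧸ G' := (QuotientGroup.mk' G').comp (Subgroup.inclusion hST)
    have hf : Function.Surjective f := by
      intro y
      obtain ⟨t, rfl⟩ := QuotientGroup.mk_surjective y
      have ht : (t : D) ∈ (G ⊔ S : Subgroup D) := hGS ▸ Subgroup.mem_top _
      rw [← SetLike.mem_coe, Subgroup.normal_mul] at ht
      obtain ⟨g, hg, s, hs, he⟩ := ht
      refine ⟨⟨s, hs⟩, QuotientGroup.eq.mpr ?_⟩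
      show ((s⁻¹ * (t : D))) ∈ G
      rw [← (he : g * s = (t : D)), ← mul_assoc]
      simpa using hG.conj_mem g hg s⁻¹
    exact Subgroup.card_dvd_of_surjective f hf
  have hrel : N'.relIndex G' ∣ N.relIndex G := by
    have h1 : N'.relIndex G' = N.relIndex (G ⊓ T) := by
      show (N.subgroupOf T).relIndex (G.subgroupOf T) = _
      rw [← Subgroup.inf_subgroupOf_right G T, Subgroup.relIndex_subgroupOf inf_le_right]
    rw [h1]
    exact Dvd.intro _ (Subgroup.relIndex_mul_relIndex N (G ⊓ T) G (le_inf hNG hNT) inf_le_left)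
  obtain ⟨k, hk⟩ := (Group.isSolvable_def (G ⧸ N.subgroupOf G)).mp hsolv
  let ι : G' →* G :=
    { toFun := fun x => ⟨((x : T) : D), x.2⟩
      map_one' := rfl
      map_mul' := fun _ _ => rfl }
  let eN : N' ≃* N := Subgroup.subgroupOfEquivOfLe hNT
  obtain ⟨ψ, hψ, hψθ, hψinv⟩ := Char.exists_invariant_over G' N' hN'G'
    (Nat.Coprime.coprime_dvd_left hidx (hcop.symm.coprime_dvd_right hrel))
    (Or.inr ⟨k, fun x hx => by
      obtain ⟨y, hy, rfl⟩ := hx
      show ((y : T) : D) ∈ N
      have h1 : QuotientGroup.mk' (N.subgroupOf G) (ι y) ∈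
          derivedSeries (G ⧸ N.subgroupOf G) k :=
        map_derivedSeries_le_derivedSeries ((QuotientGroup.mk' (N.subgroupOf G)).comp ι) k
          ⟨y, hy, rfl⟩
      rw [hk, Subgroup.mem_bot] at h1
      exact (QuotientGroup.eq_one_iff (ι y)).mp h1⟩)
    (Char.isIrrCharacter_comp_equiv eN hθ)
    (fun t n => by
      refine Eq.trans (congrArg θ (Subtype.ext ?_)) ((Char.mem_inertia_iff N).mp t.2 (eN n))
      simp [eN, MulAut.conjNormal_apply, Subgroup.subgroupOfEquivOfLe])
  let H₀ : Subgroup G := N.subgroupOf G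
  haveI : H₀.Normal := hN.subgroupOf G
  haveI := Fintype.ofFinite H₀
  let I₀ : Subgroup G := T.subgroupOf G
  haveI := Fintype.ofFinite I₀
  let θ₀ : H₀ → ℂ := fun x => θ (Subgroup.subgroupOfEquivOfLe hNG x)
  have hθ₀ : IsIrrCharacter H₀ θ₀ := Char.isIrrCharacter_comp_equiv _ hθ
  have hH₀I₀ : H₀ ≤ I₀ := fun x hx => hNT hx
  have hI₀ : I₀ = Char.inertia H₀ θ₀ := by
    ext g
    rw [Char.mem_inertia_iff]
    refine (Char.mem_inertia_iff (g := (g : D)) N).trans ⟨fun h x => ?_, fun h n => ?_⟩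
    · exact h ⟨((x : G) : D), x.2⟩
    · exact h ⟨⟨(n : D), hNG n.2⟩, n.2⟩
  let e : I₀ ≃* G' :=
    { toFun := fun x => ⟨⟨((x : G) : D), x.2⟩, (x : G).2⟩
      invFun := fun y => ⟨⟨((y : T) : D), y.2⟩, (y : T).2⟩
      left_inv := fun _ => rfl
      right_inv := fun _ => rfl
      map_mul' := fun _ _ => rfl }
  let ψ₀ : I₀ → ℂ := fun x => ψ (e x)
  have hψ₀ : IsIrrCharacter I₀ ψ₀ := Char.isIrrCharacter_comp_equiv e hψ
  let eH : H₀ ≃* N' :=
    { toFun := fun x => ⟨⟨((x : G) : D), hNT x.2⟩, x.2⟩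
      invFun := fun y => ⟨⟨((y : T) : D), hNG y.2⟩, y.2⟩
      left_inv := fun _ => rfl
      right_inv := fun _ => rfl
      map_mul' := fun _ _ => rfl }
  have hc : classInner (fun h : H₀ => ψ₀ ⟨h, hH₀I₀ h.2⟩) θ₀ ≠ 0 := by
    rw [← Char.classInner_comp_equiv eH] at hψθ
    exact hψθ
  obtain ⟨hirr, hmult⟩ := Char.clifford_induce H₀ hθ₀ hH₀I₀ hI₀ hψ₀ hc
  refine ⟨indFun I₀ ψ₀, hirr, ?_, fun s hs g => ?_⟩
  · rw [← Char.classInner_comp_equiv (Subgroup.subgroupOfEquivOfLe hNG)]
    exact fun h0 => hc (hmult.symm.trans h0)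
  · let α : MulAut G := MulAut.conjNormal s
    have hαI : ∀ x : G, α x ∈ I₀ ↔ x ∈ I₀ := by
      intro x
      show s * (x : D) * s⁻¹ ∈ T ↔ (x : D) ∈ T
      refine ⟨fun h => ?_, fun h => T.mul_mem (T.mul_mem (hST hs) h) (T.inv_mem (hST hs))⟩
      have h2 := T.mul_mem (T.mul_mem (T.inv_mem (hST hs)) h) (hST hs)
      simpa [mul_assoc] using h2
    have hext : ∀ x : G, extendByZero I₀ ψ₀ (α x) = extendByZero I₀ ψ₀ x := by
      intro x
      by_cases hx : x ∈ I₀
      · rw [Char.extendByZero_of_mem _ _ hx, Char.extendByZero_of_mem _ _ ((hαI x).mpr hx)]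
        exact hψinv ⟨s, hST hs⟩ (e ⟨x, hx⟩)
      · rw [Char.extendByZero_of_notMem _ _ hx,
          Char.extendByZero_of_notMem _ _ fun h => hx ((hαI x).mp h)]
    show (Nat.card I₀ : ℂ)⁻¹ * ∑ x : G, extendByZero I₀ ψ₀ (x⁻¹ * α g * x) =
      (Nat.card I₀ : ℂ)⁻¹ * ∑ x : G, extendByZero I₀ ψ₀ (x⁻¹ * g * x)
    congr 1
    rw [← Equiv.sum_comp α.toEquiv]
    exact Finset.sum_congr rfl fun x _ => by
      rw [← hext (x⁻¹ * g * x), map_mul, map_mul, map_inv]
      rfl

end Cfsg.Lib.Block
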