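import Mathlib.FieldTheory.IsAlgClosed.Basic
import Mathlib.FieldTheory.Minpoly.Field
import Mathlib.RingTheory.Nilpotent.Basic
import Mathlib.Algebra.CharP.Lemmas
import Mathlib.LinearAlgebra.FiniteDimensional.Basic
import Mathlib.Algebra.MonoidAlgebra.Basic
import Mathlib.Tactic

/-!
# Primitive idempotents in finite dimensional algebras

Over an algebraically closed field the corner of a primitive idempotent is local with residue
field the ground field.
-/

set_option autoImplicit false
set_option linter.unusedSectionVars false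

namespace Cfsg.Lib.Block

open Polynomial

variable {k A : Type*} [Field k] [Ring A] [Algebra k A]

/-- An element of the corner at `e`. -/
def InCorner (e x : A) : Prop := e * x = x ∧ x * e = x

/-- A primitive idempotent of a subalgebra. -/
structure IsPrim (S : Subalgebra k A) (e : A) : Prop where
  mem : e ∈ S
  idem : IsIdempotentElem e
  ne_zero : e ≠ 0
  minimal : ∀ f ∈ S, IsIdempotentElem f → InCorner e f → f = 0 ∨ f = e

theorem inCorner_self {e : A} (he : IsIdempotentElem e) : InCorner e e := ⟨he.eq, he.eq⟩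

theorem InCorner.zero (e : A) : InCorner e (0 : A) := ⟨mul_zero e, zero_mul e⟩

theorem InCorner.add {e x y : A} (hx : InCorner e x) (hy : InCorner e y) : InCorner e (x + y) :=
  ⟨by rw [mul_add, hx.1, hy.1], by rw [add_mul, hx.2, hy.2]⟩

theorem InCorner.sub {e x y : A} (hx : InCorner e x) (hy : InCorner e y) : InCorner e (x - y) :=
  ⟨by rw [mul_sub, hx.1, hy.1], by rw [sub_mul, hx.2, hy.2]⟩

theorem InCorner.mul {e x y : A} (hx : InCorner e x) (hy : InCorner e y) : InCorner e (x * y) :=
  ⟨by rw [← mul_assoc, hx.1], by rw [mul_assoc, hy.2]⟩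

theorem InCorner.smul {e x : A} (hx : InCorner e x) (c : k) : InCorner e (c • x) :=
  ⟨by rw [mul_smul_comm, hx.1], by rw [smul_mul_assoc, hx.2]⟩

theorem InCorner.sandwich {e : A} (he : IsIdempotentElem e) (x : A) : InCorner e (e * x * e) :=
  ⟨by rw [← mul_assoc, ← mul_assoc, he.eq], by rw [mul_assoc, he.eq]⟩

theorem InCorner.commute {e x : A} (hx : InCorner e x) : Commute e x := hx.1.trans hx.2.symm

theorem InCorner.aeval_commute {e x : A} (hx : InCorner e x) (f : k[X]) :
    Commute e (aeval x f) := by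
  induction f using Polynomial.induction_on' with
  | add f g hf hg => rw [map_add]; exact hf.add_right hg
  | monomial n c =>
    rw [aeval_monomial]
    exact Commute.mul_right (Algebra.commute_algebraMap_right _ _) (hx.commute.pow_right n)

variable [FiniteDimensional k A] {S : Subalgebra k A} {e : A}

/-- An element of a primitive corner is nilpotent or invertible in the corner. -/
theorem IsPrim.nilpotent_or_unit (he : IsPrim S e) {y : A} (hy : y ∈ S) (hc : InCorner e y) :
    IsNilpotent y ∨ ∃ w ∈ S, InCorner e w ∧ w * y = e ∧ y * w = e := by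
  classical
  have hm : (X * minpoly k y) ≠ 0 :=
    mul_ne_zero X_ne_zero (minpoly.ne_zero (IsIntegral.of_finite k y))
  obtain ⟨q, hq, hnd⟩ := exists_eq_pow_rootMultiplicity_mul_and_not_dvd (X * minpoly k y) hm 0
  rw [map_zero, sub_zero] at hq hnd
  obtain ⟨j, hj⟩ : ∃ j, (X * minpoly k y).rootMultiplicity 0 = j + 1 := by
    refine ⟨(X * minpoly k y).rootMultiplicity 0 - 1, ?_⟩
    have h1 : 0 < (X * minpoly k y).rootMultiplicity 0 :=
      (rootMultiplicity_pos hm).2 (by simp [IsRoot])
    omega
  rw [hj] at hq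
  obtain ⟨U, V, hUV⟩ : IsCoprime (X ^ (j + 1)) q :=
    ((irreducible_X.coprime_iff_not_dvd).2 hnd).pow_left
  have h0 : aeval y (X ^ (j + 1) * q) = 0 := by
    rw [← hq, map_mul, minpoly.aeval, mul_zero]
  set e₁ : A := aeval y (U * X ^ (j + 1)) with he₁
  have hfac : e₁ = y * aeval y (U * X ^ j) := by
    rw [he₁, show U * X ^ (j + 1) = X * (U * X ^ j) by ring, map_mul, aeval_X]
  have hfac' : e₁ = aeval y (U * X ^ j) * y := by
    rw [he₁, show U * X ^ (j + 1) = (U * X ^ j) * X by ring, map_mul, aeval_X]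
  have hidem : IsIdempotentElem e₁ := by
    have h1 : e₁ * e₁ + aeval y (U * V) * aeval y (X ^ (j + 1) * q) = e₁ := by
      rw [he₁, ← map_mul, ← map_mul, ← map_add]
      congr 1
      linear_combination (U * X ^ (j + 1)) * hUV
    rwa [h0, mul_zero, add_zero] at h1
  have hPS : ∀ f : k[X], aeval y f ∈ S := fun f =>
    (aeval_subalgebra_coe f S ⟨y, hy⟩) ▸ Subtype.prop _
  have hcor : InCorner e e₁ :=
    ⟨by rw [hfac, ← mul_assoc, hc.1], by rw [hfac', mul_assoc, hc.2]⟩
  rcases he.minimal e₁ (hPS _) hidem hcor with h | h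
  · left
    refine ⟨j + 1, ?_⟩
    have h1 : aeval y (X ^ (j + 1) : k[X]) =
        aeval y (X ^ (j + 1) : k[X]) * e₁ + aeval y V * aeval y (X ^ (j + 1) * q) := by
      rw [he₁, ← map_mul, ← map_mul, ← map_add]
      congr 1
      linear_combination -(X ^ (j + 1)) * hUV
    rw [h, h0, mul_zero, mul_zero, add_zero, map_pow, aeval_X] at h1
    exact h1
  · right
    refine ⟨e * aeval y (U * X ^ j) * e, mul_mem (mul_mem he.mem (hPS _)) he.mem,
      InCorner.sandwich he.idem _, ?_, ?_⟩
    · rw [mul_assoc, hc.1, mul_assoc, ← hfac', h, he.idem.eq]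
    · rw [← mul_assoc, ← mul_assoc, hc.2, ← hfac, h, he.idem.eq]

theorem IsPrim.not_isNilpotent (he : IsPrim S e) : ¬ IsNilpotent e :=
  fun h => he.ne_zero (he.idem.eq_zero_of_isNilpotent h)

/-- Every element of a primitive corner is a scalar modulo nilpotent elements. -/
theorem IsPrim.exists_scalar [IsAlgClosed k] (he : IsPrim S e) {x : A} (hx : x ∈ S)
    (hc : InCorner e x) : ∃ c : k, IsNilpotent (x - c • e) := by
  classical
  by_contra hno
  simp only [not_exists] at hno
  have hunit : ∀ c : k, ∃ w : A, w * (x - c • e) = e := fun c => by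
    rcases he.nilpotent_or_unit (sub_mem hx (S.smul_mem he.mem c))
      (hc.sub ((inCorner_self he.idem).smul c)) with h | ⟨w, -, -, hw, -⟩
    · exact absurd h (hno c)
    · exact ⟨w, hw⟩
  have hall : ∀ R : Multiset k, ∃ w : A,
      w * (e * aeval x (R.map fun c => X - C c).prod) = e := by
    intro R
    induction R using Multiset.induction_on with
    | empty => exact ⟨e, by simp [he.idem.eq]⟩
    | cons c R ih =>
      obtain ⟨w, hw⟩ := ih
      obtain ⟨w', hw'⟩ := hunit c
      refine ⟨w * w', ?_⟩
      have e1 : e * aeval x (X - C c) = x - c • e := by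
        rw [map_sub, aeval_X, aeval_C, mul_sub, hc.1, ← Algebra.commutes, ← Algebra.smul_def]
      rw [Multiset.map_cons, Multiset.prod_cons, map_mul]
      have e2 : e * (aeval x (X - C c) * aeval x (R.map fun c => X - C c).prod) =
          (x - c • e) * (e * aeval x (R.map fun c => X - C c).prod) := by
        rw [← e1]
        have hcm := (hc.aeval_commute (X - C c : k[X])).eq
        rw [mul_assoc e, ← mul_assoc (aeval x (X - C c)) e, ← hcm, ← mul_assoc, ← mul_assoc,
          ← mul_assoc, he.idem.eq]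
      rw [e2, mul_assoc, ← mul_assoc w', hw', ← mul_assoc e e, he.idem.eq, hw]
  have hmon := minpoly.monic (IsIntegral.of_finite k x)
  obtain ⟨w, hw⟩ := hall (minpoly k x).roots
  rw [← (IsAlgClosed.splits (minpoly k x)).eq_prod_roots_of_monic hmon, minpoly.aeval, mul_zero,
    mul_zero] at hw
  exact he.ne_zero hw.symm

/-- Multiples of nilpotent elements in a primitive corner are nilpotent. -/
theorem IsPrim.isNilpotent_mul (he : IsPrim S e) {x y : A} (hx : x ∈ S) (hxc : InCorner e x)
    (hy : y ∈ S) (hyc : InCorner e y) (hn : IsNilpotent x) :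
    IsNilpotent (x * y) ∧ IsNilpotent (y * x) := by
  obtain ⟨n, hn⟩ := hn
  have key : IsNilpotent (x * y) := by
    rcases he.nilpotent_or_unit (mul_mem hx hy) (hxc.mul hyc) with h | ⟨w, -, hwc, -, hw⟩
    · exact h
    exfalso
    have hr : ∀ i : ℕ, x ^ (i + 1) * (y * w) ^ (i + 1) = e := by
      intro i
      induction i with
      | zero => rw [pow_one, pow_one, ← mul_assoc, hw]
      | succ i ih =>
        have hxe : x ^ (i + 1) * e = x ^ (i + 1) := by rw [pow_succ, mul_assoc, hxc.2]
        rw [pow_succ x (i + 1), pow_succ' (y * w) (i + 1), mul_assoc, ← mul_assoc x (y * w),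
          ← mul_assoc x y w, hw, ← mul_assoc, hxe, ih]
    have := hr n
    rw [pow_succ x, hn, zero_mul, zero_mul] at this
    exact he.ne_zero this.symm
  refine ⟨key, ?_⟩
  obtain ⟨m, hm⟩ := key
  refine ⟨m + 1, ?_⟩
  rw [pow_succ', mul_assoc, ← mul_pow_mul x y m, ← mul_assoc, hm]
  simp

/-- Sums of nilpotent elements in a primitive corner are nilpotent. -/
theorem IsPrim.isNilpotent_add (he : IsPrim S e) {x y : A} (hx : x ∈ S) (hxc : InCorner e x)
    (hy : y ∈ S) (hyc : InCorner e y) (hnx : IsNilpotent x) (hny : IsNilpotent y) :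
    IsNilpotent (x + y) := by
  rcases he.nilpotent_or_unit (add_mem hx hy) (hxc.add hyc) with h | ⟨w, hwS, hwc, hw, -⟩
  · exact h
  exfalso
  have h1 := (he.isNilpotent_mul hx hxc hwS hwc hnx).2
  have h2 := (he.isNilpotent_mul hy hyc hwS hwc hny).2
  have hsum : w * x + w * y = e := by rw [← mul_add, hw]
  have hcomm : Commute (w * x) (w * y) := by
    rw [show w * y = e - w * x by rw [← hsum, add_sub_cancel_left]]
    exact ((hwc.mul hxc).commute.symm).sub_right (Commute.refl _)
  exact he.not_isNilpotent (hsum ▸ hcomm.isNilpotent_add h1 h2)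

theorem IsPrim.isNilpotent_sum (he : IsPrim S e) {ι : Type*} (s : Finset ι) (f : ι → A)
    (hS : ∀ i ∈ s, f i ∈ S) (hc : ∀ i ∈ s, InCorner e (f i))
    (hn : ∀ i ∈ s, IsNilpotent (f i)) : IsNilpotent (∑ i ∈ s, f i) := by
  classical
  have key : ∀ t ⊆ s, (∑ i ∈ t, f i ∈ S ∧ InCorner e (∑ i ∈ t, f i)) ∧
      IsNilpotent (∑ i ∈ t, f i) := by
    intro t
    induction t using Finset.induction_on with
    | empty => exact fun _ => by simp [InCorner.zero, IsNilpotent.zero, zero_mem]
    | insert a t ha ih =>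
      intro hts
      obtain ⟨⟨h1, h2⟩, h3⟩ := ih fun i hi => hts (Finset.mem_insert_of_mem hi)
      have has := hts (Finset.mem_insert_self a t)
      rw [Finset.sum_insert ha]
      exact ⟨⟨add_mem (hS a has) h1, (hc a has).add h2⟩,
        he.isNilpotent_add (hS a has) (hc a has) h1 h2 (hn a has) h3⟩
  exact (key s subset_rfl).2

open Classical in
/-- The residue of an element of a primitive corner. -/
noncomputable def cres (k : Type*) {A : Type*} [Field k] [Ring A] [Algebra k A] (e x : A) : k :=
  if h : ∃ c : k, IsNilpotent (x - c • e) then h.choose else 0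

theorem IsPrim.eq_of_isNilpotent_sub (he : IsPrim S e) {x : A} (hx : x ∈ S) (hc : InCorner e x)
    {c d : k} (h₁ : IsNilpotent (x - c • e)) (h₂ : IsNilpotent (x - d • e)) : c = d := by
  by_contra hne
  have hS : ∀ a : k, x - a • e ∈ S := fun a => sub_mem hx (S.smul_mem he.mem a)
  have hC : ∀ a : k, InCorner e (x - a • e) := fun a => hc.sub ((inCorner_self he.idem).smul a)
  have h := he.isNilpotent_add (hS c) (hC c) (neg_mem (hS d))
    ⟨by rw [mul_neg, (hC d).1], by rw [neg_mul, (hC d).2]⟩ h₁ h₂.neg
  rw [show x - c • e + -(x - d • e) = (d - c) • e by rw [sub_smul]; abel] at h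
  obtain ⟨n, hn⟩ := h
  rw [smul_pow] at hn
  refine he.not_isNilpotent ⟨n, ?_⟩
  have := congrArg (((d - c) ^ n)⁻¹ • ·) hn
  simpa [smul_smul, inv_mul_cancel₀ (pow_ne_zero n (sub_ne_zero.2 (Ne.symm hne)))] using this

variable [IsAlgClosed k]

theorem IsPrim.cres_spec (he : IsPrim S e) {x : A} (hx : x ∈ S) (hc : InCorner e x) :
    IsNilpotent (x - cres k e x • e) := by
  have h : ∃ c : k, IsNilpotent (x - c • e) := he.exists_scalar hx hc
  rw [cres, dif_pos h]
  exact h.choose_spec

theorem IsPrim.cres_eq (he : IsPrim S e) {x : A} (hx : x ∈ S) (hc : InCorner e x) {c : k}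
    (h : IsNilpotent (x - c • e)) : cres k e x = c :=
  he.eq_of_isNilpotent_sub hx hc (he.cres_spec hx hc) h

theorem IsPrim.cres_self (he : IsPrim S e) : cres k e e = (1 : k) :=
  he.cres_eq he.mem (inCorner_self he.idem) (by rw [one_smul, sub_self]; exact IsNilpotent.zero)

theorem IsPrim.cres_zero (he : IsPrim S e) : cres k e (0 : A) = (0 : k) :=
  he.cres_eq (zero_mem S) (InCorner.zero e) (by rw [zero_smul, sub_self]; exact IsNilpotent.zero)

theorem IsPrim.cres_eq_zero_iff (he : IsPrim S e) {x : A} (hx : x ∈ S) (hc : InCorner e x) :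
    cres k e x = 0 ↔ IsNilpotent x := by
  constructor
  · intro h
    have := he.cres_spec hx hc
    rwa [h, zero_smul, sub_zero] at this
  · exact fun h => he.cres_eq hx hc (by rwa [zero_smul, sub_zero])

theorem IsPrim.cres_smul (he : IsPrim S e) {x : A} (hx : x ∈ S) (hc : InCorner e x) (a : k) :
    cres k e (a • x) = a * cres k e x := by
  refine he.cres_eq (S.smul_mem hx a) (hc.smul a) ?_
  rw [mul_smul, ← smul_sub]
  exact (he.cres_spec hx hc).smul a

theorem IsPrim.cres_add (he : IsPrim S e) {x y : A} (hx : x ∈ S) (hxc : InCorner e x)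
    (hy : y ∈ S) (hyc : InCorner e y) : cres k e (x + y) = cres k e x + cres k e y := by
  refine he.cres_eq (add_mem hx hy) (hxc.add hyc) ?_
  rw [add_smul, add_sub_add_comm]
  exact he.isNilpotent_add (sub_mem hx (S.smul_mem he.mem _))
    (hxc.sub ((inCorner_self he.idem).smul _)) (sub_mem hy (S.smul_mem he.mem _))
    (hyc.sub ((inCorner_self he.idem).smul _)) (he.cres_spec hx hxc) (he.cres_spec hy hyc)

theorem IsPrim.cres_mul (he : IsPrim S e) {x y : A} (hx : x ∈ S) (hxc : InCorner e x)
    (hy : y ∈ S) (hyc : InCorner e y) : cres k e (x * y) = cres k e x * cres k e y := by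
  set a := cres k e x
  set b := cres k e y
  have hxS : x - a • e ∈ S := sub_mem hx (S.smul_mem he.mem _)
  have hyS : y - b • e ∈ S := sub_mem hy (S.smul_mem he.mem _)
  have hxC : InCorner e (x - a • e) := hxc.sub ((inCorner_self he.idem).smul _)
  have hyC : InCorner e (y - b • e) := hyc.sub ((inCorner_self he.idem).smul _)
  refine he.cres_eq (mul_mem hx hy) (hxc.mul hyc) ?_
  have e1 : x * y - (a * b) • e = (x - a • e) * y + a • (y - b • e) := by
    rw [sub_mul, smul_mul_assoc, hyc.1, smul_sub, smul_smul]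
    abel
  rw [e1]
  exact he.isNilpotent_add (mul_mem hxS hy) (hxC.mul hyc) (S.smul_mem hyS _) (hyC.smul _)
    (he.isNilpotent_mul hxS hxC hy hyc (he.cres_spec hx hxc)).1 ((he.cres_spec hy hyc).smul _)

omit [IsAlgClosed k] in
/-- Induction over orthogonal decompositions into primitive idempotents. -/
theorem idem_induction (S : Subalgebra k A) {P : A → Prop} (h0 : P 0)
    (hadd : ∀ a b : A, a ∈ S → b ∈ S → IsIdempotentElem a → IsIdempotentElem b → a * b = 0 →
      b * a = 0 → P a → P b → P (a + b))
    (hprim : ∀ a : A, IsPrim S a → P a) {a : A} (ha : a ∈ S) (hai : IsIdempotentElem a) :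
    P a := by
  suffices key : ∀ d : ℕ, ∀ a : A, a ∈ S → IsIdempotentElem a →
      Module.finrank k (LinearMap.range (LinearMap.mulLeft k a)) ≤ d → P a from
    key _ a ha hai le_rfl
  intro d
  induction d with
  | zero =>
    intro a _ _ hd
    have hbot := Submodule.finrank_eq_zero.1 (Nat.le_zero.1 hd)
    have h1 : a ∈ LinearMap.range (LinearMap.mulLeft k a) := ⟨1, by simp⟩
    rw [hbot, Submodule.mem_bot] at h1
    rw [h1]; exact h0
  | succ d ih =>
    intro a haS hai hd
    by_cases h0' : a = 0
    · rw [h0']; exact h0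
    by_cases hp : IsPrim S a
    · exact hprim a hp
    obtain ⟨f, hfS, hfi, hfc, hf0, hfa⟩ : ∃ f ∈ S, IsIdempotentElem f ∧ InCorner a f ∧
        f ≠ 0 ∧ f ≠ a := by
      by_contra hno
      refine hp ⟨haS, hai, h0', fun f hfS hfi hfc => ?_⟩
      by_contra h
      exact hno ⟨f, hfS, hfi, hfc, fun e => h (Or.inl e), fun e => h (Or.inr e)⟩
    have hgi : IsIdempotentElem (a - f) := by
      show (a - f) * (a - f) = a - f
      rw [sub_mul, mul_sub, mul_sub, hai.eq, hfc.1, hfc.2, hfi.eq, sub_self, sub_zero]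
    have hfg : f * (a - f) = 0 := by rw [mul_sub, hfc.2, hfi.eq, sub_self]
    have hgf : (a - f) * f = 0 := by rw [sub_mul, hfc.1, hfi.eq, sub_self]
    have hlt : ∀ g g' : A, g + g' = a → g' ≠ 0 → IsIdempotentElem g → IsIdempotentElem g' →
        g * g' = 0 → g' * g = 0 →
        Module.finrank k (LinearMap.range (LinearMap.mulLeft k g)) ≤ d := by
      intro g g' hgg' hg'0 hg hg' h1 h2
      have hag : a * g = g := by rw [← hgg', add_mul, hg.eq, h2, add_zero]
      have hag' : a * g' = g' := by rw [← hgg', add_mul, h1, hg'.eq, zero_add]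
      have hle : LinearMap.range (LinearMap.mulLeft k g) <
          LinearMap.range (LinearMap.mulLeft k a) := by
        refine lt_of_le_of_ne ?_ fun heq => hg'0 ?_
        · rintro _ ⟨z, rfl⟩
          exact ⟨g * z, by simp [← mul_assoc, hag]⟩
        · have h3 : g' ∈ LinearMap.range (LinearMap.mulLeft k g) := by
            rw [heq]; exact ⟨g', hag'⟩
          obtain ⟨z, hz⟩ := h3
          have hz' : g * z = g' := hz
          calc g' = g * z := hz'.symm
            _ = g * (g * z) := by rw [← mul_assoc, hg.eq]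
            _ = 0 := by rw [hz', h1]
      have := Submodule.finrank_lt_finrank_of_lt hle
      omega
    have := hadd f (a - f) hfS (sub_mem haS hfS) hfi hgi hfg hgf
      (ih f hfS hfi (hlt f (a - f) (add_sub_cancel f a) (sub_ne_zero.2 (Ne.symm hfa)) hfi hgi hfg hgf))
      (ih (a - f) (sub_mem haS hfS) hgi
        (hlt (a - f) f (sub_add_cancel a f) hf0 hgi hfi hgf hfg))
    rwa [add_sub_cancel] at this

end Cfsg.Lib.Block
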