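import Cfsg.Agent.Lib.Block.AbelianExtension

/-!
# Stable blocks under `p`-power extensions with abelian defect groups
-/

set_option autoImplicit false
set_option linter.unusedSectionVars false
set_option maxHeartbeats 800000

namespace Cfsg.Lib.Block

open Cfsg
open scoped ComplexConjugate

universe u

variable {p : ℕ} [hp : Fact p.Prime] {M : Ideal AlgInt} {G : Type u} [Group G] [Fintype G]
  {N : Subgroup G} [hN : N.Normal]

/-- Elements of order prime to `p` lie in a normal subgroup of `p`-power index. -/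
theorem mem_of_pPower_index (hidx : ∃ k : ℕ, N.index = p ^ k) {g : G} (hg : ¬ p ∣ orderOf g) :
    g ∈ N := by
  obtain ⟨k, hk⟩ := hidx
  rw [← QuotientGroup.eq_one_iff, ← orderOf_eq_one_iff]
  have h1 : orderOf (g : G ⧸ N) ∣ p ^ k := hk ▸ orderOf_dvd_natCard _
  have h2 : orderOf (g : G ⧸ N) ∣ orderOf g := orderOf_map_dvd (QuotientGroup.mk' N) g
  exact Nat.eq_one_of_dvd_coprimes
    (Nat.Coprime.pow_left k ((Fact.out : p.Prime).coprime_iff_not_dvd.2 hg)) h1 h2

variable [Fintype N] {b : Set (IrrCharacter N)}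

include hp in
/-- The characters restrict irreducibly to `N`. -/
theorem isIrrCharacter_restrict_of_abelian (hM : IsPModular p M) {B : Set (IrrCharacter G)}
    (hB : IsPBlock M B) {P : Subgroup G} (hD : IsDefectGroup p M B P)
    (hab : ∀ x ∈ P, ∀ y ∈ P, x * y = y * x) (hNP : N ⊔ P = ⊤)
    (hreg : ∀ g : G, ¬ p ∣ orderOf g → g ∈ N) {χ : IrrCharacter G} (hχ : χ ∈ B) :
    IsIrrCharacter N fun n : N => (χ : G → ℂ) n := by
  classical
  obtain ⟨n₀, ρ, hirr, hρ⟩ := χ.2
  haveI := hirr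
  refine ⟨n₀, ρ.comp N.subtype, ?_, funext fun n => congrFun hρ (n : G)⟩
  obtain ⟨hnt, hsub⟩ := (Char.isIrreducible_iff_submodule ρ).1 hirr
  refine (Char.isIrreducible_iff_submodule _).2 ⟨hnt, fun U hU => hsub U ?_⟩
  have hN' : ∀ n ∈ N, ∀ v ∈ U, ρ n v ∈ U := fun n hn v hv => hU ⟨n, hn⟩ v hv
  have hP' : ∀ x ∈ P, ∀ v ∈ U, ρ x v ∈ U := by
    intro x hx
    obtain ⟨W, hWc, hWs, hW⟩ := exists_coset_unit hM hB hD hab hNP hreg hx
    set ω := vec W χ with hω
    have hω0 : ω ≠ 0 := hW χ hχ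
    have hop : Char.averageOp ρ W = ω • (1 : Module.End ℂ (Fin n₀ → ℂ)) := by
      rw [Char.averageOp_irreducible ρ hWc]
      congr 1
      have hd : ((Module.finrank ℂ (Fin n₀ → ℂ) : ℕ) : ℂ) = (χ : G → ℂ) 1 := by
        rw [← congrFun hρ 1, Representation.char_one]
      rw [hω, vec, hd, hρ]
    set W' : G → ℂ := fun g => W (x * g) with hW'
    set A : Module.End ℂ (Fin n₀ → ℂ) := Char.averageOp ρ W' with hA
    have hWA : (ρ x : Module.End ℂ (Fin n₀ → ℂ)) * A = ω • 1 := by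
      rw [← hop, hA]
      refine LinearMap.ext fun v => ?_
      rw [Module.End.mul_apply, Char.averageOp_apply, Char.averageOp_apply, map_sum]
      refine Fintype.sum_equiv (Equiv.mulLeft x) _ _ fun g => ?_
      simp [hW', map_smul, map_mul]
    have hAU : ∀ v ∈ U, A v ∈ U := fun v hv => by
      rw [hA, Char.averageOp_apply]
      refine Submodule.sum_mem _ fun g _ => ?_
      by_cases h : W (x * g) = 0
      · simp [hW', h]
      · exact U.smul_mem _ (hN' g (by simpa using hWs _ h) v hv)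
    have hinj : Function.Injective A := by
      intro v w h
      have h2 := congrArg (fun L => ρ x L) h
      simp only [← Module.End.mul_apply, hWA] at h2
      simpa [hω0] using h2
    have hmap : U.map A = U := by
      refine Submodule.eq_of_le_of_finrank_le (Submodule.map_le_iff_le_comap.2 hAU) ?_
      rw [← LinearEquiv.finrank_eq (Submodule.equivMapOfInjective A hinj U)]
    intro v hv
    obtain ⟨u, hu, rfl⟩ := (hmap.symm ▸ hv : v ∈ U.map A)
    rw [← Module.End.mul_apply, hWA]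
    exact U.smul_mem ω hu
  intro g v hv
  obtain ⟨n, hn, x, hx, rfl⟩ := Subgroup.mem_sup_of_normal_left.1
    (hNP ▸ Subgroup.mem_top g : g ∈ N ⊔ P)
  rw [map_mul, Module.End.mul_apply]
  exact hN' n hn _ (hP' x hx v hv)

include hp in
/-- All the invariants of a stable block with abelian defect group under a `p`-power extension. -/
theorem abelian_stable_extension (hM : IsPModular p M) (hidx : ∃ k : ℕ, N.index = p ^ k)
    (hb : IsPBlock M b) (hst : IsStable b) {B : Set (IrrCharacter G)} (hB : IsPBlock M B)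
    (hcov : ∃ χ ∈ B, ∃ θ ∈ b, classInner (fun n : N => (χ : G → ℂ) n) (θ : N → ℂ) ≠ 0)
    {P : Subgroup G} (hPD : IsDefectGroup p M B P) (hab : ∀ x ∈ P, ∀ y ∈ P, x * y = y * x) :
    N ⊔ P = ⊤ ∧ IsDefectGroup p M b ((P ⊓ N).subgroupOf N) ∧
      (∀ χ ∈ B, ∃ θ ∈ b, ∀ n : N, (χ : G → ℂ) n = (θ : N → ℂ) n) ∧
      (∀ θ ∈ b, Nat.card {χ : IrrCharacter G //
        χ ∈ B ∧ ∀ n : N, (χ : G → ℂ) n = (θ : N → ℂ) n} = N.index) ∧
      Nat.card B = N.index * Nat.card b ∧ blockRank p B = blockRank p b := by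
  classical
  obtain ⟨B₀, hB₀, -, hmem, hPP⟩ := hst.pPower_index hM hb hidx
  have heq : B = B₀ := by
    obtain ⟨χ, hχ, θ, hθ, hc⟩ := hcov
    exact isPBlock_eq_of_mem hM hB hB₀ hχ
      ((hmem χ).2 (hst.overBlock hM hb hB ⟨χ, hχ, θ, hθ, hc⟩ hχ))
  subst heq
  obtain ⟨hNP, hS⟩ := hPP P hPD
  have hreg : ∀ g : G, ¬ p ∣ orderOf g → g ∈ N := fun g hg => mem_of_pPower_index hidx hg
  have hirr : ∀ χ ∈ B, IsIrrCharacter N fun n : N => (χ : G → ℂ) n := fun χ hχ =>
    isIrrCharacter_restrict_of_abelian hM hB hPD hab hNP hreg hχ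
  have hres : ∀ χ : IrrCharacter G, χ ∈ B → ∀ θ : IrrCharacter N,
      classInner (fun n : N => (χ : G → ℂ) n) (θ : N → ℂ) ≠ 0 →
        (fun n : N => (χ : G → ℂ) n) = (θ : N → ℂ) := fun χ hχ θ hc => by
    by_contra hne
    exact hc (Char.classInner_irr_ne (hirr χ hχ) θ.2 hne)
  have h3 : ∀ χ ∈ B, ∃ θ ∈ b, ∀ n : N, (χ : G → ℂ) n = (θ : N → ℂ) n := fun χ hχ =>
    ⟨⟨_, hirr χ hχ⟩, (hmem χ).1 hχ ⟨_, hirr χ hχ⟩ (by
      show classInner (fun n : N => (χ : G → ℂ) n) (fun n : N => (χ : G → ℂ) n) ≠ 0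
      rw [Char.classInner_irr_self (hirr χ hχ)]; exact one_ne_zero), fun n => rfl⟩
  have hover : ∀ θ ∈ b, ∀ χ : IrrCharacter G,
      classInner (fun n : N => (χ : G → ℂ) n) (θ : N → ℂ) ≠ 0 → χ ∈ B := fun θ hθ χ hc =>
    (hmem χ).2 (hst.overBlock hM hb (isPBlock_blockOf χ)
      ⟨χ, self_mem_blockOf hM χ, θ, hθ, hc⟩ (self_mem_blockOf hM χ))
  have h4 : ∀ θ ∈ b, Nat.card {χ : IrrCharacter G //
      χ ∈ B ∧ ∀ n : N, (χ : G → ℂ) n = (θ : N → ℂ) n} = N.index := by
    intro θ hθ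
    have hclass : ∀ χ : IrrCharacter G,
        classInner (indFun N (θ : N → ℂ)) (χ : G → ℂ) * (χ : G → ℂ) 1 =
          if χ ∈ B ∧ ∀ n : N, (χ : G → ℂ) n = (θ : N → ℂ) n then (θ : N → ℂ) 1 else 0 := by
      intro χ
      rw [← Char.classInner_conj_symm, Char.classInner_indFun_right N _ χ.2.isClassFunction]
      by_cases h : χ ∈ B ∧ ∀ n : N, (χ : G → ℂ) n = (θ : N → ℂ) n
      · rw [if_pos h, show (fun n : N => (χ : G → ℂ) n) = (θ : N → ℂ) from funext h.2,
          Char.classInner_irr_self θ.2, map_one, one_mul]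
        exact h.2 1
      · rw [if_neg h]
        by_cases hc : classInner (fun n : N => (χ : G → ℂ) n) (θ : N → ℂ) = 0
        · rw [hc, map_zero, zero_mul]
        · exact absurd ⟨hover θ hθ χ hc, fun n => congrFun (hres χ (hover θ hθ χ hc) θ hc) n⟩ h
    have h1 := congrFun
      (Char.eq_sum_classInner (Char.isClassFunction_indFun N (θ : N → ℂ))) 1
    simp only [Finset.sum_apply, Pi.smul_apply, smul_eq_mul, hclass] at h1
    rw [Char.indFun_apply_one, ← Finset.sum_filter, Finset.sum_const, nsmul_eq_mul] at h1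
    have h2 := mul_right_cancel₀ θ.2.apply_one_ne_zero h1
    rw [Nat.card_eq_fintype_card, Fintype.card_subtype]
    exact_mod_cast h2.symm
  refine ⟨hNP, hS, h3, h4, ?_, ?_⟩
  · let F : B → b := fun χ => ⟨⟨_, hirr χ.1 χ.2⟩, (hmem χ.1).1 χ.2 ⟨_, hirr χ.1 χ.2⟩ (by
      show classInner (fun n : N => (χ.1 : G → ℂ) n) (fun n : N => (χ.1 : G → ℂ) n) ≠ 0
      rw [Char.classInner_irr_self (hirr χ.1 χ.2)]; exact one_ne_zero)⟩
    haveI := Fintype.ofFinite b
    haveI := Fintype.ofFinite B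
    rw [← Nat.card_congr (Equiv.sigmaFiberEquiv F), Nat.card_sigma,
      Finset.sum_congr rfl (g := fun _ => N.index) fun θ _ => ?_, Finset.sum_const, Finset.card_univ,
      ← Nat.card_eq_fintype_card, smul_eq_mul, mul_comm]
    rw [← h4 θ.1 θ.2]
    refine Nat.card_congr
      { toFun := fun χ => ⟨χ.1.1, χ.1.2, fun n => congrFun (congrArg Subtype.val
          (congrArg Subtype.val χ.2)) n⟩
        invFun := fun χ => ⟨⟨χ.1, χ.2.1⟩, Subtype.ext (Subtype.ext (funext fun n => χ.2.2 n))⟩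
        left_inv := fun χ => rfl
        right_inv := fun χ => rfl }
  · let L : (N → ℂ) →ₗ[ℂ] (G → ℂ) :=
      { toFun := fun f g => if h : g ∈ N then f ⟨g, h⟩ else 0
        map_add' := fun f f' => by funext g; by_cases h : g ∈ N <;> simp [h]
        map_smul' := fun c f => by funext g; by_cases h : g ∈ N <;> simp [h] }
    have hLinj : Function.Injective L := fun f f' h => funext fun n => by
      simpa [L] using congrFun h n
    have hLval : ∀ (χ : IrrCharacter G) (θ : IrrCharacter N),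
        (∀ n : N, (χ : G → ℂ) n = (θ : N → ℂ) n) →
          pRegularPart p (χ : G → ℂ) = L (pRegularPart p (θ : N → ℂ)) := by
      intro χ θ h
      funext g
      by_cases hg : g ∈ N
      · have hiff : IsPRegular p (⟨g, hg⟩ : N) ↔ IsPRegular p g := by
          simp only [IsPRegular, Subgroup.orderOf_mk]
        simp only [pRegularPart, L, LinearMap.coe_mk, AddHom.coe_mk, dif_pos hg, hiff]
        split_ifs
        · exact h ⟨g, hg⟩
        · rfl
      · have hns : ¬ IsPRegular p g := fun h' => hg (hreg g h')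
        simp [pRegularPart, L, hg, hns]
    simp only [blockRank]
    rw [show (fun χ : IrrCharacter G => pRegularPart p (χ : G → ℂ)) '' B =
        L '' ((fun θ : IrrCharacter N => pRegularPart p (θ : N → ℂ)) '' b) by
      ext f
      simp only [Set.mem_image, exists_exists_and_eq_and]
      constructor
      · rintro ⟨χ, hχ, rfl⟩
        obtain ⟨θ, hθ, h⟩ := h3 χ hχ
        exact ⟨θ, hθ, (hLval χ θ h).symm⟩
      · rintro ⟨θ, hθ, rfl⟩
        obtain ⟨⟨χ, hχ, h⟩⟩ := (Nat.card_pos_iff.1 (by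
          rw [h4 θ hθ]; exact Nat.pos_of_ne_zero Subgroup.index_ne_zero_of_finite)).1
        exact ⟨χ, hχ, hLval χ θ h⟩, Submodule.span_image]
    exact (LinearEquiv.finrank_eq (Submodule.equivMapOfInjective L hLinj _)).symm

end Cfsg.Lib.Block
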