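import Cfsg.Agent.Lib.Block.CoverKnorr

/-!
# Consequences for covering blocks
-/

set_option autoImplicit false
set_option linter.unusedSectionVars false
set_option maxHeartbeats 800000

namespace Cfsg.Lib.Block

open Cfsg
open scoped ComplexConjugate

universe u

variable {p : ℕ} [hp : Fact p.Prime] {M : Ideal AlgInt} {G : Type u} [Group G] [Fintype G]
  {N : Subgroup G} [hN : N.Normal] [Fintype N] {b : Set (IrrCharacter N)}

theorem map_conj_inf_normal (D : Subgroup G) (x : G) :
    D.map (MulAut.conj x).toMonoidHom ⊓ N = (D ⊓ N).map (MulAut.conj x).toMonoidHom := by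
  ext g
  constructor
  · rintro ⟨⟨d, hd, rfl⟩, hg⟩
    refine ⟨d, ⟨hd, ?_⟩, rfl⟩
    simpa [mul_assoc] using hN.conj_mem _ hg x⁻¹
  · rintro ⟨d, ⟨hd, hdN⟩, rfl⟩
    exact ⟨⟨d, hd, rfl⟩, hN.conj_mem d hdN x⟩

theorem twistIrr_mul (x y : G) (θ : IrrCharacter N) :
    twistIrr N (x * y) θ = twistIrr N y (twistIrr N x θ) :=
  Subtype.ext (by rw [coe_twistIrr, coe_twistIrr, coe_twistIrr, Char.conjTwist_conjTwist])

include hp in
/-- The defect group can be chosen above a given defect group of `b`. -/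
theorem exists_defectGroup_above (hM : IsPModular p M) (hb : IsPBlock M b) {Q : Subgroup G}
    (hQN : Q ≤ N) (hQ : IsDefectGroup p M b (Q.subgroupOf N))
    {B : Set (IrrCharacter G)} (hB : IsPBlock M B)
    (hcov : ∃ χ ∈ B, ∃ θ ∈ b, classInner (fun n : N => (χ : G → ℂ) n) (θ : N → ℂ) ≠ 0) :
    ∃ P : Subgroup G, IsDefectGroup p M B P ∧ P ⊓ N = Q := by
  obtain ⟨D, hD, hS, -⟩ := exists_defectGroup_meet hM hb hB hcov
  obtain ⟨n, hn⟩ := exists_conj_defectGroup hM hb hS hQ
  refine ⟨D.map (MulAut.conj (n : G)).toMonoidHom, isDefectGroup_conj hM hB hD _, ?_⟩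
  rw [map_conj_inf_normal, ← Subgroup.map_subgroupOf_eq_of_le (inf_le_right : D ⊓ N ≤ N),
    ← conjNormal_map_subtype, hn, Subgroup.map_subgroupOf_eq_of_le hQN]

include hp in
/-- Every block covers a block stable under its defect group. -/
theorem exists_covered_stable (hM : IsPModular p M) {B : Set (IrrCharacter G)} (hB : IsPBlock M B)
    {P : Subgroup G} (hP : IsDefectGroup p M B P) :
    ∃ c : Set (IrrCharacter N), IsPBlock M c ∧ (∀ x ∈ P, StabilizesBlock N c x) ∧
      (∃ χ ∈ B, ∃ θ ∈ c, classInner (fun n : N => (χ : G → ℂ) n) (θ : N → ℂ) ≠ 0) ∧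
      IsDefectGroup p M c ((P ⊓ N).subgroupOf N) := by
  obtain ⟨χ, hχ⟩ := nonempty_of_isPBlock hM hB
  obtain ⟨θ, hθ⟩ := Char.exists_irr_constituent_res N χ.2
  obtain ⟨D, hD, hS, hst⟩ := exists_defectGroup_meet hM (isPBlock_blockOf θ) hB
    ⟨χ, hχ, θ, self_mem_blockOf hM θ, hθ⟩
  obtain ⟨x, rfl⟩ := exists_conj_defectGroup hM hB hD hP
  set e : N ≃* N := MulAut.conjNormal x⁻¹ with he
  refine ⟨pullSet e (blockOf M (θ : N → ℂ)), isPBlock_pullSet e (isPBlock_blockOf θ), ?_, ?_, ?_⟩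
  · rintro _ ⟨d, hd, rfl⟩
    refine ⟨by rw [Subgroup.normalizer_eq_top]; trivial, fun η hη => ?_⟩
    obtain ⟨η₀, rfl⟩ : ∃ η₀, compIrr e η₀ = η := ⟨compIrr e.symm η, compIrr_compIrr_symm e η⟩
    have hη₀ := mem_pullSet.1 hη
    refine ⟨compIrr e (twistIrr N d⁻¹ η₀), mem_pullSet.2 (hst _ (D.inv_mem hd) η₀ hη₀),
      fun k k' hk => ?_⟩
    simp only [compIrr_apply, twistIrr_apply]
    refine congrArg _ (Subtype.ext ?_)
    simp only [he, MulAut.conjNormal_apply, hk, MulEquiv.coe_toMonoidHom, MulAut.conj_apply]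
    group
  · exact ⟨χ, hχ, twistIrr N x⁻¹ θ, mem_pullSet.2 (self_mem_blockOf hM θ),
      by rwa [classInner_twistIrr]⟩
  · have h := isDefectGroup_pullSet e hS
    convert h using 1
    ext n
    simp only [Subgroup.mem_subgroupOf, Subgroup.mem_inf, Subgroup.mem_map]
    constructor
    · rintro ⟨⟨d, hd, hdn⟩, hn⟩
      have hdN : d ∈ N := by
        have h2 : (MulAut.conj x).toMonoidHom d ∈ N := hdn ▸ hn
        simpa [mul_assoc] using hN.conj_mem _ h2 x⁻¹
      refine ⟨⟨d, hdN⟩, ⟨hd, hdN⟩, Subtype.ext ?_⟩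
      rw [← hdn]
      simp [he, MulEquiv.symm_apply_eq, mul_assoc]
    · rintro ⟨m, ⟨hm, -⟩, rfl⟩
      refine ⟨⟨(m : G), hm, ?_⟩, SetLike.coe_mem _⟩
      simp [he, mul_assoc]

include hp in
/-- A covering block of largest defect. -/
theorem IsStable.max_cover (hst : IsStable b) (hM : IsPModular p M) (hb : IsPBlock M b)
    {B : Set (IrrCharacter G)} (hB : IsPBlock M B)
    (hcov : ∃ χ ∈ B, ∃ θ ∈ b, classInner (fun n : N => (χ : G → ℂ) n) (θ : N → ℂ) ≠ 0)
    (hge : blockDefect p b + N.index.factorization p ≤ blockDefect p B) {P : Subgroup G}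
    (hP : IsDefectGroup p M B P) :
    ¬ p ∣ (P ⊔ N).index ∧ IsDefectGroup p M b ((P ⊓ N).subgroupOf N) ∧
      blockDefect p B = blockDefect p b + N.index.factorization p := by
  have hS := hst.defectGroup_inf hM hb hB hcov hP
  have hcS := card_defectGroup hM hb hS
  rw [Nat.card_congr (Subgroup.subgroupOfEquivOfLe (inf_le_right : P ⊓ N ≤ N)).toEquiv] at hcS
  have hcP := card_defectGroup hM hB hP
  have h1 : N.relIndex P * Nat.card (P ⊓ N : Subgroup G) = Nat.card P := by
    rw [← Subgroup.inf_relIndex_left, ← Nat.card_congr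
      (Subgroup.subgroupOfEquivOfLe (inf_le_left : P ⊓ N ≤ P)).toEquiv, Subgroup.relIndex,
      Subgroup.index_mul_card]
  have h2 : N.relIndex (P ⊔ N) * (P ⊔ N).index = N.index :=
    Subgroup.relIndex_mul_index le_sup_right
  rw [Subgroup.relIndex_sup_right] at h2
  have hr0 : N.relIndex P ≠ 0 := Subgroup.index_ne_zero_of_finite
  have hi0 : (P ⊔ N).index ≠ 0 := Subgroup.index_ne_zero_of_finite
  have e1 := congrArg (fun n => n.factorization p) h1
  simp only [hcS, hcP, Nat.factorization_mul hr0 (pow_ne_zero _ hp.out.ne_zero), Finsupp.add_apply,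
    Nat.factorization_pow, Finsupp.smul_apply, hp.out.factorization_self, smul_eq_mul, mul_one] at e1
  have e2 := congrArg (fun n => n.factorization p) h2
  simp only [Nat.factorization_mul hr0 hi0, Finsupp.add_apply] at e2
  refine ⟨fun hdvd => ?_, hS, by omega⟩
  have := hp.out.factorization_pos_of_dvd hi0 hdvd
  omega

theorem isStable_of_stabilizes (h : ∀ g : G, StabilizesBlock N b g) : IsStable b := by
  intro g θ hθ
  obtain ⟨θ', hθ', hc⟩ := (h g⁻¹).2 θ hθ
  convert hθ' using 1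
  refine Subtype.ext (funext fun n => ?_)
  rw [twistIrr_apply]
  exact (hc ⟨g * n * g⁻¹, hN.conj_mem n n.2 g⟩ n (by simp [mul_assoc])).symm

include hp in
/-- A stable block of a normal subgroup of `p`-power index. -/
theorem IsStable.pPower_index (hst : IsStable b) (hM : IsPModular p M) (hb : IsPBlock M b)
    (hidx : ∃ k : ℕ, N.index = p ^ k) :
    ∃ B : Set (IrrCharacter G), IsPBlock M B ∧
      (∀ g : G, blockCoeff B g = subgroupBlockCoeff N b g) ∧
      (∀ χ : IrrCharacter G, χ ∈ B ↔ OverBlock b χ) ∧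
      ∀ P : Subgroup G, IsDefectGroup p M B P →
        N ⊔ P = ⊤ ∧ IsDefectGroup p M b ((P ⊓ N).subgroupOf N) := by
  classical
  obtain ⟨B, hB, hcov, hd⟩ := hst.exists_weaklyRegular hM hb
  have hmem : ∀ χ : IrrCharacter G, χ ∈ B ↔ OverBlock b χ := by
    refine fun χ => ⟨fun h => hst.overBlock hM hb hB hcov h, fun h => ?_⟩
    obtain ⟨η, hη⟩ := Char.exists_irr_constituent_res N χ.2
    rw [(existsUnique_over N hM hidx hb).unique ⟨hB, hcov⟩
      ⟨isPBlock_blockOf χ, χ, self_mem_blockOf hM χ, η, h η hη, hη⟩]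
    exact self_mem_blockOf hM χ
  refine ⟨B, hB, fun g => ?_, hmem, fun P hP => ?_⟩
  · have hv : vec (upCoeff b) = indVec B := by
      funext χ
      obtain ⟨n, ρ, -, hρ⟩ := χ.2
      have hρ' : ∀ g, ρ.character g = (χ : G → ℂ) g := fun g => congrFun hρ g
      have h := trace_averageOp ρ (upCoeff b) 1
      rw [map_one, one_mul] at h
      have hv : vec (upCoeff b) χ = LinearMap.trace ℂ _ (Char.averageOp ρ (upCoeff b)) /
          (χ : G → ℂ) 1 := by
        rw [h, vec]; simp [hρ']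
      rw [hv, indVec]
      by_cases hχ : χ ∈ B
      · rw [if_pos hχ, averageOp_upCoeff ((hmem χ).1 hχ) ρ hρ', ← map_one ρ,
          show LinearMap.trace ℂ _ (ρ 1) = (χ : G → ℂ) 1 from hρ' 1,
          div_self χ.2.apply_one_ne_zero]
      · rw [if_neg hχ, averageOp_restrict ρ (H := N) fun g hg => upCoeff_of_notMem hg,
          show (fun m : N => upCoeff b m) = zc (indVec b) from funext fun m => upCoeff_coe m,
          averageOp_zc_congr (ρ.comp N.subtype) (w := 0) fun η hη => ?_,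
          show zc (0 : IrrCharacter N → ℂ) = 0 from funext fun m => zc_zero m]
        · simp [Char.averageOp]
        · rw [show Representation.character (ρ.comp N.subtype) = fun m : N => (χ : G → ℂ) m from
            funext fun m => hρ' m] at hη
          simp only [indVec, Pi.zero_apply, ite_eq_right_iff, one_ne_zero, imp_false]
          intro hηb
          refine hχ ((hmem χ).2 (hst.overBlock hM hb (isPBlock_blockOf χ)
            ⟨χ, self_mem_blockOf hM χ, η, hηb, hη⟩ (self_mem_blockOf hM χ)))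
    rw [← zc_indVec, ← hv, zc_vec hst.isClassFunction_upCoeff]
    by_cases hg : g ∈ N
    · rw [show g = ((⟨g, hg⟩ : N) : G) from rfl, upCoeff_coe, zc_indVec, subgroupBlockCoeff,
        dif_pos hg]
    · rw [upCoeff_of_notMem hg, subgroupBlockCoeff, dif_neg hg]
  · obtain ⟨h1, h2, -⟩ := hst.max_cover hM hb hB hcov hd.ge hP
    refine ⟨?_, h2⟩
    rw [sup_comm, ← Subgroup.index_eq_one]
    obtain ⟨k, hk⟩ := hidx
    have h3 : (P ⊔ N).index ∣ p ^ k := hk ▸ Subgroup.index_dvd_of_le le_sup_right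
    obtain ⟨i, -, hi⟩ := (Nat.dvd_prime_pow hp.out).1 h3
    rcases Nat.eq_zero_or_pos i with h0 | h0
    · rw [hi, h0, pow_zero]
    · exact absurd (hi ▸ dvd_pow_self p h0.ne') h1

end Cfsg.Lib.Block
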