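import Cfsg.Agent.Lib.Block.Subsection
import Cfsg.Agent.Lib.Block.BrauerHom
import Cfsg.Agent.Lib.Block.Defect
import Cfsg.Agent.Lib.Char.Galois

/-!
# Blocks do not depend on the maximal ideal

The idempotent of a block is supported on regular elements and vanishes against singular
`p`-elements, hence is integral at every prime above `p`.
-/

set_option autoImplicit false
set_option linter.unusedSectionVars false
set_option maxHeartbeats 800000

namespace Cfsg.Lib.Block

open Cfsg
open scoped ComplexConjugate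

universe u

variable {p : ℕ} {M M' : Ideal AlgInt} {G : Type u} [Group G] [Fintype G] [Fact p.Prime]

/-- Column sums over a block, divided by the order of a Sylow subgroup, are integral. -/
theorem isIntegral_degSum_div (hM : IsPModular p M) {B : Set (IrrCharacter G)}
    (hB : VInt hM (indVec B)) (P : Sylow p G) {y : G} (hy : ¬ p ∣ orderOf y) :
    IsIntegral ℤ ((Nat.card P : ℂ)⁻¹ *
      ∑ᶠ χ ∈ B, (χ : G → ℂ) 1 * conj ((χ : G → ℂ) y)) := by
  classical
  haveI := Fintype.ofFinite (P : Subgroup G)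
  have hz : ∀ t : (P : Subgroup G), t ≠ 1 →
      ∑ᶠ χ ∈ B, (χ : G → ℂ) (t : G) * conj ((χ : G → ℂ) y) = 0 := fun t ht => by
    refine sum_block_mul_conj_eq_zero hM hB fun h => not_isConj_pPt_of_dvd hy ?_ h.symm
    obtain ⟨k, hk⟩ := IsPGroup.iff_orderOf.1 P.isPGroup' t
    rw [← Subgroup.orderOf_coe] at hk
    rw [hk]
    refine dvd_pow_self p fun h0 => ht ?_
    rw [h0, pow_zero, orderOf_eq_one_iff] at hk
    exact Subtype.ext hk
  have e : ∑ᶠ χ ∈ B, (χ : G → ℂ) 1 * conj ((χ : G → ℂ) y) =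
      ∑ t : (P : Subgroup G), ∑ᶠ χ ∈ B, (χ : G → ℂ) (t : G) * conj ((χ : G → ℂ) y) := by
    rw [Finset.sum_eq_single (1 : (P : Subgroup G))]
    · rfl
    · exact fun t _ ht => hz t ht
    · simp
  rw [e]
  simp only [finsum_mem_eq_finite_toFinset_sum _ (Set.toFinite B)]
  rw [Finset.sum_comm, Finset.mul_sum]
  refine IsIntegral.sum _ fun χ _ => ?_
  rw [← Finset.sum_mul, ← mul_assoc, ← χ.2.isCharacter.apply_inv]
  refine IsIntegral.mul ?_ (χ.2.isCharacter.isIntegral y⁻¹)
  obtain ⟨n, hn⟩ := (χ.2.isCharacter.comp (P : Subgroup G).subtype).exists_nat_classInner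
    (Char.isCharacter_one (G := (P : Subgroup G)))
  rw [show (Nat.card P : ℂ)⁻¹ * ∑ t : (P : Subgroup G), (χ : G → ℂ) (t : G) = (n : ℂ) by
    rw [← hn, classInner]
    simp]
  simpa using (isIntegral_algebraMap (R := ℤ) (A := ℂ) (x := (n : ℤ)))

/-- The idempotent of a block relative to one prime above `p` is integral at all of them. -/
theorem vInt_indVec_other (hM : IsPModular p M) (hM' : IsPModular p M')
    {B : Set (IrrCharacter G)} (hB : IsPBlock M B) : VInt hM' (indVec B) := by
  classical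
  intro g
  rw [zc_indVec]
  have hI := vInt_indVec hM hB
  by_cases hg : p ∣ orderOf g
  · rw [blockCoeff_eq_zero_of_dvd hM hI hg]
    exact zero_mem _
  obtain ⟨P⟩ : Nonempty (Sylow p G) := inferInstance
  have h := isIntegral_degSum_div hM hI P hg
  have hG : (Nat.card G : ℂ) = (Nat.card P : ℂ) * ((ordCompl[p] (Nat.card G) : ℕ) : ℂ) := by
    rw [P.card_eq_multiplicity, ← Nat.cast_mul, Nat.ordProj_mul_ordCompl_eq_self]
  rw [blockCoeff, hG, mul_inv, mul_comm (Nat.card P : ℂ)⁻¹, mul_assoc]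
  exact mul_mem (inv_natCast_mem_locRing hM'
    (Nat.not_dvd_ordCompl (Fact.out : p.Prime) Nat.card_pos.ne'))
    (isIntegral_mem_locRing hM' h)

/-- Same block relative to one prime above `p`, same block relative to every other. -/
theorem sameBlock_other (hM : IsPModular p M) (hM' : IsPModular p M') {χ ψ : IrrCharacter G}
    (h : SameBlock M (χ : G → ℂ) (ψ : G → ℂ)) : SameBlock M' (χ : G → ℂ) (ψ : G → ℂ) := by
  -- the block of `χ` relative to `M'` is idempotent relative to `M`
  exact (blockOf_subset_of_vInt hM (vInt_indVec_other hM' hM (isPBlock_blockOf (M := M') χ))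
    (self_mem_blockOf hM' χ)) h

theorem exists_mem_centralChar_sub (hM : IsPModular p M) (hM' : IsPModular p M')
    {χ ψ : IrrCharacter G} (h : SameBlock M (χ : G → ℂ) (ψ : G → ℂ)) (g : G) :
    ∃ r : AlgInt, r ∈ M' ∧ (r : ℂ) = centralChar (χ : G → ℂ) g - centralChar (ψ : G → ℂ) g := by
  let r : AlgInt := ⟨centralChar (χ : G → ℂ) g - centralChar (ψ : G → ℂ) g,
    (isIntegral_centralChar_irr χ g).sub (isIntegral_centralChar_irr ψ g)⟩
  exact ⟨r, (memLocalIdeal_algInt_iff hM' r).1 (sameBlock_other hM hM' h g), rfl⟩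

/-- Block idempotent coefficients lie in the field of the `p'`-part of the group order. -/
theorem blockCoeff_mem_cycField (hM : IsPModular p M) {B : Set (IrrCharacter G)}
    (hB : IsPBlock M B) (g : G) :
    blockCoeff B g ∈ Char.cycField (Nat.card G / p ^ (Nat.card G).factorization p) := by
  classical
  set m := Nat.card G / p ^ (Nat.card G).factorization p with hm
  haveI : NeZero m := ⟨(Nat.ordCompl_pos p Nat.card_pos.ne').ne'⟩
  by_cases hg : p ∣ orderOf g
  · rw [blockCoeff_eq_zero_of_dvd hM (vInt_indVec hM hB) hg]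
    exact zero_mem _
  have hdvd : orderOf g ∣ m :=
    Nat.Coprime.dvd_of_dvd_mul_left
      (Nat.Coprime.pow_right _ ((Fact.out : p.Prime).coprime_iff_not_dvd.2 hg).symm)
      (by rw [hm, Nat.ordProj_mul_ordCompl_eq_self]; exact orderOf_dvd_natCard g)
  rw [blockCoeff, finsum_mem_eq_finite_toFinset_sum _ (Set.toFinite B)]
  refine mul_mem (inv_mem (natCast_mem _ _)) (sum_mem fun χ _ => mul_mem ?_ ?_)
  · obtain ⟨d, hd⟩ := χ.2.isCharacter.exists_degree
    rw [hd]
    exact natCast_mem _ _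
  · obtain ⟨n, μ, hμ, hk⟩ := Char.exists_sum_roots χ.2.isCharacter g⁻¹
    have h1 := hk 1
    simp only [pow_one] at h1
    rw [← χ.2.isCharacter.apply_inv, h1]
    refine sum_mem fun i _ => Char.mem_cycField ?_
    obtain ⟨c, hc⟩ := hdvd
    rw [hc, pow_mul, ← orderOf_inv g, hμ i, one_pow]

/-- Projection to a block keeps functions supported on regular elements so. -/
theorem blockSum_eq_zero_of_reg (hM : IsPModular p M) {B : Set (IrrCharacter G)}
    (hB : VInt hM (indVec B)) {f : G → ℂ} (hf : ∀ g, p ∣ orderOf g → f g = 0) {y : G}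
    (hy : p ∣ orderOf y) :
    ∑ᶠ χ ∈ B, classInner f (χ : G → ℂ) * (χ : G → ℂ) y = 0 := by
  classical
  rw [finsum_mem_eq_finite_toFinset_sum _ (Set.toFinite B)]
  simp only [classInner, mul_assoc, Finset.sum_mul, ← Finset.mul_sum]
  rw [Finset.sum_comm, Finset.sum_eq_zero, mul_zero]
  intro g _
  by_cases hg : p ∣ orderOf g
  · simp [hf g hg]
  · rw [← Finset.mul_sum]
    refine mul_eq_zero_of_right _ ?_
    have h := sum_block_mul_conj_eq_zero hM hB (g := y) (h := g)
      fun h => not_isConj_pPt_of_dvd hg hy h.symm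
    rw [finsum_mem_eq_finite_toFinset_sum _ (Set.toFinite B)] at h
    exact (Finset.sum_congr rfl fun χ _ => mul_comm _ _).trans h

/-- Intersections of blocks for two primes without elements of order `p q`. -/
theorem two_prime_column_integral {q : ℕ} [Fact q.Prime] {Mq : Ideal AlgInt}
    (hM : IsPModular p M) (hMq : IsPModular q Mq)
    (hno : ∀ g : G, p ∣ orderOf g → ¬ q ∣ orderOf g)
    {Bp Bq : Set (IrrCharacter G)} (hBp : IsPBlock M Bp) (hBq : IsPBlock Mq Bq)
    (Q : Sylow q G) {y : G} (hy : p ∣ orderOf y) :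
    IsIntegral ℤ ((Nat.card Q : ℂ)⁻¹ *
      ∑ᶠ χ ∈ Bp ∩ Bq, (χ : G → ℂ) 1 * (χ : G → ℂ) y) := by
  classical
  haveI := Fintype.ofFinite (Q : Subgroup G)
  have hz : ∀ t : (Q : Subgroup G), t ≠ 1 →
      ∑ᶠ χ ∈ Bp ∩ Bq, (χ : G → ℂ) (t : G) * (χ : G → ℂ) y = 0 := fun t ht => by
    have htq : q ∣ orderOf (t : G) := by
      obtain ⟨k, hk⟩ := IsPGroup.iff_orderOf.1 Q.isPGroup' t
      rw [← Subgroup.orderOf_coe] at hk
      rw [hk]
      refine dvd_pow_self q fun h0 => ht ?_
      rw [h0, pow_zero, orderOf_eq_one_iff] at hk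
      exact Subtype.ext hk
    set f : G → ℂ := ∑ χ ∈ (Set.toFinite Bq).toFinset, (χ : G → ℂ) (t : G) • (χ : G → ℂ) with hf
    have hsupp : ∀ g, p ∣ orderOf g → f g = 0 := fun g hg => by
      simp only [hf, Finset.sum_apply, Pi.smul_apply, smul_eq_mul]
      have h := sum_block_mul_conj_eq_zero hMq (vInt_indVec hMq hBq) (g := (t : G)) (h := g⁻¹)
        fun h => not_isConj_pPt_of_dvd (by rw [orderOf_inv]; exact hno g hg) htq h.symm
      rw [finsum_mem_eq_finite_toFinset_sum _ (Set.toFinite Bq)] at h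
      refine (Finset.sum_congr rfl fun χ _ => ?_).trans h
      rw [← χ.2.isCharacter.apply_inv, inv_inv]
    have h := blockSum_eq_zero_of_reg hM (vInt_indVec hM hBp) hsupp hy
    rw [finsum_mem_eq_finite_toFinset_sum _ (Set.toFinite _)] at h ⊢
    refine Eq.trans ?_ h
    have hcoef : ∀ χ : IrrCharacter G, classInner f (χ : G → ℂ) =
        if χ ∈ (Set.toFinite Bq).toFinset then (χ : G → ℂ) (t : G) else 0 := fun χ => by
      rw [hf, Char.classInner_sum_left]
      have hne : ∀ ψ : IrrCharacter G, ψ ≠ χ →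
          classInner ((ψ : G → ℂ) (t : G) • (ψ : G → ℂ)) (χ : G → ℂ) = 0 := fun ψ hψ => by
        rw [Char.classInner_smul_left,
          Char.classInner_irr_ne ψ.2 χ.2 (fun e => hψ (Subtype.ext e)), mul_zero]
      split_ifs with hmem
      · rw [Finset.sum_eq_single_of_mem χ hmem fun ψ _ hψ => hne ψ hψ,
          Char.classInner_smul_left, Char.classInner_irr_self χ.2, mul_one]
      · exact Finset.sum_eq_zero fun ψ hψ => hne ψ fun e => hmem (e ▸ hψ)
    simp only [hcoef, ite_mul, zero_mul, ← Finset.sum_filter]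
    exact Finset.sum_congr (by ext χ; simp) fun _ _ => rfl
  have e : ∑ᶠ χ ∈ Bp ∩ Bq, (χ : G → ℂ) 1 * (χ : G → ℂ) y =
      ∑ t : (Q : Subgroup G), ∑ᶠ χ ∈ Bp ∩ Bq, (χ : G → ℂ) (t : G) * (χ : G → ℂ) y := by
    rw [Finset.sum_eq_single (1 : (Q : Subgroup G))]
    · rfl
    · exact fun t _ ht => hz t ht
    · simp
  rw [e]
  simp only [finsum_mem_eq_finite_toFinset_sum _ (Set.toFinite (Bp ∩ Bq))]
  rw [Finset.sum_comm, Finset.mul_sum]
  refine IsIntegral.sum _ fun χ _ => ?_
  rw [← Finset.sum_mul, ← mul_assoc]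
  refine IsIntegral.mul ?_ (χ.2.isCharacter.isIntegral y)
  obtain ⟨n, hn⟩ := (χ.2.isCharacter.comp (Q : Subgroup G).subtype).exists_nat_classInner
    (Char.isCharacter_one (G := (Q : Subgroup G)))
  rw [show (Nat.card Q : ℂ)⁻¹ * ∑ t : (Q : Subgroup G), (χ : G → ℂ) (t : G) = (n : ℂ) by
    rw [← hn, classInner]
    simp]
  simpa using (isIntegral_algebraMap (R := ℤ) (A := ℂ) (x := (n : ℤ)))

/-- The block of a character inducing irreducibly induces the block of the induced character. -/
theorem inducedCentralChar_congr_block (hM : IsPModular p M) (H : Subgroup G) [Fintype H]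
    {ξ ξ' : IrrCharacter H} (h : SameBlock M (ξ : H → ℂ) (ξ' : H → ℂ)) (g : G) :
    MemLocalIdeal M (inducedCentralChar H (ξ : H → ℂ) g -
      inducedCentralChar H (ξ' : H → ℂ) g) := by
  classical
  rw [inducedCentralChar_eq ξ g, inducedCentralChar_eq ξ' g]
  refine apply_sub_apply_mem hM (vInt_vec (hM := hM) (fun m x => ?_) fun m => ?_) h
  · have hc : IsConj (m : G) ((x * m * x⁻¹ : H) : G) := isConj_iff.2 ⟨x, rfl⟩
    have e : IsConj g ((x * m * x⁻¹ : H) : G) ↔ IsConj g (m : G) :=
      ⟨fun h => h.trans hc.symm, fun h => h.trans hc⟩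
    split_ifs <;> simp_all
  · split_ifs
    exacts [(locRing hM).one_mem, (locRing hM).zero_mem]

/-- A class function of `G` summed against a character of `H` through induced central
characters. -/
theorem sum_restrict_eq (H : Subgroup G) [Fintype H] [Fintype (ConjClasses G)] {F : G → ℂ}
    (hF : IsClassFunction G F) (ξ : H → ℂ) :
    (∑ h : H, F (h : G) * ξ h) / ξ 1 =
      ∑ C : ConjClasses G, F C.out * inducedCentralChar H ξ C.out := by
  classical
  rw [← Finset.sum_fiberwise Finset.univ fun h : H => ConjClasses.mk (h : G), Finset.sum_div]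
  refine Finset.sum_congr rfl fun C _ => ?_
  have hC : ConjClasses.mk C.out = C := Quotient.out_eq C
  rw [inducedCentralChar, finsum_mem_eq_finite_toFinset_sum _ (Set.toFinite _), Finset.mul_sum,
    Finset.sum_div]
  refine Finset.sum_congr ?_ fun h hh => ?_
  · ext h
    simp only [Finset.mem_filter, Finset.mem_univ, true_and, Set.Finite.mem_toFinset]
    conv_lhs => rw [← hC, ConjClasses.mk_eq_mk_iff_isConj]
    exact isConj_comm
  · have hh' : h ∈ {h : H | IsConj C.out (h : G)} := (Set.Finite.mem_toFinset _).1 hh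
    obtain ⟨c, hc⟩ := isConj_iff.1 hh'
    rw [mul_div_assoc, ← hc, hF C.out c]

/-- An induced block contains a character over each member. -/
theorem exists_over_of_induced (hM : IsPModular p M) (H : Subgroup G) [Fintype H]
    {b : Set (IrrCharacter H)} {B : Set (IrrCharacter G)} (hind : IsInducedBlock M H b B)
    {ξ : IrrCharacter H} (hξ : ξ ∈ b) :
    ∃ χ ∈ B, classInner (fun h : H => (χ : G → ℂ) h) (ξ : H → ℂ) ≠ 0 := by
  classical
  haveI : Finite (ConjClasses G) := Quotient.finite _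
  haveI := Fintype.ofFinite (ConjClasses G)
  obtain ⟨hb, hB, hcong⟩ := hind
  by_contra hcon
  simp only [not_exists, not_and, not_not] at hcon
  obtain ⟨χ₀, hχ₀⟩ := nonempty_of_isPBlock hM hB
  set f : G → ℂ := zc (indVec B) with hf
  have hfc : IsClassFunction G f := fun g x => zc_conj_invariant _ g x
  have h1 : vec f χ₀ = 1 := by rw [hf, congrFun (vec_zc _) χ₀, indVec, if_pos hχ₀]
  rw [sum_mul_char_eq hfc] at h1
  have h2 : MemLocalIdeal M ((∑ h : H, f (h : G) * (ξ : H → ℂ) h) / (ξ : H → ℂ) 1 - 1) := by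
    rw [sum_restrict_eq H hfc, ← h1, ← Finset.sum_sub_distrib]
    refine memLocalIdeal_sum hM _ _ fun C _ => ?_
    rw [← mul_sub]
    exact memLocalIdeal_mul_left hM (vInt_indVec hM hB C.out) (hcong ξ hξ χ₀ hχ₀ _)
  have h3 : ∑ h : H, f (h : G) * (ξ : H → ℂ) h = 0 := by
    simp only [hf, zc, Finset.mul_sum, Finset.sum_mul]
    rw [Finset.sum_comm]
    refine Finset.sum_eq_zero fun χ _ => ?_
    simp only [indVec]
    split_ifs with hχ
    · have h0 : conj (classInner (fun h : H => (χ : G → ℂ) h) (ξ : H → ℂ)) = 0 := by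
        rw [hcon χ hχ, map_zero]
      rw [classInner, map_mul, map_sum, map_inv₀, Complex.conj_natCast, mul_eq_zero] at h0
      have h4 := h0.resolve_left (inv_ne_zero Char.card_cast_ne_zero)
      rw [Finset.sum_congr rfl (g := fun h : H => (Nat.card G : ℂ)⁻¹ * (χ : G → ℂ) 1 *
        conj ((χ : G → ℂ) (h : G) * conj ((ξ : H → ℂ) h))) fun h _ => by
          rw [map_mul, Complex.conj_conj, ← χ.2.isCharacter.apply_inv]; ring,
        ← Finset.mul_sum, h4, mul_zero]
    · simp
  rw [h3, zero_div, zero_sub] at h2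
  exact not_memLocalIdeal_one hM (by simpa using memLocalIdeal_neg hM h2)

end Cfsg.Lib.Block
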