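import Cfsg.Agent.Lib.Block.CoverBasics
import Cfsg.Agent.Lib.Block.DefectLocal
import Cfsg.Agent.Lib.Block.Induced
import Cfsg.Agent.Lib.Block.Indep
import Cfsg.Agent.Lib.Char.Clifford2

/-!
# The Fong-Reynolds correspondence

Let `b` be a block of the normal subgroup `N` and let `T` be its stabiliser. Induction of characters
is a bijection from each block of `T` covering `b` onto a block of `G` covering `b`, and induction of
blocks is a bijection between these two families of blocks.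
-/

set_option autoImplicit false
set_option linter.unusedSectionVars false
set_option maxHeartbeats 800000

namespace Cfsg.Lib.Block

open Cfsg
open scoped ComplexConjugate

universe u

/-! ## Clifford correspondence above the inertia group -/

section Clifford

variable {G : Type u} [Group G] [Fintype G] (H : Subgroup G) [hN : H.Normal] [Fintype H]
  {T : Subgroup G} [Fintype T]

theorem inertia_resTo_eq (hHT : H ≤ T) (θ : H → ℂ) :
    haveI : (H.subgroupOf T).Normal := hN.subgroupOf T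
    Char.inertia (H.subgroupOf T) (Char.resTo H θ T) = (Char.inertia H θ).subgroupOf T := by
  haveI : (H.subgroupOf T).Normal := hN.subgroupOf T
  ext t
  rw [Subgroup.mem_subgroupOf, Char.mem_inertia_iff, Char.mem_inertia_iff]
  exact ⟨fun h x => h ⟨⟨x, hHT x.2⟩, x.2⟩, fun h x => h ⟨(x : T), Subgroup.mem_subgroupOf.mp x.2⟩⟩

theorem clifford_induce_le {θ : H → ℂ} (hθ : IsIrrCharacter H θ) (hHT : H ≤ T)
    (hI : Char.inertia H θ ≤ T) {ψ : T → ℂ} (hψ : IsIrrCharacter T ψ)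
    (hc : classInner (fun h : H => ψ ⟨h, hHT h.2⟩) θ ≠ 0) :
    IsIrrCharacter G (indFun T ψ) ∧
      classInner (fun h : H => indFun T ψ h) θ = classInner (fun h : H => ψ ⟨h, hHT h.2⟩) θ := by
  haveI : (H.subgroupOf T).Normal := hN.subgroupOf T
  haveI := Fintype.ofFinite (H.subgroupOf T)
  have hind := Char.isCharacter_indFun T hψ.isCharacter
  have hψ1 := Char.clifford_degree (H.subgroupOf T) hψ (Char.isIrrCharacter_resTo H hθ hHT)
    (by rwa [Char.classInner_resTo H θ hHT])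
  rw [Char.classInner_resTo H θ hHT, inertia_resTo_eq H hHT θ,
    show Char.resTo H θ T 1 = θ 1 from rfl] at hψ1
  obtain ⟨c, hcn⟩ := (hψ.isCharacter.comp (Subgroup.inclusion hHT)).exists_nat_classInner
    hθ.isCharacter
  have hcn' : classInner (fun h : H => ψ ⟨h, hHT h.2⟩) θ = (c : ℂ) := hcn
  have hidx : T.index ≠ 0 := Subgroup.index_ne_zero_of_finite
  set r : ℕ := ((Char.inertia H θ).subgroupOf T).index with hr
  have hr0 : r ≠ 0 := Subgroup.index_ne_zero_of_finite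
  have hrI : (Char.inertia H θ).index = r * T.index := (Subgroup.relIndex_mul_index hI).symm
  have hind1 : indFun T ψ 1 = (T.index : ℂ) * (c * r * θ 1) := by
    rw [Char.indFun_apply_one, hψ1, hcn']
  obtain ⟨χ, hχ⟩ := Char.exists_constituent hind (by
    rw [hind1]
    exact mul_ne_zero (Nat.cast_ne_zero.mpr hidx)
      (mul_ne_zero (mul_ne_zero (hcn' ▸ hc) (Nat.cast_ne_zero.mpr hr0)) hθ.apply_one_ne_zero))
  have hχψ : classInner (fun t : T => (χ : G → ℂ) t) ψ ≠ 0 := by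
    rw [Char.classInner_indFun T ψ χ.2.isClassFunction, ← Char.classInner_conj_symm] at hχ
    exact fun e => hχ (by rw [e, map_zero])
  have hle := Char.classInner_res_le H hHT (χ.2.isCharacter.comp T.subtype) hψ hχψ hθ
  obtain ⟨e, he⟩ := (χ.2.isCharacter.comp H.subtype).exists_nat_classInner hθ.isCharacter
  have he' : classInner (fun x : H => (χ : G → ℂ) x) θ = (e : ℂ) := he
  change _ ≤ (classInner (fun x : H => (χ : G → ℂ) x) θ).re at hle
  rw [hcn', he', Complex.natCast_re, Complex.natCast_re] at hle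
  have hcpos : 0 < c := Nat.pos_of_ne_zero fun h0 => hc (by rw [hcn', h0, Nat.cast_zero])
  have hepos : 0 < e := lt_of_lt_of_le hcpos (by exact_mod_cast hle)
  have hχ1 := Char.clifford_degree H χ.2 hθ (by rw [he']; exact Nat.cast_ne_zero.mpr hepos.ne')
  rw [he', hrI, Nat.cast_mul] at hχ1
  have hdeg := Char.degree_le_of_constituent χ.2 hind hχ
  have hec : e = c := by
    refine le_antisymm ?_ (by exact_mod_cast hle)
    rw [hχ1, hind1] at hdeg
    obtain ⟨d, hd⟩ := hθ.isCharacter.exists_degree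
    have hd0 : 0 < d := Nat.pos_of_ne_zero fun h0 => hθ.apply_one_ne_zero (by rw [hd, h0]; simp)
    rw [hd] at hdeg
    simp only [← Nat.cast_mul, Complex.natCast_re, Nat.cast_le] at hdeg
    have h3 : 0 < r * T.index * d :=
      Nat.mul_pos (Nat.mul_pos (Nat.pos_of_ne_zero hr0) (Nat.pos_of_ne_zero hidx)) hd0
    exact Nat.le_of_mul_le_mul_right (by linarith) h3
  have heq : indFun T ψ = (χ : G → ℂ) := Char.eq_of_constituent_of_degree hind χ.2 hχ (by
    rw [hind1, hχ1, hec]; ring)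
  rw [heq]
  exact ⟨χ.2, by rw [he', hcn', hec]⟩

theorem clifford_injective_le {θ : H → ℂ} (hθ : IsIrrCharacter H θ) (hHT : H ≤ T)
    (hI : Char.inertia H θ ≤ T) {ψ ψ' : T → ℂ} (hψ : IsIrrCharacter T ψ) (hψ' : IsIrrCharacter T ψ')
    (hc : classInner (fun h : H => ψ ⟨h, hHT h.2⟩) θ ≠ 0)
    (hc' : classInner (fun h : H => ψ' ⟨h, hHT h.2⟩) θ ≠ 0)
    (heq : indFun T ψ = indFun T ψ') : ψ = ψ' := by
  by_contra hne
  obtain ⟨hirr, hmult⟩ := clifford_induce_le H hθ hHT hI hψ hc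
  have hcon : ∀ φ : T → ℂ, IsIrrCharacter T φ → indFun T φ = indFun T ψ →
      classInner (fun t : T => indFun T ψ t) φ ≠ 0 := by
    intro φ hφ he h0
    have h := Char.classInner_irr_self hirr
    rw [← he, Char.classInner_indFun T φ (by rw [he]; exact hirr.isClassFunction), he,
      ← Char.classInner_conj_symm, h0, map_zero] at h
    exact zero_ne_one h
  have hd : IsCharacter T ((fun t : T => indFun T ψ t) - ψ) :=
    Char.isCharacter_sub_constituent (hirr.isCharacter.comp T.subtype) hψ (hcon ψ hψ rfl)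
  have hne' : classInner ((fun t : T => indFun T ψ t) - ψ) ψ' ≠ 0 := by
    rw [Char.classInner_sub_left, Char.classInner_irr_ne hψ hψ' hne, sub_zero]
    exact hcon ψ' hψ' heq.symm
  have hle := Char.classInner_res_le H hHT hd hψ' hne' hθ
  rw [show (fun x : H => ((fun t : T => indFun T ψ t) - ψ) ⟨x, hHT x.2⟩) =
      (fun x : H => indFun T ψ x) - (fun x : H => ψ ⟨x, hHT x.2⟩) from rfl,
    Char.classInner_sub_left, hmult, sub_self, Complex.zero_re] at hle
  obtain ⟨c', hcn⟩ := (hψ'.isCharacter.comp (Subgroup.inclusion hHT)).exists_nat_classInner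
    hθ.isCharacter
  have hcn' : classInner (fun h : H => ψ' ⟨h, hHT h.2⟩) θ = (c' : ℂ) := hcn
  rw [hcn', Complex.natCast_re] at hle
  exact hc' (by rw [hcn', show c' = 0 by exact_mod_cast le_antisymm hle (Nat.cast_nonneg _),
    Nat.cast_zero])

theorem clifford_exists_le {θ : H → ℂ} (hθ : IsIrrCharacter H θ) (hHT : H ≤ T)
    (hI : Char.inertia H θ ≤ T) {χ : G → ℂ} (hχ : IsIrrCharacter G χ)
    (hc : classInner (fun h : H => χ h) θ ≠ 0) :
    ∃ ψ : IrrCharacter T,
      classInner (fun h : H => (ψ : T → ℂ) ⟨h, hHT h.2⟩) θ ≠ 0 ∧ indFun T (ψ : T → ℂ) = χ := by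
  haveI := Fintype.ofFinite (H.subgroupOf T)
  have hresc : IsCharacter T (fun t : T => χ t) := hχ.isCharacter.comp T.subtype
  have hc2 : classInner (fun x : H.subgroupOf T => (fun t : T => χ t) x) (Char.resTo H θ T) ≠ 0 := by
    rw [Char.classInner_resTo H θ hHT (fun t : T => χ t)]
    exact hc
  obtain ⟨ψ, hψχ, hψθ⟩ := Char.exists_constituent_of_res (H.subgroupOf T) hresc hc2
  rw [Char.classInner_resTo H θ hHT] at hψθ
  obtain ⟨hirr, -⟩ := clifford_induce_le H hθ hHT hI ψ.2 hψθ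
  refine ⟨ψ, hψθ, ?_⟩
  by_contra hne
  have h0 := Char.classInner_irr_ne hirr hχ hne
  rw [Char.classInner_indFun T _ hχ.isClassFunction, ← Char.classInner_conj_symm] at h0
  exact hψχ ((map_eq_zero _).mp h0)

end Clifford

/-! ## Induced sums -/

section IndSum

variable {p : ℕ} {M : Ideal AlgInt} {G : Type u} [Group G] [Fintype G] (T : Subgroup G)
  [Fintype T]

/-- Induction keeps integrality of class functions. -/
theorem indFun_mem_locRing (hM : IsPModular p M) {f : T → ℂ} (hf : IsClassFunction T f)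
    (hint : ∀ t, f t ∈ locRing hM) (g : G) : indFun T f g ∈ locRing hM := by
  classical
  set F : G → ℂ := fun x => extendByZero T f (x⁻¹ * g * x) with hF
  have hmem : ∀ x, F x ∈ locRing hM := fun x => by
    by_cases h : x⁻¹ * g * x ∈ T
    · rw [hF]; dsimp only; rw [Char.extendByZero_of_mem T f h]; exact hint _
    · rw [hF]; dsimp only; rw [Char.extendByZero_of_notMem T f h]; exact Subring.zero_mem _
  have hconst : ∀ (x : G) (t : T), F (x * t) = F x := fun x t => by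
    have e : (x * (t : G))⁻¹ * g * (x * (t : G)) = (t : G)⁻¹ * (x⁻¹ * g * x) * (t : G) := by group
    simp only [hF, e]
    by_cases h : x⁻¹ * g * x ∈ T
    · have h' : (t : G)⁻¹ * (x⁻¹ * g * x) * (t : G) ∈ T :=
        T.mul_mem (T.mul_mem (T.inv_mem t.2) h) t.2
      rw [Char.extendByZero_of_mem T f h, Char.extendByZero_of_mem T f h',
        show (⟨(t : G)⁻¹ * (x⁻¹ * g * x) * (t : G), h'⟩ : T) = t⁻¹ * ⟨_, h⟩ * (t⁻¹)⁻¹ from
          Subtype.ext (by simp)]
      exact hf _ _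
    · have h' : ¬ (t : G)⁻¹ * (x⁻¹ * g * x) * (t : G) ∈ T := fun h' => h (by
        simpa [mul_assoc] using T.mul_mem (T.mul_mem t.2 h') (T.inv_mem t.2))
      rw [Char.extendByZero_of_notMem T f h, Char.extendByZero_of_notMem T f h']
  haveI := Fintype.ofFinite (G ⧸ T)
  have hsum : ∑ x : G, F x = (Nat.card T : ℂ) * ∑ q : G ⧸ T, F q.out := by
    rw [Finset.mul_sum, ← Finset.sum_fiberwise Finset.univ (fun x : G => (x : G ⧸ T)) F]
    refine Finset.sum_congr rfl fun q _ => ?_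
    rw [Nat.card_eq_fintype_card, ← Finset.card_univ, ← nsmul_eq_mul, ← Finset.sum_const]
    symm
    refine Finset.sum_bij (fun (t : T) _ => q.out * (t : G)) (fun t _ => ?_)
      (fun a _ b _ h => Subtype.ext (mul_left_cancel h)) (fun x hx => ?_)
      fun t _ => (hconst _ t).symm
    · refine Finset.mem_filter.2 ⟨Finset.mem_univ _, ?_⟩
      rw [QuotientGroup.mk_mul_of_mem _ t.2, QuotientGroup.out_eq']
    · have hx' := (Finset.mem_filter.1 hx).2
      refine ⟨⟨q.out⁻¹ * x, QuotientGroup.eq.1 ?_⟩, Finset.mem_univ _, by simp⟩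
      rw [QuotientGroup.out_eq', hx']
  have e : indFun T f g = ∑ q : G ⧸ T, F q.out := by
    show (Nat.card T : ℂ)⁻¹ * ∑ x : G, F x = _
    rw [hsum, ← mul_assoc, inv_mul_cancel₀ (by exact_mod_cast Nat.card_pos.ne'), one_mul]
  rw [e]
  exact Subring.sum_mem _ fun q _ => hmem _

/-- The characters induced from the members of a set. -/
def indImage (S : Set (IrrCharacter T)) : Set (IrrCharacter G) :=
  {χ | ∃ ψ ∈ S, (χ : G → ℂ) = indFun T (ψ : T → ℂ)}

/-- An irreducibly and injectively induced block gives an integral idempotent. -/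
theorem vInt_indImage (hM : IsPModular p M) {S : Set (IrrCharacter T)}
    (hS : IsPBlock M S)
    (hirr : ∀ ψ ∈ S, IsIrrCharacter G (indFun T (ψ : T → ℂ)))
    (hinj : ∀ ψ ∈ S, ∀ ψ' ∈ S, indFun T (ψ : T → ℂ) = indFun T (ψ' : T → ℂ) → ψ = ψ') :
    VInt hM (indVec (indImage T S)) := by
  classical
  intro g
  have e : zc (indVec (indImage T S)) g = indFun T (fun t : T => zc (indVec S) t) g := by
    have h1 : ∑ χ : IrrCharacter G,
        indVec (indImage T S) χ * (χ : G → ℂ) 1 * (χ : G → ℂ) g⁻¹ =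
        ∑ ψ : IrrCharacter T,
          indVec S ψ * indFun T (ψ : T → ℂ) 1 * indFun T (ψ : T → ℂ) g⁻¹ := by
      rw [← Finset.sum_filter_of_ne (p := fun χ : IrrCharacter G => χ ∈ indImage T S)
          (s := Finset.univ) fun χ _ h => by
            by_contra hn; exact h (by simp [indVec, hn]),
        ← Finset.sum_filter_of_ne (p := fun ψ : IrrCharacter T => ψ ∈ S)
          (s := Finset.univ) fun ψ _ h => by
            by_contra hn; exact h (by simp [indVec, hn])]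
      symm
      refine Finset.sum_bij (fun ψ hψ => ⟨indFun T (ψ : T → ℂ), hirr ψ (Finset.mem_filter.1 hψ).2⟩)
        (fun ψ hψ => Finset.mem_filter.2 ⟨Finset.mem_univ _, ψ, (Finset.mem_filter.1 hψ).2, rfl⟩)
        (fun a ha b hb h => hinj a (Finset.mem_filter.1 ha).2 b (Finset.mem_filter.1 hb).2
          (congrArg Subtype.val h))
        (fun χ hχ => ?_) fun ψ hψ => ?_
      · obtain ⟨ψ, hψ, hχψ⟩ := (Finset.mem_filter.1 hχ).2
        exact ⟨ψ, Finset.mem_filter.2 ⟨Finset.mem_univ _, hψ⟩, Subtype.ext hχψ.symm⟩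
      · have h' : (⟨indFun T (ψ : T → ℂ), hirr ψ (Finset.mem_filter.1 hψ).2⟩ : IrrCharacter G) ∈
            indImage T S := ⟨ψ, (Finset.mem_filter.1 hψ).2, rfl⟩
        simp only [indVec, if_pos (Finset.mem_filter.1 hψ).2, if_pos h']
    have hinv : ∀ (ψ : IrrCharacter T) (t : G),
        extendByZero T (ψ : T → ℂ) t⁻¹ = extendByZero T (fun s : T => (ψ : T → ℂ) s⁻¹) t := by
      intro ψ t
      by_cases ht : t ∈ T
      · rw [Char.extendByZero_of_mem T _ (T.inv_mem ht), Char.extendByZero_of_mem T _ ht]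
        rfl
      · rw [Char.extendByZero_of_notMem T _ fun h => ht (by simpa using T.inv_mem h),
          Char.extendByZero_of_notMem T _ ht]
    have h2 : ∀ ψ : IrrCharacter T,
        indFun T (ψ : T → ℂ) g⁻¹ = indFun T (fun s : T => (ψ : T → ℂ) s⁻¹) g := fun ψ => by
      simp only [indFun]
      congr 1
      refine Finset.sum_congr rfl fun x _ => ?_
      rw [← hinv]
      congr 1
      group
    have h3 : (fun t : T => zc (indVec S) t) = ∑ ψ : IrrCharacter T,
        ((Nat.card T : ℂ)⁻¹ * (indVec S ψ * (ψ : T → ℂ) 1)) • fun s : T => (ψ : T → ℂ) s⁻¹ := by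
      funext t
      simp only [zc, Finset.mul_sum, Finset.sum_apply, Pi.smul_apply, smul_eq_mul]
      exact Finset.sum_congr rfl fun ψ _ => by ring
    rw [h3, Char.indFun_sum, Finset.sum_apply, zc, h1, Finset.mul_sum]
    refine Finset.sum_congr rfl fun ψ _ => ?_
    rw [Char.indFun_smul, Pi.smul_apply, smul_eq_mul, ← h2, Char.indFun_apply_one]
    have hT : (Nat.card T : ℂ) ≠ 0 := by exact_mod_cast Nat.card_pos.ne'
    rw [← show (T.index : ℂ) * (Nat.card T : ℂ) = (Nat.card G : ℂ) by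
      rw [← Nat.cast_mul, Subgroup.index_mul_card]]
    have hI : (T.index : ℂ) ≠ 0 := by exact_mod_cast T.index_ne_zero_of_finite
    field_simp
  rw [e]
  exact indFun_mem_locRing T hM (fun a c => zc_conj_invariant _ a c) (vInt_indVec hM hS) g

end IndSum

/-! ## The correspondence -/

section Correspondence

variable {p : ℕ} [hp : Fact p.Prime] {M : Ideal AlgInt} {G : Type u} [Group G] [Fintype G]
  {N : Subgroup G} [hN : N.Normal] [Fintype N] {T : Subgroup G} [Fintype T]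
  {b : Set (IrrCharacter N)}

/-- A character of a subgroup above `N` lying over `θ`. -/
def LiesOver (hNT : N ≤ T) (ψ : IrrCharacter T) (θ : IrrCharacter N) : Prop :=
  classInner (fun n : N => (ψ : T → ℂ) ⟨(n : G), hNT n.2⟩) (θ : N → ℂ) ≠ 0

/-- `T` is the stabiliser of `b`. -/
def IsBlockStab (T : Subgroup G) (b : Set (IrrCharacter N)) : Prop :=
  ∀ g : G, g ∈ T ↔ ∀ θ ∈ b, ∀ θ' : IrrCharacter N,
    (∀ n : N, (θ' : N → ℂ) n = (θ : N → ℂ) ⟨g * n * g⁻¹, hN.conj_mem n n.2 g⟩) → θ' ∈ b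

theorem IsBlockStab.twist_mem (hT : IsBlockStab T b) {g : G} (hg : g ∈ T) {θ : IrrCharacter N}
    (hθ : θ ∈ b) : twistIrr N g θ ∈ b :=
  (hT g).1 hg θ hθ _ fun n => twistIrr_apply N g θ n

theorem IsBlockStab.mem_of_twist (hT : IsBlockStab T b) (hM : IsPModular p M) (hb : IsPBlock M b)
    {g : G} {θ : IrrCharacter N} (hθ : θ ∈ b) (h : twistIrr N g θ ∈ b) : g ∈ T := by
  refine (hT g).2 fun θ₁ h₁ θ' he => ?_
  rw [show θ' = twistIrr N g θ₁ from Subtype.ext (funext fun n => by rw [twistIrr_apply]; exact he n)]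
  exact mem_of_sameBlock hM hb h
    ((sameBlock_twistIrr N g _ _).2 (sameBlock_of_mem hM hb hθ h₁))

theorem IsBlockStab.inertia_le (hT : IsBlockStab T b) (hM : IsPModular p M) (hb : IsPBlock M b)
    {θ : IrrCharacter N} (hθ : θ ∈ b) : Char.inertia N (θ : N → ℂ) ≤ T := fun g hg => by
  refine hT.mem_of_twist hM hb hθ ?_
  rw [show twistIrr N g θ = θ from Subtype.ext (by rw [coe_twistIrr]; exact hg)]
  exact hθ

/-- Every member of a block of `T` covering `b` lies over a member of `b`. -/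
theorem IsBlockStab.all_over (hT : IsBlockStab T b) (hNT : N ≤ T) (hM : IsPModular p M)
    (hb : IsPBlock M b) {B' : Set (IrrCharacter T)} (hB' : IsPBlock M B')
    (hcov : ∃ ψ ∈ B', ∃ θ ∈ b, LiesOver hNT ψ θ) {ψ' : IrrCharacter T} (hψ' : ψ' ∈ B') :
    ∃ θ ∈ b, LiesOver hNT ψ' θ := by
  obtain ⟨ψ, hψ, θ, hθ, hc⟩ := hcov
  haveI : (N.subgroupOf T).Normal := hN.subgroupOf T
  haveI := Fintype.ofFinite (N.subgroupOf T)
  set e := Subgroup.subgroupOfEquivOfLe hNT with he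
  have hb' := isPBlock_pullSet (M := M) e hb
  have htr : ∀ (φ : IrrCharacter T) (η : IrrCharacter N),
      classInner (fun x : N.subgroupOf T => (φ : T → ℂ) x) (compIrr e η : N.subgroupOf T → ℂ) =
        classInner (fun n : N => (φ : T → ℂ) ⟨(n : G), hNT n.2⟩) (η : N → ℂ) := fun φ η =>
    Char.classInner_resTo N (η : N → ℂ) hNT (φ : T → ℂ)
  have hθ' : compIrr e θ ∈ pullSet e b := mem_pullSet.2 hθ
  obtain ⟨η', hη'⟩ := Char.exists_irr_constituent_res (N.subgroupOf T) ψ'.2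
  obtain ⟨t, ht⟩ := constituent_conj (N.subgroupOf T) hM hB' hb' hψ hθ'
    (by rw [htr]; exact hc) hψ' hη'
  obtain ⟨η, rfl⟩ : ∃ η, compIrr e η = η' := ⟨compIrr e.symm η', compIrr_compIrr_symm e η'⟩
  rw [htr] at hη'
  have ht' : twistIrr N (t : G) η ∈ b := by
    rw [show twistIrr (N.subgroupOf T) t (compIrr e η) = compIrr e (twistIrr N (t : G) η) from
      Subtype.ext (funext fun x => rfl)] at ht
    exact mem_pullSet.1 ht
  refine ⟨η, ?_, hη'⟩
  have := hT.twist_mem (T.inv_mem t.2) ht'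
  rwa [twistIrr_inv] at this

theorem IsBlockStab.induce_irr (hT : IsBlockStab T b) (hNT : N ≤ T) (hM : IsPModular p M)
    (hb : IsPBlock M b) {ψ : IrrCharacter T} {θ : IrrCharacter N} (hθ : θ ∈ b)
    (hc : LiesOver hNT ψ θ) :
    IsIrrCharacter G (indFun T (ψ : T → ℂ)) ∧
      classInner (fun n : N => indFun T (ψ : T → ℂ) n) (θ : N → ℂ) ≠ 0 := by
  obtain ⟨h1, h2⟩ := clifford_induce_le N θ.2 hNT (hT.inertia_le hM hb hθ) ψ.2 hc
  exact ⟨h1, by rw [h2]; exact hc⟩

theorem IsBlockStab.induce_inj (hT : IsBlockStab T b) (hNT : N ≤ T) (hM : IsPModular p M)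
    (hb : IsPBlock M b) {ψ ψ' : IrrCharacter T} {θ θ' : IrrCharacter N} (hθ : θ ∈ b)
    (hθ' : θ' ∈ b) (hc : LiesOver hNT ψ θ) (hc' : LiesOver hNT ψ' θ')
    (heq : indFun T (ψ : T → ℂ) = indFun T (ψ' : T → ℂ)) : ψ = ψ' := by
  obtain ⟨hirr, h1⟩ := hT.induce_irr hNT hM hb hθ hc
  obtain ⟨-, h2⟩ := hT.induce_irr hNT hM hb hθ' hc'
  rw [← heq] at h2
  obtain ⟨g, hg⟩ := (Char.mem_twistOrbit N).1
    (Char.mem_twistOrbit_of_constituent N hirr θ.2 θ'.2 h1 h2)
  have hgθ : twistIrr N g θ = θ' := Subtype.ext hg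
  have hgT : g ∈ T := hT.mem_of_twist hM hb hθ (by rw [hgθ]; exact hθ')
  have hover : LiesOver hNT ψ θ' := by
    unfold LiesOver
    rw [← hgθ, coe_twistIrr, show (fun n : N => (ψ : T → ℂ) ⟨(n : G), hNT n.2⟩) =
      Char.conjTwist N (fun n : N => (ψ : T → ℂ) ⟨(n : G), hNT n.2⟩) g from funext fun n =>
        (ψ.2.isClassFunction ⟨(n : G), hNT n.2⟩ ⟨g, hgT⟩).symm, Char.classInner_conjTwist]
    exact hc
  exact Subtype.ext (clifford_injective_le N θ'.2 hNT (hT.inertia_le hM hb hθ') ψ.2 ψ'.2 hover hc' heq)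

/-- The forward half of the correspondence. -/
theorem IsBlockStab.exists_induced (hT : IsBlockStab T b) (hNT : N ≤ T) (hM : IsPModular p M)
    (hb : IsPBlock M b) {B' : Set (IrrCharacter T)} (hB' : IsPBlock M B')
    (hcov : ∃ ψ ∈ B', ∃ θ ∈ b, LiesOver hNT ψ θ) :
    ∃ B : Set (IrrCharacter G), IsInducedBlock M T B' B ∧
      (∃ χ ∈ B, ∃ θ ∈ b, classInner (fun n : N => (χ : G → ℂ) n) (θ : N → ℂ) ≠ 0) ∧
      (∀ ψ ∈ B', IsIrrCharacter G (indFun T (ψ : T → ℂ))) ∧
      ∀ χ : IrrCharacter G, χ ∈ B ↔ ∃ ψ ∈ B', (χ : G → ℂ) = indFun T (ψ : T → ℂ) := by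
  have hover := fun ψ (hψ : ψ ∈ B') => hT.all_over hNT hM hb hB' hcov hψ
  have hirr : ∀ ψ ∈ B', IsIrrCharacter G (indFun T (ψ : T → ℂ)) := fun ψ hψ => by
    obtain ⟨θ, hθ, hc⟩ := hover ψ hψ
    exact (hT.induce_irr hNT hM hb hθ hc).1
  have hinj : ∀ ψ ∈ B', ∀ ψ' ∈ B', indFun T (ψ : T → ℂ) = indFun T (ψ' : T → ℂ) → ψ = ψ' := by
    intro ψ hψ ψ' hψ' h
    obtain ⟨θ, hθ, hc⟩ := hover ψ hψ
    obtain ⟨θ', hθ', hc'⟩ := hover ψ' hψ'
    exact hT.induce_inj hNT hM hb hθ hθ' hc hc' h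
  obtain ⟨ψ₀, hψ₀⟩ := nonempty_of_isPBlock hM hB'
  set χ₀ : IrrCharacter G := ⟨indFun T (ψ₀ : T → ℂ), hirr ψ₀ hψ₀⟩ with hχ₀
  set B := blockOf M (χ₀ : G → ℂ) with hB
  have hsub : B ⊆ indImage T B' :=
    blockOf_subset_of_vInt hM (vInt_indImage T hM hB' hirr hinj) ⟨ψ₀, hψ₀, rfl⟩
  have hcongr : ∀ ξ ∈ B', ∀ g : G, MemLocalIdeal M
      (centralChar (indFun T (ξ : T → ℂ)) g - centralChar (χ₀ : G → ℂ) g) := by
    intro ξ hξ g
    rw [← inducedCentralChar_eq_ind]
    show MemLocalIdeal M (_ - centralChar (indFun T (ψ₀ : T → ℂ)) g)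
    rw [← inducedCentralChar_eq_ind]
    exact inducedCentralChar_congr_block hM T (sameBlock_of_mem hM hB' hξ hψ₀) g
  have hsup : ∀ χ : IrrCharacter G, χ ∈ indImage T B' → χ ∈ B := by
    rintro χ ⟨ξ, hξ, hχ⟩
    refine mem_blockOf.2 fun g => ?_
    rw [hχ]
    simpa using memLocalIdeal_neg hM (hcongr ξ hξ g)
  refine ⟨B, ⟨hB', isPBlock_blockOf χ₀, fun ξ hξ χ hχ g => ?_⟩, ?_, hirr,
    fun χ => ⟨fun h => hsub h, fun h => hsup χ h⟩⟩
  · rw [inducedCentralChar_eq_ind]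
    exact sameBlock_of_mem hM (isPBlock_blockOf χ₀)
      (hsup ⟨indFun T (ξ : T → ℂ), hirr ξ hξ⟩ ⟨ξ, hξ, rfl⟩) hχ g
  · obtain ⟨θ, hθ, hc⟩ := hover ψ₀ hψ₀
    exact ⟨χ₀, self_mem_blockOf hM χ₀, θ, hθ, (hT.induce_irr hNT hM hb hθ hc).2⟩

/-- The correspondence is injective. -/
theorem IsBlockStab.induced_inj (hT : IsBlockStab T b) (hNT : N ≤ T) (hM : IsPModular p M)
    (hb : IsPBlock M b) {B₁ B₂ : Set (IrrCharacter T)} (h₁ : IsPBlock M B₁) (h₂ : IsPBlock M B₂)
    (c₁ : ∃ ψ ∈ B₁, ∃ θ ∈ b, LiesOver hNT ψ θ) (c₂ : ∃ ψ ∈ B₂, ∃ θ ∈ b, LiesOver hNT ψ θ)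
    {B : Set (IrrCharacter G)} (i₁ : IsInducedBlock M T B₁ B) (i₂ : IsInducedBlock M T B₂ B) :
    B₁ = B₂ := by
  obtain ⟨B', hi₁, -, -, hmem₁⟩ := hT.exists_induced hNT hM hb h₁ c₁
  obtain rfl := isInducedBlock_unique hM hi₁ i₁
  obtain ⟨B'', hi₂, -, hirr₂, hmem₂⟩ := hT.exists_induced hNT hM hb h₂ c₂
  obtain rfl := isInducedBlock_unique hM hi₂ i₂
  obtain ⟨ψ₂, hψ₂⟩ := nonempty_of_isPBlock hM h₂
  obtain ⟨ψ₁, hψ₁, he⟩ := (hmem₁ ⟨_, hirr₂ ψ₂ hψ₂⟩).1 ((hmem₂ _).2 ⟨ψ₂, hψ₂, rfl⟩)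
  obtain ⟨θ₁, hθ₁, hc₁⟩ := hT.all_over hNT hM hb h₁ c₁ hψ₁
  obtain ⟨θ₂, hθ₂, hc₂⟩ := hT.all_over hNT hM hb h₂ c₂ hψ₂
  obtain rfl := hT.induce_inj hNT hM hb hθ₂ hθ₁ hc₂ hc₁ he
  exact isPBlock_eq_of_mem hM h₁ h₂ hψ₁ hψ₂

/-- The correspondence is surjective. -/
theorem IsBlockStab.exists_corr (hT : IsBlockStab T b) (hNT : N ≤ T) (hM : IsPModular p M)
    (hb : IsPBlock M b) {B : Set (IrrCharacter G)} (hB : IsPBlock M B)
    (hcov : ∃ χ ∈ B, ∃ θ ∈ b, classInner (fun n : N => (χ : G → ℂ) n) (θ : N → ℂ) ≠ 0) :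
    ∃ B' : Set (IrrCharacter T), IsPBlock M B' ∧ (∃ ψ ∈ B', ∃ θ ∈ b, LiesOver hNT ψ θ) ∧
      IsInducedBlock M T B' B := by
  obtain ⟨χ, hχ, θ, hθ, hc⟩ := hcov
  obtain ⟨ψ, hψ, he⟩ := clifford_exists_le N θ.2 hNT (hT.inertia_le hM hb hθ) χ.2 hc
  have hcov' : ∃ φ ∈ blockOf M (ψ : T → ℂ), ∃ θ ∈ b, LiesOver hNT φ θ :=
    ⟨ψ, self_mem_blockOf hM ψ, θ, hθ, hψ⟩
  obtain ⟨B₁, hi, -, -, hmem⟩ := hT.exists_induced hNT hM hb (isPBlock_blockOf ψ) hcov'
  refine ⟨_, isPBlock_blockOf ψ, hcov', ?_⟩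
  rwa [isPBlock_eq_of_mem hM hi.2.1 hB ((hmem χ).2 ⟨ψ, self_mem_blockOf hM ψ, he.symm⟩) hχ] at hi

include hp in
/-- Defect numbers and heights are kept by the correspondence. -/
theorem IsBlockStab.defect_height (hT : IsBlockStab T b) (hNT : N ≤ T) (hM : IsPModular p M)
    (hb : IsPBlock M b) {B' : Set (IrrCharacter T)} (hB' : IsPBlock M B')
    (hcov : ∃ ψ ∈ B', ∃ θ ∈ b, LiesOver hNT ψ θ) {B : Set (IrrCharacter G)}
    (hind : IsInducedBlock M T B' B) :
    blockDefect p B = blockDefect p B' ∧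
      ∀ ψ ∈ B', ∃ χ ∈ B, (χ : G → ℂ) = indFun T (ψ : T → ℂ) ∧
        blockHeight p B (χ : G → ℂ) = blockHeight p B' (ψ : T → ℂ) := by
  obtain ⟨B₁, hi, -, hirr, hmem⟩ := hT.exists_induced hNT hM hb hB' hcov
  obtain rfl := isInducedBlock_unique hM hi hind
  set k := T.index.factorization p with hk
  have hd : ∀ ψ : IrrCharacter T, (charDegree (indFun T (ψ : T → ℂ))).factorization p =
      k + (charDegree (ψ : T → ℂ)).factorization p := fun ψ => by
    rw [charDegree_eq_of_apply_one (n := T.index * charDegree (ψ : T → ℂ))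
      (by rw [Char.indFun_apply_one, apply_one_eq_charDegree, Nat.cast_mul]),
      Nat.factorization_mul T.index_ne_zero_of_finite (charDegree_pos ψ).ne']
    rfl
  have himg : (fun χ : IrrCharacter G => (charDegree (χ : G → ℂ)).factorization p) '' B₁ =
      (fun n => k + n) '' ((fun ψ : IrrCharacter T => (charDegree (ψ : T → ℂ)).factorization p) '' B') := by
    ext n
    simp only [Set.mem_image, exists_exists_and_eq_and]
    constructor
    · rintro ⟨χ, hχ, rfl⟩
      obtain ⟨ψ, hψ, he⟩ := (hmem χ).1 hχ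
      exact ⟨ψ, hψ, by rw [he, hd]⟩
    · rintro ⟨ψ, hψ, rfl⟩
      exact ⟨⟨_, hirr ψ hψ⟩, (hmem _).2 ⟨ψ, hψ, rfl⟩, hd ψ⟩
  set S' := (fun ψ : IrrCharacter T => (charDegree (ψ : T → ℂ)).factorization p) '' B'
  have hne : S'.Nonempty := (nonempty_of_isPBlock hM hB').image _
  have hinf : sInf ((fun χ : IrrCharacter G => (charDegree (χ : G → ℂ)).factorization p) '' B₁) =
      k + sInf S' := by
    rw [himg]
    refine le_antisymm (Nat.sInf_le ⟨_, Nat.sInf_mem hne, rfl⟩) (le_csInf (hne.image _) ?_)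
    rintro _ ⟨n, hn, rfl⟩
    exact Nat.add_le_add_left (Nat.sInf_le hn) k
  constructor
  · simp only [blockDefect, hinf]
    rw [show (Nat.card G).factorization p = k + (Nat.card T).factorization p by
      rw [← Subgroup.index_mul_card T, Nat.factorization_mul T.index_ne_zero_of_finite
        Nat.card_pos.ne']; rfl]
    exact Nat.add_sub_add_left ..
  · intro ψ hψ
    refine ⟨⟨_, hirr ψ hψ⟩, (hmem _).2 ⟨ψ, hψ, rfl⟩, rfl, ?_⟩
    simp only [blockHeight, hinf, hd]
    exact Nat.add_sub_add_left ..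

include hp in
/-- Defect groups of a block of `T` covering `b` are defect groups of the induced block. -/
theorem IsBlockStab.defectGroup (hT : IsBlockStab T b) (hNT : N ≤ T) (hM : IsPModular p M)
    (hb : IsPBlock M b) {B' : Set (IrrCharacter T)} (hB' : IsPBlock M B')
    (hcov : ∃ ψ ∈ B', ∃ θ ∈ b, LiesOver hNT ψ θ) {B : Set (IrrCharacter G)}
    (hind : IsInducedBlock M T B' B) {D : Subgroup T} (hD : IsDefectGroup p M B' D) :
    IsDefectGroup p M B (D.map T.subtype) := by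
  obtain ⟨E, hE, hle⟩ := exists_defectGroup_ge hM hind hD
  have hcard : Nat.card E ≤ Nat.card (D.map T.subtype) := by
    rw [Subgroup.card_map_of_injective (Subgroup.subtype_injective _), card_defectGroup hM hB' hD,
      card_defectGroup hM hind.2.1 hE, (hT.defect_height hNT hM hb hB' hcov hind).1]
  rwa [Subgroup.eq_of_le_of_card_ge hle hcard]

end Correspondence

end Cfsg.Lib.Block
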