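import Cfsg.Agent.Lib.Block.CoverDefect
import Cfsg.Agent.Lib.Block.FongReynolds

/-!
# Every member of a covered block lies under the covering block
-/

set_option autoImplicit false
set_option linter.unusedSectionVars false
set_option maxHeartbeats 800000

namespace Cfsg.Lib.Block

open Cfsg
open scoped ComplexConjugate

universe u

variable {p : ℕ} [hp : Fact p.Prime] {M : Ideal AlgInt} {G : Type u} [Group G] [Fintype G]
  (N : Subgroup G) [hN : N.Normal] [Fintype N]

include hN in
/-- If the pieces of a central idempotent along the cosets sum to the identity, some loop is a unit. -/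
theorem exists_unit_loop (hM : IsPModular p M) {θ : IrrCharacter N} {ψ : IrrCharacter G} {e : ℂ}
    (hres : ∀ n : N, (ψ : G → ℂ) n = e * (θ : N → ℂ) n) {c : G → ℂ} (hc : IsClassFunction G c)
    (hint : ∀ g, c g ∈ locRing hM) (hsum : vec c ψ = 1) :
    ∃ y : G → ℂ, (∀ g, y g ∈ locRing hM) ∧
      (∀ (n : N) (g : G), y ((n : G) * g * (n : G)⁻¹) = y g) ∧ ∃ w : G ⧸ N,
      (∀ g : G, y g ≠ 0 → (g : G ⧸ N) = w) ∧
        IsClassFunction N (fun n : N => gconv c y n) ∧
        ¬ MemLocalIdeal M (vec (fun n : N => gconv c y n) θ) := by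
  classical
  by_contra hcon
  push Not at hcon
  obtain ⟨n₀, ρ, hirr, hρ⟩ := ψ.2
  haveI := hirr
  have hchar : ∀ g, ρ.character g = (ψ : G → ℂ) g := fun g => congrFun hρ g
  have hc1 : Char.averageOp ρ c = (1 : Module.End ℂ (Fin n₀ → ℂ)) := by
    have hd : ((Module.finrank ℂ (Fin n₀ → ℂ) : ℕ) : ℂ) = (ψ : G → ℂ) 1 := by
      rw [← hchar 1, Representation.char_one]
    have hv : (∑ g, c g * ρ.character g) / ((Module.finrank ℂ (Fin n₀ → ℂ) : ℕ) : ℂ) = 1 := by
      rw [hd]; simp only [hchar]; exact hsum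
    rw [Char.averageOp_irreducible ρ hc, hv, one_smul]
    rfl
  set cu : G ⧸ N → G → ℂ := fun u g => if (g : G ⧸ N) = u then c g else 0 with hcu
  have hmk : ∀ (n : N) (g : G), (((n : G) * g * (n : G)⁻¹ : G) : G ⧸ N) = (g : G ⧸ N) := fun n g => by
    simp [(QuotientGroup.eq_one_iff (n : G)).2 n.2]
  let Coset : G ⧸ N → (G → ℂ) → Prop := fun u f =>
    (∀ g, f g ∈ locRing hM) ∧ (∀ (n : N) (g : G), f ((n : G) * g * (n : G)⁻¹) = f g) ∧
      ∀ g : G, f g ≠ 0 → (g : G ⧸ N) = u
  have hconv : ∀ u w f f', Coset u f → Coset w f' → Coset (u * w) (gconv f f') := by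
    intro u w f f' hf hf'
    refine ⟨fun g => Subring.sum_mem _ fun x _ => Subring.mul_mem _ (hf.1 x) (hf'.1 _),
      fun n g => ?_, fun g hg => ?_⟩
    · refine (Fintype.sum_equiv (MulAut.conj (n : G)).toEquiv _ _ fun x => ?_).symm
      show f x * f' (x⁻¹ * g) = f ((n : G) * x * (n : G)⁻¹) *
        f' (((n : G) * x * (n : G)⁻¹)⁻¹ * ((n : G) * g * (n : G)⁻¹))
      rw [hf.2.1, show ((n : G) * x * (n : G)⁻¹)⁻¹ * ((n : G) * g * (n : G)⁻¹) =
        (n : G) * (x⁻¹ * g) * (n : G)⁻¹ by group, hf'.2.1]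
    · obtain ⟨x, -, hx⟩ := Finset.exists_ne_zero_of_sum_ne_zero hg
      rw [← hf.2.2 x (left_ne_zero_of_mul hx), ← hf'.2.2 _ (right_ne_zero_of_mul hx),
        ← QuotientGroup.mk_mul, mul_inv_cancel_left]
  have hCu : ∀ u, Coset u (cu u) := fun u => ⟨fun g => by
      simp only [hcu]; split_ifs
      exacts [hint g, Subring.zero_mem _],
    fun n g => by simp only [hcu, hmk n g, hc g (n : G)],
    fun g hg => by
      by_contra hn
      exact hg (by simp [hcu, hn])⟩
  haveI := Fintype.ofFinite (G ⧸ N)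
  set X : G ⧸ N → Module.End ℂ (Fin n₀ → ℂ) := fun u => Char.averageOp ρ (cu u) with hX
  have hdelta : Coset 1 (fun g : G => if g = 1 then (1 : ℂ) else 0) := by
    refine ⟨fun g => ?_, fun n g => ?_, fun g hg => ?_⟩
    · dsimp only; split_ifs
      exacts [Subring.one_mem _, Subring.zero_mem _]
    · simp only [conj_eq_one_iff]
    · by_cases h : g = 1
      · subst h; rfl
      · simp [h] at hg
  have hword : ∀ l : List (G ⧸ N), ∃ f, Coset l.prod f ∧
      Char.averageOp ρ f = (l.map X).prod := by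
    intro l
    induction l with
    | nil => exact ⟨_, hdelta, by simpa using averageOp_delta ρ⟩
    | cons u s ih =>
      obtain ⟨f, hf, he⟩ := ih
      refine ⟨gconv (cu u) f, by simpa using hconv _ _ _ _ (hCu u) hf, ?_⟩
      rw [averageOp_gconv, he, List.map_cons, List.prod_cons]
  haveI : IsLocalRing (locRing hM) := by
    refine IsLocalRing.of_nonunits_add fun y z hy hz hyz => ?_
    have hy' : y ∈ locIdeal hM := not_not.1 fun h => hy (isUnit_of_not_mem_locIdeal hM h)
    have hz' : z ∈ locIdeal hM := not_not.1 fun h => hz (isUnit_of_not_mem_locIdeal hM h)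
    exact locIdeal_ne_top hM (Ideal.eq_top_of_isUnit_mem _ (Ideal.add_mem _ hy' hz') hyz)
  set Γ : Submodule (locRing hM) ℂ :=
    Submodule.span (locRing hM) (Set.range (ψ : G → ℂ)) with hΓ
  have hval : ∀ g, (ψ : G → ℂ) g ∈ Γ := fun g => Submodule.subset_span ⟨g, rfl⟩
  have htrInt : ∀ (f : G → ℂ) (g : G), (∀ k, f k ∈ locRing hM) →
      LinearMap.trace ℂ _ ((ρ g : Module.End ℂ (Fin n₀ → ℂ)) * Char.averageOp ρ f) ∈ Γ := by
    intro f g hf
    rw [trace_averageOp]
    refine Submodule.sum_mem _ fun k _ => ?_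
    rw [hchar]
    exact Γ.smul_mem (⟨f k, hf k⟩ : locRing hM) (hval _)
  let Small : Module.End ℂ (Fin n₀ → ℂ) → Prop := fun Z => ∀ g : G,
    LinearMap.trace ℂ _ ((ρ g : Module.End ℂ (Fin n₀ → ℂ)) * Z) ∈ locIdeal hM • Γ
  have hloop : ∀ (u w : G ⧸ N) (y : G → ℂ), Coset w y → u * w = 1 →
      ∃ ω : locRing hM, ω ∈ locIdeal hM ∧
        X u * Char.averageOp ρ y = (ω : ℂ) • (1 : Module.End ℂ (Fin n₀ → ℂ)) := by
    intro u w y hy huw
    set z := gconv (cu u) y with hz
    have hCz : Coset 1 z := huw ▸ hconv _ _ _ _ (hCu u) hy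
    have hzN : ∀ g, g ∉ N → z g = 0 := fun g hg => by
      by_contra hn
      exact hg ((QuotientGroup.eq_one_iff g).1 (hCz.2.2 g hn))
    have hzc : IsClassFunction N (fun n : N => z n) := fun n k => hCz.2.1 k (n : G)
    have hzi : ∀ n : N, z n ∈ locRing hM := fun n => hCz.1 n
    have hop : X u * Char.averageOp ρ y =
        vec (fun n : N => z n) θ • (1 : Module.End ℂ (Fin n₀ → ℂ)) := by
      rw [hX]; dsimp only
      rw [← averageOp_gconv, ← hz, averageOp_restrict ρ hzN,
        averageOp_isotypic (ρ.comp N.subtype) (θ := θ) (e := e)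
          (fun n => (hchar n).trans (hres n)) hzc]
    have heq : (fun n : N => gconv c y n) = fun n : N => z n := funext fun n => by
      simp only [hz, gconv]
      refine Finset.sum_congr rfl fun a _ => ?_
      by_cases ha : (a : G ⧸ N) = u
      · simp [hcu, ha]
      · have : y (a⁻¹ * (n : G)) = 0 := by
          by_contra hn
          have h1 := hy.2.2 _ hn
          rw [QuotientGroup.mk_mul, (QuotientGroup.eq_one_iff (n : G)).2 n.2, mul_one,
            QuotientGroup.mk_inv] at h1
          exact ha (inv_injective (h1.trans (eq_inv_of_mul_eq_one_right huw)))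
        simp [this]
    refine ⟨⟨vec (fun n : N => z n) θ, apply_mem_locRing hM (vInt_vec (hM := hM) hzc hzi) θ⟩,
      ?_, hop⟩
    show MemLocalIdeal M (vec (fun n : N => z n) θ)
    rw [← heq]
    exact hcon y hy.1 hy.2.1 w hy.2.2 (heq ▸ hzc)
  set T : Module.End ℂ (Fin n₀ → ℂ) := ∑ u, X u with hT
  have hT1 : T = 1 := by
    rw [hT, hX, ← averageOp_sum, ← hc1]
    congr 1
    funext g
    simp [Finset.sum_apply, hcu]
  have hone : Small 1 := by
    rw [← one_pow (Nat.card (G ⧸ N)), ← hT1]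
    refine sum_pow_induction X _ Small (fun g => by simp) (fun A B hA hB g => ?_) fun l hl => ?_
    · rw [mul_add, map_add]; exact Submodule.add_mem _ (hA g) (hB g)
    obtain ⟨a₀, s, t, u, rfl, hus⟩ := list_loop l hl.ge
    obtain ⟨y, hy, hye⟩ := hword s
    obtain ⟨ω, hω, hωe⟩ := hloop u s.prod y hy hus
    obtain ⟨fa, hfa, hfae⟩ := hword a₀
    obtain ⟨ft, hft, hfte⟩ := hword t
    intro g
    rw [List.map_append, List.map_append, List.map_cons, List.prod_append, List.prod_append,
      List.prod_cons, ← hye, hωe, ← hfae, ← hfte, mul_smul_comm, mul_one, smul_mul_assoc,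
      mul_smul_comm, map_smul, ← averageOp_gconv]
    exact Submodule.smul_mem_smul hω
      (htrInt _ g fun k => Subring.sum_mem _ fun r _ => Subring.mul_mem _ (hfa.1 r) (hft.1 _))
  have hΓ0 : Γ = ⊥ := by
    refine Submodule.eq_bot_of_le_smul_of_le_jacobson_bot (locIdeal hM) Γ
      (Submodule.fg_span (Set.finite_range _)) ?_ ?_
    · refine Submodule.span_le.2 ?_
      rintro _ ⟨g, rfl⟩
      have := hone g
      rwa [mul_one, show LinearMap.trace ℂ _ (ρ g) = (ψ : G → ℂ) g from hchar g] at this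
    · intro y hy
      refine Ideal.mem_jacobson_bot.2 fun z => isUnit_of_not_mem_locIdeal hM fun h => ?_
      refine locIdeal_ne_top hM ((Ideal.eq_top_iff_one _).2 ?_)
      simpa using Ideal.sub_mem _ h (Ideal.mul_mem_right z _ hy)
  exact ψ.2.apply_one_ne_zero ((Submodule.mem_bot (R := locRing hM)).1 (hΓ0 ▸ hval 1))

/-- Characters not over `θ` are orthogonal to every translate of `θ`. -/
theorem sum_shift_eq_zero_of_not_over {χ : IrrCharacter G} {θ : IrrCharacter N}
    (h : classInner (fun n : N => (χ : G → ℂ) n) (θ : N → ℂ) = 0) (x : G) :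
    ∑ m : N, (θ : N → ℂ) m * (χ : G → ℂ) (x * (m : G)⁻¹) = 0 := by
  classical
  obtain ⟨k, ρ, -, hρ⟩ := χ.2
  have hρ' : ∀ g, ρ.character g = (χ : G → ℂ) g := fun g => congrFun hρ g
  set f : N → ℂ := fun m => (θ : N → ℂ) m⁻¹ with hf
  have hfc : IsClassFunction N f := fun m s => by
    simp only [hf]
    rw [show (s * m * s⁻¹)⁻¹ = s * m⁻¹ * s⁻¹ by group, θ.2.isClassFunction]
  have hop : Char.averageOp (ρ.comp N.subtype) f = 0 := by
    rw [← show zc (vec f) = f from funext (zc_vec hfc),
      averageOp_zc_congr (ρ.comp N.subtype) (w := 0) fun η hη => ?_,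
      show zc (0 : IrrCharacter N → ℂ) = 0 from funext fun m => zc_zero m]
    · simp [Char.averageOp]
    · show vec f η = 0
      have hne : η ≠ θ := fun he => by
        rw [he, show Representation.character (ρ.comp N.subtype) = fun m : N => (χ : G → ℂ) m from
          funext fun m => hρ' m] at hη
        exact hη h
      have h0 := Char.classInner_irr_ne η.2 θ.2 fun he => hne (Subtype.ext he)
      rw [classInner, mul_eq_zero, or_iff_right (inv_ne_zero Char.card_cast_ne_zero)] at h0
      rw [vec, div_eq_zero_iff]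
      left
      rw [← h0]
      refine Finset.sum_congr rfl fun m _ => ?_
      simp only [hf, θ.2.isCharacter.apply_inv]
      ring
  set F : G → ℂ := extendByZero N f with hF
  have hFop : Char.averageOp ρ F = 0 := by
    rw [averageOp_restrict ρ (H := N) fun g hg => Char.extendByZero_of_notMem N f hg,
      show (fun m : N => F m) = f from funext fun m => Char.extendByZero_coe N f m, hop]
  have h2 := trace_averageOp ρ F x
  rw [hFop, mul_zero, map_zero] at h2
  rw [Finset.sum_congr rfl (g := fun m : N => f m⁻¹ * (χ : G → ℂ) (x * ((m⁻¹ : N) : G)))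
    fun m _ => by simp [hf]]
  rw [← Equiv.sum_comp (Equiv.inv N)]
  simp only [Equiv.inv_apply, inv_inv]
  rw [← Char.sum_extendByZero N f fun g => (χ : G → ℂ) (x * g)]
  rw [h2]
  exact Finset.sum_congr rfl fun g _ => by rw [hρ']

include hN in
/-- Every member of a covered block is a constituent of some member of the covering block. -/
theorem exists_over_of_covered (hM : IsPModular p M) {b : Set (IrrCharacter N)}
    (hb : IsPBlock M b) {B : Set (IrrCharacter G)} (hB : IsPBlock M B)
    (hcov : ∃ χ ∈ B, ∃ θ ∈ b, classInner (fun n : N => (χ : G → ℂ) n) (θ : N → ℂ) ≠ 0)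
    {θ : IrrCharacter N} (hθ : θ ∈ b) :
    ∃ χ ∈ B, classInner (fun n : N => (χ : G → ℂ) n) (θ : N → ℂ) ≠ 0 := by
  classical
  by_contra hno
  push Not at hno
  obtain ⟨χ, hχ, θ₀, hθ₀, hc₀⟩ := hcov
  set I := Char.inertia N (θ₀ : N → ℂ) with hI
  haveI := Fintype.ofFinite I
  have hNI : N ≤ I := Char.le_inertia N θ₀.2.isClassFunction
  obtain ⟨ψ, hψθ, hψχ⟩ := clifford_exists_le N θ₀.2 hNI le_rfl χ.2 hc₀
  haveI : (N.subgroupOf I).Normal := hN.subgroupOf I
  haveI := Fintype.ofFinite (N.subgroupOf I)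
  set e := Subgroup.subgroupOfEquivOfLe hNI with he
  have hres := Char.res_eq_smul N θ₀.2 hNI rfl ψ.2 hψθ
  set c : I → ℂ := fun t => zc (indVec B) (t : G) with hcdef
  have hccl : IsClassFunction I c := fun t k => zc_conj_invariant (indVec B) (t : G) (k : G)
  have hcint : ∀ t, c t ∈ locRing hM := fun t => vInt_indVec hM hB (t : G)
  have hsum : vec c ψ = 1 := by
    have h1 := congrFun (vec_zc (indVec B)) χ
    rw [indVec, if_pos hχ] at h1
    have h2 : ∑ g : G, zc (indVec B) g * (χ : G → ℂ) g =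
        (I.index : ℂ) * ∑ t : I, c t * (ψ : I → ℂ) t := by
      rw [← hψχ]
      simp only [indFun, Finset.mul_sum]
      rw [Finset.sum_comm]
      have h3 : ∀ x : G, ∑ g : G, zc (indVec B) g * ((Nat.card I : ℂ)⁻¹ *
          extendByZero I (ψ : I → ℂ) (x⁻¹ * g * x)) =
          (Nat.card I : ℂ)⁻¹ * ∑ t : I, c t * (ψ : I → ℂ) t := by
        intro x
        rw [Finset.sum_congr rfl (g := fun t : I => (ψ : I → ℂ) t * zc (indVec B) (t : G))
          fun t _ => mul_comm _ _, ← Char.sum_extendByZero I (ψ : I → ℂ) (zc (indVec B)),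
          Finset.mul_sum]
        refine (Fintype.sum_equiv (MulAut.conj x).toEquiv _ _ fun g => ?_).symm
        simp only [MulEquiv.toEquiv_eq_coe, EquivLike.coe_coe, MulAut.conj_apply,
          zc_conj_invariant]
        rw [show x⁻¹ * (x * g * x⁻¹) * x = g by group]
        ring
      rw [Finset.sum_congr rfl (fun x _ => h3 x), Finset.sum_const, Finset.card_univ,
        ← Nat.card_eq_fintype_card, nsmul_eq_mul, ← Subgroup.index_mul_card I, ← Finset.mul_sum]
      have hI0 : (Nat.card I : ℂ) ≠ 0 := by exact_mod_cast Nat.card_pos.ne'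
      push_cast
      field_simp
    unfold vec at h1 ⊢
    rw [h2, ← hψχ, Char.indFun_apply_one,
      mul_div_mul_left _ _ (by exact_mod_cast I.index_ne_zero_of_finite)] at h1
    exact h1
  obtain ⟨y, hyi, -, w, -, hzc, hbad⟩ := exists_unit_loop (N.subgroupOf I) hM
    (θ := compIrr e θ₀) (ψ := ψ)
    (e := classInner (fun n : N => (ψ : I → ℂ) ⟨n, hNI n.2⟩) (θ₀ : N → ℂ))
    (fun x => congrFun hres (e x)) hccl hcint hsum
  set z : N.subgroupOf I → ℂ := fun n => gconv c y n with hz
  have hzi : ∀ n, z n ∈ locRing hM := fun n =>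
    Subring.sum_mem _ fun a _ => Subring.mul_mem _ (hcint a) (hyi _)
  have hzero : vec z (compIrr e θ) = 0 := by
    rw [vec, div_eq_zero_iff]
    left
    simp only [hz, gconv, Finset.sum_mul]
    rw [Finset.sum_comm]
    conv_lhs => enter [2, a]; rw [show (∑ n : N.subgroupOf I, c a * y (a⁻¹ * (n : I)) *
      (compIrr e θ : N.subgroupOf I → ℂ) n) = ∑ k : I, c a * y k *
        extendByZero (N.subgroupOf I) (compIrr e θ : N.subgroupOf I → ℂ) (a * k) by
      rw [Finset.sum_congr rfl (g := fun n : N.subgroupOf I =>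
          (compIrr e θ : N.subgroupOf I → ℂ) n * (c a * y (a⁻¹ * (n : I)))) fun n _ => mul_comm _ _,
        ← Char.sum_extendByZero (N.subgroupOf I) (compIrr e θ : N.subgroupOf I → ℂ)
          (fun g => c a * y (a⁻¹ * g))]
      refine (Fintype.sum_equiv (Equiv.mulLeft a) _ _ fun k => ?_).symm
      simp [mul_comm]]
    rw [Finset.sum_comm]
    refine Finset.sum_eq_zero fun k _ => ?_
    rw [show ∑ a : I, c a * y k * extendByZero (N.subgroupOf I) (compIrr e θ : N.subgroupOf I → ℂ)
        (a * k) = y k * ∑ a : I, c a *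
          extendByZero (N.subgroupOf I) (compIrr e θ : N.subgroupOf I → ℂ) (a * k) by
      rw [Finset.mul_sum]; exact Finset.sum_congr rfl fun a _ => by ring]
    refine mul_eq_zero_of_right _ ?_
    have h1 : ∑ a : I, c a *
        extendByZero (N.subgroupOf I) (compIrr e θ : N.subgroupOf I → ℂ) (a * k) =
        ∑ m : N, (θ : N → ℂ) m * zc (indVec B) ((m : G) * (k : G)⁻¹) := by
      rw [← Equiv.sum_comp (Equiv.mulRight k⁻¹),
        Finset.sum_congr rfl (g := fun g : I => extendByZero (N.subgroupOf I)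
          (compIrr e θ : N.subgroupOf I → ℂ) g * c (g * k⁻¹)) fun g _ => by simp [mul_comm],
        Char.sum_extendByZero (N.subgroupOf I) (compIrr e θ : N.subgroupOf I → ℂ)
          (fun g => c (g * k⁻¹))]
      refine Fintype.sum_equiv e.toEquiv _ _ fun m => ?_
      simp [hcdef, he, compIrr_apply, Subgroup.subgroupOfEquivOfLe]
    rw [h1]
    simp only [zc, Finset.mul_sum]
    rw [Finset.sum_comm]
    refine Finset.sum_eq_zero fun η _ => ?_
    by_cases hη : η ∈ B
    · have h0 := sum_shift_eq_zero_of_not_over N (hno η hη) (k : G)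
      rw [show ∑ m : N, (θ : N → ℂ) m * ((Nat.card G : ℂ)⁻¹ *
          (indVec B η * (η : G → ℂ) 1 * (η : G → ℂ) ((m : G) * (k : G)⁻¹)⁻¹)) =
          (Nat.card G : ℂ)⁻¹ * indVec B η * (η : G → ℂ) 1 *
            ∑ m : N, (θ : N → ℂ) m * (η : G → ℂ) ((k : G) * (m : G)⁻¹) by
        rw [Finset.mul_sum]
        refine Finset.sum_congr rfl fun m _ => ?_
        rw [mul_inv_rev, inv_inv]
        ring, h0, mul_zero]
    · simp [indVec, hη]
  refine hbad ?_
  have hsame : SameBlock M (compIrr e θ₀ : N.subgroupOf I → ℂ) (compIrr e θ : N.subgroupOf I → ℂ) :=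
    (sameBlock_compIrr e θ₀ θ).2 (sameBlock_of_mem hM hb hθ₀ hθ)
  have hd : MemLocalIdeal M (vec z (compIrr e θ₀) - vec z (compIrr e θ)) :=
    apply_sub_apply_mem hM (vInt_vec (hM := hM) hzc hzi) hsame
  rw [hzero, sub_zero] at hd
  exact hd

end Cfsg.Lib.Block
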