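import Cfsg.Agent.Lib.Block.CoverBasics
import Cfsg.Agent.Lib.Block.DefectLocal
import Cfsg.Agent.Lib.Block.Indep
import Mathlib.RingTheory.Nakayama

/-!
# Defect classes of a block and the defect groups of the blocks it covers

If an irreducible character `ψ` restricts to a multiple of a member `θ` of the block `b` of the
normal subgroup `N` and the central element with integral coefficients `c` is the identity at `ψ`,
then some element whose coefficient is a unit centralises a defect group of `b`.
-/

set_option autoImplicit false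
set_option linter.unusedSectionVars false
set_option maxHeartbeats 800000

namespace Cfsg.Lib.Block

open Cfsg
open scoped ComplexConjugate

universe u v

/-! ## Operators of functions -/

section Ops

variable {G : Type u} [Group G] [Fintype G] {V : Type v} [AddCommGroup V] [Module ℂ V]
  (ρ : Representation ℂ G V)

/-- Convolution. -/
noncomputable def gconv (f f' : G → ℂ) : G → ℂ := fun x => ∑ a, f a * f' (a⁻¹ * x)

theorem averageOp_gconv (f f' : G → ℂ) :
    Char.averageOp ρ (gconv f f') = (Char.averageOp ρ f : Module.End ℂ V) * Char.averageOp ρ f' := by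
  refine LinearMap.ext fun v => ?_
  rw [Module.End.mul_apply, Char.averageOp_apply, Char.averageOp_apply]
  simp only [gconv, Finset.sum_smul]
  rw [Finset.sum_comm]
  refine Finset.sum_congr rfl fun a _ => ?_
  rw [Char.averageOp_apply, map_sum, Finset.smul_sum]
  refine (Fintype.sum_equiv (Equiv.mulLeft a) _ _ fun k => ?_).symm
  simp [map_smul, smul_smul, map_mul]

theorem averageOp_add (f f' : G → ℂ) :
    Char.averageOp ρ (f + f') = Char.averageOp ρ f + Char.averageOp ρ f' := by
  simp [Char.averageOp, add_smul, Finset.sum_add_distrib]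

theorem averageOp_sub (f f' : G → ℂ) :
    Char.averageOp ρ (f - f') = Char.averageOp ρ f - Char.averageOp ρ f' := by
  simp [Char.averageOp, sub_smul, Finset.sum_sub_distrib]

theorem averageOp_sum {ι : Type*} (s : Finset ι) (f : ι → G → ℂ) :
    Char.averageOp ρ (∑ i ∈ s, f i) = ∑ i ∈ s, Char.averageOp ρ (f i) := by
  classical
  induction s using Finset.induction_on with
  | empty => simp [Char.averageOp]
  | insert i s hi ih => rw [Finset.sum_insert hi, Finset.sum_insert hi, averageOp_add, ih]

theorem averageOp_smul (c : ℂ) (f : G → ℂ) :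
    Char.averageOp ρ (c • f) = c • Char.averageOp ρ f := by
  simp [Char.averageOp, mul_smul, Finset.smul_sum]

theorem averageOp_delta [DecidableEq G] :
    Char.averageOp ρ (fun g => if g = 1 then 1 else 0) = (1 : Module.End ℂ V) := by
  simp [Char.averageOp, ite_smul]

/-- A function supported on a subgroup acts through the restriction. -/
theorem averageOp_restrict {H : Subgroup G} [Fintype H] {f : G → ℂ}
    (hf : ∀ g, g ∉ H → f g = 0) :
    Char.averageOp ρ f = Char.averageOp (ρ.comp H.subtype) (fun h : H => f h) := by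
  classical
  unfold Char.averageOp
  rw [← Finset.sum_filter_of_ne (p := (· ∈ H)) (s := Finset.univ) fun g _ hg => by
    by_contra hn; exact hg (by rw [hf g hn, zero_smul])]
  exact Finset.sum_subtype _ (by simp) fun g => f g • ρ g

theorem trace_averageOp [FiniteDimensional ℂ V] (f : G → ℂ) (g : G) :
    LinearMap.trace ℂ V ((ρ g : Module.End ℂ V) * Char.averageOp ρ f) =
      ∑ k, f k * ρ.character (g * k) := by
  simp only [Char.averageOp, Finset.mul_sum, map_sum, mul_smul_comm, map_smul, smul_eq_mul,
    ← map_mul]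
  rfl

/-- On a representation the operator of a central element only sees the constituents. -/
theorem averageOp_zc_congr [FiniteDimensional ℂ V] {v w : IrrCharacter G → ℂ}
    (h : ∀ η : IrrCharacter G, classInner ρ.character (η : G → ℂ) ≠ 0 → v η = w η) :
    Char.averageOp ρ (zc v) = Char.averageOp ρ (zc w) := by
  classical
  have hzero : ∀ η : IrrCharacter G, classInner ρ.character (η : G → ℂ) = 0 →
      Char.averageOp ρ (zc (Pi.single η 1)) = 0 := by
    intro η hη
    set E : Module.End ℂ V := Char.averageOp ρ (zc (Pi.single η 1)) with hE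
    have hidem : IsIdempotentElem E := by
      show E * E = E
      rw [hE, ← averageOp_gconv]
      congr 1
      funext g
      rw [gconv, ← zc_mul]
      congr 1
      funext χ
      by_cases hχ : χ = η
      · subst hχ; simp
      · simp [hχ]
    have htr : LinearMap.trace ℂ V E = 0 := by
      have h1 := trace_averageOp ρ (zc (Pi.single η 1)) 1
      rw [map_one, one_mul] at h1
      rw [hE, h1]
      simp only [one_mul]
      rw [Char.eq_sum_classInner (f := ρ.character) fun x k => ρ.char_conj x k]
      simp only [Finset.sum_apply, Pi.smul_apply, smul_eq_mul, Finset.mul_sum]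
      rw [Finset.sum_comm]
      refine Finset.sum_eq_zero fun χ _ => ?_
      by_cases hχ : χ = η
      · subst hχ
        simp [hη]
      · have h2 := sum_zc_mul (Pi.single η 1 : IrrCharacter G → ℂ) χ
        rw [Pi.single_eq_of_ne hχ, div_eq_zero_iff, or_iff_left χ.2.apply_one_ne_zero] at h2
        simp_rw [mul_left_comm]
        rw [← Finset.mul_sum, h2, mul_zero]
    have hproj := LinearMap.isProj_range_iff_isIdempotentElem E |>.2 hidem
    rw [hproj.trace, Nat.cast_eq_zero, Submodule.finrank_eq_zero, LinearMap.range_eq_bot] at htr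
    exact htr
  have key : ∀ u : IrrCharacter G → ℂ,
      Char.averageOp ρ (zc u) = ∑ η, u η • Char.averageOp ρ (zc (Pi.single η 1)) := by
    intro u
    have e : zc u = ∑ η, u η • zc (Pi.single η 1) := by
      funext g
      rw [Finset.sum_apply]
      simp only [Pi.smul_apply, smul_eq_mul]
      rw [← Finset.sum_congr rfl fun η _ => zc_smul (u η) (Pi.single η 1) g, ← zc_sum]
      congr 1
      funext χ
      simp [Finset.sum_apply, Pi.single_apply]
    rw [e, averageOp_sum]
    exact Finset.sum_congr rfl fun η _ => averageOp_smul ρ _ _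
  rw [key, key]
  refine Finset.sum_congr rfl fun η _ => ?_
  by_cases hη : classInner ρ.character (η : G → ℂ) = 0
  · rw [hzero η hη, smul_zero, smul_zero]
  · rw [h η hη]

/-- Central elements act on an isotypic representation by scalars. -/
theorem averageOp_isotypic [FiniteDimensional ℂ V] {θ : IrrCharacter G} {e : ℂ}
    (hρ : ∀ g, ρ.character g = e * (θ : G → ℂ) g) {f : G → ℂ} (hf : IsClassFunction G f) :
    Char.averageOp ρ f = vec f θ • (1 : Module.End ℂ V) := by
  classical
  have hz : zc (vec f) = f := funext (zc_vec hf)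
  have h1 : ∀ η : IrrCharacter G, classInner ρ.character (η : G → ℂ) ≠ 0 →
      vec f η = ((vec f θ) • (1 : IrrCharacter G → ℂ)) η := by
    intro η hη
    have : η = θ := by
      by_contra hne
      refine hη ?_
      rw [show ρ.character = e • (θ : G → ℂ) from funext hρ, Char.classInner_smul_left,
        Char.classInner_irr_ne θ.2 η.2 fun h => hne (Subtype.ext h.symm), mul_zero]
    subst this
    simp
  rw [← hz, averageOp_zc_congr ρ h1, hz]
  rw [show zc ((vec f θ) • (1 : IrrCharacter G → ℂ)) =
      (vec f θ) • fun g : G => if g = 1 then (1 : ℂ) else 0 from funext fun g => by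
    rw [zc_smul, zc_one]; rfl, averageOp_smul, averageOp_delta]

end Ops

/-! ## Sums over orbits -/

section OrbitSum

variable {p : ℕ} [hp : Fact p.Prime] {M : Ideal AlgInt}

/-- An invariant sum whose orbits are highly divisible is small after division. -/
theorem orbit_sum_mem (hM : IsPModular p M) {K : Type*} [Group K] [Finite K] {X : Type*}
    [Fintype X] [MulAction K X] (F : X → ℂ) (hinv : ∀ (k : K) x, F (k • x) = F x)
    (hint : ∀ x, F x ∈ locRing hM) {m : ℕ} (hm : m ≠ 0)
    (h : ∀ x, F x ≠ 0 → (Nat.card (MulAction.stabilizer K x)).factorization p + m.factorization p <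
      (Nat.card K).factorization p) :
    MemLocalIdeal M ((∑ x, F x) / m) := by
  classical
  haveI := Fintype.ofFinite (MulAction.orbitRel.Quotient K X)
  rw [← Finset.sum_fiberwise Finset.univ (fun x => (Quotient.mk'' x : MulAction.orbitRel.Quotient K X)),
    Finset.sum_div]
  refine memLocalIdeal_sum hM _ _ fun q _ => ?_
  obtain ⟨x, rfl⟩ := Quotient.mk''_surjective q
  have hmem : ∀ y : X, y ∈ Finset.univ.filter (fun z =>
      (Quotient.mk'' z : MulAction.orbitRel.Quotient K X) = Quotient.mk'' x) ↔
      y ∈ MulAction.orbit K x := by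
    intro y
    rw [Finset.mem_filter, Quotient.eq'', MulAction.orbitRel_apply]
    exact and_iff_right (Finset.mem_univ y)
  rw [Finset.sum_congr rfl (g := fun _ => F x) fun y hy => by
    obtain ⟨k, rfl⟩ := (hmem y).1 hy
    exact hinv k x, Finset.sum_const, nsmul_eq_mul]
  rcases eq_or_ne (F x) 0 with h0 | h0
  · rw [h0, mul_zero, zero_div]; exact memLocalIdeal_zero hM
  set S := Finset.univ.filter (fun z =>
      (Quotient.mk'' z : MulAction.orbitRel.Quotient K X) = Quotient.mk'' x) with hS
  have hcard : S.card * Nat.card (MulAction.stabilizer K x) = Nat.card K := by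
    rw [show S.card = Nat.card (MulAction.orbit K x) by
      rw [← Nat.card_eq_finsetCard]
      exact Nat.card_congr (Equiv.subtypeEquivRight hmem),
      ← Nat.card_prod]
    exact Nat.card_congr (MulAction.orbitProdStabilizerEquivGroup K x)
  have ho : S.card ≠ 0 := fun h' => by rw [h', zero_mul] at hcard; exact Nat.card_pos.ne hcard
  have hv : m.factorization p < S.card.factorization p := by
    have := congrArg (fun n => n.factorization p) hcard
    simp only [Nat.factorization_mul ho Nat.card_pos.ne', Finsupp.add_apply] at this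
    have := h x h0
    omega
  set a := m.factorization p
  set m' := m / p ^ a with hm'
  have hm1 : p ^ a * m' = m := Nat.ordProj_mul_ordCompl_eq_self m p
  have hm2 : ¬ p ∣ m' := Nat.not_dvd_ordCompl hp.out hm
  obtain ⟨o', ho'⟩ : p ^ (a + 1) ∣ S.card :=
    (pow_dvd_pow p hv).trans (Nat.ordProj_dvd S.card p)
  have hp0 : (p : ℂ) ≠ 0 := by exact_mod_cast hp.out.ne_zero
  have hm0 : (m' : ℂ) ≠ 0 := by
    exact_mod_cast fun h' : m' = 0 => hm (by rw [← hm1, h', mul_zero])
  rw [show (S.card : ℂ) * F x / (m : ℂ) = (p : ℂ) * ((o' : ℂ) * (m' : ℂ)⁻¹ * F x) by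
    rw [ho', ← hm1]
    push_cast
    rw [pow_succ]
    field_simp]
  exact memLocalIdeal_mul_right hM ((memLocalIdeal_natCast_iff hM p).2 dvd_rfl)
    (Subring.mul_mem _ (Subring.mul_mem _ (natCast_mem_locRing hM _)
      (inv_natCast_mem_locRing hM hm2)) (hint x))

end OrbitSum

/-! ## Words -/

section Words

theorem list_loop {U : Type*} [Group U] [Finite U] (l : List U) (h : Nat.card U ≤ l.length) :
    ∃ a s c : List U, ∃ u : U, l = a ++ (u :: s) ++ c ∧ u * s.prod = 1 := by
  classical
  haveI := Fintype.ofFinite U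
  obtain ⟨i, j, hne, he⟩ := Fintype.exists_ne_map_eq_of_card_lt
    (fun i : Fin (l.length + 1) => (l.take i).prod)
    (by rw [Fintype.card_fin, ← Nat.card_eq_fintype_card]; omega)
  wlog hlt : (i : ℕ) < j generalizing i j
  · exact this j i (Ne.symm hne) he.symm (lt_of_le_of_ne (not_lt.1 hlt) fun h' => hne (Fin.ext h'.symm))
  set mid := (l.take j).drop i with hmid
  have h1 : l.take j = l.take i ++ mid := by
    conv_lhs => rw [← List.take_append_drop i (l.take j)]
    rw [List.take_take, min_eq_left hlt.le]
  have hprod : mid.prod = 1 := by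
    have := he
    rw [h1, List.prod_append] at this
    exact left_eq_mul.1 this
  have hlen : mid.length = (j : ℕ) - i := by
    rw [hmid, List.length_drop, List.length_take]
    have := j.2
    omega
  cases hm : mid with
  | nil => rw [hm, List.length_nil] at hlen; omega
  | cons u s =>
    refine ⟨l.take i, s, l.drop j, u, ?_, by rw [← List.prod_cons, ← hm, hprod]⟩
    rw [← hm, ← h1, List.take_append_drop]

/-- Expanding a power of a sum into words. -/
theorem sum_pow_induction {A : Type*} [Semiring A] {U : Type*} [Fintype U] (X : U → A) :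
    ∀ (m : ℕ) (P : A → Prop), P 0 → (∀ x y, P x → P y → P (x + y)) →
      (∀ l : List U, l.length = m → P (l.map X).prod) → P ((∑ u, X u) ^ m) := by
  intro m
  induction m with
  | zero =>
    intro P _ _ hl
    rw [pow_zero]
    simpa using hl [] rfl
  | succ m ih =>
    intro P h0 hadd hl
    rw [pow_succ, Finset.mul_sum]
    refine Finset.sum_induction _ P hadd h0 fun u _ => ?_
    refine ih (fun z => P (z * X u)) (by simpa using h0) (fun x y hx hy => ?_) fun l hlen => ?_
    · rw [add_mul]; exact hadd _ _ hx hy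
    · simpa using hl (l ++ [u]) (by simp [hlen])

end Words

/-! ## The main lemma -/

section Main

variable {p : ℕ} [hp : Fact p.Prime] {M : Ideal AlgInt} {G : Type u} [Group G] [Fintype G]
  (N : Subgroup G) [hN : N.Normal] [Fintype N]

/-- A unit-coefficient element centralises a defect group of the block below. -/
theorem exists_defect_centralized (hM : IsPModular p M) {b : Set (IrrCharacter N)}
    (hb : IsPBlock M b) {θ : IrrCharacter N} (hθ : θ ∈ b) {ψ : IrrCharacter G} {e : ℂ}
    (hres : ∀ n : N, (ψ : G → ℂ) n = e * (θ : N → ℂ) n) {c : G → ℂ} (hc : IsClassFunction G c)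
    (hint : ∀ g, c g ∈ locRing hM) (hsum : vec c ψ = 1) :
    ∃ h : G, ¬ MemLocalIdeal M (c h) ∧
      ∃ R : Subgroup N, IsDefectGroup p M b R ∧ ∀ r ∈ R, Commute (r : G) h := by
  classical
  by_contra hcon
  push Not at hcon
  obtain ⟨n₀, ρ, hirr, hρ⟩ := ψ.2
  haveI := hirr
  have hchar : ∀ g, ρ.character g = (ψ : G → ℂ) g := fun g => congrFun hρ g
  -- the idempotent of `b` and the rounded coefficient functions
  set a : N → ℂ := fun n => zc (indVec b) n with ha
  have haint : ∀ n, a n ∈ locRing hM := vInt_indVec hM hb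
  set ae : G → ℂ := extendByZero N a with hae
  have haeN : ∀ g, g ∉ N → ae g = 0 := fun g hg => Char.extendByZero_of_notMem N a hg
  have hae1 : Char.averageOp ρ ae = (1 : Module.End ℂ (Fin n₀ → ℂ)) := by
    rw [averageOp_restrict ρ haeN,
      show (fun n : N => ae n) = a from funext fun n => Char.extendByZero_coe N a n,
      averageOp_isotypic (ρ.comp N.subtype) (θ := θ) (e := e)
        (fun n => (hchar n).trans (hres n)) (fun x k => zc_conj_invariant _ x k),
      congrFun (vec_zc _) θ, indVec, if_pos hθ, one_smul]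
  have hc1 : Char.averageOp ρ c = (1 : Module.End ℂ (Fin n₀ → ℂ)) := by
    have hd : ((Module.finrank ℂ (Fin n₀ → ℂ) : ℕ) : ℂ) = (ψ : G → ℂ) 1 := by
      rw [← hchar 1, Representation.char_one]
    have hv : (∑ g, c g * ρ.character g) / ((Module.finrank ℂ (Fin n₀ → ℂ) : ℕ) : ℂ) = 1 := by
      rw [hd]; simp only [hchar]; exact hsum
    rw [Char.averageOp_irreducible ρ hc, hv, one_smul]
    rfl
  set c' : G → ℂ := fun g => if MemLocalIdeal M (c g) then 0 else c g with hc'
  set a' : G → ℂ := fun g => if MemLocalIdeal M (ae g) then 0 else ae g with ha'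
  have haeint : ∀ g, ae g ∈ locRing hM := fun g => by
    by_cases hg : g ∈ N
    · rw [hae, Char.extendByZero_of_mem N a hg]; exact haint _
    · rw [haeN g hg]; exact Subring.zero_mem _
  have hc'int : ∀ g, c' g ∈ locRing hM := fun g => by
    simp only [hc']; split_ifs
    exacts [Subring.zero_mem _, hint g]
  have ha'int : ∀ g, a' g ∈ locRing hM := fun g => by
    simp only [ha']; split_ifs
    exacts [Subring.zero_mem _, haeint g]
  have haeinv : ∀ (n : N) (g : G), ae ((n : G) * g * (n : G)⁻¹) = ae g := by
    intro n g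
    by_cases hg : g ∈ N
    · rw [hae, Char.extendByZero_of_mem N a hg, Char.extendByZero_of_mem N a
        (hN.conj_mem g hg n)]
      exact zc_conj_invariant (indVec b) (⟨g, hg⟩ : N) n
    · rw [haeN g hg, haeN _ fun h => hg (by
        simpa [mul_assoc] using N.mul_mem (N.mul_mem (N.inv_mem n.2) h) n.2)]
  have hc'inv : ∀ (g x : G), c' (x * g * x⁻¹) = c' g := fun g x => by simp only [hc', hc g x]
  have ha'inv : ∀ (n : N) (g : G), a' ((n : G) * g * (n : G)⁻¹) = a' g := fun n g => by
    simp only [ha', haeinv n g]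
  -- the pieces of the product along the cosets
  set cu : G ⧸ N → G → ℂ := fun u g => if (g : G ⧸ N) = u then c' g else 0 with hcu
  have hmk : ∀ (n : N) (g : G), (((n : G) * g * (n : G)⁻¹ : G) : G ⧸ N) = (g : G ⧸ N) := fun n g => by
    simp [(QuotientGroup.eq_one_iff (n : G)).2 n.2]
  have hcuinv : ∀ (u : G ⧸ N) (n : N) (g : G), cu u ((n : G) * g * (n : G)⁻¹) = cu u g := fun u n g => by
    simp only [hcu, hmk n g, hc'inv]
  have hcuint : ∀ u g, cu u g ∈ locRing hM := fun u g => by
    simp only [hcu]; split_ifs
    exacts [hc'int g, Subring.zero_mem _]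
  let Coset : G ⧸ N → (G → ℂ) → Prop := fun u f =>
    (∀ g, f g ∈ locRing hM) ∧ (∀ (n : N) (g : G), f ((n : G) * g * (n : G)⁻¹) = f g) ∧
      ∀ g : G, f g ≠ 0 → (g : G ⧸ N) = u
  have hconv : ∀ u w f f', Coset u f → Coset w f' → Coset (u * w) (gconv f f') := by
    intro u w f f' hf hf'
    refine ⟨fun g => Subring.sum_mem _ fun x _ => Subring.mul_mem _ (hf.1 x) (hf'.1 _),
      fun n g => ?_, fun g hg => ?_⟩
    · refine (Fintype.sum_equiv (MulAut.conj (n : G)).toEquiv _ _ fun x => ?_).symm
      show f x * f' (x⁻¹ * g) = f ((n : G) * x * (n : G)⁻¹) *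
        f' (((n : G) * x * (n : G)⁻¹)⁻¹ * ((n : G) * g * (n : G)⁻¹))
      rw [hf.2.1, show ((n : G) * x * (n : G)⁻¹)⁻¹ * ((n : G) * g * (n : G)⁻¹) =
        (n : G) * (x⁻¹ * g) * (n : G)⁻¹ by group, hf'.2.1]
    · obtain ⟨x, -, hx⟩ := Finset.exists_ne_zero_of_sum_ne_zero hg
      rw [← hf.2.2 x (left_ne_zero_of_mul hx), ← hf'.2.2 _ (right_ne_zero_of_mul hx),
        ← QuotientGroup.mk_mul, mul_inv_cancel_left]
  have hCa : Coset 1 a' := ⟨ha'int, ha'inv, fun g hg => (QuotientGroup.eq_one_iff g).2 (by
    by_contra hn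
    exact hg (by simp [ha', haeN g hn]))⟩
  set x : G ⧸ N → G → ℂ := fun u => gconv (cu u) a' with hx
  have hCx : ∀ u, Coset u (x u) := fun u => by
    have h1 : Coset u (cu u) := ⟨hcuint u, hcuinv u, fun g hg => by
      by_contra hn
      exact hg (by simp [hcu, hn])⟩
    simpa using hconv u 1 _ _ h1 hCa
  haveI := Fintype.ofFinite (G ⧸ N)
  set X : G ⧸ N → Module.End ℂ (Fin n₀ → ℂ) := fun u => Char.averageOp ρ (x u) with hX
  have hdelta : Coset 1 (fun g : G => if g = 1 then (1 : ℂ) else 0) := by
    refine ⟨fun g => ?_, fun n g => ?_, fun g hg => ?_⟩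
    · dsimp only; split_ifs
      exacts [Subring.one_mem _, Subring.zero_mem _]
    · simp only [conj_eq_one_iff]
    · by_cases h : g = 1
      · subst h; rfl
      · simp [h] at hg
  have hword : ∀ l : List (G ⧸ N), ∃ f, Coset l.prod f ∧
      Char.averageOp ρ f = (l.map X).prod := by
    intro l
    induction l with
    | nil => exact ⟨_, hdelta, by simpa using averageOp_delta ρ⟩
    | cons u s ih =>
      obtain ⟨f, hf, he⟩ := ih
      refine ⟨gconv (x u) f, by simpa using hconv _ _ _ _ (hCx u) hf, ?_⟩
      rw [averageOp_gconv, he, List.map_cons, List.prod_cons]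
  -- the lattice of character values
  haveI : IsLocalRing (locRing hM) := by
    refine IsLocalRing.of_nonunits_add fun y z hy hz hyz => ?_
    have hy' : y ∈ locIdeal hM := not_not.1 fun h => hy (isUnit_of_not_mem_locIdeal hM h)
    have hz' : z ∈ locIdeal hM := not_not.1 fun h => hz (isUnit_of_not_mem_locIdeal hM h)
    exact locIdeal_ne_top hM (Ideal.eq_top_of_isUnit_mem _ (Ideal.add_mem _ hy' hz') hyz)
  set Γ : Submodule (locRing hM) ℂ :=
    Submodule.span (locRing hM) (Set.range (ψ : G → ℂ)) with hΓ
  have hval : ∀ g, (ψ : G → ℂ) g ∈ Γ := fun g => Submodule.subset_span ⟨g, rfl⟩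
  have htrInt : ∀ (f : G → ℂ) (g : G), (∀ k, f k ∈ locRing hM) →
      LinearMap.trace ℂ _ ((ρ g : Module.End ℂ (Fin n₀ → ℂ)) * Char.averageOp ρ f) ∈ Γ := by
    intro f g hf
    rw [trace_averageOp]
    refine Submodule.sum_mem _ fun k _ => ?_
    rw [hchar]
    exact Γ.smul_mem (⟨f k, hf k⟩ : locRing hM) (hval _)
  let Small : Module.End ℂ (Fin n₀ → ℂ) → Prop := fun Z => ∀ g : G,
    LinearMap.trace ℂ _ ((ρ g : Module.End ℂ (Fin n₀ → ℂ)) * Z) ∈ locIdeal hM • Γ
  have hsmallOp : ∀ f : G → ℂ, (∀ k, MemLocalIdeal M (f k)) → Small (Char.averageOp ρ f) := by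
    intro f hf g
    rw [trace_averageOp]
    refine Submodule.sum_mem _ fun k _ => ?_
    rw [hchar]
    exact Submodule.smul_mem_smul (r := (⟨f k, memLocRing_of_memLocalIdeal hM (hf k)⟩ : locRing hM))
      (hf k) (hval _)
  -- the scalar of a loop
  set θ₀ : IrrCharacter N := (Nat.sInf_mem ((nonempty_of_isPBlock hM hb).image
    (fun χ : IrrCharacter N => (charDegree (χ : N → ℂ)).factorization p))).choose with hθ₀
  obtain ⟨hθ₀b, hθ₀v⟩ := (Nat.sInf_mem ((nonempty_of_isPBlock hM hb).image
    (fun χ : IrrCharacter N => (charDegree (χ : N → ℂ)).factorization p))).choose_spec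
  rw [← hθ₀] at hθ₀b hθ₀v
  set m := charDegree (θ₀ : N → ℂ) with hm
  have hmd : m.factorization p + blockDefect p b = (Nat.card N).factorization p := by
    have h1 : m.factorization p ≤ (Nat.card N).factorization p :=
      (Nat.factorization_le_iff_dvd (charDegree_pos θ₀).ne' Nat.card_pos.ne').2
        (charDegree_dvd_card θ₀) p
    simp only [blockDefect]
    rw [← hθ₀v]
    simp only [hm] at h1 ⊢
    omega
  obtain ⟨Q, hQ⟩ := exists_defectGroup hM hb
  have hloop : ∀ (u : G ⧸ N) (w : G ⧸ N) (y : G → ℂ), Coset w y → u * w = 1 →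
      ∃ ω : locRing hM, ω ∈ locIdeal hM ∧
        X u * Char.averageOp ρ y = (ω : ℂ) • (1 : Module.End ℂ (Fin n₀ → ℂ)) := by
    intro u w y hy huw
    set z := gconv (x u) y with hz
    have hCz : Coset 1 z := huw ▸ hconv _ _ _ _ (hCx u) hy
    have hzN : ∀ g, g ∉ N → z g = 0 := fun g hg => by
      by_contra hn
      exact hg ((QuotientGroup.eq_one_iff g).1 (hCz.2.2 g hn))
    have hzc : IsClassFunction N (fun n : N => z n) := fun n k => hCz.2.1 k (n : G)
    have hzi : ∀ n : N, z n ∈ locRing hM := fun n => hCz.1 n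
    have hop : X u * Char.averageOp ρ y =
        vec (fun n : N => z n) θ • (1 : Module.End ℂ (Fin n₀ → ℂ)) := by
      rw [hX]; dsimp only
      rw [← averageOp_gconv, ← hz, averageOp_restrict ρ hzN,
        averageOp_isotypic (ρ.comp N.subtype) (θ := θ) (e := e)
          (fun n => (hchar n).trans (hres n)) hzc]
    have hv := vInt_vec (hM := hM) hzc hzi
    have hsmall : MemLocalIdeal M (vec (fun n : N => z n) θ₀) := by
      have hnum : ∑ n : N, z n * (θ₀ : N → ℂ) n =
          ∑ q : G × G, cu u q.1 * a' q.2 *
            ∑ k, y k * extendByZero N (θ₀ : N → ℂ) (q.1 * q.2 * k) := by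
        rw [Finset.sum_congr rfl (g := fun n : N => (θ₀ : N → ℂ) n * z n) fun n _ => mul_comm _ _,
          ← Char.sum_extendByZero N (θ₀ : N → ℂ) z]
        simp only [hz, hx, gconv, Finset.mul_sum, Finset.sum_mul]
        rw [Finset.sum_comm, Fintype.sum_prod_type]
        conv_lhs => enter [2, q]; rw [Finset.sum_comm]
        rw [Finset.sum_comm]
        refine Finset.sum_congr rfl fun a₁ _ => ?_
        refine (Fintype.sum_equiv (Equiv.mulLeft a₁) _ _ fun l => ?_).symm
        refine Fintype.sum_equiv (Equiv.mulLeft (a₁ * l)) _ _ fun k => ?_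
        simp only [Equiv.coe_mulLeft, inv_mul_cancel_left]
        ring
      rw [vec, hnum, apply_one_eq_charDegree]
      letI : MulAction N (G × G) :=
        { smul := fun n q => ((n : G) * q.1 * (n : G)⁻¹, (n : G) * q.2 * (n : G)⁻¹)
          one_smul := fun q => by
            show (((1 : N) : G) * q.1 * ((1 : N) : G)⁻¹, ((1 : N) : G) * q.2 * ((1 : N) : G)⁻¹) = q
            simp
          mul_smul := fun n k q => by
            show (((n * k : N) : G) * q.1 * ((n * k : N) : G)⁻¹,
                ((n * k : N) : G) * q.2 * ((n * k : N) : G)⁻¹) =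
              ((n : G) * ((k : G) * q.1 * (k : G)⁻¹) * (n : G)⁻¹,
                (n : G) * ((k : G) * q.2 * (k : G)⁻¹) * (n : G)⁻¹)
            simp [mul_assoc] }
      have hθinv : ∀ (n : N) (g : G), extendByZero N (θ₀ : N → ℂ) ((n : G) * g * (n : G)⁻¹) =
          extendByZero N (θ₀ : N → ℂ) g := by
        intro n g
        by_cases hg : g ∈ N
        · rw [Char.extendByZero_of_mem N _ hg, Char.extendByZero_of_mem N _ (hN.conj_mem g hg n)]
          exact θ₀.2.isClassFunction ⟨g, hg⟩ n
        · rw [Char.extendByZero_of_notMem N _ hg, Char.extendByZero_of_notMem N _ fun h => hg (by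
            simpa [mul_assoc] using N.mul_mem (N.mul_mem (N.inv_mem n.2) h) n.2)]
      refine orbit_sum_mem hM (K := N) _ (fun n q => ?_) (fun q => ?_) (charDegree_pos θ₀).ne' fun q hq => ?_
      · show cu u ((n : G) * q.1 * (n : G)⁻¹) * a' ((n : G) * q.2 * (n : G)⁻¹) *
            ∑ k, y k * extendByZero N (θ₀ : N → ℂ)
              ((n : G) * q.1 * (n : G)⁻¹ * ((n : G) * q.2 * (n : G)⁻¹) * k) = _
        rw [hcuinv, ha'inv]
        congr 1
        refine (Fintype.sum_equiv (MulAut.conj (n : G)).toEquiv _ _ fun k => ?_).symm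
        show y k * _ = y ((n : G) * k * (n : G)⁻¹) * _
        rw [hy.2.1 n k, ← hθinv n (q.1 * q.2 * k)]
        congr 2
        show _ = (n : G) * q.1 * (n : G)⁻¹ * ((n : G) * q.2 * (n : G)⁻¹) * ((n : G) * k * (n : G)⁻¹)
        group
      · refine Subring.mul_mem _ (Subring.mul_mem _ (hcuint u _) (ha'int _))
          (Subring.sum_mem _ fun k _ => Subring.mul_mem _ (hy.1 k) ?_)
        by_cases hg : q.1 * q.2 * k ∈ N
        · rw [Char.extendByZero_of_mem N _ hg]; exact charVal_mem_locRing hM θ₀ _
        · rw [Char.extendByZero_of_notMem N _ hg]; exact Subring.zero_mem _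
      · -- a stabiliser cannot contain a defect group
        have hc0 : ¬ MemLocalIdeal M (c q.1) := fun h' => hq (by simp [hcu, hc', h'])
        have ha0 : ¬ MemLocalIdeal M (ae q.2) := fun h' => hq (by simp [ha', h'])
        have hl : q.2 ∈ N := by
          by_contra hn
          exact ha0 (by rw [haeN _ hn]; exact memLocalIdeal_zero hM)
        have ha1 : ¬ MemLocalIdeal M (blockCoeff b ⟨q.2, hl⟩) := by
          rw [← zc_indVec]
          rw [hae, Char.extendByZero_of_mem N a hl] at ha0
          exact ha0
        set St := MulAction.stabilizer N q with hSt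
        haveI := Fintype.ofFinite St
        obtain ⟨S⟩ : Nonempty (Sylow p St) := inferInstance
        set R : Subgroup N := (S : Subgroup St).map St.subtype with hR
        have hRmem : ∀ r ∈ R, ((r : N) : G) * q.1 * ((r : N) : G)⁻¹ = q.1 ∧
            ((r : N) : G) * q.2 * ((r : N) : G)⁻¹ = q.2 := by
          rintro _ ⟨⟨r, hr⟩, -, rfl⟩
          exact Prod.ext_iff.1 (show (((r : G) * q.1 * (r : G)⁻¹), ((r : G) * q.2 * (r : G)⁻¹)) = q
            from hr)
        have hRle : R ≤ Subgroup.centralizer ({⟨q.2, hl⟩} : Set N) := fun r hr =>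
          Subgroup.mem_centralizer_iff.2 fun z hz => by
            rw [Set.mem_singleton_iff] at hz
            subst hz
            exact Subtype.ext (mul_inv_eq_iff_eq_mul.1 (hRmem r hr).2).symm
        have hRp : IsPGroup p R := S.2.map _
        obtain ⟨t, ht⟩ := dClass_of_coeff hM hb hQ ha1 R hRp hRle
        have hlt : Nat.card R < Nat.card Q := by
          have hc3 : Nat.card (R.map (MulAut.conj t).toMonoidHom) = Nat.card R :=
            Subgroup.card_map_of_injective (MulAut.conj t).injective
          refine lt_of_le_of_ne ?_ fun heq => ?_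
          · exact hc3 ▸ Subgroup.card_le_of_le ht
          · have hEq : R.map (MulAut.conj t).toMonoidHom = Q := Subgroup.eq_of_le_of_card_ge ht
              (by rw [hc3, heq])
            have hRd : IsDefectGroup p M b R := by
              have := isDefectGroup_conj hM hb hQ t⁻¹
              rw [← hEq, Subgroup.map_map] at this
              convert this using 1
              symm
              convert Subgroup.map_id R
              ext; simp [mul_assoc]
            obtain ⟨r, hr, hne⟩ := hcon q.1 hc0 R hRd
            exact hne (mul_inv_eq_iff_eq_mul.1 (hRmem r hr).1)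
        rw [card_defectGroup hM hb hQ, hR,
          Subgroup.card_map_of_injective (Subgroup.subtype_injective _), S.card_eq_multiplicity,
          Nat.pow_lt_pow_iff_right hp.out.one_lt] at hlt
        simp only [hm] at hmd ⊢
        omega
    refine ⟨⟨vec (fun n : N => z n) θ, apply_mem_locRing hM hv θ⟩, ?_, hop⟩
    show MemLocalIdeal M (vec (fun n : N => z n) θ)
    have := memLocalIdeal_add hM
      (apply_sub_apply_mem hM hv (sameBlock_of_mem hM hb hθ hθ₀b)) hsmall
    rwa [sub_add_cancel] at this
  -- expansion of the identity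
  set T : Module.End ℂ (Fin n₀ → ℂ) := ∑ u, X u with hT
  have hTf : T = Char.averageOp ρ (gconv c' a') := by
    rw [hT, hX]
    rw [← averageOp_sum]
    congr 1
    funext g
    rw [Finset.sum_apply]
    simp only [hx, gconv]
    rw [Finset.sum_comm]
    refine Finset.sum_congr rfl fun k _ => ?_
    rw [← Finset.sum_mul]
    congr 1
    simp [hcu]
  have hdiff : ∃ f : G → ℂ, (∀ k, MemLocalIdeal M (f k)) ∧ 1 - T = Char.averageOp ρ f := by
    refine ⟨gconv c ae - gconv c' a', fun k => ?_, ?_⟩
    · simp only [Pi.sub_apply, gconv, ← Finset.sum_sub_distrib]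
      refine memLocalIdeal_sum hM _ _ fun g _ => ?_
      have h1 : MemLocalIdeal M (c g - c' g) := by
        simp only [hc']; split_ifs with h
        · simpa using h
        · simpa using memLocalIdeal_zero hM
      have h2 : MemLocalIdeal M (ae (g⁻¹ * k) - a' (g⁻¹ * k)) := by
        simp only [ha']; split_ifs with h
        · simpa using h
        · simpa using memLocalIdeal_zero hM
      rw [show c g * ae (g⁻¹ * k) - c' g * a' (g⁻¹ * k) =
        (c g - c' g) * ae (g⁻¹ * k) + c' g * (ae (g⁻¹ * k) - a' (g⁻¹ * k)) by ring]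
      exact memLocalIdeal_add hM (memLocalIdeal_mul_right hM h1 (haeint _))
        (memLocalIdeal_mul_left hM (hc'int g) h2)
    · rw [averageOp_sub, averageOp_gconv, averageOp_gconv ρ c' a', ← averageOp_gconv ρ c' a', ← hTf,
        hc1, hae1, mul_one]
  have hTint : ∀ k, gconv c' a' k ∈ locRing hM := fun k =>
    Subring.sum_mem _ fun g _ => Subring.mul_mem _ (hc'int g) (ha'int _)
  have hgeom : ∀ k : ℕ, ∃ f : G → ℂ, (∀ g, MemLocalIdeal M (f g)) ∧
      1 - T ^ k = Char.averageOp ρ f := by
    intro k
    induction k with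
    | zero => exact ⟨0, fun g => memLocalIdeal_zero hM, by simp [Char.averageOp]⟩
    | succ k ih =>
      obtain ⟨f, hf, he'⟩ := ih
      obtain ⟨f₁, hf₁, he₁⟩ := hdiff
      refine ⟨f₁ + gconv (gconv c' a') f, fun g => memLocalIdeal_add hM (hf₁ g)
        (memLocalIdeal_sum hM _ _ fun s _ => memLocalIdeal_mul_left hM (hTint s) (hf _)), ?_⟩
      rw [averageOp_add, averageOp_gconv, ← hTf, ← he', ← he₁, pow_succ', mul_sub, mul_one]
      abel
  have hone : Small 1 := by
    obtain ⟨f, hf, he'⟩ := hgeom (Nat.card (G ⧸ N))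
    have h1 : Small (T ^ Nat.card (G ⧸ N)) := by
      refine sum_pow_induction X _ Small (fun g => by simp) (fun A B hA hB g => ?_) fun l hl => ?_
      · rw [mul_add, map_add]; exact Submodule.add_mem _ (hA g) (hB g)
      obtain ⟨a₀, s, t, u, rfl, hus⟩ := list_loop l hl.ge
      obtain ⟨y, hy, hye⟩ := hword s
      obtain ⟨ω, hω, hωe⟩ := hloop u s.prod y hy hus
      obtain ⟨fa, hfa, hfae⟩ := hword a₀
      obtain ⟨ft, hft, hfte⟩ := hword t
      intro g
      rw [List.map_append, List.map_append, List.map_cons, List.prod_append, List.prod_append,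
        List.prod_cons, ← hye, hωe, ← hfae, ← hfte, mul_smul_comm, mul_one, smul_mul_assoc,
        mul_smul_comm, map_smul, ← averageOp_gconv]
      exact Submodule.smul_mem_smul hω
        (htrInt _ g fun k => Subring.sum_mem _ fun r _ => Subring.mul_mem _ (hfa.1 r) (hft.1 _))
    intro g
    have h2 := Submodule.add_mem _ (h1 g) (hsmallOp f hf g)
    rwa [← he', ← map_add, ← mul_add, add_sub_cancel] at h2
  have hΓ0 : Γ = ⊥ := by
    refine Submodule.eq_bot_of_le_smul_of_le_jacobson_bot (locIdeal hM) Γ
      (Submodule.fg_span (Set.finite_range _)) ?_ ?_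
    · refine Submodule.span_le.2 ?_
      rintro _ ⟨g, rfl⟩
      have := hone g
      rwa [mul_one, show LinearMap.trace ℂ _ (ρ g) = (ψ : G → ℂ) g from hchar g] at this
    · intro y hy
      refine Ideal.mem_jacobson_bot.2 fun z => isUnit_of_not_mem_locIdeal hM fun h => ?_
      refine locIdeal_ne_top hM ((Ideal.eq_top_iff_one _).2 ?_)
      simpa using Ideal.sub_mem _ h (Ideal.mul_mem_right z _ hy)
  exact ψ.2.apply_one_ne_zero ((Submodule.mem_bot (R := locRing hM)).1 (hΓ0 ▸ hval 1))

end Main

end Cfsg.Lib.Block
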