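import Cfsg.Agent.Lib.Block.Induced
import Cfsg.Agent.Lib.Block.Conj

/-!
# The Brauer map between centralizers

For a subgroup `C` containing the centralizer `E` of a `p`-group `P`, truncation to `E` of central
elements of the group ring of `C` invariant under `P` is multiplicative modulo `M`.
-/

set_option autoImplicit false
set_option linter.unusedSectionVars false
set_option maxHeartbeats 400000

namespace Cfsg.Lib.Block

open Cfsg
open scoped ComplexConjugate

universe u

variable {p : ℕ} {M : Ideal AlgInt} {G : Type u} [Group G] [Fintype G] [Fact p.Prime]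
  (hM : IsPModular p M)

open Classical in
/-- A central element of the group ring of a subgroup, as a function on the whole group. -/
noncomputable def extF (C : Subgroup G) [Fintype C] (v : IrrCharacter C → ℂ) : G → ℂ :=
  fun g => if h : g ∈ C then zc v ⟨g, h⟩ else 0

section Ext

variable {C : Subgroup G} [Fintype C]

theorem extF_coe (v : IrrCharacter C → ℂ) (c : C) : extF C v (c : G) = zc v c := by
  simp [extF]

theorem extF_of_mem (v : IrrCharacter C → ℂ) {g : G} (h : g ∈ C) :
    extF C v g = zc v ⟨g, h⟩ := by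
  simp [extF, h]

theorem extF_of_notMem (v : IrrCharacter C → ℂ) {g : G} (h : g ∉ C) : extF C v g = 0 := by
  simp [extF, h]

theorem extF_indVec (f : Set (IrrCharacter C)) : extF C (indVec f) = subgroupBlockCoeff C f := by
  funext g
  by_cases h : g ∈ C
  · rw [extF_of_mem _ h, zc_indVec, subgroupBlockCoeff, dif_pos h]
  · rw [extF_of_notMem _ h, subgroupBlockCoeff, dif_neg h]

theorem extF_sub (v w : IrrCharacter C → ℂ) (g : G) :
    extF C (v - w) g = extF C v g - extF C w g := by
  by_cases h : g ∈ C
  · simp only [extF_of_mem _ h, zc_sub]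
  · simp [extF_of_notMem _ h]

theorem extF_sum {ι : Type*} (s : Finset ι) (v : ι → IrrCharacter C → ℂ) (g : G) :
    extF C (∑ i ∈ s, v i) g = ∑ i ∈ s, extF C (v i) g := by
  by_cases h : g ∈ C
  · simp only [extF_of_mem _ h, zc_sum]
  · simp [extF_of_notMem _ h]

theorem extF_one (g : G) [Decidable (g = 1)] :
    extF C (1 : IrrCharacter C → ℂ) g = if g = 1 then 1 else 0 := by
  classical
  by_cases h : g ∈ C
  · rw [extF_of_mem _ h, zc_one]
    simp only [Subgroup.mk_eq_one]
  · rw [extF_of_notMem _ h, if_neg]
    rintro rfl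
    exact h (one_mem C)

theorem extF_mul (v w : IrrCharacter C → ℂ) (g : G) :
    extF C (v * w) g = ∑ x : G, extF C v x * extF C w (x⁻¹ * g) := by
  classical
  rw [← Finset.sum_subset (Finset.subset_univ (C : Set G).toFinset) fun x _ hx => by
    rw [extF_of_notMem _ (by simpa using hx), zero_mul],
    Finset.sum_subtype (p := fun x => x ∈ C) (F := inferInstance) (C : Set G).toFinset (fun x => by simp)
      (fun x => extF C v x * extF C w (x⁻¹ * g))]
  by_cases h : g ∈ C
  · rw [extF_of_mem _ h, zc_mul]
    refine Finset.sum_congr (by ext; simp) fun x _ => ?_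
    rw [extF_coe, extF_of_mem _ (mul_mem (inv_mem x.2) h)]
    rfl
  · rw [extF_of_notMem _ h, Finset.sum_eq_zero]
    intro x _
    rw [extF_of_notMem w (fun h' => h (by simpa using mul_mem x.2 h')), mul_zero]

theorem extF_mem_locRing {v : IrrCharacter C → ℂ} (hv : VInt hM v) (g : G) :
    extF C v g ∈ locRing hM := by
  by_cases h : g ∈ C
  · rw [extF_of_mem _ h]; exact hv _
  · rw [extF_of_notMem _ h]; exact zero_mem _

/-- Invariance under conjugation by a set of elements of the whole group. -/
def InvOn (S : Subgroup G) (C : Subgroup G) [Fintype C] (v : IrrCharacter C → ℂ) : Prop :=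
  ∀ x ∈ S, ∀ g : G, extF C v (x * g * x⁻¹) = extF C v g

theorem invOn_mono {S S' : Subgroup G} (h : S ≤ S') {v : IrrCharacter C → ℂ}
    (hv : InvOn S' C v) : InvOn S C v := fun x hx => hv x (h hx)

theorem invOn_self (v : IrrCharacter C → ℂ) : InvOn C C v := fun x hx g => by
  by_cases h : g ∈ C
  · rw [extF_of_mem _ h, extF_of_mem _ (mul_mem (mul_mem hx h) (inv_mem hx))]
    exact zc_conj_invariant v ⟨g, h⟩ ⟨x, hx⟩
  · rw [extF_of_notMem _ h, extF_of_notMem]
    intro h'
    exact h (by simpa [mul_assoc] using mul_mem (mul_mem (inv_mem hx) h') hx)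

variable {S : Subgroup G} {v w : IrrCharacter C → ℂ}

theorem invOn_sub (hv : InvOn S C v) (hw : InvOn S C w) : InvOn S C (v - w) := fun x hx g => by
  rw [extF_sub, extF_sub, hv x hx, hw x hx]

theorem invOn_one : InvOn S C (1 : IrrCharacter C → ℂ) := fun x hx g => by
  classical
  rw [extF_one, extF_one]
  exact if_congr (by rw [mul_inv_eq_one, mul_eq_left]) rfl rfl

theorem invOn_zero : InvOn S C (0 : IrrCharacter C → ℂ) := fun x hx g => by
  have e : (0 : IrrCharacter C → ℂ) = 1 - 1 := (sub_self _).symm
  rw [e]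
  exact invOn_sub invOn_one invOn_one x hx g

theorem invOn_mul (hv : InvOn S C v) (hw : InvOn S C w) : InvOn S C (v * w) := fun x hx g => by
  rw [extF_mul, extF_mul]
  refine (Fintype.sum_equiv (MulAut.conj x).toEquiv _ _ fun y => ?_).symm
  simp only [MulEquiv.toEquiv_eq_coe, MulEquiv.coe_toEquiv, MulAut.conj_apply]
  rw [hv x hx, ← hw x hx (y⁻¹ * g)]
  congr 2
  group

end Ext

/-- Truncation of a central element of the group ring of `C` to a subgroup `E`. -/
noncomputable def trV (E C : Subgroup G) [Fintype E] [Fintype C] (v : IrrCharacter C → ℂ) :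
    IrrCharacter E → ℂ :=
  vec fun h : E => extF C v (h : G)

variable {C D E P : Subgroup G} [Fintype C] [Fintype D] [Fintype E]

theorem isClassFunction_extF (hE : E ≤ C) (v : IrrCharacter C → ℂ) :
    IsClassFunction E (fun h : E => extF C v (h : G)) := fun g k => by
  simp only [Subgroup.coe_mul, InvMemClass.coe_inv]
  exact invOn_self v (k : G) (hE k.2) (g : G)

theorem zc_trV (hE : E ≤ C) (v : IrrCharacter C → ℂ) (h : E) :
    zc (trV E C v) h = extF C v (h : G) := zc_vec (isClassFunction_extF hE v) h

theorem extF_trV_of_mem (hE : E ≤ C) (v : IrrCharacter C → ℂ) {g : G} (hg : g ∈ E) :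
    extF E (trV E C v) g = extF C v g := by
  rw [extF_of_mem _ hg, zc_trV hE]

theorem vInt_trV (hE : E ≤ C) {v : IrrCharacter C → ℂ} (hv : VInt hM v) :
    VInt hM (trV E C v) := fun h => by
  rw [zc_trV hE]; exact extF_mem_locRing hM hv _

theorem trV_trans (hE : E ≤ D) (hD : D ≤ C) (v : IrrCharacter C → ℂ) :
    trV E D (trV D C v) = trV E C v := by
  show vec _ = vec _
  congr 1
  funext h
  exact extF_trV_of_mem hD v (hE h.2)

theorem trV_sub (v w : IrrCharacter C → ℂ) : trV E C (v - w) = trV E C v - trV E C w := by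
  funext ξ
  rw [Pi.sub_apply, trV, trV, trV, ← vec_sub_fun]
  congr 1
  funext h
  exact extF_sub v w _

theorem trV_sum {ι : Type*} (hE : E ≤ C) (s : Finset ι) (v : ι → IrrCharacter C → ℂ) :
    trV E C (∑ i ∈ s, v i) = ∑ i ∈ s, trV E C (v i) := by
  refine zc_injective fun h => ?_
  rw [zc_trV hE, extF_sum, zc_sum]
  exact Finset.sum_congr rfl fun i _ => (zc_trV hE _ _).symm

theorem trV_zero (hE : E ≤ C) : trV E C (0 : IrrCharacter C → ℂ) = 0 := by
  have h := trV_sum hE (∅ : Finset Unit) (fun _ => (0 : IrrCharacter C → ℂ))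
  simpa using h

theorem trV_one (hE : E ≤ C) : trV E C (1 : IrrCharacter C → ℂ) = 1 := by
  classical
  refine zc_injective fun h => ?_
  rw [zc_trV hE, extF_one, zc_one]
  simp

theorem trV_self (v : IrrCharacter C → ℂ) : trV C C v = v := by
  refine zc_injective fun h => ?_
  rw [zc_trV le_rfl, extF_coe]

theorem vSmall_trV (hE : E ≤ C) {v : IrrCharacter C → ℂ} (hv : VSmall M v) :
    VSmall M (trV E C v) := fun h => by
  rw [zc_trV hE, extF_of_mem _ (hE h.2)]
  exact hv _

theorem invOn_trV {S : Subgroup G} (hE : E ≤ C) {v : IrrCharacter C → ℂ} (hv : InvOn S C v)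
    (hS : ∀ x ∈ S, ConjMaps x E E) : InvOn S E (trV E C v) := fun x hx g => by
  by_cases h : g ∈ E
  · rw [extF_trV_of_mem hE v h, extF_trV_of_mem hE v ((hS x hx g).1 h)]
    exact hv x hx g
  · rw [extF_of_notMem _ h, extF_of_notMem _ fun h' => h ((hS x hx g).2 h')]

include hM in
theorem apply_mem_of_vSmall {v : IrrCharacter C → ℂ} (hv : VSmall M v) (ξ : IrrCharacter C) :
    MemLocalIdeal M (v ξ) :=
  apply_mem_ideal hM hv ξ

include hM in
theorem res_eq_of_vSmall_sub {v w : IrrCharacter C → ℂ} (hv : VInt hM v) (hw : VInt hM w)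
    (h : VSmall M (v - w)) (ξ : IrrCharacter C) : res hM (v ξ) = res hM (w ξ) :=
  (res_eq_iff hM (apply_mem_locRing hM hv ξ) (apply_mem_locRing hM hw ξ)).2
    (apply_mem_of_vSmall hM h ξ)

include hM in
/-- Truncation to the centralizer of `P` is multiplicative on invariant central elements. -/
theorem vSmall_trV_mul (hP : IsPGroup p P) (hEP : E = Subgroup.centralizer (P : Set G))
    (hE : E ≤ C) {v w : IrrCharacter C → ℂ} (hv : VInt hM v) (hw : VInt hM w)
    (hvi : InvOn P C v) (hwi : InvOn P C w) :
    VSmall M (trV E C (v * w) - trV E C v * trV E C w) := by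
  classical
  intro h
  rw [zc_sub, zc_trV hE, zc_mul, extF_mul]
  have hint : ∀ x, extF C v x * extF C w (x⁻¹ * (h : G)) ∈ locRing hM := fun x =>
    mul_mem (extF_mem_locRing hM hv _) (extF_mem_locRing hM hw _)
  have hint' : ∀ x : E, zc (trV E C v) x * zc (trV E C w) (x⁻¹ * h) ∈ locRing hM := fun x =>
    mul_mem (vInt_trV hM hE hv _) (vInt_trV hM hE hw _)
  have hh : (h : G) ∈ Subgroup.centralizer (P : Set G) := by rw [← hEP]; exact h.2
  rw [← res_eq_zero_iff hM (sub_mem (sum_mem fun x _ => hint x) (sum_mem fun x _ => hint' x)),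
    res_sub hM (sum_mem fun x _ => hint x) (sum_mem fun x _ => hint' x),
    res_sum_centralizer hM P hP (fun x => extF C v x * extF C w (x⁻¹ * (h : G))) hint
      (fun s hs x => ?_),
    res_sum hM _ _ fun x _ => hint' x, sub_eq_zero]
  · rw [Finset.sum_subtype (p := fun x => x ∈ E) (F := inferInstance) _ (fun x => by simp [hEP])
      (fun x => res hM (extF C v x * extF C w (x⁻¹ * (h : G))))]
    refine Finset.sum_congr (by ext; simp) fun x _ => ?_
    simp only [zc_trV hE, Subgroup.coe_mul, InvMemClass.coe_inv]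
  · show extF C v (s * x * s⁻¹) * extF C w ((s * x * s⁻¹)⁻¹ * (h : G)) =
      extF C v x * extF C w (x⁻¹ * (h : G))
    rw [hvi s hs, ← hwi s hs (x⁻¹ * (h : G))]
    congr 2
    have hc : (h : G) * s = s * h := (Subgroup.mem_centralizer_iff.1 hh s hs).symm
    calc (s * x * s⁻¹)⁻¹ * (h : G) = s * x⁻¹ * (s⁻¹ * h) := by group
      _ = s * x⁻¹ * (h * s⁻¹) := by
          congr 1
          rw [eq_mul_inv_iff_mul_eq, mul_assoc, hc, inv_mul_cancel_left]
      _ = s * (x⁻¹ * h) * s⁻¹ := by group

include hM in
theorem res_trV_mul (hP : IsPGroup p P) (hEP : E = Subgroup.centralizer (P : Set G))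
    (hE : E ≤ C) {v w : IrrCharacter C → ℂ} (hv : VInt hM v) (hw : VInt hM w)
    (hvi : InvOn P C v) (hwi : InvOn P C w) (ξ : IrrCharacter E) :
    res hM (trV E C (v * w) ξ) = res hM (trV E C v ξ) * res hM (trV E C w ξ) := by
  rw [res_eq_of_vSmall_sub hM (vInt_trV hM hE (vInt_mul hM hv hw))
      (vInt_mul hM (vInt_trV hM hE hv) (vInt_trV hM hE hw))
      (vSmall_trV_mul hM hP hEP hE hv hw hvi hwi) ξ, Pi.mul_apply,
    res_mul hM (apply_mem_locRing hM (vInt_trV hM hE hv) ξ)
      (apply_mem_locRing hM (vInt_trV hM hE hw) ξ)]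

include hM in
theorem res_trV_one (hE : E ≤ C) (ξ : IrrCharacter E) :
    res hM (trV E C (1 : IrrCharacter C → ℂ) ξ) = 1 := by
  rw [trV_one hE]; exact res_one hM

theorem indVec_mul_indVec {A : Type u} [Group A] (f f' : Set (IrrCharacter A)) :
    indVec f * indVec f' = indVec (f ∩ f') := by
  classical
  funext χ
  simp only [Pi.mul_apply, indVec, Set.mem_inter_iff]
  by_cases h1 : χ ∈ f <;> by_cases h2 : χ ∈ f' <;> simp [h1, h2]

theorem sum_indVec_blocks {A : Type u} [Group A] [Fintype A]
    [Fintype {f : Set (IrrCharacter A) // IsPBlock M f}] (hM : IsPModular p M) :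
    ∑ f : {f : Set (IrrCharacter A) // IsPBlock M f}, indVec f.1 = 1 := by
  classical
  funext χ
  rw [Finset.sum_apply, Finset.sum_eq_single ⟨blockOf M (χ : A → ℂ), isPBlock_blockOf χ⟩]
  · simp [indVec, self_mem_blockOf hM χ]
  · intro f _ hne
    rw [indVec, if_neg]
    intro hmem
    exact hne (Subtype.ext (eq_blockOf_of_mem hM f.2 hmem))
  · exact fun h => absurd (Finset.mem_univ _) h

/-- Conjugation stability of a block in terms of invariance. -/
theorem invOn_indVec_iff {S : Subgroup G} (hS : ∀ x ∈ S, x ∈ Subgroup.normalizer (C : Set G))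
    {f : Set (IrrCharacter C)} :
    InvOn S C (indVec f) ↔ ∀ x ∈ S, StabilizesBlock C f x := by
  constructor
  · intro h x hx
    rw [stabilizesBlock_iff_coeff (hS x hx)]
    intro g
    rw [← extF_indVec]
    exact h x hx g
  · intro h x hx g
    rw [extF_indVec]
    exact (stabilizesBlock_iff_coeff (hS x hx)).1 (h x hx) g

open Classical in
include hM in
/-- A central character of the centralizer of a normalizing `p`-group selects exactly one stable
block. -/
theorem existsUnique_stable (hP : IsPGroup p P) (hEP : E = Subgroup.centralizer (P : Set G))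
    (hE : E ≤ C) (hPC : ∀ x ∈ P, x ∈ Subgroup.normalizer (C : Set G)) (ξ : IrrCharacter E) :
    ∃! f : Set (IrrCharacter C), IsPBlock M f ∧ InvOn P C (indVec f) ∧
      res hM (trV E C (indVec f) ξ) = 1 := by
  haveI := Fact.mk hM.1
  let X := {f : Set (IrrCharacter C) // IsPBlock M f}
  let act : P → X → X := fun x f =>
    ⟨conjSet (conjMaps_normalizer (hPC x x.2)) f.1, isPBlock_conjSet _ f.2⟩
  letI : MulAction P X :=
    { smul := act
      one_smul := fun f => Subtype.ext (conjSet_of_mem _ (one_mem _) f.1)
      mul_smul := fun x y f => Subtype.ext (by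
        show conjSet _ f.1 = conjSet _ (conjSet _ f.1)
        rw [conjSet_mul]) }
  have hsmul : ∀ (x : P) (f : X), (x • f : X).1 = conjSet (conjMaps_normalizer (hPC x x.2)) f.1 :=
    fun _ _ => rfl
  set val : X → resField hM := fun f => res hM (trV E C (indVec f.1) ξ) with hval
  have hinv : ∀ (x : P) (f : X), val (x • f) = val f := fun x f => by
    simp only [hval]
    congr 1
    refine congrFun (zc_injective fun h => ?_) ξ
    rw [zc_trV hE, zc_trV hE, extF_indVec, extF_indVec, hsmul]
    have hh : (x : G) * (h : G) * (x : G)⁻¹ = h := by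
      have h2 : (h : G) ∈ Subgroup.centralizer (P : Set G) := by rw [← hEP]; exact h.2
      rw [Subgroup.mem_centralizer_iff.1 h2 _ x.2, mul_inv_cancel_right]
    conv_lhs => rw [← hh]
    exact subgroupBlockCoeff_conjSet _ _ _
  haveI : Fintype X := Fintype.ofFinite X
  have htot : ∑ f : X, val f = 1 := by
    simp only [hval]
    rw [← res_sum hM _ _ fun f _ =>
      apply_mem_locRing hM (vInt_trV hM hE (vInt_indVec hM f.2)) ξ, ← Finset.sum_apply,
      ← trV_sum hE, sum_indVec_blocks hM]
    exact res_trV_one hM hE ξ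
  have hfix : ∑ f : X, val f = ∑ f ∈ Finset.univ.filter (· ∈ MulAction.fixedPoints P X), val f := by
    have key : ∀ a : resField hM, ((Finset.univ.filter fun f : X => val f = a).card : resField hM) =
        ((Finset.univ.filter fun f : X => f ∈ MulAction.fixedPoints P X ∧ val f = a).card :
          resField hM) := by
      intro a
      let Y := {f : X // val f = a}
      letI : MulAction P Y :=
        { smul := fun x f => ⟨x • f.1, by rw [hinv]; exact f.2⟩
          one_smul := fun f => Subtype.ext (one_smul _ _)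
          mul_smul := fun x y f => Subtype.ext (mul_smul _ _ _) }
      have h := hP.card_modEq_card_fixedPoints Y
      have e1 : Nat.card Y = (Finset.univ.filter fun f : X => val f = a).card := by
        rw [Nat.card_eq_fintype_card, Fintype.card_subtype]
      have e2 : Nat.card (MulAction.fixedPoints P Y) =
          (Finset.univ.filter fun f : X => f ∈ MulAction.fixedPoints P X ∧ val f = a).card := by
        rw [← Fintype.card_subtype, ← Nat.card_eq_fintype_card]
        exact Nat.card_congr
          { toFun := fun f => ⟨f.1.1, fun x => congrArg Subtype.val (f.2 x), f.1.2⟩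
            invFun := fun f => ⟨⟨f.1, f.2.2⟩, fun x => Subtype.ext (f.2.1 x)⟩
            left_inv := fun _ => rfl
            right_inv := fun _ => rfl }
      rw [← e1, ← e2]
      exact (CharP.natCast_eq_natCast (resField hM) p).2 h
    rw [← Finset.sum_fiberwise_of_maps_to (s := Finset.univ) (g := val)
        (t := Finset.univ.image val) (fun f hf => Finset.mem_image_of_mem _ hf),
      ← Finset.sum_fiberwise_of_maps_to (s := Finset.univ.filter (· ∈ MulAction.fixedPoints P X))
        (g := val) (t := Finset.univ.image val)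
        (fun f _ => Finset.mem_image_of_mem _ (Finset.mem_univ _))]
    refine Finset.sum_congr rfl fun a _ => ?_
    rw [Finset.sum_congr rfl (fun f hf => (Finset.mem_filter.1 hf).2),
      Finset.sum_congr rfl (fun f hf => (Finset.mem_filter.1 hf).2), Finset.sum_const,
      Finset.sum_const, nsmul_eq_mul, nsmul_eq_mul, key a, Finset.filter_filter]
  have hstab : ∀ f : X, f ∈ MulAction.fixedPoints P X ↔ InvOn P C (indVec f.1) := by
    intro f
    rw [invOn_indVec_iff hPC]
    refine ⟨fun h x hx => (stabilizesBlock_iff (hPC x hx)).2 (congrArg Subtype.val (h ⟨x, hx⟩)),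
      fun h x => Subtype.ext ?_⟩
    exact (stabilizesBlock_iff (hPC x x.2)).1 (h x x.2)
  have hone : ∀ f : X, f ∈ MulAction.fixedPoints P X → ∀ f' : X, f' ∈ MulAction.fixedPoints P X →
      val f * val f' = if f = f' then val f else 0 := by
    intro f hf f' hf'
    simp only [hval]
    rw [← res_trV_mul hM hP hEP hE (vInt_indVec hM f.2) (vInt_indVec hM f'.2) ((hstab f).1 hf)
      ((hstab f').1 hf'), indVec_mul_indVec]
    split_ifs with he
    · rw [he, Set.inter_self]
    · have : f.1 ∩ f'.1 = ∅ := Set.eq_empty_of_forall_notMem fun χ hχ =>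
        he (Subtype.ext (isPBlock_eq_of_mem hM f.2 f'.2 hχ.1 hχ.2))
      rw [this, show indVec (∅ : Set (IrrCharacter C)) = 0 from funext fun χ => by simp [indVec],
        trV_zero hE, Pi.zero_apply, res_zero]
  rw [hfix] at htot
  obtain ⟨f, hf, hne⟩ := Finset.exists_ne_zero_of_sum_ne_zero (htot ▸ one_ne_zero)
  have hff := (Finset.mem_filter.1 hf).2
  have hf1 : val f = 1 := by
    have h := hone f hff f hff
    rw [if_pos rfl] at h
    exact mul_left_cancel₀ hne (h.trans (mul_one _).symm)
  refine ⟨f.1, ⟨f.2, (hstab f).1 hff, hf1⟩, ?_⟩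
  rintro f' ⟨hb, hi, h1⟩
  by_contra hcon
  have h := hone f hff ⟨f', hb⟩ ((hstab ⟨f', hb⟩).2 hi)
  rw [if_neg (fun e => hcon (congrArg Subtype.val e).symm), hf1, one_mul] at h
  exact one_ne_zero (h1.symm.trans h)

include hM in
/-- An element idempotent modulo `M` is either zero or one at each character. -/
theorem res_idem_eq {v : IrrCharacter C → ℂ} (hv : VInt hM v) (hid : VSmall M (v * v - v))
    (ξ : IrrCharacter C) : res hM (v ξ) = 0 ∨ res hM (v ξ) = 1 := by
  have h := res_eq_of_vSmall_sub hM (vInt_mul hM hv hv) hv hid ξ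
  rw [Pi.mul_apply, res_mul hM (apply_mem_locRing hM hv ξ) (apply_mem_locRing hM hv ξ)] at h
  rcases eq_or_ne (res hM (v ξ)) 0 with h0 | h0
  · exact Or.inl h0
  · exact Or.inr (mul_left_cancel₀ h0 (h.trans (mul_one _).symm))

include hM in
theorem vSmall_trV_idem (hP : IsPGroup p P) (hEP : E = Subgroup.centralizer (P : Set G))
    (hE : E ≤ C) {v : IrrCharacter C → ℂ} (hv : VInt hM v) (hvi : InvOn P C v)
    (hid : VSmall M (v * v - v)) : VSmall M (trV E C v * trV E C v - trV E C v) := by
  have h1 := vSmall_trV (E := E) hE hid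
  rw [trV_sub] at h1
  have h2 := vSmall_sub hM h1 (vSmall_trV_mul hM hP hEP hE hv hv hvi hvi)
  rwa [show trV E C (v * v) - trV E C v - (trV E C (v * v) - trV E C v * trV E C v) =
    trV E C v * trV E C v - trV E C v by abel] at h2

open Classical in
include hM in
/-- An idempotent times the idempotent of a block is congruent to zero or to that block. -/
theorem vSmall_mul_indVec {v : IrrCharacter C → ℂ} (hv : VInt hM v) (hid : VSmall M (v * v - v))
    {f : Set (IrrCharacter C)} (hf : IsPBlock M f) {η : IrrCharacter C} (hη : η ∈ f) :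
    VSmall M (v * indVec f - if res hM (v η) = 1 then indVec f else 0) := by
  have hI := vInt_indVec hM hf
  have hii : indVec f * indVec f = indVec f := by rw [indVec_mul_indVec, Set.inter_self]
  have hval : ∀ χ ∈ f, res hM (v χ) = res hM (v η) := fun χ hχ =>
    res_apply_eq hM hv (sameBlock_of_mem hM hf hχ hη)
  split_ifs with h1
  · have hneg : VSmall M ((1 - v) * indVec f) := by
      refine vSmall_of_idem hM (vInt_mul hM (vInt_sub hM (vInt_one hM) hv) hI) ?_ fun χ => ?_
      · have e : (1 - v) * indVec f * ((1 - v) * indVec f) - (1 - v) * indVec f =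
            indVec f * (v * v - v) := by
          rw [mul_mul_mul_comm, hii]; ring
        rw [e]
        exact vSmall_mul hM hI hid
      · rw [Pi.mul_apply]
        by_cases hχ : χ ∈ f
        · refine memLocalIdeal_mul_right hM ?_ (apply_mem_locRing hM hI χ)
          rw [← res_eq_zero_iff hM (apply_mem_locRing hM (vInt_sub hM (vInt_one hM) hv) χ),
            Pi.sub_apply, Pi.one_apply, res_sub hM (one_mem _) (apply_mem_locRing hM hv χ),
            res_one, hval χ hχ, h1, sub_self]
        · rw [indVec, if_neg hχ, mul_zero]; exact memLocalIdeal_zero hM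
    have := vSmall_sub hM (vSmall_zero hM) hneg
    rwa [show (0 : IrrCharacter C → ℂ) - (1 - v) * indVec f = v * indVec f - indVec f by ring]
      at this
  · rw [sub_zero]
    refine vSmall_of_idem hM (vInt_mul hM hv hI) ?_ fun χ => ?_
    · have e : v * indVec f * (v * indVec f) - v * indVec f = indVec f * (v * v - v) := by
        rw [mul_mul_mul_comm, hii]; ring
      rw [e]
      exact vSmall_mul hM hI hid
    · rw [Pi.mul_apply]
      by_cases hχ : χ ∈ f
      · refine memLocalIdeal_mul_right hM ?_ (apply_mem_locRing hM hI χ)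
        rw [← res_eq_zero_iff hM (apply_mem_locRing hM hv χ), hval χ hχ]
        exact (res_idem_eq hM hv hid η).resolve_right h1
      · rw [indVec, if_neg hχ, mul_zero]; exact memLocalIdeal_zero hM

include hM in
/-- The value of an invariant idempotent is read off the stable block selected by a character. -/
theorem res_trV_eq_of_selected (hP : IsPGroup p P) (hEP : E = Subgroup.centralizer (P : Set G))
    (hE : E ≤ C) {v : IrrCharacter C → ℂ} (hv : VInt hM v) (hid : VSmall M (v * v - v))
    (hvi : InvOn P C v) {f : Set (IrrCharacter C)} (hf : IsPBlock M f)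
    (hfi : InvOn P C (indVec f)) {ξ : IrrCharacter E}
    (hsel : res hM (trV E C (indVec f) ξ) = 1) {η : IrrCharacter C} (hη : η ∈ f) :
    res hM (trV E C v ξ) = res hM (v η) := by
  classical
  have hI := vInt_indVec hM hf
  have h := res_trV_mul hM hP hEP hE hv hI hvi hfi ξ
  rw [hsel, mul_one] at h
  have hs := vSmall_mul_indVec hM hv hid hf hη
  rw [← h]
  have hw : VInt hM (if res hM (v η) = 1 then indVec f else (0 : IrrCharacter C → ℂ)) := by
    split_ifs
    · exact hI
    · exact vInt_zero hM
  have h2 := res_eq_of_vSmall_sub hM (vInt_trV hM hE (vInt_mul hM hv hI)) (vInt_trV hM hE hw)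
    (by rw [← trV_sub]; exact vSmall_trV hE hs) ξ
  rw [h2]
  split_ifs with h1
  · rw [hsel, h1]
  · rw [trV_zero hE, Pi.zero_apply, res_zero, (res_idem_eq hM hv hid η).resolve_right h1]

include hM in
/-- An idempotent with a unit coefficient takes the value one somewhere. -/
theorem exists_res_eq_one {v : IrrCharacter C → ℂ} (hv : VInt hM v) (hid : VSmall M (v * v - v))
    {c : C} (hc : ¬ MemLocalIdeal M (zc v c)) : ∃ ξ, res hM (v ξ) = 1 := by
  by_contra h
  simp only [not_exists] at h
  exact hc (vSmall_of_idem hM hv hid (fun ξ =>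
    (res_eq_zero_iff hM (apply_mem_locRing hM hv ξ)).1
      ((res_idem_eq hM hv hid ξ).resolve_right (h ξ))) c)

include hM in
theorem exists_unit_of_res_eq_one {v : IrrCharacter C → ℂ} (hv : VInt hM v) {ξ : IrrCharacter C}
    (h : res hM (v ξ) = 1) : ∃ c : C, ¬ MemLocalIdeal M (zc v c) := by
  by_contra hcon
  simp only [not_exists, not_not] at hcon
  rw [(res_eq_zero_iff hM (apply_mem_locRing hM hv ξ)).2 (apply_mem_of_vSmall hM hcon ξ)] at h
  exact zero_ne_one h

end Cfsg.Lib.Block
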