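import Cfsg.Agent.Lib.Block.CoverDefect
import Cfsg.Agent.Lib.Block.FongReynolds
import Cfsg.Agent.Lib.Block.RelBrauer

/-!
# Defect groups of covering blocks

A defect group of a block covering `b` can be chosen to meet the normal subgroup in a given
defect group of `b`; a stable block has a covering block of largest possible defect.
-/

set_option autoImplicit false
set_option linter.unusedSectionVars false
set_option maxHeartbeats 800000

namespace Cfsg.Lib.Block

open Cfsg
open scoped ComplexConjugate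

universe u

variable {p : ℕ} [hp : Fact p.Prime] {M : Ideal AlgInt} {G : Type u} [Group G] [Fintype G]
  {N : Subgroup G} [hN : N.Normal] [Fintype N] {b : Set (IrrCharacter N)}

theorem le_map_conj_inv {S D : Subgroup G} {x : G}
    (h : S.map (MulAut.conj x).toMonoidHom ≤ D) : S ≤ D.map (MulAut.conj x⁻¹).toMonoidHom :=
  fun s hs => ⟨_, h ⟨s, hs, rfl⟩, by simp [mul_assoc]⟩

theorem conjNormal_map_subtype (R : Subgroup N) (n : N) :
    (R.map (MulAut.conj n).toMonoidHom).map N.subtype =
      (R.map N.subtype).map (MulAut.conj (n : G)).toMonoidHom := by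
  rw [Subgroup.map_map, Subgroup.map_map]
  rfl

include hp in
/-- Some defect group of `b` lies in a conjugate of each defect group of a covering block. -/
theorem exists_defect_le_conj (hM : IsPModular p M) (hb : IsPBlock M b)
    {B : Set (IrrCharacter G)} (hB : IsPBlock M B) {χ : IrrCharacter G} (hχ : χ ∈ B)
    {θ : IrrCharacter N} (hθ : θ ∈ b)
    (hc : classInner (fun n : N => (χ : G → ℂ) n) (θ : N → ℂ) ≠ 0) {D : Subgroup G}
    (hD : IsDefectGroup p M B D) :
    ∃ R : Subgroup N, IsDefectGroup p M b R ∧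
      ∃ x : G, R.map N.subtype ≤ D.map (MulAut.conj x).toMonoidHom := by
  classical
  set I := Char.inertia N (θ : N → ℂ) with hI
  haveI := Fintype.ofFinite I
  have hNI : N ≤ I := Char.le_inertia N θ.2.isClassFunction
  obtain ⟨ψ, hψθ, hψχ⟩ := clifford_exists_le N θ.2 hNI le_rfl χ.2 hc
  haveI : (N.subgroupOf I).Normal := hN.subgroupOf I
  haveI := Fintype.ofFinite (N.subgroupOf I)
  set e := Subgroup.subgroupOfEquivOfLe hNI with he
  have hres := Char.res_eq_smul N θ.2 hNI rfl ψ.2 hψθ
  set c : I → ℂ := fun t => zc (indVec B) (t : G) with hcdef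
  have hccl : IsClassFunction I c := fun t k => zc_conj_invariant (indVec B) (t : G) (k : G)
  have hcint : ∀ t, c t ∈ locRing hM := fun t => vInt_indVec hM hB (t : G)
  have hsum : vec c ψ = 1 := by
    have h1 := congrFun (vec_zc (indVec B)) χ
    rw [indVec, if_pos hχ] at h1
    have h2 : ∑ g : G, zc (indVec B) g * (χ : G → ℂ) g =
        (I.index : ℂ) * ∑ t : I, c t * (ψ : I → ℂ) t := by
      rw [← hψχ]
      simp only [indFun, Finset.mul_sum]
      rw [Finset.sum_comm]
      have h3 : ∀ x : G, ∑ g : G, zc (indVec B) g * ((Nat.card I : ℂ)⁻¹ *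
          extendByZero I (ψ : I → ℂ) (x⁻¹ * g * x)) =
          (Nat.card I : ℂ)⁻¹ * ∑ t : I, c t * (ψ : I → ℂ) t := by
        intro x
        rw [Finset.sum_congr rfl (g := fun t : I => (ψ : I → ℂ) t * zc (indVec B) (t : G))
          fun t _ => mul_comm _ _, ← Char.sum_extendByZero I (ψ : I → ℂ) (zc (indVec B)),
          Finset.mul_sum]
        refine (Fintype.sum_equiv (MulAut.conj x).toEquiv _ _ fun g => ?_).symm
        simp only [MulEquiv.toEquiv_eq_coe, EquivLike.coe_coe, MulAut.conj_apply,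
          zc_conj_invariant]
        rw [show x⁻¹ * (x * g * x⁻¹) * x = g by group]
        ring
      rw [Finset.sum_congr rfl (fun x _ => h3 x), Finset.sum_const, Finset.card_univ,
        ← Nat.card_eq_fintype_card, nsmul_eq_mul, ← Subgroup.index_mul_card I, ← Finset.mul_sum]
      have hI0 : (Nat.card I : ℂ) ≠ 0 := by exact_mod_cast Nat.card_pos.ne'
      push_cast
      field_simp
    unfold vec at h1 ⊢
    rw [h2, ← hψχ, Char.indFun_apply_one,
      mul_div_mul_left _ _ (by exact_mod_cast I.index_ne_zero_of_finite)] at h1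
    exact h1
  obtain ⟨h, hh, R', hR', hcomm⟩ := exists_defect_centralized (N.subgroupOf I) hM
    (isPBlock_pullSet (M := M) e hb) (θ := compIrr e θ) (mem_pullSet.2 hθ) (ψ := ψ)
    (e := classInner (fun n : N => (ψ : I → ℂ) ⟨n, hNI n.2⟩) (θ : N → ℂ))
    (fun x => congrFun hres (e x)) hccl hcint hsum
  have hR := isDefectGroup_pullSet e.symm hR'
  rw [pullSet_symm] at hR
  refine ⟨_, hR, ?_⟩
  have hco : ¬ MemLocalIdeal M (blockCoeff B (h : G)) := by rw [← zc_indVec]; exact hh
  set S := (R'.map e.symm.symm.toMonoidHom).map N.subtype with hS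
  have hSp : IsPGroup p S := (isPGroup_defectGroup hM hR).map _
  have hSle : S ≤ Subgroup.centralizer ({(h : G)} : Set G) := by
    rintro _ ⟨_, ⟨r, hr, rfl⟩, rfl⟩
    refine Subgroup.mem_centralizer_iff.2 fun z hz => ?_
    rw [Set.mem_singleton_iff] at hz
    subst hz
    exact (congrArg (Subtype.val : I → G) (hcomm r hr)).symm
  obtain ⟨x, hx⟩ := dClass_of_coeff hM hB hD hco S hSp hSle
  exact ⟨x⁻¹, le_map_conj_inv hx⟩

/-- `b` is stable under conjugation. -/
def IsStable (b : Set (IrrCharacter N)) : Prop := ∀ g : G, ∀ θ ∈ b, twistIrr N g θ ∈ b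

theorem IsStable.twist_iff (hst : IsStable b) (g : G) (θ : IrrCharacter N) :
    twistIrr N g θ ∈ b ↔ θ ∈ b :=
  ⟨fun h => by simpa [twistIrr_inv] using hst g⁻¹ _ h, hst g θ⟩

theorem IsStable.coeff_invariant (hst : IsStable b) (g : G) (n : N) :
    zc (indVec b) (MulAut.conjNormal g n) = zc (indVec b) n := by
  classical
  simp only [zc]
  congr 1
  refine Fintype.sum_equiv (irrEquiv (MulAut.conjNormal g : N ≃* N)) _ _ fun η => ?_
  have hmem : compIrr (MulAut.conjNormal g : N ≃* N) η ∈ b ↔ η ∈ b := hst.twist_iff g η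
  show indVec b η * (η : N → ℂ) 1 * (η : N → ℂ) (MulAut.conjNormal g n)⁻¹ =
    indVec b (compIrr (MulAut.conjNormal g : N ≃* N) η) *
      (compIrr (MulAut.conjNormal g : N ≃* N) η : N → ℂ) 1 *
      (compIrr (MulAut.conjNormal g : N ≃* N) η : N → ℂ) n⁻¹
  simp only [indVec, hmem, compIrr_apply, map_one, map_inv]

/-- The idempotent of `b` as a function on the whole group. -/
noncomputable def upCoeff (b : Set (IrrCharacter N)) : G → ℂ :=
  extendByZero N fun n : N => zc (indVec b) n

theorem upCoeff_coe (n : N) : upCoeff b (n : G) = zc (indVec b) n :=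
  Char.extendByZero_coe N _ n

theorem upCoeff_of_notMem {g : G} (hg : g ∉ N) : upCoeff b g = 0 :=
  Char.extendByZero_of_notMem N _ hg

theorem upCoeff_mem_locRing (hM : IsPModular p M) (hb : IsPBlock M b) (g : G) :
    upCoeff b g ∈ locRing hM := by
  by_cases hg : g ∈ N
  · exact (upCoeff_coe (b := b) ⟨g, hg⟩).symm ▸ vInt_indVec hM hb ⟨g, hg⟩
  · rw [upCoeff_of_notMem hg]; exact Subring.zero_mem _

theorem IsStable.isClassFunction_upCoeff (hst : IsStable b) : IsClassFunction G (upCoeff b) := by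
  intro g x
  by_cases hg : g ∈ N
  · rw [show g = ((⟨g, hg⟩ : N) : G) from rfl, upCoeff_coe, ← hst.coeff_invariant x ⟨g, hg⟩,
      ← upCoeff_coe]
    rfl
  · rw [upCoeff_of_notMem hg, upCoeff_of_notMem fun h => hg (by
      simpa [mul_assoc] using hN.conj_mem _ h x⁻¹)]

/-- `χ` lies over `b`. -/
def OverBlock (b : Set (IrrCharacter N)) (χ : IrrCharacter G) : Prop :=
  ∀ η : IrrCharacter N, classInner (fun n : N => (χ : G → ℂ) n) (η : N → ℂ) ≠ 0 → η ∈ b

/-- In a block covering a stable `b` all constituents lie in `b`. -/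
theorem IsStable.overBlock (hst : IsStable b) (hM : IsPModular p M) (hb : IsPBlock M b)
    {B : Set (IrrCharacter G)} (hB : IsPBlock M B)
    (hcov : ∃ χ ∈ B, ∃ θ ∈ b, classInner (fun n : N => (χ : G → ℂ) n) (θ : N → ℂ) ≠ 0)
    {χ' : IrrCharacter G} (hχ' : χ' ∈ B) : OverBlock b χ' := by
  obtain ⟨χ, hχ, θ, hθ, hc⟩ := hcov
  intro η hη
  obtain ⟨g, hg⟩ := constituent_conj N hM hB hb hχ hθ hc hχ' hη
  exact (hst.twist_iff g η).1 hg

/-- On a character over `b` the idempotent of `b` is the identity. -/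
theorem averageOp_upCoeff {χ : IrrCharacter G} (hover : OverBlock b χ) {n : ℕ}
    (ρ : Representation ℂ G (Fin n → ℂ)) (hρ : ∀ g, ρ.character g = (χ : G → ℂ) g) :
    Char.averageOp ρ (upCoeff b) = (1 : Module.End ℂ (Fin n → ℂ)) := by
  classical
  rw [averageOp_restrict ρ (H := N) fun g hg => upCoeff_of_notMem hg,
    show (fun m : N => upCoeff b m) = zc (indVec b) from funext fun m => upCoeff_coe m,
    averageOp_zc_congr (ρ.comp N.subtype) (w := 1) fun η hη => ?_,
    show zc (1 : IrrCharacter N → ℂ) = fun m : N => if m = 1 then (1 : ℂ) else 0 from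
      funext fun m => zc_one m, averageOp_delta]
  have : η ∈ b := hover η (by
    rwa [show (fun m : N => (χ : G → ℂ) m) = Representation.character (ρ.comp N.subtype) from
      funext fun m => (hρ m).symm])
  simp [indVec, this]

/-- Characters over `b` reproduce themselves under the idempotent of `b`. -/
theorem sum_upCoeff_mul {χ : IrrCharacter G} (hover : OverBlock b χ) (x : G) :
    ∑ k, upCoeff b k * (χ : G → ℂ) (x * k) = (χ : G → ℂ) x := by
  obtain ⟨n, ρ, -, hρ⟩ := χ.2
  have hρ' : ∀ g, ρ.character g = (χ : G → ℂ) g := fun g => congrFun hρ g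
  have h := trace_averageOp ρ (upCoeff b) x
  rw [averageOp_upCoeff hover ρ hρ', mul_one] at h
  calc ∑ k, upCoeff b k * (χ : G → ℂ) (x * k) = ∑ k, upCoeff b k * ρ.character (x * k) :=
        Finset.sum_congr rfl fun k _ => by rw [hρ']
    _ = LinearMap.trace ℂ _ (ρ x) := h.symm
    _ = _ := hρ' x

include hp in
/-- A defect group of a covering block meets `N` inside a defect group of a stable block. -/
theorem IsStable.inf_le_conj (hst : IsStable b) (hM : IsPModular p M) (hb : IsPBlock M b)
    {B : Set (IrrCharacter G)} (hB : IsPBlock M B)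
    (hcov : ∃ χ ∈ B, ∃ θ ∈ b, classInner (fun n : N => (χ : G → ℂ) n) (θ : N → ℂ) ≠ 0)
    {D : Subgroup G} (hD : IsDefectGroup p M B D) {Q : Subgroup N} (hQ : IsDefectGroup p M b Q) :
    ∃ n : N, ((D ⊓ N).subgroupOf N).map (MulAut.conj n).toMonoidHom ≤ Q := by
  classical
  have hDp := isPGroup_defectGroup hM hD
  obtain ⟨g₀, hg₀, P, hDP⟩ := isDefectGroup_iff.1 hD
  have hDle : D ≤ Subgroup.centralizer ({g₀} : Set G) := hDP ▸ cenSyl_le g₀ P
  set c := zc (indVec B) with hc
  have hkey : c g₀ = ∑ k, upCoeff b k * c (k⁻¹ * g₀) := by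
    simp only [hc, zc, Finset.mul_sum]
    rw [Finset.sum_comm]
    refine Finset.sum_congr rfl fun χ _ => ?_
    by_cases hχ : χ ∈ B
    · conv_lhs => rw [← sum_upCoeff_mul (hst.overBlock hM hb hB hcov hχ) g₀⁻¹]
      simp only [Finset.mul_sum, mul_inv_rev, inv_inv]
      exact Finset.sum_congr rfl fun k _ => by ring
    · simp [indVec, hχ]
  have hint : ∀ k, upCoeff b k * c (k⁻¹ * g₀) ∈ locRing hM := fun k =>
    Subring.mul_mem _ (upCoeff_mem_locRing hM hb k) (vInt_indVec hM hB _)
  have hinv : ∀ s ∈ D, ∀ k : G, upCoeff b (s * k * s⁻¹) * c ((s * k * s⁻¹)⁻¹ * g₀) =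
      upCoeff b k * c (k⁻¹ * g₀) := by
    intro s hs k
    have hsg : s * g₀ = g₀ * s := (Subgroup.mem_centralizer_iff.1 (hDle hs) g₀ rfl).symm
    rw [hst.isClassFunction_upCoeff k s, show (s * k * s⁻¹)⁻¹ * g₀ = s * (k⁻¹ * g₀) * s⁻¹ by
      calc (s * k * s⁻¹)⁻¹ * g₀ = s * k⁻¹ * (s⁻¹ * g₀) := by group
        _ = s * k⁻¹ * (g₀ * s⁻¹) := by
            congr 1
            rw [eq_mul_inv_iff_mul_eq, mul_assoc, ← hsg, inv_mul_cancel_left]
        _ = s * (k⁻¹ * g₀) * s⁻¹ := by group, hc, zc_conj_invariant]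
  obtain ⟨k, hk, hkc⟩ : ∃ k ∈ Subgroup.centralizer (D : Set G),
      ¬ MemLocalIdeal M (upCoeff b k) := by
    by_contra hcon
    push Not at hcon
    have h1 : MemLocalIdeal M (c g₀) := by
      rw [← res_eq_zero_iff hM (vInt_indVec hM hB g₀), show res hM (zc (indVec B) g₀) =
        res hM (∑ k, upCoeff b k * c (k⁻¹ * g₀)) by rw [← hkey], res_sum_centralizer hM D hDp
        (fun k => upCoeff b k * c (k⁻¹ * g₀)) hint hinv]
      exact Finset.sum_eq_zero fun k hk => (res_eq_zero_iff hM (hint k)).2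
        (memLocalIdeal_mul_right hM (hcon k (Finset.mem_filter.1 hk).2) (vInt_indVec hM hB _))
    exact hg₀.2.1 (by rw [← zc_indVec]; exact h1)
  have hkN : k ∈ N := by
    by_contra hn
    exact hkc (by rw [upCoeff_of_notMem hn]; exact memLocalIdeal_zero hM)
  have hkb : ¬ MemLocalIdeal M (blockCoeff b ⟨k, hkN⟩) := by
    rw [← zc_indVec, ← upCoeff_coe]
    exact hkc
  refine dClass_of_coeff hM hb hQ hkb _ ?_ fun d hd => ?_
  · exact (hDp.to_le inf_le_left).of_equiv (Subgroup.subgroupOfEquivOfLe inf_le_right).symm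
  · refine Subgroup.mem_centralizer_iff.2 fun z hz => ?_
    rw [Set.mem_singleton_iff] at hz
    subst hz
    exact Subtype.ext (Subgroup.mem_centralizer_iff.1 hk (d : G) (Subgroup.mem_inf.1 hd).1).symm

include hp in
/-- A stable block: `D ⊓ N` is a defect group of it. -/
theorem IsStable.defectGroup_inf (hst : IsStable b) (hM : IsPModular p M) (hb : IsPBlock M b)
    {B : Set (IrrCharacter G)} (hB : IsPBlock M B)
    (hcov : ∃ χ ∈ B, ∃ θ ∈ b, classInner (fun n : N => (χ : G → ℂ) n) (θ : N → ℂ) ≠ 0)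
    {D : Subgroup G} (hD : IsDefectGroup p M B D) :
    IsDefectGroup p M b ((D ⊓ N).subgroupOf N) := by
  obtain ⟨χ, hχ, θ, hθ, hc⟩ := hcov
  obtain ⟨R, hR, x, hx⟩ := exists_defect_le_conj hM hb hB hχ hθ hc hD
  obtain ⟨n, hn⟩ := hst.inf_le_conj hM hb hB ⟨χ, hχ, θ, hθ, hc⟩ hD hR
  set S := (D ⊓ N).subgroupOf N with hS
  have hScard : Nat.card S = Nat.card (D ⊓ N : Subgroup G) :=
    Nat.card_congr (Subgroup.subgroupOfEquivOfLe inf_le_right).toEquiv
  have hle : R.map N.subtype ≤ (D ⊓ N).map (MulAut.conj x).toMonoidHom := by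
    intro r hr
    obtain ⟨d, hd, rfl⟩ := hx hr
    refine ⟨d, Subgroup.mem_inf.2 ⟨hd, ?_⟩, rfl⟩
    have : (MulAut.conj x).toMonoidHom d ∈ N := by
      obtain ⟨r', -, he⟩ := hr
      rw [← he]; exact r'.2
    simpa [mul_assoc] using hN.conj_mem _ this x⁻¹
  have hcard : Nat.card R ≤ Nat.card (S.map (MulAut.conj n).toMonoidHom) := by
    rw [show Nat.card (S.map (MulAut.conj n).toMonoidHom) = Nat.card S from
      Subgroup.card_map_of_injective (MulAut.conj n).injective, hScard,
      show Nat.card R = Nat.card (R.map N.subtype) from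
        (Subgroup.card_map_of_injective (Subgroup.subtype_injective N)).symm,
      show Nat.card (D ⊓ N : Subgroup G) = Nat.card ((D ⊓ N).map (MulAut.conj x).toMonoidHom) from
        (Subgroup.card_map_of_injective (MulAut.conj x).injective).symm]
    exact Subgroup.card_le_of_le hle
  have heq := Subgroup.eq_of_le_of_card_ge hn hcard
  have hd := isDefectGroup_conj hM hb hR n⁻¹
  rw [← heq, Subgroup.map_map] at hd
  convert hd using 1
  symm
  convert Subgroup.map_id S
  ext; simp [mul_assoc]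

include hp in
/-- A stable block has a covering block of defect as large as possible. -/
theorem IsStable.exists_weaklyRegular (hst : IsStable b) (hM : IsPModular p M)
    (hb : IsPBlock M b) :
    ∃ B : Set (IrrCharacter G), IsPBlock M B ∧
      (∃ χ ∈ B, ∃ θ ∈ b, classInner (fun n : N => (χ : G → ℂ) n) (θ : N → ℂ) ≠ 0) ∧
      blockDefect p B = blockDefect p b + N.index.factorization p := by
  classical
  haveI : Finite (ConjClasses G) := Quotient.finite _
  haveI := Fintype.ofFinite (ConjClasses G)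
  obtain ⟨θ, hθ⟩ := nonempty_of_isPBlock hM hb
  set a := zc (indVec b) with ha
  -- a class of `G` inside `N` with unit coefficient and unit induced central character
  obtain ⟨n₀, ha₀, hω₀⟩ : ∃ n₀ : N, ¬ MemLocalIdeal M (a n₀) ∧
      ¬ MemLocalIdeal M (inducedCentralChar N (θ : N → ℂ) (n₀ : G)) := by
    by_contra hcon
    push Not at hcon
    have h1 : vec a θ = 1 := by rw [ha, congrFun (vec_zc _) θ, indVec, if_pos hθ]
    refine not_memLocalIdeal_one hM (h1 ▸ ?_)
    rw [vec, ← Finset.sum_fiberwise Finset.univ (fun m : N => ConjClasses.mk (m : G)), Finset.sum_div]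
    refine memLocalIdeal_sum hM _ _ fun C _ => ?_
    by_cases hC : ∃ n : N, ConjClasses.mk (n : G) = C
    · obtain ⟨n, rfl⟩ := hC
      have hsum : (∑ m ∈ Finset.univ.filter
          (fun m : N => ConjClasses.mk (m : G) = ConjClasses.mk (n : G)), a m * (θ : N → ℂ) m) /
            (θ : N → ℂ) 1 = a n * inducedCentralChar N (θ : N → ℂ) (n : G) := by
        rw [inducedCentralChar, finsum_mem_eq_finite_toFinset_sum _ (Set.toFinite _),
          Finset.mul_sum, Finset.sum_div]
        refine Finset.sum_congr ?_ fun m hm => ?_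
        · ext m
          simp only [Finset.mem_filter, Finset.mem_univ, true_and, Set.Finite.mem_toFinset,
            Set.mem_setOf_eq, ConjClasses.mk_eq_mk_iff_isConj]
          exact isConj_comm
        · have hm' := (Set.Finite.mem_toFinset _).1 hm
          obtain ⟨c, hc⟩ := isConj_iff.1 hm'
          rw [show m = MulAut.conjNormal c n from Subtype.ext hc.symm, ha, hst.coeff_invariant,
            mul_div_assoc]
      rw [hsum]
      rcases em (MemLocalIdeal M (a n)) with h | h
      · refine memLocalIdeal_mul_right hM h ?_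
        rw [inducedCentralChar_eq_ind]
        by_cases h0 : MemLocalIdeal M (centralChar (indFun N (θ : N → ℂ)) (n : G))
        · exact memLocRing_of_memLocalIdeal hM h0
        · obtain ⟨χ, hχ⟩ := exists_over N θ
          rw [← inducedCentralChar_eq_ind, ← centralChar_eq_of_constituent N hχ n]
          exact centralChar_mem_locRing hM χ _
      · exact memLocalIdeal_mul_left hM (vInt_indVec hM hb n) (hcon n h)
    · rw [Finset.sum_eq_zero fun m hm => absurd ⟨m, (Finset.mem_filter.1 hm).2⟩ hC, zero_div]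
      exact memLocalIdeal_zero hM
  -- the classes of `N` inside that class
  set S : Finset N := Finset.univ.filter fun m : N => IsConj (n₀ : G) (m : G) with hS
  set k := (Subgroup.centralizer ({n₀} : Set N)).index with hk
  have hconj : ∀ m ∈ S, ∃ c : G, (MulAut.conjNormal c : N ≃* N) n₀ = m := fun m hm => by
    obtain ⟨c, hc⟩ := isConj_iff.1 (Finset.mem_filter.1 hm).2
    exact ⟨c, Subtype.ext hc⟩
  have hfib : ∀ C ∈ S.image (ConjClasses.mk (α := N)), ∃ m ∈ S,
      S.filter (fun x => ConjClasses.mk x = C) = Char.classFinset m := fun C hC => by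
    obtain ⟨m, hm, rfl⟩ := Finset.mem_image.1 hC
    refine ⟨m, hm, ?_⟩
    ext x
    rw [Finset.mem_filter, Char.mem_classFinset, ConjClasses.mk_eq_mk_iff_isConj]
    refine ⟨fun h => h.2.symm, fun h => ⟨Finset.mem_filter.2 ⟨Finset.mem_univ _,
      (Finset.mem_filter.1 hm).2.trans ?_⟩, h.symm⟩⟩
    exact MonoidHom.map_isConj N.subtype h
  have hkm : ∀ m ∈ S, (Char.classFinset m).card = k := fun m hm => by
    obtain ⟨c, rfl⟩ := hconj m hm
    rw [Char.card_classFinset, index_centralizer_equiv]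
  set r := (S.image (ConjClasses.mk (α := N))).card with hr
  have hScard : S.card = r * k := by
    rw [Finset.card_eq_sum_card_image (ConjClasses.mk (α := N)) S, hr, ← smul_eq_mul,
      ← Finset.sum_const]
    refine Finset.sum_congr rfl fun C hC => ?_
    obtain ⟨m, hm, he⟩ := hfib C hC
    rw [he, hkm m hm]
  have hSG : S.card = (Subgroup.centralizer ({(n₀ : G)} : Set G)).index := by
    rw [← Char.card_classFinset]
    refine Finset.card_bij (fun m _ => (m : G)) (fun m hm => Char.mem_classFinset.2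
      (Finset.mem_filter.1 hm).2) (fun a _ b _ h => Subtype.ext h) fun y hy => ?_
    obtain ⟨c, hc⟩ := isConj_iff.1 (Char.mem_classFinset.1 hy)
    exact ⟨⟨y, hc ▸ hN.conj_mem _ n₀.2 c⟩,
      Finset.mem_filter.2 ⟨Finset.mem_univ _, Char.mem_classFinset.1 hy⟩, rfl⟩
  have hind : MemLocalIdeal M (inducedCentralChar N (θ : N → ℂ) (n₀ : G) -
      (r : ℂ) * centralChar (θ : N → ℂ) n₀) := by
    have e : inducedCentralChar N (θ : N → ℂ) (n₀ : G) =
        ∑ C ∈ S.image (ConjClasses.mk (α := N)),
          (∑ m ∈ S.filter (fun x => ConjClasses.mk x = C), (θ : N → ℂ) m / (θ : N → ℂ) 1) := by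
      rw [Finset.sum_fiberwise_of_maps_to (fun x hx => Finset.mem_image_of_mem _ hx),
        inducedCentralChar, finsum_mem_eq_finite_toFinset_sum _ (Set.toFinite _)]
      exact Finset.sum_congr (by ext; simp [hS]) fun _ _ => rfl
    rw [e, hr, ← nsmul_eq_mul, ← Finset.sum_const, ← Finset.sum_sub_distrib]
    refine memLocalIdeal_sum hM _ _ fun C hC => ?_
    obtain ⟨m, hm, he⟩ := hfib C hC
    rw [he, ← Finset.sum_div, Char.sum_classFinset θ.2.isClassFunction, Char.card_classFinset]
    show MemLocalIdeal M (centralChar (θ : N → ℂ) m - _)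
    obtain ⟨c, rfl⟩ := hconj m hm
    rw [← centralChar_compIrr]
    exact sameBlock_of_mem hM hb (hst c θ hθ) hθ n₀
  have hne : ¬ MemLocalIdeal M ((r : ℂ) * centralChar (θ : N → ℂ) n₀) := fun h =>
    hω₀ (by simpa using memLocalIdeal_add hM hind h)
  rw [memLocalIdeal_mul_iff hM (natCast_mem_locRing hM r) (centralChar_mem_locRing hM θ n₀),
    not_or, memLocalIdeal_natCast_iff hM] at hne
  obtain ⟨hrp, hω⟩ := hne
  have hacl : IsDefectClass M b n₀ := by
    refine ⟨?_, ?_, fun η hη h => hω ?_⟩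
    · rw [← zc_indVec]; exact vInt_indVec hM hb n₀
    · rw [← zc_indVec]; exact ha₀
    · simpa using memLocalIdeal_add hM (sameBlock_of_mem hM hb hθ hη n₀) h
  -- a covering block with this class as defect class
  set U : Set (IrrCharacter G) := {χ | OverBlock b χ} with hU
  have hUv : vec (upCoeff b) = indVec U := by
    funext χ
    obtain ⟨n, ρ, -, hρ⟩ := χ.2
    have hρ' : ∀ g, ρ.character g = (χ : G → ℂ) g := fun g => congrFun hρ g
    have h := trace_averageOp ρ (upCoeff b) 1
    rw [map_one, one_mul] at h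
    have hv : vec (upCoeff b) χ = LinearMap.trace ℂ _ (Char.averageOp ρ (upCoeff b)) /
        (χ : G → ℂ) 1 := by
      rw [h, vec]; simp [hρ']
    rw [hv, indVec]
    by_cases hχ : χ ∈ U
    · rw [if_pos hχ, averageOp_upCoeff hχ ρ hρ', ← map_one ρ,
        show LinearMap.trace ℂ _ (ρ 1) = (χ : G → ℂ) 1 from hρ' 1,
        div_self χ.2.apply_one_ne_zero]
    · rw [if_neg hχ, averageOp_restrict ρ (H := N) fun g hg => upCoeff_of_notMem hg,
        show (fun m : N => upCoeff b m) = zc (indVec b) from funext fun m => upCoeff_coe m,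
        averageOp_zc_congr (ρ.comp N.subtype) (w := 0) fun η hη => ?_,
        show zc (0 : IrrCharacter N → ℂ) = 0 from funext fun m => zc_zero m]
      · simp [Char.averageOp]
      · rw [show Representation.character (ρ.comp N.subtype) = fun m : N => (χ : G → ℂ) m from
          funext fun m => hρ' m] at hη
        simp only [indVec, Pi.zero_apply, ite_eq_right_iff, one_ne_zero, imp_false]
        intro hηb
        exact hχ (hst.overBlock hM hb (isPBlock_blockOf χ)
          ⟨χ, self_mem_blockOf hM χ, η, hηb, hη⟩ (self_mem_blockOf hM χ))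
  have hUint : ¬ MemLocalIdeal M (zc (indVec U) (n₀ : G)) := by
    rw [← hUv, zc_vec hst.isClassFunction_upCoeff, upCoeff_coe]
    exact ha₀
  haveI := Fintype.ofFinite {f : Set (IrrCharacter G) // IsPBlock M f}
  have hdec : indVec U = ∑ f : {f : Set (IrrCharacter G) // IsPBlock M f}, indVec (U ∩ f.1) := by
    conv_lhs => rw [← mul_one (indVec U), ← sum_indVec_blocks hM, Finset.mul_sum]
    exact Finset.sum_congr rfl fun f _ => indVec_mul_indVec _ _
  obtain ⟨f, hf⟩ : ∃ f : {f : Set (IrrCharacter G) // IsPBlock M f},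
      ¬ MemLocalIdeal M (zc (indVec (U ∩ f.1)) (n₀ : G)) := by
    by_contra hcon
    push Not at hcon
    rw [hdec, zc_sum] at hUint
    exact hUint (memLocalIdeal_sum hM _ _ fun f _ => hcon f)
  obtain ⟨χ, hχU, hχf⟩ : ∃ χ, χ ∈ U ∧ χ ∈ f.1 := by
    by_contra hcon
    push Not at hcon
    refine hf ?_
    rw [show indVec (U ∩ f.1) = 0 from funext fun χ => if_neg fun h => hcon χ h.1 h.2, zc_zero]
    exact memLocalIdeal_zero hM
  obtain ⟨θ', hθ'⟩ := Char.exists_irr_constituent_res N χ.2
  have hcov : ∃ ξ ∈ f.1, ∃ η ∈ b, classInner (fun n : N => (ξ : G → ℂ) n) (η : N → ℂ) ≠ 0 :=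
    ⟨χ, hχf, θ', hχU θ' hθ', hθ'⟩
  have hUf : U ∩ f.1 = f.1 :=
    Set.inter_eq_right.2 fun ξ hξ => hst.overBlock hM hb f.2 hcov hξ
  rw [hUf, zc_indVec] at hf
  have hcls : IsDefectClass M f.1 (n₀ : G) := by
    refine ⟨blockCoeff_mem_locRing hM f.2 _, hf, fun ξ hξ h => ?_⟩
    obtain ⟨η, hη⟩ := Char.exists_irr_constituent_res N ξ.2
    rw [centralChar_eq_of_constituent N hη n₀] at h
    have hηb : η ∈ b := hst.overBlock hM hb f.2 hcov hξ η hη
    exact hω₀ (by simpa using
      memLocalIdeal_add hM (inducedCentralChar_congr N hM (sameBlock_of_mem hM hb hθ hηb) (n₀ : G)) h)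
  refine ⟨f.1, f.2, hcov, ?_⟩
  rw [← factorization_cenCard_defectClass hM f.2 hcls, ← factorization_cenCard_defectClass hM hb hacl]
  have h1 := Subgroup.index_mul_card (Subgroup.centralizer ({(n₀ : G)} : Set G))
  rw [← hSG, hScard, ← Subgroup.index_mul_card N,
    ← Subgroup.index_mul_card (Subgroup.centralizer ({n₀} : Set N)), ← hk] at h1
  have hk0 : k ≠ 0 := Subgroup.index_ne_zero_of_finite
  have hr0 : r ≠ 0 := fun h => hrp (h ▸ dvd_zero p)
  have h2 := congrArg (fun n => n.factorization p) h1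
  simp only [Nat.factorization_mul (Nat.mul_ne_zero hr0 hk0) Nat.card_pos.ne',
    Nat.factorization_mul hr0 hk0, Nat.factorization_mul N.index_ne_zero_of_finite
      (Nat.mul_ne_zero hk0 Nat.card_pos.ne'), Nat.factorization_mul hk0 Nat.card_pos.ne',
    Finsupp.add_apply, Nat.factorization_eq_zero_of_not_dvd hrp, zero_add] at h2
  simp only [cenCard]
  omega

/-! ## Arbitrary blocks of the normal subgroup -/

theorem exists_blockStab (hM : IsPModular p M) (hb : IsPBlock M b) :
    ∃ T : Subgroup G, N ≤ T ∧ IsBlockStab T b := by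
  classical
  let T : Subgroup G :=
    { carrier := {g | ∀ θ ∈ b, twistIrr N g θ ∈ b}
      one_mem' := fun θ hθ => by
        rwa [show twistIrr N 1 θ = θ from Subtype.ext (by rw [coe_twistIrr, Char.conjTwist_one])]
      mul_mem' := fun {x y} hx hy θ hθ => by
        rw [show twistIrr N (x * y) θ = twistIrr N y (twistIrr N x θ) from Subtype.ext (by
          rw [coe_twistIrr, coe_twistIrr, coe_twistIrr, Char.conjTwist_conjTwist])]
        exact hy _ (hx _ hθ)
      inv_mem' := fun {x} hx θ hθ => by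
        have h1 : twistIrr N x⁻¹ (twistIrr N x θ) ∈ b := by rw [twistIrr_inv]; exact hθ
        exact mem_of_sameBlock hM hb h1
          ((sameBlock_twistIrr N x⁻¹ _ _).2 (sameBlock_of_mem hM hb (hx θ hθ) hθ)) }
  refine ⟨T, fun n hn θ hθ => ?_, fun g => ⟨fun hg θ hθ θ' he => ?_, fun h θ hθ =>
    h θ hθ _ fun n => twistIrr_apply N g θ n⟩⟩
  · rwa [show twistIrr N n θ = θ from Subtype.ext (by
      rw [coe_twistIrr]; exact Char.le_inertia N θ.2.isClassFunction hn)]
  · rw [show θ' = twistIrr N g θ from Subtype.ext (funext fun n => by rw [twistIrr_apply]; exact he n)]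
    exact hg θ hθ

include hp in
/-- Defect groups of covering blocks meet the normal subgroup in defect groups below. -/
theorem exists_defectGroup_meet (hM : IsPModular p M) (hb : IsPBlock M b)
    {B : Set (IrrCharacter G)} (hB : IsPBlock M B)
    (hcov : ∃ χ ∈ B, ∃ θ ∈ b, classInner (fun n : N => (χ : G → ℂ) n) (θ : N → ℂ) ≠ 0) :
    ∃ D : Subgroup G, IsDefectGroup p M B D ∧ IsDefectGroup p M b ((D ⊓ N).subgroupOf N) ∧
      ∀ d ∈ D, ∀ θ ∈ b, twistIrr N d θ ∈ b := by
  classical
  obtain ⟨T, hNT, hT⟩ := exists_blockStab (G := G) hM hb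
  haveI := Fintype.ofFinite T
  obtain ⟨B', hB', hcov', hind⟩ := hT.exists_corr hNT hM hb hB hcov
  obtain ⟨D', hD'⟩ := exists_defectGroup hM hB'
  refine ⟨D'.map T.subtype, hT.defectGroup hNT hM hb hB' hcov' hind hD', ?_, ?_⟩
  swap
  · rintro _ ⟨t, -, rfl⟩ θ hθ
    exact hT.twist_mem t.2 hθ
  haveI : (N.subgroupOf T).Normal := hN.subgroupOf T
  haveI := Fintype.ofFinite (N.subgroupOf T)
  set e := Subgroup.subgroupOfEquivOfLe hNT with he
  have hst' : IsStable (G := T) (pullSet e b) := by
    intro t η hη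
    obtain ⟨η', rfl⟩ : ∃ η', compIrr e η' = η := ⟨compIrr e.symm η, compIrr_compIrr_symm e η⟩
    rw [show twistIrr (N.subgroupOf T) t (compIrr e η') = compIrr e (twistIrr N (t : G) η') from
      Subtype.ext (funext fun x => rfl)]
    exact mem_pullSet.2 (hT.twist_mem t.2 (mem_pullSet.1 hη))
  obtain ⟨ψ, hψ, θ, hθ, hc⟩ := hcov'
  have h := hst'.defectGroup_inf hM (isPBlock_pullSet (M := M) e hb) hB'
    ⟨ψ, hψ, compIrr e θ, mem_pullSet.2 hθ,
      (Char.classInner_resTo N (θ : N → ℂ) hNT (ψ : T → ℂ)).trans_ne hc⟩ hD'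
  have h' := isDefectGroup_pullSet e.symm h
  rw [pullSet_symm] at h'
  convert h' using 1
  ext n
  simp only [Subgroup.mem_subgroupOf, Subgroup.mem_inf, Subgroup.mem_map]
  constructor
  · rintro ⟨⟨d, hd, hdn⟩, hn⟩
    exact ⟨⟨⟨n, hNT n.2⟩, n.2⟩, ⟨(Subtype.ext hdn : d = ⟨n, hNT n.2⟩) ▸ hd, n.2⟩, Subtype.ext rfl⟩
  · rintro ⟨x, ⟨hx, -⟩, rfl⟩
    exact ⟨⟨(x : T), hx, rfl⟩, SetLike.coe_mem _⟩

end Cfsg.Lib.Block
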