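import Cfsg.Agent.Lib.Block.CoverApps

/-!
# Stabilisers of covered blocks
-/

set_option autoImplicit false
set_option linter.unusedSectionVars false
set_option maxHeartbeats 800000

namespace Cfsg.Lib.Block

open Cfsg
open scoped ComplexConjugate

universe u

variable {p : ℕ} [hp : Fact p.Prime] {M : Ideal AlgInt} {G : Type u} [Group G] [Fintype G]
  {N : Subgroup G} [hN : N.Normal] [Fintype N] {b : Set (IrrCharacter N)}

/-- `b` read on `N.subgroupOf T` is stable in the stabiliser. -/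
theorem IsBlockStab.isStable_pullSet {T : Subgroup G} [Fintype T] [Fintype (N.subgroupOf T)]
    [(N.subgroupOf T).Normal] (hNT : N ≤ T) (hT : IsBlockStab T b) :
    IsStable (G := T) (pullSet (Subgroup.subgroupOfEquivOfLe hNT) b) := by
  intro t η hη
  set e := Subgroup.subgroupOfEquivOfLe hNT with he
  obtain ⟨η', rfl⟩ : ∃ η', compIrr e η' = η := ⟨compIrr e.symm η, compIrr_compIrr_symm e η⟩
  rw [show twistIrr (N.subgroupOf T) t (compIrr e η') = compIrr e (twistIrr N (t : G) η') from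
    Subtype.ext (funext fun x => rfl)]
  exact mem_pullSet.2 (hT.twist_mem t.2 (mem_pullSet.1 hη))

include hp in
/-- With defect group inside `N` and `p`-power index the stabiliser is `N`. -/
theorem stab_le_of_defect_le (hM : IsPModular p M) (hb : IsPBlock M b)
    (hidx : ∃ k : ℕ, N.index = p ^ k) {B : Set (IrrCharacter G)} (hB : IsPBlock M B)
    (hcov : ∃ χ ∈ B, ∃ θ ∈ b, classInner (fun n : N => (χ : G → ℂ) n) (θ : N → ℂ) ≠ 0)
    {D : Subgroup G} (hD : IsDefectGroup p M B D) (hDN : D ≤ N) {g : G}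
    (hg : ∀ θ ∈ b, twistIrr N g θ ∈ b) : g ∈ N := by
  classical
  obtain ⟨T, hNT, hT⟩ := exists_blockStab (G := G) hM hb
  haveI := Fintype.ofFinite T
  haveI : (N.subgroupOf T).Normal := hN.subgroupOf T
  haveI := Fintype.ofFinite (N.subgroupOf T)
  obtain ⟨B', hB', hcov', hind⟩ := hT.exists_corr hNT hM hb hB hcov
  obtain ⟨D', hD'⟩ := exists_defectGroup hM hB'
  obtain ⟨x, hx⟩ := exists_conj_defectGroup hM hB hD (hT.defectGroup hNT hM hb hB' hcov' hind hD')
  have hD'N : D' ≤ N.subgroupOf T := by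
    intro d hd
    obtain ⟨d₀, hd₀, he⟩ := (hx ▸ Subgroup.mem_map_of_mem T.subtype hd :
      (d : G) ∈ D.map (MulAut.conj x).toMonoidHom)
    rw [Subgroup.mem_subgroupOf, ← he]
    exact hN.conj_mem d₀ (hDN hd₀) x
  have hidx' : ∃ k : ℕ, (N.subgroupOf T).index = p ^ k := by
    obtain ⟨k, hk⟩ := hidx
    have h1 : (N.subgroupOf T).index ∣ p ^ k :=
      hk ▸ Dvd.intro _ (Subgroup.relIndex_mul_index hNT)
    obtain ⟨i, -, hi⟩ := (Nat.dvd_prime_pow hp.out).1 h1
    exact ⟨i, hi⟩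
  have hbT := isPBlock_pullSet (M := M) (Subgroup.subgroupOfEquivOfLe hNT) hb
  obtain ⟨B₀, hB₀, -, hmem, hP⟩ := (hT.isStable_pullSet hNT).pPower_index hM hbT hidx'
  obtain ⟨ψ, hψ, θ, hθ, hc⟩ := hcov'
  have heq : B' = B₀ := by
    refine isPBlock_eq_of_mem hM hB' hB₀ hψ ((hmem ψ).2 ?_)
    exact (hT.isStable_pullSet hNT).overBlock hM hbT hB'
      ⟨ψ, hψ, compIrr (Subgroup.subgroupOfEquivOfLe hNT) θ, mem_pullSet.2 hθ,
        (Char.classInner_resTo N (θ : N → ℂ) hNT (ψ : T → ℂ)).trans_ne hc⟩ hψ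
  obtain ⟨htop, -⟩ := hP D' (heq ▸ hD')
  rw [sup_eq_left.2 hD'N, Subgroup.subgroupOf_eq_top] at htop
  exact htop ((hT g).2 fun θ hθ θ' he => by
    rw [show θ' = twistIrr N g θ from Subtype.ext (funext fun n => by rw [twistIrr_apply]; exact he n)]
    exact hg θ hθ)

include hp in
/-- The stabiliser of a covered block meets a `p`-power overgroup of `N` in `N`. -/
theorem stab_inf_eq (hM : IsPModular p M) (hb : IsPBlock M b) {L : Subgroup G} [hL : L.Normal]
    (hNL : N ≤ L) (hidx : ∃ k : ℕ, (N.subgroupOf L).index = p ^ k)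
    {B : Set (IrrCharacter G)} (hB : IsPBlock M B)
    (hcov : ∃ χ ∈ B, ∃ θ ∈ b, classInner (fun n : N => (χ : G → ℂ) n) (θ : N → ℂ) ≠ 0)
    {D : Subgroup G} (hD : IsDefectGroup p M B D) (hDN : D ≤ N) {g : G} (hgL : g ∈ L)
    (hg : ∀ θ ∈ b, twistIrr N g θ ∈ b) : g ∈ N := by
  classical
  haveI := Fintype.ofFinite L
  haveI : (N.subgroupOf L).Normal := hN.subgroupOf L
  haveI := Fintype.ofFinite (N.subgroupOf L)
  set e := Subgroup.subgroupOfEquivOfLe hNL with he
  obtain ⟨χ, hχ, θ, hθ, hc⟩ := hcov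
  have hres : IsCharacter L (fun l : L => (χ : G → ℂ) l) := χ.2.isCharacter.comp L.subtype
  have hc2 : classInner (fun x : N.subgroupOf L => (fun l : L => (χ : G → ℂ) l) x)
      (Char.resTo N (θ : N → ℂ) L) ≠ 0 :=
    (Char.classInner_resTo N (θ : N → ℂ) hNL (fun l : L => (χ : G → ℂ) l)).trans_ne hc
  obtain ⟨ξ, hξχ, hξθ⟩ := Char.exists_constituent_of_res (N.subgroupOf L) hres hc2
  obtain ⟨D₁, hD₁, hD₁L, -⟩ := exists_defectGroup_meet (N := L) hM (isPBlock_blockOf ξ) hB
    ⟨χ, hχ, ξ, self_mem_blockOf hM ξ, hξχ⟩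
  obtain ⟨x, hx⟩ := exists_conj_defectGroup hM hB hD hD₁
  have hsub : (D₁ ⊓ L).subgroupOf L ≤ N.subgroupOf L := by
    intro d hd
    rw [Subgroup.mem_subgroupOf] at hd ⊢
    have hd1 := (Subgroup.mem_inf.1 hd).1
    rw [← hx] at hd1
    obtain ⟨d₀, hd₀, h0⟩ := hd1
    rw [← h0]
    exact hN.conj_mem d₀ (hDN hd₀) x
  have h := stab_le_of_defect_le (G := L) hM (isPBlock_pullSet (M := M) e hb) hidx
    (isPBlock_blockOf ξ) ⟨ξ, self_mem_blockOf hM ξ, compIrr e θ, mem_pullSet.2 hθ, hξθ⟩ hD₁L hsub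
    (g := ⟨g, hgL⟩) fun η hη => ?_
  · exact Subgroup.mem_subgroupOf.1 h
  · obtain ⟨η', rfl⟩ : ∃ η', compIrr e η' = η := ⟨compIrr e.symm η, compIrr_compIrr_symm e η⟩
    rw [show twistIrr (N.subgroupOf L) ⟨g, hgL⟩ (compIrr e η') = compIrr e (twistIrr N g η') from
      Subtype.ext (funext fun x => rfl)]
    exact mem_pullSet.2 (hg η' (mem_pullSet.1 hη))

include hp in
/-- A height zero member with `p'`-index inertia group in the stabiliser. -/
theorem exists_height_zero_stable (hM : IsPModular p M) (hb : IsPBlock M b) {T : Subgroup G}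
    (hT : IsBlockStab T b) (hNT : N ≤ T) :
    ∃ θ ∈ b, blockHeight p b (θ : N → ℂ) = 0 ∧
      ¬ p ∣ (Char.inertia N (θ : N → ℂ)).relIndex T := by
  classical
  haveI := Fintype.ofFinite T
  haveI : (N.subgroupOf T).Normal := hN.subgroupOf T
  haveI := Fintype.ofFinite (N.subgroupOf T)
  set e := Subgroup.subgroupOfEquivOfLe hNT with he
  have hbT := isPBlock_pullSet (M := M) e hb
  have hst := hT.isStable_pullSet hNT
  obtain ⟨B, hB, hcov, hd⟩ := hst.exists_weaklyRegular hM hbT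
  rw [blockDefect_pullSet] at hd
  obtain ⟨χ, hχ, hχv⟩ := Nat.sInf_mem ((nonempty_of_isPBlock hM hB).image
    (fun χ : IrrCharacter T => (charDegree (χ : T → ℂ)).factorization p))
  obtain ⟨η, hη⟩ := Char.exists_irr_constituent_res (N.subgroupOf T) χ.2
  have hηb : η ∈ pullSet e b := hst.overBlock hM hbT hB hcov hχ η hη
  obtain ⟨θ, rfl⟩ : ∃ θ, compIrr e θ = η := ⟨compIrr e.symm η, compIrr_compIrr_symm e η⟩
  have hθ : θ ∈ b := mem_pullSet.1 hηb
  have hdeg := Char.clifford_degree (N.subgroupOf T) χ.2 (compIrr e θ).2 hη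
  obtain ⟨m, hm⟩ := (χ.2.isCharacter.comp (N.subgroupOf T).subtype).exists_nat_classInner
    (compIrr e θ).2.isCharacter
  have hm' : classInner (fun x : N.subgroupOf T => (χ : T → ℂ) x)
      (compIrr e θ : N.subgroupOf T → ℂ) = (m : ℂ) := hm
  have hin : Char.inertia (N.subgroupOf T) (compIrr e θ : N.subgroupOf T → ℂ) =
      (Char.inertia N (θ : N → ℂ)).subgroupOf T := inertia_resTo_eq N hNT (θ : N → ℂ)
  rw [hm', hin] at hdeg
  set r := ((Char.inertia N (θ : N → ℂ)).subgroupOf T).index with hr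
  have hr0 : r ≠ 0 := Subgroup.index_ne_zero_of_finite
  have hm0 : m ≠ 0 := fun h => hη (by rw [hm', h, Nat.cast_zero])
  rw [show (compIrr e θ : N.subgroupOf T → ℂ) 1 = (θ : N → ℂ) 1 by rw [compIrr_apply, map_one],
    apply_one_eq_charDegree θ] at hdeg
  have hχd : charDegree (χ : T → ℂ) = m * r * charDegree (θ : N → ℂ) :=
    charDegree_eq_of_apply_one (by rw [hdeg]; push_cast; ring)
  have hv := congrArg (fun n => n.factorization p) hχd
  simp only [Nat.factorization_mul (Nat.mul_ne_zero hm0 hr0) (charDegree_pos θ).ne',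
    Nat.factorization_mul hm0 hr0, Finsupp.add_apply] at hv
  have hle1 : (charDegree (χ : T → ℂ)).factorization p ≤ (Nat.card T).factorization p :=
    (Nat.factorization_le_iff_dvd (charDegree_pos χ).ne' Nat.card_pos.ne').2
      (charDegree_dvd_card χ) p
  have hle2 : (charDegree (θ : N → ℂ)).factorization p ≤ (Nat.card N).factorization p :=
    (Nat.factorization_le_iff_dvd (charDegree_pos θ).ne' Nat.card_pos.ne').2
      (charDegree_dvd_card θ) p
  have hmin : sInf ((fun ψ : IrrCharacter N => (charDegree (ψ : N → ℂ)).factorization p) '' b) ≤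
      (charDegree (θ : N → ℂ)).factorization p := Nat.sInf_le ⟨θ, hθ, rfl⟩
  have hcard : (Nat.card T).factorization p =
      (Nat.card N).factorization p + (N.subgroupOf T).index.factorization p := by
    rw [← Subgroup.index_mul_card (N.subgroupOf T),
      Nat.factorization_mul Subgroup.index_ne_zero_of_finite Nat.card_pos.ne', Finsupp.add_apply,
      Nat.card_congr e.toEquiv, add_comm]
  simp only [blockDefect, ← hχv] at hd
  refine ⟨θ, hθ, ?_, fun hdvd => ?_⟩
  · simp only [blockHeight]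
    omega
  · have := hp.out.factorization_pos_of_dvd hr0 hdvd
    omega

end Cfsg.Lib.Block
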