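import Cfsg.Agent.Lib.Block.Defect
import Mathlib.RingTheory.Polynomial.Cyclotomic.Eval
import Mathlib.RingTheory.Polynomial.Cyclotomic.Roots

/-!
# Divisibility of coefficients of cyclotomic integers of prime power level

The prime `p` is the `φ(p ^ e)`-th power of `ζ - 1` up to a local integer, so an element
`∑ c_j ζ ^ j`, `j < φ(p ^ e)`, is locally divisible by `p ^ h` only if all `c_j` are.
-/

set_option autoImplicit false
set_option linter.unusedSectionVars false

namespace Cfsg.Lib.Block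

open Cfsg

variable {p : ℕ} {M : Ideal AlgInt} [Fact p.Prime] (hM : IsPModular p M) {e : ℕ} {ζ : ℂ}
  (hζ : IsPrimitiveRoot ζ (p ^ (e + 1)))

include hM hζ in
theorem zeta_sub_one_mem : MemLocalIdeal M (ζ - 1) :=
  memLocalIdeal_sub_one_of_pow_prime_pow hM (k := e + 1) hζ.pow_eq_one

include hM hζ in
/-- The prime divided by a power of `ζ - 1` at most `φ(p ^ (e+1))`. -/
theorem prime_div_pow_mem_locRing :
    (p : ℂ) / (ζ - 1) ^ (p ^ e * (p - 1)) ∈ locRing hM := by
  classical
  have hp := (Fact.out : p.Prime)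
  haveI : NeZero (p ^ (e + 1)) := ⟨pow_ne_zero _ hp.ne_zero⟩
  have hz0 : ζ - 1 ≠ 0 := sub_ne_zero.2 (hζ.ne_one (Nat.one_lt_pow e.succ_ne_zero hp.one_lt))
  have hev : (p : ℂ) = ∏ μ ∈ primitiveRoots (p ^ (e + 1)) ℂ, (1 - μ) := by
    rw [← Polynomial.eval_one_cyclotomic_prime_pow (R := ℂ) e,
      Polynomial.cyclotomic_eq_prod_X_sub_primitiveRoots hζ, Polynomial.eval_prod]
    simp
  have hcard : (primitiveRoots (p ^ (e + 1)) ℂ).card = p ^ e * (p - 1) := by
    rw [hζ.card_primitiveRoots, Nat.totient_prime_pow_succ hp]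
  rw [hev, ← hcard, ← Finset.prod_const, ← Finset.prod_div_distrib]
  refine prod_mem fun μ hμ => ?_
  rw [mem_primitiveRoots (NeZero.pos _)] at hμ
  obtain ⟨i, -, hi⟩ := hζ.eq_pow_of_pow_eq_one hμ.pow_eq_one
  have e1 : (1 - μ) / (ζ - 1) = -∑ j ∈ Finset.range i, ζ ^ j := by
    rw [geom_sum_eq (sub_ne_zero.1 hz0), hi, ← neg_div, neg_sub]
  rw [e1]
  exact neg_mem (sum_mem fun j _ => pow_mem (isIntegral_mem_locRing hM
    (IsIntegral.of_pow (NeZero.pos (p ^ (e + 1))) (hζ.pow_eq_one.symm ▸ isIntegral_one))) j)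

include hM hζ in
theorem prime_dvd_coeff (m : ℕ) : ∀ (i : ℕ), i + m ≤ p ^ e * (p - 1) → ∀ c : ℕ → ℤ,
    ((ζ - 1) ^ i * ∑ j ∈ Finset.range m, (c j : ℂ) * ζ ^ j) / (p : ℂ) ∈ locRing hM →
      ∀ j < m, (p : ℤ) ∣ c j := by
  have hp := (Fact.out : p.Prime)
  have hp0 : (p : ℂ) ≠ 0 := Nat.cast_ne_zero.2 hp.ne_zero
  have hz0 : ζ - 1 ≠ 0 := sub_ne_zero.2 (hζ.ne_one (Nat.one_lt_pow e.succ_ne_zero hp.one_lt))
  induction m with
  | zero => intro i _ c _ j hj; omega
  | succ m ih =>
    intro i hi c hx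
    set x := ∑ j ∈ Finset.range (m + 1), (c j : ℂ) * ζ ^ j with hxdef
    have hxM : MemLocalIdeal M x := by
      have h1 : MemLocalIdeal M ((ζ - 1) ^ (p ^ e * (p - 1) - i)) := by
        obtain ⟨k, hk⟩ : ∃ k, p ^ e * (p - 1) - i = k + 1 := ⟨_ , (Nat.sub_add_cancel (by omega : 1 ≤ p ^ e * (p - 1) - i)).symm⟩
        rw [hk, pow_succ]
        exact memLocalIdeal_mul_left hM (pow_mem (sub_mem (isIntegral_mem_locRing hM
          (IsIntegral.of_pow (pow_pos hp.pos (e + 1)) (hζ.pow_eq_one.symm ▸ isIntegral_one)))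
          (one_mem _)) _) (zeta_sub_one_mem hM hζ)
      have h2 := memLocalIdeal_mul_left hM (mul_mem hx (prime_div_pow_mem_locRing hM hζ)) h1
      convert h2 using 1
      have hsplit : (ζ - 1) ^ (p ^ e * (p - 1)) =
          (ζ - 1) ^ i * (ζ - 1) ^ (p ^ e * (p - 1) - i) := by
        rw [← pow_add, Nat.add_sub_cancel' (by omega)]
      rw [hsplit]
      have := pow_ne_zero i hz0
      have := pow_ne_zero (p ^ e * (p - 1) - i) hz0
      field_simp
    -- the value at one
    set S : ℤ := ∑ j ∈ Finset.range (m + 1), c j with hS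
    have hxS : MemLocalIdeal M (x - (S : ℂ)) := by
      rw [hxdef, hS, Int.cast_sum, ← Finset.sum_sub_distrib]
      refine memLocalIdeal_sum hM _ _ fun j _ => ?_
      rw [← mul_sub_one]
      exact memLocalIdeal_mul_left hM (intCast_mem _ _)
        (memLocalIdeal_sub_one_of_pow_prime_pow hM (k := e + 1)
          (by rw [← pow_mul, mul_comm, pow_mul, hζ.pow_eq_one, one_pow]))
    have hSp : (p : ℤ) ∣ S := by
      have h3 := memLocalIdeal_sub hM hxM hxS
      rw [sub_sub_cancel] at h3
      rw [Int.natCast_dvd]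
      refine (memLocalIdeal_natCast_iff hM _).1 ?_
      rcases Int.natAbs_eq S with h | h
      · rw [h, Int.cast_natCast] at h3; exact h3
      · rw [h, Int.cast_neg, Int.cast_natCast] at h3
        have := memLocalIdeal_mul_left hM (neg_mem (one_mem _)) h3
        rwa [neg_one_mul, neg_neg] at this
    obtain ⟨q, hq⟩ := hSp
    set c' : ℕ → ℤ := fun j => ∑ k ∈ Finset.Ico (j + 1) (m + 1), c k with hc'
    have hrec : ∀ j, j < m + 1 → c' j + c j = ∑ k ∈ Finset.Ico j (m + 1), c k := fun j hj => by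
      rw [hc', Finset.sum_eq_sum_Ico_succ_bot hj, add_comm]
    have hid : x = (ζ - 1) * ∑ j ∈ Finset.range m, (c' j : ℂ) * ζ ^ j + (S : ℂ) := by
      have htel : ∀ n, n ≤ m + 1 → ∑ j ∈ Finset.range n, (c j : ℂ) * ζ ^ j =
          (ζ - 1) * ∑ j ∈ Finset.range (n - 1), (c' j : ℂ) * ζ ^ j + (S : ℂ) -
            (if n = 0 then (S : ℂ) else (c' (n - 1) : ℂ) * ζ ^ (n - 1)) := by
        intro n hn
        induction n with
        | zero => simp
        | succ n ih2 =>
          rw [Finset.sum_range_succ, ih2 (by omega)]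
          rcases n with _ | n
          · have := hrec 0 (by omega)
            rw [← Finset.range_eq_Ico, ← hS] at this
            simp only [if_pos, Nat.zero_add, Nat.succ_sub_one, Finset.range_zero, Finset.sum_empty,
              Nat.sub_self, pow_zero, mul_one, Nat.succ_ne_zero, if_false, mul_zero, zero_add]
            have h' : (c' 0 : ℂ) + (c 0 : ℂ) = (S : ℂ) := by exact_mod_cast this
            linear_combination h'
          · simp only [Nat.succ_ne_zero, if_false, Nat.add_sub_cancel, Nat.succ_sub_one]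
            rw [Finset.sum_range_succ]
            have := hrec (n + 1) (by omega)
            have h' : (c' (n + 1) : ℂ) + (c (n + 1) : ℂ) = (c' n : ℂ) := by exact_mod_cast this
            linear_combination (ζ ^ (n + 1)) * h'
      have := htel (m + 1) le_rfl
      rw [if_neg m.succ_ne_zero, Nat.add_sub_cancel] at this
      rw [hxdef, this, hc']
      simp
    have hc'dvd : ∀ j < m, (p : ℤ) ∣ c' j := by
      refine ih (i + 1) (by omega) c' ?_
      have hmem : ((ζ - 1) ^ i * x) / (p : ℂ) - (ζ - 1) ^ i * (q : ℂ) ∈ locRing hM :=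
        sub_mem hx (mul_mem (pow_mem (sub_mem (isIntegral_mem_locRing hM
          (IsIntegral.of_pow (pow_pos hp.pos (e + 1)) (hζ.pow_eq_one.symm ▸ isIntegral_one)))
          (one_mem _)) _) (intCast_mem _ _))
      convert hmem using 1
      rw [hid, hq]
      push_cast
      field_simp
      ring
    intro j hj
    have h1 : ∀ k, k ≤ m → (p : ℤ) ∣ c' k := fun k hk => by
      rcases hk.eq_or_lt with rfl | h
      · simp [hc']
      · exact hc'dvd k h
    have h2 : (p : ℤ) ∣ ∑ k ∈ Finset.Ico j (m + 1), c k := by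
      rcases j with _ | j
      · rw [← Finset.range_eq_Ico, ← hS, hq]; exact dvd_mul_right _ _
      · exact h1 j (by omega)
    rw [← hrec j hj] at h2
    exact (Int.dvd_add_right (h1 j (by omega))).1 h2

include hM hζ in
/-- Local divisibility by `p ^ h` passes to the coefficients. -/
theorem pow_dvd_coeff (h : ℕ) : ∀ c : ℕ → ℤ,
    (∑ j ∈ Finset.range (p ^ e * (p - 1)), (c j : ℂ) * ζ ^ j) / (p : ℂ) ^ h ∈ locRing hM →
      ∀ j < p ^ e * (p - 1), (p : ℤ) ^ h ∣ c j := by
  have hp := (Fact.out : p.Prime)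
  have hp0 : (p : ℂ) ≠ 0 := Nat.cast_ne_zero.2 hp.ne_zero
  induction h with
  | zero => intro c _ j _; simp
  | succ h ih =>
    intro c hx j hj
    have hdiv : ∀ j < p ^ e * (p - 1), (p : ℤ) ^ h ∣ c j := ih c (by
      have := mul_mem hx (natCast_mem (locRing hM) p)
      convert this using 1
      rw [pow_succ]
      field_simp)
    choose q hq using fun j => (show ∃ q : ℤ, j < p ^ e * (p - 1) → c j = (p : ℤ) ^ h * q from
      if hj : j < p ^ e * (p - 1) then ⟨_, fun _ => (hdiv j hj).choose_spec⟩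
      else ⟨0, fun h' => absurd h' hj⟩)
    have h1 := prime_dvd_coeff hM hζ _ 0 (by omega) q (by
      convert hx using 1
      rw [pow_zero, one_mul, Finset.sum_congr rfl fun j hj' => show (c j : ℂ) * ζ ^ j =
        (p : ℂ) ^ h * ((q j : ℂ) * ζ ^ j) by
          rw [hq j (Finset.mem_range.1 hj')]; push_cast; ring, ← Finset.mul_sum, pow_succ]
      field_simp) j hj
    rw [hq j hj, pow_succ]
    exact mul_dvd_mul_left _ h1

end Cfsg.Lib.Block
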