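import Cfsg.Agent.Lib.Char.Galois

/-!
# Galois averages of forms in roots of unity of prime power order
-/

set_option autoImplicit false
set_option linter.unusedSectionVars false

namespace Cfsg.Lib.Block

open Cfsg
open scoped ComplexConjugate

universe u

variable {p e : ℕ}

/-- The exponent attached to an index. -/
def pos (a : Fin (p ^ e) × Fin p) : ℕ := (a.1 : ℕ) + (a.2 : ℕ) * p ^ e

theorem pos_lt (a : Fin (p ^ e) × Fin p) : pos a < p ^ (e + 1) := by
  have h1 := a.1.is_lt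
  have h2 : ((a.2 : ℕ) + 1) * p ^ e ≤ p * p ^ e := Nat.mul_le_mul_right _ a.2.is_lt
  rw [pow_succ', pos]
  linarith

theorem exists_pos_eq {n : ℕ} (hn : n < p ^ (e + 1)) :
    ∃ a : Fin (p ^ e) × Fin p, pos a = n := by
  have hq : 0 < p ^ e := by
    rw [pow_succ] at hn
    exact Nat.pos_of_ne_zero fun h => by rw [h, zero_mul] at hn; omega
  refine ⟨(⟨n % p ^ e, Nat.mod_lt _ hq⟩, ⟨n / p ^ e, ?_⟩), ?_⟩
  · rw [Nat.div_lt_iff_lt_mul hq]
    rwa [pow_succ'] at hn
  · show n % p ^ e + n / p ^ e * p ^ e = n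
    rw [mul_comm, Nat.mod_add_div]

theorem eq_of_pos_eq {a b : Fin (p ^ e) × Fin p} (h : pos a = pos b) : a = b := by
  have hq : 0 < p ^ e := lt_of_le_of_lt (Nat.zero_le _) a.1.is_lt
  have hmod := congrArg (· % p ^ e) h
  simp only [pos, Nat.add_mul_mod_self_right, Nat.mod_eq_of_lt a.1.is_lt,
    Nat.mod_eq_of_lt b.1.is_lt] at hmod
  have hdiv : (a.2 : ℕ) = b.2 := by
    unfold pos at h
    rw [hmod] at h
    exact Nat.eq_of_mul_eq_mul_right hq (by omega)
  exact Prod.ext (Fin.ext hmod) (Fin.ext hdiv)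

/-- A form evaluated at the `k`-th conjugate of the roots. -/
noncomputable def cycForm (ζ : ℂ) (K : Fin (p ^ e) × Fin p → Fin (p ^ e) × Fin p → ℤ) (k : ℕ) :
    ℂ :=
  ∑ a, ∑ b, (K a b : ℂ) * (ζ ^ (k * pos a) * ζ ^ (k * ((p ^ (e + 1) - 1) * pos b)))

/-- The sum of a form over the units modulo `p ^ (e+1)`. -/
def avgForm (K : Fin (p ^ e) × Fin p → Fin (p ^ e) × Fin p → ℤ) : ℤ :=
  (p ^ e : ℤ) * ∑ r : Fin (p ^ e),
    ((p : ℤ) * ∑ i : Fin p, K (r, i) (r, i) - ∑ i : Fin p, ∑ j : Fin p, K (r, i) (r, j))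

/-- The units below `p ^ (e+1)`. -/
def unitsBelow (p e : ℕ) : Finset ℕ := (Finset.range (p ^ (e + 1))).filter fun k => ¬ p ∣ k

theorem sum_unitsBelow {R : Type*} [CommRing R] (hp : 0 < p) (f : ℕ → R) :
    ∑ k ∈ unitsBelow p e, f k =
      ∑ k ∈ Finset.range (p ^ (e + 1)), f k - ∑ m ∈ Finset.range (p ^ e), f (p * m) := by
  rw [eq_sub_iff_add_eq, unitsBelow]
  have him : (Finset.range (p ^ (e + 1))).filter (fun k => p ∣ k) =
      (Finset.range (p ^ e)).image fun m => p * m := by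
    ext k
    simp only [Finset.mem_filter, Finset.mem_range, Finset.mem_image]
    constructor
    · rintro ⟨hk, m, rfl⟩
      refine ⟨m, ?_, rfl⟩
      rw [pow_succ'] at hk
      exact Nat.lt_of_mul_lt_mul_left hk
    · rintro ⟨m, hm, rfl⟩
      exact ⟨by rw [pow_succ']; exact Nat.mul_lt_mul_of_pos_left hm hp, dvd_mul_right _ _⟩
  rw [← Finset.sum_image (f := f) (fun a _ b _ h => Nat.eq_of_mul_eq_mul_left hp h), ← him,
    Finset.sum_filter_not_add_sum_filter]

theorem card_unitsBelow (hp : 0 < p) :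
    ((unitsBelow p e).card : ℤ) = (p : ℤ) ^ (e + 1) - (p : ℤ) ^ e := by
  have h := sum_unitsBelow (R := ℤ) (e := e) hp fun _ => 1
  simpa using h

theorem sum_cycForm [hp : Fact p.Prime] {ζ : ℂ} (hζ : IsPrimitiveRoot ζ (p ^ (e + 1)))
    (K : Fin (p ^ e) × Fin p → Fin (p ^ e) × Fin p → ℤ) :
    ∑ k ∈ unitsBelow p e, cycForm ζ K k = (avgForm K : ℂ) := by
  classical
  have hpp := hp.out
  set q := p ^ (e + 1) with hq
  have hq1 : 1 ≤ q := Nat.one_le_pow _ _ hpp.pos
  have hdiv : ∀ x : ℕ, ∀ d : ℕ, (q : ℤ) ∣ (d : ℤ) * x ↔ ζ ^ (d * x) = 1 := fun x d => by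
    rw [hζ.pow_eq_one_iff_dvd, ← Nat.cast_mul, Int.natCast_dvd_natCast]
  have key : ∀ a b : Fin (p ^ e) × Fin p,
      ∑ k ∈ unitsBelow p e, ζ ^ (k * pos a) * ζ ^ (k * ((q - 1) * pos b)) =
        (if a = b then (q : ℂ) else 0) - (if a.1 = b.1 then ((p ^ e : ℕ) : ℂ) else 0) := by
    intro a b
    set x := pos a + (q - 1) * pos b with hx
    have e1 : ∀ k, ζ ^ (k * pos a) * ζ ^ (k * ((q - 1) * pos b)) = (ζ ^ x) ^ k := fun k => by
      rw [← pow_add, ← pow_mul, ← Nat.mul_add, mul_comm]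
    simp only [e1]
    rw [sum_unitsBelow hpp.pos]
    have hxint : ((x : ℕ) : ℤ) = (pos a : ℤ) - pos b + (q : ℤ) * pos b := by
      rw [hx]; push_cast [Nat.cast_sub hq1]; ring
    have hone : ζ ^ x = 1 ↔ a = b := by
      rw [← one_mul x, ← hdiv x 1, Nat.cast_one, one_mul, hxint,
        dvd_add_left (dvd_mul_right _ _)]
      constructor
      · intro h
        apply eq_of_pos_eq
        have ha := pos_lt a
        have hb := pos_lt b
        have := Int.eq_zero_of_dvd_of_natAbs_lt_natAbs h (by simp only [Int.natAbs_natCast]; omega)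
        omega
      · rintro rfl; simp
    have hone' : ζ ^ (p * x) = 1 ↔ a.1 = b.1 := by
      rw [← hdiv x p, hxint, mul_add, ← mul_assoc _ (q : ℤ), mul_comm (p : ℤ) (q : ℤ), mul_assoc (q : ℤ),
        dvd_add_left (dvd_mul_right _ _)]
      have hqe : (q : ℤ) = (p : ℤ) * ((p ^ e : ℕ) : ℤ) := by rw [hq]; push_cast; ring
      rw [hqe, mul_dvd_mul_iff_left (by exact_mod_cast hpp.ne_zero)]
      unfold pos
      push_cast
      constructor
      · intro h
        have h2 : ((p : ℤ) ^ e) ∣ ((a.1 : ℕ) : ℤ) - (b.1 : ℕ) := by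
          rw [show ((a.1 : ℕ) : ℤ) - (b.1 : ℕ) = (((a.1 : ℕ) : ℤ) + ((a.2 : ℕ) : ℤ) * (p : ℤ) ^ e -
              (((b.1 : ℕ) : ℤ) + ((b.2 : ℕ) : ℤ) * (p : ℤ) ^ e)) -
            (((a.2 : ℕ) : ℤ) - (b.2 : ℕ)) * (p : ℤ) ^ e by ring]
          exact dvd_sub h (dvd_mul_left ((p : ℤ) ^ e) (((a.2 : ℕ) : ℤ) - (b.2 : ℕ)))
        have ha := a.1.is_lt
        have hb := b.1.is_lt
        rw [← Nat.cast_pow] at h2
        have := Int.eq_zero_of_dvd_of_natAbs_lt_natAbs h2 (by simp only [Int.natAbs_natCast]; omega)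
        exact Fin.ext (by omega)
      · intro h
        rw [h]
        exact ⟨((a.2 : ℕ) : ℤ) - (b.2 : ℕ), by ring⟩
    have hxq : (ζ ^ x) ^ q = 1 := by rw [← pow_mul, mul_comm, pow_mul, hζ.pow_eq_one, one_pow]
    congr 1
    · split_ifs with h
      · simp [hone.2 h]
        rw [hq]; push_cast; rfl
      · rw [geom_sum_eq (mt hone.1 h), hxq, sub_self, zero_div]
    · simp only [pow_mul (ζ ^ x) p, ← pow_mul ζ x p, mul_comm x p]
      split_ifs with h
      · simp [hone'.2 h]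
      · rw [geom_sum_eq (mt hone'.1 h), ← pow_mul, show p * x * p ^ e = q * x by rw [hq, pow_succ']; ring,
          pow_mul, hζ.pow_eq_one, one_pow, sub_self, zero_div]
  simp only [cycForm, ← hq]
  rw [Finset.sum_comm]
  simp only [Finset.sum_comm (s := unitsBelow p e), ← Finset.mul_sum, key, mul_sub, mul_ite,
    mul_zero, Finset.sum_sub_distrib, Finset.sum_ite_eq, Finset.mem_univ, if_true]
  simp only [Fintype.sum_prod_type, avgForm]
  push_cast
  rw [Finset.mul_sum]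
  simp only [mul_sub, Finset.sum_sub_distrib, Finset.mul_sum]
  congr 1
  · refine Finset.sum_congr rfl fun r _ => Finset.sum_congr rfl fun i _ => ?_
    rw [hq]; push_cast; ring
  · refine Finset.sum_congr rfl fun r _ => Finset.sum_congr rfl fun i _ => ?_
    rw [Finset.sum_comm]
    refine Finset.sum_congr rfl fun j _ => ?_
    rw [Finset.sum_ite_eq, if_pos (Finset.mem_univ _)]
    ring

/-- A lower bound for the average of a form. -/
theorem le_avgForm (hp : 0 < p) {V : Type*} (t : Fin (p ^ e) × Fin p → V)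
    (K : Fin (p ^ e) × Fin p → Fin (p ^ e) × Fin p → ℤ) (L : ℤ) (hL : 0 ≤ L)
    (h0 : ∀ r i j, 0 ≤ K (r, i) (r, i) + K (r, j) (r, j) - K (r, i) (r, j) - K (r, j) (r, i))
    (hpair : ∀ r i j, t (r, i) ≠ t (r, j) →
      L ≤ K (r, i) (r, i) + K (r, j) (r, j) - K (r, i) (r, j) - K (r, j) (r, i))
    (hne : ∃ r i j, t (r, i) ≠ t (r, j)) :
    (p ^ e : ℤ) * (((p : ℤ) - 1) * L) ≤ avgForm K := by
  classical
  obtain ⟨r₀, a, b, hab⟩ := hne
  set D : Fin (p ^ e) → Fin p → Fin p → ℤ := fun r i j =>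
    K (r, i) (r, i) + K (r, j) (r, j) - K (r, i) (r, j) - K (r, j) (r, i) with hD
  have h2 : ∀ r, ∑ i, ∑ j, D r i j =
      2 * ((p : ℤ) * ∑ i : Fin p, K (r, i) (r, i) - ∑ i : Fin p, ∑ j : Fin p, K (r, i) (r, j)) := by
    intro r
    simp only [hD, Finset.sum_sub_distrib, Finset.sum_add_distrib, Finset.sum_const,
      Finset.card_univ, Fintype.card_fin, nsmul_eq_mul]
    rw [Finset.sum_comm (f := fun i j => K (r, j) (r, i)), ← Finset.mul_sum]
    ring
  have hrow : ∀ (S T : Finset (Fin p)), (∀ i ∈ S, ∀ j ∈ T, t (r₀, i) ≠ t (r₀, j)) →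
      (S.card : ℤ) * T.card * L ≤ ∑ i ∈ S, ∑ j, D r₀ i j := by
    intro S T hST
    calc (S.card : ℤ) * T.card * L = ∑ _i ∈ S, ∑ _j ∈ T, L := by simp [mul_assoc]
      _ ≤ ∑ i ∈ S, ∑ j ∈ T, D r₀ i j :=
        Finset.sum_le_sum fun i hi => Finset.sum_le_sum fun j hj => hpair _ i j (hST i hi j hj)
      _ ≤ _ := Finset.sum_le_sum fun i _ =>
        Finset.sum_le_sum_of_subset_of_nonneg (Finset.subset_univ _) fun j _ _ => h0 _ i j
  set A := Finset.univ.filter fun i => t (r₀, i) = t (r₀, a) with hA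
  set C := Finset.univ.filter fun i => ¬ t (r₀, i) = t (r₀, a) with hC
  have hAC : A.card + C.card = p := by
    rw [hA, hC, Finset.card_filter_add_card_filter_not, Finset.card_univ, Fintype.card_fin]
  have hA1 : 1 ≤ A.card := Finset.card_pos.2 ⟨a, by simp [hA]⟩
  have hC1 : 1 ≤ C.card := Finset.card_pos.2 ⟨b, by simp [hC, Ne.symm hab]⟩
  have e1 := hrow A C fun i hi j hj e => (Finset.mem_filter.1 hj).2
    (e ▸ (Finset.mem_filter.1 hi).2)
  have e2 := hrow C A fun i hi j hj e => (Finset.mem_filter.1 hi).2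
    (e.trans (Finset.mem_filter.1 hj).2)
  have h3 : 2 * (((p : ℤ) - 1) * L) ≤ ∑ i, ∑ j, D r₀ i j := by
    rw [← Finset.sum_filter_add_sum_filter_not Finset.univ fun i => t (r₀, i) = t (r₀, a)]
    have h5 : ((p : ℤ) - 1) * L ≤ (A.card : ℤ) * C.card * L := by
      refine mul_le_mul_of_nonneg_right ?_ hL
      have h6 : (A.card : ℤ) + C.card = p := by exact_mod_cast hAC
      have : (0 : ℤ) ≤ ((A.card : ℤ) - 1) * ((C.card : ℤ) - 1) :=
        mul_nonneg (by omega) (by omega)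
      linarith
    rw [mul_comm (C.card : ℤ)] at e2
    linarith
  rw [h2] at h3
  refine mul_le_mul_of_nonneg_left ?_ (by positivity)
  refine le_trans (by linarith : ((p : ℤ) - 1) * L ≤ _) (Finset.single_le_sum
    (f := fun r => (p : ℤ) * ∑ i : Fin p, K (r, i) (r, i) - ∑ i : Fin p, ∑ j : Fin p, K (r, i) (r, j))
    (fun r _ => ?_) (Finset.mem_univ r₀))
  have := h2 r
  have h7 : 0 ≤ ∑ i, ∑ j, D r i j := Finset.sum_nonneg fun i _ => Finset.sum_nonneg fun j _ => h0 r i j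
  linarith

/-- A rational sum of forms keeps its value at the conjugates. -/
theorem sum_avgForm_eq [hp : Fact p.Prime] {ι : Type*} (s : Finset ι)
    (K : ι → Fin (p ^ e) × Fin p → Fin (p ^ e) × Fin p → ℤ) (c : ℤ) {ζ : ℂ}
    (hζdef : ζ = Complex.exp (2 * Real.pi * Complex.I / ((p ^ (e + 1) : ℕ) : ℂ)))
    (h1 : ∑ x ∈ s, cycForm ζ (K x) 1 = (c : ℂ)) :
    ∑ x ∈ s, avgForm (K x) = ((p : ℤ) ^ (e + 1) - (p : ℤ) ^ e) * c := by
  have hpp := hp.out
  haveI : NeZero (p ^ (e + 1)) := ⟨pow_ne_zero _ hpp.ne_zero⟩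
  haveI := Char.finiteDimensional_cycField (p ^ (e + 1))
  have hζ : IsPrimitiveRoot ζ (p ^ (e + 1)) := by
    rw [hζdef]; exact Complex.isPrimitiveRoot_exp _ (NeZero.ne _)
  set g : Char.cycField (p ^ (e + 1)) := Char.cycGen (p ^ (e + 1)) with hg
  have hgv : (g : ℂ) = ζ := by rw [hg, Char.cycGen_val, hζdef]
  let Y : ι → Char.cycField (p ^ (e + 1)) := fun x => ∑ a, ∑ b,
    (K x a b : Char.cycField (p ^ (e + 1))) * (g ^ pos a * g ^ ((p ^ (e + 1) - 1) * pos b))
  have hY1 : ∀ x, (Y x : ℂ) = cycForm ζ (K x) 1 := by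
    intro x
    simp only [Y, cycForm, one_mul]
    push_cast [hgv]
    rfl
  have hsum : ∑ x ∈ s, Y x = (c : Char.cycField (p ^ (e + 1))) := by
    apply Subtype.ext
    push_cast
    simp only [hY1]
    exact h1
  have htw : ∀ k ∈ unitsBelow p e, ∑ x ∈ s, cycForm ζ (K x) k = (c : ℂ) := by
    intro k hk
    obtain ⟨σ, hσ⟩ := Char.exists_of_coprime (N := p ^ (e + 1)) (k := k)
      ((hpp.coprime_iff_not_dvd.2 (Finset.mem_filter.1 hk).2).pow_left (e + 1)).symm
    have hgσ : σ g = ζ ^ k := by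
      rw [hσ g (by rw [hgv]; exact hζ.pow_eq_one), hgv]
    have := congrArg σ hsum
    rw [map_sum, map_intCast] at this
    rw [← this]
    refine Finset.sum_congr rfl fun x _ => ?_
    simp only [Y, cycForm, map_sum, map_mul, map_intCast, map_pow, hgσ, ← pow_mul]
  apply Int.cast_injective (α := ℂ)
  rw [Int.cast_sum, Finset.sum_congr rfl fun x _ => (sum_cycForm hζ (K x)).symm, Finset.sum_comm,
    Finset.sum_congr rfl htw, Finset.sum_const, nsmul_eq_mul, Int.cast_mul,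
    ← card_unitsBelow hpp.pos, Int.cast_natCast]

end Cfsg.Lib.Block
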