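import Cfsg.Agent.Lib.Block.CyclicSplit

/-!
# The shape of a lattice with Gram matrix `I + e J`

Two of the generalized characters differ by the difference of two characters of the same degree.
So the block splits into a family with one character for each vector, on which the vectors are
constant except at their own character, and a rest on which all vectors agree.
-/

set_option autoImplicit false
set_option linter.unusedSectionVars false
set_option maxHeartbeats 800000

namespace Cfsg.Lib.Block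

open Cfsg
open scoped ComplexConjugate

universe u v

theorem card_support_of_sq_sum_eq_two {α : Type*} [DecidableEq α] (s : Finset α) (D : α → ℤ)
    (h : ∑ x ∈ s, D x * D x = 2) :
    (∀ x ∈ s, D x = 0 ∨ D x = 1 ∨ D x = -1) ∧ (s.filter fun x => D x ≠ 0).card = 2 := by
  have hb : ∀ x ∈ s, D x = 0 ∨ D x = 1 ∨ D x = -1 := by
    intro x hx
    have hle : D x * D x ≤ 2 := h ▸ Finset.single_le_sum (fun y _ => mul_self_nonneg (D y)) hx
    have h1 : -1 ≤ D x ∧ D x ≤ 1 := ⟨by nlinarith, by nlinarith⟩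
    omega
  refine ⟨hb, ?_⟩
  rw [← Finset.sum_filter_add_sum_filter_not s fun x => D x ≠ 0,
    Finset.sum_congr rfl (g := fun _ => (1 : ℤ)) fun x hx => ?_,
    Finset.sum_eq_zero (s := s.filter fun x => ¬ D x ≠ 0), add_zero] at h
  · rw [Finset.sum_const, nsmul_eq_mul, mul_one] at h
    exact_mod_cast h
  · intro x hx
    rw [not_not.1 (Finset.mem_filter.1 hx).2, mul_zero]
  · obtain ⟨hxs, hx0⟩ := Finset.mem_filter.1 hx
    rcases hb x hxs with e | e | e
    · exact absurd e hx0
    · rw [e]; rfl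
    · rw [e]; rfl

namespace CycVectors

variable {p : ℕ} [Fact p.Prime] {M : Ideal AlgInt} {G : Type u} [Group G] [Fintype G]
  {B : Set (IrrCharacter G)} {e : ℕ} {ι : Type v} [Fintype ι] [DecidableEq ι]
  {τ : ι → G → ℂ} (V : CycVectors p B e τ)

include V

open Classical in
/-- The exceptional characters of a lattice with Gram matrix `I + e J` of dimension at least two. -/
theorem shape (ht : 2 ≤ Fintype.card ι) :
    ∃ (y : ι → IrrCharacter G) (n : IrrCharacter G → ℤ) (δ₀ w : ℤ),
      Function.Injective y ∧ (∀ i, y i ∈ B) ∧ (δ₀ = 1 ∨ δ₀ = -1) ∧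
      (∀ i j, classInner (τ i) (y j : G → ℂ) = ((w + if i = j then δ₀ else 0 : ℤ) : ℂ)) ∧
      (∀ χ : IrrCharacter G, χ ∉ Set.range y →
        ∀ i, classInner (τ i) (χ : G → ℂ) = (n χ : ℂ)) ∧
      (∀ i g, τ i g = ∑ χ ∈ B.toFinset.filter (fun χ => χ ∉ Set.range y),
          (n χ : ℂ) * (χ : G → ℂ) g + (w : ℂ) * ∑ j, (y j : G → ℂ) g +
          (δ₀ : ℂ) * (y i : G → ℂ) g) ∧
      (∀ i j g, IsPRegular p g → (y i : G → ℂ) g = (y j : G → ℂ) g) := by
  obtain ⟨v, hv, hv0, hexp, hgramC⟩ := V.exists_coeff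
  have hgram : ∀ i j, ∑ χ ∈ B.toFinset, v i χ * v j χ = (e : ℤ) + if i = j then 1 else 0 := by
    intro i j
    have := hgramC i j
    split_ifs with h
    · rw [if_pos h] at this; exact_mod_cast this
    · rw [if_neg h] at this; exact_mod_cast this
  obtain ⟨i₀⟩ : Nonempty ι := Fintype.card_pos_iff.1 (by omega)
  let D : ι → IrrCharacter G → ℤ := fun j χ => v i₀ χ - v j χ
  have hDD : ∀ j l, ∑ χ ∈ B.toFinset, D j χ * D l χ =
      (∑ χ ∈ B.toFinset, v i₀ χ * v i₀ χ - ∑ χ ∈ B.toFinset, v i₀ χ * v l χ) -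
        ∑ χ ∈ B.toFinset, v j χ * v i₀ χ + ∑ χ ∈ B.toFinset, v j χ * v l χ := by
    intro j l
    simp only [D, ← Finset.sum_sub_distrib, ← Finset.sum_add_distrib]
    exact Finset.sum_congr rfl fun χ _ => by ring
  -- each difference is a difference of two characters
  have hpn : ∀ j : {j : ι // j ≠ i₀}, ∃ P N : IrrCharacter G, P ∈ B ∧ N ∈ B ∧ P ≠ N ∧
      ∀ χ, D j χ = (if χ = P then 1 else 0) - (if χ = N then 1 else 0) := by
    intro j
    have h2 : ∑ χ ∈ B.toFinset, D j χ * D j χ = 2 := by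
      rw [hDD, hgram, hgram, hgram, hgram, if_pos rfl, if_neg j.2, if_neg (Ne.symm j.2), if_pos rfl]
      ring
    obtain ⟨hb, hc⟩ := card_support_of_sq_sum_eq_two _ _ h2
    obtain ⟨a, b, hab, hS⟩ := Finset.card_eq_two.1 hc
    have ha := Finset.mem_filter.1 (hS ▸ Finset.mem_insert_self a {b} :
      a ∈ B.toFinset.filter fun χ => D j χ ≠ 0)
    have hb' := Finset.mem_filter.1 (hS ▸ Finset.mem_insert_of_mem (Finset.mem_singleton_self b) :
      b ∈ B.toFinset.filter fun χ => D j χ ≠ 0)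
    have hzero : ∀ χ, χ ≠ a → χ ≠ b → D j χ = 0 := by
      intro χ hχa hχb
      by_cases hχ : χ ∈ B
      · by_contra h
        have : χ ∈ ({a, b} : Finset (IrrCharacter G)) :=
          hS ▸ Finset.mem_filter.2 ⟨Set.mem_toFinset.2 hχ, h⟩
        simp [hχa, hχb] at this
      · simp [D, hv0 _ _ hχ]
    have hdeg : (D j a : ℤ) * charDegree (a : G → ℂ) + D j b * charDegree (b : G → ℂ) = 0 := by
      have h1 := V.apply_one i₀
      have h2' := V.apply_one (j : ι)
      rw [hexp] at h1 h2'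
      have h3 : ∑ χ ∈ B.toFinset, ((D j χ : ℤ) : ℂ) * (χ : G → ℂ) 1 = 0 := by
        simp only [D, Int.cast_sub, sub_mul, Finset.sum_sub_distrib, h1, h2', sub_self]
      rw [← Finset.sum_subset (s₁ := {a, b}) (fun χ hχ => by
          rcases Finset.mem_insert.1 hχ with rfl | h
          · exact ha.1
          · rw [Finset.mem_singleton.1 h]; exact hb'.1) (fun χ _ hχ => by
          rw [Finset.mem_insert, Finset.mem_singleton, not_or] at hχ
          rw [hzero χ hχ.1 hχ.2, Int.cast_zero, zero_mul]),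
        Finset.sum_pair hab, apply_one_eq_charDegree, apply_one_eq_charDegree] at h3
      exact_mod_cast h3
    have hpa := charDegree_pos a
    have hpb := charDegree_pos b
    rcases (hb a ha.1).resolve_left ha.2 with e1 | e1
    · have e2 : D j b = -1 := by
        rcases (hb b hb'.1).resolve_left hb'.2 with e2 | e2
        · rw [e1, e2] at hdeg; omega
        · exact e2
      refine ⟨a, b, Set.mem_toFinset.1 ha.1, Set.mem_toFinset.1 hb'.1, hab, fun χ => ?_⟩
      by_cases hχa : χ = a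
      · subst hχa; rw [e1, if_pos rfl, if_neg hab]; ring
      by_cases hχb : χ = b
      · subst hχb; rw [e2, if_neg hχa, if_pos rfl]; ring
      rw [hzero χ hχa hχb, if_neg hχa, if_neg hχb]; ring
    · have e2 : D j b = 1 := by
        rcases (hb b hb'.1).resolve_left hb'.2 with e2 | e2
        · exact e2
        · rw [e1, e2] at hdeg; omega
      refine ⟨b, a, Set.mem_toFinset.1 hb'.1, Set.mem_toFinset.1 ha.1, hab.symm, fun χ => ?_⟩
      by_cases hχa : χ = a
      · subst hχa; rw [e1, if_neg hab, if_pos rfl]; ring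
      by_cases hχb : χ = b
      · subst hχb; rw [e2, if_pos rfl, if_neg hχa]; ring
      rw [hzero χ hχa hχb, if_neg hχb, if_neg hχa]; ring
  choose P N hP hN hPN hDeq using hpn
  -- two differences have one end in common
  have hshare : ∀ j l, j ≠ l → (P j = P l ∧ N j ≠ N l) ∨ (P j ≠ P l ∧ N j = N l) := by
    intro j l hjl
    have h1 : ∑ χ ∈ B.toFinset, D j χ * D l χ = 1 := by
      rw [hDD, hgram, hgram, hgram, hgram, if_pos rfl, if_neg (Ne.symm l.2), if_neg j.2,
        if_neg fun h => hjl (Subtype.ext h)]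
      ring
    have h2 : ∑ χ ∈ B.toFinset, D j χ * D l χ = D l (P j) - D l (N j) := by
      rw [Finset.sum_congr rfl fun χ _ => show D j χ * D l χ =
        (if χ = P j then D l χ else 0) - (if χ = N j then D l χ else 0) by
          rw [hDeq j χ]; split_ifs <;> ring]
      rw [Finset.sum_sub_distrib, Finset.sum_ite_eq', Finset.sum_ite_eq',
        if_pos (Set.mem_toFinset.2 (hP j)), if_pos (Set.mem_toFinset.2 (hN j))]
    rw [h2, hDeq, hDeq] at h1
    by_cases c1 : P j = P l <;> by_cases c2 : N j = N l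
    · rw [if_pos c1, if_neg (c1 ▸ hPN l), if_neg (c2 ▸ (hPN l).symm), if_pos c2] at h1
      omega
    · exact Or.inl ⟨c1, c2⟩
    · exact Or.inr ⟨c1, c2⟩
    · rw [if_neg c1, if_neg c2] at h1
      split_ifs at h1 <;> omega
  obtain ⟨j₀⟩ : Nonempty {j : ι // j ≠ i₀} := by
    obtain ⟨j, hj⟩ := Fintype.exists_ne_of_one_lt_card (by omega : 1 < Fintype.card ι) i₀
    exact ⟨⟨j, hj⟩⟩
  -- a common end
  obtain ⟨δ, a, y', hδ, hy', hy'B, haB, hyinj, hDy⟩ : ∃ (δ : ℤ) (a : IrrCharacter G)
      (y' : {j : ι // j ≠ i₀} → IrrCharacter G), (δ = 1 ∨ δ = -1) ∧ (∀ j, y' j ≠ a) ∧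
      (∀ j, y' j ∈ B) ∧ a ∈ B ∧ Function.Injective y' ∧
      ∀ (j : {j : ι // j ≠ i₀}) χ,
        D j χ = δ * ((if χ = a then 1 else 0) - (if χ = y' j then 1 else 0)) := by
    by_cases hall : ∀ j, P j = P j₀
    · refine ⟨1, P j₀, N, Or.inl rfl, fun j => (hall j ▸ hPN j).symm, hN, hP j₀, ?_, fun j χ => ?_⟩
      · intro j l h
        by_contra hne
        rcases hshare j l hne with ⟨-, h'⟩ | ⟨h', -⟩
        · exact h' h
        · exact h' ((hall j).trans (hall l).symm)
      · rw [one_mul, hDeq, hall j]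
    · rw [not_forall] at hall
      obtain ⟨m, hm⟩ := hall
      have hall' : ∀ j, N j = N j₀ := by
        intro j
        by_contra hj
        have hjj : j ≠ j₀ := fun h => hj (h ▸ rfl)
        have hPj : P j = P j₀ := ((hshare j j₀ hjj).resolve_right fun h => hj h.2).1
        have hmj : m ≠ j₀ := fun h => hm (h ▸ rfl)
        have hNm : N m = N j₀ := ((hshare m j₀ hmj).resolve_left fun h => hm h.1).2
        have hne : j ≠ m := fun h => hj (h ▸ hNm)
        rcases hshare j m hne with ⟨h', -⟩ | ⟨-, h'⟩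
        · exact hm (h' ▸ hPj)
        · exact hj (h'.trans hNm)
      refine ⟨-1, N j₀, P, Or.inr rfl, fun j => hall' j ▸ hPN j, hP, hN j₀, ?_, fun j χ => ?_⟩
      · intro j l h
        by_contra hne
        rcases hshare j l hne with ⟨-, h'⟩ | ⟨h', -⟩
        · exact h' ((hall' j).trans (hall' l).symm)
        · exact h' h
      · rw [hDeq, hall' j]; ring
  obtain ⟨y, hy0, hyj⟩ : ∃ y : ι → IrrCharacter G, y i₀ = a ∧ ∀ j : {j : ι // j ≠ i₀}, y j = y' j :=
    ⟨fun i => if h : i = i₀ then a else y' ⟨i, h⟩, dif_pos rfl, fun j => dif_neg j.2⟩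
  have hyinj' : Function.Injective y := by
    intro i l h
    by_cases hi : i = i₀ <;> by_cases hl : l = i₀
    · rw [hi, hl]
    · rw [hi, hy0, hyj ⟨l, hl⟩] at h
      exact absurd h.symm (hy' ⟨l, hl⟩)
    · rw [hl, hy0, hyj ⟨i, hi⟩] at h
      exact absurd h (hy' ⟨i, hi⟩)
    · rw [hyj ⟨i, hi⟩, hyj ⟨l, hl⟩] at h
      exact congrArg Subtype.val (hyinj h)
  have hw : ∀ j : {j : ι // j ≠ i₀}, v i₀ (y' j) = v i₀ a - δ := by
    intro j
    have h1 : ∑ χ ∈ B.toFinset, v i₀ χ * D j χ = 1 := by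
      simp only [D, mul_sub, Finset.sum_sub_distrib]
      rw [hgram, hgram, if_pos rfl, if_neg (Ne.symm j.2)]
      ring
    rw [Finset.sum_congr rfl fun χ _ => show v i₀ χ * D j χ =
      (if χ = a then δ * v i₀ χ else 0) - (if χ = y' j then δ * v i₀ χ else 0) by
        rw [hDy]; split_ifs <;> ring, Finset.sum_sub_distrib, Finset.sum_ite_eq',
      Finset.sum_ite_eq', if_pos (Set.mem_toFinset.2 haB),
      if_pos (Set.mem_toFinset.2 (hy'B j))] at h1
    rcases hδ with rfl | rfl <;> omega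
  have hcoef : ∀ i l, v i (y l) = (v i₀ a - δ) + if i = l then δ else 0 := by
    intro i l
    have hbase : v i₀ (y l) = (v i₀ a - δ) + if i₀ = l then δ else 0 := by
      by_cases hl : l = i₀
      · subst hl; rw [hy0, if_pos rfl]; ring
      · rw [hyj ⟨l, hl⟩, hw, if_neg (Ne.symm hl)]; ring
    by_cases hi : i = i₀
    · subst hi; exact hbase
    · have h := hDy ⟨i, hi⟩ (y l)
      simp only [D] at h
      rw [show v i (y l) = v i₀ (y l) - δ * ((if y l = a then 1 else 0) -
        (if y l = y' ⟨i, hi⟩ then 1 else 0)) by rw [← h]; ring, hbase, ← hyj ⟨i, hi⟩, ← hy0]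
      simp only [hyinj'.eq_iff]
      by_cases hli : l = i₀
      · subst hli; rw [if_pos rfl, if_pos rfl, if_neg (Ne.symm hi), if_neg hi]; ring
      · rw [if_neg (Ne.symm hli), if_neg hli]
        by_cases hil : i = l
        · subst hil; rw [if_pos rfl, if_pos rfl]; ring
        · rw [if_neg (Ne.symm hil), if_neg hil]; ring
  have hrest : ∀ χ : IrrCharacter G, χ ∉ Set.range y → ∀ i, v i χ = v i₀ χ := by
    intro χ hχ i
    by_cases hi : i = i₀
    · rw [hi]
    · have h := hDy ⟨i, hi⟩ χ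
      simp only [D] at h
      rw [if_neg (fun h' => hχ ⟨i₀, hy0.trans h'.symm⟩),
        if_neg (fun h' => hχ ⟨i, (hyj ⟨i, hi⟩).trans h'.symm⟩)] at h
      linarith [h]
  have hyB : ∀ i, y i ∈ B := fun i => by
    by_cases hi : i = i₀
    · rw [hi, hy0]; exact haB
    · rw [hyj ⟨i, hi⟩]; exact hy'B _
  have hexp' : ∀ i g, τ i g = ∑ χ ∈ B.toFinset.filter (fun χ => χ ∉ Set.range y),
      (v i₀ χ : ℂ) * (χ : G → ℂ) g + ((v i₀ a - δ : ℤ) : ℂ) * ∑ j, (y j : G → ℂ) g +
      (δ : ℂ) * (y i : G → ℂ) g := by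
    intro i g
    rw [hexp, ← Finset.sum_filter_add_sum_filter_not B.toFinset fun χ => χ ∉ Set.range y, add_assoc]
    congr 1
    · exact Finset.sum_congr rfl fun χ hχ => by rw [hrest χ (Finset.mem_filter.1 hχ).2 i]
    · have hset : (B.toFinset.filter fun χ => ¬ χ ∉ Set.range y) = Finset.univ.image y := by
        ext χ
        simp only [Finset.mem_filter, Set.mem_toFinset, not_not, Finset.mem_image, Finset.mem_univ,
          true_and, Set.mem_range]
        exact ⟨fun h => h.2, fun ⟨l, hl⟩ => ⟨hl ▸ hyB l, l, hl⟩⟩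
      rw [hset, Finset.sum_image fun _ _ _ _ h => hyinj' h, Finset.mul_sum,
        show (δ : ℂ) * (y i : G → ℂ) g =
          ∑ l, (if i = l then (δ : ℂ) * (y l : G → ℂ) g else 0) by simp,
        ← Finset.sum_add_distrib]
      refine Finset.sum_congr rfl fun l _ => ?_
      rw [hcoef]
      split_ifs <;> push_cast <;> ring
  refine ⟨y, v i₀, δ, v i₀ a - δ, hyinj', hyB, hδ, fun i l => by rw [hv, hcoef],
    fun χ hχ i => by rw [hv, hrest χ hχ i], hexp', fun i l g hg => ?_⟩
  have h1 := hexp' i g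
  have h2 := hexp' l g
  rw [V.regular i g hg] at h1
  rw [V.regular l g hg] at h2
  have h3 : (δ : ℂ) * (y i : G → ℂ) g = (δ : ℂ) * (y l : G → ℂ) g :=
    add_left_cancel (h1.symm.trans h2)
  exact mul_left_cancel₀ (by rcases hδ with h | h <;> simp [h]) h3

end CycVectors

end Cfsg.Lib.Block
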