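import Cfsg.Agent.Lib.Block.CyclicLattice
import Cfsg.Prelude.Def_BlockLocal

/-!
# The generalized characters of a cyclic system

The members of `f` other than the fixed one fall into free orbits under the stabilizer of `f`,
and the induced differences indexed by these orbits have Gram matrix `I + e J`.
-/

set_option autoImplicit false
set_option linter.unusedSectionVars false
set_option maxHeartbeats 1000000

namespace Cfsg.Lib.Block

open Cfsg
open scoped ComplexConjugate

universe u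

noncomputable local instance (priority := high) fintypeSubgroupCyclicVectors {A : Type u}
    [Group A] [Fintype A] (H : Subgroup A) : Fintype H := Fintype.ofFinite H

variable {p : ℕ} [Fact p.Prime] {M : Ideal AlgInt} {G : Type u} [Group G] [Fintype G]
  (hM : IsPModular p M) {B : Set (IrrCharacter G)} {Z K : Subgroup G} {f : Set (IrrCharacter K)}

namespace CycSystem

variable (D : CycSystem p M B Z K f)

include D

/-- Membership of a conjugate in `f`. -/
theorem mem_tw_iff {h : G} (hh : ConjMaps h K K) (ψ : IrrCharacter K) :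
    compIrr (conjIso hh) ψ ∈ f ↔ ψ ∈ conjSet hh f := by
  show _ ↔ compIrr (conjIso hh).symm.symm ψ ∈ f
  rw [MulEquiv.symm_symm]

theorem tw_tw {a b : G} (ha : ConjMaps a K K) (hb : ConjMaps b K K) (hab : ConjMaps (b * a) K K)
    (ψ : IrrCharacter K) :
    compIrr (conjIso ha) (compIrr (conjIso hb) ψ) = compIrr (conjIso hab) ψ := by
  refine Subtype.ext (funext fun k => ?_)
  simp only [compIrr_apply]
  exact congrArg (ψ : K → ℂ) (Subtype.ext (show b * (a * (k : G) * a⁻¹) * b⁻¹ = b * a * (k : G) * (b * a)⁻¹ by group))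

theorem tw_of_mem {h : G} (hh : ConjMaps h K K) (hK : h ∈ K) (ψ : IrrCharacter K) :
    compIrr (conjIso hh) ψ = ψ := by
  refine Subtype.ext (funext fun k => ?_)
  rw [compIrr_apply]
  exact ψ.2.isClassFunction k ⟨h, hK⟩

theorem tw_congr {a b : G} (ha : ConjMaps a K K) (hb : ConjMaps b K K) (e : a = b)
    (ψ : IrrCharacter K) : compIrr (conjIso ha) ψ = compIrr (conjIso hb) ψ := by
  subst e; rfl

include hM in
open Classical in
/-- A member of `f` fixed by the stabilizer. -/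
theorem exists_fixed (T : Subgroup G) (hT : ∀ g : G, g ∈ T ↔
      g ∈ Subgroup.normalizer (Z : Set G) ∧ StabilizesBlock K f g) :
    ∃ ψ₀ ∈ f, ∀ h ∈ T, ∀ k k' : K, (k' : G) = h * k * h⁻¹ →
      (ψ₀ : K → ℂ) k' = (ψ₀ : K → ℂ) k := by
  have hKN := D.K_le_normalizer
  have hcm : ∀ {h : G}, h ∈ Subgroup.normalizer (Z : Set G) → ConjMaps h K K :=
    fun {h} hh => D.conjMaps_of_normalizer hh
  have hnK : ∀ {h : G}, h ∈ Subgroup.normalizer (Z : Set G) →
      h ∈ Subgroup.normalizer (K : Set G) := fun {h} hh => Subgroup.mem_normalizer_iff.2 (hcm hh)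
  have hTN : ∀ h : T, (h : G) ∈ Subgroup.normalizer (Z : Set G) := fun h => ((hT _).1 h.2).1
  let act : T → IrrCharacter K → IrrCharacter K := fun h ψ => compIrr (conjIso (hcm (hTN h))) ψ
  have hact : ∀ (h : T) (ψ : IrrCharacter K), ψ ∈ f → act h ψ ∈ f := by
    intro h ψ hψ
    have hst := (stabilizesBlock_iff (hnK (hTN h))).1 ((hT _).1 h.2).2
    show compIrr (conjIso (hcm (hTN h))) ψ ∈ f
    rw [D.mem_tw_iff]
    rw [conjSet_congr (hcm (hTN h)) (conjMaps_normalizer (hnK (hTN h))) rfl, hst]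
    exact hψ
  have hcomp : ∀ (a b : T) (ψ : IrrCharacter K), act a (act b ψ) = act (b * a) ψ := fun a b ψ =>
    D.tw_tw _ _ _ ψ
  have hKact : ∀ (h : T) (ψ : IrrCharacter K), (h : G) ∈ K → act h ψ = ψ := fun h ψ hh =>
    D.tw_of_mem _ hh ψ
  have hone : ∀ ψ : IrrCharacter K, act 1 ψ = ψ := fun ψ => hKact 1 ψ K.one_mem
  -- elements of `N(Z)` keeping one member inside `f` stabilize it
  have hmemT : ∀ {h : G} (hh : h ∈ Subgroup.normalizer (Z : Set G)) (ψ : IrrCharacter K),
      ψ ∈ f → compIrr (conjIso (hcm hh)) ψ ∈ f → h ∈ T := by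
    intro h hh ψ hψ hm
    refine (hT h).2 ⟨hh, (stabilizesBlock_iff (hnK hh)).2 ?_⟩
    rw [D.mem_tw_iff, conjSet_congr (hcm hh) (conjMaps_normalizer (hnK hh)) rfl] at hm
    exact isPBlock_eq_of_mem hM (isPBlock_conjSet _ D.induced.1) D.induced.1 hm hψ
  have hKT : K ≤ T := by
    intro k hk
    refine (hT k).2 ⟨hKN hk, (stabilizesBlock_iff (hnK (hKN hk))).2 ?_⟩
    exact conjSet_of_mem _ hk f
  -- fixed points
  have huniq : ∀ (h : T), (h : G) ∉ K → ∀ a b : IrrCharacter K, a ∈ f → b ∈ f →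
      act h a = a → act h b = b → a = b := by
    intro h hh a b ha hb ea eb
    have hc := D.card_fixed hM (hTN h) hh (fun ψ hψ => hact h ψ hψ)
    rw [Finset.card_eq_one] at hc
    obtain ⟨x, hx⟩ := hc
    have h1 := Finset.ext_iff.1 hx a
    have h2 := Finset.ext_iff.1 hx b
    simp only [Finset.mem_filter, Set.mem_toFinset, Finset.mem_singleton] at h1 h2
    rw [h1.1 ⟨ha, ea⟩, h2.1 ⟨hb, eb⟩]
  obtain ⟨ψ₀, hψ₀, hfix⟩ : ∃ ψ₀ ∈ f, ∀ h : T, act h ψ₀ = ψ₀ := by
    by_cases hTK : ∀ h : T, (h : G) ∈ K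
    · obtain ⟨ψ, hψ⟩ := nonempty_of_isPBlock hM D.induced.1
      exact ⟨ψ, hψ, fun h => hKact h ψ (hTK h)⟩
    · push_neg at hTK
      obtain ⟨g, hg⟩ := hTK
      have hc := D.card_fixed hM (hTN g) hg (fun ψ hψ => hact g ψ hψ)
      obtain ⟨ψ₀, hψ₀⟩ := Finset.card_pos.1 (hc ▸ Nat.one_pos)
      rw [Finset.mem_filter, Set.mem_toFinset] at hψ₀
      refine ⟨ψ₀, hψ₀.1, fun h => huniq g hg _ _ (hact h ψ₀ hψ₀.1) hψ₀.1 ?_ hψ₀.2⟩
      have hk := D.commutator_mem (hTN h) (hTN g)
      have e : h * g = (g * h) * ⟨((g : G) * h)⁻¹ * ((h : G) * g), hKT hk⟩ :=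
        Subtype.ext (by simp [mul_assoc])
      have e2 : act g ψ₀ = ψ₀ := hψ₀.2
      rw [hcomp g h, e, ← hcomp, hKact ⟨_, hKT hk⟩ _ hk, ← hcomp h g, e2]
  refine ⟨ψ₀, hψ₀, fun h hh k k' hkk => ?_⟩
  have e := congrArg (fun Φ : IrrCharacter K => (Φ : K → ℂ) k) (hfix ⟨h, hh⟩)
  simp only [act, compIrr_apply] at e
  rw [← e]
  exact congrArg (ψ₀ : K → ℂ) (Subtype.ext hkk)

include hM in
open Classical in
/-- The vectors of a cyclic system. -/
theorem exists_vectors (T : Subgroup G) (hT : ∀ g : G, g ∈ T ↔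
      g ∈ Subgroup.normalizer (Z : Set G) ∧ StabilizesBlock K f g)
    {ψ₀ : IrrCharacter K} (hψ₀ : ψ₀ ∈ f) (hfix₀ : ∀ h ∈ T, ∀ k k' : K, (k' : G) = h * k * h⁻¹ →
      (ψ₀ : K → ℂ) k' = (ψ₀ : K → ℂ) k) :
    ∃ (ι : Type u) (_ : Fintype ι) (τ : ι → G → ℂ),
      Nat.card f = Fintype.card ι * K.relIndex T + 1 ∧
      (∀ i, IsGeneralizedCharacter G (τ i)) ∧
      (∀ i g, IsPRegular p g → τ i g = 0) ∧
      (∀ i (χ : IrrCharacter G), χ ∉ B → classInner (τ i) (χ : G → ℂ) = 0) ∧
      (∀ i j, classInner (τ i) (τ j) = (K.relIndex T : ℂ) + if i = j then 1 else 0) ∧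
      (∀ c : IrrCharacter G → ℂ,
        (∀ i, classInner (fun g => ∑ χ ∈ B.toFinset, c χ * (χ : G → ℂ) g) (τ i) = 0) →
        ∀ g, ¬ IsPRegular p g → ∑ χ ∈ B.toFinset, c χ * (χ : G → ℂ) g = 0) ∧
        (∀ ψ ∈ f, ψ ≠ ψ₀ → ∃ i, indFun K ((ψ : K → ℂ) - (ψ₀ : K → ℂ)) = τ i) ∧
        (∀ i, ∃ ψ ∈ f, ψ ≠ ψ₀ ∧ indFun K ((ψ : K → ℂ) - (ψ₀ : K → ℂ)) = τ i) ∧
        ∀ F : G → ℂ, IsClassFunction G F →
          ∑ ψ ∈ f.toFinset, (classInner (fun k : K => F k) (ψ : K → ℂ) -
              classInner (fun k : K => F k) (ψ₀ : K → ℂ)) =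
            (K.relIndex T : ℂ) * ∑ i, classInner F (τ i) := by
  have hKN := D.K_le_normalizer
  have hcm : ∀ {h : G}, h ∈ Subgroup.normalizer (Z : Set G) → ConjMaps h K K :=
    fun {h} hh => D.conjMaps_of_normalizer hh
  have hnK : ∀ {h : G}, h ∈ Subgroup.normalizer (Z : Set G) →
      h ∈ Subgroup.normalizer (K : Set G) := fun {h} hh => Subgroup.mem_normalizer_iff.2 (hcm hh)
  have hTN : ∀ h : T, (h : G) ∈ Subgroup.normalizer (Z : Set G) := fun h => ((hT _).1 h.2).1
  let act : T → IrrCharacter K → IrrCharacter K := fun h ψ => compIrr (conjIso (hcm (hTN h))) ψ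
  have hact : ∀ (h : T) (ψ : IrrCharacter K), ψ ∈ f → act h ψ ∈ f := by
    intro h ψ hψ
    have hst := (stabilizesBlock_iff (hnK (hTN h))).1 ((hT _).1 h.2).2
    show compIrr (conjIso (hcm (hTN h))) ψ ∈ f
    rw [D.mem_tw_iff]
    rw [conjSet_congr (hcm (hTN h)) (conjMaps_normalizer (hnK (hTN h))) rfl, hst]
    exact hψ
  have hcomp : ∀ (a b : T) (ψ : IrrCharacter K), act a (act b ψ) = act (b * a) ψ := fun a b ψ =>
    D.tw_tw _ _ _ ψ
  have hKact : ∀ (h : T) (ψ : IrrCharacter K), (h : G) ∈ K → act h ψ = ψ := fun h ψ hh =>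
    D.tw_of_mem _ hh ψ
  have hone : ∀ ψ : IrrCharacter K, act 1 ψ = ψ := fun ψ => hKact 1 ψ K.one_mem
  -- elements of `N(Z)` keeping one member inside `f` stabilize it
  have hmemT : ∀ {h : G} (hh : h ∈ Subgroup.normalizer (Z : Set G)) (ψ : IrrCharacter K),
      ψ ∈ f → compIrr (conjIso (hcm hh)) ψ ∈ f → h ∈ T := by
    intro h hh ψ hψ hm
    refine (hT h).2 ⟨hh, (stabilizesBlock_iff (hnK hh)).2 ?_⟩
    rw [D.mem_tw_iff, conjSet_congr (hcm hh) (conjMaps_normalizer (hnK hh)) rfl] at hm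
    exact isPBlock_eq_of_mem hM (isPBlock_conjSet _ D.induced.1) D.induced.1 hm hψ
  have hKT : K ≤ T := by
    intro k hk
    refine (hT k).2 ⟨hKN hk, (stabilizesBlock_iff (hnK (hKN hk))).2 ?_⟩
    exact conjSet_of_mem _ hk f
  -- fixed points
  have huniq : ∀ (h : T), (h : G) ∉ K → ∀ a b : IrrCharacter K, a ∈ f → b ∈ f →
      act h a = a → act h b = b → a = b := by
    intro h hh a b ha hb ea eb
    have hc := D.card_fixed hM (hTN h) hh (fun ψ hψ => hact h ψ hψ)
    rw [Finset.card_eq_one] at hc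
    obtain ⟨x, hx⟩ := hc
    have h1 := Finset.ext_iff.1 hx a
    have h2 := Finset.ext_iff.1 hx b
    simp only [Finset.mem_filter, Set.mem_toFinset, Finset.mem_singleton] at h1 h2
    rw [h1.1 ⟨ha, ea⟩, h2.1 ⟨hb, eb⟩]
  have hfix : ∀ h : T, act h ψ₀ = ψ₀ := fun h => Subtype.ext (funext fun k => by
    show (ψ₀ : K → ℂ) (conjIso (hcm (hTN h)) k) = (ψ₀ : K → ℂ) k
    exact hfix₀ h h.2 k _ rfl)
  let X : Type u := {ψ : IrrCharacter K // ψ ∈ f ∧ ψ ≠ ψ₀}
  have hXact : ∀ (h : T) (a : X), act h a.1 ∈ f ∧ act h a.1 ≠ ψ₀ := fun h a => by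
    refine ⟨hact h _ a.2.1, fun e => a.2.2 ?_⟩
    have := congrArg (act h⁻¹) e
    rwa [hcomp, mul_inv_cancel, hone, hfix] at this
  let s : Setoid X :=
    { r := fun a b => ∃ h : T, act h a.1 = b.1
      iseqv :=
        { refl := fun a => ⟨1, hone _⟩
          symm := fun {a b} ⟨h, e⟩ => ⟨h⁻¹, by rw [← e, hcomp, mul_inv_cancel, hone]⟩
          trans := fun {a b c} ⟨h, e⟩ ⟨h', e'⟩ => ⟨h * h', by rw [← e', ← e, hcomp]⟩ } }
  let ι : Type u := Quotient s
  haveI : Fintype X := Fintype.ofFinite _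
  haveI : Finite ι := Quotient.finite _
  letI instι : Fintype ι := Fintype.ofFinite _
  let r : ι → X := Quotient.out
  have hrel : ∀ {i j : ι} (h : T), act h (r i).1 = (r j).1 → i = j := by
    intro i j h e
    rw [← Quotient.out_eq i, ← Quotient.out_eq j]
    exact Quotient.sound ⟨h, e⟩
  have hcount : ∀ a b : X, (Finset.univ.filter fun h : T => act h a.1 = b.1).card =
      if ∃ h : T, act h a.1 = b.1 then Nat.card K else 0 := by
    intro a b
    split_ifs with hab
    · obtain ⟨h₀, e₀⟩ := hab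
      rw [← Fintype.card_subtype, ← Nat.card_eq_fintype_card]
      refine Nat.card_congr
        { toFun := fun h => ⟨(h.1 : G) * (h₀ : G)⁻¹, ?_⟩
          invFun := fun k => ⟨⟨(k : G) * h₀, T.mul_mem (hKT k.2) h₀.2⟩, ?_⟩
          left_inv := fun h => Subtype.ext (Subtype.ext (by simp [mul_assoc]))
          right_inv := fun k => Subtype.ext (by simp [mul_assoc]) }
      · by_contra hn
        refine a.2.2 (huniq (h.1 * h₀⁻¹) hn _ _ a.2.1 hψ₀ ?_ (hfix _))
        rw [← hcomp, h.2, ← e₀, hcomp, mul_inv_cancel, hone]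
      · show act ⟨(k : G) * h₀, _⟩ a.1 = b.1
        rw [show (⟨(k : G) * h₀, T.mul_mem (hKT k.2) h₀.2⟩ : T) = ⟨k, hKT k.2⟩ * h₀ from rfl,
          ← hcomp, hKact ⟨k, hKT k.2⟩ _ k.2, e₀]
    · exact Finset.card_eq_zero.2 (Finset.filter_eq_empty_iff.2 fun h _ e => hab ⟨h, e⟩)
  have hcardT : Nat.card T = K.relIndex T * Nat.card K := by
    rw [Subgroup.relIndex, ← Nat.card_congr (Subgroup.subgroupOfEquivOfLe hKT).toEquiv, mul_comm,
      Subgroup.card_mul_index]
  have hKpos : 0 < Nat.card K := Nat.card_pos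
  have hcardX : Nat.card X = Fintype.card ι * K.relIndex T := by
    have h1 : ∑ i : ι, ∑ b : X, (Finset.univ.filter fun h : T => act h (r i).1 = b.1).card =
        Fintype.card ι * Nat.card T := by
      rw [← smul_eq_mul, ← Finset.card_univ, ← Finset.sum_const]
      refine Finset.sum_congr rfl fun i _ => ?_
      rw [Nat.card_eq_fintype_card, ← Finset.card_univ,
        Finset.card_eq_sum_card_fiberwise (f := fun h : T => (⟨act h (r i).1, hXact h (r i)⟩ : X))
          (t := Finset.univ) fun h _ => Finset.mem_univ _]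
      exact Finset.sum_congr rfl fun b _ => by congr 1; ext h; simp [Subtype.ext_iff]
    have h2 : ∑ i : ι, ∑ b : X, (Finset.univ.filter fun h : T => act h (r i).1 = b.1).card =
        Nat.card X * Nat.card K := by
      rw [Finset.sum_comm, Nat.card_eq_fintype_card, ← Finset.card_univ, ← smul_eq_mul,
        ← Finset.sum_const]
      refine Finset.sum_congr rfl fun b _ => ?_
      obtain ⟨h, e⟩ := (Quotient.mk_out b : (Quotient.out (Quotient.mk s b) : X) ≈ b)
      rw [Finset.sum_eq_single (Quotient.mk s b)]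
      · rw [hcount, if_pos ⟨h, e⟩]
      · intro i _ hi
        rw [hcount, if_neg]
        rintro ⟨h', e'⟩
        exact hi ((Quotient.out_eq i).symm.trans (Quotient.sound ⟨h', e'⟩))
      · exact fun h' => absurd (Finset.mem_univ _) h'
    rw [h1, hcardT, ← mul_assoc] at h2
    exact (Nat.eq_of_mul_eq_mul_right hKpos h2).symm
  have keyAct : ∀ (h : T) (F : G → ℂ), IsClassFunction G F → ∀ Φ : IrrCharacter K,
      classInner (fun k : K => F k) (act h Φ : K → ℂ) =
        classInner (fun k : K => F k) (Φ : K → ℂ) := fun h F hFc Φ => by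
    have e' : (fun k : K => F k) = fun k => F (conjIso (hcm (hTN h)) k : G) :=
      funext fun k => (hFc (k : G) (h : G)).symm
    have e'' : (act h Φ : K → ℂ) = fun k => (Φ : K → ℂ) (conjIso (hcm (hTN h)) k) := rfl
    conv_lhs => rw [e', e'']
    exact Char.classInner_comp_equiv (conjIso (hcm (hTN h))) (fun k : K => F k) (Φ : K → ℂ)
  have hFrob : ∀ (F : G → ℂ), IsClassFunction G F → ∀ a b : IrrCharacter K,
      classInner F (indFun K ((a : K → ℂ) - (b : K → ℂ))) =
        classInner (fun k : K => F k) (a : K → ℂ) - classInner (fun k : K => F k) (b : K → ℂ) := by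
    intro F hFc a b
    rw [Char.classInner_indFun_right K _ hFc]
    simp only [classInner, Pi.sub_apply, map_sub, mul_sub, Finset.sum_sub_distrib]
  let τ : ι → G → ℂ := fun i => indFun K (((r i).1 : K → ℂ) - (ψ₀ : K → ℂ))
  refine ⟨ι, instι, τ, ?_, fun i => ?_, fun i g hg => D.indFun_sub_regular (r i).2.1 hψ₀ hg,
    fun i χ hχ => D.classInner_indFun_sub_outside hM (r i).2.1 hψ₀ hχ, fun i j => ?_, ?_,
    fun ψ hψ hne => ?_, fun i => ⟨(r i).1, (r i).2.1, (r i).2.2, rfl⟩,
    fun F hFc => ?_⟩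
  · rw [← hcardX, Nat.card_eq_fintype_card, Nat.card_eq_fintype_card, Fintype.card_subtype,
      Fintype.card_subtype, show (Finset.univ.filter fun ψ : IrrCharacter K => ψ ∈ f ∧ ψ ≠ ψ₀) =
        (Finset.univ.filter fun ψ : IrrCharacter K => ψ ∈ f).erase ψ₀ by ext; simp [and_comm],
      Finset.card_erase_add_one (by simp [hψ₀])]
  · exact Char.isGeneralizedCharacter_indFun K
      ((r i).1.2.isGeneralized.sub ψ₀.2.isGeneralized)
  · simp only [τ]
    rw [D.classInner_indFun_sub (r i).2.1 hψ₀ (r j).2.1 hψ₀]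
    set Nz := Subgroup.normalizer (Z : Set G)
    have hterm : ∀ h : Nz, classInner (((r i).1 : K → ℂ) - (ψ₀ : K → ℂ))
        ((compIrr (conjIso (D.conjMaps_of_normalizer h.2)) (r j).1 : K → ℂ) -
          (compIrr (conjIso (D.conjMaps_of_normalizer h.2)) ψ₀ : K → ℂ)) =
        if hh : (h : G) ∈ T then (if act ⟨h, hh⟩ (r j).1 = (r i).1 then 1 else 0) + 1 else 0 := by
      intro h
      have hδ : ∀ a b : IrrCharacter K, classInner (a : K → ℂ) (b : K → ℂ) =
          if a = b then (1 : ℂ) else 0 := fun a b => by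
        split_ifs with e
        · rw [e]; exact Char.classInner_irr_self b.2
        · exact Char.classInner_irr_ne a.2 b.2 fun he => e (Subtype.ext he)
      have hsub : ∀ x y z : IrrCharacter K, classInner (x : K → ℂ) ((y : K → ℂ) - (z : K → ℂ)) =
          classInner (x : K → ℂ) (y : K → ℂ) - classInner (x : K → ℂ) (z : K → ℂ) := fun x y z => by
        simp only [classInner, Pi.sub_apply, map_sub, mul_sub, Finset.sum_sub_distrib]
      rw [Char.classInner_sub_left, hsub, hsub, hδ, hδ, hδ, hδ]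
      by_cases hh : (h : G) ∈ T
      · rw [dif_pos hh]
        have hA := hXact ⟨h, hh⟩ (r j)
        have hP : compIrr (conjIso (D.conjMaps_of_normalizer h.2)) ψ₀ = ψ₀ := hfix ⟨h, hh⟩
        have e1 : compIrr (conjIso (D.conjMaps_of_normalizer h.2)) (r j).1 =
            act ⟨h, hh⟩ (r j).1 := rfl
        rw [e1, hP, if_neg (r i).2.2, if_neg hA.2.symm, if_pos rfl]
        by_cases e : act ⟨h, hh⟩ (r j).1 = (r i).1
        · rw [if_pos e, if_pos e.symm]; ring
        · rw [if_neg e, if_neg fun e' => e e'.symm]; ring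
      · rw [dif_neg hh]
        have hne : ∀ x y : IrrCharacter K, x ∈ f → y ∈ f →
            ¬ x = compIrr (conjIso (D.conjMaps_of_normalizer h.2)) y :=
          fun x y hx hy e => hh (hmemT h.2 y hy (e ▸ hx))
        rw [if_neg (hne _ _ (r i).2.1 (r j).2.1), if_neg (hne _ _ (r i).2.1 hψ₀),
          if_neg (hne _ _ hψ₀ (r j).2.1), if_neg (hne _ _ hψ₀ hψ₀)]
        ring
    rw [Finset.sum_congr rfl fun h _ => hterm h]
    have hsum : ∑ h : Nz, (if hh : (h : G) ∈ T then
        (if act ⟨h, hh⟩ (r j).1 = (r i).1 then (1 : ℂ) else 0) + 1 else 0) =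
        ∑ h : T, ((if act h (r j).1 = (r i).1 then (1 : ℂ) else 0) + 1) := by
      rw [← Finset.sum_subset (Finset.subset_univ (Finset.univ.filter fun h : Nz => (h : G) ∈ T))
        fun h _ hh => dif_neg fun hh' => hh (Finset.mem_filter.2 ⟨Finset.mem_univ _, hh'⟩)]
      refine Finset.sum_bij (fun h hh => (⟨(h : G), (Finset.mem_filter.1 hh).2⟩ : T))
        (fun _ _ => Finset.mem_univ _) (fun a _ b _ e => Subtype.ext (congrArg (fun x : T => (x : G)) e))
        (fun h _ => ⟨⟨h, hTN h⟩, Finset.mem_filter.2 ⟨Finset.mem_univ _, h.2⟩, rfl⟩)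
        fun h hh => dif_pos (Finset.mem_filter.1 hh).2
    rw [hsum, Finset.sum_add_distrib, Finset.sum_boole, hcount, Finset.sum_const, nsmul_eq_mul,
      mul_one, Finset.card_univ, ← Nat.card_eq_fintype_card, hcardT]
    have hK0 : (Nat.card K : ℂ) ≠ 0 := Nat.cast_ne_zero.2 hKpos.ne'
    have hiff : (∃ h : T, act h (r j).1 = (r i).1) ↔ i = j :=
      ⟨fun ⟨h, e⟩ => (hrel h e).symm, fun e => ⟨1, by rw [e, hone]⟩⟩
    simp only [hiff]
    split_ifs <;> push_cast <;> field_simp <;> ring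
  · intro c hc g hg
    refine D.vanish_of_const hM c hψ₀ (fun ψ hψ => ?_) hg
    by_cases hψψ : ψ = ψ₀
    · rw [hψψ]
    set F : G → ℂ := fun g => ∑ χ ∈ B.toFinset, c χ * (χ : G → ℂ) g with hF
    have hFc : IsClassFunction G F := fun x y => Finset.sum_congr rfl fun χ _ => by
      rw [χ.2.isClassFunction x y]
    obtain ⟨h, e⟩ := (Quotient.mk_out (s := s) (⟨ψ, hψ, hψψ⟩ : X))
    have h0 := hc (Quotient.mk s ⟨ψ, hψ, hψψ⟩)
    simp only [τ] at h0
    rw [Char.classInner_indFun_right K _ hFc] at h0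
    clear_value F
    have key : ∀ (Φ : IrrCharacter K), classInner (fun k : K => F k) (act h Φ : K → ℂ) =
        classInner (fun k : K => F k) (Φ : K → ℂ) := fun Φ => by
      have e' : (fun k : K => F k) = fun k => F (conjIso (hcm (hTN h)) k : G) :=
        funext fun k => (hFc (k : G) (h : G)).symm
      have e'' : (act h Φ : K → ℂ) = fun k => (Φ : K → ℂ) (conjIso (hcm (hTN h)) k) := rfl
      conv_lhs => rw [e', e'']
      exact Char.classInner_comp_equiv (conjIso (hcm (hTN h))) (fun k : K => F k) (Φ : K → ℂ)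
    have hinv : classInner (fun k : K => F k) (ψ : K → ℂ) =
        classInner (fun k : K => F k) ((r (Quotient.mk s ⟨ψ, hψ, hψψ⟩)).1 : K → ℂ) := by
      rw [← key (r (Quotient.mk s ⟨ψ, hψ, hψψ⟩)).1]
      exact congrArg (fun Φ : IrrCharacter K => classInner (fun k : K => F k) (Φ : K → ℂ)) e.symm
    simp only [hF] at hinv h0
    rw [hinv, ← sub_eq_zero, ← h0]
    simp only [classInner, Pi.sub_apply, map_sub, mul_sub, Finset.sum_sub_distrib]
  · obtain ⟨h, e⟩ := (Quotient.mk_out (s := s) (⟨ψ, hψ, hne⟩ : X))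
    refine ⟨Quotient.mk s ⟨ψ, hψ, hne⟩, ?_⟩
    have hc1 : IsClassFunction G (indFun K ((ψ : K → ℂ) - (ψ₀ : K → ℂ))) :=
      (Char.isGeneralizedCharacter_indFun K (ψ.2.isGeneralized.sub ψ₀.2.isGeneralized)).isClassFunction
    have hc2 : IsClassFunction G (τ (Quotient.mk s ⟨ψ, hψ, hne⟩)) :=
      (Char.isGeneralizedCharacter_indFun K
        ((r (Quotient.mk s ⟨ψ, hψ, hne⟩)).1.2.isGeneralized.sub ψ₀.2.isGeneralized)).isClassFunction
    rw [Char.eq_sum_classInner hc1, Char.eq_sum_classInner hc2]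
    refine Finset.sum_congr rfl fun χ _ => ?_
    congr 1
    rw [← Char.classInner_conj_symm, ← Char.classInner_conj_symm (χ : G → ℂ) (τ _)]
    congr 1
    rw [hFrob _ χ.2.isClassFunction]
    simp only [τ]
    rw [hFrob _ χ.2.isClassFunction, ← keyAct h _ χ.2.isClassFunction (r _).1]
    congr 2
    exact congrArg (fun Φ : IrrCharacter K => (Φ : K → ℂ)) e.symm
  · set g : IrrCharacter K → ℂ := fun ψ => classInner (fun k : K => F k) (ψ : K → ℂ) -
      classInner (fun k : K => F k) (ψ₀ : K → ℂ) with hg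
    have h1 : ∑ i : ι, ∑ h : T, g (act h (r i).1) =
        (Nat.card T : ℂ) * ∑ i, classInner F (τ i) := by
      rw [Finset.mul_sum]
      refine Finset.sum_congr rfl fun i _ => ?_
      simp only [hg, keyAct _ F hFc, Finset.sum_const, Finset.card_univ, nsmul_eq_mul,
        ← Nat.card_eq_fintype_card, τ, hFrob F hFc]
    have h2 : ∑ i : ι, ∑ h : T, g (act h (r i).1) = (Nat.card K : ℂ) * ∑ b : X, g b.1 := by
      have h3 : ∀ i, ∑ h : T, g (act h (r i).1) = ∑ b : X,
          ((Finset.univ.filter fun h : T => act h (r i).1 = b.1).card : ℂ) * g b.1 := by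
        intro i
        rw [← Finset.sum_fiberwise_of_maps_to
          (g := fun h : T => (⟨act h (r i).1, hXact h (r i)⟩ : X)) (t := Finset.univ)
          (fun h _ => Finset.mem_univ _)]
        refine Finset.sum_congr rfl fun b _ => ?_
        rw [← nsmul_eq_mul, ← Finset.sum_const]
        refine Finset.sum_congr (by ext h; simp [Subtype.ext_iff]) fun h hh => ?_
        rw [Finset.mem_filter] at hh
        rw [hh.2]
      rw [Finset.sum_congr rfl fun i _ => h3 i, Finset.sum_comm, Finset.mul_sum]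
      refine Finset.sum_congr rfl fun b _ => ?_
      obtain ⟨h, e⟩ := (Quotient.mk_out b : (Quotient.out (Quotient.mk s b) : X) ≈ b)
      rw [Finset.sum_eq_single (Quotient.mk s b)]
      · rw [hcount, if_pos ⟨h, e⟩]
      · intro i _ hi
        rw [hcount, if_neg, Nat.cast_zero, zero_mul]
        rintro ⟨h', e'⟩
        exact hi ((Quotient.out_eq i).symm.trans (Quotient.sound ⟨h', e'⟩))
      · exact fun h' => absurd (Finset.mem_univ _) h'
    have h4 : ∑ ψ ∈ f.toFinset, g ψ = ∑ b : X, g b.1 := by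
      rw [← Finset.add_sum_erase _ g (Set.mem_toFinset.2 hψ₀), show g ψ₀ = 0 from sub_self _, zero_add]
      exact Finset.sum_subtype _ (fun ψ => by simp [and_comm]) g
    rw [hcardT, h2, Nat.cast_mul] at h1
    show ∑ ψ ∈ f.toFinset, g ψ = _
    rw [h4]
    refine mul_left_cancel₀ (Nat.cast_ne_zero.2 hKpos.ne' : (Nat.card K : ℂ) ≠ 0) ?_
    rw [h1]
    ring

end CycSystem

end Cfsg.Lib.Block
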