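import Cfsg.Agent.Lib.Block.CyclicInertial
import Cfsg.Agent.Lib.Block.CyclicVectors
import Cfsg.Agent.Lib.Block.BlockGenerator

/-!
# The block below a cyclic maximal pair at its subgroup of order `p`

For a block with cyclic defect group `P`, the pair below `(P, c)` at a generator `z` of the
subgroup of order `p` has trivial inertial quotient, and its stabilizer is the product of the
stabilizer of `(P, c)` with the centralizer of `z`.
-/

set_option autoImplicit false
set_option linter.unusedSectionVars false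
set_option maxHeartbeats 1000000

namespace Cfsg.Lib.Block

open Cfsg

universe u

noncomputable local instance (priority := high) fintypeSubgroupCyclicLocalData {A : Type u}
    [Group A] [Fintype A] (H : Subgroup A) : Fintype H := Fintype.ofFinite H

local notation "C[" P "]" => Subgroup.centralizer (SetLike.coe P)

variable {p : ℕ} [Fact p.Prime] {M : Ideal AlgInt} {G : Type u} [Group G] [Fintype G]

theorem eq_of_le_of_card_eq_cyclic {P : Subgroup G} (hcyc : IsCyclic P) {Y Y' : Subgroup G}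
    (hY : Y ≤ P) (hY' : Y' ≤ P) (h : Nat.card Y = p) (h' : Nat.card Y' = p) : Y = Y' := by
  obtain ⟨u, hu⟩ := (Subgroup.isCyclic_iff_exists_zpowers_eq_top P).1 hcyc
  subst hu
  exact eq_of_card_eq_of_le_zpowers hY hY' h h'

/-- The data at the subgroup of order `p`. -/
structure CycLocal (p : ℕ) [Fact p.Prime] (M : Ideal AlgInt) (B : Set (IrrCharacter G))
    (P : Subgroup G) (z : G) (f : Set (IrrCharacter C[Subgroup.zpowers z])) (S : Subgroup G)
    (e : ℕ) (h : G) : Prop where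
  ord : orderOf z = p
  memP : z ∈ P
  sys : CycSystem p M B (Subgroup.zpowers z) C[Subgroup.zpowers z] f
  stab : ∀ g : G, g ∈ S ↔
    g ∈ Subgroup.normalizer (Subgroup.zpowers z : Set G) ∧ StabilizesBlock C[Subgroup.zpowers z] f g
  index : (C[Subgroup.zpowers z]).relIndex S = e
  dvd : e ∣ p - 1
  gen_mem : h ∈ S
  gen_pow : h ^ e ∈ C[Subgroup.zpowers z]
  gen_inj : ∀ i < e, h ^ i ∈ C[Subgroup.zpowers z] → i = 0
  gen_surj : ∀ g ∈ S, ∃ i < e, (h ^ i)⁻¹ * g ∈ C[Subgroup.zpowers z]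
  defect : IsDefectGroup p M f (P.subgroupOf C[Subgroup.zpowers z])
  root : ∃ c' : Set (IrrCharacter (Subgroup.centralizer
      ((P.subgroupOf C[Subgroup.zpowers z] : Subgroup C[Subgroup.zpowers z]) :
        Set C[Subgroup.zpowers z]))),
    IsInducedBlock M (Subgroup.centralizer
      ((P.subgroupOf C[Subgroup.zpowers z] : Subgroup C[Subgroup.zpowers z]) :
        Set C[Subgroup.zpowers z])) c' f ∧
    ∀ g : C[Subgroup.zpowers z],
      g ∈ Subgroup.normalizer ((P.subgroupOf C[Subgroup.zpowers z] :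
        Subgroup C[Subgroup.zpowers z]) : Set C[Subgroup.zpowers z]) →
      StabilizesBlock (Subgroup.centralizer
        ((P.subgroupOf C[Subgroup.zpowers z] : Subgroup C[Subgroup.zpowers z]) :
          Set C[Subgroup.zpowers z])) c' g →
      g ∈ Subgroup.centralizer ((P.subgroupOf C[Subgroup.zpowers z] :
        Subgroup C[Subgroup.zpowers z]) : Set C[Subgroup.zpowers z])

variable (hM : IsPModular p M) {B : Set (IrrCharacter G)} {P : Subgroup G}
  {c : Set (IrrCharacter C[P])} (hB : IsPBlock M B) (hD : IsDefectGroup p M B P)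
  (hcyc : IsCyclic P) (hc : IsInducedBlock M C[P] c B) {T : Subgroup G}
  (hT : ∀ g : G, g ∈ T ↔ g ∈ Subgroup.normalizer (P : Set G) ∧ StabilizesBlock C[P] c g)
  (hP : P ≠ ⊥)

include hM hB hD hcyc hc hT hP

/-- The block at the subgroup of order `p`. -/
theorem exists_cycLocal : ∃ (z : G) (f : Set (IrrCharacter C[Subgroup.zpowers z])) (S : Subgroup G)
    (h : G), CycLocal p M B P z f S ((C[P]).relIndex T) h ∧
      SubpairLE p M (Subgroup.zpowers z) f P c := by
  classical
  haveI := hcyc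
  have hab := comm_of_isCyclic hcyc
  have hmax := maximal_of_root hM hB hD hab hc
  have hPp : IsPGroup p P := isPGroup_defectGroup hM hD
  obtain ⟨z, hzP, hz⟩ : ∃ z ∈ P, orderOf z = p := by
    obtain ⟨n, hn⟩ := IsPGroup.iff_card.1 hPp
    have hn0 : n ≠ 0 := by
      rintro rfl
      exact hP (Subgroup.card_eq_one.1 (by simpa using hn))
    haveI : Fintype P := Fintype.ofFinite P
    obtain ⟨x, hx⟩ := exists_prime_orderOf_dvd_card' (G := P) p (hn ▸ dvd_pow_self p hn0)
    exact ⟨x, x.2, by rw [orderOf_submonoid]; exact hx⟩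
  have hZP : Subgroup.zpowers z ≤ P := Subgroup.zpowers_le.2 hzP
  have hcardZ : Nat.card (Subgroup.zpowers z) = p := by rw [Nat.card_zpowers, hz]
  obtain ⟨f, hfb, hle⟩ := exists_subpair hM hmax.1.1 hZP
  have hbr : IsBrauerPairOf p M B (Subgroup.zpowers z) f :=
    (isBrauerPairOf_iff_of_le hM hle B).1 hmax.1
  have hzo : ∃ k : ℕ, orderOf z = p ^ k := ⟨1, by rw [hz, pow_one]⟩
  have hind := (isBrauerPairOf_zpowers_iff hM hB hzo hfb).1 hbr
  have hPK : P ≤ C[Subgroup.zpowers z] := le_centralizer_of_abelian hab hZP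
  have hfree : ∀ g ∈ T, g ∈ C[Subgroup.zpowers z] → g ∈ C[P] := fun g hg hgK =>
    inertial_free hM hB hD hcyc hc hT hg hzP
      (fun h => (Fact.out : p.Prime).ne_one (by rw [← hz, h, orderOf_one]))
      (by rw [← Subgroup.mem_centralizer_iff.1 hgK z (Subgroup.mem_zpowers z), mul_inv_cancel_right])
  have hCK : C[P] ≤ C[Subgroup.zpowers z] := Subgroup.centralizer_le hZP
  have hCT : C[P] ≤ T := fun g hg =>
    (hT g).2 ((conjIdx_eq_self_iff c g).1 (conjIdx_eq_self_of_mem hg c))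
  -- subgroups of order `p` of `P`
  have huniq : ∀ x : G, (Subgroup.zpowers z).map (MulAut.conj x).toMonoidHom ≤ P →
      (Subgroup.zpowers z).map (MulAut.conj x).toMonoidHom = Subgroup.zpowers z := fun x hx =>
    eq_of_le_of_card_eq_cyclic (p := p) hcyc hx hZP
      (by rw [Subgroup.card_map_of_injective (MulAut.conj x).injective, hcardZ]) hcardZ
  obtain ⟨S, hS⟩ : ∃ S : Subgroup G, ∀ g, g ∈ S ↔
      conjIdx g ⟨Subgroup.zpowers z, f⟩ = ⟨Subgroup.zpowers z, f⟩ :=
    ⟨{ carrier := {g | conjIdx g ⟨Subgroup.zpowers z, f⟩ = ⟨Subgroup.zpowers z, f⟩}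
       one_mem' := conjIdx_one _
       mul_mem' := fun {a b} ha hb => by
         show conjIdx (a * b) _ = _
         rw [← conjIdx_mul b a, hb, ha]
       inv_mem' := fun {a} ha => by
         show conjIdx a⁻¹ _ = _
         conv_lhs => rw [← ha]
         rw [conjIdx_mul, inv_mul_cancel, conjIdx_one] }, fun g => Iff.rfl⟩
  have hTS : T ≤ S := by
    intro t ht
    have hfix : conjIdx t ⟨P, c⟩ = ⟨P, c⟩ := (conjIdx_eq_self_iff c t).2 ((hT t).1 ht)
    have hrel := rel_conjIdx hM t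
      (a := ⟨Subgroup.zpowers z, f⟩) (b := ⟨P, c⟩) hle
    rw [hfix] at hrel
    have hmap := huniq t (le_of_rel hrel)
    rw [conjIdx_eq hmap] at hrel
    rw [hS, conjIdx_eq hmap]
    exact Sigma.ext rfl (heq_of_eq (subpair_unique hM hmax.1.1 hrel hle))
  have hKS : C[Subgroup.zpowers z] ≤ S := fun k hk => (hS k).2 (conjIdx_eq_self_of_mem hk f)
  have hfac : ∀ g ∈ S, ∃ t k : G, t ∈ T ∧ k ∈ C[Subgroup.zpowers z] ∧ g = t * k := fun g hg => by
    obtain ⟨y, k, hy, hk, he⟩ := exists_factor_abelian hM hab hmax hle ((hS g).1 hg)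
    exact ⟨y, k, (hT y).2 ((conjIdx_eq_self_iff c y).1 hy), hk, he⟩
  haveI hnT : ((C[P]).subgroupOf T).Normal := by
    obtain ⟨φ, hφ, -⟩ := inertial_hom hM hB hD hcyc hc hT
    rw [← hφ]; infer_instance
  obtain ⟨Q, hQ⟩ := (inertial_cyclic hM hB hD hcyc hc hT).exists_generator
  obtain ⟨h₀, rfl⟩ := QuotientGroup.mk_surjective Q
  set e := (C[P]).relIndex T with he
  have hord : orderOf (h₀ : T ⧸ (C[P]).subgroupOf T) = e := by
    rw [orderOf_eq_card_of_forall_mem_zpowers hQ, he, Subgroup.relIndex, Subgroup.index_eq_card]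
  have hpow : ∀ i : ℕ, (h₀ : G) ^ i ∈ C[P] ↔ e ∣ i := fun i => by
    rw [← hord, orderOf_dvd_iff_pow_eq_one, ← QuotientGroup.mk_pow, QuotientGroup.eq_one_iff,
      Subgroup.mem_subgroupOf]
    rfl
  have he0 : 0 < e := Nat.pos_of_ne_zero Subgroup.index_ne_zero_of_finite
  have hTsurj : ∀ t ∈ T, ∃ i < e, ((h₀ : G) ^ i)⁻¹ * t ∈ C[P] := by
    intro t ht
    obtain ⟨m, hm⟩ := hQ ((⟨t, ht⟩ : T) : T ⧸ (C[P]).subgroupOf T)
    have hep : 0 < (e : ℤ) := by exact_mod_cast he0
    refine ⟨(m % (e : ℤ)).toNat, (Int.toNat_lt (Int.emod_nonneg _ hep.ne')).2 (Int.emod_lt_of_pos _ hep), ?_⟩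
    have hm' : (h₀ : T ⧸ (C[P]).subgroupOf T) ^ ((m % (e : ℤ)).toNat) =
        ((⟨t, ht⟩ : T) : T ⧸ (C[P]).subgroupOf T) := by
      rw [← zpow_natCast, Int.toNat_of_nonneg (Int.emod_nonneg _ hep.ne'), ← hord, zpow_mod_orderOf]
      exact hm
    rw [← QuotientGroup.mk_pow, QuotientGroup.eq, Subgroup.mem_subgroupOf] at hm'
    exact hm'
  have hsurjS : ∀ g ∈ S, ∃ i < e, ((h₀ : G) ^ i)⁻¹ * g ∈ C[Subgroup.zpowers z] := by
    intro g hg
    obtain ⟨t, k, ht, hk, rfl⟩ := hfac g hg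
    obtain ⟨i, hi, hit⟩ := hTsurj t ht
    exact ⟨i, hi, by rw [← mul_assoc]; exact mul_mem (hCK hit) hk⟩
  have hinjS : ∀ i < e, (h₀ : G) ^ i ∈ C[Subgroup.zpowers z] → i = 0 := by
    intro i hi hik
    have := (hpow i).1 (hfree _ (T.pow_mem h₀.2 i) hik)
    exact Nat.eq_zero_of_dvd_of_lt this hi
  have hindex : (C[Subgroup.zpowers z]).relIndex S = e := by
    rw [Subgroup.relIndex, Subgroup.index_eq_card, ← Nat.card_fin e]
    refine (Nat.card_eq_of_bijective (fun i : Fin e =>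
      ((⟨(h₀ : G) ^ (i : ℕ), hTS (T.pow_mem h₀.2 _)⟩ : S) :
        S ⧸ (C[Subgroup.zpowers z]).subgroupOf S)) ⟨fun i j hij => ?_, fun x => ?_⟩).symm
    · rw [QuotientGroup.eq, Subgroup.mem_subgroupOf] at hij
      refine Fin.ext ?_
      wlog hle' : (i : ℕ) ≤ j generalizing i j
      · exact (this j i (by simpa using inv_mem hij) (by omega)).symm
      have h1 : (h₀ : G) ^ ((j : ℕ) - i) ∈ C[Subgroup.zpowers z] := by
        rw [pow_sub _ hle', ((Commute.refl (h₀ : G)).pow_pow (j : ℕ) (i : ℕ)).inv_right.eq]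
        exact hij
      have := hinjS _ (by omega) h1
      omega
    · obtain ⟨x, rfl⟩ := QuotientGroup.mk_surjective x
      obtain ⟨i, hi, hix⟩ := hsurjS x x.2
      exact ⟨⟨i, hi⟩, QuotientGroup.eq.2 (Subgroup.mem_subgroupOf.2 hix)⟩
  obtain ⟨c', hc'max, hc'T, -⟩ := exists_local_root hM hmax hab hT hle
  have hfD := subpair_defect hM hmax hab hle
  have hPsub : P.subgroupOf C[Subgroup.zpowers z] ≤ Subgroup.centralizer
      ((P.subgroupOf C[Subgroup.zpowers z] : Subgroup C[Subgroup.zpowers z]) :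
        Set C[Subgroup.zpowers z]) :=
    le_centralizer_of_abelian (fun x hx y hy => Subtype.ext (hab _ hx _ hy)) le_rfl
  have hc'ind := (isBrauerPairOf_iff_induced hM (isPGroup_defectGroup hM hfD) le_rfl hPsub
    (Subgroup.centralizer_le_normalizer _) (fun v => invOn_self v) hc'max.1.1.2 hc'max.1.1.2
    (fun _ => rfl) hfb).1 hc'max.1
  have hinert : ∀ g : C[Subgroup.zpowers z],
      g ∈ Subgroup.normalizer ((P.subgroupOf C[Subgroup.zpowers z] :
        Subgroup C[Subgroup.zpowers z]) : Set C[Subgroup.zpowers z]) →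
      StabilizesBlock (Subgroup.centralizer
        ((P.subgroupOf C[Subgroup.zpowers z] : Subgroup C[Subgroup.zpowers z]) :
          Set C[Subgroup.zpowers z])) c' g →
      g ∈ Subgroup.centralizer ((P.subgroupOf C[Subgroup.zpowers z] :
        Subgroup C[Subgroup.zpowers z]) : Set C[Subgroup.zpowers z]) := fun g h1 h2 => by
    have hgP := hfree _ (Subgroup.mem_subgroupOf.1 ((hc'T g).2 ⟨h1, h2⟩)) g.2
    exact Subgroup.mem_centralizer_iff.2 fun x hx =>
      Subtype.ext (Subgroup.mem_centralizer_iff.1 hgP _ hx)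
  have hcoe : ∀ x : G, ¬ IsPRegular p x → pPt p x ∈ P → Subgroup.zpowers z ≤ Subgroup.zpowers (pPt p x) := by
    intro x hx hxP
    obtain ⟨k, hk⟩ := exists_orderOf_pPt (p := p) x
    have hk0 : k ≠ 0 := fun h => hx ((pPt_eq_one_iff x).1
      (orderOf_eq_one_iff.1 (by rw [hk, h, pow_zero])))
    have hw : orderOf (pPt p x ^ p ^ (k - 1)) = p := by
      rw [orderOf_pow' _ (pow_ne_zero _ (Fact.out : p.Prime).ne_zero), hk,
        Nat.gcd_eq_right (pow_dvd_pow p (Nat.sub_le k 1)), Nat.pow_div (Nat.sub_le k 1)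
          (Fact.out : p.Prime).pos, Nat.sub_sub_self (Nat.one_le_iff_ne_zero.2 hk0), pow_one]
    rw [eq_of_le_of_card_eq_cyclic (p := p) hcyc hZP
      (Subgroup.zpowers_le.2 (P.pow_mem hxP (p ^ (k - 1))))
      hcardZ (by rw [Nat.card_zpowers, hw])]
    exact Subgroup.zpowers_le.2 (Subgroup.pow_mem _ (Subgroup.mem_zpowers _) _)
  refine ⟨z, f, S, h₀, ⟨hz, hzP, ?_, fun g => (hS g).trans (conjIdx_eq_self_iff f g), hindex,
    inertial_dvd hM hB hD hcyc hc hT, hTS h₀.2, hCK ((hpow e).2 dvd_rfl), hinjS, hsurjS, hfD,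
    c', hc'ind, hinert⟩, hle⟩
  refine ⟨hcardZ, rfl, hind, fun χ hχ g hg h0 => ?_, fun ψ hψ k hk h0 => ?_, fun η hη => ?_,
    fun ψ hψ ψ' hψ' k hk => ?_⟩
  · have h : ∃ D : Subgroup G, IsDefectGroup p M (blockOf M (χ : G → ℂ)) D ∧ pPt p g ∈ D := by
      by_contra h
      simp only [not_exists, not_and] at h
      exact h0 (char_eq_zero_of_pPt_notMem hM χ h)
    obtain ⟨D, hD', hgD⟩ := h
    rw [← eq_blockOf_of_mem hM hB hχ] at hD'
    obtain ⟨x, hx⟩ := exists_conj_defectGroup hM hB hD hD'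
    rw [← hx] at hgD
    obtain ⟨y, hy, he'⟩ := hgD
    refine ⟨x⁻¹, hcoe _ (fun hr => hg ?_) ?_⟩
    · rw [IsPRegular, show x⁻¹ * g * x⁻¹⁻¹ = MulAut.conj x⁻¹ g by simp [mul_assoc],
        MulEquiv.orderOf_eq] at hr
      exact hr
    · rw [pPt_conj, ← he']
      simpa [mul_assoc] using hy
  · have h : ∃ D : Subgroup C[Subgroup.zpowers z],
        IsDefectGroup p M (blockOf M (ψ : C[Subgroup.zpowers z] → ℂ)) D ∧ pPt p k ∈ D := by
      by_contra h
      simp only [not_exists, not_and] at h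
      exact h0 (char_eq_zero_of_pPt_notMem hM ψ h)
    obtain ⟨D, hD', hkD⟩ := h
    rw [← eq_blockOf_of_mem hM hfb hψ] at hD'
    obtain ⟨x, hx⟩ := exists_conj_defectGroup hM hfb hfD hD'
    rw [← hx] at hkD
    obtain ⟨y, hy, he'⟩ := hkD
    have h1 : (x : G)⁻¹ * pPt p (k : G) * (x : G) ∈ P := by
      have e1 := congrArg Subtype.val he'
      rw [coe_pPt] at e1
      rw [← e1]
      have hy' : (y : G) ∈ P := Subgroup.mem_subgroupOf.1 hy
      simpa [mul_assoc] using hy'
    have h2 := hcoe ((x : G)⁻¹ * (k : G) * (x : G)⁻¹⁻¹) (fun hr => hk (by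
      rw [IsPRegular, show (x : G)⁻¹ * (k : G) * (x : G)⁻¹⁻¹ = MulAut.conj (x : G)⁻¹ (k : G) by
        simp [mul_assoc], MulEquiv.orderOf_eq, ← IsPRegular, isPRegular_coe_iff] at hr
      exact hr)) (by rwa [pPt_conj, inv_inv])
    rw [Subgroup.zpowers_le] at h2 ⊢
    obtain ⟨i, hi⟩ := h2
    refine ⟨i, ?_⟩
    have hxz : z * (x : G) = (x : G) * z := Subgroup.mem_centralizer_iff.1 x.2 z (Subgroup.mem_zpowers z)
    simp only at hi
    rw [pPt_conj, conj_zpow, inv_inv] at hi
    have h3 : z = (x : G) * z * (x : G)⁻¹ := by rw [← hxz, mul_inv_cancel_right]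
    show pPt p (k : G) ^ i = z
    refine Eq.trans ?_ h3.symm
    refine Eq.trans ?_ (congrArg (fun w => (x : G) * w * (x : G)⁻¹) hi)
    group
  · have hpair : IsBrauerPairOf p M B (Subgroup.zpowers z)
        (blockOf M (η : C[Subgroup.zpowers z] → ℂ)) :=
      (isBrauerPairOf_zpowers_iff hM hB hzo (isPBlock_blockOf η)).2 hη
    obtain ⟨x, hx⟩ := exists_conj_le_maximal hM hmax hpair
    have hmap := huniq x (le_of_rel hx)
    rw [conjIdx_eq hmap] at hx
    have heq := subpair_unique hM hmax.1.1 hx hle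
    refine ⟨x⁻¹, conjMaps_inv (conjMaps_centralizer hmap), inv_mem ?_, ?_⟩
    · refine Subgroup.mem_normalizer_iff.2 fun y => ⟨fun hy => ?_, fun hy => ?_⟩
      · rw [← hmap]; exact ⟨y, hy, rfl⟩
      · rw [← hmap] at hy
        obtain ⟨w, hw, hwy⟩ := hy
        exact (MulAut.conj x).injective hwy ▸ hw
    · rw [← heq]
      rw [conjSet, pullSet, Set.mem_preimage]
      convert self_mem_blockOf hM η using 1
      refine Subtype.ext (funext fun k => ?_)
      simp only [compIrr_apply, MulEquiv.symm_symm]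
      refine congrArg (fun t => (η : C[Subgroup.zpowers z] → ℂ) t) (Subtype.ext ?_)
      show x⁻¹ * (x * (k : G) * x⁻¹) * x⁻¹⁻¹ = (k : G)
      group
  · exact (regBlock_of_inertial hM hfb hfD
      (isCyclic_of_surjective (Subgroup.subgroupOfEquivOfLe hPK).symm
        (Subgroup.subgroupOfEquivOfLe hPK).symm.surjective)
      hc'ind hinert hψ').reg ψ hψ k hk

end Cfsg.Lib.Block
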