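import Cfsg.Agent.Lib.Block.StarNorm

/-!
# Vanishing of values at local idempotents

If the section of a character at a block of the centralizer of a `p`-element vanishes on regular
elements, so does its value at every idempotent inside that block.
-/

set_option autoImplicit false
set_option linter.unusedSectionVars false
set_option maxHeartbeats 1600000

namespace Cfsg.Lib.Block

open Cfsg
open scoped ComplexConjugate MonoidAlgebra

universe u

variable {p : ℕ} {M : Ideal AlgInt} (hM : IsPModular p M) {G : Type u} [Group G] [Fintype G]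
  [Fact p.Prime]

noncomputable local instance (priority := high) fintypeSubgroupStarVanish {A : Type u} [Group A]
    [Fintype A] (H : Subgroup A) : Fintype H := Fintype.ofFinite H

local notation "C[" Q "]" => Subgroup.centralizer (SetLike.coe Q)

/-- The group algebra of a subgroup inside that of the group. -/
noncomputable def inclC (R : Type*) [CommRing R] (H : Subgroup G) : R[H] →+* R[G] :=
  MonoidAlgebra.mapDomainRingHom R H.subtype

theorem coeff_inclC_coe {R : Type*} [CommRing R] {H : Subgroup G} (x : R[H]) (h : H) :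
    (inclC R H x).coeff (h : G) = x.coeff h :=
  Finsupp.mapDomain_apply Subtype.coe_injective _ h

theorem coeff_inclC_of_notMem {R : Type*} [CommRing R] {H : Subgroup G} (x : R[H]) {g : G}
    (hg : g ∉ H) : (inclC R H x).coeff g = 0 :=
  Finsupp.mapDomain_notin_range _ _ fun ⟨h, hh⟩ => hg (hh ▸ h.2)

theorem red_inclC (H : Subgroup G) (x : OGA hM H) :
    red hM (inclC (locRing hM) H x) = inclC (resField hM) H (red hM x) := by
  refine MonoidAlgebra.ext (Finsupp.ext fun g => ?_)
  by_cases hg : g ∈ H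
  · obtain ⟨h, rfl⟩ : ∃ h : H, (h : G) = g := ⟨⟨g, hg⟩, rfl⟩
    rw [coeff_red, coeff_inclC_coe, coeff_inclC_coe, coeff_red]
  · rw [coeff_red, coeff_inclC_of_notMem _ hg, coeff_inclC_of_notMem _ hg, map_zero]

theorem exists_inclC_eq {R : Type*} [CommRing R] {H : Subgroup G} {x : R[G]}
    (hx : ∀ g, g ∉ H → x.coeff g = 0) : ∃ y : R[H], inclC R H y = x := by
  refine ⟨MonoidAlgebra.ofCoeff (Finsupp.equivFunOnFinite.symm fun h : H => x.coeff h),
    MonoidAlgebra.ext (Finsupp.ext fun g => ?_)⟩
  by_cases hg : g ∈ H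
  · obtain ⟨h, rfl⟩ : ∃ h : H, (h : G) = g := ⟨⟨g, hg⟩, rfl⟩
    rw [coeff_inclC_coe]
    rfl
  · rw [coeff_inclC_of_notMem _ hg, hx g hg]

theorem inclC_injective (R : Type*) [CommRing R] (H : Subgroup G) :
    Function.Injective (inclC R H) :=
  MonoidAlgebra.mapDomain_injective Subtype.coe_injective

theorem pPt_self_of_pelt {u : G} (hu : ∃ k : ℕ, orderOf u = p ^ k) : pPt p u = u := by
  obtain ⟨k, hk⟩ := hu
  exact (eq_pPt (mul_one u) (Commute.one_right u) hk
    (by simp [(Fact.out : p.Prime).ne_one])).symm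

theorem mem_invAlg_cen {R : Type*} [CommRing R] {u : G} {x : R[G]}
    (hx : ∀ g, g ∉ C[Subgroup.zpowers u] → x.coeff g = 0) :
    x ∈ invAlg R (Subgroup.zpowers u) := by
  refine mem_invAlg.2 fun h hh g => ?_
  by_cases hg : g ∈ C[Subgroup.zpowers u]
  · rw [show h * g * h⁻¹ = g by
      rw [Subgroup.mem_centralizer_iff.1 hg h hh, mul_inv_cancel_right]]
  · rw [hx g hg, hx]
    intro hc
    apply hg
    have e : h * g * h⁻¹ = g := by
      have h1 := Subgroup.mem_centralizer_iff.1 hc h hh
      have h2 : h * (h * g * h⁻¹) * h⁻¹ = h * g * h⁻¹ := by rw [h1, mul_inv_cancel_right]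
      exact mul_left_cancel (mul_right_cancel h2)
    rwa [e] at hc

include hM in
/-- The value at an idempotent in a block whose section vanishes is zero. -/
theorem tau_eq_zero_of_vanish (χ : IrrCharacter G) {u : G} (hu : ∃ k : ℕ, orderOf u = p ^ k)
    {b : Set (IrrCharacter C[Subgroup.zpowers u])} (hb : IsPBlock M b)
    (hT : ∀ y : C[Subgroup.zpowers u], IsPRegular p y →
      blockPart b (secFn u C[Subgroup.zpowers u] (χ : G → ℂ)) y = 0)
    {x : KGA hM G} (hi : IsIdempotentElem x) (hbr : brK (Subgroup.zpowers u) x = x)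
    (hxb : x * blkK hM (Subgroup.zpowers u) b = x) : tau hM (χ : G → ℂ) u x = 0 := by
  classical
  obtain ⟨x', hx'⟩ := exists_inclC_eq (H := C[Subgroup.zpowers u]) (x := x) fun g hg => by
    rw [← hbr]; exact coeff_brK_of_notMem x hg
  have hx'i : IsIdempotentElem x' := inclC_injective _ C[Subgroup.zpowers u] (by rw [map_mul, hx', hi.eq])
  obtain ⟨q, hq1, hq2⟩ := exists_idem_lift hM (a := liftC hM x') (by rwa [red_liftC])
  set J := liftC hM x' * Polynomial.aeval (liftC hM x') q with hJ
  rw [red_liftC] at hq2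
  set E := blkO hM (Subgroup.zpowers u) b with hE
  have hEs : ∀ g, g ∉ C[Subgroup.zpowers u] → E.coeff g = 0 := fun g hg => Subtype.ext (by
    rw [hE, blkO, coeff_vO hM (vInt_indVec hM hb), extF_of_notMem _ hg]; rfl)
  have hJs : ∀ g, g ∉ C[Subgroup.zpowers u] → (inclC (locRing hM) C[Subgroup.zpowers u] J).coeff g = 0 := fun g hg =>
    coeff_inclC_of_notMem _ hg
  have hcomm : Commute E (inclC (locRing hM) C[Subgroup.zpowers u] J) :=
    commute_of_supported (vO_mem_invAlg hM (vInt_indVec hM hb) (invOn_self _)) hJs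
  set I := E * inclC (locRing hM) C[Subgroup.zpowers u] J with hI
  have hIi : IsIdempotentElem I :=
    IsIdempotentElem.mul_of_commute hcomm (blkO_idem hM hb) (hq1.map _)
  have hcx : Commute (blkK hM (Subgroup.zpowers u) b) x := blkK_commute hM b hbr
  have hIr : red hM I = x := by
    rw [hI, map_mul, hE, red_blkO hM hb, red_inclC, hq2, hx', hcx.eq, hxb]
  have hIu : I ∈ invAlg (locRing hM) (Subgroup.zpowers u) :=
    mul_mem (mem_invAlg_cen hEs) (mem_invAlg_cen hJs)
  rw [tau_eq hM χ.2.isClassFunction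
    (⟨hIi, hIu, by rw [pPt_self_of_pelt hu, hIr, hbr]⟩ : IsTauLift hM u x I)]
  set θ := secFn u C[Subgroup.zpowers u] (χ : G → ℂ) with hθ
  have hθc : IsClassFunction C[Subgroup.zpowers u] θ := isClassFunction_secFn' χ.2.isClassFunction u
  have hbc : IsClassFunction C[Subgroup.zpowers u] (blockPart b θ) := fun s t => by
    rw [blockPart_eq_inner_sum, blockPart_eq_inner_sum]
    exact Finset.sum_congr rfl fun η _ => by rw [η.2.isClassFunction s t]
  have h0 := hatC_one_eq_zero hM hbc hT hq1
  rw [← h0, hatC, hatC]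
  simp only [hI, coeff_mul_sum, mul_one, AddSubmonoidClass.coe_finsetSum, MulMemClass.coe_mul]
  simp only [Finset.sum_mul]
  rw [Finset.sum_comm]
  have e1 : ∀ h : G, (∑ k : G, (E.coeff h : ℂ) *
      ((inclC (locRing hM) C[Subgroup.zpowers u] J).coeff (h⁻¹ * k) : ℂ) * (χ : G → ℂ) (k * u)) =
      (E.coeff h : ℂ) * ∑ j : C[Subgroup.zpowers u], (J.coeff j : ℂ) * (χ : G → ℂ) (h * (j : G) * u) := by
    intro h
    rw [Finset.mul_sum]
    refine Eq.symm (Fintype.sum_of_injective (fun j : C[Subgroup.zpowers u] => h * (j : G))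
      (fun a a' haa => Subtype.ext (mul_left_cancel haa)) _ _ (fun k hk => ?_) fun j => ?_)
    · rw [coeff_inclC_of_notMem _ fun hm => hk ⟨⟨_, hm⟩, mul_inv_cancel_left h k⟩]
      simp
    · rw [inv_mul_cancel_left, coeff_inclC_coe]
      ring
  rw [Finset.sum_congr rfl fun h _ => e1 h]
  simp only [Finset.mul_sum]
  rw [Finset.sum_comm]
  refine Finset.sum_congr rfl fun j _ => ?_
  rw [blockPart_eq_sum b hθc, Finset.mul_sum]
  refine Eq.symm (Fintype.sum_of_injective (fun c : C[Subgroup.zpowers u] => (c : G)) Subtype.coe_injective _ _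
    (fun k hk => ?_) fun c => ?_)
  · rw [hEs k fun hm => hk ⟨⟨k, hm⟩, rfl⟩]
    simp
  · rw [hE, blkO, coeff_vO hM (vInt_indVec hM hb), extF_indVec, subgroupBlockCoeff, dif_pos c.2]
    simp only [hθ, secFn, Subgroup.coe_mul]
    rw [((commute_mem_cen u c).mul_right (commute_mem_cen u j)).eq]
    ring

end Cfsg.Lib.Block
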