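import Cfsg.Agent.Lib.Block.CyclicWitnessGen
import Cfsg.Agent.Lib.Block.CyclicLocalData
import Cfsg.Agent.Lib.Block.StarVanish
import Mathlib.RingTheory.RootsOfUnity.AlgebraicallyClosed

/-!
# The rank of a block with cyclic defect group is at least its inertial index

A module induced from the socle of the block at the subgroup of order `p` carries a witness of
every root of unity of order dividing the inertial index.
-/

set_option autoImplicit false
set_option linter.unusedSectionVars false
set_option maxHeartbeats 1000000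

namespace Cfsg.Lib.Block

open Cfsg Module
open scoped MonoidAlgebra

universe u v

noncomputable local instance (priority := high) fintypeSubgroupCyclicBound {A : Type u}
    [Group A] [Fintype A] (H : Subgroup A) : Fintype H := Fintype.ofFinite H

variable {p : ℕ} [Fact p.Prime] {M : Ideal AlgInt} {hM : IsPModular p M}
  {G : Type u} [Group G] [Fintype G] {K : Subgroup G}

/-! ## Restriction of coefficients to a subgroup -/

/-- The part of an element on a subgroup. -/
noncomputable def restC (K : Subgroup G) (x : KGA hM G) : KGA hM K :=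
  MonoidAlgebra.ofCoeff (Finsupp.equivFunOnFinite.symm fun k : K => x.coeff (k : G))

theorem coeff_restC (x : KGA hM G) (k : K) : (restC K x).coeff k = x.coeff (k : G) := rfl

theorem restC_smul (r : resField hM) (x : KGA hM G) : restC K (r • x) = r • restC K x :=
  MonoidAlgebra.ext (Finsupp.ext fun _ => rfl)

theorem restC_sum {ι : Type*} (s : Finset ι) (x : ι → KGA hM G) :
    restC K (∑ i ∈ s, x i) = ∑ i ∈ s, restC K (x i) := by
  classical
  refine MonoidAlgebra.ext (Finsupp.ext fun k => ?_)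
  rw [coeff_restC, MonoidAlgebra.coeff_sum, MonoidAlgebra.coeff_sum, Finsupp.finset_sum_apply,
    Finsupp.finset_sum_apply]
  rfl

theorem inclC_single (k : K) (r : resField hM) :
    inclC (resField hM) K (MonoidAlgebra.single k r) = MonoidAlgebra.single (k : G) r :=
  MonoidAlgebra.mapDomain_single

theorem inclC_smul (r : resField hM) (c : KGA hM K) :
    inclC (resField hM) K (r • c) = r • inclC (resField hM) K c := by
  refine MonoidAlgebra.ext (Finsupp.ext fun g => ?_)
  rw [MonoidAlgebra.coeff_smul, Finsupp.smul_apply]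
  by_cases hg : g ∈ K
  · obtain ⟨k, rfl⟩ : ∃ k : K, (k : G) = g := ⟨⟨g, hg⟩, rfl⟩
    rw [coeff_inclC_coe, coeff_inclC_coe]
    rfl
  · rw [coeff_inclC_of_notMem _ hg, coeff_inclC_of_notMem _ hg, smul_zero]

theorem restC_inclC_mul (c : KGA hM K) (x : KGA hM G) :
    restC K (inclC (resField hM) K c * x) = c * restC K x := by
  induction c using MonoidAlgebra.induction_on with
  | of k =>
    refine MonoidAlgebra.ext (Finsupp.ext fun y => ?_)
    rw [MonoidAlgebra.of_apply, inclC_single, coeff_restC, coeff_single_mul', coeff_single_mul',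
      coeff_restC]
    rfl
  | add a b ha hb =>
    rw [map_add, add_mul, add_mul, ← ha, ← hb]
    exact MonoidAlgebra.ext (Finsupp.ext fun _ => rfl)
  | smul r a ha => rw [inclC_smul, smul_mul_assoc, restC_smul, ha, smul_mul_assoc]

theorem restC_mul_inclC (x : KGA hM G) (c : KGA hM K) :
    restC K (x * inclC (resField hM) K c) = restC K x * c := by
  induction c using MonoidAlgebra.induction_on with
  | of k =>
    refine MonoidAlgebra.ext (Finsupp.ext fun y => ?_)
    rw [MonoidAlgebra.of_apply, inclC_single, coeff_restC, coeff_mul_single', coeff_mul_single',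
      coeff_restC]
    rfl
  | add a b ha hb =>
    rw [map_add, mul_add, mul_add, ← ha, ← hb]
    exact MonoidAlgebra.ext (Finsupp.ext fun _ => rfl)
  | smul r a ha => rw [inclC_smul, mul_smul_comm, restC_smul, ha, mul_smul_comm]

theorem asAlgebraHom_lmul (c : KGA hM K) (x : KGA hM G) :
    (rK (lmulRep hM) K).asAlgebraHom c x = inclC (resField hM) K c * x := by
  induction c using MonoidAlgebra.induction_on with
  | of k =>
    rw [MonoidAlgebra.of_apply, Representation.asAlgebraHom_single_one, inclC_single]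
    rfl
  | add a b ha hb => rw [map_add, LinearMap.add_apply, ha, hb, map_add, add_mul]
  | smul r a ha => rw [map_smul, LinearMap.smul_apply, ha, inclC_smul, smul_mul_assoc]

/-! ## Translations -/

theorem mul_eq_zero_of_translation {A : Type u} [Group A] [Fintype A] {d : A} (hd : orderOf d = p)
    {u w : KGA hM A} (hu : MonoidAlgebra.single d 1 * u = u)
    (hw : MonoidAlgebra.single d 1 * w = w) (hc : ∀ a, d * a = a * d) : u * w = 0 := by
  classical
  haveI := charP_resField hM
  refine MonoidAlgebra.ext (Finsupp.ext fun g => ?_)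
  rw [coeff_mul_sum]
  have hpow : ∀ e ∈ Subgroup.zpowers d, (∀ y, u.coeff (e * y) = u.coeff y) ∧
      (∀ y, w.coeff (e⁻¹ * y) = w.coeff y) ∧ ∀ a, e * a = a * e := by
    intro e he
    obtain ⟨i, -, rfl⟩ : ∃ i, i < orderOf d ∧ d ^ i = e := by
      obtain ⟨i, rfl⟩ := exists_pow_eq d he
      exact ⟨i % orderOf d, Nat.mod_lt _ (hd ▸ (Fact.out : p.Prime).pos), pow_mod_orderOf d i⟩
    induction i with
    | zero => simp
    | succ i ih =>
      obtain ⟨h1, h2, h3⟩ := ih (Subgroup.pow_mem _ (Subgroup.mem_zpowers d) i)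
      refine ⟨fun y => ?_, fun y => ?_, fun a => ?_⟩
      · rw [pow_succ, mul_assoc, h1]
        conv_lhs => rw [← hu, coeff_single_mul', inv_mul_cancel_left]
      · rw [pow_succ', mul_inv_rev, mul_assoc, h2]
        conv_rhs => rw [← hw, coeff_single_mul']
      · rw [pow_succ, mul_assoc, hc, ← mul_assoc, h3, mul_assoc]
  letI : DecidablePred fun x : A => ∀ e : Subgroup.zpowers d, e • x = x := Classical.decPred _
  rw [sum_eq_sum_fixed_of_pgroup (p := p) (H := Subgroup.zpowers d)
    (IsPGroup.of_card (n := 1) (by rw [Nat.card_zpowers, hd, pow_one])) _ fun e x => ?_]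
  · refine Finset.sum_eq_zero fun x hx => ?_
    exfalso
    have h1 := (Finset.mem_filter.1 hx).2 ⟨d, Subgroup.mem_zpowers d⟩
    change d * x = x at h1
    rw [mul_eq_right.1 h1, orderOf_one] at hd
    exact (Fact.out : p.Prime).ne_one hd.symm
  · obtain ⟨h1, h2, h3⟩ := hpow e e.2
    show u.coeff ((e : A) * x) * w.coeff (((e : A) * x)⁻¹ * g) = _
    rw [h1, mul_inv_rev, show x⁻¹ * (e : A)⁻¹ = (e : A)⁻¹ * x⁻¹ by
      rw [← mul_inv_rev, ← mul_inv_rev, h3], mul_assoc, h2]

/-- A central element of order `p` acts trivially on the socle. -/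
theorem single_mul_socle {A : Type u} [Group A] [Fintype A] {f : Set (IrrCharacter A)} {q : ℕ}
    {η ε : KGA hM A} {m : ℕ} {σ : Representation (resField hM) A (Fin m → resField hM)}
    {i₀ : Fin m} (C : Corner hM f q η ε σ i₀) {d : A} (hd : d ^ p = 1) (hc : ∀ a, d * a = a * d)
    {w : KGA hM A} (hw : η * w = 0) (hwB : blkA hM f * w = w) :
    MonoidAlgebra.single d 1 * w = w := by
  classical
  haveI := charP_resField hM
  haveI hch : CharP (KGA hM A) p := charP_of_injective_algebraMap (R := resField hM) (fun a b h => by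
    have h1 := congrArg (fun x : KGA hM A => x.coeff 1) h
    simpa [MonoidAlgebra.coe_algebraMap] using h1) p
  have hcomm : ∀ x : KGA hM A, Commute (MonoidAlgebra.single d 1 - 1) x := fun x => by
    refine Commute.sub_left ?_ (Commute.one_left x)
    induction x using MonoidAlgebra.induction_on with
    | of a =>
      show _ = _
      rw [MonoidAlgebra.of_apply, MonoidAlgebra.single_mul_single, MonoidAlgebra.single_mul_single,
        hc]
    | add a b ha hb => exact ha.add_right hb
    | smul r a ha => exact ha.smul_right r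
  have h0 : σ.asAlgebraHom (MonoidAlgebra.single d 1 - 1) = 0 := by
    refine central_nilpotent_kills C.irred hcomm (n := p) ?_
    rw [sub_pow_char_of_commute p (Commute.one_right _), MonoidAlgebra.single_pow, hd, one_pow,
      one_pow, ← MonoidAlgebra.one_def, sub_self]
  have hmem : w ∈ cLayer (lmulRep hM) f η 0 := by
    refine ⟨?_, w, ?_⟩
    · show (lmulRep hM).asAlgebraHom η w = 0
      rw [lmulRep_asAlgebraHom, hw]
    · rw [lmulRep_asAlgebraHom, pow_zero, one_mul, hwB]
  have h1 := C.kills_socle (lmulRep hM) h0 hmem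
  rwa [lmulRep_asAlgebraHom, sub_mul, one_mul, sub_eq_zero] at h1

/-! ## The witnesses in an induced module -/

variable {B : Set (IrrCharacter G)} {f : Set (IrrCharacter K)} {q : ℕ} {η ε : KGA hM K} {m : ℕ}
  {σ : Representation (resField hM) K (Fin m → resField hM)} {i₀ : Fin m}
  (C : Corner hM f q η ε σ i₀) {h : G} {hh : ConjMaps h K K} {n : ℕ} {c0 : KGA hM K}
  (W : Twisted hM f η ε σ i₀ hh n c0)

include C W in
/-- All roots of unity have witnesses. -/
theorem exists_wit_module (hB : IsPBlock M B) (hind : IsInducedBlock M K f B)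
    (hl : blockRank p f ≤ 1) (hq : 2 ≤ q) {z : G} (hz : orderOf z = p) (hzK : z ∈ K)
    (hzc : ∀ k ∈ K, z * k = k * z) (hzh : ∀ i, h ^ i * z * (h ^ i)⁻¹ ∈ Subgroup.zpowers z)
    (hfree : ∀ i < n, h ^ i * z * (h ^ i)⁻¹ = z → i = 0) (hn : (n : resField hM) ≠ 0)
    {ζ : resField hM} (hζ : ζ ^ n = 1) :
    ∃ (N : ℕ) (τ : Representation (resField hM) G (Fin N → resField hM)),
      τ.IsIrreducible ∧ blockOp hM B τ = 1 ∧ IsWit τ f q η ε h c0 ζ := by
  classical
  haveI := charP_resField hM
  have hn0 : n ≠ 0 := fun h0 => hn (by rw [h0, Nat.cast_zero])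
  have hK : KGA hM K = MonoidAlgebra (resField hM) K := rfl
  set EG := blkA hM B with hEG
  have hEGc : ∀ x, Commute EG x := fun x => cV_commute hM (indVec B) x
  set z0 : KGA hM K := η ^ (q - 1) * ε with hz0
  have hz0η : η * z0 = 0 := by
    rw [hz0, ← mul_assoc, ← pow_succ', Nat.sub_add_cancel C.q_pos, C.eta_pow, zero_mul]
  have hz0B : blkA hM f * z0 = z0 := by
    rw [hz0, ← mul_assoc, ← (C.eta_pow_comm _ (blkA hM f)).eq, mul_assoc, C.e_blk]
  set ι := inclC (resField hM) K with hι
  set x0 : KGA hM G := EG * ι z0 with hx0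
  have hx0l : ∀ c, ι c * x0 = EG * ι (c * z0) := fun c => by
    rw [hx0, ← mul_assoc, ← (hEGc _).eq, mul_assoc, ← map_mul]
  set U : Submodule (resField hM) (KGA hM G) :=
    LinearMap.range (LinearMap.mulRight (resField hM) x0) with hU
  have hinv : ∀ g, ∀ x ∈ U, lmulRep hM g x ∈ U := by
    rintro g _ ⟨y, rfl⟩
    exact ⟨MonoidAlgebra.single g 1 * y,
      by simp only [LinearMap.mulRight_apply]; rw [mul_assoc]; rfl⟩
  set ρ := subRep (lmulRep hM) U hinv with hρ
  have hρι := subRep_subtype (lmulRep hM) U hinv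
  have hb : blockOp hM B ρ = 1 := by
    refine LinearMap.ext fun x => Subtype.ext ?_
    obtain ⟨y, hy⟩ := x.2
    rw [← asAlgebraHom_blkA, ← Submodule.subtype_apply, map_asAlgebraHom U.subtype hρι,
      lmulRep_asAlgebraHom, Submodule.subtype_apply, Module.End.one_apply, ← hy,
      LinearMap.mulRight_apply, ← mul_assoc, (hEGc y).eq, mul_assoc]
    rw [hx0, ← mul_assoc EG, (blkA_idem hM hB).eq]
  set v0 : U := ⟨x0, 1, one_mul x0⟩ with hv0
  have hTv : ∀ c, ((rK ρ K).asAlgebraHom c v0 : KGA hM G) = EG * ι (c * z0) := fun c => by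
    rw [← Submodule.subtype_apply, map_rK (K := K) U.subtype hρι, asAlgebraHom_lmul]
    exact hx0l c
  have hv0mem : v0 ∈ mLayer (rK ρ K) f η ε 0 := by
    refine mem_mLayer.2 ⟨⟨?_, v0, ?_⟩, ?_⟩
    · show (rK ρ K).asAlgebraHom η v0 = 0
      refine Subtype.ext ?_
      rw [hTv, hz0η, map_zero, mul_zero]
      rfl
    · refine Subtype.ext ?_
      rw [hTv, pow_zero, one_mul, hz0B]
    · refine Subtype.ext ?_
      rw [hTv, hz0, ← mul_assoc ε, ← (C.eta_pow_comm _ ε).eq, mul_assoc, C.e_idem.eq]
  refine exists_irreducible_wit C W hζ hn _ ρ le_rfl hb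
    ⟨eigP ρ h c0 n ζ v0, eigP_mem_mLayer C W ρ ζ hv0mem, tOp_eigP C W ρ hζ hn0 hv0mem, ?_⟩
  rintro ⟨-, w, hw⟩
  -- the top layer restricts to zero
  have htop : restC K (((rK ρ K).asAlgebraHom (η ^ (q - 1) * blkA hM f) w : U) : KGA hM G) = 0 := by
    obtain ⟨y, hy⟩ := w.2
    rw [← Submodule.subtype_apply, map_rK (K := K) U.subtype hρι, asAlgebraHom_lmul,
      Submodule.subtype_apply, ← hy, LinearMap.mulRight_apply, ← mul_assoc, hx0, ← mul_assoc,
      restC_mul_inclC, mul_assoc (ι _), restC_inclC_mul, hz0, (C.eta_pow_comm _ (blkA hM f)).eq,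
      mul_assoc (blkA hM f), mul_assoc (blkA hM f), ← mul_assoc _ (η ^ (q - 1)) ε,
      mul_assoc (η ^ (q - 1)) _ (η ^ (q - 1)), ← (C.eta_pow_comm _ (restC K (y * EG))).eq,
      ← mul_assoc (η ^ (q - 1)) (η ^ (q - 1)), ← pow_add,
      pow_eq_zero_of_le (show q ≤ q - 1 + (q - 1) by omega) C.eta_pow, zero_mul, zero_mul,
      mul_zero]
  -- the components of the powers
  have hcomp : ∀ i, restC K (((tOp ρ h c0 ^ i) v0 : U) : KGA hM G) =
      restC K (MonoidAlgebra.single (h ^ i) 1 * EG) * (ccSeq hh c0 i * z0) := by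
    intro i
    rw [tOp_pow ρ hh c0 i, Module.End.mul_apply, ← Submodule.subtype_apply, hρι,
      Submodule.subtype_apply, hTv]
    show restC K (MonoidAlgebra.single (h ^ i) 1 * (EG * ι (ccSeq hh c0 i * z0))) = _
    rw [← mul_assoc, restC_mul_inclC]
  have hzero : ∀ i ∈ Finset.range n, i ≠ 0 →
      restC K (MonoidAlgebra.single (h ^ i) 1 * EG) * (ccSeq hh c0 i * z0) = 0 := by
    intro i hi hi0
    have hzz : Subgroup.zpowers z ≤ K := Subgroup.zpowers_le.2 hzK
    set d : K := ⟨h ^ i * z * (h ^ i)⁻¹ * z⁻¹, mul_mem (hzz (hzh i)) (inv_mem hzK)⟩ with hd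
    have hdz : (d : G) ∈ Subgroup.zpowers z :=
      mul_mem (hzh i) (inv_mem (Subgroup.mem_zpowers z))
    have hdc : ∀ a : K, d * a = a * d := fun a => Subtype.ext (by
      obtain ⟨j, hj⟩ := exists_pow_eq z hdz
      rw [Subgroup.coe_mul, Subgroup.coe_mul, ← hj]
      exact ((show Commute z (a : G) from hzc _ a.2).pow_left j).eq)
    have hdp : orderOf d = p := by
      rw [← orderOf_submonoid]
      obtain ⟨j, hj⟩ := exists_pow_eq z hdz
      have hne : (d : G) ≠ 1 := fun h1 => hi0 (hfree i (Finset.mem_range.1 hi)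
        (mul_inv_eq_one.1 h1))
      have h1 : orderOf (d : G) ∣ p := by
        rw [← hj, ← hz]
        exact orderOf_pow_dvd j
      rcases (Nat.dvd_prime (Fact.out : p.Prime)).1 h1 with h2 | h2
      · exact absurd (orderOf_eq_one_iff.1 h2) hne
      · exact h2
    refine mul_eq_zero_of_translation hdp ?_ ?_ hdc
    · refine MonoidAlgebra.ext (Finsupp.ext fun k => ?_)
      rw [coeff_single_mul', coeff_restC, coeff_restC, coeff_single_mul', coeff_single_mul', hEG,
        blkA, coeff_cV, coeff_cV, zc_indVec, zc_indVec]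
      congr 1
      have e1 : (h ^ i)⁻¹ * ((d⁻¹ * k : K) : G) = z⁻¹ * ((h ^ i)⁻¹ * (k : G)) * z⁻¹⁻¹ := by
        have hk : z * (k : G) = k * z := hzc _ k.2
        have hcz : Commute z (h ^ i * z * (h ^ i)⁻¹)⁻¹ :=
          (show Commute z _ from hzc _ (hzz (hzh i))).inv_right
        calc (h ^ i)⁻¹ * ((d⁻¹ * k : K) : G) =
            (h ^ i)⁻¹ * (z * (h ^ i * z * (h ^ i)⁻¹)⁻¹) * (k : G) := by
              simp only [Subgroup.coe_mul, InvMemClass.coe_inv, hd]
              group
          _ = (h ^ i)⁻¹ * ((h ^ i * z * (h ^ i)⁻¹)⁻¹ * z) * (k : G) := by rw [hcz.eq]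
          _ = z⁻¹ * (h ^ i)⁻¹ * (z * (k : G)) := by group
          _ = z⁻¹ * (h ^ i)⁻¹ * ((k : G) * z) := by rw [hk]
          _ = _ := by group
      rw [e1, blockCoeff_conj_invariant]
    · refine single_mul_socle C (hdp ▸ pow_orderOf_eq_one d) hdc ?_ ?_
      · rw [← mul_assoc, (C.eta_comm _).eq, mul_assoc, hz0η, mul_zero]
      · rw [← mul_assoc, show blkA hM f * ccSeq hh c0 i = ccSeq hh c0 i * blkA hM f from
          (cV_commute hM (indVec f) _).eq, mul_assoc, hz0B]
  -- the component at the identity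
  have hone : restC K EG * z0 = z0 := by
    set F : K → ℂ := fun k => zc (indVec B) (k : G) with hF
    have hFc : IsClassFunction K F := fun x y => zc_conj_invariant (indVec B) (x : G) (y : G)
    have hcv : restC K EG = cV hM (vec F) := by
      refine MonoidAlgebra.ext (Finsupp.ext fun k => ?_)
      rw [coeff_restC, hEG, blkA, coeff_cV, coeff_cV, zc_vec hFc]
    have hint : VInt hM (vec F) := fun k => by
      rw [zc_vec hFc]
      exact vInt_indVec hM hB _
    obtain ⟨ψ, hψ⟩ := nonempty_of_isPBlock hM hind.1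
    obtain ⟨χ, hχ⟩ := nonempty_of_isPBlock hM hB
    have hval : res hM (vec F ψ) = 1 := by
      have h1 := vec_restrict_sub_mem hM hind hψ hχ (vInt_indVec hM hB)
      rw [show indVec B χ = 1 from if_pos hχ] at h1
      rw [← res_one hM, res_eq_iff hM (apply_mem_locRing hM hint ψ) (one_mem _)]
      exact h1
    have hmem : z0 ∈ cLayer (lmulRep hM) f η 0 := by
      refine ⟨?_, z0, ?_⟩
      · show (lmulRep hM).asAlgebraHom η z0 = 0
        rw [lmulRep_asAlgebraHom, hz0η]
      · rw [lmulRep_asAlgebraHom, pow_zero, one_mul, hz0B]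
    have h1 := C.kills_socle (lmulRep hM) (c := restC K EG - 1) (by
      rw [map_sub, map_one, hcv, sigma_cV hind.1 hl C.irred C.sigma_blk hψ hint, hval, one_smul,
        sub_self]) hmem
    rwa [lmulRep_asAlgebraHom, sub_mul, one_mul, sub_eq_zero] at h1
  have hP : restC K ((eigP ρ h c0 n ζ v0 : U) : KGA hM G) = (n : resField hM)⁻¹ • z0 := by
    simp only [eigP, LinearMap.smul_apply, LinearMap.sum_apply, SetLike.val_smul,
      AddSubmonoidClass.coe_finset_sum, restC_smul, restC_sum, hcomp]
    rw [Finset.sum_eq_single 0 (fun i hi hi0 => by rw [hzero i hi hi0, smul_zero])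
      (fun h0 => absurd (Finset.mem_range.2 (Nat.pos_of_ne_zero hn0)) h0), pow_zero, one_smul,
      pow_zero, ← MonoidAlgebra.one_def, one_mul, ccSeq, one_mul, hone]
  rw [← hw, htop, eq_comm, smul_eq_zero] at hP
  exact (hP.resolve_left (inv_ne_zero hn)) |> C.eta_top

/-! ## The count -/

local notation "C[" Q "]" => Subgroup.centralizer (SetLike.coe Q)

omit B f in
theorem cycLocal_le_blockRank (hM : IsPModular p M) {B : Set (IrrCharacter G)} {P : Subgroup G}
    {z : G} {f : Set (IrrCharacter C[Subgroup.zpowers z])} {S : Subgroup G} {e : ℕ} {h : G}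
    (L : CycLocal p M B P z f S e h) (hB : IsPBlock M B) (hcyc : IsCyclic P) :
    e ≤ blockRank p B := by
  classical
  haveI := isAlgClosed_resField hM
  haveI := charP_resField hM
  have hfb : IsPBlock M f := L.sys.induced.1
  have hcardZ : Nat.card (Subgroup.zpowers z) = p := by rw [Nat.card_zpowers, L.ord]
  have hZP : (Subgroup.zpowers z) ≤ P := Subgroup.zpowers_le.2 L.memP
  have hab := comm_of_isCyclic hcyc
  have hPK : P ≤ C[Subgroup.zpowers z] := le_centralizer_of_abelian hab hZP
  have hPkc : IsCyclic (P.subgroupOf C[Subgroup.zpowers z]) :=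
    isCyclic_of_surjective (Subgroup.subgroupOfEquivOfLe hPK).symm
      (Subgroup.subgroupOfEquivOfLe hPK).symm.surjective
  obtain ⟨c', hc'ind, hc'i⟩ := L.root
  obtain ⟨χ, hχ, hχv⟩ := exists_minVal (p := p) (nonempty_of_isPBlock hM hfb)
  have hh0 := (blockHeight_eq_zero_iff hχ).2 hχv
  obtain ⟨η, hηc, hηp, hηb, hηt⟩ :=
    exists_generator_block hM hfb L.defect hPkc hc'ind hc'i hχ hh0
  have R := regBlock_of_inertial hM hfb L.defect hPkc hc'ind hc'i hχ
  obtain ⟨m, σ, i₀, ε, C, -⟩ := exists_corner hM R hηc hηp hηb hηt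
  obtain ⟨b, hbc, hbsum⟩ := exists_averaged hfb R.rank C.irred C.sigma_blk L.defect
  obtain ⟨hhN, hst⟩ := (L.stab h).1 L.gen_mem
  have hh : ConjMaps h C[Subgroup.zpowers z] C[Subgroup.zpowers z] := L.sys.conjMaps_of_normalizer hhN
  have he0 : 0 < e := Nat.pos_of_ne_zero (L.index ▸ Subgroup.index_ne_zero_of_finite)
  obtain ⟨c0, W⟩ := exists_twisted (hM := hM) hfb R.rank C hh hst he0 L.gen_pow
  have hpe : ¬ p ∣ e := fun hd => by
    have h1 := Nat.le_of_dvd (Nat.sub_pos_of_lt (Fact.out : p.Prime).one_lt) (hd.trans L.dvd)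
    have := (Fact.out : p.Prime).pos
    omega
  haveI hne : NeZero (e : resField hM) :=
    ⟨fun h0 => hpe ((CharP.cast_eq_zero_iff (resField hM) p e).1 h0)⟩
  set N := Subgroup.normalizer ((Subgroup.zpowers z) : Set G) with hN
  have hPN : P ≤ N := hPK.trans L.sys.K_le_normalizer
  have hzgen : ∀ {w : G}, w ∈ P → orderOf w = p → Subgroup.zpowers w = (Subgroup.zpowers z) := fun {w} hw hwo =>
    eq_of_le_of_card_eq_cyclic (p := p) hcyc (Subgroup.zpowers_le.2 hw) hZP
      (by rw [Nat.card_zpowers, hwo]) hcardZ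
  have hfree : ∀ g : G, g ∉ N → ∀ d ∈ P, g⁻¹ * d * g ∈ P → d = 1 := by
    intro g hg d hd hgd
    by_contra hd1
    obtain ⟨k, hk⟩ := (IsPGroup.iff_orderOf.1 (isPGroup_defectGroup hM L.defect)) ⟨⟨d, hPK hd⟩, hd⟩
    rw [← orderOf_submonoid, ← orderOf_submonoid] at hk
    have hk0 : k ≠ 0 := fun h0 => hd1 (orderOf_eq_one_iff.1 (by rw [hk, h0, pow_zero]))
    have hw : orderOf (d ^ p ^ (k - 1)) = p := by
      rw [orderOf_pow' _ (pow_ne_zero _ (Fact.out : p.Prime).ne_zero), hk,
        Nat.gcd_eq_right (pow_dvd_pow p (Nat.sub_le k 1)), Nat.pow_div (Nat.sub_le k 1)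
          (Fact.out : p.Prime).pos, Nat.sub_sub_self (Nat.one_le_iff_ne_zero.2 hk0), pow_one]
    set w := d ^ p ^ (k - 1)
    have hw1 := hzgen (P.pow_mem hd _) hw
    have hcj : g⁻¹ * w * g = MulAut.conj g⁻¹ w := by simp
    have hw2 := hzgen (w := g⁻¹ * w * g) (by
      rw [hcj, map_pow]
      refine P.pow_mem ?_ _
      simpa using hgd) (by rw [hcj, MulEquiv.orderOf_eq, hw])
    refine hg ((Subgroup.inv_mem_iff _).1 ?_)
    rw [Subgroup.mem_normalizer_iff]
    intro y
    have hmap : (Subgroup.zpowers z).map (MulAut.conj g⁻¹).toMonoidHom = (Subgroup.zpowers z) := by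
      conv_lhs => rw [← hw1]
      rw [MonoidHom.map_zpowers, MulEquiv.coe_toMonoidHom, ← hcj, hw2]
    constructor
    · intro hy
      rw [← hmap]
      exact ⟨y, hy, rfl⟩
    · intro hy
      rw [← hmap] at hy
      obtain ⟨y', hy', he'⟩ := hy
      exact (MulAut.conj g⁻¹).injective he' ▸ hy'
  have hSle : S ≤ N := fun g hg => ((L.stab g).1 hg).1
  have hKS : C[Subgroup.zpowers z] ≤ S := fun g hg => (L.stab g).2
    ⟨L.sys.K_le_normalizer hg, (conjIdx_eq_self_iff f g).1 (conjIdx_eq_self_of_mem hg f) |>.2⟩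
  have D : TraceData hM f η ε σ i₀ (Nat.card (P.subgroupOf C[Subgroup.zpowers z])) h hh e c0 S N P b :=
    { corner := C
      twisted := W
      n_ne := hne.out
      le_K := hPK
      K_le := hKS
      S_le := hSle
      mem := L.gen_mem
      inj := L.gen_inj
      surj := L.gen_surj
      maps := fun g hg => L.sys.conjMaps_of_normalizer hg
      moved := fun g hg hgS => by
        have hK : g ∈ Subgroup.normalizer (C[Subgroup.zpowers z] : Set G) :=
          Subgroup.mem_normalizer_iff.2 (L.sys.conjMaps_of_normalizer hg)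
        rw [twC_blkA_conj]
        refine blkA_mul_blkA_of_ne hfb (isPBlock_conjSet _ hfb) fun h0 =>
          hgS ((L.stab g).2 ⟨hg, (stabilizesBlock_iff hK).2 ?_⟩)
        exact (conjSet_congr _ _ rfl f).trans h0.symm
      free := hfree
      avg_comm := fun d hd => hbc d hd
      avg := hbsum }
  obtain ⟨ξ, hξ⟩ := HasEnoughRootsOfUnity.exists_primitiveRoot (resField hM) e
  have hq2 : 2 ≤ Nat.card (P.subgroupOf C[Subgroup.zpowers z]) := by
    have h1 : Nat.card (P.subgroupOf C[Subgroup.zpowers z]) = Nat.card P :=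
      Nat.card_congr (Subgroup.subgroupOfEquivOfLe hPK).toEquiv
    have h2 := Subgroup.card_dvd_of_le hZP
    rw [hcardZ, ← h1] at h2
    exact le_trans (Fact.out : p.Prime).two_le (Nat.le_of_dvd Nat.card_pos h2)
  have key : ∀ i : ULift.{u} (Fin e), ∃ (d : ℕ)
      (τ : Representation (resField hM) G (Fin d → resField hM)),
      τ.IsIrreducible ∧ blockOp hM B τ = 1 ∧
        IsWit τ f (Nat.card (P.subgroupOf C[Subgroup.zpowers z])) η ε h c0 (ξ ^ (i.down : ℕ)) := by
    intro i
    refine exists_wit_module C W hB L.sys.induced R.rank hq2 L.ord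
      (hPK L.memP) (fun k hk => Subgroup.mem_centralizer_iff.1 hk z (Subgroup.mem_zpowers z))
      (fun j => ?_) (fun j hj h0 => L.gen_inj j hj ?_) hne.out
      (by rw [← pow_mul, mul_comm, pow_mul, hξ.pow_eq_one, one_pow])
    · exact (Subgroup.mem_normalizer_iff.1 (pow_mem hhN j) z).1 (Subgroup.mem_zpowers z)
    · refine Subgroup.mem_centralizer_iff.2 fun y hy => ?_
      obtain ⟨l, rfl⟩ := exists_pow_eq z hy
      exact ((show Commute z (h ^ j) from (mul_inv_eq_iff_eq_mul.1 h0).symm).pow_left l).eq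
  choose d τ hirr hblock hwit using key
  have hcount := card_simples_le_blockRank hM hB τ hirr (fun i j hij => ⟨fun E => hij ?_⟩) hblock
  · simpa using hcount
  · have he' : ∀ g x, E.toLinearEquiv (τ i g x) = τ j g (E.toLinearEquiv x) := fun g x =>
      LinearMap.congr_fun (E.toIntertwiningMap.isIntertwining' g) x
    have h1 := eq_of_wit D (hirr j) (by rw [← pow_mul, mul_comm, pow_mul, hξ.pow_eq_one, one_pow])
      (by rw [← pow_mul, mul_comm, pow_mul, hξ.pow_eq_one, one_pow])
      (isWit_map E.toLinearEquiv he' (hwit i)) (hwit j)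
    exact ULift.ext _ _ (Fin.ext (hξ.pow_inj i.down.2 j.down.2 h1))

end Cfsg.Lib.Block
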