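import Cfsg.Agent.Lib.Char.AbelianInertia

/-!
# Constituents over a normal subgroup with cyclic quotient
-/

set_option autoImplicit false
set_option linter.unusedSectionVars false

namespace Cfsg.Lib.Block

open Cfsg
open scoped ComplexConjugate

universe u

variable {A : Type u} [Group A] [Fintype A]

/-- With cyclic quotient there are at least as many constituents over `θ` as the index in its
inertia group. -/
theorem exists_constituents_of_cyclic (H : Subgroup A) [H.Normal] [Fintype H] {θ : H → ℂ}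
    (hθ : IsIrrCharacter H θ) (hcyc : IsCyclic (A ⧸ H)) :
    ∃ S : Finset (IrrCharacter A), S.card = H.relIndex (Char.inertia H θ) ∧
      ∀ ψ ∈ S, classInner (fun h : H => (ψ : A → ℂ) h) θ ≠ 0 := by
  classical
  set T := Char.inertia H θ with hTdef
  have hHT : H ≤ T := Char.le_inertia H hθ.isClassFunction
  have hab : ∀ x ∈ T, ∀ y ∈ T, x * y * x⁻¹ * y⁻¹ ∈ H := fun x _ y _ => by
    refine (QuotientGroup.eq_one_iff _).1 ?_
    simp only [QuotientGroup.mk_mul, QuotientGroup.mk_inv]
    haveI := hcyc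
    letI := IsCyclic.commGroup (α := A ⧸ H)
    rw [mul_comm (x : A ⧸ H) (y : A ⧸ H), mul_inv_cancel_right, mul_inv_cancel]
  obtain ⟨e, C, he0, hC, hcard, hind, -, -⟩ :=
    Char.indFun_abelian_inertia H T hθ hTdef hab
  haveI : (H.subgroupOf T).Normal := Subgroup.Normal.subgroupOf inferInstance T
  haveI := Fintype.ofFinite T
  haveI := Fintype.ofFinite (H.subgroupOf T)
  obtain ⟨n, σ, hσ, hch⟩ := Char.isIrrCharacter_resTo H hθ hHT
  haveI := hσ
  have hinv : ∀ (g : T) (x : H.subgroupOf T),
      σ.character (MulAut.conjNormal g x) = σ.character x := by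
    intro g x
    rw [hch]
    exact (congrArg θ (Subtype.ext (by simp [MulAut.conjNormal_apply]))).trans
      ((Char.mem_inertia_iff H (θ := θ)).1 (show (g : A) ∈ Char.inertia H θ from g.2)
        ⟨(x : T), Subgroup.mem_subgroupOf.1 x.2⟩)
  have hcycT : IsCyclic (T ⧸ H.subgroupOf T) := by
    haveI := hcyc
    refine isCyclic_of_injective (QuotientGroup.map (H.subgroupOf T) H T.subtype le_rfl) ?_
    rw [injective_iff_map_eq_one]
    intro q hq
    obtain ⟨g, rfl⟩ := QuotientGroup.mk_surjective q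
    have hq' : ((g : A) : A ⧸ H) = 1 := hq
    exact (QuotientGroup.eq_one_iff _).2 (Subgroup.mem_subgroupOf.2 ((QuotientGroup.eq_one_iff _).1 hq'))
  obtain ⟨ρ, hρ⟩ := Char.exists_extension_of_cyclic σ hinv hcycT
  have hres : ∀ x : H.subgroupOf T, ρ.character (x : T) = Char.resTo H θ T x := fun x => by
    rw [← hch]
    show LinearMap.trace ℂ _ (ρ (x : T)) = LinearMap.trace ℂ _ (σ x)
    rw [hρ]
  have hρirr : IsIrrCharacter T ρ.character := by
    refine ⟨n, ρ, (Char.isIrreducible_iff_submodule ρ).2 ?_, rfl⟩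
    have h := (Char.isIrreducible_iff_submodule σ).1 hσ
    exact ⟨h.1, fun q hq => h.2 q fun g x hx => hρ g ▸ hq g x hx⟩
  have hin : classInner (fun h : H => ρ.character ⟨h, hHT h.2⟩) θ = 1 := by
    rw [show (fun h : H => ρ.character ⟨h, hHT h.2⟩) = θ from
      funext fun h => hres ⟨⟨h, hHT h.2⟩, h.2⟩]
    exact Char.classInner_irr_self hθ
  obtain ⟨hχirr, hχ⟩ := Char.clifford_induce H hθ hHT hTdef hρirr (by rw [hin]; exact one_ne_zero)
  rw [hin] at hχ
  have hkey : ∀ χ : A → ℂ, IsIrrCharacter A χ →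
      classInner (fun h : H => χ h) θ = if χ ∈ C then (e : ℂ) else 0 := by
    intro χ hχ'
    rw [← Char.classInner_conj_symm, ← Char.classInner_indFun H θ hχ'.isClassFunction, hind,
      Char.classInner_smul_left, Char.classInner_sum_left]
    have h1 : ∀ ψ ∈ C, classInner ψ χ = if χ = ψ then (1 : ℂ) else 0 := fun ψ hψ => by
      split_ifs with h
      · rw [h]; exact Char.classInner_irr_self (hC ψ hψ)
      · exact Char.classInner_irr_ne (hC ψ hψ) hχ' (Ne.symm h)
    rw [Finset.sum_congr rfl h1, Finset.sum_ite_eq]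
    split_ifs <;> simp
  have he : e = 1 := by
    have h := hkey _ hχirr
    rw [hχ] at h
    split_ifs at h
    · exact_mod_cast h.symm
    · exact absurd h one_ne_zero
  refine ⟨C.attach.image fun ψ => ⟨ψ.1, hC ψ.1 ψ.2⟩, ?_, fun ψ hψ => ?_⟩
  · rw [Finset.card_image_of_injective, Finset.card_attach, ← hcard, he, one_pow, one_mul]
    intro a b h
    exact Subtype.ext (congrArg (fun c : IrrCharacter A => (c : A → ℂ)) h)
  · obtain ⟨a, -, rfl⟩ := Finset.mem_image.1 hψ
    rw [hkey _ (hC _ a.2), if_pos a.2, he, Nat.cast_one]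
    exact one_ne_zero

end Cfsg.Lib.Block
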