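import Cfsg.Agent.Lib.Block.CyclicIsometry
import Cfsg.Agent.Lib.Block.InducedTrans
import Cfsg.Agent.Lib.Block.SubsectionApps
import Cfsg.Agent.Lib.Block.Correspondence
import Cfsg.Agent.Lib.Block.CyclicLocalData

/-!
# A block with cyclic defect group and its correspondent above the normalizer
-/

set_option autoImplicit false
set_option linter.unusedSectionVars false
set_option maxHeartbeats 1000000

namespace Cfsg.Lib.Block

open Cfsg

universe u

noncomputable local instance (priority := high) fintypeSubgroupCyclicCorrespondent {A : Type u}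
    [Group A] [Fintype A] (H : Subgroup A) : Fintype H := Fintype.ofFinite H

local notation "C[" P "]" => Subgroup.centralizer (SetLike.coe P)

variable {p : ℕ} [Fact p.Prime] {M : Ideal AlgInt} {G : Type u} [Group G] [Fintype G]
  (hM : IsPModular p M)

/-- The normalizer of a cyclic group normalizes its subgroup of order `p`. -/
theorem normalizer_le_of_cyclic {P Z : Subgroup G} (hcyc : IsCyclic P) (hZ : Z ≤ P)
    (hZcard : Nat.card Z = p) :
    Subgroup.normalizer (P : Set G) ≤ Subgroup.normalizer (Z : Set G) := by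
  intro g hg
  have hle : Z.map (MulAut.conj g).toMonoidHom ≤ P :=
    le_trans (Subgroup.map_mono hZ) (map_conj_eq_self hg).le
  have heq : Z.map (MulAut.conj g).toMonoidHom = Z :=
    eq_of_le_of_card_eq_cyclic hcyc hle hZ
      (by rw [Subgroup.card_map_of_injective (MulAut.conj g).injective, hZcard]) hZcard
  refine Subgroup.mem_normalizer_iff.2 fun z => ?_
  conv_rhs => rw [← heq]
  exact (Subgroup.mem_map_iff_mem (f := (MulAut.conj g).toMonoidHom)
    (MulAut.conj g).injective (K := Z) (x := z)).symm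

include hM in
open Classical in
/-- A block of `H ≥ N(P)` inducing `B`, both with cyclic defect group `P`, is perfectly isometric
to `B`. -/
theorem exists_isometry_correspondent {B : Set (IrrCharacter G)} (hB : IsPBlock M B)
    {P H : Subgroup G} (hD : IsDefectGroup p M B P) (hP : P ≠ ⊥) (hcyc : IsCyclic P)
    (hNH : Subgroup.normalizer (P : Set G) ≤ H) {c : Set (IrrCharacter H)}
    (hcD : IsDefectGroup p M c (P.subgroupOf H)) (hc : IsInducedBlock M H c B) :
    blockRank p c = blockRank p B ∧
      ∃ (I : IrrCharacter H → IrrCharacter G) (ε : IrrCharacter H → ℤ),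
        IsPerfectIsometry p M c B I ε := by
  have hPH : P ≤ H := Subgroup.le_normalizer.trans hNH
  set P' := P.subgroupOf H with hP'
  have hPP' : Nat.card P' = Nat.card P :=
    Nat.card_congr (Subgroup.subgroupOfEquivOfLe hPH).toEquiv
  have hcyc' : IsCyclic P' :=
    isCyclic_of_surjective (Subgroup.subgroupOfEquivOfLe hPH).symm
      (Subgroup.subgroupOfEquivOfLe hPH).symm.surjective
  have hP'ne : P' ≠ ⊥ := fun h => hP (by
    apply Subgroup.eq_bot_of_card_eq
    rw [← hPP', h, Subgroup.card_bot])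
  have hab' := comm_of_isCyclic hcyc'
  obtain ⟨c₁, hmax⟩ := exists_pair_at_defect hM hc.1 hcD
  have hc₁ : IsInducedBlock M C[P'] c₁ c :=
    isInducedBlock_of_isBrauerPairOf hM (le_centralizer_of_abelian hab' le_rfl) hmax.1
  have hCH : C[P] ≤ H := (Subgroup.centralizer_le_normalizer _).trans hNH
  have hmemC : ∀ h : H, h ∈ C[P'] ↔ (h : G) ∈ C[P] := by
    intro h
    constructor
    · intro hh z hz
      exact congrArg Subtype.val (hh ⟨z, hPH hz⟩ hz)
    · intro hh z hz
      exact Subtype.ext (hh (z : G) hz)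
  let e : C[P] ≃* C[P'] :=
    { toFun := fun k => ⟨⟨(k : G), hCH k.2⟩, (hmemC _).2 k.2⟩
      invFun := fun k => ⟨((k : H) : G), (hmemC _).1 k.2⟩
      left_inv := fun _ => rfl
      right_inv := fun _ => rfl
      map_mul' := fun _ _ => rfl }
  have he : ∀ k : C[P], ((e k : H) : G) = k := fun k => rfl
  set c₀ := pullSet e c₁ with hc₀
  have hc₀B : IsInducedBlock M C[P] c₀ B := isInducedBlock_trans hM e he hc₁ hc
  let T : Subgroup G := Subgroup.normalizer (P : Set G) ⊓ invStab (indVec c₀)
  have hT : ∀ y : G, y ∈ T ↔ y ∈ Subgroup.normalizer (P : Set G) ∧ StabilizesBlock C[P] c₀ y :=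
    fun y => by
    refine and_congr_right fun hy => ?_
    rw [stabilizesBlock_iff_coeff (mem_normalizer_centralizer hy), ← extF_indVec]
    rfl
  have hnorm : ∀ h : H, h ∈ Subgroup.normalizer (P' : Set H) ↔
      (h : G) ∈ Subgroup.normalizer (P : Set G) := by
    intro h
    rw [Subgroup.mem_normalizer_iff, Subgroup.mem_normalizer_iff]
    constructor
    · intro hh z
      refine ⟨fun hz => (hh ⟨z, hPH hz⟩).1 hz, fun hz => ?_⟩
      have hzH : z ∈ H := by
        have h1 := H.mul_mem (H.mul_mem (H.inv_mem h.2) (hPH hz)) h.2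
        have h2 : (h : G)⁻¹ * ((h : G) * z * (h : G)⁻¹) * (h : G) = z := by group
        rwa [h2] at h1
      exact (hh ⟨z, hzH⟩).2 hz
    · exact fun hh z => hh (z : G)
  have hT' : ∀ y : H, y ∈ T.subgroupOf H ↔
      y ∈ Subgroup.normalizer (P' : Set H) ∧ StabilizesBlock C[P'] c₁ y := by
    intro y
    rw [Subgroup.mem_subgroupOf, hT, hnorm]
    refine and_congr_right fun hy => ?_
    exact stabilizesBlock_inside e he c₁ (mem_normalizer_centralizer hy)
      (mem_normalizer_centralizer ((hnorm y).2 hy))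
  have hrel : (C[P']).relIndex (T.subgroupOf H) = (C[P]).relIndex T := by
    have hTH : T ≤ H := inf_le_left.trans hNH
    rw [show C[P'] = (C[P]).subgroupOf H from Subgroup.ext fun h => hmemC h,
      Subgroup.relIndex_subgroupOf hTH]
  refine ⟨?_, ?_⟩
  · rw [cyclic_rank hM hB hD hcyc hc₀B hT hP, cyclic_rank hM hc.1 hcD hcyc' hc₁ hT' hP'ne, hrel]
  obtain ⟨X, δ, δ₀, yl, D⟩ := exists_isoData hM hB hD hcyc hc₀B hT hP
  obtain ⟨X', δ', δ₀', yl', D'⟩ := exists_isoData hM hc.1 hcD hcyc' hc₁ hT' hP'ne
  rw [hrel, hPP'] at D'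
  obtain ⟨I, ε, hI, -, -⟩ := D.exists_isometry D'
  exact ⟨I, ε, hI⟩

end Cfsg.Lib.Block
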