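import Cfsg.Agent.Lib.Block.MajorEstimate

/-!
# Lower bounds for the form of a block

The form of a block at an integral vector is the scaled norm of the combination of the characters
on regular elements.
-/

set_option autoImplicit false
set_option linter.unusedSectionVars false

namespace Cfsg.Lib.Block

open Cfsg Matrix
open scoped ComplexConjugate

universe u

variable {p : ℕ} {M : Ideal AlgInt} {G : Type u} [Group G] [Fintype G] [Fact p.Prime]
  (hM : IsPModular p M) {B : Set (IrrCharacter G)}

open Classical in
/-- An integral combination of a block on regular elements. -/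
noncomputable def regComb (p : ℕ) (B : Set (IrrCharacter G)) (w : IrrCharacter G → ℤ) : G → ℂ :=
  pRegularPart p (∑ χ ∈ B.toFinset, (w χ : ℂ) • (χ : G → ℂ))

/-- All nonzero values of the form of a block are at least `L`. -/
def FormLB (p : ℕ) (B : Set (IrrCharacter G)) (L : ℤ) : Prop :=
  ∀ (w : IrrCharacter G → ℤ) (v : ℤ), regComb p B w ≠ 0 →
    ((p ^ blockDefect p B : ℕ) : ℂ) * classInner (regComb p B w) (regComb p B w) = (v : ℂ) → L ≤ v

theorem classInner_regPart_regPart (χ η : G → ℂ) :
    classInner (pRegularPart p χ) (pRegularPart p η) = regInner p χ η := by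
  simp only [regInner, classInner]
  congr 1
  refine Finset.sum_congr rfl fun g _ => ?_
  by_cases hg : IsPRegular p g
  · rw [pRegularPart_of_reg (χ := η) hg]
  · simp [pRegularPart_of_sing hg]

theorem pRegularPart_sum {ι : Type*} (s : Finset ι) (c : ι → ℂ) (f : ι → G → ℂ) :
    pRegularPart p (∑ i ∈ s, c i • f i) = ∑ i ∈ s, c i • pRegularPart p (f i) := by
  funext g
  simp only [Finset.sum_apply, Pi.smul_apply, smul_eq_mul]
  by_cases hg : IsPRegular p g
  · simp [pRegularPart_of_reg hg, Finset.sum_apply]
  · simp [pRegularPart_of_sing hg]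

open Classical in
theorem classInner_regComb_int (w : IrrCharacter G → ℤ) {m : IrrCharacter G → IrrCharacter G → ℤ}
    (hm : IsRegForm p B m) :
    ((p ^ blockDefect p B : ℕ) : ℂ) * classInner (regComb p B w) (regComb p B w) =
      ((∑ χ ∈ B.toFinset, ∑ η ∈ B.toFinset, w χ * (m χ η * w η) : ℤ) : ℂ) := by
  rw [regComb, pRegularPart_sum, Char.classInner_sum_left, Finset.mul_sum, Int.cast_sum]
  refine Finset.sum_congr rfl fun χ hχ => ?_
  rw [Char.classInner_smul_left, Char.classInner_sum_right, Finset.mul_sum, Finset.mul_sum,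
    Int.cast_sum]
  refine Finset.sum_congr rfl fun η hη => ?_
  rw [Char.classInner_smul_right, classInner_regPart_regPart, Int.cast_mul, Int.cast_mul,
    ← hm.eq χ (Set.mem_toFinset.1 hχ) η (Set.mem_toFinset.1 hη), regN, map_intCast]
  ring

open Classical in
include hM in
/-- A lower bound in terms of the matrix of the form. -/
theorem FormLB.le_quad {L : ℤ} (h : FormLB p B L) (hB : IsPBlock M B)
    {m : IrrCharacter G → IrrCharacter G → ℤ} (hm : IsRegForm p B m)
    (w : B.toFinset → ℤ)
    (hw : (Matrix.of fun ξ η : B.toFinset => m ξ η) *ᵥ w ≠ 0) :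
    L ≤ w ⬝ᵥ (Matrix.of fun ξ η : B.toFinset => m ξ η) *ᵥ w := by
  let w' : IrrCharacter G → ℤ := fun χ => if h : χ ∈ B.toFinset then w ⟨χ, h⟩ else 0
  have hw' : ∀ x : B.toFinset, w' x = w x := fun x => dif_pos x.2
  have hval : ∀ x : B.toFinset,
      ((Matrix.of fun ξ η : B.toFinset => m ξ η) *ᵥ w) x = ∑ η ∈ B.toFinset, m x η * w' η := by
    intro x
    rw [← Finset.sum_coe_sort B.toFinset]
    simp [Matrix.mulVec, dotProduct, hw']
  refine h w' _ (fun h0 => hw ?_) ?_
  · funext x
    rw [hval, Pi.zero_apply]
    apply Int.cast_injective (α := ℂ)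
    have h1 : classInner (regComb p B w') (pRegularPart p ((x : IrrCharacter G) : G → ℂ)) = 0 := by
      rw [h0]; simp [classInner]
    rw [regComb, pRegularPart_sum, Char.classInner_sum_left] at h1
    rw [Int.cast_sum, Int.cast_zero, ← mul_zero ((p ^ blockDefect p B : ℕ) : ℂ), ← h1, Finset.mul_sum]
    refine Finset.sum_congr rfl fun η hη => ?_
    rw [Char.classInner_smul_left, classInner_regPart_regPart, Int.cast_mul,
      hm.symm η (Set.mem_toFinset.1 hη) x (Set.mem_toFinset.1 x.2),
      ← hm.eq η (Set.mem_toFinset.1 hη) x (Set.mem_toFinset.1 x.2), regN]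
    ring
  · rw [classInner_regComb_int w' hm, ← Finset.sum_coe_sort B.toFinset]
    norm_cast
    simp only [dotProduct, hval, hw', Finset.mul_sum]

open Classical in
include hM in
/-- Nonzero values are at least one. -/
theorem formLB_one (hB : IsPBlock M B) : FormLB p B 1 := by
  intro w v hne hv
  have h1 : classInner (regComb p B w) (regComb p B w) ≠ 0 := fun h =>
    hne (Char.eq_zero_of_classInner_self h)
  have h2 := Char.classInner_self_nonneg (regComb p B w)
  have hpd : (0 : ℝ) < ((p ^ blockDefect p B : ℕ) : ℝ) := by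
    exact_mod_cast pow_pos (Fact.out : p.Prime).pos _
  have h3 : (0 : ℝ) ≤ (v : ℝ) := by
    have := congrArg Complex.re hv
    simp only [Complex.mul_re, Complex.natCast_re, Complex.natCast_im, zero_mul, sub_zero,
      Complex.intCast_re] at this
    rw [← this]
    exact mul_nonneg hpd.le h2
  have h4 : v ≠ 0 := fun h => by
    rw [h, Int.cast_zero] at hv
    exact mul_ne_zero (by exact_mod_cast hpd.ne') h1 hv
  have : (0 : ℤ) ≤ v := by exact_mod_cast h3
  omega

end Cfsg.Lib.Block
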