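import Cfsg.Agent.Lib.Block.CyclicStructureApps
import Cfsg.Agent.Lib.Block.FormBound

/-!
# The form of a block with cyclic defect group

The nonzero values of the form of a block with cyclic defect group are at least its regular rank.
-/

set_option autoImplicit false
set_option linter.unusedSectionVars false
set_option maxHeartbeats 1600000

namespace Cfsg.Lib.Block

open Cfsg
open scoped ComplexConjugate

universe u

noncomputable local instance (priority := high) fintypeSubgroupCyclicFormBound {A : Type u}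
    [Group A] [Fintype A] (H : Subgroup A) : Fintype H := Fintype.ofFinite H

local notation "C[" Q "]" => Subgroup.centralizer (SetLike.coe Q)

/-- The minimum of the form in the coordinates of the characters that are not exceptional. -/
theorem le_cyclic_quad {ι : Type*} (s : Finset ι) (x : ι → ℤ) (hx : ∃ i ∈ s, x i ≠ 0) (m : ℕ)
    (hm : 0 < m) :
    (s.card : ℤ) ≤ ((m * s.card + 1 : ℕ) : ℤ) * ∑ i ∈ s, x i ^ 2 - m * (∑ i ∈ s, x i) ^ 2 := by
  classical
  set t := s.filter fun i => x i ≠ 0 with ht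
  have hts : t ⊆ s := Finset.filter_subset _ _
  have h1 : ∑ i ∈ t, x i = ∑ i ∈ s, x i := by
    refine Finset.sum_subset hts fun i hi hit => ?_
    by_contra h; exact hit (Finset.mem_filter.2 ⟨hi, h⟩)
  have h2 : ∑ i ∈ t, x i ^ 2 = ∑ i ∈ s, x i ^ 2 := by
    refine Finset.sum_subset hts fun i hi hit => ?_
    rw [not_not.1 fun h => hit (Finset.mem_filter.2 ⟨hi, h⟩)]; ring
  have h3 : (∑ i ∈ t, x i) ^ 2 ≤ (t.card : ℤ) * ∑ i ∈ t, x i ^ 2 := sq_sum_le_card_mul_sum_sq
  have h4 : (t.card : ℤ) ≤ ∑ i ∈ t, x i ^ 2 := by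
    rw [Finset.card_eq_sum_ones, Nat.cast_sum]
    exact Finset.sum_le_sum fun i hi => by
      have := sq_pos_of_ne_zero (Finset.mem_filter.1 hi).2
      push_cast
      omega
  obtain ⟨i, hi, hne⟩ := hx
  have h5 : 1 ≤ (t.card : ℤ) := by
    exact_mod_cast Finset.card_pos.2 ⟨i, Finset.mem_filter.2 ⟨hi, hne⟩⟩
  have h6 : (t.card : ℤ) ≤ (s.card : ℤ) := by exact_mod_cast Finset.card_le_card hts
  have h7 : (1 : ℤ) ≤ m := by exact_mod_cast hm
  rw [← h1, ← h2]
  push_cast
  have h8 : (0 : ℤ) ≤ (m : ℤ) * s.card + 1 - m * t.card := by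
    nlinarith
  have h9 : (t.card : ℤ) * ((m : ℤ) * s.card + 1 - m * t.card) ≤
      (∑ i ∈ t, x i ^ 2) * ((m : ℤ) * s.card + 1 - m * t.card) :=
    mul_le_mul_of_nonneg_right h4 h8
  have h10 : (0 : ℤ) ≤ ((s.card : ℤ) - t.card) * ((m : ℤ) * t.card - 1) :=
    mul_nonneg (by linarith) (by nlinarith)
  nlinarith

variable {p : ℕ} {M : Ideal AlgInt} {G : Type u} [Group G] [Fintype G] [Fact p.Prime]
  (hM : IsPModular p M) {B : Set (IrrCharacter G)} {P : Subgroup G}

open Classical in
include hM in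
/-- The values of the form of a block with cyclic defect group. -/
theorem formLB_cyclic (hB : IsPBlock M B) (hD : IsDefectGroup p M B P) (hcyc : IsCyclic P) :
    FormLB p B (blockRank p B) := by
  rcases eq_or_ne P ⊥ with rfl | hP
  · rw [blockRank_eq_one_of_central hM hB hD bot_le, Nat.cast_one]
    exact formLB_one hM hB
  obtain ⟨c, hmax⟩ := exists_pair_at_defect hM hB hD
  have hc : IsInducedBlock M C[P] c B :=
    isInducedBlock_of_isBrauerPairOf hM
      (le_centralizer_of_abelian (comm_of_isCyclic hcyc) le_rfl) hmax.1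
  let T : Subgroup G := Subgroup.normalizer (P : Set G) ⊓ invStab (indVec c)
  have hT : ∀ y : G, y ∈ T ↔ y ∈ Subgroup.normalizer (P : Set G) ∧
      StabilizesBlock C[P] c y := fun y => by
    refine and_congr_right fun hy => ?_
    rw [stabilizesBlock_iff_coeff (mem_normalizer_centralizer hy), ← extF_indVec]
    rfl
  obtain ⟨z, f, S, h, ψ₀, ι, hι, τ, X, y, δ, δ₀, -, -, -, -, hcard, V, hy, hBX, hdis, hX, hδ, hδ₀,
    hτ, hrank, -, -, -⟩ := cyclic_split hM hB hD hcyc hc hT hP
  obtain ⟨e, he⟩ : ∃ e, (C[P]).relIndex T = e := ⟨_, rfl⟩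
  rw [he] at hcard hX V hrank
  rw [hrank]
  have hi0 : 0 < Fintype.card ι := by
    refine Nat.pos_of_ne_zero fun h0 => ?_
    rw [h0, zero_mul, zero_add] at hcard
    exact hP (Subgroup.eq_bot_of_card_eq P hcard.symm)
  have hXc : X.toFinset.card = e := by rw [← hX, Nat.card_eq_card_toFinset]
  intro w v hne hv
  have hsd : ∀ χ ∈ X, (δ χ : ℂ) * (δ χ : ℂ) = 1 := fun χ hχ => by
    rcases hδ χ hχ with h' | h' <;> simp [h']
  have hd00 : (δ₀ : ℂ) * (δ₀ : ℂ) = 1 := by rcases hδ₀ with h' | h' <;> simp [h']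
  set W : ℤ := δ₀ * ∑ i, w (y i) with hW
  set x : IrrCharacter G → ℤ := fun χ => w χ * δ χ - W with hx
  obtain ⟨A, hA⟩ : ∃ A : G → ℂ, A = ∑ χ ∈ X.toFinset, ((x χ * δ χ : ℤ) : ℂ) • (χ : G → ℂ) :=
    ⟨_, rfl⟩
  set S₁ : ℤ := ∑ χ ∈ X.toFinset, x χ with hS₁
  have hAτ : ∀ i, classInner A (τ i) = (S₁ : ℂ) := by
    intro i
    rw [hA, Char.classInner_sum_left, hS₁, Int.cast_sum]
    refine Finset.sum_congr rfl fun χ hχ => ?_
    rw [Char.classInner_smul_left,
      (split_inner_left hy hdis hτ i).1 χ (Set.mem_toFinset.1 hχ), Int.cast_mul, mul_assoc,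
      hsd χ (Set.mem_toFinset.1 hχ), mul_one]
  obtain ⟨n, hn⟩ : ∃ n : ℕ, n = Fintype.card ι * e + 1 := ⟨_, rfl⟩
  have hn0 : (n : ℂ) ≠ 0 := by rw [hn]; exact Nat.cast_ne_zero.2 (Nat.succ_ne_zero _)
  obtain ⟨F', hF'⟩ : ∃ F' : G → ℂ, F' = A - ((S₁ : ℂ) / (n : ℂ)) • ∑ i, τ i := ⟨_, rfl⟩
  have horth : ∀ j, classInner F' (τ j) = 0 := by
    intro j
    rw [hF', Char.classInner_sub_left, Char.classInner_smul_left, Char.classInner_sum_left, hAτ]
    simp only [V.gram, Finset.sum_add_distrib, Finset.sum_const, Finset.card_univ, nsmul_eq_mul,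
      Finset.sum_ite_eq', Finset.mem_univ, if_true]
    rw [show (Fintype.card ι : ℂ) * (e : ℂ) + 1 = (n : ℂ) by rw [hn]; push_cast; ring,
      div_mul_cancel₀ _ hn0, sub_self]
  have hclass : IsClassFunction G F' := by
    intro g a
    simp only [hF', hA, Pi.sub_apply, Finset.sum_apply, Pi.smul_apply, smul_eq_mul]
    rw [Finset.sum_congr rfl fun χ _ => by rw [χ.2.isClassFunction g a],
      Finset.sum_congr rfl fun i _ => (Char.isGeneralizedCharacter_iff.1 (V.gen i)).1 g a]
  have hout : ∀ χ : IrrCharacter G, χ ∉ B → classInner F' (χ : G → ℂ) = 0 := by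
    intro χ hχ
    rw [hF', Char.classInner_sub_left, Char.classInner_smul_left, hA, Char.classInner_sum_left,
      Char.classInner_sum_left, Finset.sum_eq_zero, Finset.sum_eq_zero]
    · simp
    · exact fun i _ => V.outside i χ hχ
    · intro η hη
      rw [Char.classInner_smul_left, Char.classInner_irr_ne η.2 χ.2 (fun h => hχ ?_), mul_zero]
      rw [← Subtype.ext h, hBX]
      exact Or.inl (Set.mem_toFinset.1 hη)
  have hexp : F' = fun g => ∑ᶠ χ ∈ B, classInner F' (χ : G → ℂ) * (χ : G → ℂ) g := by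
    funext g
    conv_lhs => rw [Char.eq_sum_classInner hclass]
    rw [finsum_mem_eq_toFinset_sum, Finset.sum_apply]
    refine (Finset.sum_subset (Finset.subset_univ _) fun χ _ hχ => ?_).symm.trans
      (Finset.sum_congr rfl fun χ _ => rfl)
    rw [Pi.smul_apply, smul_eq_mul, hout χ fun h => hχ (Set.mem_toFinset.2 h), zero_mul]
  have hsing : ∀ g, ¬ IsPRegular p g → F' g = 0 := by
    intro g hg
    rw [hexp]
    exact V.complete _ (fun i => by rw [← hexp]; exact horth i) g hg
  have hF : regComb p B w = F' := by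
    funext g
    by_cases hg : IsPRegular p g
    · rw [regComb, pRegularPart_of_reg hg, hF', hA]
      simp only [Pi.sub_apply, Finset.sum_apply, Pi.smul_apply, smul_eq_mul]
      rw [Finset.sum_eq_zero (s := Finset.univ) fun i _ => V.regular i g hg, mul_zero, sub_zero]
      have hBf : B.toFinset = X.toFinset ∪ Finset.univ.image y := by
        ext χ; simp [hBX]
      rw [hBf, Finset.sum_union, Finset.sum_image fun a _ b _ h => hy h]
      · have hyv : ∀ i, (y i : G → ℂ) g =
            -(δ₀ : ℂ) * ∑ χ ∈ X.toFinset, (δ χ : ℂ) * (χ : G → ℂ) g := by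
          intro i
          have h1 := hτ i g
          rw [V.regular i g hg, finsum_mem_eq_toFinset_sum] at h1
          linear_combination (-(δ₀ : ℂ)) * h1 - (y i : G → ℂ) g * hd00
        simp only [hyv, ← Finset.sum_mul]
        rw [← mul_assoc, Finset.mul_sum, ← Finset.sum_add_distrib]
        refine Finset.sum_congr rfl fun χ hχ => ?_
        simp only [hx, hW]
        push_cast
        linear_combination -((w χ : ℂ) * (χ : G → ℂ) g) * hsd χ (Set.mem_toFinset.1 hχ)
      · rw [Finset.disjoint_left]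
        intro χ h1 h2
        obtain ⟨i, -, rfl⟩ := Finset.mem_image.1 h2
        exact Set.disjoint_left.1 hdis (Set.mem_toFinset.1 h1) ⟨i, rfl⟩
    · rw [regComb, pRegularPart_of_sing hg, hsing g hg]
  have hAA : classInner A A = ((∑ χ ∈ X.toFinset, x χ ^ 2 : ℤ) : ℂ) := by
    conv_lhs => rw [hA]
    rw [Char.classInner_sum_left, Int.cast_sum]
    refine Finset.sum_congr rfl fun χ hχ => ?_
    rw [Char.classInner_smul_left, Char.classInner_sum_right, Finset.sum_eq_single χ]
    · rw [Char.classInner_smul_right, Char.classInner_irr_self χ.2, map_intCast, mul_one]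
      push_cast
      linear_combination (x χ : ℂ) ^ 2 * hsd χ (Set.mem_toFinset.1 hχ)
    · intro η _ hne'
      rw [Char.classInner_smul_right,
        Char.classInner_irr_ne χ.2 η.2 (fun h => hne' (Subtype.ext h).symm), mul_zero]
    · exact fun h => absurd hχ h
  have hnorm : classInner F' F' =
      ((∑ χ ∈ X.toFinset, x χ ^ 2 : ℤ) : ℂ) - (Fintype.card ι : ℂ) * (S₁ : ℂ) ^ 2 / (n : ℂ) := by
    conv_lhs => arg 2; rw [hF']
    rw [Char.classInner_sub_right, Char.classInner_smul_right, Char.classInner_sum_right,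
      Finset.sum_eq_zero fun i _ => horth i, mul_zero, sub_zero, hF', Char.classInner_sub_left,
      Char.classInner_smul_left, Char.classInner_sum_left, hAA]
    rw [Finset.sum_congr rfl fun i _ => show classInner (τ i) A = (S₁ : ℂ) by
      rw [← Char.classInner_conj_symm, hAτ, map_intCast]]
    simp only [Finset.sum_const, Finset.card_univ, nsmul_eq_mul]
    ring
  have hcardP : (p ^ blockDefect p B : ℕ) = n := by
    rw [← card_defectGroup hM hB hD, hn]
    exact hcard.symm
  rw [hF, hnorm, hcardP, mul_sub, mul_div_cancel₀ _ hn0] at hv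
  have hv' : ((n : ℤ) * ∑ χ ∈ X.toFinset, x χ ^ 2 - (Fintype.card ι : ℤ) * S₁ ^ 2) = v := by
    exact_mod_cast hv
  have hxne : ∃ χ ∈ X.toFinset, x χ ≠ 0 := by
    by_contra hall
    simp only [not_exists, not_and, not_not] at hall
    refine hne ?_
    have hA0 : A = 0 := hA.trans (Finset.sum_eq_zero fun χ hχ => by simp [hall χ hχ])
    have hS0 : S₁ = 0 := Finset.sum_eq_zero hall
    rw [hF, hF', hA0, hS0]
    simp
  have hq := le_cyclic_quad X.toFinset x hxne (Fintype.card ι) hi0
  rw [hXc, ← hn, ← hS₁, hv'] at hq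
  exact hq

end Cfsg.Lib.Block
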