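import Cfsg.Agent.Lib.Block.CyclicIsometry
import Cfsg.Agent.Lib.Block.CyclicPrimeApps
import Cfsg.Agent.Lib.Char.Linear
import Cfsg.Agent.Lib.Char.Quotient

/-!
# The Frobenius model of a block with cyclic defect group

A group with a self-centralizing cyclic subgroup of order a power of `p` and index prime to `p`
less than `p` has one block, with that subgroup as defect group; the characters with that
subgroup outside their kernel get one sign under a perfect isometry.
-/

set_option autoImplicit false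
set_option linter.unusedSectionVars false
set_option maxHeartbeats 1000000

namespace Cfsg.Lib.Block

open Cfsg

universe u v

noncomputable local instance (priority := high) fintypeSubgroupCyclicFrobenius {A : Type u}
    [Group A] [Fintype A] (H : Subgroup A) : Fintype H := Fintype.ofFinite H

local notation "C[" P "]" => Subgroup.centralizer (SetLike.coe P)

variable {p : ℕ} [Fact p.Prime] {M : Ideal AlgInt} (hM : IsPModular p M)
  {F : Type v} [Group F] [Fintype F] {Q : Subgroup F}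

/-- A subgroup of `p`-power order whose index is prime to `p` and below `p` is normal Sylow. -/
theorem sylow_of_small_index {n : ℕ} (hQ : Nat.card Q = p ^ n) (hi : Q.index < p)
    (hi' : ¬ p ∣ Q.index) : ∃ S : Sylow p F, (S : Subgroup F) = Q ∧ Q.Normal := by
  have hp : p.Prime := Fact.out
  have hcard : Nat.card Q = p ^ (Nat.card F).factorization p := by
    rw [← Q.card_mul_index, hQ, Nat.factorization_mul (pow_ne_zero _ hp.ne_zero)
      Subgroup.index_ne_zero_of_finite, hp.factorization_pow, Finsupp.add_apply,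
      Finsupp.single_eq_same, Nat.factorization_eq_zero_of_not_dvd hi', add_zero]
  let S : Sylow p F := Sylow.ofCard Q hcard
  have h1 : Nat.card (Sylow p F) ∣ (S : Subgroup F).index := S.card_dvd_index
  have h2 : Nat.card (Sylow p F) ≡ 1 [MOD p] := card_sylow_modEq_one p F
  have h3 : Nat.card (Sylow p F) < p :=
    lt_of_le_of_lt (Nat.le_of_dvd (Nat.pos_of_ne_zero Subgroup.index_ne_zero_of_finite) h1) hi
  have h4 : Nat.card (Sylow p F) = 1 := by
    unfold Nat.ModEq at h2
    rwa [Nat.mod_eq_of_lt h3, Nat.mod_eq_of_lt hp.one_lt] at h2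
  haveI : Subsingleton (Sylow p F) := (Nat.card_eq_one_iff_unique.1 h4).1
  refine ⟨S, rfl, ?_⟩
  have h := Sylow.normal_of_subsingleton S
  exact h

include hM in
open Classical in
/-- The model group has a single block with the data of a cyclic block, and its characters with
`Q` outside the kernel get a single sign. -/
theorem exists_isometry_frobenius {G : Type u} [Group G] [Fintype G] {B : Set (IrrCharacter G)}
    {X : Set (IrrCharacter G)} {δ : IrrCharacter G → ℤ} {δ₀ : ℤ} {yl : ℂ → IrrCharacter G}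
    {q e : ℕ} (D : IsoData hM B q e X δ δ₀ yl) (hq : ∃ n, q = p ^ n) (he : e ∣ p - 1)
    (hF : Nat.card F = q * e) (hcyc : IsCyclic Q) (hQq : Nat.card Q = q) (hQC : C[Q] = Q) :
    ∃ (I : IrrCharacter F → IrrCharacter G) (ε : IrrCharacter F → ℤ),
      IsPerfectIsometry p M (Set.univ : Set (IrrCharacter F)) B I ε ∧
      ∀ η η' : IrrCharacter F, (∃ x ∈ Q, (η : F → ℂ) x ≠ (η : F → ℂ) 1) →
        (∃ x ∈ Q, (η' : F → ℂ) x ≠ (η' : F → ℂ) 1) → ε η = ε η' := by
  obtain ⟨n, hn⟩ := hq
  have hp : p.Prime := Fact.out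
  have hidx : Q.index = e := by
    have h := Q.card_mul_index
    rw [hF, hQq] at h
    exact Nat.eq_of_mul_eq_mul_left D.pos h
  have hep : e < p := by
    have := Nat.le_of_dvd (Nat.sub_pos_of_lt hp.one_lt) he
    have := hp.one_lt
    omega
  obtain ⟨S, hS, hQn⟩ := sylow_of_small_index (p := p) (hQq.trans hn) (hidx ▸ hep)
    (hidx ▸ D.not_dvd)
  haveI := hQn
  have hQp : IsPGroup p Q := hS ▸ S.2
  have huniv : principalBlock M F = Set.univ := Set.eq_univ_iff_forall.2 fun χ =>
    sameBlock_symm hM (mem_principal_of_centralizer_le hM hQp hQC.le χ)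
  have hdef : IsDefectGroup p M (principalBlock M F) Q := hS ▸ isDefectGroup_principal_sylow hM S
  have hQne : Q ≠ ⊥ := by
    intro h
    rw [h, Subgroup.card_bot] at hQq
    exact D.one_lt.ne hQq
  have hN : Subgroup.normalizer (Q : Set F) = ⊤ := Subgroup.normalizer_eq_top_iff.2 hQn
  have hst : ∀ g : F, g ∈ (⊤ : Subgroup F) ↔ g ∈ Subgroup.normalizer (Q : Set F) ∧
      StabilizesBlock C[Q] (principalBlock M C[Q]) g := by
    intro g
    have hgN : g ∈ Subgroup.normalizer (Q : Set F) := hN ▸ Subgroup.mem_top g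
    refine iff_of_true (Subgroup.mem_top g) ⟨hgN, ?_⟩
    have hgK := mem_normalizer_centralizer hgN
    refine (stabilizesBlock_iff hgK).2 ?_
    refine isPBlock_eq_of_mem hM (isPBlock_conjSet _ isPBlock_principal) isPBlock_principal
      (χ := trivChar C[Q]) ?_ (trivChar_mem_principal hM)
    show compIrr (conjIso (conjMaps_normalizer hgK)).symm.symm (trivChar C[Q]) ∈ principalBlock M C[Q]
    exact trivChar_mem_principal hM
  obtain ⟨X', δ', δ₀', yl', D'⟩ := exists_isoData hM isPBlock_principal hdef hcyc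
    (principal_root hM hQp hQC.ge).1 hst hQne
  have hrel : (C[Q]).relIndex (⊤ : Subgroup F) = e := by
    rw [Subgroup.relIndex_top_right]
    exact (congrArg Subgroup.index hQC).trans hidx
  rw [hrel, hQq, huniv] at D'
  obtain ⟨I, ε, hI, hY, hone⟩ := D.exists_isometry D'
  refine ⟨I, ε, hI, fun η η' hη hη' => ?_⟩
  rcases eq_or_ne e 1 with he1 | he1
  · rw [hone he1 η trivial, hone he1 η' trivial]
  -- the characters trivial on `Q`
  have hcomm : ∀ a b : F, a * b * a⁻¹ * b⁻¹ ∈ Q := by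
    haveI := hcyc
    intro a b
    have hab : ∀ u v : MulAut Q, u * v = v * u := fun u v =>
      (IsCyclic.mulAutMulEquiv Q).injective (by rw [map_mul, map_mul, mul_comm])
    have hk : (MulAut.conjNormal (a * b * a⁻¹ * b⁻¹) : MulAut Q) = 1 := by
      rw [map_mul, map_mul, map_mul, map_inv, map_inv,
        hab (MulAut.conjNormal a) (MulAut.conjNormal b)]
      group
    have hc : a * b * a⁻¹ * b⁻¹ ∈ C[Q] := by
      intro x hx
      have h := congrArg Subtype.val (DFunLike.congr_fun hk ⟨x, hx⟩)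
      rw [MulAut.conjNormal_apply, MulAut.one_apply] at h
      exact (mul_inv_eq_iff_eq_mul.1 h).symm
    rwa [hQC] at hc
  have hquot : ∀ u v : F ⧸ Q, u * v = v * u := by
    intro u v
    obtain ⟨a, rfl⟩ := QuotientGroup.mk_surjective u
    obtain ⟨b, rfl⟩ := QuotientGroup.mk_surjective v
    rw [← QuotientGroup.mk_mul, ← QuotientGroup.mk_mul, QuotientGroup.eq]
    have := hcomm b⁻¹ a⁻¹
    simpa [mul_assoc] using this
  set W : Finset (IrrCharacter F) :=
    Finset.univ.filter fun χ => ∀ x ∈ Q, (χ : F → ℂ) x = (χ : F → ℂ) 1 with hW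
  have hW1 : ∀ χ ∈ W, (χ : F → ℂ) 1 = 1 := by
    intro χ hχ
    obtain ⟨ψ, hψ, he'⟩ := Char.exists_deflate_irr Q χ.2 (Finset.mem_filter.1 hχ).2
    rw [← he', QuotientGroup.mk_one, Char.degree_eq_one_of_comm hquot hψ]
  have hWcard : W.card = e := by
    have hbij : Function.Bijective (ConjClasses.mk : F ⧸ Q → ConjClasses (F ⧸ Q)) := by
      refine ⟨fun u v huv => ?_, ConjClasses.mk_surjective⟩
      obtain ⟨t, ht⟩ := isConj_iff.1 (ConjClasses.mk_eq_mk_iff_isConj.1 huv)
      rw [← ht, hquot t u, mul_inv_cancel_right]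
    rw [hW, ← Fintype.card_subtype, ← Nat.card_eq_fintype_card,
      ← Nat.card_congr (Char.irrQuotientEquiv Q), Char.card_irr_eq_card_conjClasses,
      ← Nat.card_eq_of_bijective _ hbij, ← Subgroup.index_eq_card, hidx]
  have hX'card : X'.toFinset.card = e := by
    rw [Set.toFinset_card, ← Nat.card_eq_fintype_card, D'.cardX]
  have hmem : ∀ {χ : IrrCharacter F}, (∃ x ∈ Q, (χ : F → ℂ) x ≠ (χ : F → ℂ) 1) → χ ∉ W :=
    fun ⟨x, hx, hne⟩ h => hne ((Finset.mem_filter.1 h).2 x hx)
  by_cases hsub : W ⊆ X'.toFinset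
  · have hWX : W = X'.toFinset := Finset.eq_of_subset_of_card_le hsub (by rw [hWcard, hX'card])
    have hn' : ∀ {χ : IrrCharacter F}, χ ∉ W → χ ∉ X' := fun h h' =>
      h (hWX ▸ Set.mem_toFinset.2 h')
    rw [hY η trivial (hn' (hmem hη)), hY η' trivial (hn' (hmem hη'))]
  -- one exceptional character trivial on `Q`: then it is the only one
  obtain ⟨η₀, hη₀W, hη₀X⟩ := Finset.not_subset.1 hsub
  rw [Set.mem_toFinset] at hη₀X
  obtain ⟨z₀, hz₀, hz₀η⟩ := ((D'.split η₀).1 trivial).resolve_left hη₀X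
  obtain ⟨g, hg⟩ : ∃ g : F, g ∉ Q := by
    by_contra hall
    push_neg at hall
    exact he1 (hidx ▸ Subgroup.index_eq_one.2 ((Subgroup.eq_top_iff' Q).2 hall))
  have hfree : ∀ x ∈ Q, g * x * g⁻¹ = x → x = 1 := by
    intro x hx hfx
    by_contra hx1
    have h := inertial_free hM isPBlock_principal hdef hcyc (principal_root hM hQp hQC.ge).1 hst
      (Subgroup.mem_top g) hx hx1 hfx
    rw [hQC] at h
    exact hg h
  have hQab : ∀ x ∈ Q, ∀ y ∈ Q, x * y = y * x := comm_of_isCyclic hcyc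
  have hsurj : ∀ x ∈ Q, ∃ y, g * y * g⁻¹ * y⁻¹ = x := by
    intro x hx
    let φ : Q → Q := fun y => ⟨g * y * g⁻¹ * (y : F)⁻¹,
      Q.mul_mem (hQn.conj_mem _ y.2 g) (Q.inv_mem y.2)⟩
    have hinj : Function.Injective φ := by
      intro y₁ y₂ h
      have h' : g * (y₁ : F) * g⁻¹ * (y₁ : F)⁻¹ = g * (y₂ : F) * g⁻¹ * (y₂ : F)⁻¹ :=
        congrArg Subtype.val h
      have hc : g * (y₁ : F) * g⁻¹ = g * (y₂ : F) * g⁻¹ * ((y₂ : F)⁻¹ * y₁) := by
        rw [← mul_assoc, ← h']
        group
      have h2 : g * ((y₂ : F)⁻¹ * y₁) * g⁻¹ = (y₂ : F)⁻¹ * y₁ := by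
        calc g * ((y₂ : F)⁻¹ * y₁) * g⁻¹ = (g * (y₂ : F) * g⁻¹)⁻¹ * (g * y₁ * g⁻¹) := by group
          _ = (y₂ : F)⁻¹ * y₁ := by rw [hc, inv_mul_cancel_left]
      exact Subtype.ext (inv_mul_eq_one.1 (hfree _ (Q.mul_mem (Q.inv_mem y₂.2) y₁.2) h2)).symm
    obtain ⟨y, hy⟩ := (Finite.injective_iff_surjective.1 hinj) ⟨x, hx⟩
    exact ⟨(y : F), congrArg Subtype.val hy⟩
  have hregeq : ∀ z ∈ rootsQ' q, ∀ x : F, IsPRegular p x →
      (yl' z : F → ℂ) x = (η₀ : F → ℂ) x := by
    intro z hz x hx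
    have h1 := D'.regular z hz x hx
    have h2 := D'.regular z₀ hz₀ x hx
    rw [isoT, if_neg (mem_rootsQ'.1 hz).1] at h1
    rw [isoT, if_neg (mem_rootsQ'.1 hz₀).1, hz₀η, ← h1] at h2
    have hne : (δ₀' : ℂ) ≠ 0 := by rcases D'.sign₀ with h | h <;> simp [h]
    exact mul_left_cancel₀ hne (add_right_cancel h2).symm
  have hylη : ∀ z ∈ rootsQ' q, yl' z = η₀ := by
    intro z hz
    have hzd : (yl' z : F → ℂ) 1 = 1 := by
      rw [hregeq z hz 1 (by simp [IsPRegular, hp.ne_one]), hW1 η₀ hη₀W]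
    obtain ⟨φ, hφ⟩ := Char.exists_hom_of_degree_one (yl' z).2.isCharacter hzd
    obtain ⟨φ₀, hφ₀⟩ := Char.exists_hom_of_degree_one η₀.2.isCharacter (hW1 η₀ hη₀W)
    have hker : ∀ ψ : F →* ℂˣ, ∀ x ∈ Q, ψ x = 1 := by
      intro ψ x hx
      obtain ⟨y, rfl⟩ := hsurj x hx
      simp [mul_comm, mul_left_comm]
    refine Subtype.ext (funext fun w => ?_)
    have hmemQ : pPt p w ∈ Q := by
      obtain ⟨k, hk⟩ := exists_orderOf_pPt (p := p) w
      have hP : IsPGroup p (Subgroup.zpowers (pPt p w)) :=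
        IsPGroup.of_card (by rw [Nat.card_zpowers, hk])
      obtain ⟨S', hS'⟩ := hP.exists_le_sylow
      haveI : S.Normal := hS ▸ hQn
      haveI : Subsingleton (Sylow p F) :=
        (Sylow.unique_of_normal S inferInstance).instSubsingleton
      rw [Subsingleton.elim S' S, hS] at hS'
      exact hS' (Subgroup.mem_zpowers _)
    have hr : IsPRegular p (pReg p w) := not_dvd_orderOf_pReg w
    have h := hregeq z hz _ hr
    rw [hφ, hφ₀] at h ⊢
    show (φ w : ℂ) = (φ₀ w : ℂ)
    rw [← pPt_mul_pReg (p := p) w, map_mul, map_mul, hker φ _ hmemQ, hker φ₀ _ hmemQ, one_mul,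
      one_mul]
    exact h
  have huniv' : (Finset.univ : Finset (IrrCharacter F)) = insert η₀ X'.toFinset := by
    refine (Finset.eq_univ_iff_forall.2 fun χ => ?_).symm
    rcases (D'.split χ).1 trivial with h | ⟨z, hz, rfl⟩
    · exact Finset.mem_insert_of_mem (Set.mem_toFinset.2 h)
    · rw [hylη z hz]
      exact Finset.mem_insert_self _ _
  have hone' : ((Finset.univ : Finset (IrrCharacter F)) \ W).card ≤ 1 := by
    rw [Finset.card_sdiff, Finset.inter_univ, hWcard, huniv',
      Finset.card_insert_of_notMem (fun h => hη₀X (Set.mem_toFinset.1 h)), hX'card]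
    omega
  rw [Finset.card_le_one.1 hone' η (Finset.mem_sdiff.2 ⟨Finset.mem_univ _, hmem hη⟩) η'
    (Finset.mem_sdiff.2 ⟨Finset.mem_univ _, hmem hη'⟩)]

end Cfsg.Lib.Block
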