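import Cfsg.Agent.Lib.Block.CyclicLabel
import Cfsg.Agent.Lib.Block.RegInt
import Cfsg.Prelude.Def_BlockLocal

/-!
# Perfect isometries between blocks with cyclic defect groups

Two blocks with cyclic defect groups of the same order and the same inertial index are perfectly
isometric.
-/

set_option autoImplicit false
set_option linter.unusedSectionVars false
set_option maxHeartbeats 1000000

namespace Cfsg.Lib.Block

open Cfsg
open scoped ComplexConjugate

universe u v

variable {p : ℕ} [Fact p.Prime] {M : Ideal AlgInt} {hM : IsPModular p M}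

/-! ## Combinations vanishing at singular elements -/

section Vanish

variable {G : Type u} [Group G] [Fintype G]

include hM in
/-- A local combination of characters vanishing at singular elements is divisible by the
centralizer orders at regular elements. -/
theorem div_centralizer_of_vanish {ι : Type*} (s : Finset ι) (a : ι → ℂ) (F : ι → G → ℂ)
    (ha : ∀ i ∈ s, a i ∈ locRing hM) (hF : ∀ i ∈ s, IsCharacter G (F i))
    (hvan : ∀ g, ¬ IsPRegular p g → ∑ i ∈ s, a i * F i g = 0) {x : G} (hx : IsPRegular p x) :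
    (∑ i ∈ s, a i * F i x) / (Nat.card (Subgroup.centralizer ({x} : Set G)) : ℂ) ∈ locRing hM := by
  classical
  set C := Subgroup.centralizer ({x} : Set G) with hC
  obtain ⟨S⟩ : Nonempty (Sylow p C) := inferInstance
  set Q : Subgroup G := (S : Subgroup C).map C.subtype with hQ
  haveI := Fintype.ofFinite Q
  have hQc : ∀ t ∈ Q, Commute x t := by
    rintro t ⟨c, -, rfl⟩
    exact (Subgroup.mem_centralizer_singleton_iff.1 c.2).symm
  have hQp : IsPGroup p Q := S.2.map _
  have hQcard : Nat.card Q = p ^ (Nat.card C).factorization p := by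
    rw [hQ, Subgroup.card_map_of_injective C.subtype_injective, S.card_eq_multiplicity]
  have havg : (Nat.card Q : ℂ)⁻¹ * ∑ i ∈ s, a i * F i x ∈ locRing hM := by
    have h1 : ∑ i ∈ s, a i * F i x = ∑ t : Q, ∑ i ∈ s, a i * F i (x * t) := by
      rw [Finset.sum_eq_single (1 : Q) (fun t _ ht => hvan _ fun hreg => ?_) (by simp)]
      · simp
      · refine ht ?_
        obtain ⟨k, hk⟩ := hQp t
        have hk' : (t : G) ^ p ^ k = 1 := by
          have := congrArg Subtype.val hk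
          simpa using this
        obtain ⟨j, -, hj⟩ := (Nat.dvd_prime_pow (Fact.out : p.Prime)).1
          (orderOf_dvd_of_pow_eq_one hk')
        rcases Nat.eq_zero_or_pos j with rfl | hj0
        · exact Subtype.ext (orderOf_eq_one_iff.1 (by simpa using hj))
        · exfalso
          refine hreg ?_
          have hcop : (orderOf x).Coprime (orderOf (t : G)) := by
            rw [hj]
            exact (((Fact.out : p.Prime).coprime_iff_not_dvd.2 hx).pow_left j).symm
          rw [(hQc t t.2).orderOf_mul_eq_mul_orderOf_of_coprime hcop, hj]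
          exact (dvd_pow_self p hj0.ne').mul_left _
    rw [h1, Finset.sum_comm, Finset.mul_sum]
    refine sum_mem fun i hi => ?_
    rw [← Finset.mul_sum, mul_left_comm]
    exact mul_mem (ha i hi) (isIntegral_mem_locRing hM (isIntegral_avg_section x Q hQc (hF i hi)))
  have hne : Nat.card C ≠ 0 := Nat.card_pos.ne'
  obtain ⟨n, hn, hnp⟩ : ∃ n, Nat.card C = p ^ (Nat.card C).factorization p * n ∧ ¬ p ∣ n :=
    ⟨_, (Nat.ordProj_mul_ordCompl_eq_self _ p).symm, Nat.not_dvd_ordCompl Fact.out hne⟩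
  rw [show (∑ i ∈ s, a i * F i x) / (Nat.card C : ℂ) =
      (n : ℂ)⁻¹ * ((Nat.card Q : ℂ)⁻¹ * ∑ i ∈ s, a i * F i x) by
    rw [hn, hQcard]; push_cast; field_simp]
  exact mul_mem (inv_natCast_mem_locRing hM hnp) havg

end Vanish

/-! ## Consequences of the data -/

section Data

variable {G : Type u} [Group G] [Fintype G] {B : Set (IrrCharacter G)} {q e : ℕ}
  {X : Set (IrrCharacter G)} {δ : IrrCharacter G → ℤ} {δ₀ : ℤ} {yl : ℂ → IrrCharacter G}
  (D : IsoData hM B q e X δ δ₀ yl)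

include D

open Classical in
theorem IsoData.e_mul_avg {x : G} (hx : ¬ IsPRegular p x) {χ : IrrCharacter G} (hχ : χ ∈ X) :
    (e : ℂ) * ((δ χ : ℂ) * (χ : G → ℂ) x) = ∑ η ∈ X.toFinset, (δ η : ℂ) * (η : G → ℂ) x := by
  rw [Finset.sum_congr rfl (fun η hη => (D.singX χ hχ η (Set.mem_toFinset.1 hη) x hx).symm),
    Finset.sum_const, Set.toFinset_card, ← Nat.card_eq_fintype_card, D.cardX, nsmul_eq_mul]

open Classical in
theorem IsoData.yl_eq_T {z : ℂ} (hz : z ∈ rootsQ' q) (x : G) :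
    (δ₀ : ℂ) * (yl z : G → ℂ) x =
      isoT X δ δ₀ yl z x - ∑ η ∈ X.toFinset, (δ η : ℂ) * (η : G → ℂ) x := by
  rw [isoT, if_neg (mem_rootsQ'.1 hz).1, add_sub_cancel_right]

open Classical in
theorem IsoData.sum_T {x : G} (hx : ¬ IsPRegular p x) :
    ∑ z ∈ rootsQ q, isoT X δ δ₀ yl z x =
      (q : ℂ) * ∑ η ∈ X.toFinset, (δ η : ℂ) * (η : G → ℂ) x := by
  have h1 : ∑ z ∈ rootsQ q, isoT X δ δ₀ yl z x = ∑ z ∈ rootsQ' q, isoT X δ δ₀ yl z x := by
    rw [rootsQ', Finset.sum_erase _ (by rw [isoT, if_pos rfl])]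
  have hcard : ((rootsQ' q).card : ℂ) = (q : ℂ) - 1 := by
    rw [rootsQ', Finset.card_erase_of_mem (one_mem_rootsQ D.pos), card_rootsQ D.pos,
      Nat.cast_sub D.pos, Nat.cast_one]
  rw [h1, Finset.sum_congr rfl fun z hz =>
    show isoT X δ δ₀ yl z x = (δ₀ : ℂ) * (yl z : G → ℂ) x +
      ∑ η ∈ X.toFinset, (δ η : ℂ) * (η : G → ℂ) x by rw [D.yl_eq_T hz, sub_add_cancel],
    Finset.sum_add_distrib, Finset.sum_const, nsmul_eq_mul, hcard, ← Finset.mul_sum, ← D.singSum x hx]
  ring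

open Classical in
theorem IsoData.T_sum_eq {x : G} (hx : ¬ IsPRegular p x) :
    ∑ z ∈ rootsQ' q, (δ₀ : ℂ) * (yl z : G → ℂ) x = ∑ η ∈ X.toFinset, (δ η : ℂ) * (η : G → ℂ) x := by
  rw [← Finset.mul_sum, ← D.singSum x hx]

open Classical in
/-- With inertial index one the signs are opposite. -/
theorem IsoData.sign_of_one (he : e = 1) {χ : IrrCharacter G} (hχ : χ ∈ X) : δ χ = -δ₀ := by
  obtain ⟨z, hz⟩ : (rootsQ' q).Nonempty := by
    rw [← Finset.card_pos, rootsQ', Finset.card_erase_of_mem (one_mem_rootsQ D.pos),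
      card_rootsQ D.pos]
    have := D.one_lt
    omega
  have h0 := D.regular z hz 1 (by simp [IsPRegular, (Fact.out : p.Prime).ne_one])
  haveI hs : Subsingleton X := (Nat.card_eq_one_iff_unique.1 (D.cardX.trans he)).1
  rw [isoT, if_neg (mem_rootsQ'.1 hz).1, Finset.sum_eq_single χ
    (fun ψ hψ hne => absurd (congrArg Subtype.val
      (hs.elim (⟨ψ, Set.mem_toFinset.1 hψ⟩ : X) ⟨χ, hχ⟩)) hne)
    (fun h => absurd (Set.mem_toFinset.2 hχ) h)] at h0
  simp only [apply_one_eq_charDegree] at h0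
  have h1 : (δ₀ : ℤ) * (charDegree (yl z : G → ℂ) : ℤ) + δ χ * (charDegree (χ : G → ℂ) : ℤ) = 0 := by
    exact_mod_cast h0
  have p1 : (0 : ℤ) < charDegree (yl z : G → ℂ) := by exact_mod_cast charDegree_pos _
  have p2 : (0 : ℤ) < charDegree (χ : G → ℂ) := by exact_mod_cast charDegree_pos _
  rcases D.sign₀ with s0 | s0 <;> rcases D.sign χ hχ with s | s <;> rw [s0, s] at h1 ⊢ <;>
    first | rfl | omega

end Data

/-! ## The isometry -/

section Iso

variable {G : Type u} [Group G] [Fintype G] {B : Set (IrrCharacter G)} {q e : ℕ}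
  {X : Set (IrrCharacter G)} {δ : IrrCharacter G → ℤ} {δ₀ : ℤ} {yl : ℂ → IrrCharacter G}
  (D : IsoData hM B q e X δ δ₀ yl)
  {H : Type v} [Group H] [Fintype H] {B' : Set (IrrCharacter H)}
  {X' : Set (IrrCharacter H)} {δ' : IrrCharacter H → ℤ} {δ₀' : ℤ} {yl' : ℂ → IrrCharacter H}
  (D' : IsoData hM B' q e X' δ' δ₀' yl')

include D D'

open Classical in
/-- Two sets of data with the same parameters give a perfect isometry with constant sign on the
exceptional characters. -/
theorem IsoData.exists_isometry :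
    ∃ (I : IrrCharacter H → IrrCharacter G) (ε : IrrCharacter H → ℤ),
      IsPerfectIsometry p M B' B I ε ∧ (∀ η ∈ B', η ∉ X' → ε η = δ₀ * δ₀') ∧
      (e = 1 → ∀ η ∈ B', ε η = δ₀ * δ₀') := by
  obtain ⟨π⟩ : Nonempty (X' ≃ X) := by
    refine ⟨(Fintype.equivOfCardEq ?_)⟩
    rw [← Nat.card_eq_fintype_card, ← Nat.card_eq_fintype_card, D.cardX, D'.cardX]
  choose lab hlab using fun η : IrrCharacter H => (show ∃ z : ℂ, η ∈ B' → η ∉ X' →
      z ∈ rootsQ' q ∧ yl' z = η from
    if h : η ∈ B' ∧ η ∉ X' then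
      ⟨((D'.split η).1 h.1 |>.resolve_left h.2).choose,
        fun _ _ => ((D'.split η).1 h.1 |>.resolve_left h.2).choose_spec⟩
    else ⟨1, fun h1 h2 => absurd ⟨h1, h2⟩ h⟩)
  have hXB : ∀ χ ∈ X, χ ∈ B := fun χ hχ => (D.split χ).2 (Or.inl hχ)
  have hXB' : ∀ η ∈ X', η ∈ B' := fun η hη => (D'.split η).2 (Or.inl hη)
  set I : IrrCharacter H → IrrCharacter G := fun η =>
    if h : η ∈ X' then (π ⟨η, h⟩ : IrrCharacter G) else yl (lab η) with hI
  set ε : IrrCharacter H → ℤ := fun η =>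
    if h : η ∈ X' then δ (π ⟨η, h⟩) * δ' η else δ₀ * δ₀' with hε
  have hIX : ∀ η : X', I η = π η := fun η => by simp [hI, η.2]
  have hεX : ∀ η : X', ε η = δ (π η) * δ' η := fun η => by simp [hε, η.2]
  have hlabyl : ∀ z ∈ rootsQ' q, I (yl' z) = yl z ∧ ε (yl' z) = δ₀ * δ₀' := by
    intro z hz
    have hn := D'.disjoint z hz
    obtain ⟨h1, h2⟩ := hlab (yl' z) ((D'.split _).2 (Or.inr ⟨z, hz, rfl⟩)) hn
    refine ⟨?_, by simp [hε, hn]⟩
    simp only [hI, dif_neg hn]
    exact (D.fiber_iff _ h1 z hz).2 ((D'.fiber_iff _ h1 z hz).1 h2)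
  have hbij : Set.BijOn I B' B := by
    refine ⟨fun η hη => ?_, fun a ha b hb hab => ?_, fun χ hχ => ?_⟩
    · rcases (D'.split η).1 hη with h | ⟨z, hz, rfl⟩
      · rw [show η = ((⟨η, h⟩ : X') : IrrCharacter H) from rfl, hIX]
        exact hXB _ (π _).2
      · rw [(hlabyl z hz).1]
        exact (D.split _).2 (Or.inr ⟨z, hz, rfl⟩)
    · rcases (D'.split a).1 ha with ha' | ⟨z, hz, rfl⟩ <;>
        rcases (D'.split b).1 hb with hb' | ⟨w, hw, rfl⟩
      · have e1 := hIX ⟨a, ha'⟩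
        have e2 := hIX ⟨b, hb'⟩
        exact congrArg Subtype.val (π.injective (Subtype.ext (e1.symm.trans (hab.trans e2))))
      · exfalso
        have e1 := hIX ⟨a, ha'⟩
        have e3 := (π ⟨a, ha'⟩).2
        rw [← e1, hab, (hlabyl w hw).1] at e3
        exact D.disjoint w hw e3
      · exfalso
        have e1 := hIX ⟨b, hb'⟩
        have e3 := (π ⟨b, hb'⟩).2
        rw [← e1, ← hab, (hlabyl z hz).1] at e3
        exact D.disjoint z hz e3
      · rw [(hlabyl z hz).1, (hlabyl w hw).1] at hab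
        exact (D'.fiber_iff z hz w hw).2 ((D.fiber_iff z hz w hw).1 hab)
    · rcases (D.split χ).1 hχ with h | ⟨z, hz, rfl⟩
      · exact ⟨π.symm ⟨χ, h⟩, hXB' _ (π.symm _).2, by rw [hIX, Equiv.apply_symm_apply]⟩
      · exact ⟨yl' z, (D'.split _).2 (Or.inr ⟨z, hz, rfl⟩), (hlabyl z hz).1⟩
  have hsign : ∀ η ∈ B', ε η = 1 ∨ ε η = -1 := by
    intro η hη
    rcases (D'.split η).1 hη with h | ⟨z, hz, rfl⟩
    · rw [show η = ((⟨η, h⟩ : X') : IrrCharacter H) from rfl, hεX]
      rcases D.sign _ (π ⟨η, h⟩).2 with h1 | h1 <;> rcases D'.sign η h with h2 | h2 <;>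
        simp [h1, h2]
    · rw [(hlabyl z hz).2]
      rcases D.sign₀ with h1 | h1 <;> rcases D'.sign₀ with h2 | h2 <;> simp [h1, h2]
  -- the kernel
  set S : G → ℂ := fun x => ∑ χ ∈ X.toFinset, (δ χ : ℂ) * (χ : G → ℂ) x with hS
  set S' : H → ℂ := fun y => ∑ η ∈ X'.toFinset, (δ' η : ℂ) * (η : H → ℂ) y with hS'
  have he0 : (e : ℂ) ≠ 0 := Nat.cast_ne_zero.2 D.e_pos.ne'
  have hq0 : (q : ℂ) ≠ 0 := Nat.cast_ne_zero.2 D.pos.ne'
  have hker : ∀ x y, signedBijectionKernel B' I ε x y =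
      (∑ η : X', ((δ (π η) : ℂ) * (π η : G → ℂ) x) * ((δ' η : ℂ) * (η : H → ℂ) y)) +
      (e : ℂ)⁻¹ * ∑ z ∈ rootsQ' q,
        ((δ₀ : ℂ) * (yl z : G → ℂ) x) * ((δ₀' : ℂ) * (yl' z : H → ℂ) y) := by
    intro x y
    set Y' := (rootsQ' q).image yl' with hY'
    have hBfin : B'.toFinset = X'.toFinset ∪ Y' := by
      ext η
      simp only [Set.mem_toFinset, Finset.mem_union, hY', Finset.mem_image]
      exact D'.split η
    have hdisj : Disjoint X'.toFinset Y' := by
      rw [Finset.disjoint_left]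
      intro η hη hη'
      obtain ⟨z, hz, rfl⟩ := Finset.mem_image.1 hη'
      exact D'.disjoint z hz (Set.mem_toFinset.1 hη)
    rw [signedBijectionKernel, finsum_mem_eq_toFinset_sum, hBfin, Finset.sum_union hdisj]
    congr 1
    · rw [Finset.sum_subtype X'.toFinset (fun η => Set.mem_toFinset)
        (fun η : IrrCharacter H => (ε η : ℂ) * (I η : G → ℂ) x * (η : H → ℂ) y)]
      refine Finset.sum_congr rfl fun η _ => ?_
      rw [hεX, hIX]
      push_cast
      ring
    · have h1 : ∀ η ∈ Y', (ε η : ℂ) * (I η : G → ℂ) x * (η : H → ℂ) y = (e : ℂ)⁻¹ *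
          ∑ z ∈ (rootsQ' q).filter (fun z => yl' z = η),
            ((δ₀ : ℂ) * (yl z : G → ℂ) x) * ((δ₀' : ℂ) * (yl' z : H → ℂ) y) := by
        intro η hη
        obtain ⟨z, hz, rfl⟩ := Finset.mem_image.1 hη
        rw [Finset.sum_congr rfl fun w hw => show
          ((δ₀ : ℂ) * (yl w : G → ℂ) x) * ((δ₀' : ℂ) * (yl' w : H → ℂ) y) =
            ((δ₀ : ℂ) * (yl z : G → ℂ) x) * ((δ₀' : ℂ) * (yl' z : H → ℂ) y) by
          obtain ⟨hw1, hw2⟩ := Finset.mem_filter.1 hw
          rw [hw2, (D.fiber_iff w hw1 z hz).2 ((D'.fiber_iff w hw1 z hz).1 hw2)],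
          Finset.sum_const, D'.fiber_card z hz, nsmul_eq_mul, (hlabyl z hz).1, (hlabyl z hz).2,
          inv_mul_cancel_left₀ he0]
        push_cast
        ring
      rw [Finset.sum_congr rfl h1, ← Finset.mul_sum]
      congr 1
      exact Finset.sum_fiberwise_of_maps_to (fun z hz => Finset.mem_image_of_mem _ hz) _
  have hpiSum : ∀ x, ∑ η : X', (δ (π η) : ℂ) * (π η : G → ℂ) x = S x := fun x => by
    rw [hS]
    simp only
    rw [Finset.sum_subtype X.toFinset (fun χ => Set.mem_toFinset)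
      (fun χ : IrrCharacter G => (δ χ : ℂ) * (χ : G → ℂ) x)]
    exact Fintype.sum_equiv π _ _ fun η => rfl
  have hXsum' : ∀ y, ∑ η : X', (δ' η : ℂ) * (η : H → ℂ) y = S' y := fun y => by
    rw [hS']
    simp only
    rw [Finset.sum_subtype X'.toFinset (fun η => Set.mem_toFinset)
      (fun η : IrrCharacter H => (δ' η : ℂ) * (η : H → ℂ) y)]
  have hvan1 : ∀ x y, ¬ IsPRegular p x → IsPRegular p y → signedBijectionKernel B' I ε x y = 0 := by
    intro x y hx hy
    rw [hker]
    have h1 : ∀ η : X', ((δ (π η) : ℂ) * (π η : G → ℂ) x) = (e : ℂ)⁻¹ * S x := fun η => by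
      rw [hS]
      simp only
      rw [← D.e_mul_avg hx (π η).2, inv_mul_cancel_left₀ he0]
    have h2 : ∀ z ∈ rootsQ' q, (δ₀' : ℂ) * (yl' z : H → ℂ) y = -S' y := fun z hz => by
      rw [D'.yl_eq_T hz, D'.regular z hz y hy, zero_sub]
    simp only [h1]
    rw [← Finset.mul_sum, hXsum', Finset.sum_congr rfl fun z hz => by rw [h2 z hz],
      ← Finset.sum_mul, D.T_sum_eq hx]
    simp only [hS]
    ring
  have hvan2 : ∀ x y, IsPRegular p x → ¬ IsPRegular p y → signedBijectionKernel B' I ε x y = 0 := by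
    intro x y hx hy
    rw [hker]
    have h1 : ∀ η : X', ((δ' η : ℂ) * (η : H → ℂ) y) = (e : ℂ)⁻¹ * S' y := fun η => by
      rw [hS']
      simp only
      rw [← D'.e_mul_avg hy η.2, inv_mul_cancel_left₀ he0]
    have h2 : ∀ z ∈ rootsQ' q, (δ₀ : ℂ) * (yl z : G → ℂ) x = -S x := fun z hz => by
      rw [D.yl_eq_T hz, D.regular z hz x hx, zero_sub]
    simp only [h1]
    rw [← Finset.sum_mul, hpiSum, Finset.sum_congr rfl fun z hz => by rw [h2 z hz],
      ← Finset.mul_sum, D'.T_sum_eq hy]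
    simp only [hS']
    ring
  have hcoef : ∀ η y, (ε η : ℂ) * (η : H → ℂ) y ∈ locRing hM := fun η y =>
    mul_mem (intCast_mem _ _) (charVal_mem_locRing hM η y)
  have hcoef' : ∀ η x, (ε η : ℂ) * (I η : G → ℂ) x ∈ locRing hM := fun η x =>
    mul_mem (intCast_mem _ _) (charVal_mem_locRing hM (I η) x)
  refine ⟨I, ε, ⟨hbij, hsign, fun x y => ?_⟩, fun η _ hη => by simp [hε, hη], fun he η hη => ?_⟩
  swap
  · rcases (D'.split η).1 hη with h | ⟨z, hz, rfl⟩
    · rw [show η = ((⟨η, h⟩ : X') : IrrCharacter H) from rfl, hεX,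
        D.sign_of_one he (π ⟨η, h⟩).2, D'.sign_of_one he h, neg_mul_neg]
    · exact (hlabyl z hz).2
  by_cases hx : IsPRegular p x <;> by_cases hy : IsPRegular p y
  · refine ⟨?_, ?_, Or.inl (iff_of_true hx hy)⟩
    · have h := div_centralizer_of_vanish (hM := hM) B'.toFinset (fun η => (ε η : ℂ) * (η : H → ℂ) y)
        (fun η => (I η : G → ℂ)) (fun η _ => hcoef η y) (fun η _ => (I η).2.isCharacter)
        (fun g hg => ?_) hx
      · refine (mem_locRing hM).1 ?_
        convert h using 2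
        rw [signedBijectionKernel, finsum_mem_eq_toFinset_sum]
        exact Finset.sum_congr rfl fun η _ => by ring
      · rw [← hvan1 g y hg hy, signedBijectionKernel, finsum_mem_eq_toFinset_sum]
        exact Finset.sum_congr rfl fun η _ => by ring
    · have h := div_centralizer_of_vanish (hM := hM) B'.toFinset (fun η => (ε η : ℂ) * (I η : G → ℂ) x)
        (fun η => (η : H → ℂ)) (fun η _ => hcoef' η x) (fun η _ => η.2.isCharacter)
        (fun g hg => ?_) hy
      · refine (mem_locRing hM).1 ?_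
        convert h using 2
        rw [signedBijectionKernel, finsum_mem_eq_toFinset_sum]
      · rw [← hvan2 x g hx hg, signedBijectionKernel, finsum_mem_eq_toFinset_sum]
  · have h0 := hvan2 x y hx hy
    rw [h0, zero_div, zero_div]
    exact ⟨zero_mem (locRing hM), zero_mem (locRing hM), Or.inr rfl⟩
  · have h0 := hvan1 x y hx hy
    rw [h0, zero_div, zero_div]
    exact ⟨zero_mem (locRing hM), zero_mem (locRing hM), Or.inr rfl⟩
  · set T : ℕ → ℂ := fun m => ∑ z ∈ rootsQ q, z ^ m * isoT X δ δ₀ yl z x with hT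
    set T' : ℕ → ℂ := fun m => ∑ z ∈ rootsQ q, z ^ m * isoT X' δ' δ₀' yl' z y with hT'
    set ms := (Finset.range q).erase 0 with hms
    have hpair : ∑ z ∈ rootsQ q, isoT X δ δ₀ yl z x * isoT X' δ' δ₀' yl' z y =
        (q : ℂ)⁻¹ * ∑ m ∈ Finset.range q, T m * T' (q - m) := by
      rw [eq_inv_mul_iff_mul_eq₀ hq0, Finset.mul_sum]
      simp only [hT, hT', Finset.sum_mul_sum]
      rw [Finset.sum_comm (s := Finset.range q)]
      refine Finset.sum_congr rfl fun z hz => ?_
      rw [Finset.sum_comm]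
      rw [Finset.sum_eq_single z (fun w hw hwz => ?_) (fun h => absurd hz h)]
      · rw [Finset.sum_congr rfl fun m _ => show z ^ m * isoT X δ δ₀ yl z x *
            (z ^ (q - m) * isoT X' δ' δ₀' yl' z y) = z ^ m * z ^ (q - m) *
              (isoT X δ δ₀ yl z x * isoT X' δ' δ₀' yl' z y) by ring, ← Finset.sum_mul,
          sum_pow_mul_pow D.pos hz hz, if_pos rfl]
      · rw [Finset.sum_congr rfl fun m _ => show z ^ m * isoT X δ δ₀ yl z x *
            (w ^ (q - m) * isoT X' δ' δ₀' yl' w y) = z ^ m * w ^ (q - m) *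
              (isoT X δ δ₀ yl z x * isoT X' δ' δ₀' yl' w y) by ring, ← Finset.sum_mul,
          sum_pow_mul_pow D.pos hw hz, if_neg (Ne.symm hwz), zero_mul]
    have hμ : signedBijectionKernel B' I ε x y =
        (e : ℂ)⁻¹ * ((q : ℂ)⁻¹ * ∑ m ∈ ms, T m * T' (q - m)) := by
      have h1 : ∀ η : X', ((δ (π η) : ℂ) * (π η : G → ℂ) x) * ((δ' η : ℂ) * (η : H → ℂ) y) =
          (e : ℂ)⁻¹ * S x * ((δ' η : ℂ) * (η : H → ℂ) y) := fun η => by
        simp only [hS]
        rw [← D.e_mul_avg hx (π η).2, inv_mul_cancel_left₀ he0]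
      have h0 : ∀ m, T m = T m := fun _ => rfl
      have hT0 : T 0 = (q : ℂ) * S x := by
        simp only [hT, pow_zero, one_mul]
        exact D.sum_T hx
      have hT'q : T' q = (q : ℂ) * S' y := by
        simp only [hT']
        rw [Finset.sum_congr rfl fun z hz => by rw [(mem_rootsQ D.pos).1 hz, one_mul]]
        exact D'.sum_T hy
      have hsumms : ∑ m ∈ Finset.range q, T m * T' (q - m) =
          T 0 * T' q + ∑ m ∈ ms, T m * T' (q - m) := by
        rw [hms, ← Finset.add_sum_erase _ _ (Finset.mem_range.2 D.pos), Nat.sub_zero]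
      have hz2 : ∑ z ∈ rootsQ' q, ((δ₀ : ℂ) * (yl z : G → ℂ) x) * ((δ₀' : ℂ) * (yl' z : H → ℂ) y) =
          (q : ℂ)⁻¹ * ∑ m ∈ Finset.range q, T m * T' (q - m) - (q : ℂ) * S x * S' y -
            (q : ℂ) * S x * S' y + ((q : ℂ) - 1) * (S x * S' y) := by
        rw [← hpair, Finset.sum_congr rfl fun z hz => show
          ((δ₀ : ℂ) * (yl z : G → ℂ) x) * ((δ₀' : ℂ) * (yl' z : H → ℂ) y) =
            isoT X δ δ₀ yl z x * isoT X' δ' δ₀' yl' z y - isoT X δ δ₀ yl z x * S' y -
              S x * isoT X' δ' δ₀' yl' z y + S x * S' y by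
          rw [D.yl_eq_T hz, D'.yl_eq_T hz]; simp only [hS, hS']; ring]
        have hT1 : ∀ F : ℂ → ℂ, F 1 = 0 → ∑ z ∈ rootsQ' q, F z = ∑ z ∈ rootsQ q, F z := fun F hF =>
          by rw [rootsQ', Finset.sum_erase _ hF]
        rw [Finset.sum_add_distrib, Finset.sum_sub_distrib, Finset.sum_sub_distrib,
          hT1 _ (by simp [isoT]), hT1 _ (by simp [isoT]), hT1 _ (by simp [isoT]), ← Finset.sum_mul,
          ← Finset.mul_sum, D.sum_T hx, D'.sum_T hy, Finset.sum_const, nsmul_eq_mul, rootsQ',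
          Finset.card_erase_of_mem (one_mem_rootsQ D.pos), card_rootsQ D.pos, Nat.cast_sub D.pos,
          Nat.cast_one]
        simp only [hS, hS']
        ring
      rw [hker, Finset.sum_congr rfl fun η _ => h1 η, ← Finset.mul_sum, hXsum', hz2, hsumms, hT0,
        hT'q]
      field_simp
      ring
    have hmq : ∀ m ∈ ms, ¬ q ∣ m ∧ ¬ q ∣ q - m := by
      intro m hm
      obtain ⟨hm0, hmr⟩ := Finset.mem_erase.1 hm
      rw [Finset.mem_range] at hmr
      exact ⟨fun h => hm0 (Nat.eq_zero_of_dvd_of_lt h hmr),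
        fun h => absurd (Nat.eq_zero_of_dvd_of_lt h (by omega)) (by omega)⟩
    have heinv : (e : ℂ)⁻¹ ∈ locRing hM := inv_natCast_mem_locRing hM D.not_dvd
    refine ⟨?_, ?_, Or.inl (iff_of_false hx hy)⟩
    · have e1 : signedBijectionKernel B' I ε x y /
          (Nat.card (Subgroup.centralizer ({x} : Set G)) : ℂ) =
          (e : ℂ)⁻¹ * ∑ m ∈ ms, (T m / (Nat.card (Subgroup.centralizer ({x} : Set G)) : ℂ)) *
            (T' (q - m) / (q : ℂ)) := by
        rw [hμ, Finset.mul_sum, Finset.mul_sum, Finset.mul_sum, Finset.sum_div]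
        exact Finset.sum_congr rfl fun m _ => by ring
      rw [e1]
      exact mul_mem heinv (sum_mem fun m hm =>
        mul_mem (D.four_cen m (hmq m hm).1 x) (D'.four_q _ (hmq m hm).2 y))
    · have e1 : signedBijectionKernel B' I ε x y /
          (Nat.card (Subgroup.centralizer ({y} : Set H)) : ℂ) =
          (e : ℂ)⁻¹ * ∑ m ∈ ms, (T' (q - m) / (Nat.card (Subgroup.centralizer ({y} : Set H)) : ℂ)) *
            (T m / (q : ℂ)) := by
        rw [hμ, Finset.mul_sum, Finset.mul_sum, Finset.mul_sum, Finset.sum_div]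
        exact Finset.sum_congr rfl fun m _ => by ring
      rw [e1]
      exact mul_mem heinv (sum_mem fun m hm =>
        mul_mem (D'.four_cen _ (hmq m hm).2 y) (D.four_q m (hmq m hm).1 x))

end Iso

end Cfsg.Lib.Block
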