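import Cfsg.Agent.Lib.Block.RootVec
import Cfsg.Agent.Lib.Block.CyclicStructure

/-!
# Labels for the exceptional characters of a block with cyclic defect group

The exceptional members are labelled by the nontrivial roots of unity of order dividing the order
of the defect group, two labels giving the same member when they differ by a power map of order
dividing the inertial index.  The Fourier transforms of the labelled vectors are divisible by
centralizer orders and by the order of the defect group.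
-/

set_option autoImplicit false
set_option linter.unusedSectionVars false
set_option maxHeartbeats 1000000

namespace Cfsg.Lib.Block

open Cfsg
open scoped ComplexConjugate

universe u

noncomputable local instance (priority := high) fintypeSubgroupCyclicLabel {A : Type u}
    [Group A] [Fintype A] (H : Subgroup A) : Fintype H := Fintype.ofFinite H

local notation "C[" P "]" => Subgroup.centralizer (SetLike.coe P)

variable {p : ℕ} [Fact p.Prime] {M : Ideal AlgInt} {G : Type u} [Group G] [Fintype G]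

/-- The nontrivial roots of unity. -/
noncomputable def rootsQ' (q : ℕ) : Finset ℂ := by classical exact (rootsQ q).erase 1

theorem mem_rootsQ' {q : ℕ} {z : ℂ} : z ∈ rootsQ' q ↔ z ≠ 1 ∧ z ∈ rootsQ q := by
  classical
  simp [rootsQ']

open Classical in
/-- The vector of a label. -/
noncomputable def isoT (X : Set (IrrCharacter G)) (δ : IrrCharacter G → ℤ) (δ₀ : ℤ)
    (yl : ℂ → IrrCharacter G) (z : ℂ) (x : G) : ℂ :=
  if z = 1 then 0 else
    (δ₀ : ℂ) * (yl z : G → ℂ) x + ∑ χ ∈ X.toFinset, (δ χ : ℂ) * (χ : G → ℂ) x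

open Classical in
/-- What two blocks with cyclic defect groups need in common for a perfect isometry. -/
structure IsoData (hM : IsPModular p M) (B : Set (IrrCharacter G)) (q e : ℕ)
    (X : Set (IrrCharacter G)) (δ : IrrCharacter G → ℤ) (δ₀ : ℤ) (yl : ℂ → IrrCharacter G) :
    Prop where
  block : IsPBlock M B
  pos : 0 < q
  one_lt : 1 < q
  e_pos : 0 < e
  not_dvd : ¬ p ∣ e
  split : ∀ χ, χ ∈ B ↔ χ ∈ X ∨ ∃ z ∈ rootsQ' q, yl z = χ
  disjoint : ∀ z ∈ rootsQ' q, yl z ∉ X
  cardX : Nat.card X = e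
  sign : ∀ χ ∈ X, δ χ = 1 ∨ δ χ = -1
  sign₀ : δ₀ = 1 ∨ δ₀ = -1
  fiber_iff : ∀ z ∈ rootsQ' q, ∀ z' ∈ rootsQ' q,
    (yl z = yl z' ↔ ∃ a : ℕ, a ^ e ≡ 1 [MOD q] ∧ z' = z ^ a)
  fiber_card : ∀ z ∈ rootsQ' q, ((rootsQ' q).filter fun z' => yl z' = yl z).card = e
  regular : ∀ z ∈ rootsQ' q, ∀ x : G, IsPRegular p x → isoT X δ δ₀ yl z x = 0
  singX : ∀ χ ∈ X, ∀ χ' ∈ X, ∀ x : G, ¬ IsPRegular p x →
    (δ χ : ℂ) * (χ : G → ℂ) x = (δ χ' : ℂ) * (χ' : G → ℂ) x
  singSum : ∀ x : G, ¬ IsPRegular p x →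
    ∑ χ ∈ X.toFinset, (δ χ : ℂ) * (χ : G → ℂ) x =
      (δ₀ : ℂ) * ∑ z ∈ rootsQ' q, (yl z : G → ℂ) x
  four_cen : ∀ m : ℕ, ¬ q ∣ m → ∀ x : G,
    (∑ z ∈ rootsQ q, z ^ m * isoT X δ δ₀ yl z x) /
      (Nat.card (Subgroup.centralizer ({x} : Set G)) : ℂ) ∈ locRing hM
  four_q : ∀ m : ℕ, ¬ q ∣ m → ∀ x : G,
    (∑ z ∈ rootsQ q, z ^ m * isoT X δ δ₀ yl z x) / (q : ℂ) ∈ locRing hM

variable (hM : IsPModular p M)

/-! ## Induced functions by classes -/

open Classical in
/-- An induced class function divided by the order of the centralizer, class by class. -/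
theorem indFun_div_centralizer {K : Subgroup G} {Φ : K → ℂ} (hΦ : IsClassFunction K Φ) (x : G) :
    indFun K Φ x / (Nat.card (Subgroup.centralizer ({x} : Set G)) : ℂ) =
      ∑ b ∈ Finset.univ.filter (fun b : K => clsRep b = b ∧ IsConj x (b : G)),
        Φ b / (Nat.card (Subgroup.centralizer ({b} : Set K)) : ℂ) := by
  have hC : ∀ y : G, (Nat.card (Subgroup.centralizer ({y} : Set G)) : ℂ) ≠ 0 := fun y =>
    Nat.cast_ne_zero.2 Nat.card_pos.ne'
  have hK : (Nat.card K : ℂ) ≠ 0 := Nat.cast_ne_zero.2 Nat.card_pos.ne'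
  have h1 : ∑ g : G, extendByZero K Φ (g⁻¹ * x * g) =
      (Nat.card (Subgroup.centralizer ({x} : Set G)) : ℂ) *
        ∑ k : K, if IsConj x (k : G) then Φ k else 0 := by
    rw [← Finset.sum_fiberwise_of_maps_to (s := Finset.univ) (t := Char.classFinset x)
      (g := fun g : G => g⁻¹ * x * g) fun g _ =>
        Char.mem_classFinset.2 (isConj_iff.2 ⟨g⁻¹, by rw [inv_inv]⟩)]
    rw [Finset.mul_sum]
    have hfib : ∀ y ∈ Char.classFinset x, (∑ g ∈ Finset.univ.filter (fun g : G => g⁻¹ * x * g = y),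
        extendByZero K Φ (g⁻¹ * x * g)) =
        (Nat.card (Subgroup.centralizer ({x} : Set G)) : ℂ) * extendByZero K Φ y := by
      intro y hy
      rw [Finset.sum_congr rfl fun g hg => by rw [(Finset.mem_filter.1 hg).2], Finset.sum_const,
        nsmul_eq_mul]
      congr 2
      obtain ⟨g₀, hg₀⟩ := isConj_iff.1 (Char.mem_classFinset.1 hy)
      rw [← Fintype.card_subtype, ← Nat.card_eq_fintype_card]
      refine Nat.card_congr
        { toFun := fun g => ⟨g.1 * g₀, ?_⟩
          invFun := fun c => ⟨(c : G) * g₀⁻¹, ?_⟩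
          left_inv := fun g => Subtype.ext (by simp)
          right_inv := fun c => Subtype.ext (by simp) }
      · have h : (g.1)⁻¹ * x * g.1 = g₀ * x * g₀⁻¹ := g.2.trans hg₀.symm
        rw [Subgroup.mem_centralizer_singleton_iff]
        calc g.1 * g₀ * x = g.1 * (g₀ * x * g₀⁻¹) * g₀ := by group
          _ = g.1 * (g.1⁻¹ * x * g.1) * g₀ := by rw [h]
          _ = x * (g.1 * g₀) := by group
      · have h := Subgroup.mem_centralizer_singleton_iff.1 c.2
        show ((c : G) * g₀⁻¹)⁻¹ * x * ((c : G) * g₀⁻¹) = y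
        rw [← hg₀, mul_inv_rev, inv_inv]
        calc g₀ * (c : G)⁻¹ * x * ((c : G) * g₀⁻¹) = g₀ * ((c : G)⁻¹ * (x * (c : G))) * g₀⁻¹ := by
              group
          _ = g₀ * x * g₀⁻¹ := by rw [← h]; group
    rw [Finset.sum_congr rfl hfib, ← Finset.mul_sum, ← Finset.mul_sum]
    congr 1
    refine Finset.sum_bij_ne_zero (fun y _ hy => (⟨y, by
        by_contra hn
        exact hy (Char.extendByZero_of_notMem K Φ hn)⟩ : K)) (fun y _ _ => Finset.mem_univ _)
      (fun a _ _ b _ _ e => congrArg Subtype.val e) (fun k _ hk => ?_) fun y hy hy0 => ?_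
    · by_cases hc : IsConj x (k : G)
      · rw [if_pos hc] at hk
        exact ⟨(k : G), Char.mem_classFinset.2 hc, by rwa [Char.extendByZero_coe], rfl⟩
      · rw [if_neg hc] at hk; exact absurd rfl hk
    · rw [if_pos (Char.mem_classFinset.1 hy)]
      by_cases hyK : y ∈ K
      · exact (Char.extendByZero_coe K Φ ⟨y, hyK⟩)
      · exact absurd (Char.extendByZero_of_notMem K Φ hyK) hy0
  rw [indFun, h1, div_eq_iff (hC x), mul_comm _ ((Nat.card (Subgroup.centralizer ({x} : Set G)) : ℂ)),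
    ← mul_assoc, mul_comm (Nat.card K : ℂ)⁻¹, mul_assoc]
  congr 1
  have hF : ∀ g c : K, (if IsConj x ((c * g * c⁻¹ : K) : G) then Φ (c * g * c⁻¹) else 0) =
      if IsConj x (g : G) then Φ g else 0 := by
    intro g c
    have hc : IsConj (g : G) ((c * g * c⁻¹ : K) : G) := isConj_iff.2 ⟨(c : G), rfl⟩
    rw [hΦ g c]
    exact if_congr ⟨fun h => h.trans hc.symm, fun h => h.trans hc⟩ rfl rfl
  have hrep : ∀ k : K, (if IsConj x (k : G) then Φ k else 0) =
      ∑ b ∈ Finset.univ.filter (fun b : K => clsRep b = b),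
        (if IsConj b k then (if IsConj x (b : G) then Φ b else 0) else 0) := fun k => by
    convert (sum_rep_clsFn (F := fun k : K => if IsConj x (k : G) then Φ k else 0) hF k).symm using 2
    · ext b; simp
    · congr
  rw [Finset.sum_congr rfl fun k _ => hrep k]
  rw [Finset.sum_comm, Finset.mul_sum, ← Finset.filter_filter, Finset.sum_filter (fun b : K => IsConj x (b : G))]
  refine Finset.sum_congr rfl fun b _ => ?_
  rw [← Finset.sum_filter, Finset.sum_const, nsmul_eq_mul]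
  split_ifs with hb
  · rw [show (Finset.univ.filter fun k : K => IsConj b k) = Char.classFinset b from
      Finset.ext fun k => by rw [Finset.mem_filter, Char.mem_classFinset]; simp,
      Char.card_classFinset, eq_div_iff (Nat.cast_ne_zero.2 Nat.card_pos.ne'),
      ← Subgroup.card_mul_index (Subgroup.centralizer ({b} : Set K)), Nat.cast_mul]
    have hi : ((Subgroup.centralizer ({b} : Set K)).index : ℂ) ≠ 0 :=
      Nat.cast_ne_zero.2 Subgroup.index_ne_zero_of_finite
    have hb' : (Nat.card (Subgroup.centralizer ({b} : Set K)) : ℂ) ≠ 0 :=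
      Nat.cast_ne_zero.2 Nat.card_pos.ne'
    field_simp
  · rw [mul_zero, mul_zero]

/-- Conjugation by an element of the stabilizer keeps the induced difference. -/
theorem indFun_compIrr_conj {K : Subgroup G} {h : G} (hh : ConjMaps h K K) (ψ : IrrCharacter K) :
    indFun K (compIrr (conjIso hh) ψ : K → ℂ) = indFun K (ψ : K → ℂ) := by
  funext g
  simp only [indFun]
  congr 1
  refine Fintype.sum_equiv (Equiv.mulRight h⁻¹) _ _ fun x => ?_
  simp only [Equiv.coe_mulRight, mul_inv_rev, inv_inv]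
  rw [show h * x⁻¹ * g * (x * h⁻¹) = h * (x⁻¹ * g * x) * h⁻¹ by group]
  by_cases hx : x⁻¹ * g * x ∈ K
  · have hx' : h * (x⁻¹ * g * x) * h⁻¹ ∈ K := (hh _).1 hx
    rw [Char.extendByZero_of_mem K _ hx, Char.extendByZero_of_mem K _ hx', compIrr_apply]
    exact congrArg (ψ : K → ℂ) (Subtype.ext rfl)
  · have hx' : h * (x⁻¹ * g * x) * h⁻¹ ∉ K := fun h' => hx ((hh _).2 h')
    rw [Char.extendByZero_of_notMem K _ hx, Char.extendByZero_of_notMem K _ hx']

/-! ## The data of a cyclic block -/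

variable {B : Set (IrrCharacter G)} {P : Subgroup G} {c : Set (IrrCharacter C[P])}
  (hB : IsPBlock M B) (hD : IsDefectGroup p M B P) (hcyc : IsCyclic P)
  (hc : IsInducedBlock M C[P] c B) {T : Subgroup G}
  (hT : ∀ g : G, g ∈ T ↔ g ∈ Subgroup.normalizer (P : Set G) ∧ StabilizesBlock C[P] c g)
  (hP : P ≠ ⊥)

include hM hB hD hcyc hc hT hP in
open Classical in
/-- A block with cyclic defect group carries the data. -/
theorem exists_isoData : ∃ (X : Set (IrrCharacter G)) (δ : IrrCharacter G → ℤ) (δ₀ : ℤ)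
    (yl : ℂ → IrrCharacter G),
      IsoData hM B (Nat.card P) ((C[P]).relIndex T) X δ δ₀ yl := by
  obtain ⟨z, f, S, h, ψ₀, ι, hι, τ, X, y, δ, δ₀, L, -, hψ₀, hfix, hcard, V, hy, hBX, hdis, hX, hδ,
    hδ₀, hτ, -, -, hA, hA'⟩ := cyclic_split hM hB hD hcyc hc hT hP
  set e := (C[P]).relIndex T with he
  have hpe : ¬ p ∣ e := inertial_not_dvd hM hB hD hcyc hc hT
  have he0 : 0 < e := Nat.pos_of_ne_zero fun h0 => hpe (h0 ▸ dvd_zero p)
  have hp := (Fact.out : p.Prime)
  obtain ⟨d, hd⟩ : ∃ d, Nat.card P = p ^ (d + 1) := by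
    have h1 := card_defectGroup hM hB hD
    refine ⟨blockDefect p B - 1, ?_⟩
    rw [h1, Nat.sub_add_cancel]
    refine Nat.pos_of_ne_zero fun h0 => ?_
    rw [h0, pow_zero] at h1
    exact hP (Subgroup.eq_bot_of_card_eq P h1)
  set q := Nat.card P with hq
  have hq0 : 0 < q := Nat.card_pos
  have hfin : ∀ w ∈ rootsQ q, IsOfFinOrder w := fun w hw =>
    isOfFinOrder_iff_pow_eq_one.2 ⟨q, hq0, (mem_rootsQ hq0).1 hw⟩
  -- the labelling in the centralizer
  have hPK : P ≤ C[Subgroup.zpowers z] := le_centralizer_of_abelian (comm_of_isCyclic hcyc) (Subgroup.zpowers_le.2 L.memP)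
  have hcardP : Nat.card (P.subgroupOf C[Subgroup.zpowers z]) = q :=
    Nat.card_congr (Subgroup.subgroupOfEquivOfLe hPK).toEquiv
  have hcycK : IsCyclic (P.subgroupOf C[Subgroup.zpowers z]) :=
    isCyclic_of_surjective (Subgroup.subgroupOfEquivOfLe hPK).symm
      (Subgroup.subgroupOfEquivOfLe hPK).symm.surjective
  obtain ⟨c', hc'ind, hc'i⟩ := L.root
  have R := regBlock_of_inertial hM L.sys.induced.1 L.defect hcycK hc'ind hc'i hψ₀
  have hh0 : blockHeight p f (ψ₀ : C[Subgroup.zpowers z] → ℂ) = 0 := by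
    obtain ⟨χ, hχ, hmin⟩ := exists_minVal (p := p) (nonempty_of_isPBlock hM L.sys.induced.1)
    rw [blockHeight_eq_zero_iff hψ₀, ← hmin]
    have h1 := R.apply_one hχ
    rw [apply_one_eq_charDegree, apply_one_eq_charDegree, Nat.cast_inj] at h1
    rw [h1]
  obtain ⟨v, W, hv1⟩ := exists_rootVec hM L.sys.induced.1 L.defect hcycK hc'ind hc'i hψ₀ hh0
  rw [hcardP] at W
  -- the exceptional member of a label
  have hτinj : Function.Injective τ := by
    intro i j hij
    have h1 := V.gram i j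
    rw [← hij, V.gram i i, if_pos rfl] at h1
    by_contra hne
    rw [if_neg hne] at h1
    exact one_ne_zero (add_left_cancel h1)
  haveI : Nonempty ι := by
    refine Fintype.card_pos_iff.1 (Nat.pos_of_ne_zero fun h0 => ?_)
    rw [h0, zero_mul, zero_add, hd] at hcard
    exact (Nat.one_lt_pow (by omega) hp.one_lt).ne hcard
  choose idx hidx using fun ψ : IrrCharacter C[Subgroup.zpowers z] => (show ∃ i, ψ ∈ f → ψ ≠ ψ₀ →
      indFun C[Subgroup.zpowers z] ((ψ : C[Subgroup.zpowers z] → ℂ) - (ψ₀ : C[Subgroup.zpowers z] → ℂ)) = τ i from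
    if hψ : ψ ∈ f ∧ ψ ≠ ψ₀ then ⟨_, fun _ _ => (hA ψ hψ.1 hψ.2).choose_spec⟩
    else ⟨Classical.arbitrary ι, fun h1 h2 => absurd ⟨h1, h2⟩ hψ⟩)
  choose lab hlab using fun w : ℂ => (show ∃ ψ : IrrCharacter C[Subgroup.zpowers z], w ∈ rootsQ q → ψ ∈ f ∧ v ψ = w from
    if hw : w ∈ rootsQ q then ⟨_, fun _ => (W.exists_label hw).choose_spec⟩
    else ⟨ψ₀, fun h1 => absurd h1 hw⟩)
  have hlab1 : lab 1 = ψ₀ :=
    W.inj (hlab 1 (one_mem_rootsQ hq0)).1 hψ₀ (((hlab 1 (one_mem_rootsQ hq0)).2).trans hv1.symm)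
  have hlab' : ∀ w ∈ rootsQ' q, lab w ∈ f ∧ lab w ≠ ψ₀ ∧ v (lab w) = w := by
    intro w hw
    obtain ⟨hw1, hw⟩ := mem_rootsQ'.1 hw
    refine ⟨(hlab w hw).1, fun h0 => hw1 ?_, (hlab w hw).2⟩
    rw [← (hlab w hw).2, h0, hv1]
  set iw : ℂ → ι := fun w => idx (lab w) with hiw
  have hTτ : ∀ w ∈ rootsQ q, ∀ x, isoT X δ δ₀ (fun w => y (iw w)) w x =
      indFun C[Subgroup.zpowers z] ((lab w : C[Subgroup.zpowers z] → ℂ) - (ψ₀ : C[Subgroup.zpowers z] → ℂ)) x := by
    intro w hw x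
    unfold isoT
    split_ifs with h1
    · rw [h1, hlab1, sub_self, Char.indFun_zero, Pi.zero_apply]
    · obtain ⟨hf, hne, -⟩ := hlab' w (mem_rootsQ'.2 ⟨h1, hw⟩)
      rw [hidx _ hf hne, hτ, finsum_mem_eq_toFinset_sum]
  -- the action of the generator on the labels
  have hhm : ConjMaps h C[Subgroup.zpowers z] C[Subgroup.zpowers z] := L.sys.conjMaps_of_normalizer ((L.stab h).1 L.gen_mem).1
  have hsig : ∀ ψ ∈ f, compIrr (conjIso hhm) ψ ∈ f := by
    intro ψ hψ
    have hn : h ∈ Subgroup.normalizer (C[Subgroup.zpowers z] : Set G) := Subgroup.mem_normalizer_iff.2 hhm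
    have hst := (stabilizesBlock_iff hn).1 ((L.stab h).1 L.gen_mem).2
    rw [L.sys.mem_tw_iff, conjSet_congr hhm (conjMaps_normalizer hn) rfl, hst]
    exact hψ
  have hfix' : compIrr (conjIso hhm) ψ₀ = ψ₀ := Subtype.ext (funext fun k => by
    rw [compIrr_apply]
    exact hfix h L.gen_mem k _ rfl)
  obtain ⟨a, ha⟩ : ∃ a : ℕ, ∀ ψ ∈ f, v (compIrr (conjIso hhm) ψ) = v ψ ^ a :=
    RootVec.exists_pow_perm (e := d) (hd ▸ W) (conjIso hhm) hsig hψ₀ hv1 hfix'
  have hiter : ∀ i : ℕ, ∀ hm : ConjMaps (h ^ i) C[Subgroup.zpowers z] C[Subgroup.zpowers z], ∀ ψ ∈ f,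
      compIrr (conjIso hm) ψ ∈ f ∧ v (compIrr (conjIso hm) ψ) = v ψ ^ a ^ i := by
    intro i
    induction i with
    | zero =>
      intro hm ψ hψ
      rw [L.sys.tw_of_mem hm (by rw [pow_zero]; exact (C[Subgroup.zpowers z]).one_mem) ψ]
      exact ⟨hψ, by rw [pow_zero, pow_one]⟩
    | succ i ih =>
      intro hm ψ hψ
      have hi : ConjMaps (h ^ i) C[Subgroup.zpowers z] C[Subgroup.zpowers z] :=
        L.sys.conjMaps_of_normalizer ((L.stab _).1 (S.pow_mem L.gen_mem i)).1
      obtain ⟨h1, h2⟩ := ih hi ψ hψ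
      have hcomp := L.sys.tw_tw hhm hi (b := h ^ i) (a := h) (by rw [← pow_succ]; exact hm) ψ
      rw [L.sys.tw_congr hm (by rw [← pow_succ]; exact hm) (pow_succ h i), ← hcomp]
      exact ⟨hsig _ h1, by rw [ha _ h1, h2, ← pow_mul, pow_succ]⟩
  have hmS : ∀ i : ℕ, h ^ i ∈ Subgroup.normalizer (Subgroup.zpowers z : Set G) := fun i =>
    ((L.stab _).1 (S.pow_mem L.gen_mem i)).1
  have hae : a ^ e ≡ 1 [MOD q] := by
    have hζ := Complex.isPrimitiveRoot_exp q hq0.ne'
    obtain ⟨ψ, hψ, hvψ⟩ := W.exists_label ((mem_rootsQ hq0).2 hζ.pow_eq_one)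
    obtain ⟨-, h2⟩ := hiter e (L.sys.conjMaps_of_normalizer (hmS e)) ψ hψ
    rw [L.sys.tw_of_mem _ L.gen_pow, hvψ] at h2
    rw [Nat.ModEq.comm, hζ.eq_orderOf]
    exact (hfin _ ((mem_rootsQ hq0).2 hζ.pow_eq_one)).pow_eq_pow_iff_modEq.1 ((pow_one _).trans h2)
  have hainj : ∀ i : ℕ, 0 < i → i < e → ∀ w ∈ rootsQ' q, w ^ a ^ i ≠ w := by
    intro i hi0 hie w hw hfixw
    obtain ⟨hf, hne, hvw⟩ := hlab' w hw
    have hout : h ^ i ∉ C[Subgroup.zpowers z] := fun hk => hi0.ne' (L.gen_inj i hie hk)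
    have hcm := L.sys.conjMaps_of_normalizer (hmS i)
    obtain ⟨h1, h2⟩ := hiter i hcm (lab w) hf
    have hfw : compIrr (conjIso hcm) (lab w) = lab w :=
      W.inj h1 hf (by rw [h2, hvw, hfixw])
    obtain ⟨h3, h4⟩ := hiter i hcm ψ₀ hψ₀
    have hf0 : compIrr (conjIso hcm) ψ₀ = ψ₀ := W.inj h3 hψ₀ (by rw [h4, hv1, one_pow])
    have hone := L.sys.card_fixed hM (hmS i) hout fun ψ hψ => (hiter i hcm ψ hψ).1
    exact hne (Finset.card_le_one.1 hone.le _ (Finset.mem_filter.2 ⟨Set.mem_toFinset.2 hf, hfw⟩)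
      _ (Finset.mem_filter.2 ⟨Set.mem_toFinset.2 hψ₀, hf0⟩))
  have haU : ∀ i : ℕ, ∀ w ∈ rootsQ' q, w ^ a ^ i ∈ rootsQ' q := by
    intro i w hw
    obtain ⟨hf, hne, hvw⟩ := hlab' w hw
    obtain ⟨h1, h2⟩ := hiter i (L.sys.conjMaps_of_normalizer (hmS i)) (lab w) hf
    refine mem_rootsQ'.2 ⟨fun h0 => ?_, by rw [← hvw, ← h2]; exact W.maps _ h1⟩
    obtain ⟨h3, h4⟩ := hiter i (L.sys.conjMaps_of_normalizer (hmS i)) ψ₀ hψ₀
    have : compIrr (conjIso (L.sys.conjMaps_of_normalizer (hmS i))) (lab w) =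
        compIrr (conjIso (L.sys.conjMaps_of_normalizer (hmS i))) ψ₀ :=
      W.inj h1 h3 (by rw [h2, h4, hvw, hv1, one_pow, h0])
    refine hne ?_
    have h5 := congrArg (compIrr (conjIso (L.sys.conjMaps_of_normalizer (hmS i))).symm) this
    rwa [compIrr_symm_compIrr, compIrr_symm_compIrr] at h5
  have hiw_act : ∀ i : ℕ, ∀ w ∈ rootsQ' q, iw (w ^ a ^ i) = iw w := by
    intro i w hw
    obtain ⟨hf, hne, hvw⟩ := hlab' w hw
    obtain ⟨hf', hne', hvw'⟩ := hlab' _ (haU i w hw)
    have hcm := L.sys.conjMaps_of_normalizer (hmS i)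
    obtain ⟨h1, h2⟩ := hiter i hcm (lab w) hf
    have hl : lab (w ^ a ^ i) = compIrr (conjIso hcm) (lab w) :=
      W.inj hf' h1 (by rw [hvw', h2, hvw])
    have hf0 : compIrr (conjIso hcm) ψ₀ = ψ₀ := Subtype.ext (funext fun k => by
      rw [compIrr_apply]
      exact hfix (h ^ i) (S.pow_mem L.gen_mem i) k _ rfl)
    refine hτinj ?_
    simp only [hiw]
    rw [← hidx _ hf hne, ← hidx _ hf' hne', hl, Char.indFun_sub, Char.indFun_sub,
      indFun_compIrr_conj]
  -- fibres
  have hdiff : ∀ i j : ℕ, i ≤ j → j < e → ∀ w ∈ rootsQ' q, w ^ a ^ i = w ^ a ^ j → i = j := by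
    intro i j hij hje w hw heq
    by_contra hne
    have h1 := congrArg (fun x : ℂ => x ^ a ^ (e - j)) heq
    simp only [← pow_mul, ← pow_add, Nat.add_sub_cancel' hje.le] at h1
    have hwe : w ^ a ^ e = w := by
      conv_rhs => rw [← pow_one w]
      rw [(hfin w (mem_rootsQ'.1 hw).2).pow_eq_pow_iff_modEq]
      exact hae.of_dvd (orderOf_dvd_of_pow_eq_one ((mem_rootsQ hq0).1 (mem_rootsQ'.1 hw).2))
    rw [hwe] at h1
    exact hainj (i + (e - j)) (by omega) (by omega) w hw h1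
  set orb : ℂ → Finset ℂ := fun w => (Finset.range e).image fun i => w ^ a ^ i with horb
  have horbcard : ∀ w ∈ rootsQ' q, (orb w).card = e := by
    intro w hw
    rw [horb]
    rw [Finset.card_image_of_injOn fun i hi j hj heq => ?_, Finset.card_range]
    rcases le_total i j with hle | hle
    · exact hdiff i j hle (Finset.mem_range.1 hj) w hw heq
    · exact (hdiff j i hle (Finset.mem_range.1 hi) w hw heq.symm).symm
  have horbsub : ∀ w ∈ rootsQ' q, orb w ⊆ (rootsQ' q).filter fun w' => iw w' = iw w := by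
    intro w hw w' hw'
    obtain ⟨i, -, rfl⟩ := Finset.mem_image.1 hw'
    exact Finset.mem_filter.2 ⟨haU i w hw, hiw_act i w hw⟩
  have hsurj : ∀ i : ι, ∃ w ∈ rootsQ' q, iw w = i := by
    intro i
    obtain ⟨ψ, hψ, hne, hi⟩ := hA' i
    have hmem : v ψ ∈ rootsQ' q := mem_rootsQ'.2
      ⟨fun h1 => hne (W.inj hψ hψ₀ (h1.trans hv1.symm)), W.maps ψ hψ⟩
    refine ⟨v ψ, hmem, hτinj ?_⟩
    obtain ⟨hf, hne', hvw⟩ := hlab' _ hmem
    simp only [hiw]
    rw [← hidx _ hf hne', show lab (v ψ) = ψ from W.inj hf hψ hvw, hi]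
  have hfib : ∀ w ∈ rootsQ' q, (rootsQ' q).filter (fun w' => iw w' = iw w) = orb w := by
    have htot : ∑ i : ι, ((rootsQ' q).filter fun w' => iw w' = i).card = ∑ _i : ι, e := by
      rw [← Finset.card_eq_sum_card_fiberwise (f := iw) (t := Finset.univ) fun w _ => Finset.mem_univ _,
        Finset.sum_const, Finset.card_univ, smul_eq_mul, rootsQ', Finset.card_erase_of_mem
        (one_mem_rootsQ hq0), card_rootsQ hq0]
      omega
    have hge : ∀ i ∈ (Finset.univ : Finset ι), e ≤ ((rootsQ' q).filter fun w' => iw w' = i).card := by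
      intro i _
      obtain ⟨w, hw, rfl⟩ := hsurj i
      exact (horbcard w hw).ge.trans (Finset.card_le_card (horbsub w hw))
    have heq := (Finset.sum_eq_sum_iff_of_le hge).1 htot.symm
    intro w hw
    exact (Finset.eq_of_subset_of_card_le (horbsub w hw)
      (by rw [horbcard w hw, ← heq (iw w) (Finset.mem_univ _)])).symm
  -- exponents of order dividing `e`
  have hroots : ∀ b : ℕ, b ^ e ≡ 1 [MOD q] → ∃ i < e, b ≡ a ^ i [MOD q] := by
    intro b hb
    obtain ⟨w₁, hw₁, hw₁p⟩ : ∃ w₁ ∈ rootsQ' q, orderOf w₁ = p := by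
      have hζ : IsPrimitiveRoot (Complex.exp (2 * Real.pi * Complex.I / (p : ℕ))) p :=
        Complex.isPrimitiveRoot_exp p hp.ne_zero
      refine ⟨_, mem_rootsQ'.2 ⟨hζ.ne_one hp.one_lt, ?_⟩, hζ.eq_orderOf.symm⟩
      rw [mem_rootsQ hq0, hd, pow_succ', pow_mul, hζ.pow_eq_one, one_pow]
    have hmodp : ∀ x : ℕ, x ^ e ≡ 1 [MOD q] → ((x : ZMod p) ^ e = 1) := fun x hx => by
      have := hx.of_dvd (show p ∣ q by rw [hd]; exact dvd_pow_self p (by omega))
      rw [← Nat.cast_pow, ← Nat.cast_one (R := ZMod p), ZMod.natCast_eq_natCast_iff]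
      exact this
    have hai : ∀ i, (a ^ i) ^ e ≡ 1 [MOD q] := fun i => by
      rw [← pow_mul, mul_comm, pow_mul]
      simpa using hae.pow i
    set Rts : Finset (ZMod p) := (Finset.range e).image fun i => ((a ^ i : ℕ) : ZMod p) with hRts
    have hcardR : Rts.card = e := by
      rw [hRts, Finset.card_image_of_injOn fun i hi j hj heq => ?_, Finset.card_range]
      have hpe' : w₁ ^ a ^ i = w₁ ^ a ^ j := by
        rw [(hfin w₁ (mem_rootsQ'.1 hw₁).2).pow_eq_pow_iff_modEq, hw₁p]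
        exact (ZMod.natCast_eq_natCast_iff _ _ _).1 heq
      rcases le_total i j with hle | hle
      · exact hdiff i j hle (Finset.mem_range.1 hj) w₁ hw₁ hpe'
      · exact (hdiff j i hle (Finset.mem_range.1 hi) w₁ hw₁ hpe'.symm).symm
    have hbR : (b : ZMod p) ∈ Rts := by
      by_contra hn
      have hsub : insert (b : ZMod p) Rts ⊆ (Polynomial.nthRoots e (1 : ZMod p)).toFinset := by
        intro x hx
        rw [Multiset.mem_toFinset, Polynomial.mem_nthRoots he0]
        rcases Finset.mem_insert.1 hx with rfl | hx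
        · exact hmodp b hb
        · obtain ⟨i, -, rfl⟩ := Finset.mem_image.1 hx
          exact hmodp _ (hai i)
      have h1 := Finset.card_le_card hsub
      rw [Finset.card_insert_of_notMem hn, hcardR] at h1
      have h2 := (Multiset.toFinset_card_le _).trans (Polynomial.card_nthRoots e (1 : ZMod p))
      omega
    obtain ⟨i, hi, hib⟩ := Finset.mem_image.1 hbR
    refine ⟨i, Finset.mem_range.1 hi, ?_⟩
    -- lift the congruence
    set j := e - i with hj
    have hij : i + j = e := Nat.add_sub_cancel' (Finset.mem_range.1 hi).le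
    set t : ℤ := (b : ℤ) * (a : ℤ) ^ j with ht
    have hte : (q : ℤ) ∣ t ^ e - 1 := by
      have h1 := (hb.mul ((hai j))).symm
      rw [← mul_pow] at h1
      have h2 := Nat.modEq_iff_dvd.1 h1
      rw [ht]
      push_cast at h2 ⊢
      simpa using h2
    have hq' : (q : ℤ) ∣ t - 1 := by
      have htp : (p : ℤ) ∣ t - 1 := by
        rw [← ZMod.intCast_zmod_eq_zero_iff_dvd, Int.cast_sub, ht]
        push_cast
        rw [← hib, Nat.cast_pow, ← pow_add, hij, ← Nat.cast_pow,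
          show ((a ^ e : ℕ) : ZMod p) = ((a : ZMod p)) ^ e by push_cast; rfl, hmodp a hae, sub_self]
      rw [← geom_sum_mul t e] at hte
      refine IsCoprime.dvd_of_dvd_mul_left ?_ hte
      rw [hd]
      push_cast
      refine IsCoprime.pow_left ((Nat.prime_iff_prime_int.1 hp).coprime_iff_not_dvd.2 fun hdv => ?_)
      refine hpe ((ZMod.natCast_eq_zero_iff _ _).1 ?_)
      have h3 : ((t : ℤ) : ZMod p) = 1 := by
        have := (ZMod.intCast_zmod_eq_zero_iff_dvd _ _).2 htp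
        rwa [Int.cast_sub, Int.cast_one, sub_eq_zero] at this
      have h4 := (ZMod.intCast_zmod_eq_zero_iff_dvd _ _).2 hdv
      rw [Int.cast_sum] at h4
      simp only [Int.cast_pow, h3, one_pow, Finset.sum_const, Finset.card_range, nsmul_eq_mul,
        mul_one] at h4
      exact h4
    rw [Nat.modEq_iff_dvd]
    have h5 : (a : ℤ) ^ i - (b : ℤ) = (b : ℤ) * ((a : ℤ) ^ e - 1) - (a : ℤ) ^ i * (t - 1) := by
      rw [ht, ← hij, pow_add]; ring
    push_cast
    rw [h5]
    refine dvd_sub (dvd_mul_of_dvd_right ?_ _) (dvd_mul_of_dvd_right hq' _)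
    have h6 := Nat.modEq_iff_dvd.1 hae.symm
    push_cast at h6
    exact h6
  -- orthogonal combinations
  have hyB : ∀ i, y i ∈ B := fun i => hBX ▸ Or.inr ⟨i, rfl⟩
  have hXB : ∀ χ ∈ X, χ ∈ B := fun χ hχ => hBX ▸ Or.inl hχ
  have hBfin : B.toFinset = X.toFinset ∪ Finset.univ.image y := by
    ext χ; simp [hBX]
  have hdisj : Disjoint X.toFinset (Finset.univ.image y) := by
    rw [Finset.disjoint_left]
    intro χ hχ hχ'
    obtain ⟨i, -, rfl⟩ := Finset.mem_image.1 hχ'
    exact Set.disjoint_left.1 hdis (Set.mem_toFinset.1 hχ) ⟨i, rfl⟩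
  have hsplitB : ∀ F : IrrCharacter G → ℂ,
      ∑ χ ∈ B.toFinset, F χ = ∑ χ ∈ X.toFinset, F χ + ∑ i, F (y i) := fun F => by
    rw [hBfin, Finset.sum_union hdisj, Finset.sum_image fun i _ j _ hij => hy hij]
  have horth : ∀ cc : IrrCharacter G → ℂ,
      (∀ i, ∑ χ ∈ X.toFinset, cc χ * (δ χ : ℂ) + cc (y i) * (δ₀ : ℂ) = 0) → ∀ x : G, ¬ IsPRegular p x →
      ∑ χ ∈ X.toFinset, cc χ * (χ : G → ℂ) x + ∑ i, cc (y i) * (y i : G → ℂ) x = 0 := by
    intro cc hcc x hx
    have h := V.complete cc (fun i => ?_) x hx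
    · rwa [finsum_mem_eq_toFinset_sum, hsplitB] at h
    · simp only [finsum_mem_eq_toFinset_sum]
      rw [show (fun g => ∑ χ ∈ B.toFinset, cc χ * (χ : G → ℂ) g) =
        ∑ χ ∈ B.toFinset, cc χ • (χ : G → ℂ) from funext fun g => by simp [Finset.sum_apply],
        Char.classInner_sum_left]
      simp only [Char.classInner_smul_left]
      rw [hsplitB]
      obtain ⟨hl, hr⟩ := split_inner_left hy hdis hτ i
      rw [Finset.sum_congr rfl fun χ hχ => by rw [hl χ (Set.mem_toFinset.1 hχ)],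
        Finset.sum_eq_single i (fun j _ hj => by rw [hr j, if_neg (Ne.symm hj), mul_zero]) (by simp),
        hr i, if_pos rfl]
      exact hcc i
  have hδ₀2 : (δ₀ : ℂ) * δ₀ = 1 := by rcases hδ₀ with h | h <;> simp [h]
  have hδ2 : ∀ χ ∈ X, (δ χ : ℂ) * δ χ = 1 := fun χ hχ => by rcases hδ χ hχ with h | h <;> simp [h]
  have hXcard : X.toFinset.card = e := by
    rw [Set.toFinset_card, ← Nat.card_eq_fintype_card, hX]
  have hfour : ∀ m : ℕ, ¬ q ∣ m → ∀ x : G,
      ∑ w ∈ rootsQ q, w ^ m * isoT X δ δ₀ (fun w => y (iw w)) w x =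
        indFun C[Subgroup.zpowers z] (fun k => ∑ ψ ∈ f.toFinset, v ψ ^ m * (ψ : C[Subgroup.zpowers z] → ℂ) k) x := by
    intro m hm x
    have hsum0 : ∑ w ∈ rootsQ q, w ^ m = 0 := by
      have hζ := Complex.isPrimitiveRoot_exp q hq0.ne'
      set ζ := Complex.exp (2 * Real.pi * Complex.I / (q : ℕ))
      have hζm : ζ ^ m ≠ 1 := fun h1 => hm ((hζ.pow_eq_one_iff_dvd m).1 h1)
      have hzU : ∀ w ∈ rootsQ q, ζ * w ∈ rootsQ q := fun w hw => by
        rw [mem_rootsQ hq0, mul_pow, hζ.pow_eq_one, (mem_rootsQ hq0).1 hw, one_mul]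
      have himg : (rootsQ q).image (ζ * ·) = rootsQ q := Finset.eq_of_subset_of_card_le
        (fun w hw => by obtain ⟨w', hw', rfl⟩ := Finset.mem_image.1 hw; exact hzU w' hw')
        (Finset.card_image_of_injective _ (mul_right_injective₀ (hζ.ne_zero hq0.ne'))).ge
      have h1 : ∑ w ∈ rootsQ q, w ^ m = ζ ^ m * ∑ w ∈ rootsQ q, w ^ m := by
        conv_lhs => rw [← himg, Finset.sum_image fun a _ b _ h => mul_left_cancel₀ (hζ.ne_zero hq0.ne') h]
        rw [Finset.mul_sum]
        exact Finset.sum_congr rfl fun w _ => mul_pow _ _ _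
      have h2 : (ζ ^ m - 1) * ∑ w ∈ rootsQ q, w ^ m = 0 := by linear_combination -h1
      exact (mul_eq_zero.1 h2).resolve_left (sub_ne_zero.2 hζm)
    rw [Finset.sum_congr rfl fun w hw => show w ^ m * isoT X δ δ₀ (fun w => y (iw w)) w x =
        w ^ m * indFun C[Subgroup.zpowers z] (lab w : C[Subgroup.zpowers z] → ℂ) x - w ^ m * indFun C[Subgroup.zpowers z] (ψ₀ : C[Subgroup.zpowers z] → ℂ) x by
      rw [hTτ w hw, Char.indFun_sub, Pi.sub_apply, mul_sub], Finset.sum_sub_distrib, ← Finset.sum_mul,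
      hsum0, zero_mul, sub_zero, ← W.sum_eq fun w => w ^ m * indFun C[Subgroup.zpowers z] (lab w : C[Subgroup.zpowers z] → ℂ) x,
      show (fun k => ∑ ψ ∈ f.toFinset, v ψ ^ m * (ψ : C[Subgroup.zpowers z] → ℂ) k) =
        ∑ ψ ∈ f.toFinset, v ψ ^ m • (ψ : C[Subgroup.zpowers z] → ℂ) from funext fun k => by simp [Finset.sum_apply],
      Char.indFun_sum, Finset.sum_apply]
    refine Finset.sum_congr rfl fun ψ hψ => ?_
    have hψ' := Set.mem_toFinset.1 hψ
    rw [Char.indFun_smul, Pi.smul_apply, smul_eq_mul,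
      show lab (v ψ) = ψ from W.inj (hlab _ (W.maps ψ hψ')).1 hψ' (hlab _ (W.maps ψ hψ')).2]
  have hΦ : ∀ m : ℕ, IsClassFunction C[Subgroup.zpowers z] (fun k => ∑ ψ ∈ f.toFinset, v ψ ^ m * (ψ : C[Subgroup.zpowers z] → ℂ) k) :=
    fun m g x => Finset.sum_congr rfl fun ψ _ => by rw [ψ.2.isClassFunction g x]
  refine ⟨X, δ, δ₀, fun w => y (iw w),
    { block := hB, pos := hq0, one_lt := by rw [hd]; exact Nat.one_lt_pow (by omega) hp.one_lt, e_pos := he0, not_dvd := hpe, split := fun χ => ?_,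
      disjoint := fun w _ => fun h' => Set.disjoint_left.1 hdis h' ⟨_, rfl⟩,
      cardX := hX, sign := hδ, sign₀ := hδ₀, fiber_iff := fun w hw w' hw' => ?_,
      fiber_card := fun w hw => ?_, regular := fun w hw x hx => ?_,
      singX := fun χ hχ χ' hχ' x hx => ?_, singSum := fun x hx => ?_,
      four_cen := fun m hm x => ?_, four_q := fun m hm x => ?_ }⟩
  · rw [hBX]
    constructor
    · rintro (h' | ⟨i, rfl⟩)
      · exact Or.inl h'
      · obtain ⟨w, hw, rfl⟩ := hsurj i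
        exact Or.inr ⟨w, hw, rfl⟩
    · rintro (h' | ⟨w, -, rfl⟩)
      · exact Or.inl h'
      · exact Or.inr ⟨_, rfl⟩
  · rw [hy.eq_iff]
    constructor
    · intro heq
      have hmem : w' ∈ orb w := by
        rw [← hfib w hw]
        exact Finset.mem_filter.2 ⟨hw', heq.symm⟩
      obtain ⟨i, -, rfl⟩ := Finset.mem_image.1 hmem
      refine ⟨a ^ i, ?_, rfl⟩
      rw [← pow_mul, mul_comm, pow_mul]
      simpa using hae.pow i
    · rintro ⟨b, hb, rfl⟩
      obtain ⟨i, -, hib⟩ := hroots b hb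
      rw [show w ^ b = w ^ a ^ i from (hfin w (mem_rootsQ'.1 hw).2).pow_eq_pow_iff_modEq.2 (hib.of_dvd
        (orderOf_dvd_of_pow_eq_one ((mem_rootsQ hq0).1 (mem_rootsQ'.1 hw).2))), hiw_act i w hw]
  · rw [show ((rootsQ' q).filter fun w' => y (iw w') = y (iw w)) =
      (rootsQ' q).filter fun w' => iw w' = iw w from Finset.filter_congr fun w' _ => hy.eq_iff,
      hfib w hw, horbcard w hw]
  · obtain ⟨hf, hne, -⟩ := hlab' w hw
    rw [hTτ w (mem_rootsQ'.1 hw).2, hidx _ hf hne]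
    exact V.regular _ x hx
  · have h := horth (fun η => (if η = χ then (δ χ : ℂ) else 0) - if η = χ' then (δ χ' : ℂ) else 0)
      (fun i => ?_) x hx
    · rw [Finset.sum_eq_zero (s := (Finset.univ : Finset ι)) fun i _ => by
        rw [if_neg fun e' : y i = χ => Set.disjoint_left.1 hdis hχ ⟨i, e'⟩,
          if_neg fun e' : y i = χ' => Set.disjoint_left.1 hdis hχ' ⟨i, e'⟩, sub_self, zero_mul],
        add_zero] at h
      simp only [sub_mul, ite_mul, zero_mul, Finset.sum_sub_distrib, Finset.sum_ite_eq',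
        Set.mem_toFinset, hχ, hχ', if_true] at h
      exact sub_eq_zero.1 h
    · simp only [sub_mul, ite_mul, zero_mul, Finset.sum_sub_distrib, Finset.sum_ite_eq',
        Set.mem_toFinset, hχ, hχ', if_true, hδ2 χ hχ, hδ2 χ' hχ', sub_self,
        if_neg (fun e' : y i = χ => Set.disjoint_left.1 hdis hχ ⟨i, e'⟩),
        if_neg (fun e' : y i = χ' => Set.disjoint_left.1 hdis hχ' ⟨i, e'⟩), add_zero]
  · have h := horth (fun η => if η ∈ X then (δ η : ℂ) else -((e : ℂ) * δ₀)) (fun i => ?_) x hx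
    · rw [Finset.sum_congr rfl fun χ hχ => by rw [if_pos (Set.mem_toFinset.1 hχ)],
        Finset.sum_congr (s₁ := (Finset.univ : Finset ι)) rfl fun i _ => by
          rw [if_neg fun e' : y i ∈ X => Set.disjoint_left.1 hdis e' ⟨i, rfl⟩],
        ← Finset.mul_sum, neg_mul, add_neg_eq_zero] at h
      rw [h, mul_comm (e : ℂ), mul_assoc]
      congr 1
      rw [← Finset.sum_fiberwise_of_maps_to (s := rootsQ' q) (t := Finset.univ) (g := iw)
        fun w _ => Finset.mem_univ _, Finset.mul_sum]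
      refine Finset.sum_congr rfl fun i _ => ?_
      obtain ⟨w, hw, rfl⟩ := hsurj i
      rw [hfib w hw, Finset.sum_congr rfl fun w' hw' => show (y (iw w') : G → ℂ) x =
          (y (iw w) : G → ℂ) x by
        rw [(Finset.mem_filter.1 (horbsub w hw hw')).2], Finset.sum_const, horbcard w hw,
        nsmul_eq_mul]
    · rw [Finset.sum_congr rfl fun χ hχ => by
          rw [if_pos (Set.mem_toFinset.1 hχ), hδ2 χ (Set.mem_toFinset.1 hχ)],
        if_neg (fun e' : y i ∈ X => Set.disjoint_left.1 hdis e' ⟨i, rfl⟩), Finset.sum_const, hXcard,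
        nsmul_eq_mul, mul_one, neg_mul, mul_assoc, hδ₀2, mul_one, add_neg_cancel]
  · rw [hfour m hm, indFun_div_centralizer (hΦ m)]
    exact sum_mem fun b _ => W.sum_pow_div_centralizer m b
  · rw [hfour m hm]
    have hcq : indFun C[Subgroup.zpowers z] (fun k => ∑ ψ ∈ f.toFinset, v ψ ^ m * (ψ : C[Subgroup.zpowers z] → ℂ) k) x / (q : ℂ) =
        (Nat.card (Subgroup.centralizer ({x} : Set G)) : ℂ) *
          ∑ b ∈ Finset.univ.filter (fun b : C[Subgroup.zpowers z] => clsRep b = b ∧ IsConj x (b : G)),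
            ((∑ ψ ∈ f.toFinset, v ψ ^ m * (ψ : C[Subgroup.zpowers z] → ℂ) b) / (q : ℂ)) /
              (Nat.card (Subgroup.centralizer ({b} : Set C[Subgroup.zpowers z])) : ℂ) := by
      rw [← div_mul_cancel₀ (indFun C[Subgroup.zpowers z] _ x)
        (Nat.cast_ne_zero.2 (Nat.card_pos (α := Subgroup.centralizer ({x} : Set G))).ne' :
          (Nat.card (Subgroup.centralizer ({x} : Set G)) : ℂ) ≠ 0),
        indFun_div_centralizer (hΦ m), mul_comm, mul_div_assoc, Finset.sum_div]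
      congr 1
      exact Finset.sum_congr rfl fun b _ => div_right_comm _ _ _
    rw [hcq, Finset.mul_sum]
    refine sum_mem fun b hb => ?_
    have hdvd : Nat.card (Subgroup.centralizer ({b} : Set C[Subgroup.zpowers z])) ∣
        Nat.card (Subgroup.centralizer ({x} : Set G)) := by
      obtain ⟨g, hg⟩ := isConj_iff.1 (Finset.mem_filter.1 hb).2.2.symm
      refine Subgroup.card_dvd_of_injective
        { toFun := fun k : Subgroup.centralizer ({b} : Set C[Subgroup.zpowers z]) =>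
            (⟨g * ((k : C[Subgroup.zpowers z]) : G) * g⁻¹, ?_⟩ : Subgroup.centralizer ({x} : Set G))
          map_one' := by simp
          map_mul' := fun k k' => Subtype.ext (by simp [mul_assoc]) } fun k k' hk => ?_
      · rw [Subgroup.mem_centralizer_singleton_iff, ← hg]
        have h1 := congrArg (fun t : C[Subgroup.zpowers z] => (t : G)) (Subgroup.mem_centralizer_singleton_iff.1 k.2)
        simp only [Subgroup.coe_mul] at h1
        calc g * ((k : C[Subgroup.zpowers z]) : G) * g⁻¹ * (g * (b : G) * g⁻¹) = g * (((k : C[Subgroup.zpowers z]) : G) * (b : G)) * g⁻¹ := by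
              group
          _ = g * ((b : G) * ((k : C[Subgroup.zpowers z]) : G)) * g⁻¹ := by rw [h1]
          _ = _ := by group
      · exact Subtype.ext (Subtype.ext (mul_left_cancel (mul_right_cancel (congrArg Subtype.val hk))))
    obtain ⟨n, hn⟩ := hdvd
    have hb0 : (Nat.card (Subgroup.centralizer ({b} : Set C[Subgroup.zpowers z])) : ℂ) ≠ 0 :=
      Nat.cast_ne_zero.2 Nat.card_pos.ne'
    rw [hn, Nat.cast_mul, mul_comm (Nat.card (Subgroup.centralizer ({b} : Set C[Subgroup.zpowers z])) : ℂ),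
      mul_assoc, mul_div_cancel₀ _ hb0]
    exact mul_mem (natCast_mem _ n) (W.sum_pow_div_card m b)

end Cfsg.Lib.Block
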