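import Cfsg.Agent.Lib.Block.DefectLocal
import Cfsg.Agent.Lib.Block.Conj
import Cfsg.Agent.Lib.Block.SubsectionApps
import Cfsg.Agent.Lib.Char.Induced

/-!
# Class functions of a block vanishing at regular elements: the cyclic case

Let `Z` be a subgroup of order `p` met by every nontrivial defect element of a block `B`, and
`f` a block of `K = C(Z)` inducing `B` all of whose members agree at regular elements.  The
differences of the members of `f` induce to generalized characters in `B` vanishing at regular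
elements, with Gram matrix `I + e J`, and they span all such class functions of `B`.
-/

set_option autoImplicit false
set_option linter.unusedSectionVars false
set_option maxHeartbeats 1000000

namespace Cfsg.Lib.Block

open Cfsg
open scoped ComplexConjugate

universe u

noncomputable local instance (priority := high) fintypeSubgroupCyclicLattice {A : Type u}
    [Group A] [Fintype A] (H : Subgroup A) : Fintype H := Fintype.ofFinite H

variable {p : ℕ} [Fact p.Prime] {M : Ideal AlgInt} {G : Type u} [Group G] [Fintype G]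
  (hM : IsPModular p M)

/-! ## Second main theorem for a restricted character -/

open Classical in
include hM in
/-- At an element whose `p`-part has its centralizer inside `K`, the part of a restricted
character at the blocks inducing `B` is the character itself or zero. -/
theorem sum_indSet_apply {K : Subgroup G}
    (hex : ∀ b : Set (IrrCharacter K), IsPBlock M b → ∃ B, IsInducedBlock M K b B)
    {B : Set (IrrCharacter G)} (hB : IsPBlock M B) (χ : IrrCharacter G) {k : K}
    (hk : Subgroup.centralizer ({pPt p (k : G)} : Set G) ≤ K) :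
    ∑ η ∈ (indSet M K B).toFinset,
        classInner (fun h : K => (χ : G → ℂ) h) (η : K → ℂ) * (η : K → ℂ) k =
      if χ ∈ B then (χ : G → ℂ) (k : G) else 0 := by
  set θ : K → ℂ := fun h => (χ : G → ℂ) h with hθ
  have hcf : IsClassFunction K θ := fun a b => χ.2.isClassFunction (a : G) (b : G)
  set T : IrrCharacter K → ℂ := fun η => classInner θ (η : K → ℂ) * (η : K → ℂ) k with hT
  have hbp : ∀ b : Set (IrrCharacter K), blockPart b θ k = ∑ η ∈ b.toFinset, T η := fun b => by
    simp only [blockPart, finsum_mem_eq_toFinset_sum, hT]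
  have hzero : ∀ (b : Set (IrrCharacter K)) (B' : Set (IrrCharacter G)),
      IsInducedBlock M K b B' → χ ∉ B' → ∑ η ∈ b.toFinset, T η = 0 := fun b B' hb hn => by
    rw [← hbp, blockPart_eq_sum b hcf, ← sum_blockCoeff_mul_char_eq_zero hM hb hk hn]
    exact Finset.sum_congr (by ext; simp) fun h _ => by rw [hθ]; simp
  have hfib : ∀ s : Finset (IrrCharacter K), (∀ η ∈ s, ∀ ξ ∈ blockOf M (η : K → ℂ), ξ ∈ s) →
      (∀ η ∈ s, ∃ B', IsInducedBlock M K (blockOf M (η : K → ℂ)) B' ∧ χ ∉ B') →
      ∑ η ∈ s, T η = 0 := by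
    intro s hcl hs
    rw [← Finset.sum_fiberwise_of_maps_to (g := fun η : IrrCharacter K => blockOf M (η : K → ℂ))
      (t := s.image fun η : IrrCharacter K => blockOf M (η : K → ℂ))
      fun η hη => Finset.mem_image_of_mem _ hη]
    refine Finset.sum_eq_zero fun b hb => ?_
    obtain ⟨η, hη, rfl⟩ := Finset.mem_image.1 hb
    obtain ⟨B', hB', hn⟩ := hs η hη
    rw [← hzero _ B' hB' hn]
    refine Finset.sum_congr ?_ fun _ _ => rfl
    ext ξ
    simp only [Finset.mem_filter, Set.mem_toFinset]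
    constructor
    · rintro ⟨-, h⟩
      rw [← h]
      exact self_mem_blockOf hM ξ
    · intro h
      exact ⟨hcl η hη ξ h, (eq_blockOf_of_mem hM (isPBlock_blockOf η) h).symm⟩
  have hS : ∀ η ∈ (indSet M K B).toFinset, ∀ ξ ∈ blockOf M (η : K → ℂ),
      ξ ∈ (indSet M K B).toFinset := fun η hη ξ hξ =>
    Set.mem_toFinset.2 (indSet_closed hM B η (Set.mem_toFinset.1 hη) hξ)
  split_ifs with hχ
  · have hall : ∑ η : IrrCharacter K, T η = (χ : G → ℂ) (k : G) := by
      have := congrFun (Char.eq_sum_classInner hcf) k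
      simp only [Finset.sum_apply, Pi.smul_apply, smul_eq_mul] at this
      exact this.symm
    rw [← hall, ← Finset.sum_compl_add_sum (indSet M K B).toFinset,
      hfib (indSet M K B).toFinsetᶜ ?_ ?_, zero_add]
    · intro η hη ξ hξ
      rw [Finset.mem_compl] at hη ⊢
      intro h
      have e := eq_blockOf_of_mem hM (isPBlock_blockOf η) hξ
      exact hη (hS ξ h η (e ▸ self_mem_blockOf hM η))
    · intro η hη
      obtain ⟨B', hB'⟩ := hex _ (isPBlock_blockOf η)
      refine ⟨B', hB', fun hn => ?_⟩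
      rw [Finset.mem_compl, Set.mem_toFinset] at hη
      exact hη (by
        show IsInducedBlock M K (blockOf M (η : K → ℂ)) B
        rwa [isPBlock_eq_of_mem hM hB hB'.2.1 hχ hn])
  · exact hfib _ hS fun η hη => ⟨B, (Set.mem_toFinset.1 hη : η ∈ indSet M K B), hχ⟩

/-! ## The hypotheses -/

/-- The situation of a block whose defect elements all meet a subgroup `Z` of order `p`, together
with a block `f` of `K = C(Z)` inducing it. -/
structure CycSystem (p : ℕ) [Fact p.Prime] (M : Ideal AlgInt) (B : Set (IrrCharacter G)) (Z K : Subgroup G)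
    (f : Set (IrrCharacter K)) : Prop where
  card_Z : Nat.card Z = p
  K_eq : K = Subgroup.centralizer (Z : Set G)
  induced : IsInducedBlock M K f B
  suppB : ∀ χ ∈ B, ∀ g : G, ¬ IsPRegular p g → (χ : G → ℂ) g ≠ 0 →
    ∃ x : G, Z ≤ Subgroup.zpowers (pPt p (x * g * x⁻¹))
  suppf : ∀ ψ ∈ f, ∀ k : K, ¬ IsPRegular p k → (ψ : K → ℂ) k ≠ 0 →
    Z ≤ Subgroup.zpowers (pPt p (k : G))
  orbit : ∀ η ∈ indSet M K B, ∃ (h : G) (hh : ConjMaps h K K),
    h ∈ Subgroup.normalizer (Z : Set G) ∧ compIrr (conjIso hh) η ∈ f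
  reg : ∀ ψ ∈ f, ∀ ψ' ∈ f, ∀ k : K, IsPRegular p k → (ψ : K → ℂ) k = (ψ' : K → ℂ) k

variable {B : Set (IrrCharacter G)} {Z K : Subgroup G} {f : Set (IrrCharacter K)}

theorem isPRegular_coe_iff {H : Subgroup G} (k : H) : IsPRegular p (k : G) ↔ IsPRegular p k := by
  rw [IsPRegular, IsPRegular, orderOf_submonoid]

theorem eq_of_card_eq_of_le_zpowers {u : G} {Y Y' : Subgroup G} (hY : Y ≤ Subgroup.zpowers u)
    (hY' : Y' ≤ Subgroup.zpowers u) (hc : Nat.card Y = p) (hc' : Nat.card Y' = p) : Y = Y' := by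
  classical
  set W := Subgroup.zpowers u
  set S : Finset W := Finset.univ.filter fun w => w ^ p = 1 with hS
  have hle : S.card ≤ p := IsCyclic.card_pow_eq_one_le (Fact.out : p.Prime).pos
  have hsub : ∀ Y : Subgroup G, Y ≤ W → Nat.card Y = p →
      (Finset.univ.filter fun w : W => (w : G) ∈ Y) = S := by
    intro Y hY hc
    refine Finset.eq_of_subset_of_card_le (fun w hw => ?_) ?_
    · rw [Finset.mem_filter] at hw
      rw [hS, Finset.mem_filter]
      refine ⟨Finset.mem_univ _, Subtype.ext ?_⟩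
      have := congrArg Subtype.val (pow_card_eq_one' (x := (⟨(w : G), hw.2⟩ : Y)))
      rwa [hc] at this
    · refine hle.trans (le_of_eq ?_)
      rw [← Fintype.card_subtype, ← Nat.card_eq_fintype_card, ← hc]
      exact Nat.card_congr ⟨fun y => ⟨⟨y.1, hY y.2⟩, y.2⟩, fun w => ⟨w.1.1, w.2⟩,
        fun _ => rfl, fun _ => rfl⟩
  ext g
  have h := Finset.ext_iff.1 ((hsub Y hY hc).trans (hsub Y' hY' hc').symm)
  constructor
  · intro hg
    simpa using (h ⟨g, hY hg⟩).1 (by simpa using hg)
  · intro hg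
    simpa using (h ⟨g, hY' hg⟩).2 (by simpa using hg)

namespace CycSystem

variable (D : CycSystem p M B Z K f)

include D

theorem isPGroup_Z : IsPGroup p Z := IsPGroup.of_card (n := 1) (by rw [D.card_Z, pow_one])

theorem le_K : Z ≤ K := by
  intro z hz
  rw [D.K_eq]
  refine Subgroup.mem_centralizer_iff.2 fun y hy => ?_
  haveI : Fact p.Prime := inferInstance
  haveI := isCyclic_of_prime_card D.card_Z
  exact congrArg Subtype.val (IsCyclic.commGroup (α := Z) |>.mul_comm ⟨y, hy⟩ ⟨z, hz⟩)

theorem conjMaps_of_normalizer {h : G} (hh : h ∈ Subgroup.normalizer (Z : Set G)) :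
    ConjMaps h K K := by
  have e : Z.map (MulAut.conj h).toMonoidHom = Z := by
    ext g
    constructor
    · rintro ⟨z, hz, rfl⟩
      exact (Subgroup.mem_normalizer_iff.1 hh z).1 hz
    · intro hg
      refine ⟨h⁻¹ * g * h, ?_, by simp [mul_assoc]⟩
      exact (Subgroup.mem_normalizer_iff.1 hh _).2 (by simpa [mul_assoc] using hg)
  have := conjMaps_centralizer e
  rwa [← D.K_eq] at this

theorem K_le_normalizer : K ≤ Subgroup.normalizer (Z : Set G) :=
  D.K_eq ▸ Subgroup.centralizer_le_normalizer _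

theorem centralizer_le {g : G} (hg : Z ≤ Subgroup.zpowers (pPt p g)) :
    Subgroup.centralizer ({pPt p g} : Set G) ≤ K := by
  intro x hx
  rw [D.K_eq]
  refine Subgroup.mem_centralizer_iff.2 fun z hz => ?_
  obtain ⟨n, rfl⟩ := hg hz
  exact ((show Commute (pPt p g) x from Subgroup.mem_centralizer_iff.1 hx _ rfl).zpow_left n).eq

theorem mem_K {g : G} (hg : Z ≤ Subgroup.zpowers (pPt p g)) : g ∈ K := by
  refine D.centralizer_le hg (Subgroup.mem_centralizer_iff.2 fun z hz => ?_)
  rw [Set.mem_singleton_iff] at hz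
  subst hz
  have h := pPt_mul_pReg (p := p) g
  calc pPt p g * g = pPt p g * (pPt p g * pReg p g) := by rw [h]
    _ = pPt p g * pReg p g * pPt p g := by
        rw [mul_assoc (pPt p g), (pPt_commute_pReg g).eq]
    _ = g * pPt p g := by rw [h]

theorem not_regular {g : G} (hg : Z ≤ Subgroup.zpowers (pPt p g)) : ¬ IsPRegular p g := by
  intro h
  rw [show pPt p g = 1 from (pPt_eq_one_iff g).2 h, Subgroup.zpowers_one_eq_bot] at hg
  have := Subgroup.card_le_of_le hg
  rw [D.card_Z, Subgroup.card_bot] at this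
  exact absurd (Fact.out : p.Prime).one_lt (by omega)

/-- Two conjugate sections at `Z` are conjugate under the normalizer of `Z`. -/
theorem mem_normalizer_of_two {g x : G} (hg : Z ≤ Subgroup.zpowers (pPt p g))
    (hx : Z ≤ Subgroup.zpowers (pPt p (x * g * x⁻¹))) : x ∈ Subgroup.normalizer (Z : Set G) := by
  have hxZ : Z.map (MulAut.conj x).toMonoidHom ≤ Subgroup.zpowers (pPt p (x * g * x⁻¹)) := by
    rintro _ ⟨z, hz, rfl⟩
    obtain ⟨n, rfl⟩ := hg hz
    refine ⟨n, ?_⟩
    show pPt p (x * g * x⁻¹) ^ n = (MulAut.conj x).toMonoidHom (pPt p g ^ n)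
    rw [pPt_conj, map_zpow]
    rfl
  have e : Z.map (MulAut.conj x).toMonoidHom = Z :=
    eq_of_card_eq_of_le_zpowers (p := p) hxZ hx
      (by rw [Subgroup.card_map_of_injective (MulAut.conj x).injective, D.card_Z]) D.card_Z
  refine Subgroup.mem_normalizer_iff.2 fun z => ⟨fun hz => ?_, fun hz => ?_⟩
  · rw [← e]; exact ⟨z, hz, rfl⟩
  · rw [← e] at hz
    obtain ⟨w, hw, he⟩ := hz
    have he' : w = z := (MulAut.conj x).injective he
    exact he' ▸ hw

/-- The automorphisms of `Z` commute. -/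
theorem commutator_mem {a b : G} (ha : a ∈ Subgroup.normalizer (Z : Set G))
    (hb : b ∈ Subgroup.normalizer (Z : Set G)) : (b * a)⁻¹ * (a * b) ∈ K := by
  haveI := isCyclic_of_prime_card D.card_Z
  obtain ⟨z0, hz0⟩ := IsCyclic.exists_generator (α := Z)
  have hmap : ∀ {c : G}, c ∈ Subgroup.normalizer (Z : Set G) →
      ∃ n : ℤ, ∀ z ∈ Z, c * z * c⁻¹ = z ^ n := by
    intro c hc
    obtain ⟨n, hn⟩ := hz0 ⟨_, (Subgroup.mem_normalizer_iff.1 hc (z0 : G)).1 z0.2⟩
    refine ⟨n, fun z hz => ?_⟩
    obtain ⟨m, hm⟩ := hz0 ⟨z, hz⟩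
    have hn' : (z0 : G) ^ n = c * z0 * c⁻¹ := congrArg Subtype.val hn
    have hm' : (z0 : G) ^ m = z := congrArg Subtype.val hm
    rw [← hm', ← conj_zpow, ← hn', ← zpow_mul, ← zpow_mul, mul_comm]
  obtain ⟨i, hi⟩ := hmap ha
  obtain ⟨j, hj⟩ := hmap hb
  rw [D.K_eq]
  refine Subgroup.mem_centralizer_iff.2 fun z hz => ?_
  have h1 : a * b * z * (a * b)⁻¹ = z ^ (i * j) := by
    rw [show a * b * z * (a * b)⁻¹ = a * (b * z * b⁻¹) * a⁻¹ by group, hj z hz,
      hi _ (Z.zpow_mem hz j), ← zpow_mul, mul_comm]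
  have h2 : b * a * z * (b * a)⁻¹ = z ^ (i * j) := by
    rw [show b * a * z * (b * a)⁻¹ = b * (a * z * a⁻¹) * b⁻¹ by group, hi z hz,
      hj _ (Z.zpow_mem hz i), ← zpow_mul]
  calc z * ((b * a)⁻¹ * (a * b)) = (b * a)⁻¹ * (b * a * z * (b * a)⁻¹) * (a * b) := by group
    _ = (b * a)⁻¹ * (a * b * z * (a * b)⁻¹) * (a * b) := by rw [h1, h2]
    _ = _ := by group

include hM in
theorem exists_induced {b : Set (IrrCharacter K)} (hb : IsPBlock M b) :
    ∃ B', IsInducedBlock M K b B' :=
  exists_isInducedBlock hM D.isPGroup_Z D.le_K D.K_eq.ge D.K_le_normalizer hb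

include hM in
theorem mem_indSet {ψ : IrrCharacter K} (hψ : ψ ∈ f) : ψ ∈ indSet M K B := by
  show IsInducedBlock M K (blockOf M (ψ : K → ℂ)) B
  rw [← eq_blockOf_of_mem hM D.induced.1 hψ]
  exact D.induced

/-- The common degree on the blocks inducing `B`. -/
theorem degree_eq {η : IrrCharacter K} (hη : η ∈ indSet M K B) {ψ : IrrCharacter K} (hψ : ψ ∈ f) :
    (η : K → ℂ) 1 = (ψ : K → ℂ) 1 := by
  obtain ⟨h, hh, -, hmem⟩ := D.orbit η hη
  have e := D.reg _ hmem _ hψ 1 (by simp [IsPRegular, (Fact.out : p.Prime).ne_one])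
  rwa [compIrr_apply, map_one] at e

open Classical in
include hM in
/-- A class function of `B` with constant coefficients along `f` vanishes at singular elements. -/
theorem vanish_of_const (c : IrrCharacter G → ℂ) {ψ₀ : IrrCharacter K} (hψ₀ : ψ₀ ∈ f)
    (hc : ∀ ψ ∈ f,
      classInner (fun k : K => ∑ χ ∈ B.toFinset, c χ * (χ : G → ℂ) k) (ψ : K → ℂ) =
        classInner (fun k : K => ∑ χ ∈ B.toFinset, c χ * (χ : G → ℂ) k) (ψ₀ : K → ℂ))
    {g : G} (hg : ¬ IsPRegular p g) : ∑ χ ∈ B.toFinset, c χ * (χ : G → ℂ) g = 0 := by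
  set U := indSet M K B with hU
  set F : G → ℂ := fun g => ∑ χ ∈ B.toFinset, c χ * (χ : G → ℂ) g with hFdef
  set FK : K → ℂ := fun k => F k with hFK
  set a₀ := classInner FK (ψ₀ : K → ℂ) with ha₀
  have hFc : ∀ x y : G, F (y * x * y⁻¹) = F x := fun x y =>
    Finset.sum_congr rfl fun χ _ => by rw [χ.2.isClassFunction x y]
  have hconst : ∀ η ∈ U, classInner FK (η : K → ℂ) = a₀ := by
    intro η hη
    obtain ⟨h, hh, -, hmem⟩ := D.orbit η hη
    rw [← hc _ hmem]
    conv_rhs => rw [show FK = fun k => FK (conjIso hh k) from funext fun k => by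
        show F k = F (h * k * h⁻¹)
        rw [hFc]]
    exact (Char.classInner_comp_equiv (conjIso hh) _ _).symm
  have hzeroK : ∀ k : K, Z ≤ Subgroup.zpowers (pPt p (k : G)) → F k = 0 := by
    intro k hk
    have hnr : ¬ IsPRegular p k := fun h => D.not_regular hk ((isPRegular_coe_iff k).2 h)
    have h1 : ∀ χ ∈ B.toFinset, (χ : G → ℂ) (k : G) =
        ∑ η ∈ U.toFinset, classInner (fun h : K => (χ : G → ℂ) h) (η : K → ℂ) * (η : K → ℂ) k :=
      fun χ hχ => by
        rw [hU, sum_indSet_apply hM (fun b hb => D.exists_induced hM hb) D.induced.2.1 χ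
          (D.centralizer_le hk), if_pos (Set.mem_toFinset.1 hχ)]
    have h2 : F k = ∑ η ∈ U.toFinset, classInner FK (η : K → ℂ) * (η : K → ℂ) k := by
      simp only [hFdef, hFK]
      rw [Finset.sum_congr rfl fun χ hχ => by rw [h1 χ hχ]]
      simp only [Finset.mul_sum]
      rw [Finset.sum_comm]
      refine Finset.sum_congr rfl fun η _ => ?_
      rw [show (fun h : K => ∑ χ ∈ B.toFinset, c χ * (χ : G → ℂ) h) =
        ∑ χ ∈ B.toFinset, c χ • fun h : K => (χ : G → ℂ) h from funext fun h => by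
          simp [Finset.sum_apply], Char.classInner_sum_left, Finset.sum_mul]
      refine Finset.sum_congr rfl fun χ _ => ?_
      rw [Char.classInner_smul_left, mul_assoc]
    have h3 : ∑ η ∈ U.toFinset, (η : K → ℂ) k = 0 := by
      have h4 := sum_block_mul_conj_eq_zero hM (vInt_indSet hM (H := K) B)
        (g := k) (h := 1) (fun hcj => by
          rw [show pPt p (1 : K) = 1 from (pPt_eq_one_iff _).2
            (by simp [(Fact.out : p.Prime).ne_one])] at hcj
          exact hnr ((pPt_eq_one_iff k).1 (isConj_one_left.1 hcj)))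
      rw [finsum_mem_eq_toFinset_sum] at h4
      have hd : ∀ η ∈ U.toFinset, conj ((η : K → ℂ) 1) = conj ((ψ₀ : K → ℂ) 1) := fun η hη => by
        rw [D.degree_eq (Set.mem_toFinset.1 hη) hψ₀]
      rw [Finset.sum_congr rfl fun η hη => by rw [hd η hη], ← Finset.sum_mul,
        mul_eq_zero] at h4
      refine h4.resolve_right fun h => ψ₀.2.apply_one_ne_zero ?_
      simpa using congrArg conj h
    rw [h2, Finset.sum_congr rfl fun η hη => by rw [hconst η (Set.mem_toFinset.1 hη)],
      ← Finset.mul_sum, h3, mul_zero]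
  by_contra hne
  obtain ⟨χ, hχ, hχg⟩ := Finset.exists_ne_zero_of_sum_ne_zero hne
  obtain ⟨x, hx⟩ := D.suppB χ (Set.mem_toFinset.1 hχ) g hg (right_ne_zero_of_mul hχg)
  have := hzeroK ⟨_, D.mem_K hx⟩ hx
  rw [hFc] at this
  exact hne this

theorem sub_eq_zero_of_regular {ψ ψ' : IrrCharacter K} (hψ : ψ ∈ f) (hψ' : ψ' ∈ f) {k : K}
    (hk : IsPRegular p k) : ((ψ : K → ℂ) - (ψ' : K → ℂ)) k = 0 := by
  rw [Pi.sub_apply, D.reg ψ hψ ψ' hψ' k hk, sub_self]

theorem section_of_sub_ne_zero {ψ ψ' : IrrCharacter K} (hψ : ψ ∈ f) (hψ' : ψ' ∈ f) {k : K}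
    (hk : ((ψ : K → ℂ) - (ψ' : K → ℂ)) k ≠ 0) : Z ≤ Subgroup.zpowers (pPt p (k : G)) := by
  have hs : ¬ IsPRegular p k := fun h => hk (D.sub_eq_zero_of_regular hψ hψ' h)
  by_cases h : (ψ : K → ℂ) k = 0
  · refine D.suppf ψ' hψ' k hs fun h' => hk ?_
    rw [Pi.sub_apply, h, h', sub_self]
  · exact D.suppf ψ hψ k hs h

theorem indFun_sub_regular {ψ ψ' : IrrCharacter K} (hψ : ψ ∈ f) (hψ' : ψ' ∈ f) {g : G}
    (hg : IsPRegular p g) : indFun K ((ψ : K → ℂ) - (ψ' : K → ℂ)) g = 0 := by
  rw [indFun, Finset.sum_eq_zero fun x _ => ?_, mul_zero]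
  by_cases hx : x⁻¹ * g * x ∈ K
  · rw [Char.extendByZero_of_mem K _ hx]
    refine D.sub_eq_zero_of_regular hψ hψ' ?_
    rw [← isPRegular_coe_iff]
    show IsPRegular p (x⁻¹ * g * x)
    rw [IsPRegular, show x⁻¹ * g * x = MulAut.conj x⁻¹ g by simp [mul_assoc],
      MulEquiv.orderOf_eq]
    exact hg
  · rw [Char.extendByZero_of_notMem K _ hx]

open Classical in
include hM in
theorem classInner_indFun_sub_outside {ψ ψ' : IrrCharacter K} (hψ : ψ ∈ f) (hψ' : ψ' ∈ f)
    {χ : IrrCharacter G} (hχ : χ ∉ B) :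
    classInner (indFun K ((ψ : K → ℂ) - (ψ' : K → ℂ))) (χ : G → ℂ) = 0 := by
  set ξ : K → ℂ := (ψ : K → ℂ) - (ψ' : K → ℂ) with hξ
  set F : K → ℂ := fun k => (χ : G → ℂ) k with hF
  rw [Char.classInner_indFun K _ χ.2.isClassFunction, ← hF]
  set a : IrrCharacter K → ℂ := fun η => classInner F (η : K → ℂ)
  set S : K → ℂ := fun k => ∑ η ∈ (indSet M K B).toFinset, a η * (η : K → ℂ) k with hS
  have h0 : ∀ k : K, ξ k * conj (S k) = 0 := by
    intro k
    by_cases hk : ξ k = 0
    · rw [hk, zero_mul]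
    · have := sum_indSet_apply hM (fun b hb => D.exists_induced hM hb) D.induced.2.1 χ
        (D.centralizer_le (D.section_of_sub_ne_zero hψ hψ' hk))
      rw [if_neg hχ] at this
      simp only [hS, a, hF]
      rw [this, map_zero, mul_zero]
  have h1 : classInner ξ S = 0 := by
    rw [classInner, Finset.sum_eq_zero fun k _ => h0 k, mul_zero]
  have h2 : ∀ η : IrrCharacter K, classInner ξ (η : K → ℂ) =
      (if η = ψ then 1 else 0) - (if η = ψ' then 1 else 0) := by
    intro η
    rw [hξ, Char.classInner_sub_left]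
    congr 1
    · split_ifs with e
      · rw [e]; exact Char.classInner_irr_self ψ.2
      · exact Char.classInner_irr_ne ψ.2 η.2 fun h => e (Subtype.ext h).symm
    · split_ifs with e
      · rw [e]; exact Char.classInner_irr_self ψ'.2
      · exact Char.classInner_irr_ne ψ'.2 η.2 fun h => e (Subtype.ext h).symm
  have h3 : classInner ξ S = conj (a ψ) - conj (a ψ') := by
    have hexp : classInner ξ S =
        ∑ η ∈ (indSet M K B).toFinset, conj (a η) * classInner ξ (η : K → ℂ) := by
      simp only [classInner, hS, map_sum, map_mul, Finset.mul_sum]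
      rw [Finset.sum_comm]
      exact Finset.sum_congr rfl fun η _ => Finset.sum_congr rfl fun k _ => by ring
    rw [hexp]
    simp only [h2, mul_sub, mul_ite, mul_one, mul_zero, Finset.sum_sub_distrib,
      Finset.sum_ite_eq', Set.mem_toFinset, if_pos (D.mem_indSet hM hψ),
      if_pos (D.mem_indSet hM hψ')]
  rw [← h1, h3, hξ, Char.classInner_sub_left]
  simp only [a, Char.classInner_conj_symm]

open Classical in
/-- The inner product of two induced differences is a sum over the normalizer of `Z`. -/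
theorem classInner_indFun_sub {a b a' b' : IrrCharacter K} (ha : a ∈ f) (hb : b ∈ f)
    (ha' : a' ∈ f) (hb' : b' ∈ f) :
    classInner (indFun K ((a : K → ℂ) - (b : K → ℂ))) (indFun K ((a' : K → ℂ) - (b' : K → ℂ))) =
      (Nat.card K : ℂ)⁻¹ * ∑ h : Subgroup.normalizer (Z : Set G),
        classInner ((a : K → ℂ) - (b : K → ℂ))
          ((compIrr (conjIso (D.conjMaps_of_normalizer h.2)) a' : K → ℂ) -
            (compIrr (conjIso (D.conjMaps_of_normalizer h.2)) b' : K → ℂ)) := by
  set N := Subgroup.normalizer (Z : Set G) with hN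
  set ξ : K → ℂ := (a : K → ℂ) - (b : K → ℂ) with hξ
  set ξ' : K → ℂ := (a' : K → ℂ) - (b' : K → ℂ) with hξ'
  rw [Char.classInner_indFun K _ (Char.isClassFunction_indFun K ξ')]
  have hval : ∀ k : K, ξ k * conj (indFun K ξ' (k : G)) = ξ k * conj ((Nat.card K : ℂ)⁻¹ *
      ∑ h : N, ξ' (conjIso (D.conjMaps_of_normalizer h.2) k)) := by
    intro k
    by_cases hk : ξ k = 0
    · rw [hk, zero_mul, zero_mul]
    congr 2
    simp only [indFun]
    congr 1
    have hkZ := D.section_of_sub_ne_zero ha hb hk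
    rw [← Finset.sum_subset (Finset.subset_univ (Finset.univ.filter fun x : G => x⁻¹ ∈ N))
      fun x _ hx => ?_]
    · refine Finset.sum_bij (fun x hx => (⟨x⁻¹, (Finset.mem_filter.1 hx).2⟩ : N))
        (fun _ _ => Finset.mem_univ _) (fun x _ y _ h => inv_injective (congrArg Subtype.val h))
        (fun h _ => ⟨(h : G)⁻¹, by simp, Subtype.ext (inv_inv _)⟩) fun x hx => ?_
      have hmem : x⁻¹ * (k : G) * x ∈ K := by
        have := (D.conjMaps_of_normalizer (Finset.mem_filter.1 hx).2 (k : G)).1 k.2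
        rwa [inv_inv] at this
      rw [Char.extendByZero_of_mem K _ hmem]
      congr 1
      exact Subtype.ext (by simp [conjIso])
    · by_contra hne
      refine hx (Finset.mem_filter.2 ⟨Finset.mem_univ _, ?_⟩)
      by_cases hxK : x⁻¹ * (k : G) * x ∈ K
      · rw [Char.extendByZero_of_mem K _ hxK] at hne
        have h1 := D.section_of_sub_ne_zero ha' hb' hne
        exact D.mem_normalizer_of_two hkZ (by rwa [inv_inv])
      · exact (hne (Char.extendByZero_of_notMem K _ hxK)).elim
  rw [classInner, Finset.sum_congr rfl fun k _ => hval k]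
  simp only [classInner, map_mul, map_inv₀, map_natCast, map_sum, Finset.mul_sum]
  rw [Finset.sum_comm]
  refine Finset.sum_congr rfl fun h _ => Finset.sum_congr rfl fun k _ => ?_
  simp only [hξ, hξ', Pi.sub_apply, compIrr_apply]
  ring

open Classical in
include hM in
/-- An element outside `K` fixes exactly one member of `f` when it stabilizes `f`. -/
theorem card_fixed {h : G} (hh : h ∈ Subgroup.normalizer (Z : Set G)) (hhK : h ∉ K)
    (hst : ∀ ψ ∈ f, compIrr (conjIso (D.conjMaps_of_normalizer hh)) ψ ∈ f) :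
    (f.toFinset.filter fun ψ => compIrr (conjIso (D.conjMaps_of_normalizer hh)) ψ = ψ).card = 1 := by
  set hm := D.conjMaps_of_normalizer hh with hmdef
  obtain ⟨ψ₀, hψ₀⟩ := nonempty_of_isPBlock hM D.induced.1
  have hrank : blockRank p f = 1 := by
    refine le_antisymm ?_ (blockRank_pos hM D.induced.1)
    rw [blockRank]
    refine (Submodule.finrank_mono (Submodule.span_mono (t :=
      {pRegularPart p (ψ₀ : K → ℂ)}) ?_)).trans ((finrank_span_le_card _).trans (by simp))
    rintro _ ⟨ψ, hψ, rfl⟩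
    rw [Set.mem_singleton_iff]
    funext k
    show pRegularPart p (ψ : K → ℂ) k = pRegularPart p (ψ₀ : K → ℂ) k
    by_cases hk : IsPRegular p k
    · rw [pRegularPart_of_reg hk, pRegularPart_of_reg hk, D.reg ψ hψ ψ₀ hψ₀ k hk]
    · rw [pRegularPart_of_sing hk, pRegularPart_of_sing hk]
  apply Nat.cast_injective (R := ℂ)
  rw [Nat.cast_one, ← Nat.cast_one, ← hrank,
    blockRank_eq_sum_regInner hM (vInt_indVec hM D.induced.1)]
  have hl : ((f.toFinset.filter fun ψ => compIrr (conjIso hm) ψ = ψ).card : ℂ) =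
      ∑ ψ ∈ f.toFinset, classInner (compIrr (conjIso hm) ψ : K → ℂ) (ψ : K → ℂ) := by
    rw [Finset.card_filter, Nat.cast_sum]
    refine Finset.sum_congr rfl fun ψ _ => ?_
    split_ifs with e
    · rw [e, Char.classInner_irr_self ψ.2, Nat.cast_one]
    · rw [Char.classInner_irr_ne (compIrr (conjIso hm) ψ).2 ψ.2 fun he => e (Subtype.ext he),
        Nat.cast_zero]
  rw [hl]
  simp only [regInner, classInner, ← Finset.mul_sum]
  rw [Finset.sum_comm, Finset.sum_comm (s := f.toFinset)]
  congr 1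
  refine Finset.sum_congr rfl fun k _ => ?_
  by_cases hk : IsPRegular p k
  · refine Finset.sum_congr rfl fun ψ hψ => ?_
    rw [pRegularPart_of_reg hk, D.reg _ (hst ψ (Set.mem_toFinset.1 hψ)) ψ
      (Set.mem_toFinset.1 hψ) k hk]
  · simp only [pRegularPart_of_sing hk, zero_mul, Finset.sum_const_zero, compIrr_apply]
    by_contra hne
    have hcj : IsConj (pPt p (conjIso hm k)) (pPt p k) := by
      by_contra hnc
      have h0 := sum_block_mul_conj_eq_zero hM (vInt_indVec hM D.induced.1) hnc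
      rw [finsum_mem_eq_toFinset_sum] at h0
      exact hne h0
    obtain ⟨ψ, hψ, hψk⟩ := Finset.exists_ne_zero_of_sum_ne_zero hne
    have hZk := D.suppf ψ (Set.mem_toFinset.1 hψ) k hk fun h0 => hψk (by rw [h0, map_zero, mul_zero])
    obtain ⟨c, hc⟩ := isConj_iff.1 hcj
    have hc' := congrArg Subtype.val hc
    simp only [Subgroup.coe_mul, InvMemClass.coe_inv, coe_pPt] at hc'
    rw [show ((conjIso hm k : K) : G) = h * k * h⁻¹ from rfl, pPt_conj] at hc'
    have hch : (c : G) * h ∈ K := by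
      refine D.centralizer_le hZk (Subgroup.mem_centralizer_iff.2 fun z hz => ?_)
      rw [Set.mem_singleton_iff] at hz
      subst hz
      rw [← eq_mul_inv_iff_mul_eq]
      conv_lhs => rw [← hc']
      group
    exact hhK (by simpa using K.mul_mem (K.inv_mem c.2) hch)

end CycSystem

end Cfsg.Lib.Block
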