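import Cfsg.Agent.Lib.Block.OneClassPairs
import Cfsg.Agent.Lib.Block.DihedralColumns

/-!
# No simple group has one class of `p`-elements and pairwise `p`-solvable generation, `p` odd

The principal block gives the proportion of regular products of two elements of the class as
`1 - T / q`; the degree congruences modulo `q` make `T` too small.
-/

set_option autoImplicit false
set_option linter.unusedSectionVars false
set_option maxHeartbeats 1600000

namespace Cfsg.Lib.Block.OneClass

open Cfsg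
open scoped ComplexConjugate

universe u

/-- The arithmetic of the principal column. -/
theorem column_arith {ι : Type*} [DecidableEq ι] (s : Finset ι) {i₀ : ι} (h0 : i₀ ∈ s)
    (b d : ι → ℤ) {p q : ℤ} (hp : 3 ≤ p) (hq : 3 ≤ q) (hb0 : b i₀ = 1) (hd0 : d i₀ = 1)
    (hlt : ∀ i ∈ s, i ≠ i₀ → |b i| < d i)
    (hmod : ∀ i ∈ s, ∃ k : ℤ, d i - b i = q * k)
    (hsq : ∑ i ∈ s, b i ^ 2 = q) (horth : ∑ i ∈ s, b i * d i = 0)
    (hT : (q : ℚ) * ((p : ℚ) - 2) ≤ ((p : ℚ) - 1) * ∑ i ∈ s, (b i : ℚ) ^ 3 / (d i : ℚ)) :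
    False := by
  set s' := s.erase i₀ with hs'
  have hsq' : ∑ i ∈ s', b i ^ 2 = q - 1 := by
    have := Finset.add_sum_erase s (fun i => b i ^ 2) h0
    simp only [hb0] at this; rw [hs']; omega
  have horth' : ∑ i ∈ s', b i * d i = -1 := by
    have := Finset.add_sum_erase s (fun i => b i * d i) h0
    simp only [hb0, hd0] at this; rw [hs']; omega
  set r : ℚ := ((q : ℚ) - 2) / (2 * ((q : ℚ) - 1)) with hr
  have hq' : (3 : ℚ) ≤ q := by exact_mod_cast hq
  have hr0 : 0 < r := by rw [hr]; apply div_pos <;> linarith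
  have hbound : ∀ i ∈ s', (b i : ℚ) ^ 3 / (d i : ℚ) ≤ r * (b i : ℚ) ^ 2 := by
    intro i hi
    obtain ⟨hne, his⟩ := Finset.mem_erase.1 hi
    have hd : |b i| < d i := hlt i his hne
    have hdQ : (0 : ℚ) < d i := by exact_mod_cast (abs_nonneg (b i)).trans_lt hd
    rcases le_or_gt (b i) 0 with hb | hb
    · have hbQ : (b i : ℚ) ≤ 0 := by exact_mod_cast hb
      have h3 : (b i : ℚ) ^ 3 ≤ 0 := by
        nlinarith [mul_nonpos_of_nonneg_of_nonpos (sq_nonneg (b i : ℚ)) hbQ]
      exact (div_nonpos_of_nonpos_of_nonneg h3 hdQ.le).trans (mul_nonneg hr0.le (sq_nonneg _))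
    · obtain ⟨k, hk⟩ := hmod i his
      have hk1 : 1 ≤ k := by
        by_contra hc
        have : q * k ≤ 0 := mul_nonpos_of_nonneg_of_nonpos (by omega) (by omega)
        have := le_abs_self (b i)
        omega
      have hdq : b i + q ≤ d i := by
        have : q * 1 ≤ q * k := mul_le_mul_of_nonneg_left hk1 (by omega)
        omega
      have hb2 : b i ^ 2 ≤ q - 1 := hsq' ▸ Finset.single_le_sum
        (f := fun j => b j ^ 2) (fun j _ => sq_nonneg (b j)) hi
      have hbq : b i ≤ q - 2 := by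
        rcases (show b i = 1 ∨ 2 ≤ b i by omega) with h1 | h1
        · omega
        · nlinarith
      have hdq' : (b i : ℚ) + q ≤ d i := by exact_mod_cast hdq
      have hbq' : (b i : ℚ) ≤ q - 2 := by exact_mod_cast hbq
      have hbQ : (0 : ℚ) < b i := by exact_mod_cast hb
      rw [div_le_iff₀ hdQ]
      have hq1 : (0 : ℚ) < 2 * ((q : ℚ) - 1) := by linarith
      have key : (b i : ℚ) ≤ r * ((b i : ℚ) + q) := by
        rw [hr, div_mul_eq_mul_div, le_div_iff₀ hq1]
        nlinarith
      calc (b i : ℚ) ^ 3 = (b i : ℚ) ^ 2 * (b i : ℚ) := by ring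
        _ ≤ (b i : ℚ) ^ 2 * (r * ((b i : ℚ) + q)) :=
          mul_le_mul_of_nonneg_left key (sq_nonneg _)
        _ ≤ (b i : ℚ) ^ 2 * (r * (d i : ℚ)) :=
          mul_le_mul_of_nonneg_left (mul_le_mul_of_nonneg_left hdq' hr0.le) (sq_nonneg _)
        _ = r * (b i : ℚ) ^ 2 * (d i : ℚ) := by ring
  obtain ⟨j, hj, hjneg⟩ : ∃ j ∈ s', b j < 0 := by
    by_contra hc
    push Not at hc
    have : 0 ≤ ∑ i ∈ s', b i * d i := Finset.sum_nonneg fun i hi => mul_nonneg (hc i hi)
      ((abs_nonneg _).trans (hlt i (Finset.mem_erase.1 hi).2 (Finset.mem_erase.1 hi).1).le)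
    omega
  have hjs : (b j : ℚ) ^ 3 / (d j : ℚ) < r * (b j : ℚ) ^ 2 := by
    have hd : |b j| < d j := hlt j (Finset.mem_erase.1 hj).2 (Finset.mem_erase.1 hj).1
    have hdQ : (0 : ℚ) < d j := by exact_mod_cast (abs_nonneg (b j)).trans_lt hd
    have hbQ : (b j : ℚ) < 0 := by exact_mod_cast hjneg
    have h2 : (0 : ℚ) < (b j : ℚ) ^ 2 := by nlinarith
    have h3 : (b j : ℚ) ^ 3 < 0 := by nlinarith
    exact (div_neg_of_neg_of_pos h3 hdQ).trans (mul_pos hr0 h2)
  have hlt' : ∑ i ∈ s', (b i : ℚ) ^ 3 / (d i : ℚ) < r * ((q : ℚ) - 1) := by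
    refine (Finset.sum_lt_sum hbound ⟨j, hj, hjs⟩).trans_eq ?_
    rw [← Finset.mul_sum]
    congr 1
    exact_mod_cast hsq'
  have hr' : r * ((q : ℚ) - 1) = ((q : ℚ) - 2) / 2 := by
    rw [hr]; field_simp [show (q : ℚ) - 1 ≠ 0 by linarith]
  rw [← Finset.add_sum_erase s _ h0, hb0, hd0, ← hs'] at hT
  have hp' : (3 : ℚ) ≤ p := by exact_mod_cast hp
  push_cast at hT
  nlinarith [mul_lt_mul_of_pos_left hlt' (show (0 : ℚ) < (p : ℚ) - 1 by linarith)]

variable {p : ℕ} [Fact p.Prime] {G : Type u} [Group G] [Fintype G]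

/-- A simple group cannot have all its nontrivial `p`-elements in one class of elements of order
`p`, with centralizer having a normal `p`-complement, and pairwise generating `p`-solvable
subgroups, for odd `p`. -/
theorem no_one_class [IsSimpleGroup G] (hG : ¬ IsMulCommutative G) (hp2 : p ≠ 2) {x : G}
    (P : Sylow p G) (hxP : x ∈ (P : Subgroup G)) (hx : orderOf x = p)
    (hexp : ∀ a ∈ (P : Subgroup G), a ≠ 1 → orderOf a = p)
    (hclass : ∀ y : G, orderOf y = p → IsConj x y)
    (hcomp : HasNormalPComplement p (Subgroup.centralizer ({x} : Set G)))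
    (hpair : ∀ y z : G, orderOf y = p → orderOf z = p →
      IsPSolvable p (Subgroup.closure ({y, z} : Set G)))
    (hab : ∀ S : Subgroup G, IsPGroup p S → ∀ a ∈ S, ∀ b ∈ S, a * b = b * a) : False := by
  classical
  have hp := Fact.out (p := p.Prime)
  have hp3 : 3 ≤ p := by have := hp.two_le; omega
  obtain ⟨M, hM⟩ := exists_isPModular (q := p) hp
  set q := Nat.card (P : Subgroup G) with hqdef
  have hpq : p ≤ q := hx ▸ Nat.le_of_dvd Nat.card_pos (Subgroup.orderOf_dvd_natCard _ hxP)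
  have hx1 : x ≠ 1 := fun h => hp.one_lt.ne (by rw [← hx, h, orderOf_one])
  have hxpow : ∃ k : ℕ, orderOf x = p ^ k := ⟨1, by rw [hx, pow_one]⟩
  have hxpPt : pPt p x = x :=
    (eq_pPt (mul_one x) (Commute.one_right x) (k := 1) (by rw [hx, pow_one])
      (by rw [orderOf_one, Nat.dvd_one]; exact hp.ne_one)).symm
  -- the `p`-part of a singular element is conjugate to `x`
  have hsing : ∀ g : G, p ∣ orderOf g → IsConj x (pPt p g) := fun g hg => by
    have h1 : pPt p g ≠ 1 := fun h => (pPt_eq_one_iff g).1 h hg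
    obtain ⟨k, hk⟩ := exists_orderOf_pPt (p := p) g
    obtain ⟨S, hS⟩ := (IsPGroup.of_card (p := p) (G := Subgroup.zpowers (pPt p g)) (n := k)
      (by rw [Nat.card_zpowers, hk])).exists_le_sylow
    obtain ⟨c, hc⟩ := MulAction.exists_smul_eq G P S
    have hm := hS (Subgroup.mem_zpowers (pPt p g))
    rw [← hc, Sylow.coe_subgroup_smul] at hm
    obtain ⟨w, hw, hwe⟩ := hm
    have hwe' : c * w * c⁻¹ = pPt p g := hwe
    refine hclass _ ?_
    rw [← hwe', ← MulAut.conj_apply, MulEquiv.orderOf_eq]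
    exact hexp w hw fun h => h1 (by rw [← hwe', h]; group)
  set B := (principalBlock M G).toFinset with hB
  have hmemB : ∀ χ, χ ∈ B ↔ χ ∈ principalBlock M G := fun χ => Set.mem_toFinset
  -- values on singular elements
  have hval : ∀ χ ∈ B, ∀ g : G, p ∣ orderOf g → (χ : G → ℂ) g = (χ : G → ℂ) x := by
    intro χ hχ g hg
    obtain ⟨c, hc⟩ := isConj_iff.1 (hsing g hg)
    have h := principal_value_section hM ((hmemB χ).1 hχ) hxpow hcomp
      (y := c⁻¹ * pReg p g * c) ?_ ?_
    · have hg' : g = c * (x * (c⁻¹ * pReg p g * c)) * c⁻¹ := by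
        conv_lhs => rw [← pPt_mul_pReg (p := p) g, ← hc]
        group
      rw [hg', χ.2.isClassFunction, h]
    · have hcm := pPt_commute_pReg (p := p) g
      rw [← hc] at hcm
      have h2 := congrArg (fun w => c⁻¹ * w * c) hcm.eq
      show x * _ = _ * x
      simpa [mul_assoc] using h2
    · have h2 : c⁻¹ * pReg p g * c = MulAut.conj c⁻¹ (pReg p g) := by simp
      rw [h2, MulEquiv.orderOf_eq]
      exact not_dvd_orderOf_pReg g
  -- integrality
  have hint : ∀ χ : IrrCharacter G, χ ∈ B → ∃ b m : ℤ, 0 ≤ m ∧ (χ : G → ℂ) x = (b : ℂ) ∧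
      (charDegree (χ : G → ℂ) : ℤ) + ((q : ℤ) - 1) * b = (q : ℤ) * m := by
    intro χ hχ
    have hch : IsCharacter (P : Subgroup G) (fun h => (χ : G → ℂ) ((P : Subgroup G).subtype h)) :=
      χ.2.isCharacter.comp _
    letI : Fintype (P : Subgroup G) := Fintype.ofFinite _
    obtain ⟨m, hm⟩ := hch.exists_nat_classInner Char.isIrrCharacter_one.isCharacter
    simp only [classInner, map_one, mul_one, Subgroup.coe_subtype] at hm
    rw [inv_mul_eq_iff_eq_mul₀ (by exact_mod_cast Nat.card_pos.ne'), ← hqdef,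
      ← Finset.add_sum_erase _ _ (Finset.mem_univ (1 : (P : Subgroup G))),
      Finset.sum_congr rfl (g := fun _ => (χ : G → ℂ) x) fun h hh => hval χ hχ _ (by
        rw [hexp (h : G) h.2 fun h1 => (Finset.mem_erase.1 hh).1 (Subtype.ext h1)]),
      Finset.sum_const, Finset.card_erase_of_mem (Finset.mem_univ _), Finset.card_univ,
      ← Nat.card_eq_fintype_card, ← hqdef, nsmul_eq_mul, OneMemClass.coe_one,
      apply_one_eq_charDegree, Nat.cast_sub (by omega), Nat.cast_one] at hm
    have hq0 : ((q : ℂ) - 1) ≠ 0 := by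
      rw [sub_ne_zero]; exact_mod_cast (show q ≠ 1 by omega)
    have hrat : (χ : G → ℂ) x =
        (((((q : ℚ) * m - charDegree (χ : G → ℂ)) / ((q : ℚ) - 1)) : ℚ) : ℂ) := by
      push_cast
      rw [eq_div_iff hq0]
      linear_combination hm
    obtain ⟨b, hb⟩ := Char.exists_int_of_isIntegral_rat (hrat ▸ χ.2.isCharacter.isIntegral x)
    refine ⟨b, m, by positivity, by rw [hrat, hb]; push_cast; ring, ?_⟩
    have hb' : (χ : G → ℂ) x = (b : ℂ) := by rw [hrat, hb]; push_cast; ring
    rw [hb'] at hm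
    exact_mod_cast (by push_cast; exact hm :
      (((charDegree (χ : G → ℂ) : ℤ) + ((q : ℤ) - 1) * b : ℤ) : ℂ) = (((q : ℤ) * m : ℤ) : ℂ))
  choose! bI mI hm0 hbv hbm using hint
  -- the column
  have hPle : (P : Subgroup G) ≤ Subgroup.centralizer ({x} : Set G) := fun a ha =>
    Subgroup.mem_centralizer_singleton_iff.2 (hab _ P.isPGroup' a ha x hxP)
  let R : Sylow p (Subgroup.centralizer ({x} : Set G)) := P.subtype hPle
  have hR : Nat.card (R : Subgroup (Subgroup.centralizer ({x} : Set G))) = q := by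
    rw [Sylow.coe_subtype]
    exact Nat.card_congr (Subgroup.subgroupOfEquivOfLe hPle).toEquiv
  have hcol : ∀ g : G, ∑ χ ∈ B, (χ : G → ℂ) g * (bI χ : ℂ) =
      if p ∣ orderOf g then (q : ℂ) else 0 := by
    intro g
    have e : ∑ χ ∈ B, (χ : G → ℂ) g * (bI χ : ℂ) =
        ∑ᶠ χ ∈ principalBlock M G, (χ : G → ℂ) g * conj ((χ : G → ℂ) x) := by
      rw [finsum_mem_eq_toFinset_sum]
      exact Finset.sum_congr rfl fun χ hχ => by rw [hbv χ hχ, map_intCast]
    split_ifs with hg
    · rw [e]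
      have e2 : ∀ χ ∈ principalBlock M G, (χ : G → ℂ) g * conj ((χ : G → ℂ) x) =
          (χ : G → ℂ) x * conj ((χ : G → ℂ) x) := fun χ hχ => by
        rw [hval χ ((hmemB χ).2 hχ) g hg]
      rw [finsum_mem_congr rfl e2, principal_column hM hxpow hxpow, if_pos (IsConj.refl x),
        principalDegSq_of_complement hM hcomp R, hR]
    · rw [e]
      refine sum_block_mul_conj_eq_zero hM (vInt_indVec hM isPBlock_principal) ?_
      rw [(pPt_eq_one_iff g).2 hg, hxpPt]
      exact fun h => hx1 (isConj_one_right.1 h)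
  set S := Finset.univ.filter fun g : G => p ∣ orderOf g
  have hirr0 : ∀ χ : IrrCharacter G,
      ∑ g, conj ((χ : G → ℂ) g) = if χ = trivChar G then (Nat.card G : ℂ) else 0 := by
    intro χ
    have h := Char.classInner_irr (trivChar G).2 χ.2
    simp only [classInner, trivChar_coe, one_mul] at h
    rw [inv_mul_eq_iff_eq_mul₀ (Char.card_cast_ne_zero (G := G))] at h
    rw [h]
    by_cases hχ : χ = trivChar G
    · subst hχ; simp [trivChar_coe]
    · have hne : ¬ ((fun _ : G => (1 : ℂ)) = (χ : G → ℂ)) := fun e => hχ (Subtype.ext e.symm)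
      simp [hχ, hne]
  have htB : trivChar G ∈ B := (hmemB _).2 (trivChar_mem_principal hM)
  have hb1 : bI (trivChar G) = 1 := by
    have := hbv _ htB
    simp only [trivChar_coe] at this
    exact_mod_cast this.symm
  have hsum0 : ∀ χ : IrrCharacter G,
      ∑ g, (χ : G → ℂ) g = if χ = trivChar G then (Nat.card G : ℂ) else 0 := by
    intro χ
    have h := congrArg conj (hirr0 χ)
    rw [map_sum] at h
    simp only [Complex.conj_conj] at h
    rw [h]; split_ifs <;> simp
  have hS : (S.card : ℂ) * q = (Nat.card G : ℂ) := by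
    have h : ∑ g, ∑ χ ∈ B, (χ : G → ℂ) g * (bI χ : ℂ) = (S.card : ℂ) * q := by
      rw [Finset.sum_congr rfl fun g _ => hcol g, ← Finset.sum_filter, Finset.sum_const,
        nsmul_eq_mul]
    rw [Finset.sum_comm] at h
    simp_rw [← Finset.sum_mul, hsum0, ite_mul, zero_mul] at h
    rw [Finset.sum_ite_eq' B (trivChar G), if_pos htB, hb1, Int.cast_one, mul_one] at h
    exact h.symm
  have htd : charDegree ((trivChar G : IrrCharacter G) : G → ℂ) = 1 :=
    charDegree_eq_of_apply_one (by simp [trivChar_coe])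
  -- the regular indicator
  let f : G → ℂ := fun g => if p ∣ orderOf g then 0 else 1
  have hf : IsClassFunction G f := fun a c => by
    show (if p ∣ orderOf (c * a * c⁻¹) then (0 : ℂ) else 1) = _
    rw [← MulAut.conj_apply, MulEquiv.orderOf_eq]
  have hcoef : ∀ χ : IrrCharacter G, classInner f (χ : G → ℂ) =
      if χ ∈ B then ((if χ = trivChar G then (1 : ℂ) else 0) - (bI χ : ℂ) / q) else 0 := by
    intro χ
    have hqc : (q : ℂ) ≠ 0 := by exact_mod_cast (show q ≠ 0 by omega)
    have hGc : (Nat.card G : ℂ) ≠ 0 := Char.card_cast_ne_zero (G := G)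
    by_cases hχ : χ ∈ B
    · rw [if_pos hχ]
      have e : ∀ g, f g * conj ((χ : G → ℂ) g) =
          conj ((χ : G → ℂ) g) - if p ∣ orderOf g then (bI χ : ℂ) else 0 := fun g => by
        by_cases hg : p ∣ orderOf g
        · simp [f, hg, hval χ hχ g hg, hbv χ hχ]
        · simp [f, hg]
      rw [classInner, Finset.sum_congr rfl fun g _ => e g, Finset.sum_sub_distrib, hirr0,
        ← Finset.sum_filter, Finset.sum_const, nsmul_eq_mul]
      change (Nat.card G : ℂ)⁻¹ * (_ - (S.card : ℂ) * _) = _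
      rw [← hS] at hGc ⊢
      have hSc : (S.card : ℂ) ≠ 0 := fun h0 => hGc (by rw [h0, zero_mul])
      split_ifs <;> field_simp <;> ring
    · rw [if_neg hχ]
      have h0 : ∑ g, pRegularPart p (χ : G → ℂ) g = 0 := by
        by_contra hne; exact hχ ((hmemB χ).2 (mem_principal_of_regSum_ne hM χ hne))
      rw [classInner, Finset.sum_congr rfl (g := fun g => conj (pRegularPart p (χ : G → ℂ) g))
        fun g _ => ?_, ← map_sum, h0, map_zero, mul_zero]
      by_cases hg : p ∣ orderOf g
      · simp [f, hg, pRegularPart_of_sing (show ¬ IsPRegular p g from fun h => h hg)]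
      · simp [f, hg, pRegularPart_of_reg (show IsPRegular p g from hg)]
  set C := Char.classFinset x
  have hCc : Char.ConjClosed C := fun k y hy =>
    Char.mem_classFinset.2 ((Char.mem_classFinset.1 hy).trans (isConj_iff.2 ⟨k, rfl⟩))
  have hcount : ((C.filter fun y => ¬ p ∣ orderOf (x * y)).card : ℂ) =
      (C.card : ℂ) * (1 - (∑ χ ∈ B, (bI χ : ℂ) ^ 3 / (charDegree (χ : G → ℂ) : ℂ)) / q) := by
    have h1 : ((C.filter fun y => ¬ p ∣ orderOf (x * y)).card : ℂ) = ∑ y ∈ C, f (x * y) := by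
      rw [Finset.card_filter, Nat.cast_sum]
      exact Finset.sum_congr rfl fun y _ => by by_cases hg : p ∣ orderOf (x * y) <;> simp [f, hg]
    have h2 : ∀ y : G, f (x * y) =
        ∑ χ : IrrCharacter G, classInner f (χ : G → ℂ) * (χ : G → ℂ) (x * y) := fun y => by
      conv_lhs => rw [Char.eq_sum_classInner hf]
      simp [Finset.sum_apply]
    rw [h1, Finset.sum_congr rfl fun y _ => h2 y, Finset.sum_comm]
    simp_rw [← Finset.mul_sum, Char.sum_conjClosed_char hCc (Subtype.prop (_ : IrrCharacter G))]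
    have h3 : ∀ χ : IrrCharacter G, classInner f (χ : G → ℂ) *
        ((χ : G → ℂ) x * (∑ y ∈ C, (χ : G → ℂ) y) / (χ : G → ℂ) 1) =
        if χ ∈ B then (C.card : ℂ) * (((if χ = trivChar G then (1 : ℂ) else 0) -
          (bI χ : ℂ) / q) * (bI χ : ℂ) ^ 2 / (charDegree (χ : G → ℂ) : ℂ)) else 0 := fun χ => by
      rw [hcoef]
      split_ifs with hχ ht <;>
        first
        | (rw [Char.sum_classFinset χ.2.isClassFunction, hbv χ hχ, apply_one_eq_charDegree]
           ring)
        | simp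
    rw [Finset.sum_congr rfl fun χ _ => h3 χ, Finset.sum_ite_mem, Finset.univ_inter,
      ← Finset.mul_sum]
    congr 1
    have h4 : ∀ χ : IrrCharacter G, ((if χ = trivChar G then (1 : ℂ) else 0) -
        (bI χ : ℂ) / q) * (bI χ : ℂ) ^ 2 / (charDegree (χ : G → ℂ) : ℂ) =
        (if χ = trivChar G then (bI χ : ℂ) ^ 2 / (charDegree (χ : G → ℂ) : ℂ) else 0) -
          ((bI χ : ℂ) ^ 3 / (charDegree (χ : G → ℂ) : ℂ)) / q := fun χ => by
      split_ifs <;> ring
    rw [Finset.sum_congr rfl fun χ _ => h4 χ, Finset.sum_sub_distrib,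
      Finset.sum_ite_eq' B (trivChar G), if_pos htB, ← Finset.sum_div, hb1,
      htd]
    simp
  have hle := regular_products_le hx hclass hpair hab
  have hCpos : 0 < C.card := Finset.card_pos.2 ⟨x, Char.mem_classFinset.2 (IsConj.refl x)⟩
  set N := (C.filter fun y => ¬ p ∣ orderOf (x * y)).card
  have hN : (N : ℚ) = (C.card : ℚ) *
      (1 - (∑ χ ∈ B, (bI χ : ℚ) ^ 3 / ((charDegree (χ : G → ℂ) : ℤ) : ℚ)) / q) := by
    apply (Rat.cast_injective (α := ℂ))
    push_cast
    exact hcount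
  refine column_arith B htB bI (fun χ => (charDegree (χ : G → ℂ) : ℤ)) (p := (p : ℤ))
    (q := (q : ℤ)) (by exact_mod_cast hp3) (by exact_mod_cast hp3.trans hpq) hb1
    (by rw [htd]; rfl)
    (fun χ hχ hne => ?_) (fun χ hχ => ⟨mI χ - bI χ, by linarith [hbm χ hχ]⟩) ?_ ?_ ?_
  · have hn := χ.2.isCharacter.norm_le x
    rw [hbv χ hχ, apply_one_eq_charDegree] at hn
    simp only [Complex.norm_intCast, Complex.norm_natCast, Complex.natCast_re] at hn
    have hn' : |bI χ| ≤ (charDegree (χ : G → ℂ) : ℤ) := by exact_mod_cast hn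
    refine lt_of_le_of_ne hn' fun he => ?_
    rcases abs_choice (bI χ) with h | h
    · have hker : x ∈ Char.charKer χ.2.isCharacter := by
        rw [Char.mem_charKer, hbv χ hχ, apply_one_eq_charDegree]
        exact_mod_cast h ▸ he
      rcases Subgroup.Normal.eq_bot_or_eq_top (Char.charKer_normal χ.2.isCharacter) with hk | hk
      · exact hx1 (Subgroup.mem_bot.1 (hk ▸ hker))
      · have hall : ∀ g, (χ : G → ℂ) g = (χ : G → ℂ) 1 := fun g =>
          (Char.mem_charKer χ.2.isCharacter).1 (hk ▸ Subgroup.mem_top g)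
        have h0 := hsum0 χ
        rw [if_neg hne, Finset.sum_congr rfl fun g _ => hall g, Finset.sum_const, nsmul_eq_mul,
          Finset.card_univ] at h0
        exact mul_ne_zero (by exact_mod_cast Fintype.card_ne_zero) χ.2.apply_one_ne_zero h0
    · have hd : (0 : ℤ) < charDegree (χ : G → ℂ) := by
        have h0 := χ.2.apply_one_ne_zero
        rw [apply_one_eq_charDegree, Nat.cast_ne_zero] at h0
        exact_mod_cast Nat.pos_of_ne_zero h0
      have := hbm χ hχ
      have h2 : 0 ≤ (q : ℤ) * mI χ := mul_nonneg (by positivity) (hm0 χ hχ)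
      have hq3 : (3 : ℤ) ≤ q := by exact_mod_cast hp3.trans hpq
      have hb : bI χ = -(charDegree (χ : G → ℂ) : ℤ) := by omega
      rw [hb] at this
      nlinarith
  · have h := hcol x
    rw [if_pos (dvd_of_eq hx.symm)] at h
    rw [Finset.sum_congr rfl fun (χ : IrrCharacter G) hχ => show (χ : G → ℂ) x * (bI χ : ℂ) =
      ((bI χ ^ 2 : ℤ) : ℂ) by rw [hbv χ hχ]; push_cast; ring] at h
    exact_mod_cast h
  · have h := hcol 1
    rw [if_neg (by rw [orderOf_one, Nat.dvd_one]; exact hp.ne_one)] at h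
    rw [Finset.sum_congr rfl fun (χ : IrrCharacter G) hχ => show (χ : G → ℂ) 1 * (bI χ : ℂ) =
      (((bI χ) * (charDegree (χ : G → ℂ) : ℤ) : ℤ) : ℂ) by
        rw [apply_one_eq_charDegree]; push_cast; ring] at h
    exact_mod_cast h
  · set T := ∑ χ ∈ B, (bI χ : ℚ) ^ 3 / ((charDegree (χ : G → ℂ) : ℤ) : ℚ)
    have hle' : ((p : ℚ) - 1) * N ≤ C.card := by
      have : (((p - 1) * N : ℕ) : ℚ) ≤ (C.card : ℚ) := by exact_mod_cast hle
      rwa [Nat.cast_mul, Nat.cast_sub (by omega), Nat.cast_one] at this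
    rw [hN] at hle'
    have hC0 : (0 : ℚ) < C.card := by exact_mod_cast hCpos
    have hq0 : (0 : ℚ) < q := by exact_mod_cast (show 0 < q by omega)
    have h5 : ((p : ℚ) - 1) * (1 - T / q) ≤ 1 := by nlinarith
    rw [one_sub_div hq0.ne', mul_div_assoc', div_le_iff₀ hq0] at h5
    push_cast
    linarith

end Cfsg.Lib.Block.OneClass
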