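import Cfsg.Agent.Lib.Block.BlockTrace
import Cfsg.Agent.Lib.Block.DefectApps
import Cfsg.Agent.Lib.Char.SignedIrr
import Cfsg.Agent.Lib.Char.Induced

/-!
# Exceptional and non-exceptional characters from a lattice with Gram matrix `I + e J`

Given generalized characters of a block vanishing at regular elements with Gram matrix
`I + e J` and spanning all such class functions, the rank of the block is `k - t ≤ e`, and in the
case of equality the block splits into exceptional and non-exceptional characters.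
-/

set_option autoImplicit false
set_option linter.unusedSectionVars false
set_option maxHeartbeats 1000000

namespace Cfsg.Lib.Block

open Cfsg
open scoped ComplexConjugate

universe u v

/-- Generalized characters of a block with the Gram matrix of a cyclic block. -/
structure CycVectors {G : Type u} [Group G] [Fintype G] (p : ℕ) (B : Set (IrrCharacter G))
    (e : ℕ) {ι : Type v} [Fintype ι] [DecidableEq ι] (τ : ι → G → ℂ) : Prop where
  gen : ∀ i, IsGeneralizedCharacter G (τ i)
  regular : ∀ i g, IsPRegular p g → τ i g = 0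
  outside : ∀ i (χ : IrrCharacter G), χ ∉ B → classInner (τ i) (χ : G → ℂ) = 0
  gram : ∀ i j, classInner (τ i) (τ j) = (e : ℂ) + if i = j then 1 else 0
  complete : ∀ c : IrrCharacter G → ℂ,
    (∀ i, classInner (fun g => ∑ᶠ χ ∈ B, c χ * (χ : G → ℂ) g) (τ i) = 0) →
    ∀ g, ¬ IsPRegular p g → ∑ᶠ χ ∈ B, c χ * (χ : G → ℂ) g = 0

namespace CycVectors

variable {p : ℕ} [Fact p.Prime] {M : Ideal AlgInt} {G : Type u} [Group G] [Fintype G]
  (hM : IsPModular p M) {B : Set (IrrCharacter G)} {e : ℕ} {ι : Type v} [Fintype ι] [DecidableEq ι]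
  {τ : ι → G → ℂ} (V : CycVectors p B e τ)

include V

theorem apply_one (i : ι) : τ i 1 = 0 :=
  V.regular i 1 (by simp [IsPRegular, (Fact.out : p.Prime).ne_one])

open Classical in
theorem exists_coeff : ∃ n : ι → IrrCharacter G → ℤ,
    (∀ i (χ : IrrCharacter G), classInner (τ i) (χ : G → ℂ) = (n i χ : ℂ)) ∧ (∀ i χ, χ ∉ B → n i χ = 0) ∧
    (∀ i g, τ i g = ∑ χ ∈ B.toFinset, (n i χ : ℂ) * (χ : G → ℂ) g) ∧
    (∀ i j, ∑ χ ∈ B.toFinset, (n i χ : ℂ) * (n j χ : ℂ) = (e : ℂ) + if i = j then 1 else 0) := by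
  choose n hn using fun i (χ : IrrCharacter G) =>
    (V.gen i).exists_int_classInner χ.2.isGeneralized
  have h0 : ∀ i χ, χ ∉ B → n i χ = 0 := fun i χ hχ => by
    have := V.outside i χ hχ
    rw [hn] at this
    exact_mod_cast this
  have hexp : ∀ i g, τ i g = ∑ χ ∈ B.toFinset, (n i χ : ℂ) * (χ : G → ℂ) g := by
    intro i g
    conv_lhs => rw [Char.eq_sum_classInner (V.gen i).isClassFunction]
    rw [Finset.sum_apply, ← Finset.sum_subset (Finset.subset_univ B.toFinset) fun χ _ hχ => by
      rw [Pi.smul_apply, hn, h0 i χ (fun h => hχ (Set.mem_toFinset.2 h)), Int.cast_zero, zero_smul]]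
    exact Finset.sum_congr rfl fun χ _ => by rw [Pi.smul_apply, hn, smul_eq_mul]
  refine ⟨n, hn, h0, hexp, fun i j => ?_⟩
  rw [← V.gram i j, Char.classInner_eq_sum (V.gen i).isClassFunction,
    ← Finset.sum_subset (Finset.subset_univ B.toFinset) fun χ _ hχ => by
      rw [hn i, h0 i χ (fun h => hχ (Set.mem_toFinset.2 h)), Int.cast_zero, zero_mul]]
  exact Finset.sum_congr rfl fun χ _ => by rw [hn, hn, map_intCast]

open Classical in
include hM in
/-- The rank is the number of characters less the number of vectors. -/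
theorem rank_add (hB : IsPBlock M B) : blockRank p B + Fintype.card ι = Nat.card B := by
  obtain ⟨n, hn, hn0, hexp, hgram⟩ := V.exists_coeff
  have hBI := vInt_indVec hM hB
  apply Nat.cast_injective (R := ℂ)
  rw [Nat.cast_add, blockRank_eq_sum_regInner hM hBI, Nat.card_eq_fintype_card (α := B),
    ← Set.toFinset_card]
  have hte : (1 : ℂ) + (Fintype.card ι : ℂ) * e ≠ 0 := by
    exact_mod_cast (show (1 + Fintype.card ι * e : ℕ) ≠ 0 by omega)
  set s : ℂ := (e : ℂ) / (1 + (Fintype.card ι : ℂ) * e) with hs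
  have hdiag : ∀ χ ∈ B.toFinset, 1 - regInner p (χ : G → ℂ) (χ : G → ℂ) =
      ∑ i, ((n i χ : ℂ) - s * ∑ j, (n j χ : ℂ)) * (n i χ : ℂ) := by
    intro χ hχ
    have hχB : χ ∈ B := Set.mem_toFinset.1 hχ
    set a : ι → ℂ := fun i => (n i χ : ℂ) - s * ∑ j, (n j χ : ℂ) with ha
    have hsum : ∑ i, a i = (∑ j, (n j χ : ℂ)) * (1 - (Fintype.card ι : ℂ) * s) := by
      rw [ha, Finset.sum_sub_distrib, Finset.sum_const, Finset.card_univ, nsmul_eq_mul]
      ring
    set c : IrrCharacter G → ℂ := fun η => (if η = χ then 1 else 0) -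
      regInner p (χ : G → ℂ) (η : G → ℂ) - ∑ i, a i * (n i η : ℂ) with hc
    have hF : ∀ g, ∑ η ∈ B.toFinset, c η * (η : G → ℂ) g =
        (χ : G → ℂ) g - pRegularPart p (χ : G → ℂ) g - ∑ i, a i * τ i g := by
      intro g
      simp only [hc, sub_mul, Finset.sum_sub_distrib, Finset.sum_mul]
      congr 2
      · simp [hχ]
      · rw [regPart_expand hM hBI hχB]
        simp [Finset.sum_apply]
      · rw [Finset.sum_comm]
        refine Finset.sum_congr rfl fun i _ => ?_
        rw [hexp i g, Finset.mul_sum]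
        exact Finset.sum_congr rfl fun η _ => by ring
    have horth : ∀ j, classInner (fun g => ∑ᶠ η ∈ B, c η * (η : G → ℂ) g) (τ j) = 0 := by
      intro j
      simp only [finsum_mem_eq_toFinset_sum, hF]
      rw [show (fun g => (χ : G → ℂ) g - pRegularPart p (χ : G → ℂ) g - ∑ i, a i * τ i g) =
        (χ : G → ℂ) - pRegularPart p (χ : G → ℂ) - ∑ i, a i • τ i from funext fun g => by
          simp [Finset.sum_apply], Char.classInner_sub_left, Char.classInner_sub_left,
        Char.classInner_sum_left]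
      simp only [Char.classInner_smul_left, V.gram]
      have h1 : classInner (pRegularPart p (χ : G → ℂ)) (τ j) = 0 := by
        rw [classInner, Finset.sum_eq_zero fun g _ => ?_, mul_zero]
        by_cases hg : IsPRegular p g
        · rw [V.regular j g hg, map_zero, mul_zero]
        · rw [pRegularPart_of_sing hg, zero_mul]
      rw [h1, ← Char.classInner_conj_symm, hn, map_intCast]
      simp only [mul_add, mul_ite, mul_one, mul_zero, Finset.sum_add_distrib, Finset.sum_ite_eq',
        Finset.mem_univ, if_true, ← Finset.sum_mul, hsum]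
      simp only [ha, hs]
      field_simp
      ring
    have hzero : ∀ g, ∑ η ∈ B.toFinset, c η * (η : G → ℂ) g = 0 := by
      intro g
      by_cases hg : IsPRegular p g
      · rw [hF, pRegularPart_of_reg hg, Finset.sum_eq_zero fun i _ => by rw [V.regular i g hg, mul_zero]]
        ring
      · have := V.complete c horth g hg
        rwa [finsum_mem_eq_toFinset_sum] at this
    have hinner : classInner (fun g => ∑ η ∈ B.toFinset, c η * (η : G → ℂ) g) (χ : G → ℂ) = 0 := by
      simp [hzero, classInner]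
    rw [show (fun g => ∑ η ∈ B.toFinset, c η * (η : G → ℂ) g) =
      (χ : G → ℂ) - pRegularPart p (χ : G → ℂ) - ∑ i, a i • τ i from funext fun g => by
        simp [hF, Finset.sum_apply], Char.classInner_sub_left, Char.classInner_sub_left,
      Char.classInner_sum_left, Char.classInner_irr_self χ.2] at hinner
    simp only [Char.classInner_smul_left, hn] at hinner
    rw [regInner] at *
    exact sub_eq_zero.1 hinner
  have htot : ∑ χ ∈ B.toFinset, (1 - regInner p (χ : G → ℂ) (χ : G → ℂ)) = (Fintype.card ι : ℂ) := by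
    rw [Finset.sum_congr rfl hdiag, Finset.sum_comm]
    have h : ∀ i, ∑ χ ∈ B.toFinset, ((n i χ : ℂ) - s * ∑ j, (n j χ : ℂ)) * (n i χ : ℂ) = 1 := by
      intro i
      simp only [sub_mul, Finset.sum_sub_distrib, hgram, if_pos rfl, mul_assoc, ← Finset.mul_sum,
        Finset.sum_mul]
      rw [Finset.sum_comm, Finset.sum_congr rfl fun j _ => hgram j i, Finset.sum_add_distrib,
        Finset.sum_const, Finset.card_univ, nsmul_eq_mul, Finset.sum_ite_eq', if_pos (Finset.mem_univ _),
        hs]
      simp only [if_true]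
      linear_combination -(mul_div_cancel₀ (e : ℂ) hte)
    rw [Finset.sum_congr rfl fun i _ => h i, Finset.sum_const, Finset.card_univ, nsmul_eq_mul,
      mul_one]
  rw [← htot, Finset.sum_sub_distrib, Finset.sum_const, nsmul_eq_mul, mul_one]
  ring

include hM in
/-- In positive defect every member of the block occurs in some vector. -/
theorem exists_ne_zero (hB : IsPBlock M B) (hd : 0 < blockDefect p B) {χ : IrrCharacter G}
    (hχ : χ ∈ B) : ∃ i, classInner (τ i) (χ : G → ℂ) ≠ 0 := by
  classical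
  by_contra hall
  push_neg at hall
  have hF : ∀ g, ∑ᶠ η ∈ B, (if η = χ then 1 else 0 : ℂ) * (η : G → ℂ) g = (χ : G → ℂ) g := fun g => by
    rw [finsum_mem_eq_toFinset_sum]; simp [hχ]
  have hv := V.complete (fun η => if η = χ then 1 else 0) fun i => by
    simp only [hF]
    rw [← Char.classInner_conj_symm, hall i, map_zero]
  have h0 := blockDefect_eq_zero_of_vanish hM χ fun g hg => by
    rw [← hF g]
    refine hv g fun h => h ?_
    rw [hg]
  rw [← eq_blockOf_of_mem hM hB hχ] at h0
  omega

open Classical in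
include hM in
/-- The rank is at most `e`. -/
theorem rank_le (hB : IsPBlock M B) (hd : 0 < blockDefect p B) (hι : Nonempty ι) :
    blockRank p B ≤ e ∧ (e ≤ blockRank p B →
      ∃ (X : Set (IrrCharacter G)) (y : ι → IrrCharacter G) (δ : IrrCharacter G → ℤ) (δ₀ : ℤ),
        Function.Injective y ∧ B = X ∪ Set.range y ∧ Disjoint X (Set.range y) ∧ Nat.card X = e ∧
        (∀ χ ∈ X, δ χ = 1 ∨ δ χ = -1) ∧ (δ₀ = 1 ∨ δ₀ = -1) ∧
        ∀ i g, τ i g = (δ₀ : ℂ) * (y i : G → ℂ) g + ∑ᶠ χ ∈ X, (δ χ : ℂ) * (χ : G → ℂ) g) := by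
  obtain ⟨n, hn, hn0, hexp, hgramC⟩ := V.exists_coeff
  have hgram : ∀ i j, ∑ χ ∈ B.toFinset, n i χ * n j χ = (e : ℤ) + if i = j then 1 else 0 := by
    intro i j
    have := hgramC i j
    split_ifs with h
    · rw [if_pos h] at this
      exact_mod_cast this
    · rw [if_neg h] at this
      exact_mod_cast this
  have hrow : ∀ χ ∈ B.toFinset, ∃ i, n i χ ≠ 0 := by
    intro χ hχ
    obtain ⟨i, hi⟩ := V.exists_ne_zero hM hB hd (Set.mem_toFinset.1 hχ)
    exact ⟨i, fun h => hi (by rw [hn, h, Int.cast_zero])⟩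
  have hrank := V.rank_add hM hB
  rw [Nat.card_eq_fintype_card (α := B), ← Set.toFinset_card] at hrank
  have hsq : ∀ a : ℤ, a ≠ 0 → 1 ≤ a * a := fun a ha => by
    nlinarith [Int.one_le_abs ha, sq_abs a]
  have hpm : ∀ (a : ℤ), a * a = 1 → a = 1 ∨ a = -1 := fun a ha => mul_self_eq_one_iff.1 ha
  by_cases h1 : Fintype.card ι = 1
  · obtain ⟨i₀, hi₀⟩ := Fintype.card_eq_one_iff.1 h1
    have hnorm := hgram i₀ i₀
    rw [if_pos rfl] at hnorm
    have hge : ∀ χ ∈ B.toFinset, 1 ≤ n i₀ χ * n i₀ χ := fun χ hχ => by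
      obtain ⟨i, hi⟩ := hrow χ hχ
      rw [hi₀ i] at hi
      exact hsq _ hi
    have hcard : (B.toFinset.card : ℤ) ≤ e + 1 := by
      rw [← hnorm, Finset.card_eq_sum_ones, Nat.cast_sum]
      exact Finset.sum_le_sum fun χ hχ => by simpa using hge χ hχ
    refine ⟨by omega, fun he => ?_⟩
    have heq : ∑ χ ∈ B.toFinset, (1 : ℤ) = ∑ χ ∈ B.toFinset, n i₀ χ * n i₀ χ := by
      rw [hnorm, Finset.sum_const, nsmul_eq_mul, mul_one]
      omega
    have hone := (Finset.sum_eq_sum_iff_of_le hge).1 heq
    obtain ⟨χ₀, hχ₀⟩ := nonempty_of_isPBlock hM hB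
    have hy : (Set.range fun _ : ι => χ₀) = {χ₀} := by
      rw [Set.range_const]
    refine ⟨B \ {χ₀}, fun _ => χ₀, fun χ => n i₀ χ, n i₀ χ₀,
      fun a b _ => (hi₀ a).trans (hi₀ b).symm, by rw [hy, Set.sdiff_union_self]; ext η; simp [hχ₀],
      by rw [hy]; exact Set.disjoint_sdiff_left, ?_, fun χ hχ => hpm _ (hone χ (Set.mem_toFinset.2 hχ.1)).symm,
      hpm _ (hone χ₀ (Set.mem_toFinset.2 hχ₀)).symm, fun i g => ?_⟩
    · have hXc : Nat.card ↥(B \ {χ₀}) = B.toFinset.card - 1 := by
        rw [Nat.card_eq_fintype_card, ← Set.toFinset_card, show (B \ {χ₀}).toFinset =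
          B.toFinset.erase χ₀ by ext; simp [and_comm],
          Finset.card_erase_of_mem (Set.mem_toFinset.2 hχ₀)]
      omega
    · rw [hi₀ i, hexp i₀ g, finsum_mem_eq_toFinset_sum, show (B \ {χ₀}).toFinset =
          B.toFinset.erase χ₀ by ext; simp [and_comm],
        Finset.add_sum_erase _ (fun χ => (n i₀ χ : ℂ) * (χ : G → ℂ) g) (Set.mem_toFinset.2 hχ₀)]
  -- at least two vectors
  haveI := hι
  obtain ⟨i₀⟩ := id hι
  haveI : Nontrivial ι := Fintype.one_lt_card_iff_nontrivial.1 (by
    have := Fintype.card_pos (α := ι); omega)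
  obtain ⟨ε, hε, μ, hμ, hμinj, hμτ⟩ := Char.exists_exceptional_irr i₀ (fun i => τ i - τ i₀)
    (sub_self _) (fun i => (V.gen i).sub (V.gen i₀))
    (fun i => by simp [V.apply_one])
    (fun i hi => by
      simp only [Char.classInner_sub_left]
      rw [← Char.classInner_conj_symm (τ i - τ i₀) (τ i), ← Char.classInner_conj_symm (τ i - τ i₀) (τ i₀),
        Char.classInner_sub_left, Char.classInner_sub_left, V.gram, V.gram, V.gram, V.gram]
      simp [hi, Ne.symm hi]
      ring)
    (fun i j hi hj hij => by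
      simp only [Char.classInner_sub_left]
      rw [← Char.classInner_conj_symm (τ j - τ i₀) (τ i), ← Char.classInner_conj_symm (τ j - τ i₀) (τ i₀),
        Char.classInner_sub_left, Char.classInner_sub_left, V.gram, V.gram, V.gram, V.gram]
      simp [hi, hj, Ne.symm hi, Ne.symm hij, Ne.symm hj])
  let y : ι → IrrCharacter G := fun i => ⟨μ i, hμ i⟩
  have hyinj : Function.Injective y := fun a b h => hμinj (congrArg Subtype.val h)
  obtain ⟨z, hz, hzε⟩ : ∃ z : ℤ, (z = 1 ∨ z = -1) ∧ ε = (z : ℂ) := by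
    rcases hε with h | h
    · exact ⟨1, Or.inl rfl, by simp [h]⟩
    · exact ⟨-1, Or.inr rfl, by simp [h]⟩
  have hz2 : z * z = 1 := by rcases hz with h | h <;> simp [h]
  have hdiff : ∀ i χ, n i χ - n i₀ χ =
      z * ((if y i = χ then 1 else 0) - (if y i₀ = χ then 1 else 0)) := by
    intro i χ
    have h := congrArg (fun F => classInner F (χ : G → ℂ)) (hμτ i)
    simp only [Char.classInner_sub_left, Char.classInner_smul_left, hn, hzε] at h
    have hδ : ∀ j, classInner (μ j) (χ : G → ℂ) = if y j = χ then 1 else 0 := fun j => by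
      split_ifs with e'
      · rw [← e']; exact Char.classInner_irr_self (hμ j)
      · exact Char.classInner_irr_ne (hμ j) χ.2 fun he => e' (Subtype.ext he)
    rw [hδ, hδ] at h
    apply Int.cast_injective (α := ℂ)
    push_cast
    exact h
  set r : ι → ℤ := fun j => n i₀ (y j) - z * (if i₀ = j then 1 else 0) with hr
  have hval : ∀ i j, n i (y j) = r j + z * (if i = j then 1 else 0) := by
    intro i j
    have := hdiff i (y j)
    simp only [hyinj.eq_iff] at this
    simp only [hr]
    linarith [this]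
  have hyB : ∀ j, y j ∈ B := by
    intro j
    by_contra hj
    obtain ⟨i, hi⟩ := exists_ne j
    have h1 := hn0 i (y j) hj
    have h2 := hn0 j (y j) hj
    rw [hval] at h1 h2
    rw [if_neg hi, mul_zero, add_zero] at h1
    rw [if_pos rfl, mul_one, h1, zero_add] at h2
    rcases hz with h | h <;> omega
  set Xf : Finset (IrrCharacter G) := B.toFinset \ Finset.univ.image y with hXf
  have hconst : ∀ χ ∈ Xf, ∀ i, n i χ = n i₀ χ := by
    intro χ hχ i
    rw [hXf, Finset.mem_sdiff, Finset.mem_image] at hχ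
    push_neg at hχ
    have := hdiff i χ
    rw [if_neg (hχ.2 i (Finset.mem_univ _)), if_neg (hχ.2 i₀ (Finset.mem_univ _)), sub_self,
      mul_zero] at this
    omega
  have hsub : Finset.univ.image y ⊆ B.toFinset := fun χ hχ => by
    obtain ⟨j, -, rfl⟩ := Finset.mem_image.1 hχ
    exact Set.mem_toFinset.2 (hyB j)
  have hnormi : ∀ i, ∑ χ ∈ Xf, n i₀ χ * n i₀ χ + ∑ j, r j * r j + 2 * z * r i = (e : ℤ) := by
    intro i
    have h := hgram i i
    rw [if_pos rfl, ← Finset.sum_sdiff hsub, Finset.sum_image fun a _ b _ hab => hyinj hab] at h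
    rw [Finset.sum_congr rfl fun χ hχ => by rw [hconst χ hχ i]] at h
    simp only [hval] at h
    have e1 : ∑ j, (r j + z * if i = j then 1 else 0) * (r j + z * if i = j then 1 else 0) =
        ∑ j, r j * r j + (2 * z * r i + 1) := by
      rw [Finset.sum_congr rfl (g := fun j => r j * r j + if i = j then 2 * z * r j + 1 else 0)
        fun j _ => by
          split_ifs
          · linear_combination hz2
          · ring,
        Finset.sum_add_distrib, Finset.sum_ite_eq, if_pos (Finset.mem_univ _)]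
    rw [e1] at h
    simp only [hXf] at *
    linarith
  have hrconst : ∀ j, r j = r i₀ := fun j => by
    have h1 := hnormi j
    have h2 := hnormi i₀
    rcases hz with h | h <;> subst h <;> linarith
  set R := r i₀ with hR
  set t : ℤ := (Fintype.card ι : ℤ) with ht
  have ht2 : 2 ≤ t := by
    rw [ht]
    have := Fintype.one_lt_card (α := ι)
    omega
  have heq : ∑ χ ∈ Xf, n i₀ χ * n i₀ χ + (t * (R * R) + 2 * z * R) = (e : ℤ) := by
    rw [← hnormi i₀, Finset.sum_congr rfl (s₂ := Finset.univ) (g := fun _ : ι => R * R)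
      (f := fun j => r j * r j) fun j _ => by rw [hrconst j], Finset.sum_const, Finset.card_univ,
      nsmul_eq_mul]
    ring
  have hge : ∀ χ ∈ Xf, 1 ≤ n i₀ χ * n i₀ χ := fun χ hχ => by
    obtain ⟨i, hi⟩ := hrow χ (Finset.mem_sdiff.1 hχ).1
    rw [hconst χ hχ i] at hi
    exact hsq _ hi
  have hnn : 0 ≤ t * (R * R) + 2 * z * R := by
    rcases eq_or_ne R 0 with h | h
    · simp [h]
    · have := hsq R h
      have : |R| ≤ R * R := by nlinarith [Int.one_le_abs h, sq_abs R]
      have := abs_le.1 (le_refl |R|)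
      rcases hz with h' | h' <;> subst h' <;> nlinarith
  have hXcard : Xf.card + Fintype.card ι = B.toFinset.card := by
    rw [hXf, ← Finset.card_sdiff_add_card_eq_card hsub, Finset.card_image_of_injective _ hyinj,
      Finset.card_univ]
  have hle : (Xf.card : ℤ) ≤ ∑ χ ∈ Xf, n i₀ χ * n i₀ χ := by
    rw [Finset.card_eq_sum_ones, Nat.cast_sum]
    exact Finset.sum_le_sum fun χ hχ => by simpa using hge χ hχ
  refine ⟨by omega, fun he => ?_⟩
  have hs1 : ∑ χ ∈ Xf, (1 : ℤ) = ∑ χ ∈ Xf, n i₀ χ * n i₀ χ := by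
    rw [Finset.sum_const, nsmul_eq_mul, mul_one]
    omega
  have hone := (Finset.sum_eq_sum_iff_of_le hge).1 hs1
  have hR0 : t * (R * R) + 2 * z * R = 0 := by omega
  have hdata : ∀ (w : ι → IrrCharacter G) (δ₀ : ℤ), Function.Injective w →
      Finset.univ.image w = Finset.univ.image y → (δ₀ = 1 ∨ δ₀ = -1) →
      (∀ i, ∀ g : G, ∑ j, (n i (y j) : ℂ) * (y j : G → ℂ) g = (δ₀ : ℂ) * (w i : G → ℂ) g) →
      ∃ (X : Set (IrrCharacter G)) (y : ι → IrrCharacter G) (δ : IrrCharacter G → ℤ) (δ₀ : ℤ),
        Function.Injective y ∧ B = X ∪ Set.range y ∧ Disjoint X (Set.range y) ∧ Nat.card X = e ∧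
        (∀ χ ∈ X, δ χ = 1 ∨ δ χ = -1) ∧ (δ₀ = 1 ∨ δ₀ = -1) ∧
        ∀ i g, τ i g = (δ₀ : ℂ) * (y i : G → ℂ) g + ∑ᶠ χ ∈ X, (δ χ : ℂ) * (χ : G → ℂ) g := by
    intro w δ₀ hw himg hδ₀ hwy
    have hrange : Set.range w = ↑(Finset.univ.image y) := by
      rw [← himg, Finset.coe_image, Finset.coe_univ, Set.image_univ]
    refine ⟨↑Xf, w, fun χ => n i₀ χ, δ₀, hw, ?_, ?_, ?_, fun χ hχ =>
      hpm _ (hone χ (Finset.mem_coe.1 hχ)).symm, hδ₀, fun i g => ?_⟩
    · rw [hrange, ← Finset.coe_union, hXf, Finset.sdiff_union_of_subset hsub, Set.coe_toFinset]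
    · rw [hrange, Finset.disjoint_coe, hXf]
      exact Finset.sdiff_disjoint
    · rw [Nat.card_coe_set_eq, Set.ncard_coe_finset]
      omega
    · rw [hexp i g, ← Finset.sum_sdiff hsub, Finset.sum_image fun a _ b _ hab => hyinj hab, hwy,
        add_comm, finsum_mem_coe_finset, ← hXf]
      congr 1
      exact Finset.sum_congr rfl fun χ hχ => by rw [hconst χ hχ i]
  rcases eq_or_ne R 0 with hR' | hR'
  · refine hdata y z hyinj rfl hz fun i g => ?_
    rw [Finset.sum_eq_single i]
    · rw [hval, hrconst, hR', if_pos rfl]; simp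
    · intro j _ hj
      rw [hval, hrconst, hR', if_neg (Ne.symm hj)]; simp
    · simp
  · have h2 : t * R + 2 * z = 0 := by
      have : R * (t * R + 2 * z) = 0 := by linarith
      exact (mul_eq_zero.1 this).resolve_left hR'
    have hRz : R = -z ∧ t = 2 := by
      rcases hz with h | h <;> subst h
      · have h4 : R < 0 := by nlinarith
        have h5 : R = -1 := by nlinarith
        exact ⟨h5, by rw [h5] at h2; linarith⟩
      · have h4 : 0 < R := by nlinarith
        have h5 : R = 1 := by nlinarith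
        exact ⟨by omega, by rw [h5] at h2; linarith⟩
    have hc2 : Fintype.card ι = 2 := by
      have := hRz.2
      rw [ht] at this
      exact_mod_cast this
    obtain ⟨a, b, hab, huniv⟩ := Finset.card_eq_two.1 (Finset.card_univ.trans hc2)
    refine hdata (y ∘ Equiv.swap a b) (-z) (hyinj.comp (Equiv.injective _)) ?_
      (hz.symm.imp (fun h => by rw [h]; norm_num) (fun h => by rw [h])) fun i g => ?_
    · rw [← Finset.image_image, Finset.image_univ_equiv]
    · have hi : i = a ∨ i = b := by
        have := Finset.mem_univ i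
        rw [huniv] at this
        simpa using this
      rw [huniv, Finset.sum_pair hab, hval, hval, hrconst a, hrconst b, hRz.1, Function.comp_apply]
      rcases hi with rfl | rfl
      · rw [Equiv.swap_apply_left, if_pos rfl, if_neg hab]; simp
      · rw [Equiv.swap_apply_right, if_pos rfl, if_neg hab.symm]; simp

end CycVectors

end Cfsg.Lib.Block
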