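import Cfsg.Agent.Lib.Block.CyclicSimples

/-!
# The rank is at least the number of defect-zero characters over a subgroup of order `p`, II

Each defect-zero character of `N(⟨t⟩)/⟨t⟩` seen by the Brauer image of a block has a witness in
the block part of the permutation module on the cosets of `⟨t⟩`, hence in a simple module of the
block.
-/

set_option autoImplicit false
set_option linter.unusedSectionVars false
set_option maxHeartbeats 1000000

namespace Cfsg.Lib.Block

open Cfsg
open scoped ComplexConjugate

universe u v w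

noncomputable local instance (priority := high) fintypeSubgroupCyclicWitness {A : Type u}
    [Group A] [Fintype A] (H : Subgroup A) : Fintype H := Fintype.ofFinite H

variable {p : ℕ} [Fact p.Prime] {M : Ideal AlgInt} {G : Type u} [Group G] [Fintype G]
  (hM : IsPModular p M) {t : G}

/-! ## Transport of witnesses and of the block condition -/

section Transport

variable {W : Type v} [AddCommGroup W] [Module (resField hM) W] {W' : Type w} [AddCommGroup W']
  [Module (resField hM) W'] {ρ : Representation (resField hM) G W}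
  {ρ' : Representation (resField hM) G W'}

theorem map_blockOp {φ : W →ₗ[resField hM] W'} (hφ : ∀ g x, φ (ρ g x) = ρ' g (φ x))
    (B : Set (IrrCharacter G)) (x : W) : φ (blockOp hM B ρ x) = blockOp hM B ρ' (φ x) := by
  simp [blockOp, LinearMap.sum_apply, hφ]

theorem blockOp_eq_one_of_injective {φ : W →ₗ[resField hM] W'} (hi : Function.Injective φ)
    (hφ : ∀ g x, φ (ρ g x) = ρ' g (φ x)) {B : Set (IrrCharacter G)}
    (h : blockOp hM B ρ' = 1) : blockOp hM B ρ = 1 := by
  refine LinearMap.ext fun x => hi ?_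
  rw [map_blockOp hM hφ, h]
  rfl

theorem blockOp_eq_one_of_surjective {φ : W →ₗ[resField hM] W'} (hs : Function.Surjective φ)
    (hφ : ∀ g x, φ (ρ g x) = ρ' g (φ x)) {B : Set (IrrCharacter G)}
    (h : blockOp hM B ρ = 1) : blockOp hM B ρ' = 1 := by
  refine LinearMap.ext fun y => ?_
  obtain ⟨x, rfl⟩ := hs y
  rw [← map_blockOp hM hφ, h]
  rfl

theorem isWitness_of_equiv (e : W ≃ₗ[resField hM] W') (he : ∀ g x, e (ρ g x) = ρ' g (e x))
    {η : IrrCharacter (NQuot t)} (h : IsWitness hM ρ t η) : IsWitness hM ρ' t η := by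
  obtain ⟨x, hx, hxt⟩ := h
  have he' : ∀ g y, e.symm.toLinearMap (ρ' g y) = ρ g (e.symm.toLinearMap y) := fun g y => by
    refine e.injective ?_
    simp [he]
  refine ⟨e x, map_ker_shift t ρ (φ := e.toLinearMap) he hx, fun h => hxt ?_⟩
  have h1 := map_topSub t ρ' (φ := e.symm.toLinearMap) he' h
  rwa [map_nOp t ρ' (φ := e.symm.toLinearMap) he', LinearEquiv.coe_coe, e.symm_apply_apply] at h1

end Transport

/-! ## Auxiliary representations -/

section Aux

variable {k : Type} [Field k] {W : Type v} [AddCommGroup W] [Module k W]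

theorem exists_coordinates [FiniteDimensional k W] (ρ : Representation k G W) :
    ∃ (n : ℕ) (σ : Representation k G (Fin n → k)) (e : W ≃ₗ[k] (Fin n → k)),
      (∀ g x, e (ρ g x) = σ g (e x)) ∧ (ρ.IsIrreducible → σ.IsIrreducible) := by
  let e : W ≃ₗ[k] (Fin (Module.finrank k W) → k) := (Module.finBasis k W).equivFun
  let σ : Representation k G (Fin (Module.finrank k W) → k) :=
    { toFun := fun g => e.conj (ρ g)
      map_one' := by ext x; simp
      map_mul' := fun a b => by ext x; simp [map_mul] }
  have he : ∀ g x, e (ρ g x) = σ g (e x) := fun g x => by simp [σ, LinearEquiv.conj_apply]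
  exact ⟨_, σ, e, he, Cfsg.Lib.Char.isIrreducible_of_equiv
    (Representation.Equiv.mk e fun g => LinearMap.ext fun x => he g x)⟩

/-- The representation on the quotient by an invariant subspace. -/
def quotRep (ρ : Representation k G W) (U : Submodule k W) (h : ∀ g, ∀ v ∈ U, ρ g v ∈ U) :
    Representation k G (W ⧸ U) where
  toFun g := U.mapQ U (ρ g) (h g)
  map_one' := by ext y; simp
  map_mul' g g' := by ext y; simp

theorem quotRep_mkQ (ρ : Representation k G W) (U : Submodule k W)
    (h : ∀ g, ∀ v ∈ U, ρ g v ∈ U) (g : G) (y : W) :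
    U.mkQ (ρ g y) = quotRep ρ U h g (U.mkQ y) := rfl

/-- The representation on an invariant subspace. -/
def subRep (ρ : Representation k G W) (U : Submodule k W) (h : ∀ g, ∀ v ∈ U, ρ g v ∈ U) :
    Representation k G U where
  toFun g := (ρ g).restrict (h g)
  map_one' := by ext y; simp
  map_mul' g g' := by ext y; simp

theorem subRep_subtype (ρ : Representation k G W) (U : Submodule k W)
    (h : ∀ g, ∀ v ∈ U, ρ g v ∈ U) (g : G) (y : U) :
    U.subtype (subRep ρ U h g y) = ρ g (U.subtype y) := rfl

end Aux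

/-! ## A simple module with a witness -/

variable (ht : orderOf t = p)

include ht in
/-- A witness descends to an irreducible subquotient. -/
theorem exists_irreducible_witness {B : Set (IrrCharacter G)} {η : IrrCharacter (NQuot t)}
    (hη : IsDefectZero p η) : ∀ (m : ℕ) {W : Type v} [AddCommGroup W] [Module (resField hM) W]
      [FiniteDimensional (resField hM) W] (ρ : Representation (resField hM) G W),
      Module.finrank (resField hM) W ≤ m → blockOp hM B ρ = 1 → IsWitness hM ρ t η →
      ∃ (n : ℕ) (σ : Representation (resField hM) G (Fin n → resField hM)),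
        σ.IsIrreducible ∧ blockOp hM B σ = 1 ∧ IsWitness hM σ t η := by
  classical
  haveI := charP_resField hM
  have htp : t ^ p = 1 := ht ▸ pow_orderOf_eq_one t
  intro m
  induction m with
  | zero =>
    intro W _ _ _ ρ hm _ hw
    obtain ⟨x, -, hxt⟩ := hw
    haveI : Subsingleton W := Module.finrank_zero_iff.1 (Nat.le_zero.1 hm)
    exact absurd (Subsingleton.elim (0 : W) (nOp t ρ (eK hM η) x) ▸ zero_mem _) hxt
  | succ m ih =>
    intro W _ _ _ ρ hm hb hw
    by_cases hirr : ρ.IsIrreducible
    · obtain ⟨n, σ, e, he, hσ⟩ := exists_coordinates ρ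
      exact ⟨n, σ, hσ hirr, blockOp_eq_one_of_surjective hM (φ := e.toLinearMap) e.surjective he hb,
        isWitness_of_equiv hM e he hw⟩
    · obtain ⟨x, hx, hxt⟩ := hw
      set z := nOp t ρ (eK hM η) x with hz
      haveI : Nontrivial W := ⟨⟨z, 0, fun h => hxt (h ▸ zero_mem _)⟩⟩
      obtain ⟨U, hinv, hU0, hU⟩ : ∃ U : Submodule (resField hM) W,
          (∀ g, ∀ v ∈ U, ρ g v ∈ U) ∧ U ≠ ⊥ ∧ U ≠ ⊤ := by
        by_contra h
        refine hirr ((Cfsg.Lib.Char.isIrreducible_iff_submodule ρ).2 ⟨inferInstance, fun U hi => ?_⟩)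
        by_contra h'
        rw [not_or] at h'
        exact h ⟨U, hi, h'⟩
      have hπ := quotRep_mkQ ρ U hinv
      have hι := subRep_subtype ρ U hinv
      have hsum := Submodule.finrank_quotient_add_finrank U
      by_cases hq : U.mkQ z ∈ topSub (quotRep ρ U hinv) t p
      · obtain ⟨w, hw⟩ := hq
        obtain ⟨w, rfl⟩ := U.mkQ_surjective w
        rw [← map_shift_pow t ρ hπ, Submodule.mkQ_apply, Submodule.mkQ_apply,
          Submodule.Quotient.eq] at hw
        set s : W := z - (shiftOp ρ t ^ (p - 1)) w with hs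
        have hsU : s ∈ U := by
          rw [hs, ← neg_sub]
          exact U.neg_mem hw
        have htopz : (shiftOp ρ t ^ (p - 1)) w ∈ layerSub ρ t (p - 1) :=
          topSub_eq_layer ρ t (p := p) htp ▸ (⟨w, rfl⟩ : _ ∈ topSub ρ t p)
        have hsk : s ∈ LinearMap.ker (shiftOp ρ t) :=
          sub_mem (nOp_ker t ρ _ hx) htopz.1
        have hzz : nOp t ρ (eK hM η) z = z := by
          rw [hz, nOp_nOp t ρ _ _ hx]
          congr 2
          funext q
          rw [eK_conv hM hη hη, if_pos rfl]
        have hst : nOp t ρ (eK hM η) s ∉ topSub ρ t p := by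
          intro h
          refine hxt ?_
          have h2 : nOp t ρ (eK hM η) ((shiftOp ρ t ^ (p - 1)) w) ∈ topSub ρ t p := by
            rw [topSub_eq_layer ρ t (p := p) htp]
            exact nOp_layer t ρ _ htopz
          have h3 := add_mem h h2
          rwa [← map_add, hs, sub_add_cancel, hzz] at h3
        refine ih (subRep ρ U hinv) ?_
          (blockOp_eq_one_of_injective hM (φ := U.subtype) U.injective_subtype hι hb)
          ⟨⟨s, hsU⟩, ?_, fun h => hst ?_⟩
        · have : 0 < Module.finrank (resField hM) (W ⧸ U) := Module.finrank_pos_iff.2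
            (Submodule.Quotient.nontrivial_iff.2 hU)
          omega
        · rw [LinearMap.mem_ker]
          refine U.injective_subtype ?_
          rw [map_shift t _ hι, map_zero]
          exact hsk
        · have h1 := map_topSub t _ hι h
          rwa [map_nOp t _ hι] at h1
      · refine ih (quotRep ρ U hinv) ?_
          (blockOp_eq_one_of_surjective hM (φ := U.mkQ) U.mkQ_surjective hπ hb)
          ⟨U.mkQ x, map_ker_shift t ρ hπ hx, by rwa [← map_nOp t ρ hπ]⟩
        have : 0 < Module.finrank (resField hM) U := by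
          rw [Nat.pos_iff_ne_zero, ne_eq, Submodule.finrank_eq_zero]
          exact hU0
        omega

/-! ## The witness in the permutation module -/

/-- The permutation module on the cosets of a subgroup. -/
def cosetRep (k : Type) [Field k] (P : Subgroup G) : Representation k G (G ⧸ P → k) where
  toFun g := LinearMap.funLeft k k fun q => g⁻¹ • q
  map_one' := by
    ext f q
    simp [LinearMap.funLeft_apply]
  map_mul' g h := by
    ext f q
    simp [LinearMap.funLeft_apply, mul_smul]

theorem cosetRep_apply {k : Type} [Field k] {P : Subgroup G} (g : G) (f : G ⧸ P → k) (q : G ⧸ P) :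
    cosetRep k P g f q = f (g⁻¹ • q) := rfl

/-- Inflation to the normalizer. -/
noncomputable def nInfl (η : IrrCharacter (NQuot t)) :
    IrrCharacter (Subgroup.normalizer (Subgroup.zpowers t : Set G)) :=
  ⟨fun n => (η : NQuot t → ℂ) (n : NQuot t),
    Cfsg.Lib.Char.isIrrCharacter_inflate (N := (Subgroup.zpowers t).subgroupOf
      (Subgroup.normalizer (Subgroup.zpowers t : Set G))) η.2⟩

theorem nInfl_apply (η : IrrCharacter (NQuot t))
    (n : Subgroup.normalizer (Subgroup.zpowers t : Set G)) :
    ((nInfl η : IrrCharacter _) : _ → ℂ) n = (η : NQuot t → ℂ) (n : NQuot t) := rfl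

include ht in
open Classical in
/-- A witness in the block part of the permutation module. -/
theorem exists_perm_witness {B : Set (IrrCharacter G)} (hB : IsPBlock M B)
    {η : IrrCharacter (NQuot t)} (hη : IsDefectZero p η)
    (hbr : res hM (brVec (Subgroup.zpowers t) (Subgroup.normalizer (Subgroup.zpowers t : Set G))
      (indVec B) (nInfl η)) = 1) :
    ∃ (U : Submodule (resField hM) (G ⧸ Subgroup.zpowers t → resField hM))
      (h : ∀ g, ∀ v ∈ U, cosetRep (resField hM) (Subgroup.zpowers t) g v ∈ U),
      blockOp hM B (subRep _ U h) = 1 ∧ IsWitness hM (subRep _ U h) t η := by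
  haveI := charP_resField hM
  set k := resField hM
  set P := Subgroup.zpowers t with hP
  set N := Subgroup.normalizer (P : Set G) with hN
  set ρ := cosetRep k P with hρ
  set E := blockOp hM B ρ with hE
  have hbm := blockCoeff_mem_locRing hM hB
  have hEg : ∀ g x, E (ρ g x) = ρ g (E x) := by
    intro g x
    simp only [hE, blockOp, LinearMap.sum_apply, LinearMap.smul_apply, map_sum, map_smul,
      ← Module.End.mul_apply, ← map_mul]
    refine Fintype.sum_equiv (MulAut.conj g⁻¹).toEquiv _ _ fun y => ?_
    simp only [MulEquiv.toEquiv_eq_coe, MulEquiv.coe_toEquiv, MulAut.conj_apply,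
      blockCoeff_conj_invariant]
    congr 3
    group
  have hEE : ∀ x, E (E x) = E x := by
    intro x
    simp only [hE, blockOp, LinearMap.sum_apply, LinearMap.smul_apply, map_sum, map_smul,
      Finset.smul_sum, smul_smul, ← Module.End.mul_apply, ← map_mul]
    rw [Finset.sum_comm]
    refine (Finset.sum_congr rfl fun g _ => Fintype.sum_equiv (Equiv.mulLeft g) _
      (fun y => (res hM (blockCoeff B g) * res hM (blockCoeff B (g⁻¹ * y))) • ρ y x) fun y => by
        simp [mul_comm]).trans ?_
    rw [Finset.sum_comm]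
    refine Finset.sum_congr rfl fun y _ => ?_
    rw [← Finset.sum_smul, Finset.sum_congr rfl fun g _ => (res_mul hM (hbm g) (hbm _)).symm,
      ← res_sum hM _ _ fun g _ => mul_mem (hbm g) (hbm _), sum_blockCoeff_mul]
  set U := LinearMap.range E with hUdef
  have hinv : ∀ g, ∀ v ∈ U, ρ g v ∈ U := by
    rintro g _ ⟨w, rfl⟩
    exact ⟨ρ g w, hEg g w⟩
  have hι := subRep_subtype ρ U hinv
  refine ⟨U, hinv, LinearMap.ext fun y => U.injective_subtype ?_, ?_⟩
  · obtain ⟨_, w, rfl⟩ := y
    rw [map_blockOp hM hι]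
    exact hEE w
  set δ : G ⧸ P → k := Pi.single ((1 : G) : G ⧸ P) 1 with hδ
  have hfix : ∀ (n : G), n ∈ N → ∀ i : ℕ, (t ^ i)⁻¹ • (n : G ⧸ P) = (n : G ⧸ P) := by
    intro n hn i
    show (((t ^ i)⁻¹ * n : G) : G ⧸ P) = _
    rw [QuotientGroup.eq]
    have := (Subgroup.mem_normalizer_iff.1 (inv_mem hn) (t ^ i)).1
      (pow_mem (Subgroup.mem_zpowers t) i)
    simpa [mul_assoc] using this
  have hxU : E δ ∈ U := ⟨δ, rfl⟩
  have hxk : E δ ∈ LinearMap.ker (shiftOp ρ t) := by
    rw [mem_ker_shift, ← hEg]
    congr 1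
    funext q
    rw [hρ, cosetRep_apply, hδ, Pi.single_apply, Pi.single_apply]
    refine if_congr ?_ rfl rfl
    rw [inv_smul_eq_iff]
    have h1 : t • ((1 : G) : G ⧸ P) = ((1 : G) : G ⧸ P) := by
      show ((t * 1 : G) : G ⧸ P) = _
      rw [QuotientGroup.eq, mul_one, mul_one]
      exact inv_mem (Subgroup.mem_zpowers t)
    rw [h1]
  have hxker : (⟨E δ, hxU⟩ : U) ∈ LinearMap.ker (shiftOp (subRep ρ U hinv) t) := by
    rw [LinearMap.mem_ker]
    refine U.injective_subtype ?_
    rw [map_shift t _ hι, map_zero]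
    exact hxk
  refine ⟨⟨E δ, hxU⟩, hxker, fun h => ?_⟩
  have h1 := map_topSub t _ hι h
  rw [map_nOp t _ hι] at h1
  obtain ⟨w, hw⟩ := h1
  obtain ⟨a₀, ha₀⟩ := exists_eK_ne_zero hM hη
  obtain ⟨n, rfl⟩ := QuotientGroup.mk_surjective a₀
  refine ha₀ ?_
  -- the top vanishes at fixed cosets
  have hz0 : nOp t ρ (eK hM η) (E δ) ((n : G) : G ⧸ P) = 0 := by
    rw [show E δ = U.subtype ⟨E δ, hxU⟩ from rfl, ← hw, shiftOp_pow_pred, LinearMap.sum_apply, Finset.sum_apply]
    simp only [hρ, cosetRep_apply, hfix _ n.2, Finset.sum_const, Finset.card_range,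
      nsmul_eq_mul, CharP.cast_eq_zero, zero_mul]
  -- the value at a fixed coset
  set ψ := nInfl η
  set bc : N → k := fun h => res hM (blockCoeff B (h : G)) with hbc
  have hval : nOp t ρ (eK hM η) (E δ) ((n : G) : G ⧸ P) =
      ∑ h : N, bc h * eK hM η ((n : NQuot t) * (h : NQuot t)⁻¹) := by
    simp only [nOp, hE, blockOp, LinearMap.sum_apply, LinearMap.smul_apply, Finset.sum_apply,
      Pi.smul_apply, smul_eq_mul, hρ, cosetRep_apply, hδ, Pi.single_apply, Finset.mul_sum,
      mul_ite, mul_one, mul_zero]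
    refine (Finset.sum_congr rfl fun a _ => Finset.mul_sum _ _ _).trans ?_
    simp only [mul_ite, mul_zero]
    rw [Finset.sum_comm]
    rw [← Finset.sum_subset (Finset.subset_univ (Finset.univ.filter fun g : G => g ∈ N))
      (fun g _ hg => Finset.sum_eq_zero fun a _ => if_neg fun h => hg (Finset.mem_filter.2
        ⟨Finset.mem_univ _, ?_⟩)),
      Finset.sum_subtype (p := fun g => g ∈ N) (F := inferInstance)
        (Finset.univ.filter fun g : G => g ∈ N) (fun g => by simp)]
    · refine Finset.sum_congr (by ext; simp) fun h _ => ?_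
      rw [Finset.sum_eq_single ((n : NQuot t) * (h : NQuot t)⁻¹)]
      · rw [if_pos, mul_comm]
        show (((h : G)⁻¹ * ((nRep t _)⁻¹ * (n : G)) : G) : G ⧸ P) = _
        rw [QuotientGroup.eq]
        obtain ⟨⟨z, hz⟩, hze⟩ := QuotientGroup.mk_out_eq_mul
          ((Subgroup.zpowers t).subgroupOf N) (n * h⁻¹)
        have hzP : (z : G) ∈ P := Subgroup.mem_subgroupOf.1 hz
        rw [← QuotientGroup.mk_inv, ← QuotientGroup.mk_mul, nRep, hze]
        have := (Subgroup.mem_normalizer_iff.1 (inv_mem h.2) (z : G)).1 hzP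
        simpa [mul_assoc] using this
      · intro a _ hne
        refine if_neg fun he => hne ?_
        change (((h : G)⁻¹ * ((nRep t a)⁻¹ * (n : G)) : G) : G ⧸ P) = _ at he
        rw [QuotientGroup.eq] at he
        have hmem : ((n⁻¹ * a.out * h : N) : G) ∈ P := by simpa [nRep, mul_assoc] using he
        have h3 : ((n⁻¹ * a.out * h : N) : NQuot t) = 1 :=
          (QuotientGroup.eq_one_iff _).2 (Subgroup.mem_subgroupOf.2 hmem)
        rw [QuotientGroup.mk_mul, QuotientGroup.mk_mul, QuotientGroup.mk_inv,
          QuotientGroup.out_eq', mul_assoc, inv_mul_eq_one] at h3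
        rw [h3, mul_inv_cancel_right]
      · simp
    · change ((g⁻¹ * ((nRep t a)⁻¹ * (n : G)) : G) : G ⧸ P) = _ at h
      rw [QuotientGroup.eq, mul_one] at h
      have h4 := mul_mem (mul_mem (inv_mem (nRep_mem t a)) n.2)
        (Subgroup.le_normalizer (H := P) h)
      simpa [mul_assoc] using h4
  -- only the centralizer of `t` contributes
  set C := Subgroup.centralizer (P : Set G) with hC
  have hcomm : ∀ h : N, (h : G) ∈ C ↔ Commute t (h : G) := by
    intro h
    rw [hC, hP, Subgroup.mem_centralizer_iff]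
    refine ⟨fun h1 => h1 t (Subgroup.mem_zpowers t), fun h1 z hz => ?_⟩
    obtain ⟨i, rfl⟩ := exists_pow_eq t hz
    exact h1.pow_left i
  let tn : N := ⟨t, Subgroup.le_normalizer (Subgroup.mem_zpowers t)⟩
  let σ : Equiv.Perm N := (MulAut.conj tn).toEquiv
  have hσp : σ ^ p = 1 := by
    have htp : t ^ p = 1 := ht ▸ pow_orderOf_eq_one t
    have htn : tn ^ p = 1 := Subtype.ext (by simpa [tn] using htp)
    have hpow : ∀ (i : ℕ) (h : N), (σ ^ i) h = tn ^ i * h * (tn ^ i)⁻¹ := by
      intro i
      induction i with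
      | zero => intro h; simp
      | succ i ih =>
        intro h
        rw [pow_succ', Equiv.Perm.mul_apply, ih]
        simp [σ, pow_succ', mul_assoc]
    ext h
    rw [hpow, htn]
    simp
  have hfree : ∑ h ∈ Finset.univ.filter (fun h : N => (h : G) ∉ C),
      bc h * eK hM η ((n : NQuot t) * (h : NQuot t)⁻¹) = 0 := by
    have htop := sum_free_mem_top (W := k) (Representation.trivial k G k) t σ hσp
      (fun h => bc h * eK hM η ((n : NQuot t) * (h : NQuot t)⁻¹)) ?_
      (Finset.univ.filter fun h : N => (h : G) ∉ C) ?_ ?_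
    · obtain ⟨w, hw⟩ := htop
      rw [← hw, shiftOp_pow_pred, LinearMap.sum_apply]
      simp
    · intro h
      have ht1 : ((σ h : N) : NQuot t) = (h : NQuot t) := by
        have : ((tn : N) : NQuot t) = 1 :=
          (QuotientGroup.eq_one_iff _).2 (Subgroup.mem_subgroupOf.2 (Subgroup.mem_zpowers t))
        simp [σ, this]
      rw [ht1, Representation.trivial_apply]
      congr 1
      simp [hbc, σ, tn, blockCoeff_conj_invariant]
    · intro h hh
      refine Finset.mem_filter.2 ⟨Finset.mem_univ _, fun h1 => (Finset.mem_filter.1 hh).2 ?_⟩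
      rw [hcomm] at h1 ⊢
      simp only [σ, MulEquiv.toEquiv_eq_coe, MulEquiv.coe_toEquiv, MulAut.conj_apply,
        Subgroup.coe_mul, InvMemClass.coe_inv, tn] at h1
      exact (Commute.conj_iff (a := (t : G)) (b := (h : G)) t).1 (by simpa [mul_assoc] using h1)
    · intro h hh h1
      refine (Finset.mem_filter.1 hh).2 ((hcomm h).2 ?_)
      have := congrArg Subtype.val h1
      simp only [σ, MulEquiv.toEquiv_eq_coe, MulEquiv.coe_toEquiv, MulAut.conj_apply,
        Subgroup.coe_mul, InvMemClass.coe_inv, tn] at this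
      exact mul_inv_eq_iff_eq_mul.1 this
  have hsplit : ∑ h : N, bc h * eK hM η ((n : NQuot t) * (h : NQuot t)⁻¹) =
      ∑ h ∈ Finset.univ.filter (fun h : N => (h : G) ∈ C),
        bc h * eK hM η ((n : NQuot t) * (h : NQuot t)⁻¹) := by
    rw [← Finset.sum_filter_add_sum_filter_not Finset.univ (fun h : N => (h : G) ∈ C), hfree,
      add_zero]
  have hC2 : ∑ h ∈ Finset.univ.filter (fun h : N => (h : G) ∈ C),
      bc h * eK hM η ((n : NQuot t) * (h : NQuot t)⁻¹) = eK hM η (n : NQuot t) := by
    have hem := blockCoeff_mem_locRing hM (isPBlock_singleton hM hη)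
    set f := brF P N (zc (indVec B)) with hf
    have hfm : ∀ h, f h ∈ locRing hM := brF_mem_locRing hM fun g => by
      rw [zc_indVec]; exact hbm g
    have key : ∑ h : N, f h * blockCoeff ({η} : Set (IrrCharacter (NQuot t)))
        ((n : NQuot t) * (h : NQuot t)⁻¹) =
        brVec P N (indVec B) ψ * blockCoeff ({η} : Set (IrrCharacter (NQuot t))) (n : NQuot t) := by
      have h1 := sum_mul_shift (isClassFunction_brF le_rfl
        (fun g x => zc_conj_invariant (indVec B) g x) : IsClassFunction N f) ψ n⁻¹
      simp only [blockCoeff_singleton, ← η.2.isCharacter.apply_inv, mul_inv_rev, inv_inv]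
      rw [brVec, ← hf, show vec f ψ * ((Nat.card (NQuot t) : ℂ)⁻¹ * ((η : NQuot t → ℂ) 1 *
          (η : NQuot t → ℂ) (n : NQuot t)⁻¹)) = (Nat.card (NQuot t) : ℂ)⁻¹ *
          ((η : NQuot t → ℂ) 1 * (vec f ψ * (ψ : N → ℂ) n⁻¹)) by
        rw [nInfl_apply, QuotientGroup.mk_inv]; ring, ← h1, Finset.mul_sum, Finset.mul_sum]
      refine Finset.sum_congr rfl fun h _ => ?_
      rw [nInfl_apply, QuotientGroup.mk_mul, QuotientGroup.mk_inv]
      ring
    have hbv : brVec P N (indVec B) ψ ∈ locRing hM :=
      apply_mem_locRing hM (vInt_brVec hM le_rfl (vInt_indVec hM hB)) ψ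
    have h2 := congrArg (res hM) key
    rw [res_mul hM hbv (hem _), hbr, one_mul, res_sum hM _ _ fun h _ => mul_mem (hfm h) (hem _)]
      at h2
    rw [Finset.sum_filter]
    refine Eq.trans (Finset.sum_congr rfl fun h _ => ?_) h2
    rw [res_mul hM (hfm h) (hem _)]
    split_ifs with hh
    · rw [hf, brF_of_mem hh, zc_indVec]
      rfl
    · rw [hf, brF_of_notMem hh, res_zero, zero_mul]
  rw [← hC2, ← hsplit, ← hval, hz0]

include ht in
/-- The rank of a block is at least the number of defect-zero characters of the quotient seen by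
its Brauer image. -/
theorem card_le_blockRank {B : Set (IrrCharacter G)} (hB : IsPBlock M B)
    (S : Finset (IrrCharacter (NQuot t))) (hS : ∀ η ∈ S, IsDefectZero p η)
    (hbr : ∀ η ∈ S, res hM (brVec (Subgroup.zpowers t)
      (Subgroup.normalizer (Subgroup.zpowers t : Set G)) (indVec B) (nInfl η)) = 1) :
    S.card ≤ blockRank p B := by
  classical
  have key : ∀ η : S, ∃ (n : ℕ) (σ : Representation (resField hM) G (Fin n → resField hM)),
      σ.IsIrreducible ∧ blockOp hM B σ = 1 ∧ IsWitness hM σ t η.1 := by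
    intro η
    obtain ⟨U, hinv, hb, hw⟩ := exists_perm_witness hM ht hB (hS _ η.2) (hbr _ η.2)
    exact exists_irreducible_witness hM ht (hS _ η.2) _ (subRep _ U hinv) le_rfl hb hw
  choose n σ hirr hblock hw using key
  rw [← Fintype.card_coe]
  refine card_simples_le_blockRank hM hB σ hirr (fun i j hij => ⟨fun e => hij (Subtype.ext ?_)⟩) hblock
  have he : ∀ g x, e.toLinearEquiv (σ i g x) = σ j g (e.toLinearEquiv x) := fun g x =>
    LinearMap.congr_fun (e.toIntertwiningMap.isIntertwining' g) x
  exact eq_of_witness hM ht (σ j) (hirr j) (hS _ i.2) (hS _ j.2)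
    (isWitness_of_equiv hM (ρ := σ i) (ρ' := σ j) e.toLinearEquiv he (hw i)) (hw j)

end Cfsg.Lib.Block
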