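import Cfsg.Agent.Lib.Block.CyclicPrimeLocal
import Cfsg.Agent.Lib.Block.CyclicWitness
import Cfsg.Agent.Lib.Block.CyclicVectors
import Cfsg.Agent.Lib.Block.CyclicSplit
import Cfsg.Agent.Lib.Block.CyclicConstituents
import Cfsg.Agent.Lib.Block.Induced

/-!
# Blocks with a defect group of order `p`
-/

set_option autoImplicit false
set_option linter.unusedSectionVars false
set_option maxHeartbeats 1000000

namespace Cfsg.Lib.Block

open Cfsg
open scoped ComplexConjugate

universe u

noncomputable local instance (priority := high) fintypeSubgroupCyclicPrime {A : Type u}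
    [Group A] [Fintype A] (H : Subgroup A) : Fintype H := Fintype.ofFinite H

local notation "C[" P "]" => Subgroup.centralizer (SetLike.coe P)

variable {p : ℕ} [Fact p.Prime] {M : Ideal AlgInt} {G : Type u} [Group G] [Fintype G]
  (hM : IsPModular p M) {B : Set (IrrCharacter G)} {P : Subgroup G}
  {b : Set (IrrCharacter C[P])}

theorem normalMK (P : Subgroup G) :
    ((C[P]).subgroupOf (Subgroup.normalizer (P : Set G))).Normal := by
  rw [← Subgroup.normalizerMonoidHom_ker]
  infer_instance

theorem relIndex_centralizer_dvd (hcard : Nat.card P = p) :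
    (C[P]).relIndex (Subgroup.normalizer (P : Set G)) ∣ p - 1 := by
  haveI := isCyclic_of_prime_card hcard
  have h := Subgroup.card_dvd_of_injective _ (QuotientGroup.kerLift_injective P.normalizerMonoidHom)
  rw [Subgroup.normalizerMonoidHom_ker, IsCyclic.card_mulAut, hcard,
    Nat.totient_prime (Fact.out : p.Prime), ← Subgroup.index_eq_card] at h
  exact h

theorem isCyclic_normalizer_quotient (hcard : Nat.card P = p)
    [((C[P]).subgroupOf (Subgroup.normalizer (P : Set G))).Normal] :
    IsCyclic (↥(Subgroup.normalizer (P : Set G)) ⧸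
      (C[P]).subgroupOf (Subgroup.normalizer (P : Set G))) := by
  haveI := isCyclic_of_prime_card hcard
  haveI : Fact (Nat.card P).Prime := ⟨hcard ▸ Fact.out⟩
  haveI : IsCyclic (MulAut P) :=
    isCyclic_of_injective (IsCyclic.mulAutMulEquiv P).toMonoidHom
      (IsCyclic.mulAutMulEquiv P).injective
  refine isCyclic_of_injective
    (QuotientGroup.lift _ P.normalizerMonoidHom (Subgroup.normalizerMonoidHom_ker P).ge) ?_
  rw [injective_iff_map_eq_one]
  intro q hq
  obtain ⟨g, rfl⟩ := QuotientGroup.mk_surjective q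
  refine (QuotientGroup.eq_one_iff _).2 ?_
  rw [← Subgroup.normalizerMonoidHom_ker]
  exact MonoidHom.mem_ker.2 hq

variable (hB : IsPBlock M B) (hD : IsDefectGroup p M B P) (hcard : Nat.card P = p)
  (hind : IsInducedBlock M C[P] b B)

include hM hB hD hcard hind

open Classical in
/-- The rank is at least the inertial index. -/
theorem le_blockRank_of_root {θ : IrrCharacter C[P]} (hθ : θ ∈ b)
    (hθP : ∀ z : C[P], (z : G) ∈ P → (θ : C[P] → ℂ) z = (θ : C[P] → ℂ) 1) (T : Subgroup G)
    (hT : ∀ g : G, g ∈ T ↔ g ∈ Subgroup.normalizer (P : Set G) ∧ StabilizesBlock C[P] b g) :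
    (C[P]).relIndex T ≤ blockRank p B := by
  obtain ⟨t, ht, rfl⟩ : ∃ t : G, orderOf t = p ∧ P = Subgroup.zpowers t := by
    haveI := isCyclic_of_prime_card hcard
    obtain ⟨g, hg⟩ := IsCyclic.exists_ofOrder_eq_natCard (α := P)
    have hg' : orderOf (g : G) = p := by rw [orderOf_submonoid, hg, hcard]
    refine ⟨g, hg', (zpowers_eq_of_mem hcard g.2 fun h => ?_).symm⟩
    rw [h, orderOf_one] at hg'
    exact (Fact.out : p.Prime).ne_one hg'.symm
  set N := Subgroup.normalizer ((Subgroup.zpowers t) : Set G) with hN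
  have hKN : C[Subgroup.zpowers t] ≤ N := Subgroup.centralizer_le_normalizer _
  have hPK : (Subgroup.zpowers t) ≤ C[Subgroup.zpowers t] := le_centralizer_self hcard
  have hPp : IsPGroup p (Subgroup.zpowers t) := isPGroup_defectGroup hM hD
  haveI hHn : (C[Subgroup.zpowers t].subgroupOf N).Normal := normalMK (Subgroup.zpowers t)
  set H := C[Subgroup.zpowers t].subgroupOf N with hH
  set ι : H ≃* C[Subgroup.zpowers t] := Subgroup.subgroupOfEquivOfLe hKN with hι
  set θH : H → ℂ := fun x => (θ : C[Subgroup.zpowers t] → ℂ) (ι x) with hθH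
  have hθHirr : IsIrrCharacter H θH := Char.isIrrCharacter_comp_equiv ι θ.2
  have hιval : ∀ x : H, ((ι x : C[Subgroup.zpowers t]) : G) = ((x : N) : G) := fun x => rfl
  have hinertia : Char.inertia H θH = T.subgroupOf N := by
    ext g
    rw [Char.mem_inertia_iff, Subgroup.mem_subgroupOf]
    constructor
    · intro h
      have hgK : (g : G) ∈ Subgroup.normalizer (C[Subgroup.zpowers t] : Set G) :=
        Subgroup.mem_normalizer_iff.2
          ((cycSystem hM hB hD hcard hind).conjMaps_of_normalizer g.2)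
      refine (hT _).2 ⟨g.2, (stabilizesBlock_iff hgK).2 ?_⟩
      have hm : θ ∈ conjSet (conjMaps_normalizer hgK) b := by
        show compIrr (conjIso (conjMaps_normalizer hgK)).symm.symm θ ∈ b
        rw [MulEquiv.symm_symm]
        convert hθ using 1
        refine Subtype.ext (funext fun k => ?_)
        rw [compIrr_apply]
        exact h ⟨⟨(k : G), hKN k.2⟩, k.2⟩
      exact isPBlock_eq_of_mem hM (isPBlock_conjSet _ hind.1) hind.1 hm hθ
    · intro h x
      exact root_trivial_fixed hM hB hD hcard hind hθ hθP g.2 ((hT _).1 h).2 (ι x) _ rfl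
  obtain ⟨S, hScard, hS⟩ := exists_constituents_of_cyclic H hθHirr (isCyclic_normalizer_quotient hcard)
  have hTN : T ≤ N := fun g hg => ((hT g).1 hg).1
  have hScard' : S.card = C[Subgroup.zpowers t].relIndex T := by
    rw [hScard, hinertia, hH, Subgroup.relIndex_subgroupOf hTN]
  -- the conjugates of `θ`
  have htw : ∀ φ ∈ Char.twistOrbit H θH, φ 1 = θH 1 ∧
      ∀ z : H, ((z : N) : G) ∈ (Subgroup.zpowers t) → φ z = φ 1 := by
    intro φ hφ
    obtain ⟨g, rfl⟩ := (Char.mem_twistOrbit H).1 hφ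
    refine ⟨Char.conjTwist_apply_one H θH g, fun z hz => ?_⟩
    rw [Char.conjTwist_apply_one, Char.conjTwist_apply]
    simp only [hθH, map_one]
    refine hθP _ ?_
    rw [hιval]
    simpa using (Subgroup.mem_normalizer_iff.1 g.2 _).1 hz
  have hψP : ∀ ψ ∈ S, ∀ n : N, (n : G) ∈ (Subgroup.zpowers t) → (ψ : N → ℂ) n = (ψ : N → ℂ) 1 := by
    intro ψ hψ n hn
    have hres := Char.clifford_res H ψ.2 hθHirr (hS ψ hψ)
    have h1 := congrFun hres ⟨n, Subgroup.mem_subgroupOf.2 (hPK hn)⟩
    have h2 := congrFun hres 1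
    simp only [Pi.smul_apply, Finset.sum_apply, OneMemClass.coe_one] at h1 h2
    rw [h1, h2]
    congr 1
    exact Finset.sum_congr rfl fun φ hφ => (htw φ hφ).2 _ hn
  have hkey : ∀ ψ ∈ S, ∃ η : IrrCharacter (NQuot t),
      ∀ n : N, (η : NQuot t → ℂ) (n : NQuot t) = (ψ : N → ℂ) n := by
    intro ψ hψ
    obtain ⟨η, hη, he⟩ := Char.exists_deflate_irr ((Subgroup.zpowers t).subgroupOf N) ψ.2
      fun n hn => hψP ψ hψ n (Subgroup.mem_subgroupOf.1 hn)
    exact ⟨⟨η, hη⟩, he⟩
  choose η hη using hkey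
  have hinfl : ∀ ψ (hψ : ψ ∈ S), nInfl (η ψ hψ) = ψ := fun ψ hψ =>
    Subtype.ext (funext fun n => hη ψ hψ n)
  set S' : Finset (IrrCharacter (NQuot t)) := S.attach.image fun ψ => η ψ.1 ψ.2 with hS'
  have hS'card : S'.card = S.card := by
    rw [hS', Finset.card_image_of_injective, Finset.card_attach]
    intro a c h
    refine Subtype.ext ?_
    rw [← hinfl a.1 a.2, ← hinfl c.1 c.2]
    exact congrArg nInfl h
  have hdz : ∀ ψ (hψ : ψ ∈ S), IsDefectZero p (η ψ hψ) := by
    intro ψ hψ
    have hdeg : charDegree (η ψ hψ : NQuot t → ℂ) = charDegree (ψ : N → ℂ) := by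
      apply Nat.cast_injective (R := ℂ)
      rw [← apply_one_eq_charDegree, ← apply_one_eq_charDegree, ← hη ψ hψ 1]
      rfl
    have hθdvd : charDegree (θ : C[Subgroup.zpowers t] → ℂ) ∣ charDegree (ψ : N → ℂ) := by
      obtain ⟨c, hc⟩ := (ψ.2.isCharacter.comp H.subtype).exists_nat_classInner hθHirr.isCharacter
      have h := Char.clifford_degree H ψ.2 hθHirr (hS ψ hψ)
      rw [show classInner (fun x : H => (ψ : N → ℂ) x) θH = (c : ℂ) from hc] at h
      refine ⟨c * (Char.inertia H θH).index, ?_⟩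
      apply Nat.cast_injective (R := ℂ)
      rw [← apply_one_eq_charDegree, h]
      rw [show θH 1 = (charDegree (θ : C[Subgroup.zpowers t] → ℂ) : ℂ) by
        rw [← apply_one_eq_charDegree θ]; simp [hθH]]
      push_cast
      ring
    have hN1 : Nat.card N = Nat.card C[Subgroup.zpowers t] * C[Subgroup.zpowers t].relIndex N := by
      rw [Subgroup.relIndex, ← Nat.card_congr (Subgroup.subgroupOfEquivOfLe hKN).toEquiv,
        Subgroup.card_mul_index]
    have hN2 : Nat.card N = p * Nat.card (NQuot t) := by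
      rw [show Nat.card (NQuot t) = ((Subgroup.zpowers t).subgroupOf N).index from (Subgroup.index_eq_card _).symm,
        ← hcard, ← Nat.card_congr (Subgroup.subgroupOfEquivOfLe (hPK.trans hKN)).toEquiv,
        Subgroup.card_mul_index]
    have hidx : (C[Subgroup.zpowers t].relIndex N).factorization p = 0 := by
      refine Nat.factorization_eq_zero_of_not_dvd fun h => ?_
      have h1 := h.trans (relIndex_centralizer_dvd hcard)
      have := Nat.le_of_dvd (Nat.sub_pos_of_lt (Fact.out : p.Prime).one_lt) h1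
      have := (Fact.out : p.Prime).pos
      omega
    have hidx0 : (C[Subgroup.zpowers t]).relIndex N ≠ 0 := Subgroup.index_ne_zero_of_finite
    have hv : (Nat.card (NQuot t)).factorization p + 1 = (Nat.card C[Subgroup.zpowers t]).factorization p := by
      have h := congrArg (fun x => x.factorization p) (hN2.symm.trans hN1)
      rw [Nat.factorization_mul (Fact.out : p.Prime).ne_zero Nat.card_pos.ne',
        Nat.factorization_mul Nat.card_pos.ne' hidx0] at h
      simp only [Finsupp.add_apply, hidx, add_zero, (Fact.out : p.Prime).factorization_self] at h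
      omega
    have hθv := root_factorization hM hB hD hcard hind hθ
    have h1 : (charDegree (η ψ hψ : NQuot t → ℂ)).factorization p ≤
        (Nat.card (NQuot t)).factorization p :=
      (Nat.factorization_le_iff_dvd (charDegree_pos _).ne' Nat.card_pos.ne').2
        (charDegree_dvd_card _) p
    have h2 : (charDegree (θ : C[Subgroup.zpowers t] → ℂ)).factorization p ≤
        (charDegree (η ψ hψ : NQuot t → ℂ)).factorization p := by
      rw [hdeg]
      exact (Nat.factorization_le_iff_dvd (charDegree_pos _).ne' (charDegree_pos _).ne').2 hθdvd p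
    rw [IsDefectZero]
    omega
  have hcls : IsClassFunction G (zc (indVec B)) := fun g x => zc_conj_invariant (indVec B) g x
  have hbrK : res hM (brVec (Subgroup.zpowers t) C[Subgroup.zpowers t] (indVec B) θ) = 1 := by
    obtain ⟨χ, hχ⟩ := nonempty_of_isPBlock hM hB
    exact (brRel_iff_mem hM hPp le_rfl hKN θ hB hχ).1
      (brRel_of_isInducedBlock hM hPp hPK le_rfl hKN hind hθ hχ)
  have hbr : ∀ ψ ∈ S, brVec (Subgroup.zpowers t) N (indVec B) ψ = brVec (Subgroup.zpowers t) C[Subgroup.zpowers t] (indVec B) θ := by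
    intro ψ hψ
    set fK := brF (Subgroup.zpowers t) C[Subgroup.zpowers t] (zc (indVec B)) with hfK
    have hf : ∀ h : H, brF (Subgroup.zpowers t) N (zc (indVec B)) (h : N) = fK (ι h) := fun h => by
      rw [hfK, brF_of_mem (h := (h : N)) (show ((h : N) : G) ∈ C[Subgroup.zpowers t] from h.2),
        brF_of_mem (h := ι h) (show ((ι h : C[Subgroup.zpowers t]) : G) ∈ C[Subgroup.zpowers t] from (ι h).2)]
      rfl
    have hsum : ∀ F : N → ℂ, ∑ n : N, brF (Subgroup.zpowers t) N (zc (indVec B)) n * F n =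
        ∑ h : H, fK (ι h) * F (h : N) := by
      intro F
      rw [← Finset.sum_subset (Finset.subset_univ (Finset.univ.filter fun n : N => n ∈ H))
          (fun n _ hn => by
            rw [brF_of_notMem fun h => hn (Finset.mem_filter.2 ⟨Finset.mem_univ _, h⟩), zero_mul]),
        Finset.sum_subtype (p := fun n : N => n ∈ H) (F := inferInstance)
          (Finset.univ.filter fun n : N => n ∈ H) (fun n => by simp)]
      exact Finset.sum_congr (by ext; simp) fun h _ => by rw [hf]
    have hφ : ∀ φ ∈ Char.twistOrbit H θH,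
        ∑ h : H, fK (ι h) * φ h = ∑ h : H, fK (ι h) * θH h := by
      intro φ hφ
      obtain ⟨g, rfl⟩ := (Char.mem_twistOrbit H).1 hφ
      refine Fintype.sum_equiv (MulAut.conjNormal g : MulAut H).toEquiv _ _ fun h => ?_
      have e : fK (ι ((MulAut.conjNormal g : MulAut H).toEquiv h)) = fK (ι h) := by
        rw [hfK, brF_of_mem (ι _).2, brF_of_mem (ι _).2]
        exact hcls ((h : N) : G) (g : G)
      rw [e, Char.conjTwist_apply]
      rfl
    have hθsum : ∑ h : H, fK (ι h) * θH h = ∑ k : C[Subgroup.zpowers t], fK k * (θ : C[Subgroup.zpowers t] → ℂ) k :=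
      Fintype.sum_equiv ι.toEquiv _ _ fun h => rfl
    have hres := Char.clifford_res H ψ.2 hθHirr (hS ψ hψ)
    set c := classInner (fun x : H => (ψ : N → ℂ) x) θH
    have hψ1 := congrFun hres 1
    simp only [Pi.smul_apply, Finset.sum_apply, OneMemClass.coe_one, smul_eq_mul] at hψ1
    rw [Finset.sum_congr rfl fun φ hφ => (htw φ hφ).1, Finset.sum_const, nsmul_eq_mul] at hψ1
    have hnum : ∑ n : N, brF (Subgroup.zpowers t) N (zc (indVec B)) n * (ψ : N → ℂ) n =
        c * (((Char.twistOrbit H θH).card : ℂ) * ∑ k : C[Subgroup.zpowers t], fK k * (θ : C[Subgroup.zpowers t] → ℂ) k) := by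
      rw [hsum, Finset.sum_congr rfl fun h _ => by rw [congrFun hres h]]
      simp only [Pi.smul_apply, Finset.sum_apply, smul_eq_mul]
      have h1 : ∑ h : H, fK (ι h) * (c * ∑ φ ∈ Char.twistOrbit H θH, φ h) =
          c * ∑ φ ∈ Char.twistOrbit H θH, ∑ h : H, fK (ι h) * φ h := by
        simp only [Finset.mul_sum]
        rw [Finset.sum_comm]
        exact Finset.sum_congr rfl fun φ _ => Finset.sum_congr rfl fun h _ => by ring
      rw [h1, Finset.sum_congr rfl hφ, Finset.sum_const, nsmul_eq_mul, hθsum]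
    show (∑ n : N, brF (Subgroup.zpowers t) N (zc (indVec B)) n * (ψ : N → ℂ) n) / (ψ : N → ℂ) 1 =
      (∑ k : C[Subgroup.zpowers t], fK k * (θ : C[Subgroup.zpowers t] → ℂ) k) / (θ : C[Subgroup.zpowers t] → ℂ) 1
    rw [hnum, hψ1, show θH 1 = (θ : C[Subgroup.zpowers t] → ℂ) 1 by simp [hθH], ← mul_assoc, ← mul_assoc,
      mul_div_mul_left]
    intro h0
    apply ψ.2.apply_one_ne_zero
    rw [hψ1, ← mul_assoc, h0, zero_mul]
  rw [← hScard', ← hS'card]
  refine card_le_blockRank hM ht hB S' (fun a ha => ?_) (fun a ha => ?_)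
  · obtain ⟨ψ, -, rfl⟩ := Finset.mem_image.1 ha
    exact hdz ψ.1 ψ.2
  · obtain ⟨ψ, -, rfl⟩ := Finset.mem_image.1 ha
    rw [hinfl, hbr ψ.1 ψ.2]
    exact hbrK

open Classical in
/-- Exceptional and non-exceptional characters of a block with defect group of order `p`. -/
theorem prime_split {θ : IrrCharacter C[P]} (hθ : θ ∈ b)
    (hθP : ∀ z : C[P], (z : G) ∈ P → (θ : C[P] → ℂ) z = (θ : C[P] → ℂ) 1) (T : Subgroup G)
    (hT : ∀ g : G, g ∈ T ↔ g ∈ Subgroup.normalizer (P : Set G) ∧ StabilizesBlock C[P] b g) :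
    ∃ (ι : Type u) (_ : Fintype ι) (τ : ι → G → ℂ) (X : Set (IrrCharacter G))
      (y : ι → IrrCharacter G) (δ : IrrCharacter G → ℤ) (δ₀ : ℤ),
      Fintype.card ι * (C[P]).relIndex T + 1 = p ∧ CycVectors p B ((C[P]).relIndex T) τ ∧
      Function.Injective y ∧ B = X ∪ Set.range y ∧ Disjoint X (Set.range y) ∧
      Nat.card X = (C[P]).relIndex T ∧
      (∀ χ ∈ X, δ χ = 1 ∨ δ χ = -1) ∧ (δ₀ = 1 ∨ δ₀ = -1) ∧
      (∀ i g, τ i g = (δ₀ : ℂ) * (y i : G → ℂ) g + ∑ᶠ χ ∈ X, (δ χ : ℂ) * (χ : G → ℂ) g) ∧
      blockRank p B = (C[P]).relIndex T ∧ Nat.card B = (C[P]).relIndex T + Fintype.card ι ∧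
      (∀ ψ ∈ b, ψ ≠ θ → ∃ i, indFun C[P] ((ψ : C[P] → ℂ) - (θ : C[P] → ℂ)) = τ i) ∧
      (∀ i, ∃ ψ ∈ b, ψ ≠ θ ∧ indFun C[P] ((ψ : C[P] → ℂ) - (θ : C[P] → ℂ)) = τ i) ∧
      ∀ F : G → ℂ, IsClassFunction G F →
        ∑ ψ ∈ b.toFinset, (classInner (fun k : C[P] => F k) (ψ : C[P] → ℂ) -
            classInner (fun k : C[P] => F k) (θ : C[P] → ℂ)) =
          ((C[P]).relIndex T : ℂ) * ∑ i, classInner F (τ i) := by
  have D := cycSystem hM hB hD hcard hind
  obtain ⟨ι, hι, τ, hf, hgen, hreg, hout, hgram, hcompl, hA, hA', hsum⟩ :=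
    D.exists_vectors hM T hT hθ fun h hh k k' hkk =>
      root_trivial_fixed hM hB hD hcard hind hθ hθP ((hT h).1 hh).1 ((hT h).1 hh).2 k k' hkk
  rw [root_card hM hB hD hcard hind] at hf
  have V : CycVectors p B ((C[P]).relIndex T) τ :=
    { gen := hgen
      regular := hreg
      outside := hout
      gram := hgram
      complete := fun c hc g hg => by
        rw [finsum_mem_eq_toFinset_sum]
        refine hcompl c (fun i => ?_) g hg
        have := hc i
        simp only [finsum_mem_eq_toFinset_sum] at this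
        exact this }
  have hne : Nonempty ι := by
    refine Fintype.card_pos_iff.1 (Nat.pos_of_ne_zero fun h => ?_)
    rw [h, zero_mul, zero_add] at hf
    exact (Fact.out : p.Prime).ne_one hf
  have hd : 0 < blockDefect p B := by
    refine Nat.pos_of_ne_zero fun h => ?_
    have h1 := card_defectGroup hM hB hD
    rw [hcard, h, pow_zero] at h1
    exact (Fact.out : p.Prime).ne_one h1
  obtain ⟨hle, hsplit⟩ := V.rank_le hM hB hd hne
  have hge := le_blockRank_of_root hM hB hD hcard hind hθ hθP T hT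
  obtain ⟨X, y, δ, δ₀, hy, hBX, hdis, hX, hδ, hδ₀, hτ⟩ := hsplit hge
  have hk := V.rank_add hM hB
  refine ⟨ι, hι, τ, X, y, δ, δ₀, hf.symm, V, hy, hBX, hdis, hX, hδ, hδ₀, hτ, le_antisymm hle hge,
    by omega, hA, hA', hsum⟩

end Cfsg.Lib.Block
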