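import Cfsg.Agent.Lib.Block.CyclicPrimeValues
import Cfsg.Agent.Lib.Block.CyclicPrimeApps
import Cfsg.Agent.Lib.Block.GaloisTwist

/-!
# Galois action on a block with a defect group of order `p`
-/

set_option autoImplicit false
set_option linter.unusedSectionVars false
set_option maxHeartbeats 1000000

namespace Cfsg.Lib.Block

open Cfsg
open scoped ComplexConjugate

universe u

noncomputable local instance (priority := high) fintypeSubgroupCyclicPrimeGalois {A : Type u}
    [Group A] [Fintype A] (H : Subgroup A) : Fintype H := Fintype.ofFinite H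

local notation "C[" P "]" => Subgroup.centralizer (SetLike.coe P)

variable {p : ℕ} [Fact p.Prime] {M : Ideal AlgInt} {G : Type u} [Group G] [Fintype G]
  (hM : IsPModular p M)

theorem pPt_pow_eq (g : G) (m : ℕ) : pPt p (g ^ m) = pPt p g ^ m := by
  obtain ⟨a, ha⟩ := exists_orderOf_pPt (p := p) g
  have hd : orderOf (pPt p g ^ m) ∣ p ^ a := ha ▸ orderOf_pow_dvd m
  obtain ⟨c, -, hc⟩ := (Nat.dvd_prime_pow (Fact.out : p.Prime)).1 hd
  refine (eq_pPt (y := pReg p g ^ m) ?_ ((pPt_commute_pReg g).pow_pow m m) hc ?_).symm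
  · rw [← (pPt_commute_pReg g).mul_pow, pPt_mul_pReg]
  · exact fun h => not_dvd_orderOf_pReg g (h.trans (orderOf_pow_dvd m))

theorem coprime_subgroup {k : ℕ} (H : Subgroup G) (hk : k.Coprime (Nat.card G)) :
    k.Coprime (Nat.card H) :=
  hk.coprime_dvd_right (Subgroup.card_subgroup_dvd_card H)

theorem modEq_subgroup {k : ℕ} (H : Subgroup G)
    (hk : k ≡ 1 [MOD Nat.card G / p ^ (Nat.card G).factorization p]) :
    k ≡ 1 [MOD Nat.card H / p ^ (Nat.card H).factorization p] :=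
  hk.of_dvd (Nat.ordCompl_dvd_ordCompl_of_dvd (Subgroup.card_subgroup_dvd_card H) p)

variable {B : Set (IrrCharacter G)} {P : Subgroup G} {b : Set (IrrCharacter C[P])}
  (hB : IsPBlock M B) (hD : IsDefectGroup p M B P) (hcard : Nat.card P = p)
  (hind : IsInducedBlock M C[P] b B) {θ : IrrCharacter C[P]} (hθ : θ ∈ b)
  (hθP : ∀ z : C[P], (z : G) ∈ P → (θ : C[P] → ℂ) z = (θ : C[P] → ℂ) 1)

include hM hB hD hcard hind hθ hθP

/-- A twist fixing the regular elements fixes the member trivial on `P`. -/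
theorem powTwist_trivial {k : ℕ} (hk : k.Coprime (Nat.card G))
    (hk1 : k ≡ 1 [MOD Nat.card G / p ^ (Nat.card G).factorization p]) :
    powTwist k (coprime_subgroup C[P] hk) θ = θ := by
  refine root_trivial_unique hM hB hD hcard hind
    (powTwist_mem hM _ (modEq_subgroup C[P] hk1) hind.1 hθ) hθ (fun z hz => ?_) hθP
  rw [powTwist_apply, powTwist_apply, one_pow]
  refine hθP _ ?_
  rw [SubmonoidClass.coe_pow]
  exact P.pow_mem hz k

/-- Members other than the trivial one are conjugate by twists fixing the regular elements. -/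
theorem exists_powTwist_root {ξ ξ' : IrrCharacter C[P]} (hξ : ξ ∈ b) (hξ' : ξ' ∈ b)
    (hne : ξ ≠ θ) (hne' : ξ' ≠ θ) :
    ∃ (k : ℕ) (hk : k.Coprime (Nat.card G)),
      k ≡ 1 [MOD Nat.card G / p ^ (Nat.card G).factorization p] ∧
      powTwist k (coprime_subgroup C[P] hk) ξ = ξ' := by
  classical
  have hpp : p.Prime := Fact.out
  haveI := isCyclic_of_prime_card hcard
  obtain ⟨g₀, hg₀⟩ := IsCyclic.exists_ofOrder_eq_natCard (α := P)
  let z₀ : C[P] := ⟨(g₀ : G), le_centralizer_self hcard g₀.2⟩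
  have hz₀ : orderOf (z₀ : G) = p := by
    show orderOf (g₀ : G) = p
    rw [orderOf_submonoid, hg₀, hcard]
  have hcen : z₀ ∈ Subgroup.center C[P] :=
    subgroupOf_le_center_centralizer (Subgroup.mem_subgroupOf.2 g₀.2)
  have hgen : ∀ z : C[P], (z : G) ∈ P → ∃ i : ℕ, z = z₀ ^ i := by
    intro z hz
    have h1 : (z₀ : G) ≠ 1 := fun h => by
      rw [h, orderOf_one] at hz₀
      exact hpp.ne_one hz₀.symm
    have hz' : (z : G) ∈ Subgroup.zpowers (z₀ : G) :=
      (zpowers_eq_of_mem hcard g₀.2 h1).symm ▸ hz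
    rw [mem_zpowers_iff_mem_range_orderOf] at hz'
    obtain ⟨i, -, hi⟩ := Finset.mem_image.1 hz'
    exact ⟨i, Subtype.ext hi.symm⟩
  have hscal : ∀ η : IrrCharacter C[P], ∃ w : ℂ, w ^ p = 1 ∧
      ∀ (i : ℕ) (c : C[P]), (η : C[P] → ℂ) (z₀ ^ i * c) = w ^ i * (η : C[P] → ℂ) c := by
    intro η
    obtain ⟨w, hw, hc⟩ := exists_central_scalar η hcen
    refine ⟨w, ?_, fun i => ?_⟩
    · rwa [← orderOf_submonoid, hz₀] at hw
    · induction i with
      | zero => simp
      | succ i ih =>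
        intro c
        rw [pow_succ', mul_assoc, hc, ih, pow_succ']
        ring
  obtain ⟨w, hw, hwc⟩ := hscal ξ
  obtain ⟨w', hw', hwc'⟩ := hscal ξ'
  have hne1 : ∀ (η : IrrCharacter C[P]) (v : ℂ), η ∈ b → η ≠ θ →
      (∀ (i : ℕ) (c : C[P]), (η : C[P] → ℂ) (z₀ ^ i * c) = v ^ i * (η : C[P] → ℂ) c) → v ≠ 1 := by
    intro η v hη hn hv h1
    refine hn (root_trivial_unique hM hB hD hcard hind hη hθ (fun z hz => ?_) hθP)
    obtain ⟨i, rfl⟩ := hgen z hz
    simpa [h1] using hv i 1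
  have hprim : IsPrimitiveRoot w p :=
    IsPrimitiveRoot.iff_orderOf.2 (orderOf_eq_prime hw (hne1 ξ w hξ hne hwc))
  obtain ⟨j, hj, hjw⟩ := hprim.eq_pow_of_pow_eq_one hw'
  have hj0 : ¬ p ∣ j := fun h => hne1 ξ' w' hξ' hne' hwc' (by
    obtain ⟨c, rfl⟩ := h
    rw [← hjw, pow_mul, hw, one_pow])
  set n := Nat.card G / p ^ (Nat.card G).factorization p with hn
  have hcop : Nat.Coprime p n := (Nat.coprime_ordCompl hpp Nat.card_pos.ne')
  obtain ⟨k, hkp, hkn⟩ := Nat.chineseRemainder hcop j 1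
  have hk : k.Coprime (Nat.card G) := by
    rw [← Nat.ordProj_mul_ordCompl_eq_self (Nat.card G) p]
    refine Nat.Coprime.mul_right (Nat.Coprime.pow_right _ ?_) ?_
    · refine Nat.Coprime.symm (hpp.coprime_iff_not_dvd.2 fun h => hj0 ?_)
      exact Nat.modEq_zero_iff_dvd.1 (hkp.symm.trans (Nat.modEq_zero_iff_dvd.2 h))
    · have h := hkn.gcd_eq
      rwa [Nat.gcd_one_left] at h
  refine ⟨k, hk, hkn, Subtype.ext (funext fun c => ?_)⟩
  rw [powTwist_apply]
  have hreg : ∀ r : C[P], IsPRegular p r → r ^ k = r := fun r hr =>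
    pow_eq_self_of_regular (modEq_subgroup C[P] hkn) hr
  by_cases hc : pPt p (c : G) ∈ P
  · have hco : ((pPt p c : C[P]) : G) ∈ P := by rwa [coe_pPt c]
    obtain ⟨i, hi⟩ := hgen _ hco
    have e : c = z₀ ^ i * pReg p c := by rw [← hi, pPt_mul_pReg]
    rw [e, (show Commute (z₀ ^ i) (pReg p c) from
        (Subgroup.mem_center_iff.1 (pow_mem hcen i) (pReg p c)).symm).mul_pow,
      ← pow_mul, hreg _ (not_dvd_orderOf_pReg c), hwc, hwc', ← hjw, ← pow_mul,
      root_reg hM hB hD hcard hind hξ hξ' (not_dvd_orderOf_pReg c)]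
    congr 1
    rw [pow_eq_pow_mod (i * k) hw, pow_eq_pow_mod (j * i) hw]
    congr 1
    rw [mul_comm j i]
    exact hkp.mul_left i
  · have h2 : (ξ' : C[P] → ℂ) c = 0 :=
      not_not.1 fun h0 => hc (root_pPt_mem hM hB hD hcard hind hξ' h0)
    rw [h2]
    by_contra h0
    have h3 := root_pPt_mem hM hB hD hcard hind hξ h0
    obtain ⟨m, hm⟩ := exists_pow_eq_self_of_coprime
      ((coprime_subgroup C[P] hk).coprime_dvd_right (orderOf_dvd_natCard c))
    refine hc ?_
    rw [← congrArg Subtype.val hm, SubmonoidClass.coe_pow, SubmonoidClass.coe_pow, pPt_pow_eq]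
    rw [SubmonoidClass.coe_pow] at h3
    exact P.pow_mem h3 m

open Classical in
/-- A twist fixing the regular elements fixes the sum of the coefficient differences. -/
theorem sum_coeff_powTwist {k : ℕ} (hk : k.Coprime (Nat.card G))
    (hk1 : k ≡ 1 [MOD Nat.card G / p ^ (Nat.card G).factorization p]) (χ : IrrCharacter G) :
    ∑ ξ ∈ b.toFinset,
        (classInner (fun c : C[P] => (powTwist k hk χ : G → ℂ) c) (ξ : C[P] → ℂ) -
          classInner (fun c : C[P] => (powTwist k hk χ : G → ℂ) c) (θ : C[P] → ℂ)) =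
      ∑ ξ ∈ b.toFinset, (classInner (fun c : C[P] => (χ : G → ℂ) c) (ξ : C[P] → ℂ) -
          classInner (fun c : C[P] => (χ : G → ℂ) c) (θ : C[P] → ℂ)) := by
  have hkC := coprime_subgroup C[P] hk
  have hcoef : ∀ ξ : IrrCharacter C[P],
      classInner (fun c : C[P] => (powTwist k hk χ : G → ℂ) c)
        (powTwist k hkC ξ : C[P] → ℂ) =
      classInner (fun c : C[P] => (χ : G → ℂ) c) (ξ : C[P] → ℂ) := by
    intro ξ
    simp only [classInner]
    congr 1
    refine Eq.trans ?_ ((Char.powBij_of_coprime hkC).sum_comp fun c =>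
      (χ : G → ℂ) c * conj ((ξ : C[P] → ℂ) c))
    refine Finset.sum_congr rfl fun c _ => ?_
    simp only [powTwist_apply, SubmonoidClass.coe_pow]
  have hmap : b.toFinset.image (powTwist k hkC) = b.toFinset := by
    refine Finset.eq_of_subset_of_card_le (fun η hη => ?_) ?_
    · obtain ⟨ξ, hξ, rfl⟩ := Finset.mem_image.1 hη
      exact Set.mem_toFinset.2
        (powTwist_mem hM _ (modEq_subgroup C[P] hk1) hind.1 (Set.mem_toFinset.1 hξ))
    · rw [Finset.card_image_of_injective _ (powTwist_injective k hkC)]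
  conv_lhs => rw [← hmap, Finset.sum_image fun a _ c _ h => powTwist_injective k hkC h]
  refine Finset.sum_congr rfl fun ξ _ => ?_
  conv_rhs => rw [← hcoef ξ, ← hcoef θ, powTwist_trivial hM hB hD hcard hind hθ hθP hk hk1]

open Classical in
/-- The Galois structure of a block with a defect group of order `p`. -/
theorem prime_galois (T : Subgroup G)
    (hT : ∀ g : G, g ∈ T ↔ g ∈ Subgroup.normalizer (P : Set G) ∧ StabilizesBlock C[P] b g) :
    ∃ (X Y : Set (IrrCharacter G)) (δ : IrrCharacter G → ℤ) (δ₀ : ℤ),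
      (C[P]).relIndex T ∣ p - 1 ∧ B = X ∪ Y ∧ Disjoint X Y ∧
      Nat.card X = (C[P]).relIndex T ∧ Nat.card Y = (p - 1) / (C[P]).relIndex T ∧ Y.Nonempty ∧
      (∀ χ ∈ X, δ χ = 1 ∨ δ χ = -1) ∧ (δ₀ = 1 ∨ δ₀ = -1) ∧
      (∀ ψ ∈ Y, ∀ g : G, IsPRegular p g →
        (δ₀ : ℂ) * (ψ : G → ℂ) g + ∑ᶠ χ ∈ X, (δ χ : ℂ) * (χ : G → ℂ) g = 0) ∧
      (∀ (k : ℕ) (hk : k.Coprime (Nat.card G)),
        k ≡ 1 [MOD Nat.card G / p ^ (Nat.card G).factorization p] →
          (∀ χ ∈ X, powTwist k hk χ = χ) ∧ ∀ ψ ∈ Y, powTwist k hk ψ ∈ Y) ∧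
      ∀ ψ ∈ Y, ∀ ψ' ∈ Y, ∃ (k : ℕ) (hk : k.Coprime (Nat.card G)),
        k ≡ 1 [MOD Nat.card G / p ^ (Nat.card G).factorization p] ∧ powTwist k hk ψ = ψ' := by
  obtain ⟨X, Y, δ, δ₀, hdiv, hBXY, hdis, hX, hY, hYne, hrank, hδ, hδ₀, -, hrel, -, -, hcX, hcY,
    hτ⟩ := prime_structure hM hB hD hcard hind hθ hθP T hT
  have hpp : p.Prime := Fact.out
  set e := (C[P]).relIndex T with he
  have hd0 : (δ₀ : ℂ) ≠ 0 := by rcases hδ₀ with h | h <;> simp [h]
  have he0 : 0 < e := Nat.pos_of_ne_zero fun h => by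
    rw [h, zero_dvd_iff] at hdiv
    have := hpp.one_lt
    omega
  -- the restrictions of `X` to the regular elements form a basis
  have hindep : LinearIndependent ℂ
      (fun χ : X => pRegularPart p ((χ : IrrCharacter G) : G → ℂ)) := by
    rw [linearIndependent_iff_card_eq_finrank_span, ← Nat.card_eq_fintype_card, hX, ← hrank,
      Set.finrank, blockRank]
    have hspan : Submodule.span ℂ
        ((fun χ : IrrCharacter G => pRegularPart p (χ : G → ℂ)) '' B) =
        Submodule.span ℂ (Set.range fun χ : X => pRegularPart p ((χ : IrrCharacter G) : G → ℂ)) := by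
      refine le_antisymm ?_ (Submodule.span_mono ?_)
      · rw [Submodule.span_le]
        rintro _ ⟨η, hη, rfl⟩
        rw [hBXY] at hη
        rcases hη with hη | hη
        · exact Submodule.subset_span ⟨⟨η, hη⟩, rfl⟩
        · have hexp : pRegularPart p (η : G → ℂ) = -(δ₀ : ℂ)⁻¹ •
              ∑ χ : X, (δ χ : ℂ) • pRegularPart p ((χ : IrrCharacter G) : G → ℂ) := by
            funext g
            simp only [Pi.smul_apply, Finset.sum_apply, smul_eq_mul]
            by_cases hg : IsPRegular p g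
            · have h := hrel η hη g hg
              rw [finsum_mem_eq_toFinset_sum, Finset.sum_subtype X.toFinset
                (fun x => Set.mem_toFinset) (fun χ : IrrCharacter G => (δ χ : ℂ) * (χ : G → ℂ) g)]
                at h
              simp only [pRegularPart_of_reg hg]
              field_simp
              linear_combination h
            · simp [pRegularPart_of_sing hg]
          rw [SetLike.mem_coe]
          change pRegularPart p (η : G → ℂ) ∈ _
          rw [hexp]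
          exact Submodule.smul_mem _ _ (Submodule.sum_mem _ fun χ _ =>
            Submodule.smul_mem _ _ (Submodule.subset_span ⟨χ, rfl⟩))
      · rintro _ ⟨χ, rfl⟩
        exact ⟨χ, hBXY ▸ Or.inl χ.2, rfl⟩
    rw [hspan]
  have hXinj : ∀ χ ∈ X, ∀ χ' ∈ X, (∀ g : G, IsPRegular p g → (χ : G → ℂ) g = (χ' : G → ℂ) g) →
      χ = χ' := by
    intro χ hχ χ' hχ' h
    refine congrArg Subtype.val (hindep.injective (a₁ := ⟨χ, hχ⟩) (a₂ := ⟨χ', hχ'⟩) ?_)
    funext g
    by_cases hg : IsPRegular p g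
    · simp [pRegularPart_of_reg hg, h g hg]
    · simp [pRegularPart_of_sing hg]
  have hXY : ∀ χ ∈ X, ∀ ψ ∈ Y, 2 ≤ e →
      ¬ ∀ g : G, IsPRegular p g → (ψ : G → ℂ) g = (χ : G → ℂ) g := by
    intro χ hχ ψ hψ he2 h
    have h0 : ∑ a : X, ((δ a : ℂ) + if a = ⟨χ, hχ⟩ then (δ₀ : ℂ) else 0) •
        pRegularPart p ((a : IrrCharacter G) : G → ℂ) = 0 := by
      funext g
      simp only [Finset.sum_apply, Pi.smul_apply, smul_eq_mul, Pi.zero_apply, add_mul, ite_mul,
        zero_mul, Finset.sum_add_distrib, Finset.sum_ite_eq', Finset.mem_univ, if_true]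
      by_cases hg : IsPRegular p g
      · have h1 := hrel ψ hψ g hg
        rw [finsum_mem_eq_toFinset_sum, Finset.sum_subtype X.toFinset
          (fun x => Set.mem_toFinset) (fun χ : IrrCharacter G => (δ χ : ℂ) * (χ : G → ℂ) g), h g hg]
          at h1
        simp only [pRegularPart_of_reg hg]
        linear_combination h1
      · simp [pRegularPart_of_sing hg]
    obtain ⟨χ', hχ', hne⟩ : ∃ χ' ∈ X, χ' ≠ χ := by
      rw [Nat.card_coe_set_eq] at hX
      exact Set.exists_ne_of_one_lt_ncard (by omega) χ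
    have := Fintype.linearIndependent_iff.1 hindep _ h0 ⟨χ', hχ'⟩
    rw [if_neg (fun hh => hne (congrArg Subtype.val hh)), add_zero] at this
    rcases hδ χ' hχ' with hs | hs <;> simp [hs] at this
  have hsumX : ∀ χ ∈ X, ∑ ξ ∈ b.toFinset,
      (classInner (fun c : C[P] => (χ : G → ℂ) c) (ξ : C[P] → ℂ) -
        classInner (fun c : C[P] => (χ : G → ℂ) c) (θ : C[P] → ℂ)) =
        (((p - 1 : ℕ) : ℤ) * δ χ : ℤ) := by
    intro χ hχ
    rw [← Finset.add_sum_erase _ _ (Set.mem_toFinset.2 hθ), sub_self, zero_add,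
      Finset.sum_congr rfl fun ξ hξ => by
        rw [hcX χ hχ ξ (Set.mem_toFinset.1 (Finset.mem_erase.1 hξ).2)
          (Finset.mem_erase.1 hξ).1, add_sub_cancel_left],
      Finset.sum_const, Finset.card_erase_of_mem (Set.mem_toFinset.2 hθ), Set.toFinset_card,
      ← Nat.card_eq_fintype_card, root_card hM hB hD hcard hind, nsmul_eq_mul]
    push_cast
    rfl
  have hfix : ∀ (k : ℕ) (hk : k.Coprime (Nat.card G)),
      k ≡ 1 [MOD Nat.card G / p ^ (Nat.card G).factorization p] →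
        ∀ χ ∈ X, powTwist k hk χ = χ := by
    intro k hk hk1 χ hχ
    have hmem := powTwist_mem hM hk hk1 hB (hBXY ▸ Or.inl hχ : χ ∈ B)
    have hreg : ∀ g : G, IsPRegular p g → (powTwist k hk χ : G → ℂ) g = (χ : G → ℂ) g :=
      fun g hg => by rw [powTwist_apply, pow_eq_self_of_regular hk1 hg]
    rw [hBXY] at hmem
    rcases hmem with h | h
    · exact hXinj _ h χ hχ hreg
    · exfalso
      rcases Nat.lt_or_ge 1 e with he2 | he1
      · exact hXY χ hχ _ h he2 hreg
      have h1 := sum_coeff_powTwist hM hB hD hcard hind hθ hθP hk hk1 χ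
      rw [hcY _ h, hsumX χ hχ, show e = 1 by omega] at h1
      have h2 : ((1 : ℕ) : ℤ) * δ₀ = ((p - 1 : ℕ) : ℤ) * δ χ := by exact_mod_cast h1
      obtain ⟨a, ha⟩ : ∃ a, X = {a} := by
        rw [Nat.card_coe_set_eq] at hX
        exact Set.ncard_eq_one.1 (by omega)
      obtain rfl : χ = a := by rw [ha] at hχ; exact hχ
      have hone : IsPRegular p (1 : G) := by simp [IsPRegular, hpp.ne_one]
      have h3 := hrel _ h 1 hone
      rw [finsum_mem_eq_toFinset_sum, ha, Set.toFinset_singleton, Finset.sum_singleton,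
        apply_one_eq_charDegree, apply_one_eq_charDegree] at h3
      have h4 : δ₀ * (charDegree (powTwist k hk χ : G → ℂ) : ℤ) +
          δ χ * (charDegree (χ : G → ℂ) : ℤ) = 0 := by exact_mod_cast h3
      have hp1 : (1 : ℤ) ≤ ((p - 1 : ℕ) : ℤ) := by
        have := hpp.one_lt
        omega
      have d1 := charDegree_pos (powTwist k hk χ)
      have d2 := charDegree_pos χ
      rcases hδ₀ with a | a <;> rcases hδ χ (by rw [ha]; rfl) with c | c <;>
        simp only [a, c] at h2 h4 <;> omega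
  refine ⟨X, Y, δ, δ₀, hdiv, hBXY, hdis, hX, hY, hYne, hδ, hδ₀, hrel,
    fun k hk hk1 => ⟨hfix k hk hk1, fun ψ hψ => ?_⟩, ?_⟩
  · have hmem := powTwist_mem hM hk hk1 hB (hBXY ▸ Or.inr hψ : ψ ∈ B)
    rw [hBXY] at hmem
    refine hmem.resolve_left fun h => ?_
    have h2 : powTwist k hk (powTwist k hk ψ) = powTwist k hk ψ := hfix k hk hk1 _ h
    exact Set.disjoint_left.1 hdis (powTwist_injective k hk h2 ▸ h) hψ
  · have hex : ∀ ψ ∈ Y, ∃ ξ ∈ b, ξ ≠ θ ∧ ∀ g : G,
        indFun C[P] ((ξ : C[P] → ℂ) - (θ : C[P] → ℂ)) g =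
          (δ₀ : ℂ) * (ψ : G → ℂ) g + ∑ᶠ χ ∈ X, (δ χ : ℂ) * (χ : G → ℂ) g := by
      intro ψ hψ
      obtain ⟨ξ, hξ, hξ0⟩ := Finset.exists_ne_zero_of_sum_ne_zero (by
        rw [hcY ψ hψ]
        exact mul_ne_zero (Nat.cast_ne_zero.2 he0.ne') hd0)
      have hξb := Set.mem_toFinset.1 hξ
      have hne : ξ ≠ θ := fun h => hξ0 (by rw [h, sub_self])
      obtain ⟨ψ₁, hψ₁, hτ₁⟩ := hτ ξ hξb hne
      refine ⟨ξ, hξb, hne, ?_⟩
      suffices ψ₁ = ψ by rw [← this]; exact hτ₁
      by_contra hne1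
      refine hξ0 ?_
      have h1 : classInner (ψ : G → ℂ) (indFun C[P] ((ξ : C[P] → ℂ) - (θ : C[P] → ℂ))) = 0 := by
        rw [show indFun C[P] ((ξ : C[P] → ℂ) - (θ : C[P] → ℂ)) = (δ₀ : ℂ) • (ψ₁ : G → ℂ) +
          ∑ χ ∈ X.toFinset, (δ χ : ℂ) • (χ : G → ℂ) from funext fun g => by
            simp [hτ₁ g, Finset.sum_apply, finsum_mem_eq_toFinset_sum]]
        rw [← Char.classInner_conj_symm, Char.classInner_add_left, Char.classInner_smul_left,
          Char.classInner_sum_left, Char.classInner_irr_ne ψ₁.2 ψ.2 (fun h => hne1 (Subtype.ext h)),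
          Finset.sum_eq_zero fun χ hχ => by
            rw [Char.classInner_smul_left, Char.classInner_irr_ne χ.2 ψ.2 fun h =>
              Set.disjoint_left.1 hdis (Set.mem_toFinset.1 hχ) (Subtype.ext h ▸ hψ), mul_zero]]
        simp
      rw [Char.classInner_indFun_right _ _ ψ.2.isClassFunction] at h1
      rw [← h1]
      simp only [classInner, Pi.sub_apply, map_sub, mul_sub, Finset.sum_sub_distrib]
    intro ψ hψ ψ' hψ'
    obtain ⟨ξ, hξ, hne, hψξ⟩ := hex ψ hψ
    obtain ⟨ξ', hξ', hne', hψξ'⟩ := hex ψ' hψ'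
    obtain ⟨k, hk, hk1, hkξ⟩ := exists_powTwist_root hM hB hD hcard hind hθ hθP hξ hξ' hne hne'
    refine ⟨k, hk, hk1, Subtype.ext (funext fun g => ?_)⟩
    rw [powTwist_apply]
    have h1 := hψξ (g ^ k)
    rw [indFun_comp_pow hk, finsum_mem_congr rfl (g := fun χ => (δ χ : ℂ) * (χ : G → ℂ) g)
      fun χ hχ => by rw [← powTwist_apply k hk χ g, hfix k hk hk1 χ hχ]] at h1
    have h2 : (fun c : C[P] => ((ξ : C[P] → ℂ) - (θ : C[P] → ℂ)) (c ^ k)) =
        (ξ' : C[P] → ℂ) - (θ : C[P] → ℂ) := by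
      funext c
      simp only [Pi.sub_apply, ← powTwist_apply k (coprime_subgroup C[P] hk), hkξ,
        powTwist_trivial hM hB hD hcard hind hθ hθP hk hk1]
    rw [h2, hψξ' g] at h1
    exact mul_left_cancel₀ hd0 (by linear_combination -h1)

omit hθ hθP in
/-- The stabilizer of the root in the normalizer is a subgroup. -/
theorem exists_stabilizer_subgroup : ∃ T : Subgroup G, ∀ g : G,
    g ∈ T ↔ g ∈ Subgroup.normalizer (P : Set G) ∧ StabilizesBlock C[P] b g := by
  obtain ⟨θ, hθ, hθP⟩ := root_exists_trivial hM hB hD hcard hind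
  have D := cycSystem hM hB hD hcard hind
  refine ⟨{ carrier := {g | g ∈ Subgroup.normalizer (P : Set G) ∧ ∀ c c' : C[P],
                (c' : G) = g * c * g⁻¹ → (θ : C[P] → ℂ) c' = (θ : C[P] → ℂ) c}
            one_mem' := ⟨one_mem _, fun c c' h => congrArg (θ : C[P] → ℂ)
              (Subtype.ext (by simpa using h))⟩
            mul_mem' := ?_
            inv_mem' := ?_ }, fun g => ?_⟩
  · rintro a c ⟨ha, ha'⟩ ⟨hc, hc'⟩
    refine ⟨mul_mem ha hc, fun k k' h => ?_⟩
    have e : ((conjIso (D.conjMaps_of_normalizer hc) k : C[P]) : G) = c * k * c⁻¹ := rfl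
    rw [ha' (conjIso (D.conjMaps_of_normalizer hc) k) k' (by rw [h, e]; group), hc' k _ e]
  · rintro a ⟨ha, ha'⟩
    refine ⟨inv_mem ha, fun k k' h => (ha' k' k ?_).symm⟩
    rw [h]; group
  · constructor
    · rintro ⟨h1, h2⟩
      exact ⟨h1, (stabilizes_iff_fix hM hB hD hcard hind hθ hθP h1).2 h2⟩
    · rintro ⟨h1, h2⟩
      exact ⟨h1, (stabilizes_iff_fix hM hB hD hcard hind hθ hθP h1).1 h2⟩

end Cfsg.Lib.Block
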