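import Cfsg.Agent.Lib.Block.CyclicLattice
import Cfsg.Agent.Lib.Block.CentralDefect
import Cfsg.Agent.Lib.Block.AbelianLocal
import Cfsg.Agent.Lib.Block.Principal
import Cfsg.Agent.Lib.Block.DefectApps

/-!
# A root block at a defect group of order `p`
-/

set_option autoImplicit false
set_option linter.unusedSectionVars false
set_option maxHeartbeats 1000000

namespace Cfsg.Lib.Block

open Cfsg
open scoped ComplexConjugate

universe u

noncomputable local instance (priority := high) fintypeSubgroupCyclicPrimeLocal {A : Type u}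
    [Group A] [Fintype A] (H : Subgroup A) : Fintype H := Fintype.ofFinite H

local notation "C[" P "]" => Subgroup.centralizer (SetLike.coe P)

variable {p : ℕ} [Fact p.Prime] {M : Ideal AlgInt} {G : Type u} [Group G] [Fintype G]
  (hM : IsPModular p M) {B : Set (IrrCharacter G)} {P : Subgroup G}
  {b : Set (IrrCharacter C[P])}

theorem comm_of_card_prime (hcard : Nat.card P = p) : ∀ x ∈ P, ∀ y ∈ P, x * y = y * x := by
  intro x hx y hy
  haveI := isCyclic_of_prime_card hcard
  exact congrArg Subtype.val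
    ((IsCyclic.commGroup (α := P)).mul_comm ⟨x, hx⟩ ⟨y, hy⟩)

theorem le_centralizer_self (hcard : Nat.card P = p) : P ≤ C[P] :=
  le_centralizer_of_abelian (comm_of_card_prime hcard) le_rfl

theorem subgroupOf_le_center_centralizer :
    P.subgroupOf C[P] ≤ Subgroup.center C[P] := by
  intro z hz
  refine Subgroup.mem_center_iff.2 fun c => Subtype.ext ?_
  exact (Subgroup.mem_centralizer_iff.1 c.2 _ (Subgroup.mem_subgroupOf.1 hz)).symm

theorem zpowers_eq_of_mem (hcard : Nat.card P = p) {z : G} (hz : z ∈ P) (h1 : z ≠ 1) :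
    Subgroup.zpowers z = P := by
  have hle : Subgroup.zpowers z ≤ P := Subgroup.zpowers_le.2 hz
  refine Subgroup.eq_of_le_of_card_ge hle ?_
  have hd := Subgroup.card_dvd_of_le hle
  rw [hcard] at hd ⊢
  rcases (Nat.dvd_prime (Fact.out : p.Prime)).1 hd with h | h
  · exact absurd (Subgroup.zpowers_eq_bot.1 (Subgroup.card_eq_one.1 h)) h1
  · exact h.ge

variable (hB : IsPBlock M B) (hD : IsDefectGroup p M B P) (hcard : Nat.card P = p)
  (hind : IsInducedBlock M C[P] b B)

include hM hB hD hcard hind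

/-- The root has the same defect group. -/
theorem root_defect : IsDefectGroup p M b (P.subgroupOf C[P]) := by
  have hab := comm_of_card_prime hcard
  have hmax := maximal_of_root hM hB hD hab hind
  have hle : SubpairLE p M P b P b := Relation.ReflTransGen.refl
  have hloc := isLocalBlock_centralizer hM (Q := P) hmax.1.1.2
  have hbig : p ^ blockDefect p b ≤ Nat.card ↥(P ⊓ C[P]) := by
    obtain ⟨z, -, hz⟩ := exists_card_inf_eq_defect hM hloc hmax hle
    rw [← hz, inf_eq_left.2 (le_centralizer_self hcard)]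
    exact Subgroup.card_le_of_le inf_le_left
  have h := (isDefectGroup_inf_iff hM hloc hmax.1.1 hle).2 hbig
  rwa [inf_eq_left.2 (le_centralizer_self hcard)] at h

theorem root_card_defect : Nat.card (P.subgroupOf C[P]) = p := by
  rw [Nat.card_congr (Subgroup.subgroupOfEquivOfLe (le_centralizer_self hcard)).toEquiv, hcard]

theorem root_regInner {ψ : IrrCharacter C[P]} (hψ : ψ ∈ b) :
    (p : ℂ) * regInner p (ψ : C[P] → ℂ) (ψ : C[P] → ℂ) = 1 := by
  have h := card_mul_regInner_of_central hM hind.1 (root_defect hM hB hD hcard hind)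
    subgroupOf_le_center_centralizer hψ
  rwa [root_card_defect hM hB hD hcard hind] at h

theorem root_rank : blockRank p b = 1 :=
  blockRank_eq_one_of_central hM hind.1 (root_defect hM hB hD hcard hind)
    subgroupOf_le_center_centralizer

theorem root_card : Nat.card b = p := by
  classical
  have h1 := blockRank_eq_sum_regInner hM (p := p) (vInt_indVec hM hind.1)
  rw [root_rank hM hB hD hcard hind, Nat.cast_one] at h1
  have h2 := congrArg (fun x : ℂ => (p : ℂ) * x) h1
  simp only [Finset.mul_sum, mul_one] at h2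
  rw [Finset.sum_congr rfl fun ψ hψ =>
    root_regInner hM hB hD hcard hind (Set.mem_toFinset.1 hψ), Finset.sum_const, nsmul_eq_mul,
    mul_one] at h2
  rw [Nat.card_eq_fintype_card, ← Set.toFinset_card]
  exact_mod_cast h2.symm

/-- The members agree at regular elements. -/
theorem root_reg {ψ ψ' : IrrCharacter C[P]} (hψ : ψ ∈ b) (hψ' : ψ' ∈ b) {k : C[P]}
    (hk : IsPRegular p k) : (ψ : C[P] → ℂ) k = (ψ' : C[P] → ℂ) k := by
  have hone : IsPRegular p (1 : C[P]) := by simp [IsPRegular, (Fact.out : p.Prime).ne_one]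
  have hr := root_rank hM hB hD hcard hind
  rw [blockRank] at hr
  set S := Submodule.span ℂ ((fun χ : IrrCharacter C[P] => pRegularPart p (χ : C[P] → ℂ)) '' b)
  have hm : ∀ {χ : IrrCharacter C[P]}, χ ∈ b → pRegularPart p (χ : C[P] → ℂ) ∈ S := fun h =>
    Submodule.subset_span ⟨_, h, rfl⟩
  have hne : (⟨_, hm hψ'⟩ : S) ≠ 0 := fun h => by
    have h1 := congrFun (congrArg Subtype.val h) 1
    simp only [pRegularPart_of_reg hone, ZeroMemClass.coe_zero, Pi.zero_apply] at h1
    exact ψ'.2.apply_one_ne_zero h1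
  obtain ⟨c, hc⟩ := exists_smul_eq_of_finrank_eq_one hr hne ⟨_, hm hψ⟩
  have hc' : pRegularPart p (ψ : C[P] → ℂ) = c • pRegularPart p (ψ' : C[P] → ℂ) :=
    (congrArg Subtype.val hc).symm
  have hdeg : (charDegree (ψ : C[P] → ℂ) : ℂ) = c * (charDegree (ψ' : C[P] → ℂ) : ℂ) := by
    have h1 := congrFun hc' 1
    rw [pRegularPart_of_reg hone, Pi.smul_apply, pRegularPart_of_reg hone, smul_eq_mul] at h1
    rwa [apply_one_eq_charDegree, apply_one_eq_charDegree] at h1
  have hsq : regInner p (ψ : C[P] → ℂ) (ψ : C[P] → ℂ) =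
      c * conj c * regInner p (ψ' : C[P] → ℂ) (ψ' : C[P] → ℂ) := by
    simp only [regInner, classInner, Finset.mul_sum]
    refine Finset.sum_congr rfl fun x _ => ?_
    by_cases hx : IsPRegular p x
    · have h1 := congrFun hc' x
      rw [pRegularPart_of_reg hx, Pi.smul_apply, pRegularPart_of_reg hx, smul_eq_mul] at h1
      rw [pRegularPart_of_reg hx, pRegularPart_of_reg hx, h1, map_mul]
      ring
    · rw [pRegularPart_of_sing hx, pRegularPart_of_sing hx]
      ring
  have h1 := root_regInner hM hB hD hcard hind hψ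
  rw [hsq, mul_left_comm, root_regInner hM hB hD hcard hind hψ', mul_one] at h1
  have hd' : (charDegree (ψ' : C[P] → ℂ) : ℂ) ≠ 0 := Nat.cast_ne_zero.2 (charDegree_pos ψ').ne'
  have hd2 : (charDegree (ψ : C[P] → ℂ) : ℂ) * (charDegree (ψ : C[P] → ℂ) : ℂ) =
      (charDegree (ψ' : C[P] → ℂ) : ℂ) * (charDegree (ψ' : C[P] → ℂ) : ℂ) := by
    have hcd : conj c = c := by
      have := congrArg conj hdeg
      rw [map_mul, Complex.conj_natCast, Complex.conj_natCast] at this
      exact (mul_right_cancel₀ hd' (hdeg.symm.trans this)).symm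
    rw [hcd] at h1
    rw [hdeg]
    linear_combination ((charDegree (ψ' : C[P] → ℂ) : ℂ) * (charDegree (ψ' : C[P] → ℂ) : ℂ)) * h1
  have hd : charDegree (ψ : C[P] → ℂ) = charDegree (ψ' : C[P] → ℂ) :=
    Nat.mul_self_inj.1 (by exact_mod_cast hd2)
  rw [hd] at hdeg
  have hc1 : c = 1 := (mul_eq_right₀ hd').1 hdeg.symm
  have h2 := congrFun hc' k
  rwa [hc1, one_smul, pRegularPart_of_reg hk, pRegularPart_of_reg hk] at h2

theorem root_apply_one {ψ ψ' : IrrCharacter C[P]} (hψ : ψ ∈ b) (hψ' : ψ' ∈ b) :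
    (ψ : C[P] → ℂ) 1 = (ψ' : C[P] → ℂ) 1 :=
  root_reg hM hB hD hcard hind hψ hψ' (by simp [IsPRegular, (Fact.out : p.Prime).ne_one])

/-- The members vanish off the sections of `P`. -/
theorem root_pPt_mem {ψ : IrrCharacter C[P]} (hψ : ψ ∈ b) {k : C[P]}
    (h0 : (ψ : C[P] → ℂ) k ≠ 0) : pPt p (k : G) ∈ P := by
  have h : ∃ D : Subgroup C[P], IsDefectGroup p M (blockOf M (ψ : C[P] → ℂ)) D ∧ pPt p k ∈ D := by
    by_contra h
    push_neg at h
    exact h0 (char_eq_zero_of_pPt_notMem hM ψ h)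
  obtain ⟨D, hD', hk⟩ := h
  rw [← eq_blockOf_of_mem hM hind.1 hψ] at hD'
  obtain ⟨x, hx⟩ := exists_conj_defectGroup hM hind.1 (root_defect hM hB hD hcard hind) hD'
  rw [← hx] at hk
  obtain ⟨y, hy, he⟩ := hk
  have hy' : (MulAut.conj x).toMonoidHom y = y := by
    show x * y * x⁻¹ = y
    rw [Subgroup.mem_center_iff.1 (subgroupOf_le_center_centralizer hy) x, mul_inv_cancel_right]
  rw [hy'] at he
  have hco : pPt p (k : G) = ((pPt p k : C[P]) : G) := (coe_pPt k).symm
  rw [hco, ← he]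
  exact Subgroup.mem_subgroupOf.1 hy

/-- The system attached to the root. -/
theorem cycSystem : CycSystem p M B P C[P] b where
  card_Z := hcard
  K_eq := rfl
  induced := hind
  reg := fun _ hψ _ hψ' _ hk => root_reg hM hB hD hcard hind hψ hψ' hk
  suppf := fun ψ hψ k hk h0 => by
    rw [zpowers_eq_of_mem hcard (root_pPt_mem hM hB hD hcard hind hψ h0) fun h =>
      hk ((isPRegular_coe_iff k).1 ((pPt_eq_one_iff _).1 h))]
  suppB := fun χ hχ g hg h0 => by
    have h : ∃ D : Subgroup G, IsDefectGroup p M (blockOf M (χ : G → ℂ)) D ∧ pPt p g ∈ D := by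
      by_contra h
      push_neg at h
      exact h0 (char_eq_zero_of_pPt_notMem hM χ h)
    obtain ⟨D, hD', hgD⟩ := h
    rw [← eq_blockOf_of_mem hM hB hχ] at hD'
    obtain ⟨x, hx⟩ := exists_conj_defectGroup hM hB hD hD'
    rw [← hx] at hgD
    obtain ⟨y, hy, he⟩ := hgD
    refine ⟨x⁻¹, ?_⟩
    have he' : pPt p (x⁻¹ * g * x⁻¹⁻¹) = y := by
      rw [pPt_conj, ← he]
      simp [mul_assoc]
    rw [he', zpowers_eq_of_mem hcard hy fun h => hg ((pPt_eq_one_iff g).1 (by rw [← he, h, map_one]))]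
  orbit := fun η hη => by
    have hpair : IsBrauerPairOf p M B P (blockOf M (η : C[P] → ℂ)) :=
      (isBrauerPairOf_iff_induced hM (isPGroup_defectGroup hM hD) le_rfl (le_centralizer_self hcard)
        (Subgroup.centralizer_le_normalizer _) (fun v => invOn_self v) (isPBlock_blockOf η)
        (isPBlock_blockOf η) (fun _ => rfl) hB).2 hη
    obtain ⟨x, h, he⟩ := exists_conj_of_maximal hM
      (maximal_of_root hM hB hD (comm_of_card_prime hcard) hind) hpair
    refine ⟨x, conjMaps_centralizer h, ?_, ?_⟩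
    · refine Subgroup.mem_normalizer_iff.2 fun z => ⟨fun hz => ?_, fun hz => ?_⟩
      · rw [← h]; exact ⟨z, hz, rfl⟩
      · rw [← h] at hz
        obtain ⟨w, hw, hwz⟩ := hz
        have : w = z := (MulAut.conj x).injective hwz
        exact this ▸ hw
    · have hm := self_mem_blockOf hM η
      rw [he] at hm
      exact hm

/-- Some member is trivial on `P`. -/
theorem root_exists_trivial :
    ∃ θ ∈ b, ∀ z : C[P], (z : G) ∈ P → (θ : C[P] → ℂ) z = (θ : C[P] → ℂ) 1 := by
  haveI : (P.subgroupOf C[P]).Normal := ⟨fun z hz g => by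
    rwa [Subgroup.mem_center_iff.1 (subgroupOf_le_center_centralizer hz) g, mul_inv_cancel_right]⟩
  obtain ⟨θ, hθ, h⟩ := exists_trivial_on_mem hM (Q := P.subgroupOf C[P])
    (IsPGroup.of_card (n := 1) (by rw [root_card_defect hM hB hD hcard hind, pow_one])) hind.1
  exact ⟨θ, hθ, fun z hz => h z (Subgroup.mem_subgroupOf.2 hz)⟩

omit hB hD hcard hind hM in
theorem trivial_mul {θ : IrrCharacter C[P]}
    (hP : ∀ z : C[P], (z : G) ∈ P → (θ : C[P] → ℂ) z = (θ : C[P] → ℂ) 1) {z : C[P]}
    (hz : (z : G) ∈ P) (k : C[P]) : (θ : C[P] → ℂ) (z * k) = (θ : C[P] → ℂ) k := by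
  obtain ⟨c, -, hc⟩ := exists_central_scalar θ
    (subgroupOf_le_center_centralizer (Subgroup.mem_subgroupOf.2 hz))
  have h1 := hc 1
  rw [mul_one, hP z hz] at h1
  rw [hc k, (mul_eq_right₀ θ.2.apply_one_ne_zero).1 h1.symm, one_mul]

/-- Only one member is trivial on `P`. -/
theorem root_trivial_unique {θ θ' : IrrCharacter C[P]} (hθ : θ ∈ b) (hθ' : θ' ∈ b)
    (h : ∀ z : C[P], (z : G) ∈ P → (θ : C[P] → ℂ) z = (θ : C[P] → ℂ) 1)
    (h' : ∀ z : C[P], (z : G) ∈ P → (θ' : C[P] → ℂ) z = (θ' : C[P] → ℂ) 1) : θ = θ' := by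
  refine Subtype.ext (funext fun k => ?_)
  by_cases hk : pPt p (k : G) ∈ P
  · have hco : ((pPt p k : C[P]) : G) ∈ P := by rwa [coe_pPt k]
    conv_lhs => rw [← pPt_mul_pReg (p := p) k]
    conv_rhs => rw [← pPt_mul_pReg (p := p) k]
    rw [trivial_mul h hco, trivial_mul h' hco]
    exact root_reg hM hB hD hcard hind hθ hθ' (not_dvd_orderOf_pReg k)
  · have h1 : (θ : C[P] → ℂ) k = 0 := not_not.1 fun h0 => hk (root_pPt_mem hM hB hD hcard hind hθ h0)
    have h2 : (θ' : C[P] → ℂ) k = 0 :=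
      not_not.1 fun h0 => hk (root_pPt_mem hM hB hD hcard hind hθ' h0)
    rw [h1, h2]

/-- The member trivial on `P` is fixed by the stabilizer. -/
theorem root_trivial_fixed {θ : IrrCharacter C[P]} (hθ : θ ∈ b)
    (hP : ∀ z : C[P], (z : G) ∈ P → (θ : C[P] → ℂ) z = (θ : C[P] → ℂ) 1) {g : G}
    (hg : g ∈ Subgroup.normalizer (P : Set G)) (hst : StabilizesBlock C[P] b g) (k k' : C[P])
    (hk : (k' : G) = g * k * g⁻¹) : (θ : C[P] → ℂ) k' = (θ : C[P] → ℂ) k := by
  obtain ⟨θ', hθ', hc⟩ := hst.2 θ hθ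
  have h' : ∀ z : C[P], (z : G) ∈ P → (θ' : C[P] → ℂ) z = (θ' : C[P] → ℂ) 1 := by
    intro z hz
    have hz' : g⁻¹ * (z : G) * g ∈ P := by
      have := (Subgroup.mem_normalizer_iff.1 (inv_mem hg) (z : G)).1 hz
      rwa [inv_inv] at this
    rw [hc ⟨g⁻¹ * (z : G) * g, le_centralizer_self hcard hz'⟩ z (by simp [mul_assoc]),
      hP _ hz', hc 1 1 (by simp)]
  obtain rfl := root_trivial_unique hM hB hD hcard hind hθ hθ' hP h'
  exact hc k k' hk

/-- The degrees are divisible exactly by the `p`-part of the order over `p`. -/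
theorem root_factorization {ψ : IrrCharacter C[P]} (hψ : ψ ∈ b) :
    (charDegree (ψ : C[P] → ℂ)).factorization p + 1 = (Nat.card C[P]).factorization p := by
  have h1 : p ^ 1 = p ^ blockDefect p b := by
    rw [pow_one, ← card_defectGroup hM hind.1 (root_defect hM hB hD hcard hind),
      root_card_defect hM hB hD hcard hind]
  have h2 := blockDefect_add_minVal (p := p) (nonempty_of_isPBlock hM hind.1)
  obtain ⟨χ, hχ, hmin⟩ := exists_minVal (p := p) (nonempty_of_isPBlock hM hind.1)
  have h3 := root_apply_one hM hB hD hcard hind hψ hχ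
  rw [apply_one_eq_charDegree, apply_one_eq_charDegree, Nat.cast_inj] at h3
  rw [h3, hmin, ← h2, ← Nat.pow_right_injective (Fact.out : p.Prime).two_le h1, add_comm]

end Cfsg.Lib.Block
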