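import Cfsg.Agent.Lib.Block.CyclicPrimeCount
import Cfsg.Agent.Lib.Char.Orthogonality

/-!
# Counting characters of degree prime to `p` through the normalizer
-/

set_option autoImplicit false
set_option linter.unusedSectionVars false
set_option maxHeartbeats 1000000

namespace Cfsg.Lib.Block

open Cfsg

universe u

noncomputable local instance (priority := high) fintypeSubgroupCyclicPrimeNormalizer {A : Type u}
    [Group A] [Fintype A] (H : Subgroup A) : Fintype H := Fintype.ofFinite H

local notation "C[" P "]" => Subgroup.centralizer (SetLike.coe P)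

variable {p : ℕ} [Fact p.Prime] {G : Type u} [Group G] [Fintype G]

/-- A subgroup of its normalizer. -/
abbrev inNormalizer (P : Subgroup G) : Subgroup (Subgroup.normalizer (P : Set G)) :=
  P.subgroupOf (Subgroup.normalizer (P : Set G))

theorem mem_centralizer_inNormalizer {P : Subgroup G} {n : Subgroup.normalizer (P : Set G)} :
    n ∈ C[inNormalizer P] ↔ (n : G) ∈ C[P] := by
  constructor
  · intro h z hz
    exact congrArg Subtype.val (h ⟨z, Subgroup.le_normalizer hz⟩ hz)
  · intro h z hz
    exact Subtype.ext (h (z : G) hz)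

/-- The centralizer inside the normalizer is the centralizer. -/
def centralizerEquiv (P : Subgroup G) : C[inNormalizer P] ≃* C[P] where
  toFun n := ⟨((n : Subgroup.normalizer (P : Set G)) : G), mem_centralizer_inNormalizer.1 n.2⟩
  invFun c := ⟨⟨(c : G), Subgroup.centralizer_le_normalizer _ c.2⟩,
    mem_centralizer_inNormalizer.2 c.2⟩
  left_inv _ := rfl
  right_inv _ := rfl
  map_mul' _ _ := rfl

theorem normalizer_inNormalizer (P : Subgroup G) :
    Subgroup.normalizer (inNormalizer P : Set (Subgroup.normalizer (P : Set G))) = ⊤ := by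
  haveI : (inNormalizer P).Normal := Subgroup.normal_in_normalizer
  exact Subgroup.normalizer_eq_top_iff.2 ‹_›

theorem relIndex_inNormalizer (P : Subgroup G) :
    (C[inNormalizer P]).relIndex
        (Subgroup.normalizer (inNormalizer P : Set (Subgroup.normalizer (P : Set G)))) =
      (C[P]).relIndex (Subgroup.normalizer (P : Set G)) := by
  rw [normalizer_inNormalizer, Subgroup.relIndex_top_right, Subgroup.relIndex]
  congr 1
  ext n
  exact mem_centralizer_inNormalizer

open Classical in
/-- The root weight is computed inside the normalizer. -/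
theorem rootWeight_inNormalizer (p : ℕ) (P : Subgroup G) :
    rootWeight p (inNormalizer P) = rootWeight p P := by
  have htriv : ∀ θ : IrrCharacter C[P],
      (∀ z : C[P], (z : G) ∈ P → (θ : C[P] → ℂ) z = (θ : C[P] → ℂ) 1) ↔
      ∀ z : C[inNormalizer P], (z : Subgroup.normalizer (P : Set G)) ∈ inNormalizer P →
        (compIrr (centralizerEquiv P) θ : C[inNormalizer P] → ℂ) z =
          (compIrr (centralizerEquiv P) θ : C[inNormalizer P] → ℂ) 1 := by
    intro θ
    constructor
    · intro h z hz
      rw [compIrr_apply, compIrr_apply, map_one]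
      exact h _ hz
    · intro h z hz
      have := h ((centralizerEquiv P).symm z) hz
      rwa [compIrr_apply, compIrr_apply, map_one, MulEquiv.apply_symm_apply] at this
  let E : TrivOn P ≃ TrivOn (inNormalizer P) :=
    { toFun := fun θ => ⟨compIrr (centralizerEquiv P) θ.1, (htriv θ.1).1 θ.2⟩
      invFun := fun θ => ⟨compIrr (centralizerEquiv P).symm θ.1, (htriv _).2 (by
        rw [compIrr_compIrr_symm]; exact θ.2)⟩
      left_inv := fun θ => Subtype.ext (compIrr_symm_compIrr _ _)
      right_inv := fun θ => Subtype.ext (compIrr_compIrr_symm _ _) }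
  rw [rootWeight, rootWeight, ← Fintype.sum_equiv E _ _ (fun θ => rfl)]
  refine Finset.sum_congr rfl fun θ _ => ?_
  have hC : Nat.card C[inNormalizer P] = Nat.card C[P] :=
    Nat.card_congr (centralizerEquiv P).toEquiv
  have hF : Nat.card (fixers (inNormalizer P) (E θ).1) = Nat.card (fixers P θ.1) := by
    refine Nat.card_congr
      { toFun := fun g => ⟨(g.1 : G), g.1.2, fun c c' h => ?_⟩
        invFun := fun g => ⟨⟨g.1, g.2.1⟩, by rw [normalizer_inNormalizer]; exact Subgroup.mem_top _,
          fun c c' h => ?_⟩
        left_inv := fun g => rfl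
        right_inv := fun g => rfl }
    · have := g.2.2 ((centralizerEquiv P).symm c) ((centralizerEquiv P).symm c') (Subtype.ext h)
      change (compIrr (centralizerEquiv P) θ.1 : C[inNormalizer P] → ℂ) _ =
        (compIrr (centralizerEquiv P) θ.1 : C[inNormalizer P] → ℂ) _ at this
      rwa [compIrr_apply, compIrr_apply, MulEquiv.apply_symm_apply, MulEquiv.apply_symm_apply]
        at this
    · exact g.2.2 (centralizerEquiv P c) (centralizerEquiv P c') (congrArg Subtype.val h)
  rw [hC, hF]

/-- Characters of degree prime to `p` are counted by the classes of the normalizer. -/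
theorem card_pprime_eq_classes {M : Ideal AlgInt} (hM : IsPModular p M) (P : Sylow p G)
    (hcard : Nat.card (P : Subgroup G) = p) :
    Nat.card {χ : IrrCharacter G // ¬ p ∣ charDegree (χ : G → ℂ)} =
      Nat.card (ConjClasses (Subgroup.normalizer ((P : Subgroup G) : Set G))) := by
  classical
  set N := Subgroup.normalizer ((P : Subgroup G) : Set G)
  let P' : Sylow p N := P.subtype Subgroup.le_normalizer
  have hP' : (P' : Subgroup N) = inNormalizer (P : Subgroup G) := rfl
  have hcard' : Nat.card (P' : Subgroup N) = p := by
    rw [hP', Nat.card_congr (Subgroup.subgroupOfEquivOfLe Subgroup.le_normalizer).toEquiv, hcard]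
  have h1 := card_pprime_mul hM P hcard
  have h2 := card_pprime_mul hM P' hcard'
  rw [hP', relIndex_inNormalizer, rootWeight_inNormalizer, ← h1,
    Nat.card_congr (centralizerEquiv (P : Subgroup G)).toEquiv] at h2
  have hpos : 0 < (C[(P : Subgroup G)]).relIndex N * Nat.card C[(P : Subgroup G)] ^ 2 :=
    Nat.mul_pos (Nat.pos_of_ne_zero Subgroup.index_ne_zero_of_finite) (pow_pos Nat.card_pos _)
  rw [← Nat.eq_of_mul_eq_mul_right hpos h2, ← Char.card_irr_eq_card_conjClasses]
  refine Nat.card_congr (Equiv.subtypeUnivEquiv fun χ => ?_)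
  intro hdvd
  haveI : (inNormalizer (P : Subgroup G)).Normal := Subgroup.normal_in_normalizer
  haveI : IsCyclic (inNormalizer (P : Subgroup G)) := isCyclic_of_prime_card (hP' ▸ hcard')
  have hd : charDegree (χ : N → ℂ) ∣ (inNormalizer (P : Subgroup G)).index :=
    Char.degree_dvd_index_of_comm _ (fun a ha b hb => by
      letI := IsCyclic.commGroup (α := inNormalizer (P : Subgroup G))
      exact congrArg Subtype.val (mul_comm (⟨a, ha⟩ : inNormalizer (P : Subgroup G)) ⟨b, hb⟩))
      χ.2 (apply_one_eq_charDegree χ)
  have hdvd' := dvd_trans hdvd hd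
  exact (hP' ▸ P'.not_dvd_index) hdvd'

end Cfsg.Lib.Block
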