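import Cfsg.Agent.Lib.Block.MajorScaled
import Cfsg.Agent.Lib.Block.CentralQuotientForm
import Cfsg.Agent.Lib.Block.CyclicFormBound
import Cfsg.Agent.Lib.Block.CentralPairs

/-!
# Subsections with a cyclic quotient

If the defect group of the block of a centralizer is cyclic modulo the element, the form of that
block has all nonzero values at least its rank, which bounds the number of characters of the block
by the order of the defect group.
-/

set_option autoImplicit false
set_option linter.unusedSectionVars false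
set_option maxHeartbeats 1600000

namespace Cfsg.Lib.Block

open Cfsg Matrix

universe u

noncomputable local instance (priority := high) fintypeSubgroupCyclicQuotientBound {A : Type u}
    [Group A] [Fintype A] (H : Subgroup A) : Fintype H := Fintype.ofFinite H

noncomputable local instance (priority := high) fintypeQuotientCyclicQuotientBound {A : Type u}
    [Group A] [Fintype A] (H : Subgroup A) : Fintype (A ⧸ H) := Fintype.ofFinite _

local notation "C[" Q "]" => Subgroup.centralizer (SetLike.coe Q)

variable {p : ℕ} {M : Ideal AlgInt} [Fact p.Prime] (hM : IsPModular p M)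

theorem normal_of_le_center {A : Type u} [Group A] {N : Subgroup A}
    (h : N ≤ Subgroup.center A) : N.Normal :=
  ⟨fun n hn g => by
    rw [Subgroup.mem_center_iff.1 (h hn) g, mul_inv_cancel_right]; exact hn⟩

theorem map_le_zpowers {A Q : Type u} [Group A] [Group Q] (g : A →* Q) {P : Subgroup A} {z y : A}
    (hgen : P ≤ Subgroup.zpowers z ⊔ Subgroup.zpowers y) (hz : g z = 1) :
    P.map g ≤ Subgroup.zpowers (g y) := by
  refine (Subgroup.map_mono hgen).trans ?_
  rw [Subgroup.map_sup, MonoidHom.map_zpowers, MonoidHom.map_zpowers, hz, Subgroup.zpowers_one_eq_bot,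
    bot_sup_eq]

include hM in
/-- The block of a group and the block below it modulo a central cyclic `p`-subgroup. -/
theorem below_central {A : Type u} [Group A] [Fintype A] {f : Set (IrrCharacter A)}
    (hf : IsPBlock M f) {D : Subgroup A} (hD : IsDefectGroup p M f D) {z : A}
    (hz : z ∈ Subgroup.center A) (hzD : z ∈ D) [(Subgroup.zpowers z).Normal] :
    IsPBlock M (deflSet (Subgroup.zpowers z) f) ∧
      IsDefectGroup p M (deflSet (Subgroup.zpowers z) f)
        (D.map (QuotientGroup.mk' (Subgroup.zpowers z))) ∧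
      blockRank p (deflSet (Subgroup.zpowers z) f) = blockRank p f ∧
      Nat.card (D.map (QuotientGroup.mk' (Subgroup.zpowers z))) * orderOf z = Nat.card D ∧
      ∀ L : ℤ, FormLB p (deflSet (Subgroup.zpowers z) f) L → FormLB p f L := by
  have hDp := isPGroup_defectGroup hM hD
  have hle : Subgroup.zpowers z ≤ D := Subgroup.zpowers_le.2 hzD
  have hN : IsPGroup p (Subgroup.zpowers z) := hDp.to_le hle
  have hNc : Subgroup.zpowers z ≤ Subgroup.center A := Subgroup.zpowers_le.2 hz
  obtain ⟨hb, hdef⟩ := deflSet_central hM hN hNc hf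
  have hbD := hdef D hD
  have hcard := card_map_mk_mul (p := p) hle
  refine ⟨hb, hbD, blockRank_deflSet hM _ hN (fun g _ => centralizer_of_le_center hNc g) hf,
    by rwa [← Nat.card_zpowers], fun L hL => formLB_of_deflSet hM hN hNc hf ?_ hL⟩
  rw [← card_defectGroup hM hb hbD, ← card_defectGroup hM hf hD]
  exact hcard

include hM in
/-- The form of a block whose defect group is cyclic modulo a central element. -/
theorem formLB_of_cyclic_quotient {A : Type u} [Group A] [Fintype A] {f : Set (IrrCharacter A)}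
    (hf : IsPBlock M f) {D : Subgroup A} (hD : IsDefectGroup p M f D) {z y : A}
    (hz : z ∈ Subgroup.center A) (hzD : z ∈ D)
    (hgen : D ≤ Subgroup.zpowers z ⊔ Subgroup.zpowers y) : FormLB p f (blockRank p f) := by
  haveI := normal_of_le_center (Subgroup.zpowers_le.2 hz)
  obtain ⟨hb, hbD, hrank, -, hF⟩ := below_central hM hf hD hz hzD
  have h1 := map_le_zpowers (QuotientGroup.mk' (Subgroup.zpowers z)) hgen
    ((QuotientGroup.eq_one_iff z).2 (Subgroup.mem_zpowers z))
  have hcyc : IsCyclic (D.map (QuotientGroup.mk' (Subgroup.zpowers z))) :=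
    isCyclic_of_injective (Subgroup.inclusion h1) (Subgroup.inclusion_injective h1)
  have h := hF _ (formLB_cyclic hM hb hbD hcyc)
  rwa [hrank] at h

variable {G : Type u} [Group G] [Fintype G] {B : Set (IrrCharacter G)} {P : Subgroup G}

include hM in
/-- The major subsection at an element of an abelian defect group. -/
theorem exists_major_abelian (hB : IsPBlock M B) (hD : IsDefectGroup p M B P)
    (hab : ∀ x ∈ P, ∀ y ∈ P, x * y = y * x) {z : G} (hz : z ∈ P) :
    ∃ (f : Set (IrrCharacter C[Subgroup.zpowers z])) (e : ℕ)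
      (m : IrrCharacter C[Subgroup.zpowers z] → IrrCharacter C[Subgroup.zpowers z] → ℤ)
      (hzC : z ∈ C[Subgroup.zpowers z]),
      MajorSetup (p := p) M e z f B m ∧
      IsDefectGroup p M f (P.subgroupOf C[Subgroup.zpowers z]) ∧
      P ≤ C[Subgroup.zpowers z] ∧
      (⟨z, hzC⟩ : C[Subgroup.zpowers z]) ∈ Subgroup.center C[Subgroup.zpowers z] := by
  obtain ⟨c, hmax⟩ := exists_pair_at_defect hM hB hD
  have hQ : Subgroup.zpowers z ≤ P := Subgroup.zpowers_le.2 hz
  have hPC : P ≤ C[Subgroup.zpowers z] := le_centralizer_of_abelian hab hQ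
  obtain ⟨f, -, hle⟩ := exists_subpair hM hmax.1.1 hQ
  obtain ⟨e, m, hS⟩ := exists_majorSetup_central hM hmax hz (fun d hd => hab d hd z hz) hle
  refine ⟨f, e, m, hPC hz, hS, subpair_defect_central hM hmax hPC hle, hPC,
    Subgroup.mem_center_iff.2 fun g => Subtype.ext ?_⟩
  exact (Subgroup.mem_centralizer_iff.1 g.2 z (Subgroup.mem_zpowers z)).symm

theorem subgroupOf_le_sup {A : Type u} [Group A] {P H : Subgroup A} (hPH : P ≤ H) {z y : A}
    (hz : z ∈ P) (hy : y ∈ P) (hgen : P ≤ Subgroup.zpowers z ⊔ Subgroup.zpowers y) :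
    P.subgroupOf H ≤ Subgroup.zpowers (⟨z, hPH hz⟩ : H) ⊔ Subgroup.zpowers (⟨y, hPH hy⟩ : H) := by
  rw [← Subgroup.map_le_map_iff_of_injective H.subtype_injective, Subgroup.map_sup,
    MonoidHom.map_zpowers, MonoidHom.map_zpowers, Subgroup.map_subgroupOf_eq_of_le hPH]
  exact hgen

open Classical in
include hM in
/-- An abelian defect group generated by two elements bounds the number of characters. -/
theorem card_le_of_two_gen (hB : IsPBlock M B) (hD : IsDefectGroup p M B P)
    (hab : ∀ x ∈ P, ∀ y ∈ P, x * y = y * x) {z y : G} (hz : z ∈ P) (hy : y ∈ P)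
    (hgen : P ≤ Subgroup.zpowers z ⊔ Subgroup.zpowers y) : Nat.card B ≤ Nat.card P := by
  obtain ⟨f, e, m, hzC, hS, hfD, hPC, hcen⟩ := exists_major_abelian hM hB hD hab hz
  have hf := hS.ind.1
  have hlb := formLB_of_cyclic_quotient hM hf hfD hcen hz (subgroupOf_le_sup hPC hz hy hgen)
  have h := hS.mul_card_le hM _ (Int.natCast_nonneg _) fun w hw => hlb.le_quad hM hf hS.form w hw
  rw [card_defectGroup hM hB hD]
  have h2 : blockRank p f * Nat.card B ≤ blockRank p f * p ^ blockDefect p B := by
    rw [mul_comm (blockRank p f) (p ^ _)]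
    exact_mod_cast h
  exact Nat.le_of_mul_le_mul_left h2 (blockRank_pos hM hf)

open Classical in
include hM in
/-- An abelian defect group generated by three elements, one of them given. -/
theorem card_mul_order_le_of_three_gen (hB : IsPBlock M B) (hD : IsDefectGroup p M B P)
    (hab : ∀ x ∈ P, ∀ y ∈ P, x * y = y * x) {a z y : G} (ha : a ∈ P) (hz : z ∈ P) (hy : y ∈ P)
    (hgen : P ≤ Subgroup.zpowers a ⊔ (Subgroup.zpowers z ⊔ Subgroup.zpowers y)) :
    Nat.card B * orderOf a ≤ Nat.card P * Nat.card P := by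
  obtain ⟨f, e, m, haC, hS, hfD, hPC, hcen⟩ := exists_major_abelian hM hB hD hab ha
  have hf := hS.ind.1
  set a' : C[Subgroup.zpowers a] := ⟨a, haC⟩ with ha'
  haveI := normal_of_le_center (Subgroup.zpowers_le.2 hcen)
  have haD : a' ∈ P.subgroupOf C[Subgroup.zpowers a] := ha
  obtain ⟨hb, hbD, hrank, hcard, -⟩ := below_central hM hf hfD hcen haD
  set g := QuotientGroup.mk' (Subgroup.zpowers a') with hg
  have h1 : (P.subgroupOf C[Subgroup.zpowers a]).map g ≤
      Subgroup.zpowers (g ⟨z, hPC hz⟩) ⊔ Subgroup.zpowers (g ⟨y, hPC hy⟩) := by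
    have h0 : P.subgroupOf C[Subgroup.zpowers a] ≤
        Subgroup.zpowers a' ⊔ (Subgroup.zpowers (⟨z, hPC hz⟩ : C[Subgroup.zpowers a]) ⊔
          Subgroup.zpowers (⟨y, hPC hy⟩ : C[Subgroup.zpowers a])) := by
      rw [← Subgroup.map_le_map_iff_of_injective (Subgroup.subtype_injective _), Subgroup.map_sup,
        Subgroup.map_sup, MonoidHom.map_zpowers, MonoidHom.map_zpowers, MonoidHom.map_zpowers,
        Subgroup.map_subgroupOf_eq_of_le hPC]
      exact hgen
    refine (Subgroup.map_mono h0).trans ?_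
    rw [Subgroup.map_sup, Subgroup.map_sup, MonoidHom.map_zpowers, MonoidHom.map_zpowers,
      MonoidHom.map_zpowers, show g a' = 1 from (QuotientGroup.eq_one_iff a').2
        (Subgroup.mem_zpowers a'), Subgroup.zpowers_one_eq_bot, bot_sup_eq]
  have hk : Nat.card (deflSet (Subgroup.zpowers a') f) ≤
      Nat.card ((P.subgroupOf C[Subgroup.zpowers a]).map g) := by
    refine card_le_of_two_gen hM hb hbD ?_ ⟨⟨z, hPC hz⟩, hz, rfl⟩ ⟨⟨y, hPC hy⟩, hy, rfl⟩ h1
    rintro _ ⟨u, hu, rfl⟩ _ ⟨v, hv, rfl⟩
    rw [← map_mul, ← map_mul]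
    exact congrArg g (Subtype.ext (hab _ hu _ hv))
  have h := hS.mul_card_le hM 1 zero_le_one
    fun w hw => (formLB_one hM hf).le_quad hM hf hS.form w hw
  rw [one_mul] at h
  have h2 : Nat.card B ≤ Nat.card P * blockRank p f := by
    rw [card_defectGroup hM hB hD]
    exact_mod_cast h
  rw [Nat.card_congr (Subgroup.subgroupOfEquivOfLe hPC).toEquiv,
    show orderOf a' = orderOf a from Subgroup.orderOf_mk a haC] at hcard
  calc Nat.card B * orderOf a
      ≤ Nat.card P * blockRank p (deflSet (Subgroup.zpowers a') f) * orderOf a := by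
        rw [hrank]; exact Nat.mul_le_mul_right _ h2
    _ ≤ Nat.card P * Nat.card ((P.subgroupOf C[Subgroup.zpowers a]).map g) * orderOf a :=
        Nat.mul_le_mul_right _ (Nat.mul_le_mul_left _ ((blockRank_le_card _).trans hk))
    _ = Nat.card P * Nat.card P := by rw [mul_assoc, hcard]

open Classical in
include hM in
/-- Height zero characters at a subsection with cyclic quotient. -/
theorem card_height_zero_le_of_cyclic_quotient {H : Subgroup G} {u : G} {j : ℕ}
    (hu : orderOf u = p ^ j) (hHu : ∀ h : H, Commute u (h : G))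
    (hCH : Subgroup.centralizer ({u} : Set G) ≤ H) {b : Set (IrrCharacter H)}
    (hind : IsInducedBlock M H b B) {D : Subgroup H} (hbD : IsDefectGroup p M b D) (huH : u ∈ H)
    (huD : (⟨u, huH⟩ : H) ∈ D) {y : H}
    (hgen : D ≤ Subgroup.zpowers (⟨u, huH⟩ : H) ⊔ Subgroup.zpowers y) :
    Nat.card {χ : IrrCharacter G // χ ∈ B ∧ blockHeight p B (χ : G → ℂ) = 0} ≤ Nat.card D := by
  have hcen : (⟨u, huH⟩ : H) ∈ Subgroup.center H :=
    Subgroup.mem_center_iff.2 fun g => Subtype.ext (hHu g).eq.symm
  obtain ⟨m, hm⟩ := exists_regForm hM hind.1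
  have hlb := formLB_of_cyclic_quotient hM hind.1 hbD hcen huD hgen
  have hpow : u ^ p ^ (j + 1) = 1 := by
    rw [pow_succ, pow_mul, ← hu, pow_orderOf_eq_one, one_pow]
  have h := mul_card_height_zero_le hM hpow hHu hCH hind hm _ (Int.natCast_nonneg _)
    fun w hw => hlb.le_quad hM hind.1 hm w hw
  rw [card_defectGroup hM hind.1 hbD]
  have h2 : blockRank p b *
      Nat.card {χ : IrrCharacter G // χ ∈ B ∧ blockHeight p B (χ : G → ℂ) = 0} ≤
      blockRank p b * p ^ blockDefect p b := by
    rw [mul_comm (blockRank p b) (p ^ _)]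
    exact_mod_cast h
  exact Nat.le_of_mul_le_mul_left h2 (blockRank_pos hM hind.1)

end Cfsg.Lib.Block
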