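import Cfsg.Agent.Lib.Block.CyclicTwist

/-!
# Relative traces of endomorphisms to the group

An element whose relative trace from the defect group is the idempotent of the block, and the
splitting of a relative trace over the cosets inside and outside a subgroup with trivial
intersection property.
-/

set_option autoImplicit false
set_option linter.unusedSectionVars false
set_option maxHeartbeats 1000000

namespace Cfsg.Lib.Block

open Cfsg Module
open scoped MonoidAlgebra

universe u v w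

noncomputable local instance (priority := high) fintypeSubgroupCyclicRelTrace {A : Type u}
    [Group A] [Fintype A] (H : Subgroup A) : Fintype H := Fintype.ofFinite H

variable {p : ℕ} [Fact p.Prime] {M : Ideal AlgInt} {hM : IsPModular p M}

/-! ## The averaged element -/

open Classical in
/-- The idempotent of a block with one simple module is a relative trace from the defect group. -/
theorem exists_averaged {A : Type u} [Group A] [Fintype A] {f : Set (IrrCharacter A)}
    (hf : IsPBlock M f) (hl : blockRank p f ≤ 1) {m : ℕ}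
    {σ : Representation (resField hM) A (Fin m → resField hM)} (hσ : σ.IsIrreducible)
    (hσb : blockOp hM f σ = 1) {D : Subgroup A} (hD : IsDefectGroup p M f D) :
    ∃ b : KGA hM A, (∀ d ∈ D, Commute (MonoidAlgebra.single d 1) b) ∧
      ∑ r : A ⧸ D, MonoidAlgebra.single r.out 1 * b * MonoidAlgebra.single r.out⁻¹ 1 =
        blkA hM f := by
  obtain ⟨g₀, hg₀, S, rfl⟩ := isDefectGroup_iff.1 hD
  set D := cenSyl g₀ S with hDdef
  have hDC : ∀ d ∈ D, d * g₀ = g₀ * d := fun d hd =>
    (Subgroup.mem_centralizer_iff.1 (cenSyl_le g₀ S hd) g₀ rfl).symm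
  obtain ⟨ψ, hψ⟩ := nonempty_of_isPBlock hM hf
  set F : A → ℂ := fun y =>
    ((Finset.univ.filter fun r : A ⧸ D => r.out * g₀ * r.out⁻¹ = y).card : ℂ) with hF
  have hrep : ∀ (r : A ⧸ D) (g : A), (g : A ⧸ D) = r → r.out * g₀ * r.out⁻¹ = g * g₀ * g⁻¹ := by
    intro r g hg
    obtain ⟨⟨d, hd⟩, hdd⟩ := QuotientGroup.mk_out_eq_mul D g
    rw [← hg, hdd]
    simp only [mul_inv_rev, mul_assoc]
    congr 1
    rw [← mul_assoc, hDC d hd, mul_assoc, mul_inv_cancel_left]
  have hFc : IsClassFunction A F := by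
    intro y x
    simp only [hF, ← Fintype.card_subtype, Nat.cast_inj]
    refine (Fintype.card_congr (Equiv.subtypeEquiv (MulAction.toPerm x) fun r => ?_)).symm
    have e := hrep (x • r) (x * r.out) (by
      conv_rhs => rw [← QuotientGroup.out_eq' r]
      rfl)
    rw [MulAction.toPerm_apply, e]
    constructor
    · intro h
      rw [← h]
      group
    · intro h
      refine mul_left_cancel (a := x) (mul_right_cancel (b := x⁻¹) ?_)
      rw [← h]
      group
  set v := vec F with hv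
  have hvint : VInt hM v := fun g => by
    rw [hv, zc_vec hFc]
    exact natCast_mem _ _
  set c : KGA hM A := ∑ r : A ⧸ D, MonoidAlgebra.single (r.out * g₀ * r.out⁻¹) 1 with hc
  have hcv : cV hM v = c := by
    refine MonoidAlgebra.ext (Finsupp.ext fun y => ?_)
    rw [coeff_cV, hv, zc_vec hFc, hF, res_natCast, hc, MonoidAlgebra.coeff_sum,
      Finsupp.finset_sum_apply]
    simp only [MonoidAlgebra.coeff_single, Finsupp.single_apply, Finset.sum_boole]
  have hcomm : ∀ x, Commute c x := fun x => hcv ▸ cV_commute hM v x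
  have hval : v ψ = ((D.subgroupOf (Subgroup.centralizer ({g₀} : Set A))).index : ℂ) * centralChar (ψ : A → ℂ) g₀ := by
    have h1 : ∑ y, F y * (ψ : A → ℂ) y = (D.index : ℂ) * (ψ : A → ℂ) g₀ := by
      simp only [hF, ← Finset.sum_boole, Finset.sum_mul, ite_mul, one_mul, zero_mul]
      rw [Finset.sum_comm, Subgroup.index_eq_card, Nat.card_eq_fintype_card, ← Finset.card_univ,
        ← nsmul_eq_mul, ← Finset.sum_const]
      refine Finset.sum_congr rfl fun r _ => ?_
      rw [Finset.sum_ite_eq, if_pos (Finset.mem_univ _)]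
      exact ψ.2.isClassFunction g₀ r.out
    have hle : D ≤ Subgroup.centralizer ({g₀} : Set A) := cenSyl_le g₀ S
    rw [hv, vec, h1, centralChar, ← Subgroup.relIndex_mul_index hle, Subgroup.relIndex]
    push_cast
    ring
  have hidx : ¬ p ∣ (D.subgroupOf (Subgroup.centralizer ({g₀} : Set A))).index := by
    have e : D.subgroupOf (Subgroup.centralizer ({g₀} : Set A)) =
        (S : Subgroup (Subgroup.centralizer ({g₀} : Set A))) :=
      Subgroup.comap_map_eq_self_of_injective Subtype.coe_injective _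
    rw [e]
    exact S.not_dvd_index
  set s := res hM (v ψ) with hs
  have hs0 : s ≠ 0 := by
    intro h
    rw [hs, hval, res_mul hM (natCast_mem _ _) (centralChar_mem_locRing hM ψ g₀)] at h
    rcases mul_eq_zero.1 h with h1 | h1
    · rw [res_eq_zero_iff hM (natCast_mem _ _), memLocalIdeal_natCast_iff hM] at h1
      exact hidx h1
    · exact hg₀.2.2 ψ hψ ((res_eq_zero_iff hM (centralChar_mem_locRing hM ψ g₀)).1 h1)
  have hσc : σ.asAlgebraHom c = s • 1 := by
    rw [← hcv]
    exact sigma_cV hf hl hσ hσb hψ hvint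
  set c' := s⁻¹ • c with hc'
  obtain ⟨N, hN, hnil⟩ := exists_pow_eq_zero_of_simple hM hf hl hσ hσb (c := 1 - c')
    (by rw [map_sub, map_one, hc', map_smul, hσc, smul_smul, inv_mul_cancel₀ hs0, one_smul,
      sub_self])
  set u : KGA hM A := (∑ i ∈ Finset.range N, (1 - c') ^ i) * blkA hM f with hu
  have hcu : c' * u = blkA hM f := by
    have h1 := mul_neg_geom_sum (1 - c') N
    rw [sub_sub_cancel] at h1
    rw [hu, ← mul_assoc, h1, sub_mul, one_mul, hnil, sub_zero]
  have hc'comm : ∀ x, Commute c' x := fun x => (hcomm x).smul_left _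
  have hucomm : ∀ x, Commute u x := fun x =>
    ((Commute.sum_left _ _ _ fun i _ =>
      ((Commute.one_left x).sub_left (hc'comm x)).pow_left i)).mul_left
      (cV_commute hM (indVec f) x)
  refine ⟨s⁻¹ • (MonoidAlgebra.single g₀ 1 * u), fun d hd => ?_, ?_⟩
  · refine (Commute.mul_right ?_ (hucomm _).symm).smul_right _
    show _ = _
    rw [MonoidAlgebra.single_mul_single, MonoidAlgebra.single_mul_single, hDC d hd]
  · rw [← hcu, hc', hc, Finset.smul_sum, Finset.sum_mul]
    refine Finset.sum_congr rfl fun r _ => ?_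
    rw [mul_smul_comm, smul_mul_assoc, smul_mul_assoc, mul_assoc, mul_assoc,
      (hucomm (MonoidAlgebra.single r.out⁻¹ 1)).eq]
    simp only [← mul_assoc, MonoidAlgebra.single_mul_single, one_mul]

/-! ## Splitting a relative trace -/

variable {G : Type u} [Group G] [Fintype G] {K P : Subgroup G} {X : Type v} [AddCommGroup X]
  [Module (resField hM) X] (ρ : Representation (resField hM) G X)

/-- A conjugate of an endomorphism. -/
noncomputable def cjOp (Ψ : Module.End (resField hM) X) (g : G) : Module.End (resField hM) X :=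
  ρ g * Ψ * ρ g⁻¹

theorem cjOp_mul (Ψ : Module.End (resField hM) X) (a b : G) :
    cjOp ρ Ψ (a * b) = ρ a * cjOp ρ Ψ b * ρ a⁻¹ := by
  rw [cjOp, cjOp, map_mul, mul_inv_rev, map_mul]
  simp only [mul_assoc]

variable {Ψ : Module.End (resField hM) X} (hΨ : ∀ d ∈ P, Commute (ρ d) Ψ)

include hΨ in
theorem cjOp_rep {g g' : G} (hg : (g : G ⧸ P) = (g' : G ⧸ P)) : cjOp ρ Ψ g = cjOp ρ Ψ g' := by
  obtain ⟨d, hd, rfl⟩ : ∃ d ∈ P, g' = g * d :=
    ⟨g⁻¹ * g', QuotientGroup.eq.1 hg, by group⟩
  rw [cjOp, cjOp, map_mul, mul_inv_rev, map_mul]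
  simp only [mul_assoc]
  congr 1
  rw [← mul_assoc (ρ d), (hΨ _ hd).eq]
  simp only [mul_assoc]
  rw [← mul_assoc (ρ d) (ρ d⁻¹), ← map_mul ρ d, mul_inv_cancel, map_one, one_mul]

include hΨ in
theorem cjOp_smul (g : G) (x : G ⧸ P) :
    cjOp ρ Ψ (g • x).out = ρ g * cjOp ρ Ψ x.out * ρ g⁻¹ := by
  rw [cjOp_rep ρ hΨ (g' := g * x.out) (by
    rw [QuotientGroup.out_eq']
    conv_lhs => rw [← QuotientGroup.out_eq' x]
    rfl), cjOp_mul]

include hΨ in
open Classical in
/-- The whole relative trace commutes with the group. -/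
theorem trace_commute (g : G) :
    (∑ x : G ⧸ P, cjOp ρ Ψ x.out) * ρ g = ρ g * ∑ x : G ⧸ P, cjOp ρ Ψ x.out := by
  rw [Finset.sum_mul, Finset.mul_sum]
  refine (Fintype.sum_equiv (MulAction.toPerm g) _ _ fun x => ?_).symm
  rw [MulAction.toPerm_apply, cjOp_smul ρ hΨ, mul_assoc _ (ρ g⁻¹), ← map_mul, inv_mul_cancel,
    map_one, mul_one]

theorem out_mem_iff {N : Subgroup G} (hPN : P ≤ N) (g : G) :
    ((g : G ⧸ P)).out ∈ N ↔ g ∈ N := by
  obtain ⟨⟨d, hd⟩, hdd⟩ := QuotientGroup.mk_out_eq_mul P g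
  rw [hdd]
  exact ⟨fun h => by simpa using mul_mem h (inv_mem (hPN hd)), fun h => mul_mem h (hPN hd)⟩

theorem smul_out_mem_iff {N : Subgroup G} (hPN : P ≤ N) {k : G} (hk : k ∈ N) (x : G ⧸ P) :
    (k • x).out ∈ N ↔ x.out ∈ N := by
  have e : (k • x) = ((k * x.out : G) : G ⧸ P) := by
    conv_lhs => rw [← QuotientGroup.out_eq' x]
    rfl
  rw [e, out_mem_iff hPN, Subgroup.mul_mem_cancel_left _ hk]

include hΨ in
open Classical in
/-- The part inside a subgroup of the form `⋃ hⁱ K`. -/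
theorem sum_cjOp_inside {S : Subgroup G} (hPK : P ≤ K) (hKS : K ≤ S) {h : G} (hh : h ∈ S) {n : ℕ}
    (hinj : ∀ i < n, h ^ i ∈ K → i = 0) (hsurj : ∀ g ∈ S, ∃ i < n, (h ^ i)⁻¹ * g ∈ K) :
    ∑ x ∈ Finset.univ.filter (fun x : G ⧸ P => x.out ∈ S), cjOp ρ Ψ x.out =
      ∑ i ∈ Finset.range n, ρ (h ^ i) *
        (∑ r : K ⧸ P.subgroupOf K, cjOp ρ Ψ (r.out : G)) * ρ (h ^ i)⁻¹ := by
  simp only [Finset.mul_sum, Finset.sum_mul, ← cjOp_mul]
  rw [← Finset.sum_product']
  refine (Finset.sum_bij (fun a _ => ((h ^ a.1 * (a.2.out : G) : G) : G ⧸ P)) ?_ ?_ ?_ ?_).symm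
  · intro a _
    exact Finset.mem_filter.2 ⟨Finset.mem_univ _, (out_mem_iff (hPK.trans hKS) _).2
      (mul_mem (pow_mem hh _) (hKS a.2.out.2))⟩
  · rintro ⟨i, r⟩ hi ⟨j, r'⟩ hj hab
    simp only [Finset.mem_product, Finset.mem_range, Finset.mem_univ, and_true] at hi hj
    rw [QuotientGroup.eq] at hab
    obtain rfl : i = j := by
      wlog hle : i ≤ j generalizing i j r r'
      · have h2 := inv_mem hab
        simp only [mul_inv_rev, inv_inv] at h2
        exact (this j r' i r (by simpa [mul_inv_rev] using h2) hj hi (le_of_not_ge hle)).symm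
      have h1 := mul_mem (mul_mem r.out.2 (hPK hab)) (inv_mem r'.out.2)
      have h2 : h ^ (j - i) ∈ K := by
        convert h1 using 1
        rw [pow_sub _ hle, ((Commute.refl h).pow_pow j i).inv_right.eq]
        group
      have := hinj _ (by omega) h2
      omega
    refine Prod.ext rfl ?_
    simp only [mul_inv_rev, mul_assoc, inv_mul_cancel_left] at hab
    rw [← QuotientGroup.out_eq' r, ← QuotientGroup.out_eq' r', QuotientGroup.eq,
      Subgroup.mem_subgroupOf]
    exact hab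
  · intro x hx
    obtain ⟨i, hi, hik⟩ := hsurj _ (Finset.mem_filter.1 hx).2
    refine ⟨(i, ((⟨_, hik⟩ : K) : K ⧸ P.subgroupOf K)), Finset.mem_product.2
      ⟨Finset.mem_range.2 hi, Finset.mem_univ _⟩, ?_⟩
    obtain ⟨⟨d, hd⟩, hdd⟩ := QuotientGroup.mk_out_eq_mul (P.subgroupOf K) (⟨_, hik⟩ : K)
    simp only [hdd, Subgroup.coe_mul]
    rw [← mul_assoc, QuotientGroup.mk_mul_of_mem _ (Subgroup.mem_subgroupOf.1 hd),
      mul_inv_cancel_left, QuotientGroup.out_eq']
  · intro a _
    refine cjOp_rep ρ hΨ ?_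
    rw [QuotientGroup.out_eq']

include hΨ in
open Classical in
/-- The part outside a subgroup whose complement is freely permuted by `P` is a trace from `1`. -/
theorem exists_sum_cjOp_outside {N : Subgroup G} (hPN : P ≤ N)
    (hfree : ∀ g : G, g ∉ N → ∀ d ∈ P, g⁻¹ * d * g ∈ P → d = 1) :
    ∃ Θ : Module.End (resField hM) X,
      ∑ x ∈ Finset.univ.filter (fun x : G ⧸ P => x.out ∉ N), cjOp ρ Ψ x.out =
        ∑ d : P, ρ (d : G) * Θ * ρ (d : G)⁻¹ := by
  haveI : Finite (MulAction.orbitRel.Quotient P (G ⧸ P)) := Quotient.finite _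
  haveI : Fintype (MulAction.orbitRel.Quotient P (G ⧸ P)) := Fintype.ofFinite _
  set Ω := Finset.univ.filter fun ω : MulAction.orbitRel.Quotient P (G ⧸ P) =>
    (Quotient.out ω : G ⧸ P).out ∉ N with hΩ
  refine ⟨∑ ω ∈ Ω, cjOp ρ Ψ (Quotient.out ω : G ⧸ P).out, ?_⟩
  simp only [Finset.mul_sum, Finset.sum_mul]
  rw [← Finset.sum_product']
  refine (Finset.sum_bij (fun a _ => (a.1 : G) • (Quotient.out a.2 : G ⧸ P)) ?_ ?_ ?_ ?_).symm
  · intro a ha
    exact Finset.mem_filter.2 ⟨Finset.mem_univ _, fun h => (Finset.mem_filter.1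
      (Finset.mem_product.1 ha).2).2 ((smul_out_mem_iff hPN (hPN a.1.2) _).1 h)⟩
  · rintro ⟨d, ω⟩ hd ⟨d', ω'⟩ hd' hab
    change d • (Quotient.out ω : G ⧸ P) = d' • (Quotient.out ω' : G ⧸ P) at hab
    obtain rfl : ω = ω' := by
      rw [← Quotient.out_eq ω, ← Quotient.out_eq ω']
      refine Quotient.sound (MulAction.orbitRel_apply.2 ⟨d⁻¹ * d', ?_⟩)
      show (d⁻¹ * d') • Quotient.out ω' = _
      rw [mul_smul, ← hab, inv_smul_smul]
    refine Prod.ext ?_ rfl
    have hx := (Finset.mem_filter.1 (Finset.mem_product.1 hd).2).2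
    set x := (Quotient.out ω : G ⧸ P)
    have h1 : ((d'⁻¹ * d : P) : G) • x = x := by
      show (d'⁻¹ * d) • x = x
      rw [mul_smul, hab, inv_smul_smul]
    have h2 : x.out⁻¹ * ((d'⁻¹ * d : P) : G) * x.out ∈ P := by
      rw [mul_assoc, ← QuotientGroup.eq, QuotientGroup.out_eq']
      conv_lhs => rw [← h1, ← QuotientGroup.out_eq' x]
      rfl
    exact (inv_mul_eq_one.1 (Subtype.ext (hfree _ hx _ (d'⁻¹ * d).2 h2))).symm
  · intro x hx
    set ω : MulAction.orbitRel.Quotient P (G ⧸ P) := Quotient.mk'' x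
    obtain ⟨d, hd⟩ := MulAction.orbitRel_apply.1 (Quotient.mk_out (s := MulAction.orbitRel P (G ⧸ P)) x)
    change d • x = (Quotient.out ω : G ⧸ P) at hd
    refine ⟨(d⁻¹, ω), Finset.mem_product.2 ⟨Finset.mem_univ _, Finset.mem_filter.2
      ⟨Finset.mem_univ _, fun h => (Finset.mem_filter.1 hx).2 ?_⟩⟩, ?_⟩
    · rw [← hd] at h
      exact (smul_out_mem_iff hPN (hPN d.2) x).1 h
    · show d⁻¹ • (Quotient.out ω : G ⧸ P) = x
      rw [← hd, inv_smul_smul]
  · intro a _
    exact (cjOp_smul ρ hΨ _ _).symm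

open Classical in
/-- A sum over the representatives of `K/P` and over `P` is the sum over `K`. -/
theorem sum_quot_sum (hPK : P ≤ K) {β : Type*} [AddCommMonoid β] (F : G → β) :
    ∑ r : K ⧸ P.subgroupOf K, ∑ d : P, F ((r.out : G) * (d : G)) = ∑ k : K, F (k : G) := by
  rw [← Finset.sum_product']
  refine Finset.sum_bij (fun a _ => a.1.out * ⟨(a.2 : G), hPK a.2.2⟩) (fun a _ => Finset.mem_univ _)
    ?_ ?_ (fun a _ => rfl)
  · rintro ⟨r, d⟩ _ ⟨r', d'⟩ _ hab
    have hr : r = r' := by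
      have h := congrArg (fun k : K => (k : K ⧸ P.subgroupOf K)) hab
      simpa [QuotientGroup.mk_mul_of_mem _ (show (⟨(d : G), hPK d.2⟩ : K) ∈ P.subgroupOf K from d.2),
        QuotientGroup.mk_mul_of_mem _ (show (⟨(d' : G), hPK d'.2⟩ : K) ∈ P.subgroupOf K from d'.2)]
        using h
    subst hr
    refine Prod.ext rfl (Subtype.ext ?_)
    exact mul_left_cancel (a := ((r.out : K) : G)) (congrArg Subtype.val hab)
  · intro k _
    obtain ⟨⟨d, hd⟩, hdd⟩ := QuotientGroup.mk_out_eq_mul (P.subgroupOf K) k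
    refine ⟨((k : K ⧸ P.subgroupOf K), ⟨(d : G)⁻¹, inv_mem (Subgroup.mem_subgroupOf.1 hd)⟩),
      Finset.mem_product.2 ⟨Finset.mem_univ _, Finset.mem_univ _⟩, Subtype.ext ?_⟩
    simp [hdd]

end Cfsg.Lib.Block
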