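import Cfsg.Agent.Lib.Block.CyclicBrauerQuot
import Cfsg.Agent.Lib.Block.RelBrauer
import Cfsg.Agent.Lib.Block.Defect

/-!
# The rank is at least the number of defect-zero characters over a subgroup of order `p`
-/

set_option autoImplicit false
set_option linter.unusedSectionVars false
set_option maxHeartbeats 1000000

namespace Cfsg.Lib.Block

open Cfsg
open scoped ComplexConjugate

universe u v

noncomputable local instance (priority := high) fintypeSubgroupCyclicSimples {A : Type u}
    [Group A] [Fintype A] (H : Subgroup A) : Fintype H := Fintype.ofFinite H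

variable {p : ℕ} [Fact p.Prime] {M : Ideal AlgInt} (hM : IsPModular p M)

/-! ## Idempotents of characters of defect zero -/

section Coeff

variable {A : Type u} [Group A] [Fintype A]

/-- The characters of defect zero. -/
def IsDefectZero (p : ℕ) (η : IrrCharacter A) : Prop :=
  (charDegree (η : A → ℂ)).factorization p = (Nat.card A).factorization p

/-- The reduced coefficients of the idempotent of a character. -/
noncomputable def eK (η : IrrCharacter A) (a : A) : resField hM :=
  res hM (blockCoeff ({η} : Set (IrrCharacter A)) a)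

include hM in
theorem isPBlock_singleton {η : IrrCharacter A} (hη : IsDefectZero p η) :
    IsPBlock M ({η} : Set (IrrCharacter A)) :=
  ⟨η, ((blockOf_eq_singleton_iff hM η).2 hη).symm⟩

theorem eK_conv {η η' : IrrCharacter A} (hη : IsDefectZero p η) (hη' : IsDefectZero p η') (q : A)
    [Decidable (η = η')] :
    ∑ a, eK hM η a * eK hM η' (a⁻¹ * q) = if η = η' then eK hM η q else 0 := by
  have hm := blockCoeff_mem_locRing hM (isPBlock_singleton hM hη)
  have hm' := blockCoeff_mem_locRing hM (isPBlock_singleton hM hη')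
  simp only [eK]
  rw [← Finset.sum_congr rfl fun a _ => res_mul hM (hm a) (hm' _),
    ← res_sum hM _ _ fun a _ => mul_mem (hm a) (hm' _)]
  simp only [← zc_indVec, ← zc_mul, indVec_mul_indVec]
  split_ifs with h
  · subst h; rw [Set.inter_self]
  · rw [show ({η} : Set (IrrCharacter A)) ∩ {η'} = ∅ by ext x; simp; rintro rfl; exact h]
    rw [show indVec (∅ : Set (IrrCharacter A)) = 0 by funext x; simp [indVec], zc_zero, res_zero]

theorem exists_eK_ne_zero {η : IrrCharacter A} (hη : IsDefectZero p η) : ∃ a, eK hM η a ≠ 0 := by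
  have hB := isPBlock_singleton hM hη
  obtain ⟨D, hD⟩ := exists_defectGroup hM hB
  obtain ⟨g, hg, -⟩ := isDefectGroup_iff.1 hD
  exact ⟨g, fun h => hg.2.1 ((res_eq_zero_iff hM hg.1).1 h)⟩

theorem blockCoeff_singleton (η : IrrCharacter A) (a : A) :
    blockCoeff ({η} : Set (IrrCharacter A)) a =
      (Nat.card A : ℂ)⁻¹ * ((η : A → ℂ) 1 * conj ((η : A → ℂ) a)) := by
  rw [blockCoeff, finsum_mem_singleton]

/-- The idempotent is an average over conjugates. -/
theorem exists_average {η : IrrCharacter A} (hη : IsDefectZero p η) :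
    ∃ c : A → resField hM, ∀ q, ∑ a, c (a⁻¹ * q * a) = eK hM η q := by
  classical
  set rep : A → A := fun q => (ConjClasses.mk q).out with hrep
  have hrc : ∀ q, IsConj (rep q) q := fun q =>
    ConjClasses.mk_eq_mk_iff_isConj.1 (Quotient.out_eq (ConjClasses.mk q))
  set β : A → ℂ := fun q => blockCoeff ({η} : Set (IrrCharacter A)) q /
    (Nat.card (Subgroup.centralizer ({q} : Set A)) : ℂ) with hβ
  have hm : ∀ q, β q ∈ locRing hM := by
    intro q
    have hA0 := Char.card_cast_ne_zero (G := A)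
    have hd0 := η.2.apply_one_ne_zero
    have hi := (Subgroup.centralizer ({q} : Set A)).card_mul_index
    have hC0 : (Nat.card (Subgroup.centralizer ({q} : Set A)) : ℂ) ≠ 0 :=
      Char.card_cast_ne_zero (G := Subgroup.centralizer ({q} : Set A))
    have hdvd : charDegree (η : A → ℂ) ∣ Nat.card A := charDegree_dvd_card η
    obtain ⟨m, hm⟩ := hdvd
    have hm0 : m ≠ 0 := fun h => by rw [h, mul_zero] at hm; exact Nat.card_pos.ne' hm
    have hmp : ¬ p ∣ m := by
      intro hpm
      have h1 := congrArg (fun x => x.factorization p) hm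
      rw [Nat.factorization_mul (charDegree_pos η).ne' hm0, Finsupp.add_apply, hη] at h1
      exact (Nat.Prime.factorization_pos_of_dvd (Fact.out) hm0 hpm).ne' (by omega)
    have hinv : ((m : ℂ))⁻¹ ∈ locRing hM :=
      inv_mem_locRing hM (natCast_mem _ m) (by rwa [memLocalIdeal_natCast_iff hM])
    have hω : centralChar (η : A → ℂ) q⁻¹ ∈ locRing hM := centralChar_mem_locRing hM η q⁻¹
    have e : β q = centralChar (η : A → ℂ) q⁻¹ * ((m : ℂ)⁻¹ * (m : ℂ)⁻¹) := by
      have hcq : Subgroup.centralizer ({q⁻¹} : Set A) = Subgroup.centralizer ({q} : Set A) := by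
        ext x
        simp only [Subgroup.mem_centralizer_iff, Set.mem_singleton_iff, forall_eq]
        exact ⟨fun h => (Commute.inv_left_iff.1 (show Commute q⁻¹ x from h)).eq,
          fun h => ((show Commute q x from h).inv_left).eq⟩
      have hcast : (Nat.card A : ℂ) = (η : A → ℂ) 1 * (m : ℂ) := by
        rw [apply_one_eq_charDegree η, ← Nat.cast_mul, ← hm]
      have hicast : (Nat.card (Subgroup.centralizer ({q} : Set A)) : ℂ) *
          ((Subgroup.centralizer ({q} : Set A)).index : ℂ) = (η : A → ℂ) 1 * (m : ℂ) := by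
        rw [← hcast, ← Nat.cast_mul, hi]
      have hm0' : (m : ℂ) ≠ 0 := Nat.cast_ne_zero.2 hm0
      rw [hβ]
      simp only [blockCoeff_singleton, centralChar, hcq, η.2.isCharacter.apply_inv, hcast]
      field_simp
      linear_combination (-(conj ((η : A → ℂ) q))) * hicast
    rw [e]
    exact mul_mem hω (mul_mem hinv hinv)
  refine ⟨fun q => if q = rep q then res hM (β q) else 0, fun q => ?_⟩
  simp only
  have hcls : ∀ a, rep (a⁻¹ * q * a) = rep q := fun a => by
    simp only [hrep]
    congr 1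
    exact ConjClasses.mk_eq_mk_iff_isConj.2 (isConj_iff.2 ⟨a, by group⟩)
  simp only [hcls]
  rw [← Finset.sum_filter, Finset.sum_congr rfl (g := fun _ => res hM (β (rep q))) fun a ha => by
    rw [(Finset.mem_filter.1 ha).2], Finset.sum_const]
  obtain ⟨x₀, hx₀⟩ := isConj_iff.1 (hrc q)
  have hcard : (Finset.univ.filter fun a => a⁻¹ * q * a = rep q).card =
      Nat.card (Subgroup.centralizer ({rep q} : Set A)) := by
    rw [← Fintype.card_subtype, ← Nat.card_eq_fintype_card]
    refine Nat.card_congr (Equiv.subtypeEquiv (Equiv.mulLeft x₀⁻¹) fun a => ?_)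
    simp only [Equiv.coe_mulLeft, Subgroup.mem_centralizer_iff, Set.mem_singleton_iff, forall_eq]
    conv_lhs => lhs; rw [← hx₀]
    constructor
    · intro h
      calc rep q * (x₀⁻¹ * a) = x₀⁻¹ * a * (a⁻¹ * (x₀ * rep q * x₀⁻¹) * a) := by group
        _ = _ := by rw [h]
    · intro h
      calc a⁻¹ * (x₀ * rep q * x₀⁻¹) * a = (x₀⁻¹ * a)⁻¹ * (rep q * (x₀⁻¹ * a)) := by group
        _ = rep q := by rw [h]; group
  rw [hcard, nsmul_eq_mul, ← res_natCast hM, ← res_mul hM (natCast_mem _ _) (hm _), eK, hβ]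
  simp only
  rw [mul_div_cancel₀ _ (Char.card_cast_ne_zero (G := Subgroup.centralizer ({rep q} : Set A)))]
  congr 1
  obtain ⟨c, hc⟩ := isConj_iff.1 (hrc q)
  conv_rhs => rw [← hc]
  rw [blockCoeff_conj_invariant]

/-- The sum of a class function against a translated character. -/
theorem sum_mul_shift {z : A → ℂ} (hz : IsClassFunction A z) (η : IrrCharacter A) (m : A) :
    ∑ g, z g * (η : A → ℂ) (g * m) = vec z η * (η : A → ℂ) m := by
  classical
  have hf : IsClassFunction A fun x => z x⁻¹ := fun x k => by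
    show z (k * x * k⁻¹)⁻¹ = z x⁻¹
    rw [show (k * x * k⁻¹)⁻¹ = k * x⁻¹ * k⁻¹ by group, hz x⁻¹ k]
  have hexp : ∀ g, z g = ∑ χ : IrrCharacter A,
      classInner (fun x => z x⁻¹) (χ : A → ℂ) * (χ : A → ℂ) g⁻¹ := fun g => by
    have := congrFun (Char.eq_sum_classInner hf) g⁻¹
    simpa using this
  have hgen : ∀ m, ∑ g, z g * (η : A → ℂ) (g * m) = classInner (fun x => z x⁻¹) (η : A → ℂ) *
      ((Nat.card A : ℂ) * (η : A → ℂ) m / (η : A → ℂ) 1) := by
    intro m
    rw [Finset.sum_congr rfl (g := fun g => ∑ χ : IrrCharacter A,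
      classInner (fun x => z x⁻¹) (χ : A → ℂ) * ((χ : A → ℂ) g⁻¹ * (η : A → ℂ) (g * m)))
      fun g _ => by rw [hexp g, Finset.sum_mul]; simp only [mul_assoc]]
    rw [Finset.sum_comm]
    simp only [← Finset.mul_sum, sum_inv_mul_shift]
    rw [Finset.sum_eq_single η (fun χ _ hχ => by rw [if_neg hχ, mul_zero]) (by simp), if_pos rfl]
  have h1 := hgen 1
  simp only [mul_one] at h1
  rw [hgen m, vec, h1]
  field_simp [η.2.apply_one_ne_zero]

end Coeff

/-! ## Uniqueness -/

variable {G : Type u} [Group G] [Fintype G] {t : G}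

/-- A witness of a character at a representation. -/
def IsWitness {W : Type v} [AddCommGroup W] [Module (resField hM) W]
    (ρ : Representation (resField hM) G W) (t : G) (η : IrrCharacter (NQuot t)) : Prop :=
  ∃ x ∈ LinearMap.ker (shiftOp ρ t), nOp t ρ (eK hM η) x ∉ topSub ρ t p

variable (ht : orderOf t = p)

include ht in
theorem mk_fixed_iff (g : G) :
    ((t * g : G) : G ⧸ Subgroup.zpowers t) = (g : G ⧸ Subgroup.zpowers t) ↔
      g ∈ Subgroup.normalizer (Subgroup.zpowers t : Set G) := by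
  rw [QuotientGroup.eq]
  have hinv : ∀ x : G, x⁻¹ * t * x ∈ Subgroup.zpowers t ↔
      (t * x)⁻¹ * x ∈ Subgroup.zpowers t := fun x => by
    rw [← Subgroup.inv_mem_iff]
    simp [mul_assoc]
  rw [← hinv]
  constructor
  · intro h
    have hle : (Subgroup.zpowers t).map (MulAut.conj g⁻¹).toMonoidHom ≤ Subgroup.zpowers t := by
      rw [MonoidHom.map_zpowers, Subgroup.zpowers_le]
      simpa [mul_assoc] using h
    have heq := Subgroup.eq_of_le_of_card_ge hle
      (by rw [Subgroup.card_map_of_injective (MulAut.conj g⁻¹).injective])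
    refine (Subgroup.inv_mem_iff _).1 (Subgroup.mem_normalizer_iff.2 fun z => ⟨fun hz => ?_, fun hz => ?_⟩)
    · rw [← heq]; exact ⟨z, hz, by simp⟩
    · rw [← heq] at hz
      obtain ⟨w, hw, he⟩ := hz
      have : w = z := (MulAut.conj g⁻¹).injective (by simpa using he)
      exact this ▸ hw
  · intro h
    have := (Subgroup.mem_normalizer_iff.1 (Subgroup.inv_mem _ h) t).1 (Subgroup.mem_zpowers t)
    rwa [inv_inv] at this

include ht in
open Classical in
/-- The relative trace of an endomorphism commuting with `t`, at a fixed point. -/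
theorem sum_quot_sub_mem {W : Type v} [AddCommGroup W] [Module (resField hM) W]
    (ρ : Representation (resField hM) G W) {F : Module.End (resField hM) W}
    (hF : Commute (ρ t) F) {x : W} (hx : x ∈ LinearMap.ker (shiftOp ρ t)) :
    ∑ q : G ⧸ Subgroup.zpowers t, ρ q.out (F (ρ q.out⁻¹ x)) -
      ∑ a : NQuot t, ρ (nRep t a) (F (ρ (nRep t a⁻¹) x)) ∈ topSub ρ t p := by
  haveI := charP_resField hM
  set P := Subgroup.zpowers t
  set Φ : G ⧸ P → W := fun q => ρ q.out (F (ρ q.out⁻¹ x)) with hΦdef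
  have hFP : ∀ z ∈ P, Commute (ρ z) F := by
    intro z hz
    obtain ⟨m, rfl⟩ := exists_pow_eq t hz
    rw [map_pow]
    exact hF.pow_left m
  have hrep : ∀ (q : G ⧸ P) (g : G), (g : G ⧸ P) = q → Φ q = ρ g (F (ρ g⁻¹ x)) := by
    intro q g hg
    obtain ⟨⟨z, hz⟩, hzz⟩ := QuotientGroup.mk_out_eq_mul P g
    rw [hΦdef]
    simp only [← hg, hzz, map_mul, mul_inv_rev, Module.End.mul_apply]
    congr 1
    rw [← Module.End.mul_apply (ρ z) F, (hFP z hz).eq, Module.End.mul_apply]
    simp [← Module.End.mul_apply, ← map_mul]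
  let σ : Equiv.Perm (G ⧸ P) := MulAction.toPerm t
  have hσp : σ ^ p = 1 := by
    have : σ = MulAction.toPermHom G (G ⧸ P) t := rfl
    rw [this, ← map_pow, ← ht, pow_orderOf_eq_one, map_one]
  have hΦ : ∀ q, Φ (σ q) = ρ t (Φ q) := by
    intro q
    rw [hrep (σ q) (t * q.out) (by
      show ((t * q.out : G) : G ⧸ P) = t • q
      conv_rhs => rw [← QuotientGroup.out_eq' q]
      rfl)]
    rw [map_mul, Module.End.mul_apply, mul_inv_rev, map_mul, Module.End.mul_apply,
      rho_fix t ρ hx (Subgroup.inv_mem _ (Subgroup.mem_zpowers t))]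
  set S := Finset.univ.filter fun q : G ⧸ P => σ q ≠ q with hS
  have htop := sum_free_mem_top ρ t σ hσp Φ hΦ S
    (fun q hq => Finset.mem_filter.2 ⟨Finset.mem_univ _, fun h =>
      (Finset.mem_filter.1 hq).2 (σ.injective h)⟩) (fun q hq => (Finset.mem_filter.1 hq).2)
  have hfix : ∑ q ∈ Finset.univ.filter (fun q : G ⧸ P => σ q = q), Φ q =
      ∑ a : NQuot t, ρ (nRep t a) (F (ρ (nRep t a⁻¹) x)) := by
    refine (Finset.sum_bij (fun a _ => ((nRep t a : G) : G ⧸ P)) ?_ ?_ ?_ ?_).symm
    · intro a _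
      exact Finset.mem_filter.2 ⟨Finset.mem_univ _, (mk_fixed_iff ht _).2 (nRep_mem t a)⟩
    · intro a _ b _ h
      rw [QuotientGroup.eq] at h
      rw [← QuotientGroup.out_eq' a, ← QuotientGroup.out_eq' b, QuotientGroup.eq]
      exact Subgroup.mem_subgroupOf.2 h
    · intro q hq
      have hq' := (Finset.mem_filter.1 hq).2
      rw [← QuotientGroup.out_eq' q] at hq'
      have hn := (mk_fixed_iff ht q.out).1 hq'
      refine ⟨((⟨q.out, hn⟩ : ↥(Subgroup.normalizer (P : Set G))) : NQuot t), Finset.mem_univ _, ?_⟩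
      obtain ⟨⟨h, hh⟩, he⟩ := QuotientGroup.mk_out_eq_mul
        ((Subgroup.zpowers t).subgroupOf (Subgroup.normalizer (Subgroup.zpowers t : Set G)))
        (⟨q.out, hn⟩ : ↥(Subgroup.normalizer (P : Set G)))
      rw [nRep, he, Subgroup.coe_mul, QuotientGroup.mk_mul_of_mem _ (Subgroup.mem_subgroupOf.1 hh)]
      exact QuotientGroup.out_eq' q
    · intro a _
      rw [hrep _ (nRep t a) rfl]
      congr 2
      have e : (((a.out)⁻¹ : ↥(Subgroup.normalizer (P : Set G))) : NQuot t) = a⁻¹ := by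
        rw [QuotientGroup.mk_inv, QuotientGroup.out_eq']
      rw [← e, nRep_congr t ρ hx]
      rfl
  rw [← hfix, ← Finset.sum_filter_add_sum_filter_not Finset.univ (fun q => σ q = q) Φ,
    add_sub_cancel_left]
  exact htop

include ht in
/-- A simple module sees at most one character. -/
theorem eq_of_witness {n : ℕ} (ρ : Representation (resField hM) G (Fin n → resField hM))
    (hirr : ρ.IsIrreducible) {η η' : IrrCharacter (NQuot t)} (hη : IsDefectZero p η)
    (hη' : IsDefectZero p η') (hw : IsWitness hM ρ t η) (hw' : IsWitness hM ρ t η') : η = η' := by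
  classical
  haveI := isAlgClosed_resField hM
  haveI := charP_resField hM
  haveI := hirr
  by_contra hne
  obtain ⟨x, hx, hxt⟩ := hw
  obtain ⟨x', hx', hxt'⟩ := hw'
  have htp : t ^ p = 1 := ht ▸ pow_orderOf_eq_one t
  have htop := topSub_eq_layer ρ t (p := p) htp
  set y := nOp t ρ (eK hM η) x with hy
  set y' := nOp t ρ (eK hM η') x' with hy'
  have hey : nOp t ρ (eK hM η) y = y := by
    rw [hy, nOp_nOp t ρ _ _ hx]
    congr 2
    funext q
    rw [eK_conv hM hη hη, if_pos rfl]
  have hey' : nOp t ρ (eK hM η) y' = 0 := by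
    rw [hy', nOp_nOp t ρ _ _ hx', show (fun q => ∑ a, eK hM η a * eK hM η' (a⁻¹ * q)) = 0 from
      funext fun q => by rw [eK_conv hM hη hη', if_neg hne]; rfl]
    simp [nOp]
  have hlevel : ∀ z ∈ LinearMap.ker (shiftOp ρ t), z ∉ topSub ρ t p →
      ∃ j, j + 1 ≤ p - 1 ∧ z ∈ layerSub ρ t j ∧ z ∉ layerSub ρ t (j + 1) := by
    intro z hz hzt
    have hex : ∃ m, z ∉ layerSub ρ t m := ⟨p - 1, htop ▸ hzt⟩
    have hm := Nat.find_spec hex
    have hle : Nat.find hex ≤ p - 1 := Nat.find_le (htop ▸ hzt)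
    obtain ⟨j, hj⟩ : ∃ j, Nat.find hex = j + 1 := by
      refine Nat.exists_eq_succ_of_ne_zero fun h => ?_
      rw [h] at hm
      exact hm (mem_layer_zero t ρ hz)
    refine ⟨j, hj ▸ hle, ?_, hj ▸ hm⟩
    exact not_not.1 (Nat.find_min hex (by omega))
  have hyk := nOp_ker t ρ (eK hM η) hx
  have hyk' := nOp_ker t ρ (eK hM η') hx'
  obtain ⟨j, hjp, hyj, hyj1⟩ := hlevel y hyk hxt
  obtain ⟨j', hjp', hyj', hyj1'⟩ := hlevel y' hyk' hxt'
  obtain ⟨c, hc⟩ := exists_average hM hη
  obtain ⟨F, hFc, hFker, hF0, hFh⟩ := exists_extension ρ t j (nOp t ρ c)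
    (fun z hz => nOp_layer t ρ c hz) (fun z hz => nOp_layer t ρ c hz)
  set P := Subgroup.zpowers t
  let f : Module.End (resField hM) (Fin n → resField hM) :=
    ∑ q : G ⧸ P, ρ q.out * F * ρ q.out⁻¹
  have hfapp : ∀ z, f z = ∑ q : G ⧸ P, ρ q.out (F (ρ q.out⁻¹ z)) := fun z => by
    simp [f, LinearMap.sum_apply]
  have hfg : ∀ g, f * ρ g = ρ g * f := by
    intro g
    simp only [f, Finset.sum_mul, Finset.mul_sum]
    refine (Fintype.sum_equiv (MulAction.toPerm g) _ _ fun q => ?_).symm
    simp only [MulAction.toPerm_apply]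
    obtain ⟨⟨z, hz⟩, hzz⟩ := QuotientGroup.mk_out_eq_mul P (g * q.out)
    have hgq : (g • q : G ⧸ P) = ((g * q.out : G) : G ⧸ P) := by
      conv_lhs => rw [← QuotientGroup.out_eq' q]
      rfl
    have hFz : Commute (ρ z) F := by
      obtain ⟨m, rfl⟩ := exists_pow_eq t hz
      rw [map_pow]; exact hFc.pow_left m
    rw [hgq, hzz]
    calc ρ g * (ρ q.out * F * ρ q.out⁻¹) = ρ (g * q.out) * F * ρ q.out⁻¹ := by
          rw [map_mul]; simp only [mul_assoc]
      _ = ρ (g * q.out) * (ρ z * F * ρ z⁻¹) * ρ q.out⁻¹ := by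
          rw [hFz.eq, mul_assoc F, ← map_mul, mul_inv_cancel, map_one, mul_one]
      _ = ρ (g * q.out * z) * F * ρ (g * q.out * z)⁻¹ * ρ g := by
          rw [mul_assoc _ (ρ (g * q.out * z)⁻¹) (ρ g), ← map_mul,
            show (g * q.out * z)⁻¹ * g = z⁻¹ * q.out⁻¹ by group]
          simp only [map_mul, mul_assoc]
  obtain ⟨s, hs⟩ := (Representation.IsIrreducible.algebraMap_intertwiningMap_bijective_of_isAlgClosed
    (ρ := ρ)).2 (LinearMap.intertwiningMap_of_isIntertwiningMap (f := f) (ρ := ρ) (σ := ρ)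
      fun g v => LinearMap.congr_fun (hfg g) v)
  have hfs : ∀ z, f z = s • z := fun z => by
    have := congrArg (fun φ : Representation.IntertwiningMap ρ ρ => φ.toLinearMap z) hs
    exact this.symm
  have hker : ∀ {m : ℕ} {z}, z ∈ layerSub ρ t m → z ∈ LinearMap.ker (shiftOp ρ t) := fun h => h.1
  have htl : ∀ {m : ℕ}, m ≤ p - 1 → topSub ρ t p ≤ layerSub ρ t m := fun h =>
    htop.le.trans (layerSub_mono ρ t h)
  have hA : ∀ z ∈ layerSub ρ t j, f z - nOp t ρ (eK hM η) z ∈ layerSub ρ t (j + 1) := by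
    intro z hz
    have h1 := htl hjp (sum_quot_sub_mem hM ht ρ hFc (hker hz))
    rw [← hfapp] at h1
    have h2 : ∑ a : NQuot t, ρ (nRep t a) (F (ρ (nRep t a⁻¹) z)) - nOp t ρ (eK hM η) z ∈
        layerSub ρ t (j + 1) := by
      rw [show eK hM η = fun q => ∑ a, c (a⁻¹ * q * a) from funext fun q => (hc q).symm,
        ← sum_conj_nOp t ρ c (hker hz), ← Finset.sum_sub_distrib]
      refine Submodule.sum_mem _ fun a _ => ?_
      rw [← map_sub]
      exact rho_layer t ρ (nRep_mem t a) (hFh _ (rho_layer t ρ (nRep_mem t _) hz))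
    have h3 := Submodule.add_mem _ h1 h2
    rwa [sub_add_sub_cancel] at h3
  have hB : ∀ z ∈ layerSub ρ t (j + 1), f z ∈ topSub ρ t p := by
    intro z hz
    have h1 := sum_quot_sub_mem hM ht ρ hFc (hker hz)
    rwa [← hfapp, Finset.sum_eq_zero (fun a _ => by
      rw [hF0 _ (rho_layer t ρ (nRep_mem t _) hz), map_zero]), sub_zero] at h1
  have hC : ∀ z ∈ LinearMap.ker (shiftOp ρ t), f z ∈ layerSub ρ t j := by
    intro z hz
    have h1 := htl (by omega : j ≤ p - 1) (sum_quot_sub_mem hM ht ρ hFc hz)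
    rw [← hfapp] at h1
    have h2 : ∑ a : NQuot t, ρ (nRep t a) (F (ρ (nRep t a⁻¹) z)) ∈ layerSub ρ t j :=
      Submodule.sum_mem _ fun a _ => rho_layer t ρ (nRep_mem t a) (hFker _
        (hker (rho_layer t ρ (nRep_mem t a⁻¹) (mem_layer_zero t ρ hz))))
    have h3 := Submodule.add_mem _ h1 h2
    rwa [sub_add_cancel] at h3
  have hs1 : s = 1 := by
    by_contra h
    have h1 := hA y hyj
    rw [hfs, hey, show s • y - y = (s - 1) • y by rw [sub_smul, one_smul]] at h1
    exact hyj1 ((Submodule.smul_mem_iff _ (sub_ne_zero.2 h)).1 h1)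
  rcases lt_trichotomy j j' with hlt | heq | hgt
  · have h1 := hB y' (layerSub_mono ρ t hlt hyj')
    rw [hfs, hs1, one_smul] at h1
    exact hxt' h1
  · subst heq
    have h1 := hA y' hyj'
    rw [hfs, hs1, one_smul, hey', sub_zero] at h1
    exact hyj1' h1
  · have h1 := hC y' hyk'
    rw [hfs, hs1, one_smul] at h1
    exact hyj1' (layerSub_mono ρ t hgt h1)

end Cfsg.Lib.Block
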