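import Cfsg.Agent.Lib.Block.CyclicResidue
import Cfsg.Agent.Lib.Block.BlockTrace
import Cfsg.Agent.Lib.Block.SecondMain
import Mathlib.RepresentationTheory.Irreducible
import Mathlib.RingTheory.SimpleModule.Basic
import Mathlib.LinearAlgebra.Trace
import Mathlib.RingTheory.Nilpotent.Basic

/-!
# Pairwise non-isomorphic simple modules of a block are at most as many as its rank
-/

set_option autoImplicit false
set_option linter.unusedSectionVars false
set_option maxHeartbeats 1000000

namespace Cfsg.Lib.Block

open Cfsg
open scoped MonoidAlgebra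

universe u

section Density

variable {k : Type} [Field k] [IsAlgClosed k] {G : Type u} [Group G] {ι : Type u} [Fintype ι]
  [DecidableEq ι] {n : ι → ℕ}

theorem exists_acts_as (ρ : ∀ i, Representation k G (Fin (n i) → k))
    (hirr : ∀ i, (ρ i).IsIrreducible) (hne : ∀ i j, i ≠ j → IsEmpty ((ρ i).Equiv (ρ j)))
    (d : ∀ i, Module.End k (Fin (n i) → k)) :
    ∃ a : k[G], ∀ i, (ρ i).asAlgebraHom a = d i := by
  classical
  haveI := hirr
  haveI := fun i => (Representation.irreducible_iff_isSimpleModule_asModule (ρ i)).1 (hirr i)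
  let W := ∀ i, (ρ i).asModule
  haveI : IsSemisimpleModule k[G] (Π₀ i, (ρ i).asModule) := inferInstance
  let eqv : (Π₀ i, (ρ i).asModule) ≃ₗ[k[G]] W := DFinsupp.linearEquivFunOnFintype
  haveI : IsSemisimpleModule k[G] W := IsSemisimpleModule.congr eqv.symm
  have hdiag : ∀ f : Module.End k[G] W, ∀ i, ∃ c : k, ∀ m : W, f m i = c • m i := by
    intro f i
    have hcomp : ∀ j, j ≠ i → ∀ x : (ρ j).asModule, f (Pi.single j x) i = 0 := by
      intro j hj x
      let g : (ρ j).asModule →ₗ[k[G]] (ρ i).asModule :=
        (LinearMap.proj i ∘ₗ f) ∘ₗ LinearMap.single k[G] (fun l => (ρ l).asModule) j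
      rcases LinearMap.bijective_or_eq_zero g with hb | h0
      · exfalso
        have hb' : Function.Bijective ((Representation.IntertwiningMap.equivLinearMapAsModule
            (ρ j) (ρ i)).symm g) := hb
        exact (hne j i hj).false (Representation.IntertwiningMap.ofBijective _ hb')
      · exact LinearMap.congr_fun h0 x
    obtain ⟨c, hc⟩ := (IsSimpleModule.algebraMap_end_bijective_of_isAlgClosed (A := k[G]) k
      (V := (ρ i).asModule)).2 ((LinearMap.proj i ∘ₗ f) ∘ₗ
        LinearMap.single k[G] (fun l => (ρ l).asModule) i)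
    refine ⟨c, fun m => ?_⟩
    conv_lhs => rw [← Finset.univ_sum_single m]
    rw [map_sum, Finset.sum_apply, Finset.sum_eq_single i (fun j _ hj => hcomp j hj _)
      (fun h => absurd (Finset.mem_univ i) h)]
    exact (LinearMap.congr_fun hc (m i)).symm
  let D : W →+ W :=
    { toFun := fun m i => (ρ i).asModuleEquiv.symm (d i ((ρ i).asModuleEquiv (m i)))
      map_zero' := by
        funext i
        show (ρ i).asModuleEquiv.symm (d i ((ρ i).asModuleEquiv 0)) = 0
        simp only [map_zero]
      map_add' := fun a b => by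
        funext i
        show (ρ i).asModuleEquiv.symm (d i ((ρ i).asModuleEquiv (a i + b i))) = _
        simp only [map_add]
        rfl }
  let F : Module.End (Module.End k[G] W) W :=
    { toFun := D
      map_add' := D.map_add
      map_smul' := fun f m => by
        funext i
        obtain ⟨c, hc⟩ := hdiag f i
        show (ρ i).asModuleEquiv.symm (d i ((ρ i).asModuleEquiv (f m i))) = f (D m) i
        rw [hc, hc, map_smul, map_smul, map_smul]
        rfl }
  obtain ⟨a, ha⟩ := jacobson_density F (Finset.univ.image fun x : Σ i, Fin (n i) =>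
    (Pi.single x.1 ((ρ x.1).asModuleEquiv.symm (Pi.single x.2 1)) : W))
  refine ⟨a, fun i => (Pi.basisFun k (Fin (n i))).ext fun j => ?_⟩
  have h := congrFun (ha _ (Finset.mem_image_of_mem _ (Finset.mem_univ (⟨i, j⟩ : Σ i, Fin (n i))))) i
  have h' := congrArg (ρ i).asModuleEquiv h
  simp only [F, D, LinearMap.coe_mk, AddHom.coe_mk, AddMonoidHom.coe_mk, ZeroHom.coe_mk,
    Pi.single_eq_same, LinearEquiv.apply_symm_apply] at h'
  change d i (Pi.single j 1) = (ρ i).asModuleEquiv (a • (Pi.single i
    ((ρ i).asModuleEquiv.symm (Pi.single j 1)) : W) i) at h'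
  rw [Pi.single_eq_same, Representation.asModuleEquiv_map_smul, LinearEquiv.apply_symm_apply] at h'
  rw [Pi.basisFun_apply]
  exact h'.symm

/-- The traces of pairwise non-isomorphic simple modules are linearly independent. -/
theorem linearIndependent_trace [Fintype G] (ρ : ∀ i, Representation k G (Fin (n i) → k))
    (hirr : ∀ i, (ρ i).IsIrreducible) (hne : ∀ i j, i ≠ j → IsEmpty ((ρ i).Equiv (ρ j)))
    (c : ι → k) (hc : ∀ g : G, ∑ i, c i * LinearMap.trace k _ (ρ i g) = 0) (j : ι) : c j = 0 := by
  classical
  obtain ⟨hnt⟩ := Representation.irreducible_iff_isSimpleModule_asModule (ρ j) |>.1 (hirr j) |>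
    fun h => (⟨IsSimpleModule.nontrivial (R := k[G]) (M := (ρ j).asModule)⟩ : Nonempty _)
  have hpos : 0 < n j := by
    by_contra h
    have h0 : n j = 0 := Nat.eq_zero_of_not_pos h
    haveI : IsEmpty (Fin (n j)) := h0 ▸ Fin.isEmpty'
    exact absurd hnt (not_nontrivial_iff_subsingleton.2
      (inferInstanceAs (Subsingleton (Fin (n j) → k))))
  let a₀ : Fin (n j) := ⟨0, hpos⟩
  let d : ∀ i, Module.End k (Fin (n i) → k) :=
    Pi.single j ((LinearMap.proj a₀).smulRight (Pi.single a₀ (1 : k)))
  obtain ⟨a, ha⟩ := exists_acts_as ρ hirr hne d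
  have h1 : ∑ i, c i * LinearMap.trace k _ (d i) = 0 := by
    simp only [← ha, Representation.asAlgebraHom_def, MonoidAlgebra.lift_apply, Finsupp.sum,
      map_sum, map_smul, smul_eq_mul, Finset.mul_sum]
    rw [Finset.sum_comm]
    refine Finset.sum_eq_zero fun g _ => ?_
    simp only [mul_left_comm (c _)]
    rw [← Finset.mul_sum, hc, mul_zero]
  rw [Finset.sum_eq_single j (fun i _ hi => by simp [d, Pi.single_eq_of_ne hi]) (by simp)] at h1
  have htr : LinearMap.trace k _ (d j) = 1 := by
    simp [d]
  rwa [htr, mul_one] at h1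

/-- The trace only depends on the `p`-regular factor. -/
theorem trace_mul_eq_of_unipotent {p : ℕ} [hp : Fact p.Prime] [CharP k p] {m : ℕ}
    (σ : Representation k G (Fin m → k)) {u g : G} (hc : Commute u g) {a : ℕ}
    (hu : u ^ p ^ a = 1) :
    LinearMap.trace k _ (σ (u * g)) = LinearMap.trace k _ (σ g) := by
  have hnil : IsNilpotent (σ u - 1) := by
    refine ⟨p ^ a, ?_⟩
    have h := congrArg (Polynomial.aeval (σ u))
      (sub_pow_char_pow (p := p) (Polynomial.X : Polynomial k) 1 a)
    simp only [map_pow, map_sub, Polynomial.aeval_X, map_one, one_pow] at h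
    rw [h, ← map_pow, hu, map_one, sub_self]
  have hcm : Commute (σ u - 1) (σ g) :=
    (show Commute (σ u) (σ g) from hc.map σ).sub_left (Commute.one_left _)
  have h2 := (LinearMap.isNilpotent_trace_of_isNilpotent (hcm.isNilpotent_mul_right hnil)).eq_zero
  rw [sub_mul, one_mul, ← map_mul, map_sub, sub_eq_zero] at h2
  exact h2

end Density

variable {p : ℕ} [Fact p.Prime] {M : Ideal AlgInt} {G : Type u} [Group G] [Fintype G]
  (hM : IsPModular p M)

/-- The idempotent of a block acting on a representation over the residue field. -/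
noncomputable def blockOp (B : Set (IrrCharacter G)) {W : Type*} [AddCommGroup W]
    [Module (resField hM) W] (ρ : Representation (resField hM) G W) : Module.End (resField hM) W :=
  ∑ g : G, res hM (blockCoeff B g) • ρ g

open Classical in
/-- Pairwise non-isomorphic simple modules in a block are at most as many as its rank. -/
theorem card_simples_le_blockRank {B : Set (IrrCharacter G)} (hB : IsPBlock M B) {ι : Type u}
    [Fintype ι] {n : ι → ℕ} (ρ : ∀ i, Representation (resField hM) G (Fin (n i) → resField hM))
    (hirr : ∀ i, (ρ i).IsIrreducible) (hne : ∀ i j, i ≠ j → IsEmpty ((ρ i).Equiv (ρ j)))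
    (hblock : ∀ i, blockOp hM B (ρ i) = 1) :
    Fintype.card ι ≤ blockRank p B := by
  haveI := isAlgClosed_resField hM
  haveI := charP_resField hM
  set k := resField hM
  let lift : k → locRing hM := Function.surjInv Ideal.Quotient.mk_surjective
  have hlift : ∀ x, res hM (lift x : ℂ) = x := fun x => by
    rw [res_coe]; exact Function.surjInv_eq Ideal.Quotient.mk_surjective x
  let tr : ι → G → k := fun i g => LinearMap.trace k _ (ρ i g)
  let F : ι → G → ℂ := fun i g => (lift (tr i g) : ℂ)
  have hFmem : ∀ i g, F i g ∈ locRing hM := fun i g => (lift (tr i g)).2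
  have hFc : ∀ i, IsClassFunction G (F i) := fun i g x => by
    simp only [F, tr]
    congr 2
    rw [mul_assoc x g x⁻¹, map_mul, LinearMap.trace_mul_comm, ← map_mul]
    simp
  let Φ : ι → G → ℂ := fun i g => ∑ x : G, blockCoeff B x * F i (x * g)
  have hΦmem : ∀ i g, Φ i g ∈ locRing hM := fun i g =>
    sum_mem fun x _ => mul_mem (blockCoeff_mem_locRing hM hB x) (hFmem _ _)
  have hΦres : ∀ i g, res hM (Φ i g) = tr i g := by
    intro i g
    rw [res_sum hM _ _ fun x _ => mul_mem (blockCoeff_mem_locRing hM hB x) (hFmem _ _)]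
    have hb : tr i g = LinearMap.trace k _ (blockOp hM B (ρ i) * ρ i g) := by
      rw [hblock, one_mul]
    rw [hb, blockOp, Finset.sum_mul, map_sum]
    refine Finset.sum_congr rfl fun x _ => ?_
    rw [res_mul hM (blockCoeff_mem_locRing hM hB x) (hFmem _ _), smul_mul_assoc, map_smul,
      ← map_mul, smul_eq_mul]
    simp only [F, hlift, tr]
  have hreg : ∀ i g, tr i g = tr i (pReg p g) := by
    intro i g
    obtain ⟨a, ha⟩ := exists_orderOf_pPt (p := p) g
    conv_lhs => rw [← pPt_mul_pReg (p := p) g]
    exact trace_mul_eq_of_unipotent (ρ i) (pPt_commute_pReg g) (a := a)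
      (by rw [← ha, pow_orderOf_eq_one])
  set R := {g : G // IsPRegular p g}
  let T : (ι → k) →ₗ[k] (R → k) :=
    Fintype.linearCombination k fun i (g : R) => tr i g.1
  have hT : LinearMap.ker T = ⊥ := by
    rw [LinearMap.ker_eq_bot']
    intro c hc
    funext j
    refine linearIndependent_trace ρ hirr hne c (fun g => ?_) j
    have := congrFun hc ⟨pReg p g, not_dvd_orderOf_pReg g⟩
    simp only [T, Fintype.linearCombination_apply, Finset.sum_apply, Pi.smul_apply,
      smul_eq_mul, Pi.zero_apply] at this
    rw [← this]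
    exact Finset.sum_congr rfl fun i _ => by rw [← hreg]
  obtain ⟨L, hL⟩ := T.exists_leftInverse_of_injective hT
  let P : Matrix ι ι (locRing hM) := Matrix.of fun i j =>
    ∑ g : R, lift (L (Pi.single g 1) i) * ⟨Φ j g.1, hΦmem _ _⟩
  have hP : P.map (resMap hM) = 1 := by
    ext i j
    have h1 : L (fun g : R => tr j g.1) = Pi.single j 1 := by
      have h := LinearMap.congr_fun hL (Pi.single j 1)
      rw [LinearMap.comp_apply, LinearMap.id_apply] at h
      convert h using 2
      simp [T, Fintype.linearCombination_apply_single]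
    have h2 := congrFun h1 i
    rw [pi_eq_sum_univ' (fun g : R => tr j g.1), map_sum] at h2
    simp only [map_smul, Finset.sum_apply, Pi.smul_apply, smul_eq_mul] at h2
    simp only [Matrix.map_apply, P, Matrix.of_apply, map_sum, map_mul, ← res_coe, hlift,
      hΦres, Matrix.one_apply]
    rw [Finset.sum_congr rfl fun g _ => mul_comm _ _, h2, Pi.single_apply]
  have hdet : (P.map (fun x : locRing hM => (x : ℂ))).det ≠ 0 := by
    intro h
    have h1 : resMap hM P.det = 1 := by
      rw [RingHom.map_det, RingHom.mapMatrix_apply, hP, Matrix.det_one]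
    have h2 : ((locRing hM).subtype P.det : ℂ) = 0 := by
      rw [RingHom.map_det, RingHom.mapMatrix_apply]; exact h
    rw [show P.det = 0 from Subtype.ext h2, map_zero] at h1
    exact zero_ne_one h1
  -- the lifted functions are independent in the span defining the rank
  have hmemspan : ∀ i, pRegularPart p (Φ i) ∈ Submodule.span ℂ
      ((fun χ : IrrCharacter G => pRegularPart p (χ : G → ℂ)) '' B) := by
    intro i
    have e : Φ i = fun g => ∑ χ ∈ B.toFinset, classInner (F i) (χ : G → ℂ) * (χ : G → ℂ) g :=
      funext fun g => by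
        show ∑ x : G, blockCoeff B x * F i (x * g) = _
        rw [← blockPart_eq_sum B (hFc i), blockPart, finsum_mem_eq_toFinset_sum]
        exact Finset.sum_congr (by ext; simp) fun _ _ => by
          congr
          exact Subsingleton.elim _ _
    have e2 : pRegularPart p (Φ i) =
        ∑ χ ∈ B.toFinset, classInner (F i) (χ : G → ℂ) • pRegularPart p (χ : G → ℂ) := by
      funext g
      rw [Finset.sum_apply]
      by_cases hg : IsPRegular p g
      · simp only [pRegularPart_of_reg hg, Pi.smul_apply, smul_eq_mul, e]
      · simp only [pRegularPart_of_sing hg, Pi.smul_apply, smul_zero, Finset.sum_const_zero]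
    rw [e2]
    exact Submodule.sum_mem _ fun χ hχ =>
      Submodule.smul_mem _ _ (Submodule.subset_span ⟨χ, Set.mem_toFinset.1 hχ, rfl⟩)
  have hind : LinearIndependent ℂ (fun i => (⟨_, hmemspan i⟩ : Submodule.span ℂ
      ((fun χ : IrrCharacter G => pRegularPart p (χ : G → ℂ)) '' B))) := by
    refine LinearIndependent.of_comp (Submodule.subtype _) (Fintype.linearIndependent_iff.2 ?_)
    intro a ha j
    have hker : (P.map (fun x : locRing hM => (x : ℂ))).mulVec a = 0 := by
      funext i
      simp only [Matrix.mulVec, dotProduct, Matrix.map_apply, P, Matrix.of_apply,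
        ← Subring.subtype_apply, map_sum, map_mul, Finset.sum_mul, Pi.zero_apply]
      simp only [Subring.subtype_apply]
      rw [Finset.sum_comm]
      refine Finset.sum_eq_zero fun g _ => ?_
      simp only [mul_assoc, ← Finset.mul_sum]
      have := congrFun ha g.1
      simp only [Finset.sum_apply, Pi.smul_apply, Function.comp_apply, Submodule.subtype_apply,
        smul_eq_mul, pRegularPart_of_reg g.2, Pi.zero_apply] at this
      rw [show ∑ x, Φ x g.1 * a x = 0 by rw [← this]; exact Finset.sum_congr rfl fun x _ => mul_comm _ _,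
        mul_zero]
    exact congrFun (Matrix.eq_zero_of_mulVec_eq_zero hdet hker) j
  exact hind.fintype_card_le_finrank

end Cfsg.Lib.Block
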