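import Cfsg.Agent.Lib.Block.BlockGenerator
import Mathlib.RingTheory.RootsOfUnity.AlgebraicallyClosed

/-!
# The action of a stabilizer on the socle of a block with one simple module

An element `h` normalizing `K` and fixing a block with corner `k[η]` acts, after a correction by
an element of the group algebra, on the marked part of the socle of every module, and its order
there divides the order `n` of `h` modulo `K`.
-/

set_option autoImplicit false
set_option linter.unusedSectionVars false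
set_option maxHeartbeats 1000000

namespace Cfsg.Lib.Block

open Cfsg Module
open scoped MonoidAlgebra

universe u v w

noncomputable local instance (priority := high) fintypeSubgroupCyclicTwist {A : Type u}
    [Group A] [Fintype A] (H : Subgroup A) : Fintype H := Fintype.ofFinite H

variable {p : ℕ} [Fact p.Prime] {M : Ideal AlgInt} {hM : IsPModular p M}

section Schur

variable {A : Type u} [Group A] [Fintype A] {m : ℕ}
  {σ : Representation (resField hM) A (Fin m → resField hM)}

/-- An endomorphism commuting with a simple module is a scalar. -/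
theorem exists_scalar (hσ : σ.IsIrreducible) {f : Module.End (resField hM) (Fin m → resField hM)}
    (hf : ∀ g, f * σ g = σ g * f) : ∃ s : resField hM, f = s • 1 := by
  haveI := isAlgClosed_resField hM
  haveI := hσ
  obtain ⟨s, hs⟩ := (Representation.IsIrreducible.algebraMap_intertwiningMap_bijective_of_isAlgClosed
    (ρ := σ)).2 (LinearMap.intertwiningMap_of_isIntertwiningMap (f := f)
      (ρ := σ) (σ := σ) fun g v => LinearMap.congr_fun (hf g) v)
  exact ⟨s, LinearMap.ext fun z =>
    (congrArg (fun φ : Representation.IntertwiningMap σ σ => φ.toLinearMap z) hs).symm⟩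

/-- A central element acts as a scalar. -/
theorem exists_scalar_central (hσ : σ.IsIrreducible) {c : KGA hM A} (hc : ∀ x, Commute c x) :
    ∃ s : resField hM, σ.asAlgebraHom c = s • 1 :=
  exists_scalar hσ fun g => by
    rw [← Representation.asAlgebraHom_single_one, ← map_mul, ← map_mul, (hc _).eq]

theorem smul_one_injective (hσ : σ.IsIrreducible) {s t : resField hM}
    (h : s • (1 : Module.End (resField hM) (Fin m → resField hM)) = t • 1) : s = t := by
  have hm := simple_dim_pos hM hσ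
  have := congrFun (LinearMap.congr_fun h (Pi.single ⟨0, hm⟩ 1)) ⟨0, hm⟩
  simpa using this

/-- A central nilpotent element kills every simple module. -/
theorem central_nilpotent_kills (hσ : σ.IsIrreducible) {c : KGA hM A} (hc : ∀ x, Commute c x)
    {n : ℕ} (hn : c ^ n = 0) : σ.asAlgebraHom c = 0 := by
  obtain ⟨s, hs⟩ := exists_scalar_central hσ hc
  have h := congrArg σ.asAlgebraHom hn
  rw [map_pow, hs, smul_pow, one_pow, map_zero] at h
  rw [← zero_smul (resField hM) (1 : Module.End (resField hM) (Fin m → resField hM))] at h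
  rw [hs, eq_zero_of_pow_eq_zero (smul_one_injective hσ h), zero_smul]

variable (hM) in
theorem cV_sub_smul_one (v : IrrCharacter A → ℂ) (hv : VInt hM v) {c : ℂ} (hc : c ∈ locRing hM) :
    cV hM (v - c • 1) = cV hM v - res hM c • 1 := by
  classical
  refine MonoidAlgebra.ext (Finsupp.ext fun g => ?_)
  have h1 : zc (1 : IrrCharacter A → ℂ) g ∈ locRing hM := vInt_one hM g
  rw [coeff_cV, zc_sub, zc_smul, res_sub hM (hv g) (mul_mem hc h1), res_mul hM hc h1]
  rw [MonoidAlgebra.coeff_sub, Finsupp.sub_apply, MonoidAlgebra.coeff_smul, Finsupp.smul_apply,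
    ← cV_one hM, coeff_cV, coeff_cV, smul_eq_mul]

/-- The value of an integral central element at the simple module of a block. -/
theorem sigma_cV {f : Set (IrrCharacter A)} (hf : IsPBlock M f) (hl : blockRank p f ≤ 1)
    (hσ : σ.IsIrreducible) (hσb : blockOp hM f σ = 1) {ψ : IrrCharacter A} (hψ : ψ ∈ f)
    {v : IrrCharacter A → ℂ} (hv : VInt hM v) :
    σ.asAlgebraHom (cV hM v) = res hM (v ψ) • 1 := by
  obtain ⟨s, hs⟩ := exists_scalar_central hσ (cV_commute hM v)
  have hs' : (resSec hM s : ℂ) ∈ locRing hM := Subtype.prop _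
  set w := v - (resSec hM s : ℂ) • (1 : IrrCharacter A → ℂ) with hw
  have hwv : VInt hM w := vInt_sub hM hv (vInt_smul hM hs' (vInt_one hM))
  have h0 : σ.asAlgebraHom (cV hM w) = 0 := by
    rw [hw, cV_sub_smul_one hM v hv hs', map_sub, map_smul, map_one, hs, res_coe, resMap_resSec,
      sub_self]
  obtain ⟨N, hN, hnil⟩ := exists_pow_eq_zero_of_simple hM hf hl hσ hσb h0
  rw [← (cV_pow hM hwv N).2, blkA, ← cV_mul hM (cV_pow hM hwv N).1 (vInt_indVec hM hf),
    cV_eq_zero_iff hM (vInt_mul hM (cV_pow hM hwv N).1 (vInt_indVec hM hf))] at hnil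
  have h1 := apply_mem_ideal hM hnil ψ
  rw [Pi.mul_apply, Pi.pow_apply, indVec, if_pos hψ, mul_one] at h1
  have hval := apply_mem_locRing hM hwv ψ
  have h2 : res hM (w ψ) = 0 := by
    refine eq_zero_of_pow_eq_zero (n := N) ?_
    rw [← res_pow hM hval, res_eq_zero_iff hM (pow_mem hval N)]
    exact h1
  rw [hw] at h2
  simp only [Pi.sub_apply, Pi.smul_apply, Pi.one_apply, smul_eq_mul, mul_one] at h2
  rw [res_sub hM (apply_mem_locRing hM hv ψ) hs', sub_eq_zero, res_coe, resMap_resSec] at h2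
  rw [hs, h2]

end Schur

/-! ## The twist -/

variable {G : Type u} [Group G] [Fintype G] {K : Subgroup G}

/-- Conjugation on the group algebra of a normalized subgroup. -/
noncomputable def twC (hM : IsPModular p M) {h : G} (hh : ConjMaps h K K) :
    KGA hM K ≃ₐ[resField hM] KGA hM K :=
  MonoidAlgebra.domCongr (resField hM) (resField hM) (conjIso hh)

theorem twC_single {h : G} (hh : ConjMaps h K K) (g : K) (r : resField hM) :
    twC hM hh (MonoidAlgebra.single g r) = MonoidAlgebra.single (conjIso hh g) r :=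
  MonoidAlgebra.domCongr_single _ _ _

theorem coeff_twC {h : G} (hh : ConjMaps h K K) (c : KGA hM K) (g : K) :
    (twC hM hh c).coeff g = c.coeff ((conjIso hh).symm g) :=
  MonoidAlgebra.coeff_domCongr _ _ _

/-- The correcting elements of the powers. -/
noncomputable def ccSeq {h : G} (hh : ConjMaps h K K) (c0 : KGA hM K) : ℕ → KGA hM K
  | 0 => 1
  | i + 1 => ((twC hM hh).symm)^[i] c0 * ccSeq hh c0 i

theorem twC_blkA_conj {h : G} (hh : ConjMaps h K K) (f : Set (IrrCharacter K)) :
    twC hM hh (blkA hM f) = blkA hM (conjSet hh f) := by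
  refine MonoidAlgebra.ext (Finsupp.ext fun g => ?_)
  rw [coeff_twC, blkA, blkA, coeff_cV, coeff_cV, zc_indVec, zc_indVec]
  rw [conjSet, blockCoeff_pullSet]

theorem twC_blkA_of_stab {h : G} (hh : ConjMaps h K K) {f : Set (IrrCharacter K)}
    (hst : StabilizesBlock K f h) : twC hM hh (blkA hM f) = blkA hM f := by
  rw [twC_blkA_conj]
  have h1 := (stabilizesBlock_iff hst.1).1 hst
  rw [conjSet_congr hh (conjMaps_normalizer hst.1) rfl, h1]

theorem blkA_mul_blkA_of_ne {A : Type u} [Group A] [Fintype A] {b b' : Set (IrrCharacter A)}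
    (hb : IsPBlock M b) (hb' : IsPBlock M b') (hne : b ≠ b') :
    blkA hM b * blkA hM b' = 0 := by
  rw [blkA, blkA, ← cV_mul hM (vInt_indVec hM hb) (vInt_indVec hM hb'), indVec_mul_indVec]
  have he : b ∩ b' = ∅ := by
    by_contra h
    obtain ⟨χ, h1, h2⟩ := Set.nonempty_iff_ne_empty.2 h
    exact hne (isPBlock_eq_of_mem hM hb hb' h1 h2)
  rw [he, show indVec (∅ : Set (IrrCharacter A)) = 0 by funext x; simp [indVec]]
  refine MonoidAlgebra.ext (Finsupp.ext fun g => ?_)
  rw [coeff_cV, zc_zero, res_zero]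
  rfl

theorem twC_iterate_single {h : G} (hh : ConjMaps h K K) :
    ∀ (i : ℕ) (g : K), ∃ g' : K, (g' : G) = h ^ i * g * (h ^ i)⁻¹ ∧
      (twC hM hh)^[i] (MonoidAlgebra.single g 1) = MonoidAlgebra.single g' 1 := by
  intro i
  induction i with
  | zero => exact fun g => ⟨g, by simp, rfl⟩
  | succ i ih =>
    intro g
    obtain ⟨g', h1, h2⟩ := ih g
    refine ⟨conjIso hh g', ?_, by rw [Function.iterate_succ_apply', h2, twC_single]⟩
    show h * (g' : G) * h⁻¹ = _
    rw [h1, pow_succ']
    group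

theorem twC_iterate_order {h : G} (hh : ConjMaps h K K) {n : ℕ} (hn : h ^ n ∈ K) (c : KGA hM K) :
    (twC hM hh)^[n] c * MonoidAlgebra.single ⟨h ^ n, hn⟩ 1 =
      MonoidAlgebra.single ⟨h ^ n, hn⟩ 1 * c := by
  induction c using MonoidAlgebra.induction_on with
  | of g =>
    obtain ⟨g', h1, h2⟩ := twC_iterate_single (hM := hM) hh n g
    rw [MonoidAlgebra.of_apply, h2, MonoidAlgebra.single_mul_single,
      MonoidAlgebra.single_mul_single, one_mul]
    congr 1
    refine Subtype.ext ?_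
    rw [Subgroup.coe_mul, Subgroup.coe_mul, h1, inv_mul_cancel_right]
  | add a b ha hb =>
    have hadd : (twC hM hh)^[n] (a + b) = (twC hM hh)^[n] a + (twC hM hh)^[n] b :=
      iterate_map_add (twC hM hh) n a b
    rw [hadd, add_mul, ha, hb, mul_add]
  | smul r a ha =>
    have hsm : (twC hM hh)^[n] (r • a) = r • (twC hM hh)^[n] a :=
      Function.Commute.iterate_left (f := twC hM hh) (g := fun x => r • x)
        (fun x => map_smul (twC hM hh) r x) n a
    rw [hsm, smul_mul_assoc, ha, mul_smul_comm]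

/-- The local data of a twist. -/
structure Twisted (hM : IsPModular p M) (f : Set (IrrCharacter K)) (η ε : KGA hM K) {m : ℕ}
    (σ : Representation (resField hM) K (Fin m → resField hM)) (i₀ : Fin m) {h : G}
    (hh : ConjMaps h K K) (n : ℕ) (c0 : KGA hM K) : Prop where
  blk : twC hM hh (blkA hM f) = blkA hM f
  eta : ∃ y, twC hM hh η = η * y
  eta_symm : ∃ y, (twC hM hh).symm η = η * y
  marked : σ.asAlgebraHom ((twC hM hh).symm ε * c0 - c0) (Pi.single i₀ 1) = 0
  pow : ∃ hn : h ^ n ∈ K,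
    σ.asAlgebraHom (MonoidAlgebra.single ⟨h ^ n, hn⟩ 1 * ccSeq hh c0 n) = 1

theorem eq_mul_of_kills {A : Type u} [Group A] [Fintype A] {f : Set (IrrCharacter A)} {q : ℕ}
    {η ε : KGA hM A} {m : ℕ} {σ : Representation (resField hM) A (Fin m → resField hM)}
    {i₀ : Fin m} (C : Corner hM f q η ε σ i₀) (φ : KGA hM A ≃ₐ[resField hM] KGA hM A)
    (hφ : φ (blkA hM f) = blkA hM f) : ∃ y, φ η = η * y := by
  have hc : ∀ x, Commute (φ η) x := fun x => by
    obtain ⟨x, rfl⟩ := φ.surjective x
    exact (C.eta_comm x).map φ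
  obtain ⟨y, hy⟩ := C.kills_simple (central_nilpotent_kills C.irred hc (n := q)
    (by rw [← map_pow, C.eta_pow, map_zero]))
  refine ⟨y, ?_⟩
  rw [← hy, (hc (blkA hM f)).eq]
  conv_rhs => rw [← hφ, ← map_mul, C.eta_blk]

/-- The data exist for an element fixing the block. -/
theorem exists_twisted {f : Set (IrrCharacter K)} (hf : IsPBlock M f) (hl : blockRank p f ≤ 1)
    {q : ℕ} {η ε : KGA hM K} {m : ℕ} {σ : Representation (resField hM) K (Fin m → resField hM)}
    {i₀ : Fin m} (C : Corner hM f q η ε σ i₀) {h : G} (hh : ConjMaps h K K)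
    (hst : StabilizesBlock K f h) {n : ℕ} (hn0 : 0 < n) (hn : h ^ n ∈ K) :
    ∃ c0 : KGA hM K, Twisted hM f η ε σ i₀ hh n c0 := by
  classical
  haveI := isAlgClosed_resField hM
  have hblk := twC_blkA_of_stab (hM := hM) hh hst
  have hblk' : (twC hM hh).symm (blkA hM f) = blkA hM f := by
    conv_lhs => rw [← hblk, AlgEquiv.symm_apply_apply]
  set σ' : Representation (resField hM) K (Fin m → resField hM) :=
    σ.comp (conjIso hh).toMonoidHom with hσ'
  have hσ'a : ∀ c, σ'.asAlgebraHom c = σ.asAlgebraHom (twC hM hh c) := by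
    intro c
    induction c using MonoidAlgebra.induction_on with
    | of g =>
      rw [MonoidAlgebra.of_apply, twC_single, Representation.asAlgebraHom_single_one,
        Representation.asAlgebraHom_single_one]
      rfl
    | add a b ha hb => rw [map_add, map_add, map_add, ha, hb]
    | smul r a ha => rw [map_smul, map_smul, map_smul, ha]
  have hirr' : σ'.IsIrreducible := by
    rw [Cfsg.Lib.Char.isIrreducible_iff_submodule]
    have h0 := (Cfsg.Lib.Char.isIrreducible_iff_submodule σ).1 C.irred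
    refine ⟨h0.1, fun U hU => h0.2 U fun g x hx => ?_⟩
    have := hU ((conjIso hh).symm g) x hx
    simpa [hσ'] using this
  have hb' : blockOp hM f σ' = 1 := by
    rw [← asAlgebraHom_blkA, hσ'a, hblk, asAlgebraHom_blkA, C.sigma_blk]
  obtain ⟨eA, heA⟩ := simple_data hM hf hl C.irred C.sigma_blk σ' hirr' hb'
  set A : Module.End (resField hM) (Fin m → resField hM) := eA.toLinearMap with hA
  set A' : Module.End (resField hM) (Fin m → resField hM) := eA.symm.toLinearMap with hA'
  have hAA' : A * A' = 1 := LinearMap.ext fun x => eA.apply_symm_apply x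
  have hA'A : A' * A = 1 := LinearMap.ext fun x => eA.symm_apply_apply x
  have hint : ∀ c, A * σ.asAlgebraHom c = σ.asAlgebraHom (twC hM hh c) * A := fun c =>
    LinearMap.ext fun x => by
      show eA.toLinearMap (σ.asAlgebraHom c x) = σ.asAlgebraHom (twC hM hh c) (eA.toLinearMap x)
      rw [map_asAlgebraHom eA.toLinearMap heA, hσ'a]
  have hinti : ∀ (i : ℕ) c, A ^ i * σ.asAlgebraHom c = σ.asAlgebraHom ((twC hM hh)^[i] c) * A ^ i := by
    intro i
    induction i with
    | zero => intro c; simp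
    | succ i ih =>
      intro c
      rw [Function.iterate_succ_apply', pow_succ', mul_assoc, ih c, ← mul_assoc, hint, mul_assoc]
  have hAc : Commute A A' := hAA'.trans hA'A.symm
  have hA'n : A' ^ n * A ^ n = 1 := by rw [← hAc.symm.mul_pow, hA'A, one_pow]
  have hAn' : A ^ n * A' ^ n = 1 := by rw [← hAc.mul_pow, hAA', one_pow]
  set k₀ : KGA hM K := MonoidAlgebra.single ⟨h ^ n, hn⟩ 1 with hk₀
  -- the power of the intertwiner
  obtain ⟨μ, hμ⟩ := exists_scalar C.irred (f := A' ^ n * σ.asAlgebraHom k₀) fun g => by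
    set c : KGA hM K := MonoidAlgebra.single g 1
    rw [← Representation.asAlgebraHom_single_one, mul_assoc, ← map_mul]
    show _ * σ.asAlgebraHom (k₀ * c) = σ.asAlgebraHom c * _
    rw [← twC_iterate_order hh hn, ← hk₀, map_mul]
    have h1 : A' ^ n * σ.asAlgebraHom ((twC hM hh)^[n] c) = σ.asAlgebraHom c * A' ^ n := by
      calc A' ^ n * σ.asAlgebraHom ((twC hM hh)^[n] c) =
          A' ^ n * (σ.asAlgebraHom ((twC hM hh)^[n] c) * A ^ n) * A' ^ n := by
            rw [mul_assoc, mul_assoc, hAn', mul_one]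
        _ = _ := by rw [← hinti, ← mul_assoc, hA'n, one_mul]
    rw [← mul_assoc, h1, mul_assoc]
  have hμ0 : μ ≠ 0 := by
    intro h0
    rw [h0, zero_smul] at hμ
    have h1 : σ.asAlgebraHom k₀ = 0 := by
      have := congrArg (A ^ n * ·) hμ
      simpa only [← mul_assoc, hAn', one_mul, mul_zero] using this
    have h2 := congrArg (σ.asAlgebraHom (MonoidAlgebra.single (⟨h ^ n, hn⟩ : K)⁻¹ 1) * ·) h1
    simp only [← map_mul, mul_zero, hk₀, MonoidAlgebra.single_mul_single, inv_mul_cancel,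
      one_mul, ← MonoidAlgebra.one_def, map_one] at h2
    have hm := simple_dim_pos hM C.irred
    simpa using congrFun (LinearMap.congr_fun h2 (Pi.single ⟨0, hm⟩ 1)) ⟨0, hm⟩
  obtain ⟨ν, hν⟩ := IsAlgClosed.exists_pow_nat_eq μ hn0
  have hν0 : ν ≠ 0 := fun h => hμ0 (by rw [← hν, h, zero_pow hn0.ne'])
  obtain ⟨c0, hc0⟩ := exists_acts_as (ι := PUnit.{u + 1}) (fun _ => σ) (fun _ => C.irred)
    (fun i j hij => absurd (Subsingleton.elim i j) hij) (fun _ => ν⁻¹ • A')
  replace hc0 := hc0 PUnit.unit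
  have hsymm : ∀ c, σ.asAlgebraHom ((twC hM hh).symm c) = A' * σ.asAlgebraHom c * A := by
    intro c
    have h1 := hint ((twC hM hh).symm c)
    rw [AlgEquiv.apply_symm_apply] at h1
    rw [mul_assoc, ← h1, ← mul_assoc, hA'A, one_mul]
  have hit : ∀ i, σ.asAlgebraHom ((twC hM hh).symm^[i] c0) = ν⁻¹ • A' := by
    intro i
    induction i with
    | zero => exact hc0
    | succ i ih =>
      rw [Function.iterate_succ_apply', hsymm, ih, mul_smul_comm, smul_mul_assoc, mul_assoc, hA'A,
        mul_one]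
  have hcc : ∀ i, σ.asAlgebraHom (ccSeq hh c0 i) = (ν⁻¹ • A') ^ i := by
    intro i
    induction i with
    | zero => simp [ccSeq]
    | succ i ih => rw [ccSeq, map_mul, hit, ih, pow_succ']
  refine ⟨c0, hblk, eq_mul_of_kills C _ hblk, eq_mul_of_kills C _ hblk', ?_, hn, ?_⟩
  · rw [map_sub, map_mul, hsymm, hc0, mul_smul_comm, mul_assoc, hAA', mul_one, LinearMap.sub_apply,
      LinearMap.smul_apply, LinearMap.smul_apply, Module.End.mul_apply, C.sigma_e]
    simp
  · rw [map_mul, hcc, smul_pow, mul_smul_comm, inv_pow, hν]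
    have h1 : A ^ n * (A' ^ n * σ.asAlgebraHom k₀) = σ.asAlgebraHom k₀ := by
      rw [← mul_assoc, hAn', one_mul]
    rw [← h1, hμ, mul_smul_comm, mul_one, smul_mul_assoc, hAn', smul_smul, inv_mul_cancel₀ hμ0,
      one_smul]

/-! ## The operator on modules -/

variable {X : Type v} [AddCommGroup X] [Module (resField hM) X]

/-- The restriction to the subgroup. -/
abbrev rK (ρ : Representation (resField hM) G X) (K : Subgroup G) :
    Representation (resField hM) K X := ρ.comp K.subtype

/-- The marked part of a layer. -/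
noncomputable def mLayer (ρK : Representation (resField hM) K X) (f : Set (IrrCharacter K))
    (η ε : KGA hM K) (j : ℕ) : Submodule (resField hM) X :=
  cLayer ρK f η j ⊓ LinearMap.ker (ρK.asAlgebraHom ε - 1)

theorem mem_mLayer {ρK : Representation (resField hM) K X} {f : Set (IrrCharacter K)}
    {η ε : KGA hM K} {j : ℕ} {x : X} :
    x ∈ mLayer ρK f η ε j ↔ x ∈ cLayer ρK f η j ∧ ρK.asAlgebraHom ε x = x := by
  rw [mLayer, Submodule.mem_inf, LinearMap.mem_ker, LinearMap.sub_apply, Module.End.one_apply,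
    sub_eq_zero]

/-- The corrected action. -/
noncomputable def tOp (ρ : Representation (resField hM) G X) (h : G) (c0 : KGA hM K) :
    Module.End (resField hM) X := ρ h * (rK ρ K).asAlgebraHom c0

/-- The projection to an eigenvalue. -/
noncomputable def eigP (ρ : Representation (resField hM) G X) (h : G) (c0 : KGA hM K) (n : ℕ)
    (ζ : resField hM) : Module.End (resField hM) X :=
  (n : resField hM)⁻¹ • ∑ i ∈ Finset.range n, (ζ⁻¹) ^ i • tOp ρ h c0 ^ i

theorem map_rK {Y : Type w} [AddCommGroup Y] [Module (resField hM) Y]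
    {ρ : Representation (resField hM) G X} {ρ' : Representation (resField hM) G Y}
    (φ : X →ₗ[resField hM] Y) (hφ : ∀ g x, φ (ρ g x) = ρ' g (φ x)) (c : KGA hM K) (x : X) :
    φ ((rK ρ K).asAlgebraHom c x) = (rK ρ' K).asAlgebraHom c (φ x) :=
  map_asAlgebraHom (A := K) (ρ := rK ρ K) (ρ' := rK ρ' K) φ (fun g x => hφ g x) c x

theorem map_tOp {Y : Type w} [AddCommGroup Y] [Module (resField hM) Y]
    {ρ : Representation (resField hM) G X} {ρ' : Representation (resField hM) G Y}
    (φ : X →ₗ[resField hM] Y) (hφ : ∀ g x, φ (ρ g x) = ρ' g (φ x)) (h : G) (c0 : KGA hM K)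
    (x : X) : φ (tOp ρ h c0 x) = tOp ρ' h c0 (φ x) := by
  rw [tOp, tOp, Module.End.mul_apply, Module.End.mul_apply, hφ, map_rK φ hφ]

theorem map_tOp_pow {Y : Type w} [AddCommGroup Y] [Module (resField hM) Y]
    {ρ : Representation (resField hM) G X} {ρ' : Representation (resField hM) G Y}
    (φ : X →ₗ[resField hM] Y) (hφ : ∀ g x, φ (ρ g x) = ρ' g (φ x)) (h : G) (c0 : KGA hM K)
    (i : ℕ) : ∀ x : X, φ ((tOp ρ h c0 ^ i) x) = (tOp ρ' h c0 ^ i) (φ x) := by
  induction i with
  | zero => intro x; rfl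
  | succ i ih =>
    intro x
    rw [pow_succ, pow_succ, Module.End.mul_apply, Module.End.mul_apply, ih, map_tOp φ hφ]

theorem map_mLayer {Y : Type w} [AddCommGroup Y] [Module (resField hM) Y]
    {ρ : Representation (resField hM) G X} {ρ' : Representation (resField hM) G Y}
    (φ : X →ₗ[resField hM] Y) (hφ : ∀ g x, φ (ρ g x) = ρ' g (φ x)) (f : Set (IrrCharacter K))
    (η ε : KGA hM K) (j : ℕ) {x : X} (hx : x ∈ mLayer (rK ρ K) f η ε j) :
    φ x ∈ mLayer (rK ρ' K) f η ε j := by
  rw [mem_mLayer] at hx ⊢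
  obtain ⟨⟨h1, w, hw⟩, h2⟩ := hx
  refine ⟨⟨?_, φ w, ?_⟩, ?_⟩
  · show (rK ρ' K).asAlgebraHom η (φ x) = 0
    rw [← map_rK φ hφ, LinearMap.mem_ker.1 h1, map_zero]
  · rw [← map_rK φ hφ, hw]
  · rw [← map_rK φ hφ, h2]

theorem asAlgebraHom_rK_twC (ρ : Representation (resField hM) G X) {h : G} (hh : ConjMaps h K K)
    (c : KGA hM K) :
    ρ h * (rK ρ K).asAlgebraHom c = (rK ρ K).asAlgebraHom (twC hM hh c) * ρ h := by
  induction c using MonoidAlgebra.induction_on with
  | of g =>
    rw [MonoidAlgebra.of_apply, twC_single, Representation.asAlgebraHom_single_one,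
      Representation.asAlgebraHom_single_one]
    show ρ h * ρ (g : G) = ρ (h * (g : G) * h⁻¹) * ρ h
    rw [← map_mul, ← map_mul, inv_mul_cancel_right]
  | add a b ha hb => rw [map_add, map_add, map_add, mul_add, add_mul, ha, hb]
  | smul r a ha => rw [map_smul, map_smul, map_smul, mul_smul_comm, smul_mul_assoc, ha]

theorem asAlgebraHom_rK_symm (ρ : Representation (resField hM) G X) {h : G} (hh : ConjMaps h K K)
    (c : KGA hM K) :
    (rK ρ K).asAlgebraHom c * ρ h = ρ h * (rK ρ K).asAlgebraHom ((twC hM hh).symm c) := by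
  rw [asAlgebraHom_rK_twC ρ hh, AlgEquiv.apply_symm_apply]

theorem asAlgebraHom_rK_symm_pow (ρ : Representation (resField hM) G X) {h : G}
    (hh : ConjMaps h K K) : ∀ (i : ℕ) (c : KGA hM K),
    (rK ρ K).asAlgebraHom c * ρ (h ^ i) =
      ρ (h ^ i) * (rK ρ K).asAlgebraHom ((twC hM hh).symm^[i] c) := by
  intro i
  induction i with
  | zero => intro c; simp
  | succ i ih =>
    intro c
    rw [pow_succ, map_mul, ← mul_assoc, ih, mul_assoc, asAlgebraHom_rK_symm ρ hh, ← mul_assoc,
      Function.iterate_succ_apply']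

theorem tOp_pow (ρ : Representation (resField hM) G X) {h : G} (hh : ConjMaps h K K)
    (c0 : KGA hM K) (i : ℕ) :
    tOp ρ h c0 ^ i = ρ (h ^ i) * (rK ρ K).asAlgebraHom (ccSeq hh c0 i) := by
  induction i with
  | zero => simp [ccSeq]
  | succ i ih =>
    rw [pow_succ', ih, tOp, ccSeq, map_mul, mul_assoc (ρ h), ← mul_assoc ((rK ρ K).asAlgebraHom c0),
      asAlgebraHom_rK_symm_pow ρ hh, pow_succ' h, map_mul]
    simp only [mul_assoc]

section Use

variable {f : Set (IrrCharacter K)} {q : ℕ} {η ε : KGA hM K} {m : ℕ}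
  {σ : Representation (resField hM) K (Fin m → resField hM)} {i₀ : Fin m}
  (C : Corner hM f q η ε σ i₀) {h : G} {hh : ConjMaps h K K} {n : ℕ} {c0 : KGA hM K}
  (W : Twisted hM f η ε σ i₀ hh n c0) (ρ : Representation (resField hM) G X)

include C W

theorem rho_mem_cLayer {j : ℕ} {x : X} (hx : x ∈ cLayer (rK ρ K) f η j) :
    ρ h x ∈ cLayer (rK ρ K) f η j := by
  obtain ⟨hk, w, hw⟩ := hx
  obtain ⟨y, hy⟩ := W.eta
  obtain ⟨y', hy'⟩ := W.eta_symm
  have hk' := LinearMap.mem_ker.1 hk
  refine ⟨?_, (rK ρ K).asAlgebraHom (y ^ j) (ρ h w), ?_⟩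
  · show (rK ρ K).asAlgebraHom η (ρ h x) = 0
    rw [← Module.End.mul_apply, asAlgebraHom_rK_symm ρ hh, Module.End.mul_apply, hy',
      (C.eta_comm y').eq, map_mul, Module.End.mul_apply, hk', map_zero, map_zero]
  · have he : η ^ j * blkA hM f * y ^ j = twC hM hh (η ^ j * blkA hM f) := by
      rw [map_mul, map_pow, W.blk, hy, (C.eta_comm y).mul_pow, mul_assoc (η ^ j) (y ^ j),
        show y ^ j * blkA hM f = blkA hM f * y ^ j from (cV_commute hM (indVec f) _).eq.symm,
        mul_assoc]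
    rw [← hw, ← Module.End.mul_apply (ρ h), asAlgebraHom_rK_twC ρ hh, Module.End.mul_apply,
      ← Module.End.mul_apply ((rK ρ K).asAlgebraHom _) ((rK ρ K).asAlgebraHom _), ← map_mul, he]

theorem tOp_mem_cLayer {j : ℕ} {x : X} (hx : x ∈ cLayer (rK ρ K) f η j) :
    tOp ρ h c0 x ∈ cLayer (rK ρ K) f η j :=
  rho_mem_cLayer C W ρ (C.cLayer_stable (rK ρ K) hx c0)

theorem tOp_mem_mLayer {j : ℕ} {x : X} (hx : x ∈ mLayer (rK ρ K) f η ε j) :
    tOp ρ h c0 x ∈ mLayer (rK ρ K) f η ε j := by
  rw [mem_mLayer] at hx ⊢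
  refine ⟨tOp_mem_cLayer C W ρ hx.1, ?_⟩
  have h0 := C.kills_marked (rK ρ K) W.marked (C.cLayer_mono (rK ρ K) (Nat.zero_le j) hx.1) hx.2
  rw [map_sub, LinearMap.sub_apply, sub_eq_zero] at h0
  rw [tOp, Module.End.mul_apply, ← Module.End.mul_apply ((rK ρ K).asAlgebraHom ε),
    asAlgebraHom_rK_symm ρ hh, Module.End.mul_apply, ← Module.End.mul_apply
    ((rK ρ K).asAlgebraHom _) ((rK ρ K).asAlgebraHom _), ← map_mul, h0]

theorem tOp_pow_mem_mLayer (i : ℕ) {j : ℕ} {x : X} (hx : x ∈ mLayer (rK ρ K) f η ε j) :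
    (tOp ρ h c0 ^ i) x ∈ mLayer (rK ρ K) f η ε j := by
  induction i with
  | zero => exact hx
  | succ i ih =>
    rw [pow_succ', Module.End.mul_apply]
    exact tOp_mem_mLayer C W ρ ih

theorem tOp_pow_order {x : X} (hx : x ∈ mLayer (rK ρ K) f η ε 0) :
    (tOp ρ h c0 ^ n) x = x := by
  obtain ⟨hn, hp⟩ := W.pow
  have h0 := C.kills_socle (rK ρ K) (c := MonoidAlgebra.single ⟨h ^ n, hn⟩ 1 * ccSeq hh c0 n - 1)
    (by rw [map_sub, hp, map_one, sub_self]) (mem_mLayer.1 hx).1
  rw [map_sub, map_one, LinearMap.sub_apply, Module.End.one_apply, sub_eq_zero, map_mul,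
    Representation.asAlgebraHom_single_one, Module.End.mul_apply] at h0
  rw [tOp_pow ρ hh, Module.End.mul_apply]
  exact h0

theorem eigP_mem_mLayer (ζ : resField hM) {j : ℕ} {x : X} (hx : x ∈ mLayer (rK ρ K) f η ε j) :
    eigP ρ h c0 n ζ x ∈ mLayer (rK ρ K) f η ε j := by
  rw [eigP, LinearMap.smul_apply, LinearMap.sum_apply]
  exact Submodule.smul_mem _ _ (Submodule.sum_mem _ fun i _ =>
    Submodule.smul_mem _ _ (tOp_pow_mem_mLayer C W ρ i hx))

theorem tOp_eigP {ζ : resField hM} (hζ : ζ ^ n = 1) (hn0 : n ≠ 0) {x : X}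
    (hx : x ∈ mLayer (rK ρ K) f η ε 0) :
    tOp ρ h c0 (eigP ρ h c0 n ζ x) = ζ • eigP ρ h c0 n ζ x := by
  have hζ0 : ζ ≠ 0 := fun h0 => by rw [h0, zero_pow hn0] at hζ; exact zero_ne_one hζ
  set H := tOp ρ h c0 with hH
  set a : ℕ → X := fun i => (ζ⁻¹) ^ i • (H ^ i) x with ha
  have hn' : a n = a 0 := by
    simp only [ha, pow_zero, one_smul, Module.End.one_apply]
    rw [inv_pow, hζ, inv_one, one_smul, hH]
    exact tOp_pow_order C W ρ hx
  have hsum : ∑ i ∈ Finset.range n, a (i + 1) = ∑ i ∈ Finset.range n, a i := by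
    have h1 := Finset.sum_range_succ' a n
    rw [Finset.sum_range_succ, hn'] at h1
    exact add_right_cancel h1.symm
  have hstep : ∀ i, H (a i) = ζ • a (i + 1) := fun i => by
    simp only [ha, map_smul, smul_smul]
    rw [pow_succ' H, Module.End.mul_apply, pow_succ' (ζ⁻¹), ← mul_assoc, mul_inv_cancel₀ hζ0,
      one_mul]
  have hP : eigP ρ h c0 n ζ x = (n : resField hM)⁻¹ • ∑ i ∈ Finset.range n, a i := by
    simp [eigP, LinearMap.sum_apply, ha, hH]
  rw [hP, map_smul, map_sum, Finset.sum_congr rfl fun i _ => hstep i, ← Finset.smul_sum, hsum,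
    smul_comm]

end Use

theorem eigP_eigen (ρ : Representation (resField hM) G X) {h : G} {c0 : KGA hM K} {n : ℕ}
    (ζ : resField hM) {ζ' : resField hM} {x : X} (hx : tOp ρ h c0 x = ζ' • x) :
    eigP ρ h c0 n ζ x = ((n : resField hM)⁻¹ * ∑ i ∈ Finset.range n, (ζ⁻¹ * ζ') ^ i) • x := by
  have hpow : ∀ i, (tOp ρ h c0 ^ i) x = ζ' ^ i • x := by
    intro i
    induction i with
    | zero => simp
    | succ i ih => rw [pow_succ', Module.End.mul_apply, ih, map_smul, hx, smul_smul, pow_succ]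
  rw [eigP, LinearMap.smul_apply, LinearMap.sum_apply, Finset.mul_sum, Finset.sum_smul,
    Finset.smul_sum]
  refine Finset.sum_congr rfl fun i _ => ?_
  rw [LinearMap.smul_apply, hpow, smul_smul, smul_smul, mul_pow, mul_assoc]

theorem eigP_eigen_self (ρ : Representation (resField hM) G X) {h : G} {c0 : KGA hM K} {n : ℕ}
    {ζ : resField hM} (hζ : ζ ≠ 0) (hn : (n : resField hM) ≠ 0) {x : X}
    (hx : tOp ρ h c0 x = ζ • x) : eigP ρ h c0 n ζ x = x := by
  rw [eigP_eigen ρ ζ hx, inv_mul_cancel₀ hζ]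
  simp [inv_mul_cancel₀ hn]

theorem eigP_eigen_ne (ρ : Representation (resField hM) G X) {h : G} {c0 : KGA hM K} {n : ℕ}
    {ζ ζ' : resField hM} (hn : n ≠ 0) (hζ : ζ ^ n = 1) (hζ' : ζ' ^ n = 1) (hne : ζ' ≠ ζ) {x : X}
    (hx : tOp ρ h c0 x = ζ' • x) : eigP ρ h c0 n ζ x = 0 := by
  have hζ0 : ζ ≠ 0 := fun h0 => by rw [h0, zero_pow hn] at hζ; exact zero_ne_one hζ
  have h1 : ζ⁻¹ * ζ' ≠ 1 := fun h1 => hne ((inv_mul_eq_one₀ hζ0).1 h1).symm
  rw [eigP_eigen ρ ζ hx, geom_sum_eq h1, mul_pow, inv_pow, hζ, hζ', inv_one, one_mul, sub_self,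
    zero_div, mul_zero, zero_smul]

end Cfsg.Lib.Block
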