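import Cfsg.Agent.Lib.Block.CyclicRelTrace

/-!
# Eigenvalues on the socle as invariants of simple modules

A module of a block carries a witness of a root of unity if the marked socle has an eigenvector
of that eigenvalue outside the top layer.  Witnesses descend to simple modules and a simple module
carries at most one.
-/

set_option autoImplicit false
set_option linter.unusedSectionVars false
set_option maxHeartbeats 1000000

namespace Cfsg.Lib.Block

open Cfsg Module
open scoped MonoidAlgebra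

universe u v w

noncomputable local instance (priority := high) fintypeSubgroupCyclicWitnessGen {A : Type u}
    [Group A] [Fintype A] (H : Subgroup A) : Fintype H := Fintype.ofFinite H

variable {p : ℕ} [Fact p.Prime] {M : Ideal AlgInt} {hM : IsPModular p M}
  {G : Type u} [Group G] [Fintype G] {K : Subgroup G}

theorem map_cLayer {A : Type u} [Group A] [Fintype A] {X : Type v} [AddCommGroup X]
    [Module (resField hM) X] {Y : Type w} [AddCommGroup Y] [Module (resField hM) Y]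
    {ρ : Representation (resField hM) A X} {ρ' : Representation (resField hM) A Y}
    (φ : X →ₗ[resField hM] Y) (hφ : ∀ g x, φ (ρ g x) = ρ' g (φ x)) (f : Set (IrrCharacter A))
    (η : KGA hM A) (j : ℕ) {x : X} (hx : x ∈ cLayer ρ f η j) : φ x ∈ cLayer ρ' f η j := by
  obtain ⟨h1, w, hw⟩ := hx
  refine ⟨?_, φ w, ?_⟩
  · show ρ'.asAlgebraHom η (φ x) = 0
    rw [← map_asAlgebraHom φ hφ, LinearMap.mem_ker.1 h1, map_zero]
  · rw [← map_asAlgebraHom φ hφ, hw]

theorem Corner.mem_top {A : Type u} [Group A] [Fintype A] {f : Set (IrrCharacter A)} {q : ℕ}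
    {η ε : KGA hM A} {m : ℕ} {σ : Representation (resField hM) A (Fin m → resField hM)}
    {i₀ : Fin m} (C : Corner hM f q η ε σ i₀) {X : Type v} [AddCommGroup X]
    [Module (resField hM) X] (ρ : Representation (resField hM) A X) {x : X}
    (hx : x ∈ LinearMap.range (ρ.asAlgebraHom (η ^ (q - 1) * blkA hM f))) :
    x ∈ cLayer ρ f η (q - 1) := by
  refine ⟨?_, hx⟩
  obtain ⟨w, rfl⟩ := hx
  show ρ.asAlgebraHom η (ρ.asAlgebraHom _ w) = 0
  rw [← Module.End.mul_apply, ← map_mul, ← mul_assoc, ← pow_succ', Nat.sub_add_cancel C.q_pos,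
    C.eta_pow, zero_mul, map_zero, LinearMap.zero_apply]

/-- A witness of an eigenvalue. -/
def IsWit {X : Type v} [AddCommGroup X] [Module (resField hM) X]
    (ρ : Representation (resField hM) G X) (f : Set (IrrCharacter K)) (q : ℕ) (η ε : KGA hM K)
    (h : G) (c0 : KGA hM K) (ζ : resField hM) : Prop :=
  ∃ z ∈ mLayer (rK ρ K) f η ε 0, tOp ρ h c0 z = ζ • z ∧ z ∉ cLayer (rK ρ K) f η (q - 1)

section Witness

variable {f : Set (IrrCharacter K)} {q : ℕ} {η ε : KGA hM K} {m : ℕ}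
  {σ : Representation (resField hM) K (Fin m → resField hM)} {i₀ : Fin m}
  (C : Corner hM f q η ε σ i₀) {h : G} {hh : ConjMaps h K K} {n : ℕ} {c0 : KGA hM K}
  (W : Twisted hM f η ε σ i₀ hh n c0) {X : Type v} [AddCommGroup X] [Module (resField hM) X]
  {ρ : Representation (resField hM) G X}

theorem isWit_map {Y : Type w} [AddCommGroup Y] [Module (resField hM) Y]
    {ρ' : Representation (resField hM) G Y} (e : X ≃ₗ[resField hM] Y)
    (he : ∀ g x, e (ρ g x) = ρ' g (e x)) {ζ : resField hM} (hw : IsWit ρ f q η ε h c0 ζ) :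
    IsWit ρ' f q η ε h c0 ζ := by
  obtain ⟨z, hz, hH, ht⟩ := hw
  refine ⟨e z, map_mLayer e.toLinearMap he f η ε 0 hz, ?_, fun h' => ht ?_⟩
  · have := map_tOp e.toLinearMap he h c0 z
    simp only [LinearEquiv.coe_coe] at this
    rw [← this, hH, map_smul]
  · have he' : ∀ (g : G) y, e.symm.toLinearMap (ρ' g y) = ρ g (e.symm.toLinearMap y) := fun g y =>
      e.injective (by simp [he])
    have h1 := map_cLayer (ρ := rK ρ' K) (ρ' := rK ρ K) e.symm.toLinearMap
      (fun g y => he' g y) f η (q - 1) h'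
    rwa [LinearEquiv.coe_coe, e.symm_apply_apply] at h1

include C W in
/-- A witness descends to an irreducible subquotient. -/
theorem exists_irreducible_wit {B : Set (IrrCharacter G)} {ζ : resField hM} (hζ : ζ ^ n = 1)
    (hn : (n : resField hM) ≠ 0) : ∀ (d : ℕ) {X : Type v} [AddCommGroup X]
      [Module (resField hM) X] [FiniteDimensional (resField hM) X]
      (ρ : Representation (resField hM) G X),
      Module.finrank (resField hM) X ≤ d → blockOp hM B ρ = 1 → IsWit ρ f q η ε h c0 ζ →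
      ∃ (N : ℕ) (τ : Representation (resField hM) G (Fin N → resField hM)),
        τ.IsIrreducible ∧ blockOp hM B τ = 1 ∧ IsWit τ f q η ε h c0 ζ := by
  classical
  have hn0 : n ≠ 0 := fun h0 => hn (by rw [h0, Nat.cast_zero])
  have hζ0 : ζ ≠ 0 := fun h0 => by rw [h0, zero_pow hn0] at hζ; exact zero_ne_one hζ
  intro d
  induction d with
  | zero =>
    intro X _ _ _ ρ hd _ hw
    obtain ⟨z, -, -, hzt⟩ := hw
    haveI : Subsingleton X := Module.finrank_zero_iff.1 (Nat.le_zero.1 hd)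
    exact absurd (Subsingleton.elim (0 : X) z ▸ zero_mem _) hzt
  | succ d ih =>
    intro X _ _ _ ρ hd hb hw
    by_cases hirr : ρ.IsIrreducible
    · obtain ⟨N, τ, e, he, hτ⟩ := exists_coordinates ρ
      exact ⟨N, τ, hτ hirr, blockOp_eq_one_of_surjective hM (φ := e.toLinearMap) e.surjective he hb,
        isWit_map e he hw⟩
    obtain ⟨z, hz, hH, hzt⟩ := hw
    haveI : Nontrivial X := ⟨⟨z, 0, fun h0 => hzt (h0 ▸ zero_mem _)⟩⟩
    obtain ⟨U, hinv, hU0, hU⟩ := exists_sub_of_not_irreducible hirr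
    have hπ := quotRep_mkQ ρ U hinv
    have hι := subRep_subtype ρ U hinv
    have hsum := Submodule.finrank_quotient_add_finrank U
    by_cases hq : U.mkQ z ∈ cLayer (rK (quotRep ρ U hinv) K) f η (q - 1)
    · obtain ⟨-, w, hw⟩ := hq
      obtain ⟨w, rfl⟩ := U.mkQ_surjective w
      rw [← map_rK (K := K) U.mkQ hπ, Submodule.mkQ_apply, Submodule.mkQ_apply,
        Submodule.Quotient.eq] at hw
      set T := (rK ρ K).asAlgebraHom with hT
      set T' := (rK (subRep ρ U hinv) K).asAlgebraHom with hT'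
      set s₀ : U := ⟨z - T (η ^ (q - 1) * blkA hM f) w, by rw [← neg_sub]; exact U.neg_mem hw⟩
      set s₁ : U := T' ε s₀ with hs₁
      set t₁ : X := T ε (T (η ^ (q - 1) * blkA hM f) w) with ht₁
      have hs₁X : (s₁ : X) = z - t₁ := by
        rw [hs₁, ← Submodule.subtype_apply, map_rK (K := K) U.subtype hι, ← hT]
        show T ε (z - T (η ^ (q - 1) * blkA hM f) w) = _
        rw [map_sub, (mem_mLayer.1 hz).2]
      have ht₁mem : t₁ ∈ mLayer (rK ρ K) f η ε (q - 1) := mem_mLayer.2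
        ⟨C.cLayer_stable (rK ρ K) (C.mem_top (rK ρ K) ⟨w, rfl⟩) ε, by
          rw [ht₁, ← Module.End.mul_apply, ← map_mul, C.e_idem.eq]⟩
      have hs₁mem : s₁ ∈ mLayer (rK (subRep ρ U hinv) K) f η ε 0 := by
        refine mem_mLayer.2 ⟨⟨?_, s₁, ?_⟩, ?_⟩
        · show T' η s₁ = 0
          refine U.injective_subtype ?_
          rw [map_rK (K := K) U.subtype hι, map_zero, Submodule.subtype_apply, hs₁X, ← hT, map_sub,
            LinearMap.mem_ker.1 (mem_mLayer.1 hz).1.1,
            LinearMap.mem_ker.1 (mem_mLayer.1 ht₁mem).1.1, sub_zero]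
        · show T' (η ^ 0 * blkA hM f) s₁ = s₁
          rw [hs₁, pow_zero, one_mul, ← Module.End.mul_apply, ← map_mul, C.e_blk]
        · show T' ε s₁ = s₁
          rw [hs₁, ← Module.End.mul_apply, ← map_mul, C.e_idem.eq]
      refine ih (subRep ρ U hinv) ?_
        (blockOp_eq_one_of_injective hM (φ := U.subtype) U.injective_subtype hι hb)
        ⟨eigP (subRep ρ U hinv) h c0 n ζ s₁, eigP_mem_mLayer C W _ ζ hs₁mem,
          tOp_eigP C W _ hζ hn0 hs₁mem, fun h' => hzt ?_⟩
      · have : 0 < Module.finrank (resField hM) (X ⧸ U) := Module.finrank_pos_iff.2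
          (Submodule.Quotient.nontrivial_iff.2 hU)
        omega
      · have h1 := map_cLayer (ρ := rK (subRep ρ U hinv) K) (ρ' := rK ρ K) U.subtype
          (fun g y => hι g y) f η (q - 1) h'
        have he : U.subtype (eigP (subRep ρ U hinv) h c0 n ζ s₁) = eigP ρ h c0 n ζ (s₁ : X) := by
          simp only [eigP, LinearMap.smul_apply, LinearMap.sum_apply, map_smul, map_sum,
            map_tOp_pow U.subtype hι, Submodule.subtype_apply]
        rw [he, hs₁X, map_sub, eigP_eigen_self ρ hζ0 hn hH] at h1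
        have h2 := add_mem h1 (mem_mLayer.1 (eigP_mem_mLayer C W ρ ζ ht₁mem)).1
        rwa [sub_add_cancel] at h2
    · refine ih (quotRep ρ U hinv) ?_
        (blockOp_eq_one_of_surjective hM (φ := U.mkQ) U.mkQ_surjective hπ hb)
        ⟨U.mkQ z, map_mLayer U.mkQ hπ f η ε 0 hz, ?_, hq⟩
      · have : 0 < Module.finrank (resField hM) U := by
          rw [Nat.pos_iff_ne_zero, ne_eq, Submodule.finrank_eq_zero]
          exact hU0
        omega
      · rw [← map_tOp U.mkQ hπ, hH, map_smul]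

end Witness

/-! ## Uniqueness -/

open Classical in
/-- The data for the relative trace. -/
structure TraceData (hM : IsPModular p M) (f : Set (IrrCharacter K)) (η ε : KGA hM K) {m : ℕ}
    (σ : Representation (resField hM) K (Fin m → resField hM)) (i₀ : Fin m) (q : ℕ) (h : G)
    (hh : ConjMaps h K K) (n : ℕ) (c0 : KGA hM K) (S N P : Subgroup G) (b : KGA hM K) : Prop where
  corner : Corner hM f q η ε σ i₀
  twisted : Twisted hM f η ε σ i₀ hh n c0
  n_ne : (n : resField hM) ≠ 0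
  le_K : P ≤ K
  K_le : K ≤ S
  S_le : S ≤ N
  mem : h ∈ S
  inj : ∀ i < n, h ^ i ∈ K → i = 0
  surj : ∀ g ∈ S, ∃ i < n, (h ^ i)⁻¹ * g ∈ K
  maps : ∀ g ∈ N, ConjMaps g K K
  moved : ∀ g (hg : g ∈ N), g ∉ S → blkA hM f * twC hM (maps g hg) (blkA hM f) = 0
  free : ∀ g : G, g ∉ N → ∀ d ∈ P, g⁻¹ * d * g ∈ P → d = 1
  avg_comm : ∀ d : K, (d : G) ∈ P → Commute (MonoidAlgebra.single d 1) b
  avg : ∑ r : K ⧸ P.subgroupOf K,
    MonoidAlgebra.single r.out 1 * b * MonoidAlgebra.single r.out⁻¹ 1 = blkA hM f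

variable {f : Set (IrrCharacter K)} {q : ℕ} {η ε : KGA hM K} {m : ℕ}
  {σ : Representation (resField hM) K (Fin m → resField hM)} {i₀ : Fin m} {h : G}
  {hh : ConjMaps h K K} {n : ℕ} {c0 : KGA hM K} {S N P : Subgroup G} {b : KGA hM K}
  (D : TraceData hM f η ε σ i₀ q h hh n c0 S N P b) {X : Type v} [AddCommGroup X]
  [Module (resField hM) X] [FiniteDimensional (resField hM) X]
  {ρ : Representation (resField hM) G X}

theorem commute_asAlgebraHom {F : Module.End (resField hM) X}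
    (hF : ∀ k : K, Commute F (rK ρ K k)) (c : KGA hM K) :
    Commute F ((rK ρ K).asAlgebraHom c) := by
  induction c using MonoidAlgebra.induction_on with
  | of g => rw [MonoidAlgebra.of_apply, Representation.asAlgebraHom_single_one]; exact hF g
  | add a b ha hb => rw [map_add]; exact ha.add_right hb
  | smul r a ha => rw [map_smul]; exact ha.smul_right r

include D in
open Classical in
/-- The relative trace of an endomorphism of the block, on the marked socle. -/
theorem trace_decomp {F : Module.End (resField hM) X} (hFc : ∀ k : K, Commute F (rK ρ K k))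
    (hFB : F * (rK ρ K).asAlgebraHom (blkA hM f) = F) {y : X}
    (hy : y ∈ mLayer (rK ρ K) f η ε 0) :
    (∑ x : G ⧸ P, cjOp ρ (F * (rK ρ K).asAlgebraHom b) x.out) y -
      ∑ i ∈ Finset.range n, (tOp ρ h c0 ^ i) (F ((tOp ρ h c0 ^ (n - i)) y)) ∈
      cLayer (rK ρ K) f η (q - 1) := by
  set T := (rK ρ K).asAlgebraHom with hT
  set Ψ := F * T b with hΨdef
  have hPN : P ≤ N := D.le_K.trans (D.K_le.trans D.S_le)
  have hΨ : ∀ d ∈ P, Commute (ρ d) Ψ := by
    intro d hd
    have h1 : ρ d = T (MonoidAlgebra.single (⟨d, D.le_K hd⟩ : K) 1) := by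
      rw [hT, Representation.asAlgebraHom_single_one]; rfl
    rw [h1]
    exact (commute_asAlgebraHom hFc _).symm.mul_right ((D.avg_comm ⟨d, D.le_K hd⟩ hd).map T)
  obtain ⟨hyc, hye⟩ := mem_mLayer.1 hy
  have hyB : T (blkA hM f) y = y := D.corner.act_blk (rK ρ K) hyc
  have hsingle : ∀ k : K, T (MonoidAlgebra.single k 1) = ρ (k : G) := fun k => by
    rw [hT, Representation.asAlgebraHom_single_one]; rfl
  have havg : ∑ r : K ⧸ P.subgroupOf K, ρ (r.out : G) * T b * ρ (r.out : G)⁻¹ = T (blkA hM f) := by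
    rw [← D.avg, map_sum]
    refine Finset.sum_congr rfl fun r _ => ?_
    rw [map_mul, map_mul, hsingle, hsingle, InvMemClass.coe_inv]
  have hsplit : ∑ x : G ⧸ P, cjOp ρ Ψ x.out =
      ∑ x ∈ Finset.univ.filter (fun x : G ⧸ P => x.out ∈ S), cjOp ρ Ψ x.out +
      ∑ x ∈ Finset.univ.filter (fun x : G ⧸ P => x.out ∈ N ∧ x.out ∉ S), cjOp ρ Ψ x.out +
      ∑ x ∈ Finset.univ.filter (fun x : G ⧸ P => x.out ∉ N), cjOp ρ Ψ x.out := by
    rw [← Finset.sum_union (Finset.disjoint_filter.2 fun x _ h1 h2 => h2.2 h1)]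
    rw [← Finset.sum_union]
    · refine Finset.sum_congr ?_ fun x _ => rfl
      ext x
      simp only [Finset.mem_univ, Finset.mem_union, Finset.mem_filter, true_and, true_iff]
      by_cases h1 : x.out ∈ N
      · by_cases h2 : x.out ∈ S <;> simp [h1, h2]
      · exact Or.inr h1
    · rw [Finset.disjoint_left]
      intro x hx hx'
      simp only [Finset.mem_univ, Finset.mem_union, Finset.mem_filter, true_and] at hx hx'
      rcases hx with h1 | h1
      · exact hx' (D.S_le h1)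
      · exact hx' h1.1
  -- inside
  have hF : ∑ r : K ⧸ P.subgroupOf K, cjOp ρ Ψ (r.out : G) = F := by
    conv_rhs => rw [← hFB, ← havg, Finset.mul_sum]
    refine Finset.sum_congr rfl fun r _ => ?_
    rw [cjOp, hΨdef, ← mul_assoc (ρ _) F, show ρ (r.out : G) * F = F * ρ (r.out : G) from
      (hFc r.out).eq.symm]
    simp only [mul_assoc]
  have hin : (∑ x ∈ Finset.univ.filter (fun x : G ⧸ P => x.out ∈ S), cjOp ρ Ψ x.out) y =
      ∑ i ∈ Finset.range n, (tOp ρ h c0 ^ i) (F ((tOp ρ h c0 ^ (n - i)) y)) := by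
    rw [sum_cjOp_inside ρ hΨ D.le_K D.K_le D.mem D.inj D.surj, hF, LinearMap.sum_apply]
    refine Finset.sum_congr rfl fun i hi => ?_
    have hyi : y = (tOp ρ h c0 ^ i) ((tOp ρ h c0 ^ (n - i)) y) := by
      rw [← Module.End.mul_apply, ← pow_add, Nat.add_sub_cancel' (Finset.mem_range.1 hi).le,
        tOp_pow_order D.corner D.twisted ρ hy]
    conv_lhs => rw [hyi]
    simp only [tOp_pow ρ hh c0 i, Module.End.mul_apply]
    rw [← Module.End.mul_apply (ρ (h ^ i)⁻¹), ← map_mul, inv_mul_cancel, map_one,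
      Module.End.one_apply, ← Module.End.mul_apply F, (commute_asAlgebraHom hFc _).eq,
      Module.End.mul_apply]
  -- in the normalizer
  have hmid : (∑ x ∈ Finset.univ.filter (fun x : G ⧸ P => x.out ∈ N ∧ x.out ∉ S),
      cjOp ρ Ψ x.out) y = 0 := by
    rw [LinearMap.sum_apply]
    refine Finset.sum_eq_zero fun x hx => ?_
    obtain ⟨hxN, hxS⟩ := (Finset.mem_filter.1 hx).2
    have hh' := D.maps _ (inv_mem hxN)
    have hc1 : ρ x.out⁻¹ y = T (twC hM hh' (blkA hM f)) (ρ x.out⁻¹ y) := by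
      rw [hT, ← Module.End.mul_apply, ← asAlgebraHom_rK_twC ρ hh', Module.End.mul_apply, ← hT, hyB]
    have hΨB : Ψ = F * T b * T (blkA hM f) := by
      conv_lhs => rw [hΨdef, ← hFB, mul_assoc, ← map_mul,
        show blkA hM f * b = b * blkA hM f from (cV_commute hM (indVec f) b).eq, map_mul,
        ← mul_assoc]
    have h0 : Ψ (ρ x.out⁻¹ y) = 0 := by
      rw [hc1, hΨB, Module.End.mul_apply, ← Module.End.mul_apply (T (blkA hM f)), ← map_mul,
        D.moved _ (inv_mem hxN) (fun h1 => hxS (inv_mem_iff.1 h1)), map_zero, LinearMap.zero_apply,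
        map_zero]
    rw [cjOp, Module.End.mul_apply, Module.End.mul_apply, h0, map_zero]
  -- outside
  obtain ⟨Θ, hΘ⟩ := exists_sum_cjOp_outside ρ hΨ hPN D.free
  set E := ∑ x ∈ Finset.univ.filter (fun x : G ⧸ P => x.out ∉ N), cjOp ρ Ψ x.out with hE
  have hEk : ∀ k ∈ N, ρ k * E = E * ρ k := by
    intro k hk
    rw [hE, Finset.mul_sum, Finset.sum_mul]
    refine Finset.sum_equiv (MulAction.toPerm k)
      (fun x => by simp only [Finset.mem_filter, Finset.mem_univ, true_and, MulAction.toPerm_apply,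
        smul_out_mem_iff hPN hk]) fun x _ => ?_
    rw [MulAction.toPerm_apply, cjOp_smul ρ hΨ, mul_assoc _ (ρ k⁻¹), ← map_mul, inv_mul_cancel,
      map_one, mul_one]
  have hout : E y ∈ cLayer (rK ρ K) f η (q - 1) := by
    have h1 : E y = ∑ k : K, rK ρ K k ((Θ * T b) (rK ρ K k⁻¹ y)) := by
      have e : y = ∑ r : K ⧸ P.subgroupOf K, (ρ (r.out : G) * T b * ρ (r.out : G)⁻¹) y := by
        rw [← LinearMap.sum_apply, havg, hyB]
      conv_lhs => rw [e, map_sum]
      show _ = ∑ k : K, ρ (k : G) ((Θ * T b) (ρ ((k : G)⁻¹) y))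
      rw [← sum_quot_sum D.le_K (fun g : G => ρ g ((Θ * T b) (ρ g⁻¹ y)))]
      refine Finset.sum_congr rfl fun r _ => ?_
      have hrN : (r.out : G) ∈ N := D.S_le (D.K_le r.out.2)
      rw [Module.End.mul_apply, Module.End.mul_apply, ← Module.End.mul_apply E,
        ← hEk _ hrN, Module.End.mul_apply, hΘ, LinearMap.sum_apply, map_sum]
      refine Finset.sum_congr rfl fun d _ => ?_
      have hd : ρ (d : G)⁻¹ * T b = T b * ρ (d : G)⁻¹ := by
        have := (D.avg_comm ⟨(d : G)⁻¹, inv_mem (D.le_K d.2)⟩ (inv_mem d.2)).map T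
        rw [hsingle] at this
        exact this.eq
      rw [map_mul ρ (r.out : G), mul_inv_rev, map_mul ρ ((d : G)⁻¹)]
      simp only [Module.End.mul_apply]
      rw [← Module.End.mul_apply (ρ (d : G)⁻¹) (T b), hd, Module.End.mul_apply]
    rw [h1]
    exact D.corner.mem_top _ (D.corner.trace_mem_top (rK ρ K) (LinearMap.mem_ker.1 hyc.1) hye
      (Θ * T b))
  rw [hsplit, LinearMap.add_apply, LinearMap.add_apply, hin, hmid, add_zero, add_sub_cancel_left]
  exact hout

include D in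
open Classical in
/-- An irreducible module carries at most one eigenvalue. -/
theorem eq_of_wit {N₀ : ℕ} {ρ : Representation (resField hM) G (Fin N₀ → resField hM)}
    (hirr : ρ.IsIrreducible) {ζ ζ' : resField hM} (hζ : ζ ^ n = 1) (hζ' : ζ' ^ n = 1)
    (hw : IsWit ρ f q η ε h c0 ζ) (hw' : IsWit ρ f q η ε h c0 ζ') : ζ = ζ' := by
  by_contra hne
  have C := D.corner
  have W := D.twisted
  have hn0 : n ≠ 0 := fun h0 => D.n_ne (by rw [h0, Nat.cast_zero])
  have hζ0 : ζ ≠ 0 := fun h0 => by rw [h0, zero_pow hn0] at hζ; exact zero_ne_one hζ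
  obtain ⟨y, hy, hHy, hyt⟩ := hw
  obtain ⟨y', hy', hHy', hyt'⟩ := hw'
  set H := tOp ρ h c0 with hH
  set Lr := cLayer (rK ρ K) f η with hLr
  have hlevel : ∀ x ∈ Lr 0, x ∉ Lr (q - 1) →
      ∃ j, j + 1 ≤ q - 1 ∧ x ∈ Lr j ∧ x ∉ Lr (j + 1) := by
    intro x hx hxt
    have hex : ∃ j, x ∉ Lr j := ⟨q - 1, hxt⟩
    have hm := Nat.find_spec hex
    have hle : Nat.find hex ≤ q - 1 := Nat.find_le hxt
    obtain ⟨j, hj⟩ : ∃ j, Nat.find hex = j + 1 := by
      refine Nat.exists_eq_succ_of_ne_zero fun h0 => ?_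
      rw [h0] at hm
      exact hm hx
    exact ⟨j, hj ▸ hle, not_not.1 (Nat.find_min hex (by omega)), hj ▸ hm⟩
  obtain ⟨j, hjq, hyj, hyj1⟩ := hlevel y (mem_mLayer.1 hy).1 hyt
  obtain ⟨j', hjq', hyj', hyj1'⟩ := hlevel y' (mem_mLayer.1 hy').1 hyt'
  set Φ : Module.End (resField hM) (Fin N₀ → resField hM) :=
    (n : resField hM)⁻¹ • eigP ρ h c0 n ζ with hΦ
  have hΦmem : ∀ (i : ℕ) x, x ∈ mLayer (rK ρ K) f η ε i → Φ x ∈ mLayer (rK ρ K) f η ε i :=
    fun i x hx => by
      rw [hΦ, LinearMap.smul_apply]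
      exact Submodule.smul_mem _ _ (eigP_mem_mLayer C W ρ ζ hx)
  have hΦH : Commute Φ H := by
    rw [hΦ, eigP]
    refine ((Commute.sum_left _ _ _ fun i _ => ?_).smul_left _).smul_left _
    exact ((Commute.refl H).pow_left i).smul_left _
  obtain ⟨F, hFc, hFB, hF0, hF1, hFh⟩ := C.exists_extend (rK ρ K) j Φ
    (fun x hx hex => mem_mLayer.1 (hΦmem j x (mem_mLayer.2 ⟨hx, hex⟩)))
    (fun x hx hex => (mem_mLayer.1 (hΦmem (j + 1) x (mem_mLayer.2 ⟨hx, hex⟩))).1)
  set φ : Module.End (resField hM) (Fin N₀ → resField hM) :=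
    ∑ x : G ⧸ P, cjOp ρ (F * (rK ρ K).asAlgebraHom b) x.out with hφ
  have hΨ : ∀ d ∈ P, Commute (ρ d) (F * (rK ρ K).asAlgebraHom b) := by
    intro d hd
    have h1 : ρ d = (rK ρ K).asAlgebraHom (MonoidAlgebra.single (⟨d, D.le_K hd⟩ : K) 1) := by
      rw [Representation.asAlgebraHom_single_one]; rfl
    rw [h1]
    exact (commute_asAlgebraHom hFc _).symm.mul_right
      ((D.avg_comm ⟨d, D.le_K hd⟩ hd).map _)
  obtain ⟨s, hs⟩ := exists_scalar hirr (f := φ) (trace_commute ρ hΨ)
  have htl : ∀ {i : ℕ}, i ≤ q - 1 → Lr (q - 1) ≤ Lr i := fun hi => C.cLayer_mono (rK ρ K) hi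
  have hHL : ∀ (i : ℕ) {l : ℕ} {x}, x ∈ Lr l → (H ^ i) x ∈ Lr l := by
    intro i l x hx
    induction i with
    | zero => exact hx
    | succ i ih => rw [pow_succ', Module.End.mul_apply]; exact tOp_mem_cLayer C W ρ ih
  have hA : ∀ x ∈ mLayer (rK ρ K) f η ε j, s • x - eigP ρ h c0 n ζ x ∈ Lr (j + 1) := by
    intro x hx
    have hx0 : x ∈ mLayer (rK ρ K) f η ε 0 :=
      mem_mLayer.2 ⟨C.cLayer_mono (rK ρ K) (Nat.zero_le j) (mem_mLayer.1 hx).1, (mem_mLayer.1 hx).2⟩
    have h1 := htl hjq (trace_decomp D hFc hFB hx0)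
    rw [← hφ, hs, LinearMap.smul_apply, Module.End.one_apply] at h1
    have h2 : ∑ i ∈ Finset.range n, (H ^ i) (F ((H ^ (n - i)) x)) - eigP ρ h c0 n ζ x ∈
        Lr (j + 1) := by
      have h3 : eigP ρ h c0 n ζ x =
          ∑ i ∈ Finset.range n, (H ^ i) (Φ ((H ^ (n - i)) x)) := by
        have h4 : ∀ i ∈ Finset.range n, (H ^ i) (Φ ((H ^ (n - i)) x)) = Φ x := by
          intro i hi
          rw [← Module.End.mul_apply (H ^ i), ← (hΦH.pow_right i).eq, Module.End.mul_apply,
            ← Module.End.mul_apply (H ^ i), ← pow_add, Nat.add_sub_cancel' (Finset.mem_range.1 hi).le,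
            hH, tOp_pow_order C W ρ hx0]
        rw [Finset.sum_congr rfl h4, Finset.sum_const, Finset.card_range, hΦ, LinearMap.smul_apply,
          ← Nat.cast_smul_eq_nsmul (resField hM), smul_smul, mul_inv_cancel₀ D.n_ne, one_smul]
      rw [h3, ← Finset.sum_sub_distrib]
      refine Submodule.sum_mem _ fun i _ => ?_
      rw [← map_sub]
      have hm := tOp_pow_mem_mLayer C W ρ (n - i) hx
      exact hHL i (hFh _ (mem_mLayer.1 hm).1 (mem_mLayer.1 hm).2)
    have h5 := add_mem h1 h2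
    rwa [sub_add_sub_cancel] at h5
  have hB : ∀ x ∈ mLayer (rK ρ K) f η ε (j + 1), s • x ∈ Lr (q - 1) := by
    intro x hx
    have hx0 : x ∈ mLayer (rK ρ K) f η ε 0 :=
      mem_mLayer.2 ⟨C.cLayer_mono (rK ρ K) (Nat.zero_le _) (mem_mLayer.1 hx).1,
        (mem_mLayer.1 hx).2⟩
    have h1 := trace_decomp D hFc hFB hx0
    rw [← hφ, hs, LinearMap.smul_apply, Module.End.one_apply,
      Finset.sum_eq_zero (fun i _ => ?_), sub_zero] at h1
    · exact h1
    · rw [hF1 _ (mem_mLayer.1 (tOp_pow_mem_mLayer C W ρ (n - i) hx)).1, map_zero]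
  have hC : ∀ x ∈ mLayer (rK ρ K) f η ε 0, s • x ∈ Lr j := by
    intro x hx
    have h1 := htl (by omega : j ≤ q - 1) (trace_decomp D hFc hFB hx)
    rw [← hφ, hs, LinearMap.smul_apply, Module.End.one_apply] at h1
    have h2 : ∑ i ∈ Finset.range n, (H ^ i) (F ((H ^ (n - i)) x)) ∈ Lr j :=
      Submodule.sum_mem _ fun i _ =>
        hHL i (hF0 _ (mem_mLayer.1 (tOp_pow_mem_mLayer C W ρ (n - i) hx)).1)
    have h3 := add_mem h1 h2
    rwa [sub_add_cancel] at h3
  have hs1 : s = 1 := by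
    by_contra hs1
    have h1 := hA y (mem_mLayer.2 ⟨hyj, (mem_mLayer.1 hy).2⟩)
    rw [eigP_eigen_self ρ hζ0 D.n_ne hHy, show s • y - y = (s - 1) • y by
      rw [sub_smul, one_smul]] at h1
    exact hyj1 ((Submodule.smul_mem_iff _ (sub_ne_zero.2 hs1)).1 h1)
  subst hs1
  simp only [one_smul] at hA hB hC
  rcases lt_trichotomy j j' with hlt | heq | hgt
  · exact hyt' (hB y' (mem_mLayer.2 ⟨C.cLayer_mono (rK ρ K) hlt hyj', (mem_mLayer.1 hy').2⟩))
  · subst heq
    have h1 := hA y' (mem_mLayer.2 ⟨hyj', (mem_mLayer.1 hy').2⟩)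
    rw [eigP_eigen_ne ρ hn0 hζ hζ' (Ne.symm hne) hHy', sub_zero] at h1
    exact hyj1' h1
  · exact hyj1' (C.cLayer_mono (rK ρ K) hgt (hC y' hy'))

end Cfsg.Lib.Block
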