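import Cfsg.Agent.S4230
import Mathlib.NumberTheory.Multiplicity
import Mathlib.NumberTheory.SumTwoSquares
import Mathlib.RingTheory.Polynomial.Cyclotomic.Eval
import Mathlib.RingTheory.Polynomial.Cyclotomic.Expand

/-!
# Powers of odd numbers with a single primitive prime divisor `n + 1` of exponent one

If every prime dividing `p ^ n - 1` at which `p` has order `n` equals `n + 1` and occurs once,
and `n` is a multiple of four, then `p = 3` and `n = 4`.
-/

set_option autoImplicit false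

namespace Cfsg.Lib.Block

open Cfsg

/-- The value of a cyclotomic polynomial. -/
noncomputable def cycVal (m : ℕ) (x : ℤ) : ℤ := (Polynomial.cyclotomic m ℤ).eval x

theorem cycVal_lower (m q : ℕ) (hq : 1 < q) : ((q : ℤ) - 1) ^ m.totient ≤ cycVal m q := by
  have h := Polynomial.sub_one_pow_totient_le_cyclotomic_eval (q := (q : ℝ)) (by exact_mod_cast hq) m
  rw [← Polynomial.map_cyclotomic_int m ℝ, ← Int.cast_natCast (R := ℝ),
    Polynomial.eval_intCast_map, eq_intCast] at h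
  exact_mod_cast h

theorem cycVal_dvd (m : ℕ) (x : ℤ) : cycVal m x ∣ x ^ m - 1 := by
  simpa [cycVal] using Polynomial.eval_dvd (x := x) (Polynomial.cyclotomic.dvd_X_pow_sub_one m ℤ)

theorem not_dvd_base {r a n : ℕ} (hr : r.Prime) (hn : 0 < n) (h : (r : ℤ) ∣ cycVal n a) :
    ¬ r ∣ a := by
  intro ha
  have h1 : (r : ℤ) ∣ (a : ℤ) ^ n - 1 := h.trans (cycVal_dvd n a)
  have h2 : (r : ℤ) ∣ (a : ℤ) ^ n := (Int.natCast_dvd_natCast.2 ha).trans (dvd_pow_self _ hn.ne')
  have h3 := Int.dvd_sub h2 h1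
  rw [sub_sub_cancel] at h3
  exact hr.one_lt.ne' (Nat.dvd_one.1 (by exact_mod_cast h3))

/-- A prime dividing the cyclotomic value and the index occurs once. -/
theorem sq_not_dvd_cycVal {r a n : ℕ} (hr : r.Prime) (hr2 : r ≠ 2) (ha : 1 < a) (hn : 0 < n)
    (h : (r : ℤ) ∣ cycVal n a) (hrn : r ∣ n) : ¬ (r : ℤ) ^ 2 ∣ cycVal n a := by
  haveI := Fact.mk hr
  obtain ⟨m, rfl⟩ := hrn
  intro h2
  set x : ℤ := (a : ℤ) ^ m with hx
  have hm : 0 < m := Nat.pos_of_mul_pos_left hn
  have hd : m ∈ (r * m).properDivisors := by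
    rw [Nat.mem_properDivisors]
    exact ⟨dvd_mul_left m r, lt_mul_of_one_lt_left hm hr.one_lt⟩
  have h1 := Polynomial.eval_dvd (x := (a : ℤ))
    (Polynomial.X_pow_sub_one_mul_cyclotomic_dvd_X_pow_sub_one_of_dvd ℤ hd)
  simp only [Polynomial.eval_mul, Polynomial.eval_sub, Polynomial.eval_pow, Polynomial.eval_X,
    Polynomial.eval_one] at h1
  rw [show (a : ℤ) ^ (r * m) = x ^ r by rw [hx, ← pow_mul, mul_comm],
    ← geom_sum_mul x r, mul_comm _ (x - 1)] at h1
  have hx1 : x - 1 ≠ 0 := by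
    have : 1 < x := one_lt_pow₀ (by exact_mod_cast ha) hm.ne'
    omega
  have h3 : cycVal (r * m) a ∣ ∑ i ∈ Finset.range r, x ^ i := (mul_dvd_mul_iff_left hx1).1 h1
  have hxr : (r : ℤ) ∣ x - 1 := by
    have h4 : (r : ℤ) ∣ (a : ℤ) ^ (r * m) - 1 := h.trans (cycVal_dvd _ _)
    rw [← ZMod.intCast_zmod_eq_zero_iff_dvd] at h4 ⊢
    push_cast at h4 ⊢
    rw [mul_comm, pow_mul, ZMod.pow_card] at h4
    rw [hx]
    push_cast
    exact h4
  obtain ⟨t, ht⟩ := hxr
  have h5 := odd_sq_dvd_geom_sum₂_sub (a := (1 : ℤ)) (b := t) (p := r) (hr.odd_of_ne_two hr2)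
  rw [show (1 : ℤ) + r * t = x by rw [← ht]; ring] at h5
  simp only [one_pow, mul_one] at h5
  have h6 := Int.dvd_sub (h2.trans h3) h5
  rw [sub_sub_cancel] at h6
  have h7 : r ^ 2 ∣ r := by exact_mod_cast h6
  have := Nat.le_of_dvd hr.pos h7
  nlinarith [hr.two_le]

theorem le_totient_sq {m : ℕ} (hm : Odd m) : m ≤ m.totient ^ 2 := by
  induction m using Nat.recOnPosPrimePosCoprime with
  | zero => simp at hm
  | one => simp
  | prime_pow p k hp hk =>
    have hp2 : p ≠ 2 := by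
      rintro rfl
      exact (Nat.not_even_iff_odd.2 hm) (Nat.even_pow.2 ⟨even_two, hk.ne'⟩)
    have hp3 : 3 ≤ p := by have := hp.two_le; omega
    rw [Nat.totient_prime_pow hp hk]
    obtain ⟨j, rfl⟩ : ∃ j, k = j + 1 := ⟨k - 1, by omega⟩
    obtain ⟨q, rfl⟩ : ∃ q, p = q + 3 := ⟨p - 3, by omega⟩
    rw [show q + 3 - 1 = q + 2 by omega, show j + 1 - 1 = j by omega, pow_succ, mul_pow]
    calc (q + 3) ^ j * (q + 3) ≤ ((q + 3) ^ j) ^ 2 * (q + 2) ^ 2 := by
          refine Nat.mul_le_mul ?_ (by nlinarith)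
          exact Nat.le_self_pow two_ne_zero _
      _ = _ := rfl
  | coprime a b ha hb hab iha ihb =>
    obtain ⟨h1, h2⟩ := Nat.odd_mul.1 hm
    rw [Nat.totient_mul hab, mul_pow]
    exact Nat.mul_le_mul (iha h1) (ihb h2)

theorem small_cases : ∀ k, k < 5 → ∀ m, m < 50 → ((2 ≤ k ∧ m % 2 = 1 ∧ 3 ≤ m ∧
    (2 : ℕ) ^ ((2 ^ k * m).totient) ≤ (2 ^ k * m + 1) * m) → 2 ^ k * m = 12) := by
  decide +kernel

/-- Comparison of exponential and polynomial size. -/
theorem size_bound {k m : ℕ} (hk : 2 ≤ k) (hm : Odd m) (hm3 : 3 ≤ m)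
    (h : (2 : ℕ) ^ ((2 ^ k * m).totient) ≤ (2 ^ k * m + 1) * m) : 2 ^ k * m = 12 := by
  have hco : Nat.Coprime (2 ^ k) m :=
    Nat.Coprime.pow_left _ (Nat.coprime_two_left.2 hm)
  have htot : (2 ^ k * m).totient = 2 ^ (k - 1) * m.totient := by
    rw [Nat.totient_mul hco, Nat.totient_prime_pow Nat.prime_two (by omega)]
    ring
  have ht := le_totient_sq hm
  set t := m.totient with htdef
  have ht2 : 2 ≤ t := by nlinarith
  obtain ⟨j, rfl⟩ : ∃ j, k = j + 2 := ⟨k - 2, by omega⟩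
  have hX : (2 ^ (j + 2) * m + 1) * m ≤ 2 ^ (j + 3) * m ^ 2 := by
    have : 1 ≤ 2 ^ (j + 2) * m := Nat.one_le_iff_ne_zero.2 (by positivity)
    calc (2 ^ (j + 2) * m + 1) * m ≤ (2 ^ (j + 2) * m + 2 ^ (j + 2) * m) * m :=
          Nat.mul_le_mul_right _ (Nat.add_le_add_left this _)
      _ = _ := by ring
  rw [htot, show j + 2 - 1 = j + 1 by omega] at h
  by_cases ht8 : 8 ≤ t
  · exfalso
    have h4 : t ^ 4 ≤ 2 ^ (2 * t - 4) := by
      clear_value t
      clear h htot ht htdef ht2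
      induction t, ht8 using Nat.le_induction with
      | base => norm_num
      | succ i hi ih =>
        rw [show 2 * (i + 1) - 4 = 2 * i - 4 + 2 by omega, pow_add]
        calc (i + 1) ^ 4 ≤ i ^ 4 * 2 ^ 2 := by
              have h1 : 4 * (i + 1) ≤ 5 * i := by omega
              have h2 : (4 * (i + 1)) ^ 4 ≤ (5 * i) ^ 4 := Nat.pow_le_pow_left h1 4
              rw [mul_pow, mul_pow] at h2
              norm_num at h2 ⊢
              omega
          _ ≤ _ := Nat.mul_le_mul_right _ ih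
    have h5 : (2 : ℕ) ^ (2 ^ (j + 1) * t) ≤ 2 ^ (j + 3 + (2 * t - 4)) := by
      rw [pow_add 2 (j + 3)]
      refine h.trans (hX.trans (Nat.mul_le_mul_left _ (le_trans ?_ h4)))
      calc m ^ 2 ≤ (t ^ 2) ^ 2 := Nat.pow_le_pow_left ht 2
        _ = t ^ 4 := by ring
    have h6 := (Nat.pow_le_pow_iff_right (le_refl 2)).1 h5
    have h7 : j + 1 ≤ 2 ^ j := Nat.lt_two_pow_self
    have h8 : (j + 1) * (2 * t) ≤ 2 ^ j * (2 * t) := Nat.mul_le_mul_right _ h7
    have h9 : 2 ^ (j + 1) * t = 2 ^ j * (2 * t) := by ring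
    have h10 : j * 16 ≤ j * (2 * t) := Nat.mul_le_mul_left _ (by omega)
    rw [add_mul] at h8
    omega
  · have hm50 : m < 50 := by
      have : t ^ 2 ≤ 7 ^ 2 := Nat.pow_le_pow_left (by omega) 2
      omega
    by_cases hj : j + 2 < 5
    · refine small_cases (j + 2) hj m hm50 ⟨by omega, Nat.odd_iff.1 hm, hm3, ?_⟩
      rwa [htot, show j + 2 - 1 = j + 1 by omega]
    · exfalso
      have h5 : (2 : ℕ) ^ (2 ^ (j + 1) * t) ≤ 2 ^ (j + 3 + 12) := by
        rw [pow_add 2 (j + 3)]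
        refine h.trans (hX.trans (Nat.mul_le_mul_left _ ?_))
        calc m ^ 2 ≤ 50 ^ 2 := Nat.pow_le_pow_left hm50.le 2
          _ ≤ 2 ^ 12 := by norm_num
      have h6 := (Nat.pow_le_pow_iff_right (le_refl 2)).1 h5
      obtain ⟨i, rfl⟩ : ∃ i, j = i + 3 := ⟨j - 3, by omega⟩
      have h7 : i + 1 ≤ 2 ^ i := Nat.lt_two_pow_self
      have h9 : 2 ^ (i + 3 + 1) * t = 2 ^ i * (16 * t) := by ring
      have h8 : (i + 1) * 32 ≤ 2 ^ i * (16 * t) := Nat.mul_le_mul h7 (by omega)
      omega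

theorem three_pow_three_mod : (13 : ℕ) ∣ 3 ^ 3 - 1 := by norm_num

/-- A single primitive prime divisor `n + 1`, occurring once, forces `3 ^ 4`. -/
theorem eq_three_four {p n : ℕ} (hp : p.Prime) (hodd : p ≠ 2) (h4 : 4 ∣ n) (hn : 0 < n)
    (hr : (n + 1).Prime) (hdvd : n + 1 ∣ p ^ n - 1)
    (hone : ¬ (n + 1) ^ 2 ∣ p ^ n - 1)
    (hord : ∀ k : ℕ, 0 < k → k < n → ¬ (n + 1) ∣ p ^ k - 1)
    (honly : ∀ s : ℕ, s.Prime → s ∣ p ^ n - 1 → (∀ k : ℕ, 0 < k → k < n → ¬ s ∣ p ^ k - 1) →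
      s = n + 1) : p = 3 ∧ n = 4 := by
  have hp3 : 3 ≤ p := by have := hp.two_le; omega
  have hnat : ∀ (s k : ℕ), (s : ℤ) ∣ (p : ℤ) ^ k - 1 ↔ s ∣ p ^ k - 1 := fun s k => by
    rw [← Int.natCast_dvd_natCast, Nat.cast_sub (Nat.one_le_pow _ _ hp.pos)]
    simp
  set C := cycVal n p with hC
  have hCpos : 0 < C := lt_of_lt_of_le
    (pow_pos (by omega : (0 : ℤ) < (p : ℤ) - 1) _) (cycVal_lower n p hp.one_lt)
  -- an odd prime divisor is `n + 1` or divides `n`
  have hkey : ∀ s : ℕ, s.Prime → s ≠ 2 → (s : ℤ) ∣ C →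
      (s = n + 1 ∧ ¬ (s : ℤ) ^ 2 ∣ C) ∨
        (∃ e j : ℕ, n = e * s ^ (j + 1) ∧ e ∣ s - 1 ∧ 0 < e) := by
    intro s hs hs2 hsd
    haveI := Fact.mk hs
    have hsa := not_dvd_base hs hn hsd
    obtain ⟨j, hj⟩ := (Cfsg.Agent.S4230.result s p n hs hs2 hsa).1 hsd
    have hp0 : (p : ZMod s) ≠ 0 := fun h => hsa ((ZMod.natCast_eq_zero_iff _ _).1 h)
    cases j with
    | zero =>
      left
      rw [pow_zero, mul_one] at hj
      have hsn : s = n + 1 := by
        refine honly s hs ((hnat s n).1 (hsd.trans (cycVal_dvd n p))) fun k hk0 hkn hk => ?_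
        have h1 : (p : ZMod s) ^ k = 1 := by
          rw [← ZMod.natCast_eq_zero_iff, Nat.cast_sub (Nat.one_le_pow _ _ hp.pos), sub_eq_zero,
            Nat.cast_pow, Nat.cast_one] at hk
          exact hk
        have := Nat.le_of_dvd hk0 (orderOf_dvd_of_pow_eq_one h1)
        omega
      refine ⟨hsn, fun h2 => hone ?_⟩
      have := (hnat (s ^ 2) n).1 (by push_cast; exact h2.trans (cycVal_dvd n p))
      rwa [hsn] at this
    | succ j =>
      right
      refine ⟨_, j, hj, ZMod.orderOf_dvd_card_sub_one hp0, ?_⟩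
      rcases Nat.eq_zero_or_pos (orderOf (p : ZMod s)) with h | h
      · rw [h, zero_mul] at hj; omega
      · exact h
  obtain ⟨k, m, hm, hnkm⟩ := Nat.exists_eq_two_pow_mul_odd (n := n) hn.ne'
  have hk : 2 ≤ k := by
    by_contra hlt
    have : ¬ 4 ∣ 2 ^ k * m := by
      intro h
      obtain ⟨i, rfl⟩ := hm
      rcases k with _ | _ | k
      · omega
      · omega
      · omega
    exact this (hnkm ▸ h4)
  -- only one odd prime divides both
  have honly' : ∀ s t : ℕ, s.Prime → t.Prime → s ≠ 2 → t ≠ 2 → s < t →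
      (∃ e j : ℕ, n = e * s ^ (j + 1) ∧ e ∣ s - 1 ∧ 0 < e) →
      (∃ e j : ℕ, n = e * t ^ (j + 1) ∧ e ∣ t - 1 ∧ 0 < e) → False := by
    rintro s t hs ht - - hst ⟨e, j, hne, hes, he0⟩ ⟨e', j', hne', -, -⟩
    have htn : t ∣ n := hne' ▸ (dvd_pow_self t j'.succ_ne_zero).mul_left e'
    have h1 : t ∣ e := ((ht.dvd_mul).1 (hne ▸ htn)).resolve_right fun h =>
      hst.ne' ((Nat.prime_dvd_prime_iff_eq ht hs).1 (ht.dvd_of_dvd_pow h))
    have := Nat.le_of_dvd he0 h1
    have := Nat.le_of_dvd (by have := hs.two_le; omega) hes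
    omega
  obtain ⟨c, hc⟩ : ∃ c : ℕ, C = (c : ℤ) := ⟨C.natAbs, (Int.natAbs_of_nonneg hCpos.le).symm⟩
  have hc0 : 0 < c := by rw [hc] at hCpos; exact_mod_cast hCpos
  by_cases hm1 : m = 1
  · subst hm1
    rw [mul_one] at hnkm
    obtain ⟨i, rfl⟩ : ∃ i, k = i + 2 := ⟨k - 2, by omega⟩
    have hev : C = ((p : ℤ) ^ (2 ^ i)) ^ 2 + 1 := by
      haveI := Fact.mk Nat.prime_two
      rw [hC, hnkm]
      simp only [cycVal, Polynomial.cyclotomic_prime_pow_eq_geom_sum Nat.prime_two,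
        Finset.sum_range_succ, Finset.sum_range_zero, pow_zero, pow_one, zero_add,
        Polynomial.eval_add, Polynomial.eval_one, Polynomial.eval_pow, Polynomial.eval_X]
      rw [pow_succ 2 i, pow_mul, add_comm]
    set b := p ^ (2 ^ i) with hb
    have hcb : c = b ^ 2 + 1 := by
      rw [hc, ← Nat.cast_pow, ← hb] at hev
      exact_mod_cast hev
    have hbodd : Odd b := (hp.odd_of_ne_two hodd).pow
    have hdvd' : c ∣ 2 * (n + 1) := by
      refine (Nat.dvd_iff_prime_pow_dvd_dvd (2 * (n + 1)) c).2 fun s e hs hse => ?_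
      rcases Nat.eq_zero_or_pos e with rfl | he
      · simp
      have hsd : s ∣ c := (dvd_pow_self s he.ne').trans hse
      by_cases hs2 : s = 2
      · subst hs2
        have : e ≤ 1 := by
          by_contra he2
          have h4c : 4 ∣ c := (pow_dvd_pow 2 (by omega : 2 ≤ e)).trans hse
          obtain ⟨a, ha⟩ := hbodd
          rw [hcb, ha] at h4c
          ring_nf at h4c
          omega
        obtain rfl : e = 1 := by omega
        exact Dvd.intro (n + 1) (by ring)
      · rcases hkey s hs hs2 (by rw [hc]; exact_mod_cast hsd) with ⟨hsn, hsq⟩ | ⟨e', j, hne, -, -⟩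
        · have : e ≤ 1 := by
            by_contra he2
            refine hsq ?_
            rw [hc]
            exact_mod_cast (pow_dvd_pow s (by omega : 2 ≤ e)).trans hse
          obtain rfl : e = 1 := by omega
          rw [pow_one, hsn]
          exact dvd_mul_left _ _
        · exfalso
          have : s ∣ 2 ^ (i + 2) := hnkm ▸ hne ▸ (dvd_pow_self s j.succ_ne_zero).mul_left e'
          exact hs2 ((Nat.prime_dvd_prime_iff_eq hs Nat.prime_two).1 (hs.dvd_of_dvd_pow this))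
    have hle := Nat.le_of_dvd (by omega) hdvd'
    have h9 : 9 ^ (2 ^ i) ≤ b ^ 2 := by
      rw [hb, ← pow_mul, mul_comm, pow_mul]
      exact Nat.pow_le_pow_left (by nlinarith) _
    have hn' : n = 4 * 2 ^ i := by rw [hnkm]; ring
    generalize 2 ^ i = t at *
    have ht : ∀ u : ℕ, 8 * u + 1 ≤ 9 ^ u := by
      intro u
      induction u with
      | zero => simp
      | succ u ih => rw [pow_succ]; omega
    have hbb : b ^ 2 = 8 * t + 1 := by have := ht t; omega
    have ht1 : t = 1 := by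
      rcases t with _ | _ | t
      · have := ht 0; simp at hn'; omega
      · rfl
      · exfalso
        have h1 : (9 : ℕ) ^ (t + 2) ≤ 8 * (t + 2) + 1 := hbb ▸ h9
        rw [pow_add] at h1
        have := ht t
        omega
    subst ht1
    refine ⟨?_, by omega⟩
    rw [pow_one] at hb
    nlinarith [hb, hp3]
  · have hm3 : 3 ≤ m := by obtain ⟨i, rfl⟩ := hm; omega
    have hno2 : ¬ 2 ∣ c := by
      intro h2
      haveI : NeZero (m : ZMod 2) := ⟨by
        rw [ne_eq, ZMod.natCast_eq_zero_iff]; exact hm.not_two_dvd_nat⟩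
      have hroot : (Polynomial.cyclotomic (2 ^ k * m) (ZMod 2)).IsRoot (p : ZMod 2) := by
        rw [Polynomial.IsRoot, ← Polynomial.map_cyclotomic_int, ← Int.cast_natCast (R := ZMod 2),
          Polynomial.eval_intCast_map, eq_intCast, ZMod.intCast_zmod_eq_zero_iff_dvd]
        rw [← hnkm]
        show _ ∣ C
        rw [hc]
        exact_mod_cast h2
      rw [Polynomial.isRoot_cyclotomic_prime_pow_mul_iff_of_charP] at hroot
      have hp1 : (p : ZMod 2) = 1 := by
        rw [← Nat.cast_one, ZMod.natCast_eq_natCast_iff', Nat.odd_iff.1 (hp.odd_of_ne_two hodd)]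
      rw [hp1] at hroot
      have := hroot.eq_orderOf
      rw [orderOf_one] at this
      omega
    have hdvd' : c ∣ (n + 1) * m := by
      refine (Nat.dvd_iff_prime_pow_dvd_dvd ((n + 1) * m) c).2 fun s e hs hse => ?_
      rcases Nat.eq_zero_or_pos e with rfl | he
      · simp
      have hsd : s ∣ c := (dvd_pow_self s he.ne').trans hse
      have hs2 : s ≠ 2 := fun h => hno2 (h ▸ hsd)
      have hsd' : (s : ℤ) ∣ C := by rw [hc]; exact_mod_cast hsd
      have hone' : ¬ (s : ℤ) ^ 2 ∣ C := by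
        rcases hkey s hs hs2 hsd' with ⟨-, hsq⟩ | ⟨e', j, hne, -, -⟩
        · exact hsq
        · exact sq_not_dvd_cycVal hs hs2 hp.one_lt hn hsd'
            (hne ▸ (dvd_pow_self s j.succ_ne_zero).mul_left e')
      have : e ≤ 1 := by
        by_contra he2
        refine hone' ?_
        rw [hc]
        exact_mod_cast (pow_dvd_pow s (by omega : 2 ≤ e)).trans hse
      obtain rfl : e = 1 := by omega
      rw [pow_one]
      rcases hkey s hs hs2 hsd' with ⟨hsn, -⟩ | ⟨e', j, hne, -, -⟩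
      · exact (dvd_of_eq hsn).mul_right m
      · have h' : s ∣ 2 ^ k * m := hnkm ▸ hne ▸ (dvd_pow_self s j.succ_ne_zero).mul_left e'
        refine ((hs.dvd_mul).1 h').resolve_left (fun h => hs2 ?_) |>.mul_left _
        exact (Nat.prime_dvd_prime_iff_eq hs Nat.prime_two).1 (hs.dvd_of_dvd_pow h)
    have hle := Nat.le_of_dvd (Nat.mul_pos (by omega) (by omega)) hdvd'
    have hlow : (2 : ℕ) ^ n.totient ≤ c := by
      have h := cycVal_lower n p hp.one_lt
      rw [← hC, hc] at h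
      have : ((2 : ℕ) : ℤ) ^ n.totient ≤ (c : ℤ) :=
        le_trans (pow_le_pow_left₀ (by norm_num) (by push_cast; omega) _) h
      exact_mod_cast this
    have h12 : 2 ^ k * m = 12 := size_bound hk hm hm3 (by rw [← hnkm]; exact hlow.trans hle)
    rw [← hnkm] at h12
    subst h12
    exfalso
    have hm3' : m = 3 := by
      have : 4 * m ≤ 2 ^ k * m := Nat.mul_le_mul_right _ (le_trans (by norm_num) (pow_le_pow_right₀ one_le_two hk))
      omega
    subst hm3'
    have hp4 : ((p : ℤ) - 1) ^ 4 ≤ 39 := by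
      have h := cycVal_lower 12 p hp.one_lt
      rw [show Nat.totient 12 = 4 from by decide, ← hC, hc] at h
      exact h.trans (by exact_mod_cast hle)
    have : p = 3 := by
      have hb : (p : ℤ) - 1 < 3 := by
        by_contra hlt
        push Not at hlt
        have := pow_le_pow_left₀ (by norm_num) hlt 4
        omega
      omega
    subst this
    exact hord 3 (by norm_num) (by norm_num) three_pow_three_mod

end Cfsg.Lib.Block
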