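import Cfsg.Agent.Lib.Block.ModularLift

/-!
# Decomposition numbers of a block

The simple modules of a block are as many as its rank, idempotents of rank one on each of them
lift, and the multiplicities so defined express the degrees and the regular parts.
-/

set_option autoImplicit false
set_option linter.unusedSectionVars false
set_option maxHeartbeats 1000000

namespace Cfsg.Lib.Block

open Cfsg Module
open scoped ComplexConjugate MonoidAlgebra

universe u v

noncomputable local instance (priority := high) fintypeSubgroupDecomposition {A : Type u}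
    [Group A] [Fintype A] (H : Subgroup A) : Fintype H := Fintype.ofFinite H

variable {p : ℕ} [Fact p.Prime] {M : Ideal AlgInt} {A : Type u} [Group A] [Fintype A]
  (hM : IsPModular p M) {B : Set (IrrCharacter A)} (hB : IsPBlock M B)

/-- A complete family of simple modules of a block with idempotents of rank one on each. -/
structure Simples (hM : IsPModular p M) (B : Set (IrrCharacter A)) (k : ℕ) where
  /-- The dimensions. -/
  dim : ULift.{u} (Fin k) → ℕ
  /-- The modules. -/
  mod : ∀ i, Representation (resField hM) A (Fin (dim i) → resField hM)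
  irr : ∀ i, (mod i).IsIrreducible
  ne : ∀ i j, i ≠ j → IsEmpty ((mod i).Equiv (mod j))
  blk : ∀ i, blockOp hM B (mod i) = 1
  complete : ∀ (n : ℕ) (τ : Representation (resField hM) A (Fin n → resField hM)),
    τ.IsIrreducible → blockOp hM B τ = 1 → ∃ i, Nonempty ((mod i).Equiv τ)

include hB in
theorem exists_simples : ∃ k, k ≤ blockRank p B ∧ Nonempty (Simples hM B k) := by
  classical
  let P : ℕ → Prop := fun k => ∃ (d : Fin k → ℕ)
    (m : ∀ i, Representation (resField hM) A (Fin (d i) → resField hM)),
      (∀ i, (m i).IsIrreducible) ∧ (∀ i j, i ≠ j → IsEmpty ((m i).Equiv (m j))) ∧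
        ∀ i, blockOp hM B (m i) = 1
  have hbound : ∀ k, P k → k ≤ blockRank p B := by
    rintro k ⟨d, m, hi, hn, hb⟩
    have h := card_simples_le_blockRank hM hB (ι := ULift.{u} (Fin k)) (n := fun i => d i.down)
      (fun i => m i.down) (fun i => hi _) (fun i j hij => hn _ _ fun h => hij (ULift.ext _ _ h))
      (fun i => hb _)
    simpa using h
  have h0 : P 0 := ⟨Fin.elim0, fun i => i.elim0, fun i => i.elim0, fun i => i.elim0,
    fun i => i.elim0⟩
  set k := Nat.findGreatest P (blockRank p B) with hk
  have hPk : P k := Nat.findGreatest_spec (m := 0) (Nat.zero_le _) h0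
  obtain ⟨d, m, hi, hn, hb⟩ := hPk
  refine ⟨k, Nat.findGreatest_le _, ⟨{
    dim := fun i => d i.down
    mod := fun i => m i.down
    irr := fun i => hi _
    ne := fun i j hij => hn _ _ fun h => hij (ULift.ext _ _ h)
    blk := fun i => hb _
    complete := fun n τ hτ hτb => ?_ }⟩⟩
  by_contra hne
  push Not at hne
  let d' : Fin (k + 1) → ℕ := Fin.cases n d
  let m' : ∀ i, Representation (resField hM) A (Fin (d' i) → resField hM) :=
    fun i => Fin.cases (motive := fun i => Representation (resField hM) A (Fin (d' i) → resField hM))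
      τ m i
  have hP : P (k + 1) := by
    refine ⟨d', m', fun i => ?_, fun i j hij => ?_, fun i => ?_⟩
    · cases i using Fin.cases with
      | zero => exact hτ
      | succ i => exact hi i
    · cases i using Fin.cases with
      | zero =>
        cases j using Fin.cases with
        | zero => exact absurd rfl hij
        | succ j => exact ⟨fun e => (hne ⟨j⟩).false e.symm⟩
      | succ i =>
        cases j using Fin.cases with
        | zero => exact ⟨fun e => (hne ⟨i⟩).false e⟩
        | succ j => exact hn i j fun h => hij (congrArg Fin.succ h)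
    · cases i using Fin.cases with
      | zero => exact hτb
      | succ i => exact hb i
  have := Nat.le_findGreatest (P := P) (hbound _ hP) hP
  omega

variable {k : ℕ} (S : Simples hM B k)

/-- The rank of an element on a simple module. -/
noncomputable def Simples.rk (i : ULift.{u} (Fin k)) (x : KGA hM A) : ℕ :=
  finrank (resField hM) (LinearMap.range ((S.mod i).asAlgebraHom x))

include hB in
theorem Simples.dim_pos (i : ULift.{u} (Fin k)) : 0 < S.dim i := simple_dim_pos hM (S.irr i)

theorem Simples.rk_blkA (i : ULift.{u} (Fin k)) : S.rk hM i (blkA hM B) = S.dim i := by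
  rw [Simples.rk, asAlgebraHom_blkA, S.blk, Module.End.one_eq_id, LinearMap.range_id,
    finrank_top, Module.finrank_fintype_fun_eq_card, Fintype.card_fin]

include hB in
/-- Idempotents of the block of rank one on a single simple module. -/
theorem Simples.exists_delta (i : ULift.{u} (Fin k)) : ∃ e : KGA hM A, IsIdempotentElem e ∧
    blkA hM B * e = e ∧ ∀ j, S.rk hM j e = if j = i then 1 else 0 := by
  classical
  haveI := isAlgClosed_resField hM
  let a₀ : Fin (S.dim i) := ⟨0, S.dim_pos hM hB i⟩
  let E : ∀ j, Module.End (resField hM) (Fin (S.dim j) → resField hM) :=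
    Pi.single i ((LinearMap.proj a₀).smulRight (Pi.single a₀ (1 : resField hM)))
  have hEE : ∀ j, E j * E j = E j := fun j => by
    by_cases h : j = i
    · subst h
      simp only [E, Pi.single_eq_same]
      exact LinearMap.ext fun y => by simp
    · simp [E, Pi.single_eq_of_ne h]
  obtain ⟨a, ha⟩ := exists_acts_as S.mod S.irr S.ne E
  set x : KGA hM A := a * blkA hM B with hx
  have hxσ : ∀ j, (S.mod j).asAlgebraHom x = E j := fun j => by
    rw [hx, map_mul, asAlgebraHom_blkA, S.blk, mul_one, ha]
  obtain ⟨N, hN, hnil⟩ := exists_pow_mul_eq_zero hM hB (c := x - x ^ 2) fun n τ hτ hτb => by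
    obtain ⟨j, ⟨e⟩⟩ := S.complete n τ hτ hτb
    refine LinearMap.ext fun z => ?_
    obtain ⟨y, rfl⟩ := e.toLinearEquiv.surjective z
    rw [← LinearEquiv.coe_coe,
      ← map_asAlgebraHom e.toLinearEquiv.toLinearMap
        (fun g z => LinearMap.congr_fun (e.isIntertwining' g) z),
      map_sub, map_pow, hxσ, pow_two, hEE, sub_self]
    simp
  have hcomm := cV_commute hM (indVec B)
  have hxB : x * blkA hM B = x := by rw [hx, mul_assoc, (blkA_idem hM hB).eq]
  have hn : (x - x ^ 2) ^ N = 0 := by
    obtain ⟨N', rfl⟩ := Nat.exists_eq_add_one.2 hN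
    rw [pow_succ, mul_assoc] at hnil
    rw [pow_succ]
    have h1 : (x - x ^ 2) * blkA hM B = x - x ^ 2 := by
      rw [sub_mul, pow_two, mul_assoc x x, hxB]
    rwa [h1] at hnil
  set e : KGA hM A := 1 - (1 - x ^ N) ^ N with he
  have hidem : IsIdempotentElem e := isIdempotentElem_one_sub_one_sub_pow_pow x N hn
  have heB : e * blkA hM B = e := by
    obtain ⟨N', hN'⟩ := Nat.exists_eq_add_one.2 hN
    have h1 : e = (∑ i ∈ Finset.range N, (1 - x ^ N) ^ i) * x ^ N := by
      have h2 := geom_sum_mul_neg (1 - x ^ N) N
      rw [sub_sub_cancel] at h2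
      rw [h2, he]
    rw [h1, mul_assoc, hN', pow_succ x, mul_assoc, hxB]
  refine ⟨e, hidem, (hcomm e).eq.trans heB, fun j => ?_⟩
  obtain ⟨N', hN'⟩ := Nat.exists_eq_add_one.2 hN
  have h1E : IsIdempotentElem (1 - E j) := IsIdempotentElem.one_sub (hEE j)
  rw [Simples.rk, he, map_sub, map_one, map_pow, map_sub, map_one, map_pow, hxσ, hN',
    IsIdempotentElem.pow_succ_eq N' (hEE j), IsIdempotentElem.pow_succ_eq N' h1E, sub_sub_cancel]
  split_ifs with h
  · subst h
    rw [show E j = (LinearMap.proj a₀).smulRight (Pi.single a₀ (1 : resField hM)) from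
      Pi.single_eq_same _ _]
    rw [LinearMap.range_smulRight_apply (by
      intro h
      have := LinearMap.congr_fun h (Pi.single a₀ 1)
      simp at this),
      finrank_span_singleton (Pi.single_ne_zero_iff.2 one_ne_zero)]
  · simp [E, Pi.single_eq_of_ne h]

include hB in
/-- The rank of an idempotent on a module of the block, through the simple modules. -/
theorem Simples.finrank_eq_sum {e : ULift.{u} (Fin k) → KGA hM A}
    (hei : ∀ i, IsIdempotentElem (e i))
    (her : ∀ i j, S.rk hM j (e i) = if j = i then 1 else 0) {x : KGA hM A}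
    (hx : IsIdempotentElem x) :
    ∀ (m : ℕ) {W : Type v} [AddCommGroup W] [Module (resField hM) W]
      [FiniteDimensional (resField hM) W] (ρ : Representation (resField hM) A W),
      finrank (resField hM) W = m → blockOp hM B ρ = 1 →
      finrank (resField hM) (LinearMap.range (ρ.asAlgebraHom x)) =
        ∑ i, finrank (resField hM) (LinearMap.range (ρ.asAlgebraHom (e i))) * S.rk hM i x := by
  classical
  intro m
  induction m using Nat.strong_induction_on with
  | _ m ih =>
    intro W _ _ _ ρ hm hb
    rcases subsingleton_or_nontrivial W with hW | hW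
    · simp [Module.finrank_zero_of_subsingleton]
    by_cases hirr : ρ.IsIrreducible
    · obtain ⟨n, σ, f, hf, hσ⟩ := exists_coordinates ρ
      obtain ⟨j, ⟨g⟩⟩ := S.complete n σ (hσ hirr)
        (blockOp_eq_one_of_surjective hM (φ := f.toLinearMap) f.surjective hf hb)
      set h : W ≃ₗ[resField hM] (Fin (S.dim j) → resField hM) := f.trans g.toLinearEquiv.symm
        with hh
      have hhc : ∀ a y, h (ρ a y) = S.mod j a (h y) := fun a y => by
        simp only [hh, LinearEquiv.trans_apply]
        rw [LinearEquiv.symm_apply_eq, hf]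
        rw [← LinearEquiv.apply_symm_apply g.toLinearEquiv (f y)]
        simp only [LinearEquiv.symm_apply_apply]
        exact (LinearMap.congr_fun (g.isIntertwining' a) _).symm
      have hrk : ∀ c, finrank (resField hM) (LinearMap.range (ρ.asAlgebraHom c)) = S.rk hM j c := by
        intro c
        rw [Simples.rk, ← LinearEquiv.finrank_map_eq h, ← LinearMap.range_comp,
          show h.toLinearMap ∘ₗ ρ.asAlgebraHom c = (S.mod j).asAlgebraHom c ∘ₗ h.toLinearMap from
            LinearMap.ext fun y => map_asAlgebraHom h.toLinearMap hhc c y,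
          LinearMap.range_comp_of_range_eq_top _ (LinearMap.range_eq_top.2 h.surjective)]
      simp only [hrk, her, ite_mul, one_mul, zero_mul]
      rw [Finset.sum_ite_eq]
      simp
    obtain ⟨U, hinv, hU0, hU⟩ := exists_sub_of_not_irreducible hirr
    have hsum := Submodule.finrank_quotient_add_finrank U
    have hq : 0 < finrank (resField hM) (W ⧸ U) := Module.finrank_pos_iff.2
      (Submodule.Quotient.nontrivial_iff.2 hU)
    have hu : 0 < finrank (resField hM) U := by
      rw [Nat.pos_iff_ne_zero, ne_eq, Submodule.finrank_eq_zero]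
      exact hU0
    have h1 := ih (finrank (resField hM) (W ⧸ U)) (by omega) (quotRep ρ U hinv) rfl
      (blockOp_eq_one_of_surjective hM (φ := U.mkQ) U.mkQ_surjective (quotRep_mkQ ρ U hinv) hb)
    have h2 := ih (finrank (resField hM) U) (by omega) (subRep ρ U hinv) rfl
      (blockOp_eq_one_of_injective hM (φ := U.subtype) U.injective_subtype
        (subRep_subtype ρ U hinv) hb)
    have hsq : ∀ c : KGA hM A, IsIdempotentElem c →
        finrank (resField hM) (LinearMap.range (ρ.asAlgebraHom c)) =
          finrank (resField hM) (LinearMap.range ((subRep ρ U hinv).asAlgebraHom c)) +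
            finrank (resField hM) (LinearMap.range ((quotRep ρ U hinv).asAlgebraHom c)) :=
      fun c hc => finrank_range_sub_quot U (by rw [← map_mul, hc.eq])
        ((subRep ρ U hinv).asAlgebraHom c)
        (fun y => map_asAlgebraHom U.subtype (subRep_subtype ρ U hinv) c y)
        ((quotRep ρ U hinv).asAlgebraHom c)
        (fun y => (map_asAlgebraHom U.mkQ (quotRep_mkQ ρ U hinv) c y).symm)
    rw [hsq x hx, h1, h2, ← Finset.sum_add_distrib]
    exact Finset.sum_congr rfl fun i _ => by rw [hsq (e i) (hei i), add_mul]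

theorem sum_mul_apply_mul_apply (u v : A) [DecidableEq A] :
    ∑ χ : IrrCharacter A, (χ : A → ℂ) u * (χ : A → ℂ) v =
      ((Finset.univ.filter fun g : A => g⁻¹ * u⁻¹ * g = v).card : ℂ) := by
  classical
  have h := Char.column_orthogonality u v⁻¹
  simp only [(fun χ : IrrCharacter A => χ.2.isCharacter.apply_inv v), Complex.conj_conj] at h
  rw [h]
  split_ifs with hc
  · obtain ⟨c, hc'⟩ := isConj_iff.1 hc
    congr 1
    rw [Nat.card_eq_fintype_card, ← Fintype.card_subtype]
    refine Fintype.card_congr (Equiv.subtypeEquiv (Equiv.mulLeft (1 : A) |>.trans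
      (Equiv.mulRight c⁻¹)) fun g => ?_)
    simp only [Equiv.trans_apply, Equiv.coe_mulLeft, one_mul, Equiv.coe_mulRight,
      Subgroup.mem_centralizer_singleton_iff]
    have hv : v = c * u⁻¹ * c⁻¹ := by
      rw [← inv_inv v, ← hc']; group
    rw [hv]
    constructor
    · intro hg
      have : (g * c⁻¹)⁻¹ * u⁻¹ * (g * c⁻¹) = c * (g⁻¹ * u⁻¹ * g) * c⁻¹ := by group
      rw [this]
      congr 2
      have e : g * u = u * g := hg
      calc g⁻¹ * u⁻¹ * g = (u * g)⁻¹ * g := by group
        _ = _ := by rw [← e]; group
    · intro hg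
      have e1 : g⁻¹ * u⁻¹ * g = u⁻¹ := by
        calc g⁻¹ * u⁻¹ * g = c⁻¹ * ((g * c⁻¹)⁻¹ * u⁻¹ * (g * c⁻¹)) * c := by group
          _ = _ := by rw [hg]; group
      show g * u = u * g
      calc g * u = g * (g⁻¹ * u⁻¹ * g)⁻¹ := by rw [e1, inv_inv]
        _ = _ := by group
  · rw [Finset.filter_eq_empty_iff.2 fun g _ hg => hc ?_, Finset.card_empty, Nat.cast_zero]
    refine isConj_iff.2 ⟨g⁻¹, ?_⟩
    rw [← hg]
    group

include hM in
open Classical in
/-- The rank of two idempotents multiplying on the two sides. -/
theorem finrank_range_two_sided (hB : IsPBlock M B) {a b : OGA hM A} (ha : IsIdempotentElem a)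
    (hb : IsIdempotentElem b) (hbB : oV hM (indVec B) * b = b) :
    (finrank (resField hM) (LinearMap.range (LinearMap.mulLeft (resField hM) (red hM a) ∘ₗ
        LinearMap.mulRight (resField hM) (red hM b))) : ℂ) =
      ∑ χ ∈ B.toFinset, hatC hM (χ : A → ℂ) a 1 * hatC hM (χ : A → ℂ) b 1 := by
  set T : OGA hM A → OGA hM A := fun z => a * z * b with hT
  have hlin : ∀ {R : Type} [CommRing R] (a b z : R[A]) (g : A),
      (a * z * b).coeff g = ∑ h : A, (a * MonoidAlgebra.single h 1 * b).coeff g * z.coeff h := by
    intro R _ a b z g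
    conv_lhs => rw [← MonoidAlgebra.sum_coeff_single z, Finsupp.sum_fintype _ _ (by simp),
      Finset.mul_sum, Finset.sum_mul, MonoidAlgebra.coeff_sum, Finsupp.finset_sum_apply]
    refine Finset.sum_congr rfl fun h _ => ?_
    rw [show MonoidAlgebra.single h (z.coeff h) = z.coeff h • MonoidAlgebra.single h (1 : R) by
      rw [MonoidAlgebra.smul_single, smul_eq_mul, mul_one], mul_smul_comm, smul_mul_assoc,
      MonoidAlgebra.coeff_smul, Finsupp.smul_apply, smul_eq_mul, mul_comm]
  have hsingle : ∀ g h : A, ((a * MonoidAlgebra.single h 1 * b).coeff g : ℂ) =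
      ∑ u : A, (a.coeff u : ℂ) * (b.coeff (h⁻¹ * (u⁻¹ * g)) : ℂ) := by
    intro g h
    rw [mul_assoc, coeff_mul_sum]
    simp only [AddSubmonoidClass.coe_finset_sum, Subring.coe_mul, coeff_single_mul']
  rw [finrank_range_of_matrix hM
    (Matrix.of fun g h => ((a * MonoidAlgebra.single h 1 * b).coeff g : ℂ))
    (fun g h => ((a * MonoidAlgebra.single h 1 * b).coeff g).2) ?_ _ fun x g => ?_]
  · rw [Finset.sum_subset (Finset.subset_univ B.toFinset) fun χ _ hχ => by
      rw [hatC_of_notMem hM hB b hbB (fun h => hχ (Set.mem_toFinset.2 h)), mul_zero]]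
    simp only [Matrix.of_apply, hsingle, hatC, mul_one, Finset.sum_mul_sum]
    symm
    rw [Finset.sum_comm]
    conv_rhs => rw [Finset.sum_comm]
    refine Finset.sum_congr rfl fun u _ => ?_
    rw [Finset.sum_comm]
    calc ∑ v : A, ∑ χ : IrrCharacter A, (a.coeff u : ℂ) * (χ : A → ℂ) u *
          ((b.coeff v : ℂ) * (χ : A → ℂ) v) =
        ∑ v : A, ∑ g ∈ Finset.univ.filter (fun g : A => g⁻¹ * u⁻¹ * g = v),
          (a.coeff u : ℂ) * (b.coeff v : ℂ) := by
          refine Finset.sum_congr rfl fun v _ => ?_
          rw [Finset.sum_const, nsmul_eq_mul, ← sum_mul_apply_mul_apply u v, Finset.sum_mul]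
          exact Finset.sum_congr rfl fun χ _ => by ring
      _ = ∑ g : A, (a.coeff u : ℂ) * (b.coeff (g⁻¹ * (u⁻¹ * g)) : ℂ) := by
          rw [← Finset.sum_fiberwise Finset.univ (fun g : A => g⁻¹ * u⁻¹ * g)
            (fun g : A => (a.coeff u : ℂ) * (b.coeff (g⁻¹ * (u⁻¹ * g)) : ℂ))]
          refine Finset.sum_congr rfl fun v _ => Finset.sum_congr rfl fun g hg => ?_
          rw [← (Finset.mem_filter.1 hg).2, mul_assoc]
  · ext g h
    simp only [Matrix.mul_apply, Matrix.of_apply]
    have he : a * (a * MonoidAlgebra.single h 1 * b) * b = a * MonoidAlgebra.single h 1 * b := by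
      rw [← mul_assoc a, ← mul_assoc a a, ha.eq, mul_assoc, hb.eq]
    conv_rhs => rw [← he, hlin]
    simp only [AddSubmonoidClass.coe_finset_sum, Subring.coe_mul]
  · rw [LinearMap.comp_apply, LinearMap.mulLeft_apply, LinearMap.mulRight_apply, ← mul_assoc, hlin]
    refine Finset.sum_congr rfl fun h _ => ?_
    rw [Matrix.of_apply, res_coe, ← coeff_red, map_mul, map_mul]
    congr 3
    simp [red]

/-- The multiplicity of a lifted idempotent at a character. -/
noncomputable def natHat (a : OGA hM A) (χ : IrrCharacter A) : ℕ :=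
  haveI := Classical.dec (IsIdempotentElem a)
  if h : IsIdempotentElem a then (exists_nat_hatC hM χ h).choose else 0

theorem natHat_spec {a : OGA hM A} (ha : IsIdempotentElem a) (χ : IrrCharacter A) :
    hatC hM (χ : A → ℂ) a 1 = (natHat hM a χ : ℂ) := by
  rw [natHat, dif_pos ha]
  exact (exists_nat_hatC hM χ ha).choose_spec

include hB in
open Classical in
/-- The multiplicities of an idempotent are those of the simple modules. -/
theorem Simples.hatC_eq_sum {e : ULift.{u} (Fin k) → OGA hM A}
    (hei : ∀ i, IsIdempotentElem (e i)) (heB : ∀ i, oV hM (indVec B) * e i = e i)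
    (her : ∀ i j, S.rk hM j (red hM (e i)) = if j = i then 1 else 0) {a : OGA hM A}
    (ha : IsIdempotentElem a) {χ : IrrCharacter A} (hχ : χ ∈ B) :
    hatC hM (χ : A → ℂ) a 1 = ∑ i, (S.rk hM i (red hM a) : ℂ) * hatC hM (χ : A → ℂ) (e i) 1 := by
  have hv := vInt_indVec hM hB
  have hεi : IsIdempotentElem (oV hM (indVec B)) := by
    rw [IsIdempotentElem, ← oV_mul hM hv hv, indVec_mul_indVec, Set.inter_self]
  set a' := oV hM (indVec B) * a with ha'
  have ha'i : IsIdempotentElem a' := hεi.mul_of_commute (oV_commute hM hv a) ha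
  have ha'B : oV hM (indVec B) * a' = a' := by rw [ha', ← mul_assoc, hεi.eq]
  have hrk' : ∀ i, S.rk hM i (red hM a') = S.rk hM i (red hM a) := fun i => by
    rw [Simples.rk, Simples.rk, ha', map_mul, red_oV hM hv, map_mul, ← blkA, asAlgebraHom_blkA,
      S.blk, one_mul]
  rw [← hatC_oV_mul hM hB a χ hχ, ← ha']
  simp only [← hrk']
  let Δ : IrrCharacter A → ℤ := fun η => (natHat hM a' η : ℤ) -
    ∑ i, (S.rk hM i (red hM a') : ℤ) * (natHat hM (e i) η : ℤ)
  have hpair : ∀ b : OGA hM A, IsIdempotentElem b → oV hM (indVec B) * b = b →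
      ∑ η ∈ B.toFinset, Δ η * (natHat hM b η : ℤ) = 0 := by
    intro b hb hbB
    set y := red hM b with hy
    set W : Submodule (resField hM) (KGA hM A) :=
      LinearMap.range (LinearMap.mulRight (resField hM) y) with hW
    have hinv : ∀ g, ∀ z ∈ W, lmulRep hM g z ∈ W := by
      rintro g _ ⟨w, rfl⟩
      exact ⟨MonoidAlgebra.single g 1 * w, mul_assoc _ _ _⟩
    have hyB : blkA hM B * y = y := by
      rw [hy, blkA, ← red_oV hM hv, ← map_mul, hbB]
    have hWb : blockOp hM B (subRep (lmulRep hM) W hinv) = 1 := by
      refine LinearMap.ext fun z => Subtype.ext ?_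
      rw [← asAlgebraHom_blkA, ← Submodule.subtype_apply,
        map_asAlgebraHom (Submodule.subtype _) (subRep_subtype (lmulRep hM) _ hinv),
        lmulRep_asAlgebraHom, Submodule.subtype_apply, Module.End.one_apply]
      obtain ⟨w, hw⟩ := z.2
      rw [← hw, LinearMap.mulRight_apply, ← mul_assoc, show blkA hM B * w = w * blkA hM B from
        (cV_commute hM (indVec B) w).eq, mul_assoc, hyB]
    have hrange : ∀ c : OGA hM A, IsIdempotentElem c →
        (finrank (resField hM) (LinearMap.range
          ((subRep (lmulRep hM) W hinv).asAlgebraHom (red hM c))) : ℂ) =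
          ((∑ η ∈ B.toFinset, natHat hM c η * natHat hM b η : ℕ) : ℂ) := by
      intro c hc
      rw [← Submodule.finrank_map_subtype_eq W, ← LinearMap.range_comp,
        show W.subtype ∘ₗ (subRep (lmulRep hM) W hinv).asAlgebraHom (red hM c) =
          LinearMap.mulLeft (resField hM) (red hM c) ∘ₗ W.subtype from LinearMap.ext fun z => by
            show W.subtype _ = red hM c * (z : KGA hM A)
            rw [map_asAlgebraHom (Submodule.subtype _) (subRep_subtype (lmulRep hM) _ hinv),
              lmulRep_asAlgebraHom, Submodule.subtype_apply],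
        LinearMap.range_comp, Submodule.range_subtype, hW, ← LinearMap.range_comp, hy,
        finrank_range_two_sided hM hB hc hb hbB, Nat.cast_sum]
      exact Finset.sum_congr rfl fun η _ => by
        rw [natHat_spec hM hc, natHat_spec hM hb, Nat.cast_mul]
    have h := S.finrank_eq_sum hM hB (e := fun i => red hM (e i)) (fun i => (hei i).map (red hM))
      her (ha'i.map (red hM)) _ (subRep (lmulRep hM) W hinv) rfl hWb
    have h' : (∑ η ∈ B.toFinset, natHat hM a' η * natHat hM b η : ℕ) =
        ∑ i, (∑ η ∈ B.toFinset, natHat hM (e i) η * natHat hM b η) * S.rk hM i (red hM a') := by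
      rw [← Nat.cast_injective (hrange a' ha'i), h]
      exact Finset.sum_congr rfl fun i _ => by rw [Nat.cast_injective (hrange (e i) (hei i))]
    have h3 := congrArg (Nat.cast (R := ℤ)) h'
    push_cast at h3
    simp only [Δ, sub_mul, Finset.sum_sub_distrib, Finset.sum_mul]
    rw [Finset.sum_comm, sub_eq_zero, h3]
    refine Finset.sum_congr rfl fun i _ => ?_
    rw [Finset.sum_mul]
    exact Finset.sum_congr rfl fun η _ => by ring
  have hsq : ∑ η ∈ B.toFinset, Δ η * Δ η = 0 := by
    calc ∑ η ∈ B.toFinset, Δ η * Δ η = ∑ η ∈ B.toFinset, (Δ η * (natHat hM a' η : ℤ) -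
          ∑ i, (S.rk hM i (red hM a') : ℤ) * (Δ η * (natHat hM (e i) η : ℤ))) := by
          refine Finset.sum_congr rfl fun η _ => ?_
          conv_lhs => arg 2; simp only [Δ]
          rw [mul_sub, Finset.mul_sum]
          congr 1
          exact Finset.sum_congr rfl fun i _ => by ring
      _ = 0 := by
          rw [Finset.sum_sub_distrib, hpair a' ha'i ha'B, Finset.sum_comm, zero_sub, neg_eq_zero]
          refine Finset.sum_eq_zero fun i _ => ?_
          rw [← Finset.mul_sum, hpair (e i) (hei i) (heB i), mul_zero]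
  have h0 : Δ χ = 0 := mul_self_eq_zero.1
    ((Finset.sum_eq_zero_iff_of_nonneg fun η _ => mul_self_nonneg (Δ η)).1 hsq χ
      (Set.mem_toFinset.2 hχ))
  simp only [Δ, sub_eq_zero] at h0
  rw [natHat_spec hM ha'i]
  simp only [natHat_spec hM (hei _)]
  exact_mod_cast h0

include hM hB in
open Classical in
/-- Decomposition numbers: as many columns as the rank, with positive dimensions which are
combinations of the degrees, giving the degrees, with column degrees divisible by the order of a
Sylow subgroup. -/
theorem exists_decomposition :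
    ∃ (ι : Type u) (_ : Fintype ι) (m : ι → ℕ) (d : ι → IrrCharacter A → ℕ),
      Fintype.card ι = blockRank p B ∧ (∀ i, 0 < m i) ∧
      (∀ χ ∈ B, charDegree (χ : A → ℂ) = ∑ i, m i * d i χ) ∧
      (∀ i, 0 < ∑ χ ∈ B.toFinset, charDegree (χ : A → ℂ) * d i χ) ∧
      (∀ i, ∃ x ∈ locRing hM, ((∑ χ ∈ B.toFinset, charDegree (χ : A → ℂ) * d i χ : ℕ) : ℂ) =
        (Nat.card A : ℂ) * x) ∧
      ∀ i, ∃ c : IrrCharacter A → ℤ, (m i : ℤ) =
        ∑ χ ∈ B.toFinset, c χ * (charDegree (χ : A → ℂ) : ℤ) := by
  obtain ⟨k, hk, ⟨S⟩⟩ := exists_simples hM hB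
  choose e₀ he₀ he₀B he₀r using S.exists_delta hM hB
  choose e hei heB hered using fun i => exists_block_lift hM hB (he₀ i) (he₀B i)
  have her : ∀ i j, S.rk hM j (red hM (e i)) = if j = i then 1 else 0 := fun i j => by
    rw [hered, he₀r]
  have hformula := fun {a : OGA hM A} (ha : IsIdempotentElem a) {χ : IrrCharacter A} (hχ : χ ∈ B) =>
    S.hatC_eq_sum hM hB hei heB her ha hχ
  set d : ULift.{u} (Fin k) → IrrCharacter A → ℕ := fun i => natHat hM (e i) with hd
  have hv := vInt_indVec hM hB
  have hεi : IsIdempotentElem (oV hM (indVec B)) := by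
    rw [IsIdempotentElem, ← oV_mul hM hv hv, indVec_mul_indVec, Set.inter_self]
  -- multiplicities at linear characters of subgroups of order prime to `p`
  have hmult : ∀ T : Subgroup A, ¬ p ∣ Nat.card T → ∀ lam : T →* ℂˣ,
      ∃ r : ULift.{u} (Fin k) → ℕ, ∀ χ ∈ B,
        classInner (fun s : T => (χ : A → ℂ) s) (fun s : T => (lam s : ℂ)) =
          ∑ i, (r i : ℂ) * (d i χ : ℂ) := by
    intro T hT lam
    obtain ⟨a, hai, ha⟩ := exists_linear_idem hM hT lam
    refine ⟨fun i => S.rk hM i (red hM a), fun χ hχ => ?_⟩
    rw [← ha, hformula hai hχ]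
    exact Finset.sum_congr rfl fun i _ => by rw [natHat_spec hM (hei i)]
  have hdeg : ∀ χ ∈ B, (χ : A → ℂ) 1 = ∑ i, (S.dim i : ℂ) * (d i χ : ℂ) := by
    intro χ hχ
    rw [← hatC_oV hM hB χ hχ, hformula hεi hχ]
    refine Finset.sum_congr rfl fun i _ => ?_
    rw [natHat_spec hM (hei i), red_oV hM hv, ← blkA, S.rk_blkA]
  -- the rank
  let Dm : (B → ℂ) →ₗ[ℂ] (ULift.{u} (Fin k) → ℂ) :=
    { toFun := fun c i => ∑ χ : B, c χ * (d i χ.1 : ℂ)
      map_add' := fun c c' => by funext i; simp [add_mul, Finset.sum_add_distrib]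
      map_smul' := fun z c => by funext i; simp [mul_assoc, Finset.mul_sum] }
  let Ψ : (B → ℂ) →ₗ[ℂ] (A → ℂ) :=
    { toFun := fun c => ∑ χ : B, c χ • pRegularPart p ((χ : IrrCharacter A) : A → ℂ)
      map_add' := fun c c' => by simp [add_smul, Finset.sum_add_distrib]
      map_smul' := fun z c => by simp [mul_smul, Finset.smul_sum] }
  have hker : LinearMap.ker Dm ≤ LinearMap.ker Ψ := by
    intro c hc
    rw [LinearMap.mem_ker] at hc ⊢
    funext y
    simp only [Ψ, LinearMap.coe_mk, AddHom.coe_mk, Finset.sum_apply, Pi.smul_apply,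
      smul_eq_mul, Pi.zero_apply]
    by_cases hy : IsPRegular p y
    · simp only [pRegularPart_of_reg hy]
      set T := Subgroup.zpowers y with hT
      have hTp : ¬ p ∣ Nat.card T := by rwa [hT, Nat.card_zpowers]
      have hexp : ∀ χ : B, ((χ : IrrCharacter A) : A → ℂ) y =
          ∑ θ : IrrCharacter T, classInner (fun s : T => ((χ : IrrCharacter A) : A → ℂ) s)
            (θ : T → ℂ) * (θ : T → ℂ) ⟨y, Subgroup.mem_zpowers y⟩ := fun χ => by
        have hcT : IsClassFunction T (fun s : T => ((χ : IrrCharacter A) : A → ℂ) s) :=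
          fun a b => χ.1.2.isClassFunction (a : A) (b : A)
        have h := congrFun (Char.eq_sum_classInner hcT) ⟨y, Subgroup.mem_zpowers y⟩
        simpa [Finset.sum_apply] using h
      simp only [hexp, Finset.mul_sum]
      rw [Finset.sum_comm]
      refine Finset.sum_eq_zero fun θ _ => ?_
      obtain ⟨lam, hlam⟩ := Char.exists_hom_of_degree_one θ.2.isCharacter
        (Char.degree_eq_one_of_comm (fun a b => Subtype.ext (by
          obtain ⟨i, hi⟩ := a.2
          obtain ⟨j, hj⟩ := b.2
          rw [Subgroup.coe_mul, Subgroup.coe_mul, ← hi, ← hj]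
          exact (zpow_mul_comm y i j))) θ.2)
      obtain ⟨r, hr⟩ := hmult T hTp lam
      simp only [← mul_assoc, ← Finset.sum_mul]
      refine mul_eq_zero_of_left ?_ _
      calc ∑ χ : B, c χ * classInner (fun s : T => ((χ : IrrCharacter A) : A → ℂ) s) (θ : T → ℂ) =
          ∑ χ : B, ∑ i, (r i : ℂ) * (c χ * (d i χ.1 : ℂ)) := by
            refine Finset.sum_congr rfl fun χ _ => ?_
            rw [hlam, hr χ.1 χ.2, Finset.mul_sum]
            exact Finset.sum_congr rfl fun i _ => by ring
        _ = ∑ i, (r i : ℂ) * Dm c i := by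
            rw [Finset.sum_comm]
            simp only [Dm, LinearMap.coe_mk, AddHom.coe_mk, Finset.mul_sum]
        _ = 0 := by simp [hc]
    · simp [pRegularPart_of_sing hy]
  have hrange : blockRank p B ≤ finrank ℂ (LinearMap.range Dm) := by
    have h1 : blockRank p B ≤ finrank ℂ (LinearMap.range Ψ) := by
      refine Submodule.finrank_mono ?_
      rw [Submodule.span_le]
      rintro _ ⟨χ, hχ, rfl⟩
      refine ⟨Pi.single ⟨χ, hχ⟩ 1, ?_⟩
      simp only [Ψ, LinearMap.coe_mk, AddHom.coe_mk]
      rw [Finset.sum_eq_single (⟨χ, hχ⟩ : B)]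
      · simp
      · intro η _ hne; simp [Pi.single_eq_of_ne hne]
      · intro h; exact absurd (Finset.mem_univ _) h
    have h2 := LinearMap.finrank_range_add_finrank_ker Dm
    have h3 := LinearMap.finrank_range_add_finrank_ker Ψ
    have h4 := Submodule.finrank_mono hker
    omega
  have hle : finrank ℂ (LinearMap.range Dm) ≤ k := by
    refine (Submodule.finrank_le _).trans (le_of_eq ?_)
    simp
  have hcard : k = blockRank p B := le_antisymm hk (hrange.trans hle)
  have htop : LinearMap.range Dm = ⊤ := by
    refine Submodule.eq_top_of_finrank_eq (le_antisymm (Submodule.finrank_le _) ?_)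
    rw [Module.finrank_fintype_fun_eq_card, Fintype.card_ulift, Fintype.card_fin]
    omega
  refine ⟨ULift.{u} (Fin k), inferInstance, S.dim, d, by simpa using hcard, S.dim_pos hM hB,
    fun χ hχ => ?_, fun i => ?_, fun i => ?_, fun i => ?_⟩
  · apply Nat.cast_injective (R := ℂ)
    rw [← apply_one_eq_charDegree, hdeg χ hχ]
    push_cast
    rfl
  · have h := finrank_range_block hM hB (hei i) (heB i)
    simp only [natHat_spec hM (hei i), apply_one_eq_charDegree, ← Nat.cast_mul,
      ← Nat.cast_sum] at h
    rw [hd, ← Nat.cast_injective h, Module.finrank_pos_iff, Submodule.nontrivial_iff_ne_bot,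
      ne_eq, LinearMap.range_eq_bot, hered]
    intro h0
    have h1 := LinearMap.congr_fun h0 1
    simp only [LinearMap.mulLeft_apply, mul_one, LinearMap.zero_apply] at h1
    have h2 := he₀r i i
    rw [h1, if_pos rfl, Simples.rk, map_zero, LinearMap.range_zero] at h2
    simp at h2
  · refine ⟨((e i).coeff 1 : ℂ), ((e i).coeff 1).2, ?_⟩
    rw [card_mul_coeff_one hM, ← Finset.sum_subset (Finset.subset_univ B.toFinset) fun χ _ hχ => by
      rw [hatC_of_notMem hM hB (e i) (heB i) (fun h => hχ (Set.mem_toFinset.2 h)), mul_zero]]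
    push_cast
    exact Finset.sum_congr rfl fun χ _ => by
      rw [natHat_spec hM (hei i), apply_one_eq_charDegree]
  · have hsurj : Function.Surjective Dm := LinearMap.range_eq_top.1 htop
    obtain ⟨c, hc⟩ := hsurj (Pi.single i 1)
    set F : A → ℂ := fun g => ∑ χ : B, c χ * ((χ : IrrCharacter A) : A → ℂ) g with hF
    have hFc : IsClassFunction A F := fun x y => by
      simp only [hF]
      exact Finset.sum_congr rfl fun χ _ => by rw [χ.1.2.isClassFunction x y]
    have hgen : IsGeneralizedCharacter A (fun g => F (pReg p g)) := by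
      refine isGeneralized_comp_pReg_of_mult hFc fun T hT lam => ?_
      obtain ⟨r, hr⟩ := hmult T hT lam
      refine ⟨(r i : ℤ), ?_⟩
      calc classInner (fun s : T => F s) (fun s : T => (lam s : ℂ)) =
          ∑ χ : B, c χ * classInner (fun s : T => ((χ : IrrCharacter A) : A → ℂ) s)
            (fun s : T => (lam s : ℂ)) := by
            rw [show (fun s : T => F s) =
              ∑ χ : B, c χ • (fun s : T => ((χ : IrrCharacter A) : A → ℂ) s) from by
                funext s; simp [hF, Finset.sum_apply], Char.classInner_sum_left]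
            exact Finset.sum_congr rfl fun χ _ => Char.classInner_smul_left _ _ _
        _ = ∑ j, (r j : ℂ) * Dm c j := by
            simp only [Dm, LinearMap.coe_mk, AddHom.coe_mk, Finset.mul_sum]
            rw [Finset.sum_comm]
            refine Finset.sum_congr rfl fun χ _ => ?_
            rw [hr χ.1 χ.2, Finset.mul_sum]
            exact Finset.sum_congr rfl fun j _ => by ring
        _ = ((r i : ℤ) : ℂ) := by
            rw [hc, Finset.sum_eq_single i (fun j _ hj => by simp [Pi.single_eq_of_ne hj])
              (fun h => absurd (Finset.mem_univ _) h)]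
            simp
    choose n hn using fun χ : IrrCharacter A =>
      (Char.isGeneralizedCharacter_iff.1 hgen).2 (χ : A → ℂ) χ.2
    have hexp := Char.eq_sum_classInner (Char.isGeneralizedCharacter_iff.1 hgen).1
    simp only [hn] at hexp
    have hreg : ∀ g : A, pRegularPart p F g =
        pRegularPart p (∑ χ : IrrCharacter A, (n χ : ℂ) • (χ : A → ℂ)) g := fun g => by
      by_cases hg : IsPRegular p g
      · rw [pRegularPart_of_reg hg, pRegularPart_of_reg hg, ← hexp]
        show F g = F (pReg p g)
        have : pReg p g = g := by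
          have := pPt_mul_pReg (p := p) g
          rwa [(pPt_eq_one_iff g).2 hg, one_mul] at this
        rw [this]
      · rw [pRegularPart_of_sing hg, pRegularPart_of_sing hg]
    -- the part outside the block vanishes at regular elements
    set f : A → ℂ := ∑ χ ∈ Finset.univ \ B.toFinset, (n χ : ℂ) • pRegularPart p (χ : A → ℂ) with hf
    have hfF : f = ∑ χ : B, (c χ - n χ.1) • pRegularPart p ((χ : IrrCharacter A) : A → ℂ) := by
      funext g
      have h := hreg g
      simp only [hf, Finset.sum_apply, Pi.smul_apply, smul_eq_mul]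
      by_cases hg : IsPRegular p g
      · simp only [pRegularPart_of_reg hg, Finset.sum_apply, Pi.smul_apply, smul_eq_mul, hF] at h ⊢
        rw [← Finset.sum_sdiff (Finset.subset_univ B.toFinset)] at h
        rw [Finset.sum_subtype B.toFinset (fun x => Set.mem_toFinset)
          (fun χ : IrrCharacter A => (n χ : ℂ) * (χ : A → ℂ) g)] at h
        rw [eq_sub_of_add_eq h.symm, ← Finset.sum_sub_distrib]
        exact Finset.sum_congr rfl fun χ _ => by ring
      · simp [pRegularPart_of_sing hg]
    have hf0 : f = 0 := by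
      have hfc : IsClassFunction A f := fun x y => by
        simp only [hf, Finset.sum_apply, Pi.smul_apply]
        exact Finset.sum_congr rfl fun χ _ => by
          rw [isClassFunction_pRegularPart χ.2.isClassFunction x y]
      rw [Char.eq_sum_classInner hfc]
      refine Finset.sum_eq_zero fun η _ => ?_
      have h0 : classInner f (η : A → ℂ) = 0 := by
        by_cases hη : η ∈ B
        · rw [hf, Char.classInner_sum_left]
          refine Finset.sum_eq_zero fun χ hχ => ?_
          have hz := regInner_eq_zero hM hv hη fun h =>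
            (Finset.mem_sdiff.1 hχ).2 (Set.mem_toFinset.2 h)
          rw [Char.classInner_smul_left]
          refine mul_eq_zero_of_right _ ?_
          rw [← map_eq_zero (starRingEnd ℂ), ← hz]
          exact regInner_conj (χ : A → ℂ) (η : A → ℂ)
        · rw [hfF, Char.classInner_sum_left]
          refine Finset.sum_eq_zero fun χ _ => ?_
          rw [Char.classInner_smul_left]
          exact mul_eq_zero_of_right _ (regInner_eq_zero hM hv χ.2 hη)
      rw [h0, zero_smul]
    refine ⟨n, ?_⟩
    apply Int.cast_injective (α := ℂ)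
    have h1 := congrFun (hfF.symm.trans hf0) 1
    simp only [Finset.sum_apply, Pi.smul_apply, smul_eq_mul, Pi.zero_apply,
      pRegularPart_of_reg (show IsPRegular p (1 : A) by
        simp [IsPRegular, (Fact.out : p.Prime).ne_one]), sub_mul, Finset.sum_sub_distrib,
      sub_eq_zero] at h1
    rw [Int.cast_natCast, Int.cast_sum]
    simp only [Int.cast_mul, Int.cast_natCast, ← apply_one_eq_charDegree]
    rw [Finset.sum_subtype B.toFinset (fun x => Set.mem_toFinset), ← h1]
    calc (S.dim i : ℂ) = ∑ j, (S.dim j : ℂ) * Dm c j := by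
          rw [hc, Finset.sum_eq_single i (fun j _ hj => by simp [Pi.single_eq_of_ne hj])
            (fun h => absurd (Finset.mem_univ _) h)]
          simp
      _ = ∑ χ : B, c χ * ((χ : IrrCharacter A) : A → ℂ) 1 := by
          simp only [Dm, LinearMap.coe_mk, AddHom.coe_mk, Finset.mul_sum]
          rw [Finset.sum_comm]
          refine Finset.sum_congr rfl fun χ _ => ?_
          rw [hdeg χ.1 χ.2, Finset.mul_sum]
          exact Finset.sum_congr rfl fun j _ => by ring

end Cfsg.Lib.Block
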