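import Cfsg.Agent.Lib.Block.Decomposition
import Cfsg.Agent.Lib.Block.Vanish

/-!
# Columns of decomposition numbers

The columns of decomposition numbers give the multiplicities at linear characters of subgroups of
order prime to `p`, and vanish when paired with the values at `p`-singular elements.
-/

set_option autoImplicit false
set_option linter.unusedSectionVars false
set_option maxHeartbeats 1000000

namespace Cfsg.Lib.Block

open Cfsg Module
open scoped ComplexConjugate MonoidAlgebra

universe u v

noncomputable local instance (priority := high) fintypeSubgroupDecompositionColumns {A : Type u}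
    [Group A] [Fintype A] (H : Subgroup A) : Fintype H := Fintype.ofFinite H

variable {p : ℕ} [Fact p.Prime] {M : Ideal AlgInt} {A : Type u} [Group A] [Fintype A]
  (hM : IsPModular p M) {B : Set (IrrCharacter A)} (hB : IsPBlock M B)

include hM hB in
open Classical in
/-- Columns of decomposition numbers, with their two defining properties. -/
theorem exists_decomposition_columns :
    ∃ (ι : Type u) (_ : Fintype ι) (d : ι → IrrCharacter A → ℕ),
      (∀ T : Subgroup A, ¬ p ∣ Nat.card T → ∀ lam : T →* ℂˣ, ∃ r : ι → ℕ, ∀ χ ∈ B,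
        classInner (fun s : T => (χ : A → ℂ) s) (fun s : T => (lam s : ℂ)) =
          ∑ i, (r i : ℂ) * (d i χ : ℂ)) ∧
      (∀ i, 0 < ∑ χ ∈ B.toFinset, charDegree (χ : A → ℂ) * d i χ) ∧
      ∀ i, ∀ x : A, p ∣ orderOf x → ∑ χ ∈ B.toFinset, (χ : A → ℂ) x * (d i χ : ℂ) = 0 := by
  obtain ⟨k, hk, ⟨S⟩⟩ := exists_simples hM hB
  choose e₀ he₀ he₀B he₀r using S.exists_delta hM hB
  choose e hei heB hered using fun i => exists_block_lift hM hB (he₀ i) (he₀B i)
  have her : ∀ i j, S.rk hM j (red hM (e i)) = if j = i then 1 else 0 := fun i j => by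
    rw [hered, he₀r]
  have hformula := fun {a : OGA hM A} (ha : IsIdempotentElem a) {χ : IrrCharacter A} (hχ : χ ∈ B) =>
    S.hatC_eq_sum hM hB hei heB her ha hχ
  set d : ULift.{u} (Fin k) → IrrCharacter A → ℕ := fun i => natHat hM (e i) with hd
  have hv := vInt_indVec hM hB
  have hεi : IsIdempotentElem (oV hM (indVec B)) := by
    rw [IsIdempotentElem, ← oV_mul hM hv hv, indVec_mul_indVec, Set.inter_self]
  -- multiplicities at linear characters of subgroups of order prime to `p`
  have hmult : ∀ T : Subgroup A, ¬ p ∣ Nat.card T → ∀ lam : T →* ℂˣ,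
      ∃ r : ULift.{u} (Fin k) → ℕ, ∀ χ ∈ B,
        classInner (fun s : T => (χ : A → ℂ) s) (fun s : T => (lam s : ℂ)) =
          ∑ i, (r i : ℂ) * (d i χ : ℂ) := by
    intro T hT lam
    obtain ⟨a, hai, ha⟩ := exists_linear_idem hM hT lam
    refine ⟨fun i => S.rk hM i (red hM a), fun χ hχ => ?_⟩
    rw [← ha, hformula hai hχ]
    exact Finset.sum_congr rfl fun i _ => by rw [natHat_spec hM (hei i)]
  -- the rank
  let Dm : (B → ℂ) →ₗ[ℂ] (ULift.{u} (Fin k) → ℂ) :=
    { toFun := fun c i => ∑ χ : B, c χ * (d i χ.1 : ℂ)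
      map_add' := fun c c' => by funext i; simp [add_mul, Finset.sum_add_distrib]
      map_smul' := fun z c => by funext i; simp [mul_assoc, Finset.mul_sum] }
  let Ψ : (B → ℂ) →ₗ[ℂ] (A → ℂ) :=
    { toFun := fun c => ∑ χ : B, c χ • pRegularPart p ((χ : IrrCharacter A) : A → ℂ)
      map_add' := fun c c' => by simp [add_smul, Finset.sum_add_distrib]
      map_smul' := fun z c => by simp [mul_smul, Finset.smul_sum] }
  have hker : LinearMap.ker Dm ≤ LinearMap.ker Ψ := by
    intro c hc
    rw [LinearMap.mem_ker] at hc ⊢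
    funext y
    simp only [Ψ, LinearMap.coe_mk, AddHom.coe_mk, Finset.sum_apply, Pi.smul_apply,
      smul_eq_mul, Pi.zero_apply]
    by_cases hy : IsPRegular p y
    · simp only [pRegularPart_of_reg hy]
      set T := Subgroup.zpowers y with hT
      have hTp : ¬ p ∣ Nat.card T := by rwa [hT, Nat.card_zpowers]
      have hexp : ∀ χ : B, ((χ : IrrCharacter A) : A → ℂ) y =
          ∑ θ : IrrCharacter T, classInner (fun s : T => ((χ : IrrCharacter A) : A → ℂ) s)
            (θ : T → ℂ) * (θ : T → ℂ) ⟨y, Subgroup.mem_zpowers y⟩ := fun χ => by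
        have hcT : IsClassFunction T (fun s : T => ((χ : IrrCharacter A) : A → ℂ) s) :=
          fun a b => χ.1.2.isClassFunction (a : A) (b : A)
        have h := congrFun (Char.eq_sum_classInner hcT) ⟨y, Subgroup.mem_zpowers y⟩
        simpa [Finset.sum_apply] using h
      simp only [hexp, Finset.mul_sum]
      rw [Finset.sum_comm]
      refine Finset.sum_eq_zero fun θ _ => ?_
      obtain ⟨lam, hlam⟩ := Char.exists_hom_of_degree_one θ.2.isCharacter
        (Char.degree_eq_one_of_comm (fun a b => Subtype.ext (by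
          obtain ⟨i, hi⟩ := a.2
          obtain ⟨j, hj⟩ := b.2
          rw [Subgroup.coe_mul, Subgroup.coe_mul, ← hi, ← hj]
          exact (zpow_mul_comm y i j))) θ.2)
      obtain ⟨r, hr⟩ := hmult T hTp lam
      simp only [← mul_assoc, ← Finset.sum_mul]
      refine mul_eq_zero_of_left ?_ _
      calc ∑ χ : B, c χ * classInner (fun s : T => ((χ : IrrCharacter A) : A → ℂ) s) (θ : T → ℂ) =
          ∑ χ : B, ∑ i, (r i : ℂ) * (c χ * (d i χ.1 : ℂ)) := by
            refine Finset.sum_congr rfl fun χ _ => ?_
            rw [hlam, hr χ.1 χ.2, Finset.mul_sum]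
            exact Finset.sum_congr rfl fun i _ => by ring
        _ = ∑ i, (r i : ℂ) * Dm c i := by
            rw [Finset.sum_comm]
            simp only [Dm, LinearMap.coe_mk, AddHom.coe_mk, Finset.mul_sum]
        _ = 0 := by simp [hc]
    · simp [pRegularPart_of_sing hy]
  have hrange : blockRank p B ≤ finrank ℂ (LinearMap.range Dm) := by
    have h1 : blockRank p B ≤ finrank ℂ (LinearMap.range Ψ) := by
      refine Submodule.finrank_mono ?_
      rw [Submodule.span_le]
      rintro _ ⟨χ, hχ, rfl⟩
      refine ⟨Pi.single ⟨χ, hχ⟩ 1, ?_⟩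
      simp only [Ψ, LinearMap.coe_mk, AddHom.coe_mk]
      rw [Finset.sum_eq_single (⟨χ, hχ⟩ : B)]
      · simp
      · intro η _ hne; simp [Pi.single_eq_of_ne hne]
      · intro h; exact absurd (Finset.mem_univ _) h
    have h2 := LinearMap.finrank_range_add_finrank_ker Dm
    have h3 := LinearMap.finrank_range_add_finrank_ker Ψ
    have h4 := Submodule.finrank_mono hker
    omega
  have hle : finrank ℂ (LinearMap.range Dm) ≤ k := by
    refine (Submodule.finrank_le _).trans (le_of_eq ?_)
    simp
  refine ⟨ULift.{u} (Fin k), inferInstance, d, hmult, fun i => ?_, fun i x hx => ?_⟩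
  · have h := finrank_range_block hM hB (hei i) (heB i)
    simp only [natHat_spec hM (hei i), apply_one_eq_charDegree, ← Nat.cast_mul,
      ← Nat.cast_sum] at h
    rw [hd, ← Nat.cast_injective h, Module.finrank_pos_iff, Submodule.nontrivial_iff_ne_bot,
      ne_eq, LinearMap.range_eq_bot, hered]
    intro h0
    have h1 := LinearMap.congr_fun h0 1
    simp only [LinearMap.mulLeft_apply, mul_one, LinearMap.zero_apply] at h1
    have h2 := he₀r i i
    rw [h1, if_pos rfl, Simples.rk, map_zero, LinearMap.range_zero] at h2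
    simp at h2
  · have hker' : LinearMap.ker Dm = LinearMap.ker Ψ := by
      refine Submodule.eq_of_le_of_finrank_le hker ?_
      have h1 : blockRank p B ≤ finrank ℂ (LinearMap.range Ψ) := by
        refine Submodule.finrank_mono ?_
        rw [Submodule.span_le]
        rintro _ ⟨χ, hχ, rfl⟩
        refine ⟨Pi.single ⟨χ, hχ⟩ 1, ?_⟩
        simp only [Ψ, LinearMap.coe_mk, AddHom.coe_mk]
        rw [Finset.sum_eq_single (⟨χ, hχ⟩ : B)]
        · simp
        · intro η _ hne; simp [Pi.single_eq_of_ne hne]
        · intro h; exact absurd (Finset.mem_univ _) h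
      have h2 := LinearMap.finrank_range_add_finrank_ker Dm
      have h3 := LinearMap.finrank_range_add_finrank_ker Ψ
      omega
    have hc : (fun χ : B => ((χ : IrrCharacter A) : A → ℂ) x) ∈ LinearMap.ker Dm := by
      rw [hker', LinearMap.mem_ker]
      funext y
      simp only [Ψ, LinearMap.coe_mk, AddHom.coe_mk, Finset.sum_apply, Pi.smul_apply,
        smul_eq_mul, Pi.zero_apply]
      by_cases hy : IsPRegular p y
      · simp only [pRegularPart_of_reg hy]
        have hne : ¬ IsConj (pPt p x) (pPt p y)⁻¹ := by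
          rw [(pPt_eq_one_iff y).2 hy, inv_one, isConj_one_left]
          exact fun h => (pPt_eq_one_iff x).1 h hx
        have h := sum_block_mul_eq_zero hM (vInt_indVec hM hB) hne
        rw [finsum_mem_eq_toFinset_sum, Finset.sum_subtype B.toFinset (fun a => Set.mem_toFinset)
          (fun χ : IrrCharacter A => (χ : A → ℂ) x * (χ : A → ℂ) y)] at h
        exact h
      · simp [pRegularPart_of_sing hy]
    have h := congrFun (LinearMap.mem_ker.1 hc) i
    simp only [Dm, LinearMap.coe_mk, AddHom.coe_mk, Pi.zero_apply] at h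
    rwa [Finset.sum_subtype B.toFinset (fun a => Set.mem_toFinset)
      (fun χ : IrrCharacter A => (χ : A → ℂ) x * (d i χ : ℂ))]

end Cfsg.Lib.Block
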