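import Cfsg.Agent.Lib.Block.Decomposition
import Cfsg.Agent.Lib.Block.Defect

/-!
# The sum of the squares of the degrees in a block

Written with the greatest common divisor of the degrees it has a cofactor at least as large as
the rank.
-/

set_option autoImplicit false
set_option linter.unusedSectionVars false
set_option maxHeartbeats 1000000

namespace Cfsg.Lib.Block

open Cfsg

universe u

variable {p : ℕ} [hp : Fact p.Prime] {M : Ideal AlgInt} {G : Type u} [Group G] [Fintype G]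

/-- A natural number that is `|G|` times a local integer is divisible by the `p`-part of `|G|`. -/
theorem pow_dvd_of_eq_card_mul (hM : IsPModular p M) {N : ℕ} {x : ℂ} (hx : x ∈ locRing hM)
    (h : (N : ℂ) = (Nat.card G : ℂ) * x) : p ^ (Nat.card G).factorization p ∣ N := by
  by_cases hN : N = 0
  · rw [hN]; exact dvd_zero _
  rw [hp.out.pow_dvd_iff_le_factorization hN]
  by_contra hlt
  set f := N.factorization p with hf
  set a := (Nat.card G).factorization p with ha
  obtain ⟨N', hN'⟩ := Nat.ordProj_dvd N p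
  obtain ⟨r, hr⟩ := Nat.ordProj_dvd (Nat.card G) p
  have hpf : ((p ^ f : ℕ) : ℂ) ≠ 0 := Nat.cast_ne_zero.2 (pow_ne_zero _ hp.out.ne_zero)
  have h' : (N' : ℂ) = ((p ^ (a - f) : ℕ) : ℂ) * ((r : ℂ) * x) := by
    refine mul_left_cancel₀ hpf ?_
    rw [← Nat.cast_mul, ← hN', h, hr, ← mul_assoc ((p ^ f : ℕ) : ℂ), ← Nat.cast_mul, ← pow_add,
      Nat.add_sub_cancel' (by omega), Nat.cast_mul, mul_assoc]
  have hmem : MemLocalIdeal M (N' : ℂ) := by
    rw [h']
    refine memLocalIdeal_mul_right hM ((memLocalIdeal_natCast_iff hM _).2 (dvd_pow_self p (by omega)))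
      (mul_mem (natCast_mem _ _) hx)
  obtain ⟨q, hq⟩ := (memLocalIdeal_natCast_iff hM _).1 hmem
  have : p ^ (f + 1) ∣ N := ⟨q, by rw [hN', hq, pow_succ, mul_assoc]⟩
  rw [hp.out.pow_dvd_iff_le_factorization hN] at this
  omega

/-- The sum of squares of the degrees in a block. -/
theorem degree_square_sum_factorization (hM : IsPModular p M) {B : Set (IrrCharacter G)}
    (hB : IsPBlock M B) {D : Subgroup G} (hD : IsDefectGroup p M B D) {a d : ℕ}
    (ha : (Nat.card G).factorization p = a) (hd : Nat.card D = p ^ d) {g : ℕ}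
    (hg1 : ∀ χ ∈ B, g ∣ charDegree (χ : G → ℂ))
    (hg2 : ∀ g' : ℕ, (∀ χ ∈ B, g' ∣ charDegree (χ : G → ℂ)) → g' ∣ g) :
    g.factorization p = a - d ∧ ∃ v : ℕ, 0 < v ∧ ¬ p ∣ v ∧ blockRank p B ≤ v ∧
      ∑ᶠ χ ∈ B, charDegree (χ : G → ℂ) ^ 2 = p ^ (2 * a - d) * (g / p ^ (a - d)) ^ 2 * v := by
  classical
  have hne := nonempty_of_isPBlock hM hB
  obtain ⟨χ₀, hχ₀, hmin⟩ := exists_minVal (p := p) hne
  have hadd := blockDefect_add_minVal (p := p) hne
  have hdB : blockDefect p B = d := Nat.pow_right_injective hp.out.two_le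
    ((card_defectGroup hM hB hD).symm.trans hd)
  have hm : minVal p B = a - d := by omega
  have hda : d ≤ a := by omega
  have hg0 : g ≠ 0 := fun h => (charDegree_pos χ₀).ne' (Nat.eq_zero_of_zero_dvd (h ▸ hg1 χ₀ hχ₀))
  have hgp : g.factorization p = a - d := by
    refine le_antisymm ?_ ?_
    · have h := (Nat.factorization_le_iff_dvd hg0 (charDegree_pos χ₀).ne').2 (hg1 χ₀ hχ₀) p
      omega
    · refine (hp.out.pow_dvd_iff_le_factorization hg0).1 (hg2 _ fun χ hχ => ?_)
      rw [hp.out.pow_dvd_iff_le_factorization (charDegree_pos χ).ne']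
      exact hm ▸ minVal_le hχ
  refine ⟨hgp, ?_⟩
  set u := g / p ^ (a - d) with hu
  have hgu : g = p ^ (a - d) * u := by
    rw [hu, Nat.mul_div_cancel' (hgp ▸ Nat.ordProj_dvd g p)]
  have hpu : ¬ p ∣ u := by
    rw [hu, ← hgp]
    exact Nat.not_dvd_ordCompl hp.out hg0
  obtain ⟨ι, _, m, dd, hι, hm0, hdeg, hΦ0, hΦ, hc⟩ := exists_decomposition hM hB
  set Φ : ι → ℕ := fun i => ∑ χ ∈ B.toFinset, charDegree (χ : G → ℂ) * dd i χ with hΦd
  have hgm : ∀ i, g ∣ m i := fun i => by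
    obtain ⟨c, hc⟩ := hc i
    have h : (g : ℤ) ∣ (m i : ℤ) := hc ▸ Finset.dvd_sum fun χ hχ =>
      Dvd.dvd.mul_left (Int.natCast_dvd_natCast.2 (hg1 χ (Set.mem_toFinset.1 hχ))) _
    exact Int.natCast_dvd_natCast.1 h
  have hΦdvd : ∀ i, p ^ a * u ∣ Φ i := fun i => by
    obtain ⟨x, hx, hxe⟩ := hΦ i
    have h1 : p ^ a ∣ Φ i := ha ▸ pow_dvd_of_eq_card_mul hM hx hxe
    have h2 : u ∣ Φ i := (Dvd.intro_left _ hgu.symm).trans
      (Finset.dvd_sum fun χ hχ => (hg1 χ (Set.mem_toFinset.1 hχ)).mul_right _)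
    exact (Nat.Coprime.pow_left a (hp.out.coprime_iff_not_dvd.2 hpu)).mul_dvd_of_dvd_of_dvd h1 h2
  choose t ht using hgm
  choose s hs using hΦdvd
  have hS : ∑ χ ∈ B.toFinset, charDegree (χ : G → ℂ) ^ 2 =
      p ^ (2 * a - d) * u ^ 2 * ∑ i, t i * s i := by
    calc ∑ χ ∈ B.toFinset, charDegree (χ : G → ℂ) ^ 2 = ∑ i, m i * Φ i := by
          rw [Finset.sum_congr rfl fun (χ : IrrCharacter G) hχ => (sq (charDegree (χ : G → ℂ))).trans
            ((congrArg (charDegree (χ : G → ℂ) * ·) (hdeg χ (Set.mem_toFinset.1 hχ))).trans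
              (Finset.mul_sum _ _ _))]
          rw [Finset.sum_comm]
          refine Finset.sum_congr rfl fun i _ => ?_
          rw [hΦd, Finset.mul_sum]
          exact Finset.sum_congr rfl fun χ _ => by ring
      _ = _ := by
          rw [Finset.mul_sum]
          refine Finset.sum_congr rfl fun i _ => ?_
          rw [ht i, hs i, hgu, show 2 * a - d = (a - d) + a by omega, pow_add]
          ring
  have hS0 : ∑ χ ∈ B.toFinset, charDegree (χ : G → ℂ) ^ 2 ≠ 0 :=
    (Finset.sum_pos' (fun _ _ => Nat.zero_le _)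
      ⟨χ₀, Set.mem_toFinset.2 hχ₀, pow_pos (charDegree_pos χ₀) 2⟩).ne'
  set v := ∑ i, t i * s i with hv
  have hv0 : v ≠ 0 := fun h => hS0 (by rw [hS, h, mul_zero])
  refine ⟨v, Nat.pos_of_ne_zero hv0, fun hd' => ?_, ?_, ?_⟩
  · have h := factorization_sum_sq hM hB
    rw [hS, Nat.factorization_mul (mul_ne_zero (pow_ne_zero _ hp.out.ne_zero)
      (pow_ne_zero _ fun h : u = 0 => hpu (h ▸ dvd_zero p))) hv0, Finsupp.add_apply,
      Nat.factorization_mul (pow_ne_zero _ hp.out.ne_zero) (pow_ne_zero _ fun h : u = 0 => hpu (h ▸ dvd_zero p)),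
      Finsupp.add_apply, hp.out.factorization_pow, Finsupp.single_eq_same, ha, hdB] at h
    have := hp.out.factorization_pos_of_dvd hv0 hd'
    omega
  · rw [← hι, Fintype.card_eq_sum_ones]
    refine Finset.sum_le_sum fun i _ => Nat.one_le_iff_ne_zero.2 (mul_ne_zero ?_ ?_)
    · exact fun h => (hm0 i).ne' (by rw [ht i, h, mul_zero])
    · exact fun h => (hΦ0 i).ne' (show Φ i = 0 by rw [hs i, h, mul_zero])
  · rw [finsum_mem_eq_toFinset_sum, hS]

end Cfsg.Lib.Block
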