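import Cfsg.Agent.Lib.Block.PairApps
import Cfsg.Agent.Lib.Block.CentralDefect
import Cfsg.Agent.Lib.Block.RankOne
import Cfsg.Agent.Lib.Block.Contribution
import Cfsg.Agent.Lib.Block.SubsectionApps

/-!
# Blocks of defect one for the prime two
-/

set_option autoImplicit false
set_option linter.unusedSectionVars false
set_option maxHeartbeats 800000

namespace Cfsg.Lib.Block

open Cfsg
open scoped ComplexConjugate

universe u

variable {M : Ideal AlgInt} {G : Type u} [Group G] [Fintype G]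

/-- A block of the centralizer of an involution `x` at a defect group `⟨x⟩`. -/
theorem defectOne_local (hM : IsPModular 2 M) {x : G} (hx : orderOf x = 2)
    {B : Set (IrrCharacter G)} (hD : IsDefectGroup 2 M B (Subgroup.zpowers x))
    (T : Subgroup G) [Fintype T]
    (hT : T = Subgroup.centralizer ((Subgroup.zpowers x : Subgroup G) : Set G))
    {b : Set (IrrCharacter T)} (hb : IsInducedBlock M T b B) :
    (∀ b' : Set (IrrCharacter T), IsInducedBlock M T b' B → b' = b) ∧
      ∃ P : Subgroup T, IsDefectGroup 2 M b P ∧ P ≤ Subgroup.center T ∧ Nat.card P = 2 ∧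
        ∀ w : T, (w : G) = x → w ∈ P := by
  classical
  haveI : Fact (Nat.Prime 2) := ⟨Nat.prime_two⟩
  subst hT
  have hZp : IsPGroup 2 (Subgroup.zpowers x) := IsPGroup.of_card (n := 1) (by rw [Nat.card_zpowers, hx, pow_one])
  have hZC : (Subgroup.zpowers x) ≤ Subgroup.centralizer ((Subgroup.zpowers x) : Set G) := by
    rw [Subgroup.zpowers_eq_closure, Subgroup.centralizer_closure, Subgroup.closure_le,
      Set.singleton_subset_iff]
    exact Subgroup.mem_centralizer_singleton_iff.2 rfl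
  have hpair : ∀ b' : Set (IrrCharacter (Subgroup.centralizer ((Subgroup.zpowers x) : Set G))),
      IsInducedBlock M (Subgroup.centralizer ((Subgroup.zpowers x) : Set G)) b' B → IsBrauerPairOf 2 M B (Subgroup.zpowers x) b' :=
    fun b' hb' => (isBrauerPairOf_iff_induced hM hZp le_rfl hZC
      (Subgroup.centralizer_le_normalizer _) (fun v => invOn_self v) hb'.1 hb'.1 (fun _ => rfl)
      hb'.2.1).2 hb'
  have hmax := maximal_of_defectGroup hM (hpair b hb) hD
  refine ⟨fun b' hb' => ?_, ?_⟩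
  · obtain ⟨g, h, rfl⟩ := exists_conj_of_maximal hM hmax (hpair b' hb')
    refine conjSet_of_mem _ ?_ _
    have hgx : g * x * g⁻¹ ∈ (Subgroup.zpowers x) := by
      rw [← h]; exact ⟨x, Subgroup.mem_zpowers x, rfl⟩
    obtain ⟨k, hk⟩ := Subgroup.mem_zpowers_iff.1 hgx
    have hx2 : x ^ (2 : ℤ) = 1 := by rw [zpow_two, ← pow_two, ← hx, pow_orderOf_eq_one]
    have hgxx : g * x * g⁻¹ = x := by
      rcases Int.even_or_odd k with ⟨j, hj⟩ | ⟨j, hj⟩
      · exfalso
        rw [hj, ← two_mul, zpow_mul, hx2, one_zpow, eq_comm, conj_eq_one_iff] at hk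
        rw [hk, orderOf_one] at hx
        omega
      · rw [hj, zpow_add, zpow_mul, hx2, one_zpow, one_mul, zpow_one] at hk
        exact hk.symm
    rw [Subgroup.zpowers_eq_closure, Subgroup.centralizer_closure]
    exact Subgroup.mem_centralizer_singleton_iff.2 (mul_inv_eq_iff_eq_mul.1 hgxx)
  · obtain ⟨P, hP, hle⟩ := le_defectGroup_of_subpair hM (isLocalBlock_centralizer hM hb.1)
      (hpair b hb).1 (Relation.ReflTransGen.refl : SubpairLE 2 M (Subgroup.zpowers x) b (Subgroup.zpowers x) b)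
    rw [inf_eq_left.2 hZC] at hle
    have hcard : Nat.card P = 2 := by
      have hd : blockDefect 2 B = 1 := by
        have := card_defectGroup hM hb.2.1 hD
        rw [Nat.card_zpowers, hx] at this
        exact Nat.pow_right_injective le_rfl
          (show (2:ℕ) ^ blockDefect 2 B = 2 ^ 1 by rw [pow_one]; exact this.symm)
      have h1 := blockDefect_le_of_induced hM hb
      have h2 := Subgroup.card_le_of_le hle
      rw [Nat.card_congr (Subgroup.subgroupOfEquivOfLe hZC).toEquiv, Nat.card_zpowers, hx,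
        card_defectGroup hM hb.1 hP] at h2
      rw [card_defectGroup hM hb.1 hP]
      have h3 : blockDefect 2 b = 1 := by
        rcases Nat.eq_zero_or_pos (blockDefect 2 b) with h0 | h0
        · rw [h0] at h2; norm_num at h2
        · omega
      rw [h3, pow_one]
    have hPeq : (Subgroup.zpowers x).subgroupOf (Subgroup.centralizer ((Subgroup.zpowers x) : Set G)) = P :=
      Subgroup.eq_of_le_of_card_ge hle (by
        rw [hcard, Nat.card_congr (Subgroup.subgroupOfEquivOfLe hZC).toEquiv, Nat.card_zpowers, hx])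
    refine ⟨P, hP, fun w hw => Subgroup.mem_center_iff.2 fun c => Subtype.ext ?_, hcard,
      fun w hw => by rw [← hPeq, Subgroup.mem_subgroupOf, hw]; exact Subgroup.mem_zpowers x⟩
    rw [← hPeq, Subgroup.mem_subgroupOf] at hw
    exact (Subgroup.mem_centralizer_iff.1 c.2 _ hw).symm

/-- A block with a central defect group of order two consists of two characters which agree
on the regular elements. -/
theorem defectOne_central (hM : IsPModular 2 M) {B : Set (IrrCharacter G)} (hB : IsPBlock M B)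
    {P : Subgroup G} (hP : IsDefectGroup 2 M B P) (hPZ : P ≤ Subgroup.center G)
    (hP2 : Nat.card P = 2) :
    Nat.card B = 2 ∧ ∀ η ∈ B, ∀ θ ∈ B, (η : G → ℂ) 1 = (θ : G → ℂ) 1 ∧
      ∀ y : G, IsPRegular 2 y → (η : G → ℂ) y = (θ : G → ℂ) y := by
  classical
  haveI : Fact (Nat.Prime 2) := ⟨Nat.prime_two⟩
  have hr := blockRank_eq_one_of_central hM hB hP hPZ
  have hreg : ∀ η ∈ B, regInner 2 (η : G → ℂ) (η : G → ℂ) = 2⁻¹ := fun η hη => by
    have h := card_mul_regInner_of_central hM hB hP hPZ hη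
    rw [hP2, Nat.cast_ofNat] at h
    exact eq_inv_of_mul_eq_one_right h
  have hcard : Nat.card B = 2 := by
    have h := blockRank_eq_sum_regInner hM (vInt_indVec hM hB)
    rw [hr, Nat.cast_one, Finset.sum_congr rfl fun η hη => hreg η (Set.mem_toFinset.1 hη),
      Finset.sum_const, nsmul_eq_mul, Set.toFinset_card, ← Nat.card_eq_fintype_card] at h
    have : (Nat.card B : ℂ) = 2 := by
      field_simp at h
      linear_combination -h
    exact_mod_cast this
  refine ⟨hcard, fun η hη θ hθ => ?_⟩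
  set r := (η : G → ℂ) 1 / (θ : G → ℂ) 1 with hr'
  have hprop := regPart_eq_of_rank_one hr hη hθ
  have hrr : r = ((charDegree (η : G → ℂ) : ℝ) / (charDegree (θ : G → ℂ) : ℝ) : ℝ) := by
    rw [hr', apply_one_eq_charDegree, apply_one_eq_charDegree]
    push_cast
    ring
  have hr1 : r = 1 := by
    have h1 : regInner 2 (η : G → ℂ) (η : G → ℂ) =
        r * regInner 2 (θ : G → ℂ) (η : G → ℂ) := by
      rw [regInner, regInner, hprop, Char.classInner_smul_left]
    have h2 : regInner 2 (θ : G → ℂ) (η : G → ℂ) = r * regInner 2 (θ : G → ℂ) (θ : G → ℂ) := by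
      rw [regInner_symm, regInner, regInner, hprop, Char.classInner_smul_left]
    rw [hreg η hη, h2, hreg θ hθ] at h1
    have h3 : r * r = 1 := by linear_combination -2 * h1
    rcases mul_self_eq_one_iff.1 h3 with e | e
    · exact e
    · exfalso
      rw [hrr] at e
      have e' := congrArg Complex.re e
      simp only [Complex.ofReal_re, Complex.neg_re, Complex.one_re] at e'
      have : (0 : ℝ) ≤ (charDegree (η : G → ℂ) : ℝ) / (charDegree (θ : G → ℂ) : ℝ) := by positivity
      linarith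
  refine ⟨(div_eq_one_iff_eq θ.2.apply_one_ne_zero).1 hr1, fun y hy => ?_⟩
  have h := congrFun hprop y
  rw [Pi.smul_apply, ← hr', hr1, one_smul, pRegularPart_of_reg hy, pRegularPart_of_reg hy] at h
  exact h

open Classical in
/-- The characters of a block with defect group generated by an involution. -/
theorem defectOne_values (hM : IsPModular 2 M) {x : G} (hx : orderOf x = 2)
    {B : Set (IrrCharacter G)} (hB : IsPBlock M B)
    (hD : IsDefectGroup 2 M B (Subgroup.zpowers x))
    {b : Set (IrrCharacter (Subgroup.centralizer ({x} : Set G)))}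
    (hb : IsInducedBlock M (Subgroup.centralizer ({x} : Set G)) b B)
    {θ : IrrCharacter (Subgroup.centralizer ({x} : Set G))} (hθ : θ ∈ b) :
    ∃ χ₁ χ₂ : IrrCharacter G, χ₁ ≠ χ₂ ∧ B = {χ₁, χ₂} ∧ ∃ ε₁ ε₂ : ℤ,
      (ε₁ = 1 ∨ ε₁ = -1) ∧ (ε₂ = 1 ∨ ε₂ = -1) ∧ ε₁ * ε₂ = -1 ∧
      (∀ y : Subgroup.centralizer ({x} : Set G), IsPRegular 2 y →
        (χ₁ : G → ℂ) (x * y) = ε₁ * (θ : Subgroup.centralizer ({x} : Set G) → ℂ) y ∧
        (χ₂ : G → ℂ) (x * y) = ε₂ * (θ : Subgroup.centralizer ({x} : Set G) → ℂ) y) ∧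
      ∀ g : G, IsPRegular 2 g → (χ₁ : G → ℂ) g = (χ₂ : G → ℂ) g := by
  haveI : Fact (Nat.Prime 2) := ⟨Nat.prime_two⟩
  let C := Subgroup.centralizer ({x} : Set G)
  letI : Fintype C := Fintype.ofFinite _
  have hCeq : C = Subgroup.centralizer ((Subgroup.zpowers x : Subgroup G) : Set G) := by
    rw [Subgroup.zpowers_eq_closure, Subgroup.centralizer_closure]
  obtain ⟨huniq, P, hP, hPZ, hP2, -⟩ := defectOne_local hM hx hD C hCeq hb
  obtain ⟨hbcard, hbeq⟩ := defectOne_central hM hb.1 hP hPZ hP2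
  have hu : ∃ k : ℕ, orderOf x = 2 ^ k := ⟨1, by rw [hx, pow_one]⟩
  have hxC : x ∈ C := Subgroup.mem_centralizer_singleton_iff.2 rfl
  have hHu : ∀ h : C, Commute x (h : G) := fun h =>
    (Subgroup.mem_centralizer_singleton_iff.1 h.2).symm
  have hind : indSet M C B = b := by
    ext η
    show IsInducedBlock M C (blockOf M (η : C → ℂ)) B ↔ η ∈ b
    exact ⟨fun h => huniq _ h ▸ self_mem_blockOf hM η,
      fun h => by rw [← eq_blockOf_of_mem hM hb.1 h]; exact hb⟩
  have hy1 : IsPRegular 2 (1 : C) := by simp [IsPRegular]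
  have hcoef : ∀ χ : IrrCharacter G, ∃ a : ℤ, ∀ y : C, IsPRegular 2 y →
      blockPart b (secFn x C (χ : G → ℂ)) y = (a : ℂ) * (θ : C → ℂ) y := by
    intro χ
    have hint : ∀ η : IrrCharacter C, ∃ m : ℤ,
        classInner (secFn x C (χ : G → ℂ)) (η : C → ℂ) = m := fun η => by
      obtain ⟨c, hc, he⟩ := classInner_secFn hxC hHu χ η
      obtain ⟨n, hn⟩ := (χ.2.isCharacter.comp C.subtype).exists_nat_classInner η.2.isCharacter
      rw [hx, pow_two] at hc
      rcases mul_self_eq_one_iff.1 hc with rfl | rfl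
      · exact ⟨n, by rw [he, one_mul, Int.cast_natCast]; exact hn⟩
      · exact ⟨-(n : ℤ), by rw [he, neg_one_mul, Int.cast_neg, Int.cast_natCast]; exact congrArg _ hn⟩
    choose m hm using hint
    refine ⟨∑ η ∈ b.toFinset, m η, fun y hy => ?_⟩
    simp only [blockPart, finsum_mem_eq_toFinset_sum, Int.cast_sum, Finset.sum_mul]
    refine Finset.sum_congr (by ext; simp) fun η hη => ?_
    rw [(hbeq η (Set.mem_toFinset.1 hη) θ hθ).2 y hy, ← hm η]
  choose a ha using hcoef
  have hval : ∀ χ ∈ B, ∀ y : C, IsPRegular 2 y →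
      (χ : G → ℂ) (x * y) = (a χ : ℂ) * (θ : C → ℂ) y := fun χ hχ y hy => by
    have h := blockPart_indSet hM hu hHu (le_refl C) hB χ hy
    rw [if_pos hχ, hind, ha χ y hy] at h
    exact h.symm
  have hθ1 : (θ : C → ℂ) 1 ≠ 0 := θ.2.apply_one_ne_zero
  have hsum : ∑ χ ∈ B.toFinset, a χ * a χ = 2 := by
    have h := sum_block_mul_conj hM hu hHu (le_refl C) hB hy1 hy1
    rw [hind, regKer] at h
    rw [Finset.sum_congr rfl fun χ hχ => by
      rw [hval χ (Set.mem_toFinset.1 hχ) 1 hy1, map_mul, map_intCast, conj_apply_one],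
      Finset.sum_congr rfl fun (η : IrrCharacter C) (hη : η ∈ b.toFinset) =>
        show (η : C → ℂ) 1 * conj ((η : C → ℂ) 1) = (θ : C → ℂ) 1 * (θ : C → ℂ) 1 by
          rw [(hbeq η (Set.mem_toFinset.1 hη) θ hθ).1, conj_apply_one],
      Finset.sum_const, Set.toFinset_card, ← Nat.card_eq_fintype_card, hbcard] at h
    have e : ((∑ χ ∈ B.toFinset, a χ * a χ : ℤ) : ℂ) * ((θ : C → ℂ) 1 * (θ : C → ℂ) 1) =
        2 * ((θ : C → ℂ) 1 * (θ : C → ℂ) 1) := by
      rw [nsmul_eq_mul, Nat.cast_ofNat] at h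
      rw [← h, Int.cast_sum, Finset.sum_mul]
      exact Finset.sum_congr rfl fun χ _ => by push_cast; ring
    have e2 := mul_right_cancel₀ (mul_ne_zero hθ1 hθ1) e
    exact_mod_cast e2
  have hne : ∀ χ ∈ B, a χ ≠ 0 := by
    intro χ hχ h0
    have hd := blockDefect_eq_zero_of_vanish hM χ (fun g hg => by
      by_contra hg0
      refine hg0 (char_eq_zero_of_pPt_notMem hM χ fun D hD' hmem => ?_)
      rw [← eq_blockOf_of_mem hM hB hχ] at hD'
      obtain ⟨c, hc⟩ := exists_conj_defectGroup hM hB hD hD'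
      have hgg : pPt 2 g = g := (eq_pPt (mul_one g) (Commute.one_right g) (k := 1)
        (by rw [hg, pow_one]) (by simp)).symm
      rw [← hc, hgg] at hmem
      obtain ⟨w, hw, hwg⟩ := hmem
      obtain ⟨k, hk⟩ := Subgroup.mem_zpowers_iff.1 hw
      have hx2 : x ^ (2 : ℤ) = 1 := by rw [zpow_two, ← pow_two, ← hx, pow_orderOf_eq_one]
      rcases Int.even_or_odd k with ⟨j, hj⟩ | ⟨j, hj⟩
      · rw [hj, ← two_mul, zpow_mul, hx2, one_zpow] at hk
        rw [← hwg, ← hk, map_one, orderOf_one] at hg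
        omega
      · rw [hj, zpow_add, zpow_mul, hx2, one_zpow, one_mul, zpow_one] at hk
        apply hg0
        rw [← hwg, ← hk]
        show (χ : G → ℂ) (c * x * c⁻¹) = 0
        rw [χ.2.isClassFunction x c]
        have := hval χ hχ 1 hy1
        rw [h0, Int.cast_zero, zero_mul, OneMemClass.coe_one, mul_one] at this
        exact this)
    rw [← eq_blockOf_of_mem hM hB hχ] at hd
    have := card_defectGroup hM hB hD
    rw [hd, pow_zero, Nat.card_zpowers, hx] at this
    omega
  have hone : ∀ χ ∈ B.toFinset, (1 : ℤ) ≤ a χ * a χ := fun χ hχ => by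
    have := mul_self_pos.2 (hne χ (Set.mem_toFinset.1 hχ))
    omega
  have hBcard : B.toFinset.card ≤ 2 := by
    have := Finset.card_nsmul_le_sum _ _ 1 hone
    rw [hsum, nsmul_eq_mul, mul_one] at this
    exact_mod_cast this
  have hrel : ∀ g : G, IsPRegular 2 g → ∑ χ ∈ B.toFinset, (a χ : ℂ) * (χ : G → ℂ) g = 0 := by
    intro g hg
    have hg' : IsPRegular 2 g⁻¹ := by rwa [IsPRegular, orderOf_inv]
    have hne' : ¬ IsConj (pPt 2 g⁻¹) (pPt 2 x) := not_isConj_pPt_of_dvd hg' (by rw [hx])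
    have h := sum_block_mul_conj_eq_zero hM (vInt_indVec hM hB) (g := g⁻¹) (h := x) hne'
    rw [finsum_mem_eq_toFinset_sum] at h
    have h' := congrArg conj h
    rw [map_zero, map_sum] at h'
    apply mul_left_cancel₀ hθ1
    rw [mul_zero, Finset.mul_sum]
    refine Eq.trans (Finset.sum_congr rfl fun χ hχ => ?_) h'
    have e := hval χ (Set.mem_toFinset.1 hχ) 1 hy1
    rw [OneMemClass.coe_one, mul_one] at e
    rw [χ.2.isCharacter.apply_inv, map_mul, Complex.conj_conj, Complex.conj_conj, e]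
    ring
  obtain ⟨χ₀, hχ₀⟩ := nonempty_of_isPBlock hM hB
  have hB2 : B.toFinset.card = 2 := by
    refine le_antisymm hBcard ?_
    by_contra hlt
    have h1 : B.toFinset.card = 1 := by
      have := Finset.card_pos.2 ⟨χ₀, Set.mem_toFinset.2 hχ₀⟩
      omega
    obtain ⟨w, hw⟩ := Finset.card_eq_one.1 h1
    have h := hrel 1 (by simp [IsPRegular])
    rw [hw, Finset.sum_singleton] at h
    exact hne w (Set.mem_toFinset.1 (hw ▸ Finset.mem_singleton_self w))
      (by exact_mod_cast (mul_eq_zero.1 h).resolve_right w.2.apply_one_ne_zero)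
  obtain ⟨χ₁, χ₂, h12, hBe⟩ := Finset.card_eq_two.1 hB2
  have hset : B = {χ₁, χ₂} := by
    rw [← Set.coe_toFinset B, hBe]; simp
  have m1 : χ₁ ∈ B := by rw [hset]; simp
  have m2 : χ₂ ∈ B := by rw [hset]; simp
  rw [hBe, Finset.sum_pair h12] at hsum
  have p1 := hone χ₁ (Set.mem_toFinset.2 m1)
  have p2 := hone χ₂ (Set.mem_toFinset.2 m2)
  have s1 : a χ₁ * a χ₁ = 1 := by omega
  have s2 : a χ₂ * a χ₂ = 1 := by omega
  have hr := fun g hg => by simpa [hBe, Finset.sum_pair h12] using hrel g hg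
  have h1 := hr 1 (by simp [IsPRegular])
  rw [apply_one_eq_charDegree, apply_one_eq_charDegree] at h1
  have hd1 := charDegree_pos χ₁
  have hd2 := charDegree_pos χ₂
  have hprod : a χ₁ * a χ₂ = -1 := by
    have h1' : a χ₁ * (charDegree (χ₁ : G → ℂ) : ℤ) + a χ₂ * (charDegree (χ₂ : G → ℂ) : ℤ) = 0 := by
      exact_mod_cast h1
    rcases mul_self_eq_one_iff.1 s1 with e | e <;> rcases mul_self_eq_one_iff.1 s2 with e' | e' <;>
      rw [e, e'] at h1' ⊢ <;> omega
  refine ⟨χ₁, χ₂, h12, hset, a χ₁, a χ₂, mul_self_eq_one_iff.1 s1, mul_self_eq_one_iff.1 s2, hprod,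
    fun y hy => ⟨hval χ₁ m1 y hy, hval χ₂ m2 y hy⟩, fun g hg => ?_⟩
  have hg := hr g hg
  have e2 : a χ₂ = -a χ₁ := by
    linear_combination (a χ₁) * hprod - (a χ₂) * s1
  rw [e2, Int.cast_neg] at hg
  have hne1 : (a χ₁ : ℂ) ≠ 0 := Int.cast_ne_zero.2 (hne χ₁ m1)
  apply mul_left_cancel₀ hne1
  linear_combination hg

end Cfsg.Lib.Block
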