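import Cfsg.Agent.Lib.Block.Contribution
import Mathlib.RingTheory.Trace.Basic

/-!
# Height zero characters at a subsection of a two-block

Averaging the contributions over the Galois group of the two-power cyclotomic field gives odd
integers on the diagonal; this bounds the number of height zero characters.
-/

set_option autoImplicit false
set_option linter.unusedSectionVars false
set_option maxHeartbeats 400000

namespace Cfsg.Lib.Block

open Cfsg
open scoped ComplexConjugate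

universe u

open Classical in
/-- The average trace of a root of unity of two-power order. -/
noncomputable def signTrace (x : ℂ) : ℤ := if x = 1 then 1 else if x = -1 then -1 else 0

theorem signTrace_conj (x : ℂ) : signTrace (conj x) = signTrace x := by
  have h1 : conj x = 1 ↔ x = 1 := by rw [← map_one (starRingEnd ℂ), (starRingEnd ℂ).injective.eq_iff, map_one]
  have h2 : conj x = -1 ↔ x = -1 := by
    rw [show (-1 : ℂ) = conj (-1 : ℂ) by simp, (starRingEnd ℂ).injective.eq_iff]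
    simp
  simp only [signTrace, h1, h2]

theorem sum_embeddings_root {e : ℕ} [FiniteDimensional ℚ (Char.cycField (2 ^ e))]
    (x : Char.cycField (2 ^ e)) (hx : (x : ℂ) ^ (2 ^ e) = 1) :
    ∑ σ : Char.cycField (2 ^ e) →ₐ[ℚ] ℂ, σ x =
      (Fintype.card (Char.cycField (2 ^ e) →ₐ[ℚ] ℂ) : ℂ) * (signTrace (x : ℂ) : ℂ) := by
  classical
  by_cases h1 : x = 1
  · subst h1
    simp [signTrace, map_one]
  by_cases h2 : x = -1
  · subst h2
    simp [signTrace, map_neg, map_one, show (-1 : ℂ) ≠ 1 by norm_num]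
  have h1' : (x : ℂ) ≠ 1 := fun h => h1 (Subtype.ext h)
  have h2' : (x : ℂ) ≠ -1 := fun h => h2 (Subtype.ext h)
  obtain ⟨j, hj, hord⟩ := (Nat.dvd_prime_pow Nat.prime_two).1 (orderOf_dvd_of_pow_eq_one hx)
  have hprim := IsPrimitiveRoot.orderOf (x : ℂ)
  rw [hord] at hprim
  obtain ⟨i, rfl⟩ : ∃ i, j = i + 2 := by
    rcases j with _ | _ | i
    · exact absurd (IsPrimitiveRoot.one_right_iff.1 (by simpa using hprim)) h1'
    · exact absurd (by simpa using hprim.eq_neg_one_of_two_right) h2'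
    · exact ⟨i, rfl⟩
  rw [← trace_eq_sum_embeddings ℂ (K := ℚ) (x := x)]
  have hmin : minpoly ℚ x = Polynomial.X ^ (2 ^ (i + 1)) + 1 := by
    rw [← minpoly.algebraMap_eq (A := ℚ) (algebraMap (Char.cycField (2 ^ e)) ℂ).injective x]
    change minpoly ℚ (x : ℂ) = _
    rw [← Polynomial.cyclotomic_eq_minpoly_rat hprim (pow_pos two_pos _),
      Polynomial.cyclotomic_prime_pow_eq_geom_sum Nat.prime_two]
    simp [Finset.sum_range_succ, add_comm]
  have hnc : (minpoly ℚ x).nextCoeff = 0 := by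
    have hm : 2 ^ (i + 1) ≠ 0 := by positivity
    have hm2 : 2 ≤ 2 ^ (i + 1) := Nat.le_self_pow (by omega) 2
    rw [hmin, Polynomial.nextCoeff_of_natDegree_pos (by
      rw [← Polynomial.C_1, Polynomial.natDegree_X_pow_add_C]; omega),
      ← Polynomial.C_1, Polynomial.natDegree_X_pow_add_C, Polynomial.coeff_add,
      Polynomial.coeff_X_pow, Polynomial.coeff_C, if_neg (by omega), if_neg (by omega), add_zero]
  rw [trace_eq_finrank_mul_minpoly_nextCoeff, hnc]
  simp [signTrace, h1', h2']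

theorem card_le_sum_norm_sq {N : ℕ} [NeZero N] [FiniteDimensional ℚ (Char.cycField N)]
    (z : Char.cycField N) (hint : IsIntegral ℤ (z : ℂ)) (hne : z ≠ 0) :
    (Fintype.card (Char.cycField N →ₐ[ℚ] ℂ) : ℝ) ≤
      ∑ σ : Char.cycField N →ₐ[ℚ] ℂ, ‖σ z‖ ^ 2 := by
  refine sub_card_nonneg_of_prod Finset.univ _ (fun σ _ => ?_) ?_
  · have : σ z ≠ 0 := fun h => hne (σ.toRingHom.injective (h.trans (map_zero σ).symm))
    positivity
  · have hai : IsIntegral ℤ z :=
      (isIntegral_algHom_iff (algebraMap (Char.cycField N) ℂ).toIntAlgHom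
        (algebraMap (Char.cycField N) ℂ).injective).mp hint
    have hnorm := Algebra.norm_eq_prod_embeddings ℚ ℂ z
    obtain ⟨k, hk⟩ := Char.exists_int_of_isIntegral_rat
      (q := Algebra.norm ℚ z) ((Algebra.isIntegral_norm ℚ hai).algebraMap (B := ℂ))
    have hk0 : k ≠ 0 := by
      intro h
      rw [h, Int.cast_zero] at hk
      exact hne (Algebra.norm_eq_zero_iff.mp hk)
    rw [Finset.prod_pow, ← norm_prod, ← hnorm, hk]
    have h2 : (1 : ℝ) ≤ |(k : ℝ)| := by exact_mod_cast Int.one_le_abs hk0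
    refine one_le_pow₀ ?_
    simpa [Complex.norm_intCast] using h2

variable {p : ℕ} {M : Ideal AlgInt} {G : Type u} [Group G] [Fintype G] [Fact p.Prime]
  (hM : IsPModular p M) {H : Subgroup G} [Fintype H] {u : G}
  {b : Set (IrrCharacter H)} {B : Set (IrrCharacter G)}

open Classical in
include hM in
/-- At height zero characters of the induced block the contributions are units at `M`. -/
theorem contr_not_mem (hu : ∃ k : ℕ, orderOf u = p ^ k) (hHu : ∀ h : H, Commute u (h : G))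
    (hCH : Subgroup.centralizer ({u} : Set G) ≤ H) (hind : IsInducedBlock M H b B) {d : ℕ}
    (hbd : blockDefect p b = d) {χ₁ η₁ : IrrCharacter G} (hχ₁ : χ₁ ∈ B) (hη₁ : η₁ ∈ B)
    (h₁ : blockHeight p B (χ₁ : G → ℂ) = 0) (h₂ : blockHeight p B (η₁ : G → ℂ) = 0) :
    ¬ MemLocalIdeal M (contr p d u b χ₁ η₁) := by
  have huH : u ∈ H := hCH (Subgroup.mem_centralizer_iff.2 fun z hz => by
    rw [Set.mem_singleton_iff] at hz; rw [hz])
  obtain ⟨e, he⟩ := hu
  obtain ⟨ξ₀, hξ₀, hmin⟩ := exists_minVal (p := p) (nonempty_of_isPBlock hM hind.1)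
  have h0 : blockHeight p b (ξ₀ : H → ℂ) = 0 := (blockHeight_eq_zero_iff hξ₀).2 hmin
  choose c hc hcχ using fun (χ : IrrCharacter G) (ξ : IrrCharacter H) =>
    classInner_secFn huH hHu χ ξ
  have hnat : ∀ (χ : IrrCharacter G) (ξ : IrrCharacter H),
      ∃ n : ℕ, classInner (fun h : H => (χ : G → ℂ) h) (ξ : H → ℂ) = n :=
    fun χ ξ => (χ.2.isCharacter.comp H.subtype).exists_nat_classInner ξ.2.isCharacter
  choose n hn using hnat
  obtain ⟨m, hm⟩ := exists_regForm hM hind.1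
  -- reduction modulo the prime
  set N00 := regN p b ξ₀ ξ₀ with hN00
  set A : IrrCharacter G → ℂ := fun χ =>
    ∑ ξ ∈ b.toFinset, (n χ ξ : ℂ) * ((ξ : H → ℂ) 1 / (ξ₀ : H → ℂ) 1) with hA
  have hratio : ∀ ξ ∈ b.toFinset, (ξ : H → ℂ) 1 / (ξ₀ : H → ℂ) 1 ∈ locRing hM := fun ξ hξ => by
    rw [apply_one_eq_charDegree ξ, apply_one_eq_charDegree ξ₀]
    exact natCast_div_mem hM (charDegree_pos ξ₀).ne'
      (Or.inr (hmin.le.trans (minVal_le (p := p) (Set.mem_toFinset.1 hξ))))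
  have hNmem : N00 ∈ locRing hM := by
    rw [hN00, hm.eq ξ₀ hξ₀ ξ₀ hξ₀]; exact intCast_mem _ _
  have hAmem : ∀ χ, A χ ∈ locRing hM := fun χ =>
    sum_mem fun ξ hξ => mul_mem (natCast_mem _ _) (hratio ξ hξ)
  have hunit : ∀ χ ∈ B, blockHeight p B (χ : G → ℂ) = 0 →
      ¬ MemLocalIdeal M (N00 * A χ) := by
    intro χ hχ h0χ hcon
    refine regVal_restrict_not_mem hM (restrictRel_of_induced hM hind hξ₀ hχ) hind.2.1 hχ hχ
      h0χ ?_
    rw [regVal_eq_sum hM hind.1 ξ₀ hξ₀]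
    refine memLocalIdeal_mul_left hM (natCast_div_mem hM
      (Nat.mul_ne_zero (charDegree_pos ξ₀).ne' (pow_ne_zero _ hM.1.ne_zero)) (Or.inr ?_)) ?_
    · rw [factorization_deg_pow, hmin]
      have := blockDefect_add_minVal (p := p) (nonempty_of_isPBlock hM hind.1)
      omega
    · have hs : MemLocalIdeal M (∑ ξ ∈ b.toFinset, (n χ ξ : ℂ) *
          (regN p b ξ ξ₀ - N00 * ((ξ : H → ℂ) 1 / (ξ₀ : H → ℂ) 1) *
            ((ξ₀ : H → ℂ) 1 / (ξ₀ : H → ℂ) 1))) :=
        memLocalIdeal_sum hM _ _ fun ξ hξ => memLocalIdeal_mul_left hM (natCast_mem _ _)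
          (regN_sub_mem_ideal hM hind.1 hξ₀ h0 (Set.mem_toFinset.1 hξ) hξ₀)
      have h2 := memLocalIdeal_add hM hs hcon
      simp only [hA, div_self ξ₀.2.apply_one_ne_zero, mul_one, mul_sub, Finset.sum_sub_distrib,
        Finset.mul_sum] at h2
      convert h2 using 1
      rw [sub_add, sub_eq_self.2]
      · exact Finset.sum_congr rfl fun ξ _ => by rw [hn]
      · rw [sub_eq_zero]
        exact Finset.sum_congr rfl fun ξ _ => by ring
  have hcong : ∀ χ η, MemLocalIdeal M (contr p d u b χ η - N00 * A χ * A η) := by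
    intro χ η
    have e₁ : contr p d u b χ η - N00 * A χ * A η = ∑ ξ ∈ b.toFinset, ∑ ξ' ∈ b.toFinset,
        ((n χ ξ : ℂ) * (n η ξ' : ℂ)) * ((regN p b ξ ξ' - N00 * ((ξ : H → ℂ) 1 / (ξ₀ : H → ℂ) 1) *
          ((ξ' : H → ℂ) 1 / (ξ₀ : H → ℂ) 1)) + (c χ ξ * conj (c η ξ') - 1) * regN p b ξ ξ') := by
      rw [contr_eq_sum hM hind.1 d hbd]
      simp only [hA, Finset.mul_sum, Finset.sum_mul]
      rw [Finset.sum_comm (f := fun ξ' ξ => N00 * ((n χ ξ : ℂ) * _) * ((n η ξ' : ℂ) * _)),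
        ← Finset.sum_sub_distrib]
      refine Finset.sum_congr rfl fun ξ _ => ?_
      rw [← Finset.sum_sub_distrib]
      refine Finset.sum_congr rfl fun ξ' _ => ?_
      rw [hcχ, hcχ, hn, hn, map_mul, map_natCast]
      ring
    rw [e₁]
    refine memLocalIdeal_sum hM _ _ fun ξ hξ => memLocalIdeal_sum hM _ _ fun ξ' hξ' => ?_
    refine memLocalIdeal_mul_left hM (mul_mem (natCast_mem _ _) (natCast_mem _ _))
      (memLocalIdeal_add hM
        (regN_sub_mem_ideal hM hind.1 hξ₀ h0 (Set.mem_toFinset.1 hξ) (Set.mem_toFinset.1 hξ'))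
        (memLocalIdeal_mul_right hM ?_ ?_))
    · refine memLocalIdeal_sub_one_of_pow_prime_pow hM (k := e) ?_
      rw [mul_pow, ← map_pow, ← he, hc, hc, map_one, mul_one]
    · rw [hm.eq ξ (Set.mem_toFinset.1 hξ) ξ' (Set.mem_toFinset.1 hξ')]
      exact intCast_mem _ _
  intro hcon
  have h3 := memLocalIdeal_sub hM hcon (hcong χ₁ η₁)
  rw [sub_sub_cancel] at h3
  have h4 := memLocalIdeal_mul_left hM hNmem h3
  refine mul_not_ideal hM (mul_mem hNmem (hAmem χ₁)) (mul_mem hNmem (hAmem η₁))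
    (hunit χ₁ hχ₁ h₁) (hunit η₁ hη₁ h₂) ?_
  convert h4 using 1
  ring

theorem even_sum_symm {ι : Type*} (s : Finset ι) (f : ι → ι → ℤ)
    (hsym : ∀ i ∈ s, ∀ j ∈ s, f i j = f j i) (hdiag : ∀ i ∈ s, f i i = 0) :
    Even (∑ i ∈ s, ∑ j ∈ s, f i j) := by
  classical
  rw [← ZMod.intCast_eq_zero_iff_even, Int.cast_sum]
  simp only [Int.cast_sum]
  rw [← Finset.sum_product']
  refine Finset.sum_involution (fun q _ => (q.2, q.1)) ?_ ?_ ?_ ?_
  · rintro ⟨i, j⟩ hq
    rw [Finset.mem_product] at hq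
    rw [hsym i hq.1 j hq.2]
    exact CharTwo.add_self_eq_zero _
  · rintro ⟨i, j⟩ hq hne heq
    rw [Finset.mem_product] at hq
    obtain rfl : j = i := congrArg Prod.fst heq
    exact hne (by rw [hdiag j hq.1, Int.cast_zero])
  · rintro ⟨i, j⟩ hq
    rw [Finset.mem_product] at hq ⊢
    exact ⟨hq.2, hq.1⟩
  · exact fun _ _ => rfl

end Cfsg.Lib.Block

namespace Cfsg.Lib.Block

open Cfsg
open scoped ComplexConjugate

universe v

variable {M : Ideal AlgInt} {G : Type v} [Group G] [Fintype G] (hM : IsPModular 2 M)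
  {H : Subgroup G} [Fintype H] {u : G} {b : Set (IrrCharacter H)} {B : Set (IrrCharacter G)}

open Classical in
include hM in
/-- An odd integer `μ` bounding the number of height zero characters in both directions. -/
theorem exists_odd_bound (hu : ∃ k : ℕ, orderOf u = 2 ^ k) (hHu : ∀ h : H, Commute u (h : G))
    (hCH : Subgroup.centralizer ({u} : Set G) ≤ H) (hind : IsInducedBlock M H b B) {d : ℕ}
    (hbd : blockDefect 2 b = d)
    (hne : (B.toFinset.filter fun χ : IrrCharacter G => blockHeight 2 B (χ : G → ℂ) = 0).Nonempty) :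
    ∃ μ : ℕ, Odd μ ∧
      (B.toFinset.filter fun χ : IrrCharacter G => blockHeight 2 B (χ : G → ℂ) = 0).card * μ ≤
        2 ^ d * blockRank 2 b ∧
      (B.toFinset.filter fun χ : IrrCharacter G => blockHeight 2 B (χ : G → ℂ) = 0).card + μ ^ 2 ≤
        2 ^ d * μ + 1 := by
  haveI : Fact (Nat.Prime 2) := ⟨Nat.prime_two⟩
  set B₀ := B.toFinset.filter fun χ : IrrCharacter G => blockHeight 2 B (χ : G → ℂ) = 0 with hB₀
  have huH : u ∈ H := hCH (Subgroup.mem_centralizer_iff.2 fun z hz => by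
    rw [Set.mem_singleton_iff] at hz; rw [hz])
  obtain ⟨e, he⟩ := hu
  haveI := Char.finiteDimensional_cycField (2 ^ e)
  choose c hc hcχ using fun (χ : IrrCharacter G) (ξ : IrrCharacter H) =>
    classInner_secFn huH hHu χ ξ
  have hnat : ∀ (χ : IrrCharacter G) (ξ : IrrCharacter H),
      ∃ n : ℕ, classInner (fun h : H => (χ : G → ℂ) h) (ξ : H → ℂ) = n :=
    fun χ ξ => (χ.2.isCharacter.comp H.subtype).exists_nat_classInner ξ.2.isCharacter
  choose n hn using hnat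
  obtain ⟨m, hm⟩ := exists_regForm hM hind.1
  have hcK : ∀ χ η ξ ξ', (c χ ξ * conj (c η ξ')) ^ (2 ^ e) = 1 := fun χ η ξ ξ' => by
    rw [mul_pow, ← map_pow, ← he, hc, hc, map_one, mul_one]
  let r : IrrCharacter G → IrrCharacter G → IrrCharacter H → IrrCharacter H →
      Char.cycField (2 ^ e) := fun χ η ξ ξ' => ⟨_, Char.mem_cycField (hcK χ η ξ ξ')⟩
  let a : IrrCharacter G → IrrCharacter G → IrrCharacter H → IrrCharacter H → ℤ :=
    fun χ η ξ ξ' => (n χ ξ : ℤ) * n η ξ' * m ξ ξ'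
  let z : IrrCharacter G → IrrCharacter G → Char.cycField (2 ^ e) := fun χ η =>
    ∑ ξ ∈ b.toFinset, ∑ ξ' ∈ b.toFinset, (a χ η ξ ξ' : Char.cycField (2 ^ e)) * r χ η ξ ξ'
  have hz : ∀ χ η, (z χ η : ℂ) = contr 2 d u b χ η := by
    intro χ η
    rw [contr_eq_sum hM hind.1 d hbd]
    simp only [z, a, r]
    push_cast
    refine Finset.sum_congr rfl fun ξ hξ => Finset.sum_congr rfl fun ξ' hξ' => ?_
    rw [hcχ, hcχ, hn, hn, map_mul, map_natCast,
      hm.eq ξ (Set.mem_toFinset.1 hξ) ξ' (Set.mem_toFinset.1 hξ')]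
    ring
  have hzint : ∀ χ η, IsIntegral ℤ (z χ η : ℂ) := by
    intro χ η
    simp only [z]
    push_cast
    exact IsIntegral.sum _ fun ξ _ => IsIntegral.sum _ fun ξ' _ =>
      (isIntegral_intCast _).mul
        (IsIntegral.of_pow (pow_pos two_pos e) (by
          show IsIntegral ℤ ((c χ ξ * conj (c η ξ')) ^ (2 ^ e))
          rw [hcK χ η ξ ξ']; exact isIntegral_one))
  set k := Fintype.card (Char.cycField (2 ^ e) →ₐ[ℚ] ℂ) with hk
  haveI : Nonempty (Char.cycField (2 ^ e) →ₐ[ℚ] ℂ) := ⟨(Char.cycField (2 ^ e)).val⟩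
  have hk0 : (0 : ℝ) < k := by rw [hk]; exact_mod_cast Fintype.card_pos
  let μ : IrrCharacter G → ℤ := fun χ =>
    ∑ ξ ∈ b.toFinset, ∑ ξ' ∈ b.toFinset, a χ χ ξ ξ' * signTrace (r χ χ ξ ξ' : ℂ)
  have htr : ∀ χ, ∑ σ : Char.cycField (2 ^ e) →ₐ[ℚ] ℂ, σ (z χ χ) = (k : ℂ) * (μ χ : ℂ) := by
    intro χ
    simp only [z, μ, map_sum, map_mul, map_intCast]
    rw [Finset.sum_comm, Int.cast_sum, Finset.mul_sum]
    refine Finset.sum_congr rfl fun ξ _ => ?_
    rw [Finset.sum_comm, Int.cast_sum, Finset.mul_sum]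
    refine Finset.sum_congr rfl fun ξ' _ => ?_
    rw [← Finset.mul_sum, sum_embeddings_root (r χ χ ξ ξ') (hcK χ χ ξ ξ')]
    push_cast
    ring
  have hzne : ∀ χ ∈ B₀, ∀ η ∈ B₀, z χ η ≠ 0 := by
    intro χ hχ η hη h
    rw [hB₀, Finset.mem_filter, Set.mem_toFinset] at hχ hη
    refine contr_not_mem hM ⟨e, he⟩ hHu hCH hind hbd hχ.1 hη.1 hχ.2 hη.2 ?_
    rw [← hz χ η, h]
    simpa using memLocalIdeal_zero (M := M) hM
  have hodd : ∀ χ ∈ B₀, Odd (μ χ) := by
    intro χ hχ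
    rw [hB₀, Finset.mem_filter, Set.mem_toFinset] at hχ
    set S : ℤ := ∑ ξ ∈ b.toFinset, ∑ ξ' ∈ b.toFinset, a χ χ ξ ξ' with hS
    have hS' : MemLocalIdeal M (contr 2 d u b χ χ - (S : ℂ)) := by
      rw [← hz χ χ]
      simp only [z, hS]
      push_cast
      rw [← Finset.sum_sub_distrib]
      refine memLocalIdeal_sum hM _ _ fun ξ _ => ?_
      rw [← Finset.sum_sub_distrib]
      refine memLocalIdeal_sum hM _ _ fun ξ' _ => ?_
      rw [← mul_sub_one]
      exact memLocalIdeal_mul_left hM (intCast_mem _ _)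
        (memLocalIdeal_sub_one_of_pow_prime_pow hM (k := e) (hcK χ χ ξ ξ'))
    have hSo : Odd S := by
      rw [← Int.not_even_iff_odd]
      intro hev
      obtain ⟨t, ht⟩ := hev.two_dvd
      refine contr_not_mem hM ⟨e, he⟩ hHu hCH hind hbd hχ.1 hχ.1 hχ.2 hχ.2 ?_
      have h2 : MemLocalIdeal M (S : ℂ) := by
        rw [ht, Int.cast_mul, Int.cast_ofNat]
        exact memLocalIdeal_mul_right hM ((memLocalIdeal_natCast_iff hM 2).2 dvd_rfl)
          (intCast_mem _ _)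
      simpa using memLocalIdeal_add hM hS' h2
    have hev : Even (∑ ξ ∈ b.toFinset, ∑ ξ' ∈ b.toFinset,
        a χ χ ξ ξ' * (1 - signTrace (r χ χ ξ ξ' : ℂ))) := by
      refine even_sum_symm _ _ (fun ξ hξ ξ' hξ' => ?_) (fun ξ hξ => ?_)
      · have e1 : (r χ χ ξ' ξ : ℂ) = conj (r χ χ ξ ξ' : ℂ) := by simp [r, mul_comm]
        rw [e1, signTrace_conj]
        simp only [a]
        rw [hm.symm ξ (Set.mem_toFinset.1 hξ) ξ' (Set.mem_toFinset.1 hξ')]
        ring
      · have e1 : (r χ χ ξ ξ : ℂ) = 1 := by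
          simp only [r]
          rw [Complex.mul_conj']
          have : ‖c χ ξ‖ = 1 :=
            Complex.norm_eq_one_of_pow_eq_one (hc χ ξ) (orderOf_pos u).ne'
          simp [this]
        simp [signTrace, e1]
    have e2 : μ χ = S - ∑ ξ ∈ b.toFinset, ∑ ξ' ∈ b.toFinset,
        a χ χ ξ ξ' * (1 - signTrace (r χ χ ξ ξ' : ℂ)) := by
      simp only [μ, hS, ← Finset.sum_sub_distrib]
      exact Finset.sum_congr rfl fun _ _ => Finset.sum_congr rfl fun _ _ => by ring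
    rw [e2]
    exact hSo.sub_even hev
  choose w hw hwσ using exists_conj_commute (2 ^ e)
  have hsq : ∀ χ, ∀ σ : Char.cycField (2 ^ e) →ₐ[ℚ] ℂ,
      ((2 ^ d : ℕ) : ℂ) * σ (z χ χ) = ((∑ η ∈ B.toFinset, ‖σ (z χ η)‖ ^ 2 : ℝ) : ℂ) := by
    intro χ σ
    have e1 : ∑ η ∈ B.toFinset, z χ η * w (z χ η) =
        ((2 ^ d : ℕ) : Char.cycField (2 ^ e)) * z χ χ := by
      apply Subtype.ext
      push_cast
      simp only [hw, hz, contr_conj]
      have := sum_contr_mul hM ⟨e, he⟩ hHu hCH hind d χ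
      push_cast at this
      exact this
    have h := congrArg σ e1
    rw [map_sum, map_mul, map_natCast] at h
    rw [← h]
    simp only [map_mul, hwσ, Complex.mul_conj']
    push_cast
    rfl
  have havg : ∀ χ, ∑ σ : Char.cycField (2 ^ e) →ₐ[ℚ] ℂ, (∑ η ∈ B.toFinset, ‖σ (z χ η)‖ ^ 2) =
      (2 ^ d : ℝ) * ((k : ℝ) * (μ χ : ℝ)) := by
    intro χ
    apply Complex.ofReal_injective
    rw [Complex.ofReal_sum, ← Finset.sum_congr rfl fun σ _ => hsq χ σ, ← Finset.mul_sum, htr]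
    push_cast
    ring
  have hnn : ∀ χ, 0 ≤ μ χ := by
    intro χ
    have h : (0 : ℝ) ≤ (2 ^ d : ℝ) * ((k : ℝ) * (μ χ : ℝ)) := by
      rw [← havg χ]; positivity
    have h2 : (0 : ℝ) ≤ (μ χ : ℝ) :=
      nonneg_of_mul_nonneg_right (nonneg_of_mul_nonneg_right h (by positivity)) hk0
    exact_mod_cast h2
  have hsum : ∑ χ ∈ B.toFinset, μ χ = (2 ^ d * blockRank 2 b : ℕ) := by
    have e1 : ∑ χ ∈ B.toFinset, z χ χ = ((2 ^ d * blockRank 2 b : ℕ) : Char.cycField (2 ^ e)) := by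
      apply Subtype.ext
      push_cast
      simp only [hz]
      have := sum_contr_diag hM ⟨e, he⟩ hHu hCH hind d
      push_cast at this
      exact this
    have h : ∑ σ : Char.cycField (2 ^ e) →ₐ[ℚ] ℂ, σ (∑ χ ∈ B.toFinset, z χ χ) =
        (k : ℂ) * ((∑ χ ∈ B.toFinset, μ χ : ℤ) : ℂ) := by
      simp only [map_sum]
      rw [Finset.sum_comm, Finset.sum_congr rfl fun χ _ => htr χ, ← Finset.mul_sum, Int.cast_sum]
    simp only [e1, map_natCast, Finset.sum_const, Finset.card_univ, ← hk, nsmul_eq_mul] at h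
    have h2 := mul_left_cancel₀ (by exact_mod_cast hk0.ne') h
    exact_mod_cast h2.symm
  obtain ⟨χ₀, hχ₀, hminμ⟩ := B₀.exists_min_image μ hne
  obtain ⟨v, hv⟩ := Int.eq_ofNat_of_zero_le (hnn χ₀)
  refine ⟨v, ?_, ?_, ?_⟩
  · have := hodd χ₀ hχ₀
    rw [hv] at this
    exact_mod_cast this
  · have h1 : (B₀.card : ℤ) * (v : ℤ) ≤ ∑ χ ∈ B.toFinset, μ χ := by
      calc (B₀.card : ℤ) * (v : ℤ) = ∑ _χ ∈ B₀, (v : ℤ) := by
            rw [Finset.sum_const, nsmul_eq_mul]
        _ ≤ ∑ χ ∈ B₀, μ χ := Finset.sum_le_sum fun χ hχ => hv ▸ hminμ χ hχ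
        _ ≤ ∑ χ ∈ B.toFinset, μ χ :=
          Finset.sum_le_sum_of_subset_of_nonneg (Finset.filter_subset _ _) fun χ _ _ => hnn χ
    rw [hsum] at h1
    exact_mod_cast h1
  · have hdiag : (k : ℝ) * (μ χ₀ : ℝ) ^ 2 ≤
        ∑ σ : Char.cycField (2 ^ e) →ₐ[ℚ] ℂ, ‖σ (z χ₀ χ₀)‖ ^ 2 := by
      have h1 : (k : ℝ) * (μ χ₀ : ℝ) ≤ ∑ σ : Char.cycField (2 ^ e) →ₐ[ℚ] ℂ, ‖σ (z χ₀ χ₀)‖ := by
        have h2 := norm_sum_le Finset.univ fun σ : Char.cycField (2 ^ e) →ₐ[ℚ] ℂ => σ (z χ₀ χ₀)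
        rw [htr, norm_mul, Complex.norm_natCast, Complex.norm_intCast,
          abs_of_nonneg (Int.cast_nonneg (hnn χ₀))] at h2
        exact h2
      have h3 := sq_sum_le_card_mul_sum_sq (s := Finset.univ)
        (f := fun σ : Char.cycField (2 ^ e) →ₐ[ℚ] ℂ => ‖σ (z χ₀ χ₀)‖)
      rw [Finset.card_univ, ← hk] at h3
      have h0 : (0 : ℝ) ≤ (k : ℝ) * (μ χ₀ : ℝ) :=
        mul_nonneg hk0.le (Int.cast_nonneg (hnn χ₀))
      nlinarith [mul_self_le_mul_self h0 h1]
    have hsub : insert χ₀ (B₀.erase χ₀) ⊆ B.toFinset := by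
      rw [Finset.insert_erase hχ₀]; exact Finset.filter_subset _ _
    have hlow : (k : ℝ) * (μ χ₀ : ℝ) ^ 2 + ((B₀.erase χ₀).card : ℝ) * k ≤
        (2 ^ d : ℝ) * ((k : ℝ) * (μ χ₀ : ℝ)) := by
      rw [← havg χ₀, Finset.sum_comm]
      refine le_trans ?_ (Finset.sum_le_sum_of_subset_of_nonneg hsub
        fun η _ _ => Finset.sum_nonneg fun σ _ => by positivity)
      rw [Finset.sum_insert (Finset.notMem_erase _ _)]
      refine add_le_add hdiag ?_
      rw [← nsmul_eq_mul]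
      exact Finset.card_nsmul_le_sum _ _ _ fun η hη =>
        card_le_sum_norm_sq _ (hzint χ₀ η) (hzne χ₀ hχ₀ η (Finset.mem_of_mem_erase hη))
    have hcard : (B₀.card : ℝ) = ((B₀.erase χ₀).card : ℝ) + 1 := by
      rw [← Finset.card_erase_add_one hχ₀]; push_cast; rfl
    rw [hv] at hlow
    have hfin : (B₀.card : ℝ) + (v : ℝ) ^ 2 ≤ (2 ^ d : ℝ) * v + 1 := by
      refine le_of_mul_le_mul_left ?_ hk0
      rw [hcard]
      push_cast at hlow
      linarith
    exact_mod_cast hfin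

end Cfsg.Lib.Block
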