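import Cfsg.Agent.Lib.Block.LatticeMin
import Cfsg.Agent.Lib.Block.CentralPart
import Cfsg.Agent.Lib.Block.TwoSubsection

/-!
# At most `p ^ 2` characters in a block of defect two

At a major subsection each diagonal contribution has average at least the regular rank of the
block of the centralizer.
-/

set_option autoImplicit false
set_option linter.unusedSectionVars false
set_option maxHeartbeats 800000

namespace Cfsg.Lib.Block

open Cfsg Matrix
open scoped ComplexConjugate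

universe u

/-- Twisted sums over the nontrivial powers of a root of unity of prime order. -/
theorem sum_twists {p : ℕ} [hp : Fact p.Prime] {ζ : ℂ} (hζ : IsPrimitiveRoot ζ p) {i j : ℕ}
    (hi : i < p) (hj : j < p) :
    ∑ k ∈ Finset.Ico 1 p, ζ ^ (k * i) * ζ ^ (k * ((p - 1) * j)) =
      if i = j then (p : ℂ) - 1 else -1 := by
  have hp1 := hp.out.one_le
  have hall : ∑ k ∈ Finset.range p, ζ ^ (k * i) * ζ ^ (k * ((p - 1) * j)) =
      if i = j then (p : ℂ) else 0 := by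
    have e : ∀ k, ζ ^ (k * i) * ζ ^ (k * ((p - 1) * j)) = (ζ ^ (i + (p - 1) * j)) ^ k := fun k => by
      rw [← pow_add, ← pow_mul, ← Nat.mul_add, mul_comm]
    simp only [e]
    split_ifs with h
    · subst h
      have : ζ ^ (i + (p - 1) * i) = 1 := by
        rw [hζ.pow_eq_one_iff_dvd]
        exact ⟨i, by rw [Nat.sub_mul, one_mul, Nat.add_sub_cancel' (Nat.le_mul_of_pos_left i hp.out.pos)]⟩
      simp [this]
    · have hne : ζ ^ (i + (p - 1) * j) ≠ 1 := by
        rw [Ne, hζ.pow_eq_one_iff_dvd]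
        intro hd
        apply h
        have h2 : (p : ℤ) ∣ (i : ℤ) - j := by
          have h3 : (p : ℤ) ∣ ((i + (p - 1) * j : ℕ) : ℤ) := Int.natCast_dvd_natCast.2 hd
          push_cast [Nat.cast_sub hp1] at h3
          have : (i : ℤ) - j = (i : ℤ) + ((p : ℤ) - 1) * j - (p : ℤ) * j := by ring
          rw [this]
          exact dvd_sub h3 (dvd_mul_right _ _)
        have h4 : ((i : ℤ) - j).natAbs < p := by omega
        have := Int.eq_zero_of_dvd_of_natAbs_lt_natAbs h2 (by simpa using h4)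
        omega
      rw [geom_sum_eq hne, ← pow_mul, mul_comm, pow_mul, hζ.pow_eq_one, one_pow, sub_self, zero_div]
  rw [Finset.range_eq_Ico, Finset.sum_eq_sum_Ico_succ_bot hp.out.pos] at hall
  simp only [zero_mul, pow_zero, one_mul, zero_add] at hall
  split_ifs at hall ⊢ <;> linear_combination hall

/-- Pairwise distances bound the variance. -/
theorem variance_lower {n : Type u} [Fintype n] {p : ℕ} (hp : p.Prime) (t : Fin p → n → ℤ)
    (L : ℤ) (hL : 0 ≤ L) (hpair : ∀ i j, t i ≠ t j → L ≤ ∑ φ, (t i φ - t j φ) ^ 2) {a b : Fin p}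
    (hab : t a ≠ t b) :
    ((p : ℤ) - 1) * L ≤ ∑ φ, ((p : ℤ) * ∑ i, t i φ ^ 2 - (∑ i, t i φ) ^ 2) := by
  classical
  set A := Finset.univ.filter fun i => t i = t a with hA
  set C := Finset.univ.filter fun i => ¬ t i = t a with hC
  have hAC : A.card + C.card = p := by
    rw [hA, hC, Finset.card_filter_add_card_filter_not, Finset.card_univ, Fintype.card_fin]
  have hA1 : 1 ≤ A.card := Finset.card_pos.2 ⟨a, by simp [hA]⟩
  have hC1 : 1 ≤ C.card := Finset.card_pos.2 ⟨b, by simp [hC, Ne.symm hab]⟩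
  have h2 : ∀ φ, ∑ i, ∑ j, (t i φ - t j φ) ^ 2 =
      2 * ((p : ℤ) * ∑ i, t i φ ^ 2 - (∑ i, t i φ) ^ 2) := by
    intro φ
    simp only [sub_sq, Finset.sum_add_distrib, Finset.sum_sub_distrib, Finset.sum_const,
      Finset.card_univ, Fintype.card_fin, nsmul_eq_mul, ← Finset.mul_sum, ← Finset.sum_mul]
    ring
  have h3 : 2 * ((A.card : ℤ) * C.card * L) ≤ ∑ i, ∑ j, ∑ φ, (t i φ - t j φ) ^ 2 := by
    have hnn : ∀ i j, (0 : ℤ) ≤ ∑ φ, (t i φ - t j φ) ^ 2 := fun i j =>
      Finset.sum_nonneg fun φ _ => sq_nonneg _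
    have hrow : ∀ (S T : Finset (Fin p)), (∀ i ∈ S, ∀ j ∈ T, t i ≠ t j) →
        (S.card : ℤ) * T.card * L ≤ ∑ i ∈ S, ∑ j, ∑ φ, (t i φ - t j φ) ^ 2 := by
      intro S T hST
      calc (S.card : ℤ) * T.card * L = ∑ _i ∈ S, ∑ _j ∈ T, L := by simp [mul_assoc]
        _ ≤ ∑ i ∈ S, ∑ j ∈ T, ∑ φ, (t i φ - t j φ) ^ 2 :=
          Finset.sum_le_sum fun i hi => Finset.sum_le_sum fun j hj => hpair i j (hST i hi j hj)
        _ ≤ _ := Finset.sum_le_sum fun i _ =>
          Finset.sum_le_sum_of_subset_of_nonneg (Finset.subset_univ _) fun j _ _ => hnn i j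
    rw [← Finset.sum_filter_add_sum_filter_not Finset.univ fun i => t i = t a]
    have e1 := hrow A C fun i hi j hj e => (Finset.mem_filter.1 hj).2
      (e ▸ (Finset.mem_filter.1 hi).2)
    have e2 := hrow C A fun i hi j hj e => (Finset.mem_filter.1 hi).2
      (e.trans (Finset.mem_filter.1 hj).2)
    rw [two_mul]
    exact add_le_add e1 (by linarith)
  rw [Finset.sum_congr rfl fun i _ => Finset.sum_comm, Finset.sum_comm,
    Finset.sum_congr rfl fun φ _ => h2 φ, ← Finset.mul_sum] at h3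
  have h4 : ((p : ℤ) - 1) ≤ (A.card : ℤ) * C.card := by
    have : (A.card : ℤ) + C.card = p := by exact_mod_cast hAC
    have h5 : (0 : ℤ) ≤ ((A.card : ℤ) - 1) * ((C.card : ℤ) - 1) :=
      mul_nonneg (by omega) (by omega)
    linarith
  have := mul_le_mul_of_nonneg_right h4 hL
  linarith

variable {p : ℕ} {M : Ideal AlgInt} {G : Type u} [Group G] [Fintype G] [Fact p.Prime]
  (hM : IsPModular p M)

include hM in
theorem dvd_of_memLocalIdeal_intCast {k : ℤ} (h : MemLocalIdeal M (k : ℂ)) : (p : ℤ) ∣ k := by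
  rw [Int.natCast_dvd]
  refine (memLocalIdeal_natCast_iff hM _).1 ?_
  rcases Int.natAbs_eq k with e | e
  · rw [e, Int.cast_natCast] at h
    exact h
  · rw [e, Int.cast_neg, Int.cast_natCast] at h
    have := memLocalIdeal_mul_left hM (neg_mem (one_mem _)) h
    rwa [neg_one_mul, neg_neg] at this

include hM in
/-- The congruences of rank one for an integral form at a height zero character. -/
theorem IsRegForm.rankOne {b : Set (IrrCharacter G)} {m : IrrCharacter G → IrrCharacter G → ℤ}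
    (hm : IsRegForm p b m) (hb : IsPBlock M b) {ξ₀ : IrrCharacter G} (hξ₀ : ξ₀ ∈ b)
    (h0 : blockHeight p b (ξ₀ : G → ℂ) = 0) {ξ η : IrrCharacter G} (hξ : ξ ∈ b) (hη : η ∈ b) :
    (p : ℤ) ∣ m ξ η * m ξ₀ ξ₀ - m ξ ξ₀ * m η ξ₀ := by
  refine dvd_of_memLocalIdeal_intCast hM ?_
  push_cast
  rw [← hm.eq ξ hξ η hη, ← hm.eq ξ₀ hξ₀ ξ₀ hξ₀, ← hm.eq ξ hξ ξ₀ hξ₀, ← hm.eq η hη ξ₀ hξ₀]
  have hint : ∀ {a c : IrrCharacter G}, a ∈ b → c ∈ b → regN p b a c ∈ locRing hM := by
    intro a c ha hc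
    rw [hm.eq a ha c hc]; exact intCast_mem _ _
  have hratio : ∀ {a : IrrCharacter G}, a ∈ b →
      (a : G → ℂ) 1 / (ξ₀ : G → ℂ) 1 ∈ locRing hM := by
    intro a ha
    rw [apply_one_eq_charDegree a, apply_one_eq_charDegree ξ₀]
    exact natCast_div_mem hM (charDegree_pos ξ₀).ne'
      (Or.inr (((blockHeight_eq_zero_iff hξ₀).1 h0).le.trans (minVal_le (p := p) ha)))
  have e1 := regN_sub_mem_ideal hM hb hξ₀ h0 hξ hη
  have e2 := regN_sub_mem_ideal hM hb hξ₀ h0 hξ hξ₀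
  have e3 := regN_sub_mem_ideal hM hb hξ₀ h0 hη hξ₀
  rw [div_self ξ₀.2.apply_one_ne_zero, mul_one] at e2 e3
  have := memLocalIdeal_sub hM (memLocalIdeal_sub hM
    (memLocalIdeal_mul_right hM e1 (hint hξ₀ hξ₀))
    (memLocalIdeal_mul_right hM e2 (hint hη hξ₀)))
    (memLocalIdeal_mul_left hM (mul_mem (hint hξ₀ hξ₀) (hratio hξ)) e3)
  convert this using 1
  ring

variable {H : Subgroup G} [Fintype H] {u : G} {b : Set (IrrCharacter H)}
  {B : Set (IrrCharacter G)}

open Classical in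
include hM in
/-- A block with height zero characters and a major subsection of defect two. -/
theorem card_le_sq_of_major (hu : orderOf u = p) (hHu : ∀ h : H, Commute u (h : G))
    (hCH : Subgroup.centralizer ({u} : Set G) ≤ H) (hind : IsInducedBlock M H b B)
    (hbd : blockDefect p b = 2) (hh : ∀ χ ∈ B, blockHeight p B (χ : G → ℂ) = 0) :
    Nat.card B ≤ p ^ 2 := by
  have hp := (Fact.out : p.Prime)
  have hu' : ∃ k : ℕ, orderOf u = p ^ k := ⟨1, by rw [hu, pow_one]⟩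
  have huH : u ∈ H := hCH (Subgroup.mem_centralizer_iff.2 fun z hz => by
    rw [Set.mem_singleton_iff] at hz; rw [hz])
  set zu : H := ⟨u, huH⟩ with hzu
  have hz : zu ∈ Subgroup.center H := Subgroup.mem_center_iff.2 fun g => Subtype.ext (hHu g).eq.symm
  have hzp : orderOf zu = p := by rw [hzu, Subgroup.orderOf_mk, hu]
  have hb := hind.1
  have hzero : ∀ ξ ∈ b, blockHeight p b (ξ : H → ℂ) = 0 := fun ξ hξ => by
    rcases height_le_defect_sub_two hM hb hξ with h | h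
    · exact h
    · omega
  obtain ⟨m, hm⟩ := exists_regForm hM hb
  have hmu : ∀ ξ ∈ b, ∀ η ∈ b, ¬ (p : ℤ) ∣ m ξ η := fun ξ hξ η hη h =>
    hm.not_dvd ξ hξ η hη (hzero ξ hξ) (by rwa [hzero η hη, zero_add, pow_one])
  let bb := trivPart zu b
  have hbb : ∀ φ : bb, (φ : IrrCharacter H) ∈ b := fun φ => (mem_trivPart.1 φ.2).1
  have hidem : ∀ ξ ∈ b, ∀ ξ' ∈ b, ∑ φ : bb, m ξ φ * m φ ξ' = (p : ℤ) * m ξ ξ' := by
    intro ξ hξ ξ' hξ'
    apply Int.cast_injective (α := ℂ)
    push_cast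
    rw [← hm.eq ξ hξ ξ' hξ']
    have := sum_regN_trivPart hM hz hzp hb (d := 1) (ξ' := ξ') hbd hξ
    rw [pow_one] at this
    rw [← this, ← Finset.sum_coe_sort bb]
    exact Finset.sum_congr rfl fun φ _ => by rw [hm.eq ξ hξ φ (hbb φ), hm.eq φ (hbb φ) ξ' hξ']
  obtain ⟨η₀, hη₀⟩ := nonempty_of_isPBlock hM hb
  have hne : Nonempty bb := by
    by_contra h
    rw [not_nonempty_iff] at h
    have := hidem η₀ hη₀ η₀ hη₀
    rw [Fintype.sum_empty] at this
    rcases mul_eq_zero.1 this.symm with e | e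
    · exact hp.ne_zero (by exact_mod_cast e)
    · exact hmu η₀ hη₀ η₀ hη₀ (e ▸ dvd_zero _)
  obtain ⟨φ₀⟩ := hne
  let N : Matrix bb bb ℤ := fun φ ψ => m φ ψ
  have hNsymm : Nᵀ = N := by
    funext φ ψ
    exact hm.symm φ (hbb φ) ψ (hbb ψ)
  have hNsq : N * N = (p : ℤ) • N := by
    funext φ ψ
    simp only [Matrix.mul_apply, Matrix.smul_apply, smul_eq_mul, N]
    exact hidem φ (hbb φ) ψ (hbb ψ)
  have hNdiag : ∀ φ, N φ φ ≠ p := fun φ e => hmu φ (hbb φ) φ (hbb φ) (e ▸ dvd_rfl)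
  set l := blockRank p b with hl
  have htr : N.trace = (p : ℤ) * l := by
    apply Int.cast_injective (α := ℂ)
    simp only [Matrix.trace, Matrix.diag, N]
    push_cast
    have := sum_regN_trivPart_diag hM hz hzp hb (d := 1) hbd
    rw [pow_one] at this
    rw [← this, ← Finset.sum_coe_sort bb]
    exact Finset.sum_congr rfl fun φ _ => (hm.eq φ (hbb φ) φ (hbb φ)).symm
  -- the coefficient vectors
  choose c hc hcχ using fun (χ : IrrCharacter G) (ξ : IrrCharacter H) =>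
    classInner_secFn huH hHu χ ξ
  have hnat : ∀ (χ : IrrCharacter G) (ξ : IrrCharacter H),
      ∃ n : ℕ, classInner (fun h : H => (χ : G → ℂ) h) (ξ : H → ℂ) = n :=
    fun χ ξ => (χ.2.isCharacter.comp H.subtype).exists_nat_classInner ξ.2.isCharacter
  choose n hn using hnat
  haveI : NeZero p := ⟨hp.ne_zero⟩
  set ζ : ℂ := Complex.exp (2 * Real.pi * Complex.I / (p : ℂ)) with hζdef
  have hζ : IsPrimitiveRoot ζ p := Complex.isPrimitiveRoot_exp p hp.ne_zero
  have hexp : ∀ χ ξ, ∃ i : Fin p, ζ ^ (i : ℕ) = c χ ξ := fun χ ξ => by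
    obtain ⟨i, hi, hie⟩ := hζ.eq_pow_of_pow_eq_one (hu ▸ hc χ ξ)
    exact ⟨⟨i, hi⟩, hie⟩
  choose ex hex using hexp
  let t : IrrCharacter G → Fin p → bb → ℤ := fun χ i φ =>
    ∑ ξ ∈ b.toFinset.filter (fun ξ => ex χ ξ = i), (n χ ξ : ℤ) * m ξ φ
  have hNt : ∀ χ i, N *ᵥ t χ i = (p : ℤ) • t χ i := by
    intro χ i
    funext φ
    simp only [Matrix.mulVec, dotProduct, N, t, Pi.smul_apply, smul_eq_mul, Finset.mul_sum]
    rw [Finset.sum_comm]
    refine Finset.sum_congr rfl fun ξ hξ => ?_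
    have hξb := Set.mem_toFinset.1 (Finset.mem_filter.1 hξ).1
    calc ∑ ψ : bb, m φ ψ * ((n χ ξ : ℤ) * m ξ ψ)
        = (n χ ξ : ℤ) * ∑ ψ : bb, m ξ ψ * m ψ φ := by
          rw [Finset.mul_sum]
          refine Finset.sum_congr rfl fun ψ _ => ?_
          rw [hm.symm φ (hbb φ) ψ (hbb ψ)]
          ring
      _ = _ := by rw [hidem ξ hξb φ (hbb φ)]; ring
  have htc : ∀ χ i (j : bb), (p : ℤ) ∣ t χ i j * N φ₀ φ₀ - t χ i φ₀ * N j φ₀ := by
    intro χ i j
    simp only [t, N, Finset.sum_mul, ← Finset.sum_sub_distrib]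
    refine Finset.dvd_sum fun ξ hξ => ?_
    have hξb := Set.mem_toFinset.1 (Finset.mem_filter.1 hξ).1
    rw [mul_assoc, mul_assoc, ← mul_sub]
    exact dvd_mul_of_dvd_right
      (hm.rankOne hM hb (hbb φ₀) (hzero _ (hbb φ₀)) hξb (hbb j)) _
  have hpairs : ∀ χ i j, t χ i ≠ t χ j → (p : ℤ) * l ≤ ∑ φ, (t χ i φ - t χ j φ) ^ 2 := by
    intro χ i j hij
    have h := trace_le_norm_sq p hp N hNsymm hNsq φ₀ (hmu _ (hbb φ₀) _ (hbb φ₀))
      (fun a a' => hm.rankOne hM hb (hbb φ₀) (hzero _ (hbb φ₀)) (hbb a) (hbb a'))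
      hNdiag (t χ i - t χ j) (by rw [Matrix.mulVec_sub, hNt, hNt, smul_sub])
      (fun k => by
        rw [show (t χ i - t χ j) k * N φ₀ φ₀ - (t χ i - t χ j) φ₀ * N k φ₀ =
          (t χ i k * N φ₀ φ₀ - t χ i φ₀ * N k φ₀) - (t χ j k * N φ₀ φ₀ - t χ j φ₀ * N k φ₀) by
            simp only [Pi.sub_apply]; ring]
        exact dvd_sub (htc χ i k) (htc χ j k)) (sub_ne_zero.2 hij)
    rw [htr] at h
    exact h.trans_eq (by simp [dotProduct, sq])
  -- the twisted sums
  let P : IrrCharacter G → ℕ → ℂ := fun χ k => ∑ φ : bb, ∑ i : Fin p, ∑ j : Fin p,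
    ((t χ i φ : ℂ) * (t χ j φ : ℂ)) * (ζ ^ (k * (i : ℕ)) * ζ ^ (k * ((p - 1) * (j : ℕ))))
  have hconj : ∀ j : ℕ, conj (ζ ^ j) = ζ ^ ((p - 1) * j) := by
    intro j
    have h1 : ζ ^ j * conj (ζ ^ j) = 1 :=
      conj_mul_self_of_pow_eq_one hp.ne_zero
        (by rw [← pow_mul, mul_comm, pow_mul, hζ.pow_eq_one, one_pow])
    have h2 : ζ ^ j * ζ ^ ((p - 1) * j) = 1 := by
      rw [← pow_add, show j + (p - 1) * j = p * j by
        rw [Nat.sub_mul, one_mul, Nat.add_sub_cancel' (Nat.le_mul_of_pos_left j hp.pos)],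
        pow_mul, hζ.pow_eq_one, one_pow]
    exact mul_left_cancel₀ (pow_ne_zero j (hζ.ne_zero hp.ne_zero)) (h1.trans h2.symm)
  have hP1 : ∀ χ, P χ 1 = (p : ℂ) * contr p 2 u b χ χ := by
    intro χ
    have hT : ∀ φ : bb, ∑ i : Fin p, (t χ i φ : ℂ) * ζ ^ (i : ℕ) =
        ∑ ξ ∈ b.toFinset, classInner (secFn u H (χ : G → ℂ)) (ξ : H → ℂ) * (m ξ φ : ℂ) := by
      intro φ
      simp only [t, Int.cast_sum, Finset.sum_mul]
      rw [← Finset.sum_fiberwise b.toFinset (ex χ)]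
      refine Finset.sum_congr rfl fun i _ => Finset.sum_congr rfl fun ξ hξ => ?_
      rw [hcχ, hn, ← hex χ ξ, (Finset.mem_filter.1 hξ).2]
      push_cast
      ring
    calc P χ 1 = ∑ φ : bb, (∑ i : Fin p, (t χ i φ : ℂ) * ζ ^ (i : ℕ)) *
          conj (∑ j : Fin p, (t χ j φ : ℂ) * ζ ^ (j : ℕ)) := by
          refine Finset.sum_congr rfl fun φ _ => ?_
          rw [map_sum, Finset.sum_mul_sum]
          refine Finset.sum_congr rfl fun i _ => Finset.sum_congr rfl fun j _ => ?_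
          rw [map_mul, hconj, map_intCast, one_mul, one_mul]
          ring
      _ = ∑ ξ ∈ b.toFinset, ∑ ξ' ∈ b.toFinset,
            classInner (secFn u H (χ : G → ℂ)) (ξ : H → ℂ) *
              conj (classInner (secFn u H (χ : G → ℂ)) (ξ' : H → ℂ)) *
                ((∑ φ : bb, m ξ φ * m φ ξ' : ℤ) : ℂ) := by
          simp only [hT, map_sum, map_mul, map_intCast, Finset.sum_mul_sum]
          simp only [Int.cast_sum, Int.cast_mul, Finset.mul_sum]
          rw [Finset.sum_comm]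
          refine Finset.sum_congr rfl fun ξ _ => ?_
          rw [Finset.sum_comm]
          refine Finset.sum_congr rfl fun ξ' hξ' => Finset.sum_congr rfl fun φ _ => ?_
          rw [hm.symm ξ' (Set.mem_toFinset.1 hξ') φ (hbb φ)]
          ring
      _ = _ := by
          rw [contr_eq_sum hM hb 2 hbd, Finset.mul_sum]
          refine Finset.sum_congr rfl fun ξ hξ => ?_
          rw [Finset.mul_sum]
          refine Finset.sum_congr rfl fun ξ' hξ' => ?_
          rw [hidem ξ (Set.mem_toFinset.1 hξ) ξ' (Set.mem_toFinset.1 hξ'),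
            hm.eq ξ (Set.mem_toFinset.1 hξ) ξ' (Set.mem_toFinset.1 hξ')]
          push_cast
          ring
  haveI := Char.finiteDimensional_cycField p
  have htwist : ∀ k ∈ Finset.Ico 1 p, ∑ χ ∈ B.toFinset, P χ k = ((p ^ 3 * l : ℕ) : ℂ) := by
    intro k hk
    rw [Finset.mem_Ico] at hk
    obtain ⟨σ, hσ⟩ := Char.exists_of_coprime (N := p) (k := k)
      ((hp.coprime_iff_not_dvd.2 (Nat.not_dvd_of_pos_of_lt (by omega) hk.2)).symm)
    let g : Char.cycField p := Char.cycGen p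
    let Y : IrrCharacter G → Char.cycField p := fun χ => ∑ φ : bb, ∑ i : Fin p, ∑ j : Fin p,
      ((t χ i φ : Char.cycField p) * (t χ j φ : Char.cycField p)) *
        (g ^ (i : ℕ) * g ^ ((p - 1) * (j : ℕ)))
    have hgσ : σ g = ζ ^ k := by
      rw [hσ g (by simp only [g, Char.cycGen_val]; exact hζ.pow_eq_one)]
      rfl
    have hY1 : ∀ χ, (Y χ : ℂ) = P χ 1 := by
      intro χ
      simp only [Y, P, g, one_mul]
      push_cast [Char.cycGen_val]
      rfl
    have hYk : ∀ χ, σ (Y χ) = P χ k := by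
      intro χ
      simp only [Y, P, map_sum, map_mul, map_intCast, map_pow, hgσ, ← pow_mul]
    have hsum : ∑ χ ∈ B.toFinset, Y χ = ((p ^ 3 * l : ℕ) : Char.cycField p) := by
      apply Subtype.ext
      push_cast
      simp only [hY1, hP1, ← Finset.mul_sum]
      rw [sum_contr_diag hM hu' hHu hCH hind 2]
      push_cast
      ring
    have := congrArg σ hsum
    rw [map_sum, map_natCast] at this
    simpa only [hYk] using this
  have hQ : ∀ χ, ∑ k ∈ Finset.Ico 1 p, P χ k =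
      ((∑ φ, ((p : ℤ) * ∑ i, t χ i φ ^ 2 - (∑ i, t χ i φ) ^ 2) : ℤ) : ℂ) := by
    intro χ
    simp only [P]
    rw [Finset.sum_comm, Int.cast_sum]
    refine Finset.sum_congr rfl fun φ _ => ?_
    rw [Finset.sum_comm]
    push_cast
    rw [Finset.sum_congr rfl fun i _ => Finset.sum_comm]
    simp only [← Finset.mul_sum, sum_twists hζ (Fin.is_lt _) (Fin.is_lt _), Fin.val_inj]
    rw [Finset.mul_sum, sq (∑ i : Fin p, (t χ i φ : ℂ)), Finset.sum_mul_sum,
      ← Finset.sum_sub_distrib]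
    refine Finset.sum_congr rfl fun i _ => ?_
    rw [show (p : ℂ) * (t χ i φ : ℂ) ^ 2 =
      ∑ j : Fin p, (if i = j then (p : ℂ) * ((t χ i φ : ℂ) * (t χ j φ : ℂ)) else 0) by
        simp [sq], ← Finset.sum_sub_distrib]
    refine Finset.sum_congr rfl fun j _ => ?_
    split_ifs <;> ring
  have hlow : ∀ χ ∈ B, ((p : ℤ) - 1) * ((p : ℤ) * l) ≤
      ∑ φ, ((p : ℤ) * ∑ i, t χ i φ ^ 2 - (∑ i, t χ i φ) ^ 2) := by
    intro χ hχ
    obtain ⟨a, a', haa⟩ : ∃ a a', t χ a ≠ t χ a' := by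
      by_contra hall
      simp only [not_exists, not_not] at hall
      refine contr_not_mem hM hu' hHu hCH hind hbd hχ hχ (hh χ hχ) (hh χ hχ) ?_
      have h0 : P χ 1 = 0 := by
        simp only [P, one_mul]
        refine Finset.sum_eq_zero fun φ _ => ?_
        have h1 : ∑ i : Fin p, ζ ^ (i : ℕ) = 0 := by
          rw [Fin.sum_univ_eq_sum_range fun i => ζ ^ i]
          exact hζ.geom_sum_eq_zero hp.one_lt
        calc _ = ((t χ (⟨0, hp.pos⟩ : Fin p) φ : ℂ) * (t χ (⟨0, hp.pos⟩ : Fin p) φ : ℂ)) * ((∑ i : Fin p, ζ ^ (i : ℕ)) *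
              ∑ j : Fin p, ζ ^ ((p - 1) * (j : ℕ))) := by
              rw [Finset.sum_mul_sum, Finset.mul_sum]
              refine Finset.sum_congr rfl fun i _ => ?_
              rw [Finset.mul_sum]
              exact Finset.sum_congr rfl fun j _ => by rw [hall i ⟨0, hp.pos⟩, hall j ⟨0, hp.pos⟩]
          _ = 0 := by rw [h1, zero_mul, mul_zero]
      rw [hP1] at h0
      rw [(mul_eq_zero.1 h0).resolve_left (by exact_mod_cast hp.ne_zero)]
      exact memLocalIdeal_zero hM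
    exact variance_lower hp (t χ) _ (by positivity) (hpairs χ) haa
  have htot : ∑ χ ∈ B.toFinset, (∑ φ, ((p : ℤ) * ∑ i, t χ i φ ^ 2 - (∑ i, t χ i φ) ^ 2)) =
      ((p : ℤ) - 1) * ((p : ℤ) ^ 3 * l) := by
    apply Int.cast_injective (α := ℂ)
    rw [Int.cast_sum, Finset.sum_congr rfl fun χ _ => (hQ χ).symm, Finset.sum_comm,
      Finset.sum_congr rfl htwist, Finset.sum_const, Nat.card_Ico, nsmul_eq_mul]
    push_cast [Nat.cast_sub hp.one_le]
    rfl
  have hbig := Finset.sum_le_sum (s := B.toFinset) fun χ hχ => hlow χ (Set.mem_toFinset.1 hχ)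
  rw [htot, Finset.sum_const, nsmul_eq_mul] at hbig
  have hl1 : 0 < l := by
    rw [Nat.pos_iff_ne_zero]
    intro h0
    have h2 : 0 < N φ₀ φ₀ := hm.diag_pos hM hb (hbb φ₀)
    have h3 : N φ₀ φ₀ ≤ N.trace :=
      Finset.single_le_sum (f := fun φ => N φ φ)
        (fun φ _ => (hm.diag_pos hM hb (hbb φ)).le) (Finset.mem_univ φ₀)
    rw [htr, h0] at h3
    simp only [Nat.cast_zero, mul_zero] at h3
    omega
  have hpos : (0 : ℤ) < ((p : ℤ) - 1) * ((p : ℤ) * l) := by
    refine mul_pos (sub_pos.2 (by exact_mod_cast hp.one_lt)) (mul_pos (by exact_mod_cast hp.pos) ?_)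
    exact_mod_cast hl1
  have hfin : (B.toFinset.card : ℤ) ≤ (p : ℤ) ^ 2 := by
    refine le_of_mul_le_mul_right ?_ hpos
    refine hbig.trans_eq ?_
    ring
  rw [Nat.card_eq_card_toFinset]
  exact_mod_cast hfin

end Cfsg.Lib.Block
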