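import Cfsg.Agent.Lib.Block.CoverApps
import Cfsg.Agent.Lib.Block.SubsectionApps
import Cfsg.Agent.Lib.Block.BrauerPairs
import Cfsg.Agent.Lib.Core.PSolvable
import Cfsg.Agent.Lib.Core.Cores
import Cfsg.Agent.Lib.Coprime.PGroupAction
import Cfsg.Agent.Lib.Sig.PConstrained

/-!
# Blocks over a stable character of a normal `p'`-subgroup

If the elements of order prime to `p` centralising `Q` lie in the normal `p'`-subgroup `N` and
`N Q` is normal, the characters over a stable `θ` form one block, of full defect and of principal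
type.
-/

set_option autoImplicit false
set_option linter.unusedSectionVars false
set_option maxHeartbeats 800000

namespace Cfsg.Lib.Block

open Cfsg
open scoped ComplexConjugate

universe u

variable {p : ℕ} [hp : Fact p.Prime] {M : Ideal AlgInt} {G : Type u} [Group G] [Fintype G]

theorem blockDefect_zero_of_not_dvd {A : Type u} [Group A] (hA : ¬ p ∣ Nat.card A)
    (b : Set (IrrCharacter A)) : blockDefect p b = 0 := by
  rw [blockDefect, Nat.factorization_eq_zero_of_not_dvd hA, Nat.zero_sub]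

/-- In a group of order prime to `p` blocks are single characters. -/
theorem eq_of_mem_block_of_not_dvd {A : Type u} [Group A] [Fintype A] (hM : IsPModular p M)
    (hA : ¬ p ∣ Nat.card A) {χ ψ : IrrCharacter A} (h : ψ ∈ blockOf M (χ : A → ℂ)) : ψ = χ := by
  rwa [blockOf_eq_singleton_of_full hM χ (by
    rw [Nat.factorization_eq_zero_of_not_dvd hA]; omega), Set.mem_singleton_iff] at h

/-- A subgroup of Sylow order is a Sylow subgroup. -/
theorem exists_sylow_eq {A : Type u} [Group A] [Fintype A] {D : Subgroup A}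
    (h : Nat.card D = p ^ (Nat.card A).factorization p) :
    ∃ S : Sylow p A, (S : Subgroup A) = D :=
  ⟨Sylow.ofCard D h, Sylow.coe_ofCard D h⟩

include hp in
/-- A full defect group is conjugate to every Sylow subgroup. -/
theorem sylow_isDefectGroup (hM : IsPModular p M) {B : Set (IrrCharacter G)} (hB : IsPBlock M B)
    (hd : blockDefect p B = (Nat.card G).factorization p) :
    (∀ S : Sylow p G, IsDefectGroup p M B S) ∧
      ∀ D : Subgroup G, IsDefectGroup p M B D → ∃ S : Sylow p G, D = (S : Subgroup G) := by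
  have h2 : ∀ D : Subgroup G, IsDefectGroup p M B D → ∃ S : Sylow p G, D = (S : Subgroup G) :=
    fun D hD => by
      obtain ⟨S, hS⟩ := exists_sylow_eq (p := p) (D := D) (by rw [card_defectGroup hM hB hD, hd])
      exact ⟨S, hS.symm⟩
  refine ⟨fun S => ?_, h2⟩
  obtain ⟨D, hD⟩ := exists_defectGroup hM hB
  obtain ⟨S', rfl⟩ := h2 D hD
  obtain ⟨x, hx⟩ := MulAction.exists_smul_eq G S' S
  rw [← hx, Sylow.coe_subgroup_smul]
  exact isDefectGroup_conj hM hB hD x

variable {N : Subgroup G} [hN : N.Normal] [Fintype N]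

/-- A character of `N` fixed by conjugation. -/
theorem isStable_singleton {θ : IrrCharacter N} (hθ : ∀ g : G, twistIrr N g θ = θ) :
    IsStable ({θ} : Set (IrrCharacter N)) := fun g η hη => by
  rw [Set.mem_singleton_iff] at hη ⊢
  rw [hη, hθ]

include hp in
/-- The characters over `θ` form a single block of full defect. -/
theorem single_block_over (hM : IsPModular p M) (hNp : ¬ p ∣ Nat.card N) {θ : IrrCharacter N}
    (hθ : ∀ g : G, twistIrr N g θ = θ) {Q : Subgroup G} (hQ : IsPGroup p Q)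
    (hL : (N ⊔ Q).Normal)
    (hreg : ∀ g : G, ¬ p ∣ orderOf g → g ∈ Subgroup.centralizer (Q : Set G) → g ∈ N) :
    ∃ B : Set (IrrCharacter G), IsPBlock M B ∧
      (∀ χ : IrrCharacter G, χ ∈ B ↔ classInner (fun n : N => (χ : G → ℂ) n) (θ : N → ℂ) ≠ 0) ∧
      blockDefect p B = (Nat.card G).factorization p ∧
      ∀ g : G, zc (indVec B) g = upCoeff ({θ} : Set (IrrCharacter N)) g := by
  classical
  set L : Subgroup G := N ⊔ Q with hLdef
  haveI := hL
  haveI := Fintype.ofFinite L
  have hb : IsPBlock M ({θ} : Set (IrrCharacter N)) := by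
    rw [← blockOf_eq_singleton_of_full hM θ
      (by rw [Nat.factorization_eq_zero_of_not_dvd hNp]; omega)]
    exact isPBlock_blockOf θ
  have hst := isStable_singleton hθ
  have hNL : N ≤ L := le_sup_left
  haveI : (N.subgroupOf L).Normal := hN.subgroupOf L
  haveI := Fintype.ofFinite (N.subgroupOf L)
  set e := Subgroup.subgroupOfEquivOfLe hNL with he
  have hbL := isPBlock_pullSet (M := M) e hb
  have hNLp : ¬ p ∣ Nat.card (N.subgroupOf L) := by rwa [Nat.card_congr e.toEquiv]
  have hstL : IsStable (G := L) (pullSet e ({θ} : Set (IrrCharacter N))) := by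
    intro l η hη
    obtain ⟨η', rfl⟩ : ∃ η', compIrr e η' = η := ⟨compIrr e.symm η, compIrr_compIrr_symm e η⟩
    rw [show twistIrr (N.subgroupOf L) l (compIrr e η') = compIrr e (twistIrr N (l : G) η') from
      Subtype.ext (funext fun x => rfl)]
    exact mem_pullSet.2 (hst (l : G) η' (mem_pullSet.1 hη))
  have hQL : Q ≤ L := le_sup_right
  obtain ⟨k, hk⟩ := hQ.exists_card_eq
  have hcop : N ⊓ Q = ⊥ := by
    refine Subgroup.eq_bot_of_card_eq _ (Nat.eq_one_of_dvd_coprimes ?_
      (Subgroup.card_dvd_of_le inf_le_left) (hk ▸ Subgroup.card_dvd_of_le inf_le_right))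
    exact Nat.Coprime.pow_right k ((hp.out.coprime_iff_not_dvd.2 hNp).symm)
  have hidx : (N.subgroupOf L).index = p ^ k := by
    have h1 : N.relIndex (Q ⊔ N) = N.relIndex Q := Subgroup.relIndex_sup_right Q N
    rw [sup_comm] at h1
    show N.relIndex L = _
    rw [hLdef, h1, ← Subgroup.inf_relIndex_left, inf_comm, hcop, Subgroup.relIndex_bot_left, hk]
  have hkv : (Nat.card L).factorization p = k := by
    rw [← Subgroup.index_mul_card (N.subgroupOf L),
      Nat.factorization_mul Subgroup.index_ne_zero_of_finite Nat.card_pos.ne', Finsupp.add_apply,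
      Nat.factorization_eq_zero_of_not_dvd hNLp, hidx, hp.out.factorization_pow,
      Finsupp.single_eq_same, add_zero]
  -- every block over `θ` has a defect group above a conjugate of `Q`
  have habove : ∀ (B : Set (IrrCharacter G)), IsPBlock M B → ∀ χ ∈ B,
      classInner (fun n : N => (χ : G → ℂ) n) (θ : N → ℂ) ≠ 0 →
        ∃ D : Subgroup G, IsDefectGroup p M B D ∧
          ∃ y : G, Q.map (MulAut.conj y).toMonoidHom ≤ D := by
    intro B hB χ hχ hc
    have hres : IsCharacter L (fun l : L => (χ : G → ℂ) l) := χ.2.isCharacter.comp L.subtype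
    have hc2 : classInner (fun x : N.subgroupOf L => (fun l : L => (χ : G → ℂ) l) x)
        (Char.resTo N (θ : N → ℂ) L) ≠ 0 :=
      (Char.classInner_resTo N (θ : N → ℂ) hNL (fun l : L => (χ : G → ℂ) l)).trans_ne hc
    obtain ⟨ξ, hξχ, hξθ⟩ := Char.exists_constituent_of_res (N.subgroupOf L) hres hc2
    obtain ⟨D, hD, hDL, -⟩ := exists_defectGroup_meet (N := L) hM (isPBlock_blockOf ξ) hB
      ⟨χ, hχ, ξ, self_mem_blockOf hM ξ, hξχ⟩
    refine ⟨D, hD, ?_⟩
    obtain ⟨B₁, hB₁, hcov₁, hd₁⟩ := hstL.exists_weaklyRegular hM hbL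
    have heq : blockOf M (ξ : L → ℂ) = B₁ :=
      (existsUnique_over (N.subgroupOf L) hM ⟨k, hidx⟩ hbL).unique
        ⟨isPBlock_blockOf ξ, ξ, self_mem_blockOf hM ξ, compIrr e θ,
          mem_pullSet.2 (Set.mem_singleton θ), hξθ⟩ ⟨hB₁, hcov₁⟩
    have hcard : Nat.card ((D ⊓ L).subgroupOf L) = p ^ (Nat.card L).factorization p := by
      rw [card_defectGroup hM (isPBlock_blockOf ξ) hDL, heq, hd₁,
        blockDefect_zero_of_not_dvd hNLp, hidx, hp.out.factorization_pow,
        Finsupp.single_eq_same, hkv, zero_add]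
    obtain ⟨S₁, hS₁⟩ := exists_sylow_eq (p := p) hcard
    obtain ⟨S₂, hS₂⟩ := exists_sylow_eq (p := p) (D := Q.subgroupOf L) (by
      rw [Nat.card_congr (Subgroup.subgroupOfEquivOfLe hQL).toEquiv, hk, hkv])
    obtain ⟨l, hl⟩ := MulAction.exists_smul_eq L S₂ S₁
    refine ⟨(l : G), ?_⟩
    rintro _ ⟨q, hq, rfl⟩
    have h1 : MulAut.conj l ⟨q, hQL hq⟩ ∈ (S₁ : Subgroup L) := by
      rw [← hl, Sylow.coe_subgroup_smul]
      exact Subgroup.smul_mem_pointwise_smul _ (MulAut.conj l) _
        (hS₂.symm ▸ Subgroup.mem_subgroupOf.2 hq)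
    rw [hS₁, Subgroup.mem_subgroupOf] at h1
    exact (Subgroup.mem_inf.1 h1).1
  obtain ⟨B, hB, hcov, hd⟩ := hst.exists_weaklyRegular hM hb
  have hmemB : ∀ χ ∈ B, classInner (fun n : N => (χ : G → ℂ) n) (θ : N → ℂ) ≠ 0 := by
    intro χ hχ
    obtain ⟨η, hη⟩ := Char.exists_irr_constituent_res N χ.2
    rwa [hst.overBlock hM hb hB hcov hχ η hη] at hη
  have hall : ∀ χ : IrrCharacter G,
      classInner (fun n : N => (χ : G → ℂ) n) (θ : N → ℂ) ≠ 0 → χ ∈ B := by
    intro χ hc
    by_contra hn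
    obtain ⟨χ₀, hχ₀⟩ := nonempty_of_isPBlock hM hB
    have hc₀ := hmemB χ₀ hχ₀
    haveI : Finite (ConjClasses G) := Quotient.finite _
    haveI := Fintype.ofFinite (ConjClasses G)
    have key : MemLocalIdeal M (vec (zc (indVec B)) χ₀ - vec (zc (indVec B)) χ) := by
      rw [sum_mul_char_eq (fun a x => zc_conj_invariant (indVec B) a x),
        sum_mul_char_eq (fun a x => zc_conj_invariant (indVec B) a x), ← Finset.sum_sub_distrib]
      refine memLocalIdeal_sum hM _ _ fun C _ => ?_
      rw [← mul_sub]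
      by_cases hC : C.out ∈ N
      · refine memLocalIdeal_mul_left hM (vInt_indVec hM hB _) ?_
        show MemLocalIdeal M (centralChar (χ₀ : G → ℂ) ((⟨C.out, hC⟩ : N) : G) -
          centralChar (χ : G → ℂ) ((⟨C.out, hC⟩ : N) : G))
        rw [centralChar_eq_of_constituent N hc₀, centralChar_eq_of_constituent N hc, sub_self]
        exact memLocalIdeal_zero hM
      · by_cases hsing : p ∣ orderOf C.out
        · rw [zc_indVec, blockCoeff_eq_zero_of_dvd hM (vInt_indVec hM hB) hsing, zero_mul]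
          exact memLocalIdeal_zero hM
        · have hsmall : ∀ η : IrrCharacter G,
              classInner (fun n : N => (η : G → ℂ) n) (θ : N → ℂ) ≠ 0 →
                MemLocalIdeal M (centralChar (η : G → ℂ) C.out) := by
            intro η hη
            by_contra hne
            obtain ⟨D, hD, y, hy⟩ := habove _ (isPBlock_blockOf η) η (self_mem_blockOf hM η) hη
            obtain ⟨x, hx⟩ := exists_conj_le_of_centralChar hM (isPBlock_blockOf η) hD
              (self_mem_blockOf hM η) hne default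
            refine hC ?_
            have hmem : (x * y)⁻¹ * C.out * (x * y) ∈ Subgroup.centralizer (Q : Set G) := by
              refine Subgroup.mem_centralizer_iff.2 fun q hq => ?_
              have h1 := Subgroup.mem_centralizer_iff.1
                (cenSyl_le _ _ (hx ⟨_, hy ⟨q, hq, rfl⟩, rfl⟩)) C.out rfl
              simp only [MulEquiv.coe_toMonoidHom, MulAut.conj_apply] at h1
              calc q * ((x * y)⁻¹ * C.out * (x * y))
                  = (x * y)⁻¹ * ((x * (y * q * y⁻¹) * x⁻¹) * C.out) * (x * y) := by group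
                _ = (x * y)⁻¹ * (C.out * (x * (y * q * y⁻¹) * x⁻¹)) * (x * y) := by rw [h1]
                _ = (x * y)⁻¹ * C.out * (x * y) * q := by group
            have hord : ¬ p ∣ orderOf ((x * y)⁻¹ * C.out * (x * y)) := by
              have : orderOf ((x * y)⁻¹ * C.out * (x * y)) = orderOf C.out := by
                simpa [mul_assoc] using MulEquiv.orderOf_eq (MulAut.conj (x * y)⁻¹) C.out
              rwa [this]
            simpa [mul_assoc] using hN.conj_mem _ (hreg _ hord hmem) (x * y)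
          exact memLocalIdeal_mul_left hM (vInt_indVec hM hB _)
            (memLocalIdeal_sub hM (hsmall χ₀ hc₀) (hsmall χ hc))
    rw [congrFun (vec_zc _) χ₀, congrFun (vec_zc _) χ, indVec, indVec, if_pos hχ₀, if_neg hn,
      sub_zero] at key
    exact not_memLocalIdeal_one hM key
  refine ⟨B, hB, fun χ => ⟨hmemB χ, hall χ⟩, ?_, fun g => ?_⟩
  · rw [hd, blockDefect_zero_of_not_dvd hNp, zero_add, ← Subgroup.index_mul_card N,
      Nat.factorization_mul Subgroup.index_ne_zero_of_finite Nat.card_pos.ne', Finsupp.add_apply,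
      Nat.factorization_eq_zero_of_not_dvd hNp, add_zero]
  · have hv : vec (upCoeff ({θ} : Set (IrrCharacter N))) = indVec B := by
      funext χ
      obtain ⟨n, ρ, -, hρ⟩ := χ.2
      have hρ' : ∀ g, ρ.character g = (χ : G → ℂ) g := fun g => congrFun hρ g
      have h := trace_averageOp ρ (upCoeff ({θ} : Set (IrrCharacter N))) 1
      rw [map_one, one_mul] at h
      have hv : vec (upCoeff ({θ} : Set (IrrCharacter N))) χ =
          LinearMap.trace ℂ _ (Char.averageOp ρ (upCoeff ({θ} : Set (IrrCharacter N)))) /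
            (χ : G → ℂ) 1 := by
        rw [h, vec]; simp [hρ']
      rw [hv, indVec]
      by_cases hχ : χ ∈ B
      · rw [if_pos hχ, averageOp_upCoeff (hst.overBlock hM hb hB hcov hχ) ρ hρ', ← map_one ρ,
          show LinearMap.trace ℂ _ (ρ 1) = (χ : G → ℂ) 1 from hρ' 1,
          div_self χ.2.apply_one_ne_zero]
      · rw [if_neg hχ, averageOp_restrict ρ (H := N) fun g hg => upCoeff_of_notMem hg,
          show (fun m : N => upCoeff ({θ} : Set (IrrCharacter N)) m) = zc (indVec {θ}) from
            funext fun m => upCoeff_coe m,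
          averageOp_zc_congr (ρ.comp N.subtype) (w := 0) fun η hη => ?_,
          show zc (0 : IrrCharacter N → ℂ) = 0 from funext fun m => zc_zero m]
        · simp [Char.averageOp]
        · rw [show Representation.character (ρ.comp N.subtype) = fun m : N => (χ : G → ℂ) m from
            funext fun m => hρ' m] at hη
          simp only [indVec, Pi.zero_apply, ite_eq_right_iff, one_ne_zero, imp_false,
            Set.mem_singleton_iff]
          rintro rfl
          exact hχ (hall χ hη)
    rw [← hv, zc_vec hst.isClassFunction_upCoeff]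

/-- A `p`-group fixes a conjugating element. -/
theorem isConj_centralizer_of_isConj (hNp : ¬ p ∣ Nat.card N) {R : Subgroup G} (hR : IsPGroup p R)
    {k₁ k₂ : G} (h₁ : k₁ ∈ Subgroup.centralizer (R : Set G))
    (h₂ : k₂ ∈ Subgroup.centralizer (R : Set G)) (n : N)
    (hn : (n : G) * k₁ * (n : G)⁻¹ = k₂) :
    ∃ m : N, (m : G) ∈ Subgroup.centralizer (R : Set G) ∧ (m : G) * k₁ * (m : G)⁻¹ = k₂ := by
  classical
  let X := {m : N // (m : G) * k₁ * (m : G)⁻¹ = k₂}
  have hfix : ∀ r : R, ∀ k : G, k ∈ Subgroup.centralizer (R : Set G) →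
      (r : G) * k * (r : G)⁻¹ = k := fun r k hk => by
    rw [Subgroup.mem_centralizer_iff.1 hk r r.2, mul_inv_cancel_right]
  letI : MulAction R X :=
    { smul := fun r m => ⟨MulAut.conjNormal (r : G) m.1, by
        show (r : G) * (m.1 : G) * (r : G)⁻¹ * k₁ * ((r : G) * (m.1 : G) * (r : G)⁻¹)⁻¹ = k₂
        have h := hfix r⁻¹ k₁ h₁
        simp only [Subgroup.coe_inv, inv_inv] at h
        calc (r : G) * (m.1 : G) * (r : G)⁻¹ * k₁ * ((r : G) * (m.1 : G) * (r : G)⁻¹)⁻¹
            = (r : G) * ((m.1 : G) * ((r : G)⁻¹ * k₁ * (r : G)) * (m.1 : G)⁻¹) * (r : G)⁻¹ := by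
              group
          _ = k₂ := by rw [h, m.2]; exact hfix r k₂ h₂⟩
      one_smul := fun m => Subtype.ext (Subtype.ext (by
        show ((1 : R) : G) * (m.1 : G) * ((1 : R) : G)⁻¹ = (m.1 : G)
        simp))
      mul_smul := fun r s m => Subtype.ext (Subtype.ext (by
        show ((r * s : R) : G) * (m.1 : G) * ((r * s : R) : G)⁻¹ =
          (r : G) * ((s : G) * (m.1 : G) * (s : G)⁻¹) * (r : G)⁻¹
        simp [mul_assoc])) }
  have hmod := hR.card_modEq_card_fixedPoints X
  let S : Subgroup N := (Subgroup.centralizer ({k₁} : Set G)).subgroupOf N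
  have hX : Nat.card X = Nat.card S := by
    refine Nat.card_congr
      { toFun := fun m => ⟨n⁻¹ * m.1, Subgroup.mem_subgroupOf.2
          (Subgroup.mem_centralizer_iff.2 fun z hz => ?_)⟩
        invFun := fun s => ⟨n * s.1, ?_⟩
        left_inv := fun m => Subtype.ext (mul_inv_cancel_left _ _)
        right_inv := fun s => Subtype.ext (inv_mul_cancel_left _ _) }
    · rw [Set.mem_singleton_iff] at hz
      subst hz
      show z * ((n : G)⁻¹ * (m.1 : G)) = (n : G)⁻¹ * (m.1 : G) * z
      have h3 : (n : G) * z * (n : G)⁻¹ = (m.1 : G) * z * (m.1 : G)⁻¹ := hn.trans m.2.symm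
      calc z * ((n : G)⁻¹ * (m.1 : G))
          = (n : G)⁻¹ * ((n : G) * z * (n : G)⁻¹) * (m.1 : G) := by group
        _ = (n : G)⁻¹ * ((m.1 : G) * z * (m.1 : G)⁻¹) * (m.1 : G) := by rw [h3]
        _ = (n : G)⁻¹ * (m.1 : G) * z := by group
    · have hs := Subgroup.mem_centralizer_iff.1 (Subgroup.mem_subgroupOf.1 s.2) k₁ rfl
      show (n : G) * (s.1 : G) * k₁ * ((n : G) * (s.1 : G))⁻¹ = k₂
      rw [mul_assoc (n : G), ← hs, ← hn]
      group
  have hXp : ¬ p ∣ Nat.card X :=
    hX ▸ fun h => hNp (h.trans (Subgroup.card_subgroup_dvd_card S))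
  obtain ⟨⟨m, hm⟩⟩ : Nonempty (MulAction.fixedPoints R X) := by
    by_contra he
    rw [not_nonempty_iff] at he
    rw [Nat.card_of_isEmpty (α := MulAction.fixedPoints R X)] at hmod
    exact hXp (Nat.modEq_zero_iff_dvd.1 hmod)
  refine ⟨m.1, Subgroup.mem_centralizer_iff.2 fun r hr => ?_, m.2⟩
  have h : r * (m.1 : G) * r⁻¹ = (m.1 : G) :=
    congrArg (fun t : X => ((t.1 : N) : G)) (hm ⟨r, hr⟩)
  exact mul_inv_eq_iff_eq_mul.1 h

include hp in
/-- At most one character of `C_N(R)` is selected by the idempotent of `θ`. -/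
theorem selected_unique (hM : IsPModular p M) (hNp : ¬ p ∣ Nat.card N) {θ : IrrCharacter N}
    (hθ : ∀ g : G, twistIrr N g θ = θ) {R : Subgroup G} (hR : IsPGroup p R) (C : Subgroup G)
    (hC : C = Subgroup.centralizer (R : Set G)) [Fintype (N.subgroupOf C)]
    {η η' : IrrCharacter (N.subgroupOf C)}
    (hη : MemLocalIdeal M (vec (fun k : N.subgroupOf C =>
      upCoeff ({θ} : Set (IrrCharacter N)) ((k : C) : G)) η - 1))
    (hη' : MemLocalIdeal M (vec (fun k : N.subgroupOf C =>
      upCoeff ({θ} : Set (IrrCharacter N)) ((k : C) : G)) η' - 1)) :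
    η = η' := by
  classical
  have hKp : ¬ p ∣ Nat.card (N.subgroupOf C) := fun h => hNp (h.trans
    (Subgroup.card_dvd_of_injective
      ((C.subtype.comp (N.subgroupOf C).subtype).codRestrict N fun k => k.2)
      fun a b hab => Subtype.ext (Subtype.ext (congrArg Subtype.val hab :))))
  by_contra hne
  have hb : IsPBlock M ({θ} : Set (IrrCharacter N)) := by
    rw [← blockOf_eq_singleton_of_full hM θ
      (by rw [Nat.factorization_eq_zero_of_not_dvd hNp]; omega)]
    exact isPBlock_blockOf θ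
  have hst := isStable_singleton hθ
  set a : (N.subgroupOf C) → ℂ := fun k => upCoeff ({θ} : Set (IrrCharacter N)) ((k : C) : G) with ha
  have hac : IsClassFunction (N.subgroupOf C) a := fun k x => hst.isClassFunction_upCoeff _ _
  have hai : ∀ k, a k ∈ locRing hM := fun k => upCoeff_mem_locRing hM hb _
  -- the central element separating `η` from `η'`
  have hbη : IsPBlock M (blockOf M (η : (N.subgroupOf C) → ℂ)) := isPBlock_blockOf η
  set w : (N.subgroupOf C) → ℂ := zc (indVec (blockOf M (η : (N.subgroupOf C) → ℂ))) with hw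
  have hwi : ∀ k, w k ∈ locRing hM := vInt_indVec hM hbη
  have hwc : IsClassFunction (N.subgroupOf C) w := fun k x => zc_conj_invariant _ k x
  -- its extension to `N`
  set W : N → ℂ := fun n => if h : ∃ k : (N.subgroupOf C), ∃ m : N, (m : G) * ((k : C) : G) * (m : G)⁻¹ = (n : G)
    then w h.choose else 0 with hWdef
  have hWk : ∀ (n : N) (k : (N.subgroupOf C)) (m : N), (m : G) * ((k : C) : G) * (m : G)⁻¹ = (n : G) → W n = w k := by
    intro n k m hm
    have h : ∃ k : (N.subgroupOf C), ∃ m : N, (m : G) * ((k : C) : G) * (m : G)⁻¹ = (n : G) := ⟨k, m, hm⟩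
    rw [hWdef]
    dsimp only
    rw [dif_pos h]
    obtain ⟨m', hm'⟩ := h.choose_spec
    obtain ⟨m₀, hm₀C, hm₀⟩ := isConj_centralizer_of_isConj hNp hR (k₁ := ((h.choose : C) : G))
      (k₂ := ((k : C) : G)) (hC.le (h.choose : C).2) (hC.le (k : C).2) (m⁻¹ * m') (by
        rw [Subgroup.coe_mul, Subgroup.coe_inv]
        calc (m : G)⁻¹ * (m' : G) * ((h.choose : C) : G) * ((m : G)⁻¹ * (m' : G))⁻¹
            = (m : G)⁻¹ * ((m' : G) * ((h.choose : C) : G) * (m' : G)⁻¹) * (m : G) := by group
          _ = (m : G)⁻¹ * ((m : G) * ((k : C) : G) * (m : G)⁻¹) * (m : G) := by rw [hm', hm]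
          _ = ((k : C) : G) := by group)
    rw [show k = (⟨⟨(m₀ : G), hC.ge hm₀C⟩, Subgroup.mem_subgroupOf.2 m₀.2⟩ : (N.subgroupOf C)) * h.choose * (⟨⟨(m₀ : G), hC.ge hm₀C⟩, Subgroup.mem_subgroupOf.2 m₀.2⟩ : (N.subgroupOf C))⁻¹ from
      Subtype.ext (Subtype.ext hm₀.symm), hwc]
  have hW0 : ∀ n : N, (¬ ∃ k : (N.subgroupOf C), ∃ m : N, (m : G) * ((k : C) : G) * (m : G)⁻¹ = (n : G)) →
      W n = 0 := fun n h => by rw [hWdef]; dsimp only; rw [dif_neg h]
  have hWi : ∀ n, W n ∈ locRing hM := fun n => by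
    rw [hWdef]; dsimp only
    split_ifs
    exacts [hwi _, Subring.zero_mem _]
  have hWc : IsClassFunction N W := fun n x => by
    by_cases h : ∃ k : (N.subgroupOf C), ∃ m : N, (m : G) * ((k : C) : G) * (m : G)⁻¹ = (n : G)
    · obtain ⟨k, m, hm⟩ := h
      rw [hWk n k m hm, hWk _ k (x * m) (by simp [← hm, mul_assoc])]
    · rw [hW0 n h, hW0]
      rintro ⟨k, m, hm⟩
      refine h ⟨k, x⁻¹ * m, ?_⟩
      rw [Subgroup.coe_mul, Subgroup.coe_inv]
      calc (x : G)⁻¹ * (m : G) * ((k : C) : G) * ((x : G)⁻¹ * (m : G))⁻¹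
          = (x : G)⁻¹ * ((m : G) * ((k : C) : G) * (m : G)⁻¹) * (x : G) := by group
        _ = _ := by rw [hm]; simp [mul_assoc]
  set Wf : G → ℂ := extendByZero N W with hWf
  set ω := vec W θ with hω
  have hprod : indVec ({θ} : Set (IrrCharacter N)) * vec W =
      ω • indVec ({θ} : Set (IrrCharacter N)) := by
    funext χ
    by_cases h : χ = θ
    · subst h; simp [indVec, hω]
    · simp [indVec, h]
  have hconv : ∀ g : G, ω * upCoeff ({θ} : Set (IrrCharacter N)) g =
      ∑ x, upCoeff ({θ} : Set (IrrCharacter N)) x * Wf (x⁻¹ * g) := by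
    intro g
    rw [← Finset.sum_filter_of_ne (p := (· ∈ N)) fun x _ hx => by
      by_contra hn; exact hx (by rw [upCoeff_of_notMem hn, zero_mul]),
      Finset.sum_subtype (p := fun x => x ∈ N) (F := inferInstance)
        (Finset.univ.filter (· ∈ N)) (fun x => by simp)]
    by_cases hg : g ∈ N
    · rw [show upCoeff ({θ} : Set (IrrCharacter N)) g = zc (indVec {θ}) ⟨g, hg⟩ from
        upCoeff_coe (⟨g, hg⟩ : N), ← zc_smul, ← hprod, zc_mul]
      refine Finset.sum_congr rfl fun x _ => ?_
      rw [upCoeff_coe, zc_vec hWc, hWf, Char.extendByZero_of_mem N W (N.mul_mem (N.inv_mem x.2) hg)]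
      rfl
    · rw [upCoeff_of_notMem hg, mul_zero]
      refine (Finset.sum_eq_zero fun x _ => ?_).symm
      rw [hWf, Char.extendByZero_of_notMem N W fun h => hg (by simpa using N.mul_mem x.2 h),
        mul_zero]
  have hWfinv : ∀ s ∈ R, ∀ g : G, Wf (s * g * s⁻¹) = Wf g := by
    intro s hs g
    by_cases hg : g ∈ N
    · rw [hWf, Char.extendByZero_of_mem N W hg, Char.extendByZero_of_mem N W (hN.conj_mem g hg s)]
      have hfix : ∀ k : C, s * (k : G) * s⁻¹ = (k : G) := fun k => by
        rw [Subgroup.mem_centralizer_iff.1 (hC.le k.2) s hs, mul_inv_cancel_right]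
      by_cases h : ∃ k : (N.subgroupOf C), ∃ m : N, (m : G) * ((k : C) : G) * (m : G)⁻¹ = g
      · obtain ⟨k, m, hm⟩ := h
        rw [hWk ⟨g, hg⟩ k m hm, hWk ⟨s * g * s⁻¹, hN.conj_mem g hg s⟩ k
          ⟨s * m * s⁻¹, hN.conj_mem m m.2 s⟩ (by
            show s * (m : G) * s⁻¹ * ((k : C) : G) * (s * (m : G) * s⁻¹)⁻¹ = s * g * s⁻¹
            have hk' : s⁻¹ * ((k : C) : G) * s = ((k : C) : G) := by
              conv_lhs => rw [← hfix k]
              group
            calc s * (m : G) * s⁻¹ * ((k : C) : G) * (s * (m : G) * s⁻¹)⁻¹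
                = s * ((m : G) * (s⁻¹ * ((k : C) : G) * s) * (m : G)⁻¹) * s⁻¹ := by group
              _ = s * g * s⁻¹ := by rw [hk', hm])]
      · rw [hW0 ⟨g, hg⟩ h, hW0 ⟨s * g * s⁻¹, hN.conj_mem g hg s⟩]
        rintro ⟨k, m, hm⟩
        refine h ⟨k, ⟨s⁻¹ * m * s, by simpa using hN.conj_mem m m.2 s⁻¹⟩, ?_⟩
        show s⁻¹ * (m : G) * s * ((k : C) : G) * (s⁻¹ * (m : G) * s)⁻¹ = g
        have hm2 : (m : G) * ((k : C) : G) * (m : G)⁻¹ = s * g * s⁻¹ := hm
        calc s⁻¹ * (m : G) * s * ((k : C) : G) * (s⁻¹ * (m : G) * s)⁻¹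
            = s⁻¹ * ((m : G) * (s * ((k : C) : G) * s⁻¹) * (m : G)⁻¹) * s := by group
          _ = s⁻¹ * (s * g * s⁻¹) * s := by rw [hfix k, hm2]
          _ = g := by group
    · rw [hWf, Char.extendByZero_of_notMem N W hg, Char.extendByZero_of_notMem N W fun h => hg (by
        simpa [mul_assoc] using hN.conj_mem _ h s⁻¹)]
  have hsmall : ∀ k : (N.subgroupOf C), MemLocalIdeal M (ω * a k - zc (vec a * vec w) k) := by
    intro k
    have hint : ∀ x : G, upCoeff ({θ} : Set (IrrCharacter N)) x * Wf (x⁻¹ * ((k : C) : G)) ∈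
        locRing hM := fun x => by
      refine Subring.mul_mem _ (upCoeff_mem_locRing hM hb x) ?_
      by_cases hx : x⁻¹ * ((k : C) : G) ∈ N
      · rw [hWf, Char.extendByZero_of_mem N W hx]; exact hWi _
      · rw [hWf, Char.extendByZero_of_notMem N W hx]; exact Subring.zero_mem _
    have hinv : ∀ s ∈ R, ∀ x : G,
        upCoeff ({θ} : Set (IrrCharacter N)) (s * x * s⁻¹) *
            Wf ((s * x * s⁻¹)⁻¹ * ((k : C) : G)) =
          upCoeff ({θ} : Set (IrrCharacter N)) x * Wf (x⁻¹ * ((k : C) : G)) := by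
      intro s hs x
      have hk' := Subgroup.mem_centralizer_iff.1 (hC.le (k : C).2) s hs
      rw [hst.isClassFunction_upCoeff x s, show (s * x * s⁻¹)⁻¹ * ((k : C) : G) =
          s * (x⁻¹ * ((k : C) : G)) * s⁻¹ by
        calc (s * x * s⁻¹)⁻¹ * ((k : C) : G) = s * x⁻¹ * (s⁻¹ * ((k : C) : G)) := by group
          _ = s * x⁻¹ * (((k : C) : G) * s⁻¹) := by
              congr 1
              rw [eq_mul_inv_iff_mul_eq, mul_assoc, ← hk', inv_mul_cancel_left]
          _ = _ := by group, hWfinv s hs]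
    have hK' : ∀ j : (N.subgroupOf C), j⁻¹ * k ∈ (⊤ : Subgroup (N.subgroupOf C)) := fun j => Subgroup.mem_top _
    rw [← res_eq_iff hM (Subring.mul_mem _ (apply_mem_locRing hM (vInt_vec (hM := hM) hWc hWi) θ)
        (hai k)) (vInt_mul hM (vInt_vec (hM := hM) hac hai) (vInt_vec (hM := hM) hwc hwi) k),
      ha, show ω * upCoeff ({θ} : Set (IrrCharacter N)) ((k : C) : G) = _ from hconv _,
      res_sum_centralizer hM R hR
        (fun x => upCoeff ({θ} : Set (IrrCharacter N)) x * Wf (x⁻¹ * ((k : C) : G))) hint hinv,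
      zc_mul, res_sum hM _ _ fun j _ => by
        rw [zc_vec hac, zc_vec hwc]; exact Subring.mul_mem _ (hai j) (hwi _)]
    symm
    refine Finset.sum_bij_ne_zero (fun j _ _ => ((j : C) : G))
      (fun j _ _ => Finset.mem_filter.2 ⟨Finset.mem_univ _, hC.le (j : C).2⟩)
      (fun a₁ _ _ a₂ _ _ h => Subtype.ext (Subtype.ext h)) (fun x hx hne' => ?_) fun j _ _ => ?_
    · have hxN : x ∈ N := by
        by_contra hn
        rw [upCoeff_of_notMem hn, zero_mul, res_zero] at hne'
        exact hne' rfl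
      refine ⟨⟨⟨x, hC.ge (Finset.mem_filter.1 hx).2⟩, Subgroup.mem_subgroupOf.2 hxN⟩, Finset.mem_univ _, ?_, rfl⟩
      intro h0
      refine hne' ?_
      rw [← h0, zc_vec hac, zc_vec hwc]
      congr 1
      show _ = a _ * w _
      congr 1
      rw [hWf, Char.extendByZero_of_mem N W (N.mul_mem (N.inv_mem hxN) (show ((k : C) : G) ∈ N from k.2))]
      exact hWk _ ((⟨⟨x, hC.ge (Finset.mem_filter.1 hx).2⟩, Subgroup.mem_subgroupOf.2 hxN⟩ : (N.subgroupOf C))⁻¹ * k) 1 (by simp)
    · rw [zc_vec hac, zc_vec hwc]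
      congr 1
      show a j * w (j⁻¹ * k) = _
      congr 1
      rw [hWf, Char.extendByZero_of_mem N W (N.mul_mem (N.inv_mem (show ((j : C) : G) ∈ N from j.2))
        (show ((k : C) : G) ∈ N from k.2))]
      exact (hWk _ (j⁻¹ * k) 1 (by simp)).symm
  have hv : ∀ ξ : IrrCharacter (N.subgroupOf C), MemLocalIdeal M (ω * vec a ξ - vec a ξ * vec w ξ) := fun ξ => by
    have h := apply_mem_ideal hM (v := ω • vec a - vec a * vec w) (fun k => by
      rw [zc_sub, zc_smul, zc_vec hac]; exact hsmall k) ξ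
    simpa using h
  have hval : ∀ ξ : IrrCharacter (N.subgroupOf C), MemLocalIdeal M (vec a ξ - 1) →
      MemLocalIdeal M (vec w ξ - ω) := fun ξ hξ => by
    have hu : ¬ MemLocalIdeal M (vec a ξ) := fun h => not_memLocalIdeal_one hM (by
      simpa using memLocalIdeal_sub hM h hξ)
    have h := hv ξ
    rw [mul_comm ω, ← mul_sub, memLocalIdeal_mul_iff hM
      (apply_mem_locRing hM (vInt_vec (hM := hM) hac hai) ξ)
      (sub_mem (apply_mem_locRing hM (vInt_vec (hM := hM) hWc hWi) θ)
        (apply_mem_locRing hM (vInt_vec (hM := hM) hwc hwi) ξ))] at h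
    simpa using memLocalIdeal_neg hM (h.resolve_left hu)
  have h := memLocalIdeal_sub hM (hval η hη) (hval η' hη')
  rw [sub_sub_sub_cancel_right, hw, congrFun (vec_zc _) η, congrFun (vec_zc _) η', indVec, indVec,
    if_pos (self_mem_blockOf hM η),
    if_neg (fun hm => hne (eq_of_mem_block_of_not_dvd hM hKp hm).symm), sub_zero] at h
  exact not_memLocalIdeal_one hM h

end Cfsg.Lib.Block
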