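import Cfsg.Agent.Lib.Block.PrincipalCover
import Cfsg.Agent.Lib.Block.FongPrincipalType
import Cfsg.Agent.Lib.Block.DefectLocal

/-!
# Centralizers of large subgroups in groups with few blocks of large defect
-/

set_option autoImplicit false
set_option linter.unusedSectionVars false

namespace Cfsg.Lib.Block

open Cfsg

universe u

variable {p : ℕ} {M : Ideal AlgInt} {G : Type u} [Group G] [Fintype G] [Fact p.Prime]

/-- A normal `p`-subgroup is no larger than a defect group. -/
theorem card_le_pow_blockDefect_of_normal (hM : IsPModular p M) {Q : Subgroup G} [Q.Normal]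
    (hQ : IsPGroup p Q) {B : Set (IrrCharacter G)} (hB : IsPBlock M B) :
    Nat.card Q ≤ p ^ blockDefect p B := by
  obtain ⟨D, hD⟩ := exists_defectGroup hM hB
  obtain ⟨g, hg, -⟩ := isDefectGroup_iff.1 hD
  have hgC : g ∈ Subgroup.centralizer (Q : Set G) := by
    by_contra h
    exact hg.2.1 (blockCoeff_eq_zero_of_notMem hM hQ hB h ▸ memLocalIdeal_zero hM)
  obtain ⟨x, hx⟩ := (exists_coeff_iff_conj_le hM hB hD hQ).1 ⟨g, hgC, hg.2.1⟩
  have := Subgroup.card_le_of_le hx
  rwa [Subgroup.card_map_of_injective (MulEquiv.injective _), card_defectGroup hM hB hD] at this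

/-- A group with one block has no nontrivial normal subgroup of order prime to `p`. -/
theorem eq_bot_of_single_block (hM : IsPModular p M)
    (hone : ∀ B : Set (IrrCharacter G), IsPBlock M B → B = principalBlock M G) {N : Subgroup G}
    [N.Normal] (hN : ¬ p ∣ Nat.card N) : N = ⊥ := by
  classical
  haveI := Fintype.ofFinite N
  have hall : ∀ θ : IrrCharacter N, θ = trivChar N := fun θ => by
    obtain ⟨χ, hχ⟩ := Char.exists_constituent (Char.isCharacter_indFun N θ.2.isCharacter) (by
      rw [Char.indFun_apply_one]
      exact mul_ne_zero (Nat.cast_ne_zero.2 Subgroup.index_ne_zero_of_finite)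
        θ.2.apply_one_ne_zero)
    have hχ' : classInner (fun n : N => (χ : G → ℂ) n) (θ : N → ℂ) ≠ 0 := fun h => hχ (by
      rw [Char.classInner_indFun N θ χ.2.isClassFunction, ← Char.classInner_conj_symm, h, map_zero])
    have hχB : χ ∈ principalBlock M G := by
      rw [← hone _ (isPBlock_blockOf χ)]
      exact self_mem_blockOf hM χ
    exact eq_of_mem_block_of_not_dvd hM hN (principal_constituent_mem N hM hχB hχ')
  haveI : Subsingleton (IrrCharacter N) := ⟨fun a b => (hall a).trans (hall b).symm⟩
  haveI : Finite (ConjClasses N) := Quotient.finite _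
  have h1 : Nat.card (ConjClasses N) ≤ 1 := by
    rw [← Char.card_irr_eq_card_conjClasses]
    exact Finite.card_le_one_iff_subsingleton.2 inferInstance
  haveI : Subsingleton (ConjClasses N) := Finite.card_le_one_iff_subsingleton.1 h1
  refine (Subgroup.eq_bot_iff_forall N).2 fun n hn => ?_
  have h2 : IsConj (1 : N) ⟨n, hn⟩ := ConjClasses.mk_eq_mk_iff_isConj.1 (Subsingleton.elim _ _)
  exact congrArg Subtype.val (isConj_one_right.1 h2)

/-- If every nonprincipal block has defect below `r`, the centralizer of an abelian subgroup of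
order `p ^ r` has only the principal block. -/
theorem single_block_centralizer (hM : IsPModular p M) {r : ℕ}
    (hdef : ∀ B : Set (IrrCharacter G), IsPBlock M B → B ≠ principalBlock M G → blockDefect p B < r)
    {F : Subgroup G} [Fintype (Subgroup.centralizer (F : Set G))] (hFC : F ≤ Subgroup.centralizer (F : Set G))
    (hF : Nat.card F = p ^ r) :
    ∀ b : Set (IrrCharacter (Subgroup.centralizer (F : Set G))), IsPBlock M b →
      b = principalBlock M (Subgroup.centralizer (F : Set G)) := by
  intro b hb
  have hFp : IsPGroup p F := IsPGroup.of_card hF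
  obtain ⟨B, hind⟩ := exists_isInducedBlock hM hFp hFC le_rfl
    (Subgroup.centralizer_le_normalizer _) hb
  haveI : (F.subgroupOf (Subgroup.centralizer (F : Set G))).Normal := ⟨fun x hx g => by
    rw [Subgroup.mem_subgroupOf] at hx ⊢
    have h := Subgroup.mem_centralizer_iff.1 g.2 (x : G) hx
    have e : ((g * x * g⁻¹ : Subgroup.centralizer (F : Set G)) : G) = (x : G) := by
      push_cast
      rw [← h, mul_inv_cancel_right]
    rw [e]
    exact hx⟩
  have hFp' : IsPGroup p (F.subgroupOf (Subgroup.centralizer (F : Set G))) := IsPGroup.of_card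
    ((Nat.card_congr (Subgroup.subgroupOfEquivOfLe hFC).toEquiv).trans hF)
  have h1 : r ≤ blockDefect p b := by
    have := card_le_pow_blockDefect_of_normal hM hFp' hb
    rw [Nat.card_congr (Subgroup.subgroupOfEquivOfLe hFC).toEquiv, hF] at this
    exact (Nat.pow_le_pow_iff_right (Fact.out : p.Prime).one_lt).1 this
  have h2 := blockDefect_le_of_induced hM hind
  have hB : B = principalBlock M G := by
    by_contra hne
    have := hdef B hind.2.1 hne
    omega
  subst hB
  exact (isInducedBlock_principal_iff hM ⟨_, hind⟩).1 hind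

end Cfsg.Lib.Block
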