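import Cfsg.Agent.Lib.Block.InflateDefect
import Cfsg.Agent.Lib.Block.SubsectionApps
import Cfsg.Agent.Lib.Char.GlaubermanSolv
import Cfsg.Agent.Lib.Char.Ito
import Cfsg.Agent.Lib.Char.Linear
import Cfsg.Agent.Lib.Core.PSolvable
import Cfsg.Agent.Lib.PGroup.NilpotentCover

/-!
# `p`-solvable groups with all degrees prime to `p`
-/

set_option autoImplicit false
set_option linter.unusedSectionVars false

namespace Cfsg.Lib.Block

open Cfsg
open scoped ComplexConjugate

universe u

variable {p : ℕ} [hp : Fact p.Prime] {G : Type u} [Group G] [Fintype G]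

/-- A subgroup meeting every class is everything. -/
theorem eq_top_of_meets_classes {A : Type u} [Group A] [Finite A] (C : Subgroup A)
    (h : ∀ a : A, ∃ c ∈ C, IsConj a c) : C = ⊤ := by
  classical
  haveI := Fintype.ofFinite A
  by_contra hne
  have hcov : (Finset.univ : Finset A) ⊆
      insert 1 ((PGroup.conjSet C).biUnion fun Q => (Finset.univ.filter fun a => a ∈ Q ∧ a ≠ 1)) := by
    intro a _
    rcases eq_or_ne a 1 with rfl | ha
    · exact Finset.mem_insert_self _ _
    obtain ⟨c, hc, hac⟩ := h a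
    obtain ⟨g, hg⟩ := isConj_iff.1 hac
    obtain ⟨Q, hQ, haQ⟩ := PGroup.exists_mem_conjSet (P := C) (g := g⁻¹) (x := a)
      (by rw [inv_inv, hg]; exact hc)
    exact Finset.mem_insert_of_mem (Finset.mem_biUnion.2 ⟨Q, hQ, Finset.mem_filter.2
      ⟨Finset.mem_univ _, haQ, ha⟩⟩)
  have hQcard : ∀ Q ∈ PGroup.conjSet C,
      (Finset.univ.filter fun a => a ∈ Q ∧ a ≠ 1).card ≤ Nat.card C - 1 := by
    intro Q hQ
    obtain ⟨c, -, rfl⟩ := Finset.mem_image.1 hQ
    rw [show (Finset.univ.filter fun a => a ∈ C.map (MulAut.conj c.out).toMonoidHom ∧ a ≠ 1) =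
        (Finset.univ.filter fun a => a ∈ C.map (MulAut.conj c.out).toMonoidHom).erase 1 from by
      ext a; simp [and_comm], Finset.card_erase_of_mem (by simp)]
    refine Nat.sub_le_sub_right (le_of_eq ?_) 1
    rw [← Fintype.card_subtype, ← Nat.card_eq_fintype_card]
    exact Subgroup.card_map_of_injective (MulAut.conj c.out).injective
  have h1 := (Finset.card_le_card hcov).trans ((Finset.card_insert_le _ _).trans
    (Nat.add_le_add_right (Finset.card_biUnion_le.trans
      ((Finset.sum_le_card_nsmul _ _ _ hQcard).trans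
        (Nat.mul_le_mul_right _ (PGroup.card_conjSet_le C)))) 1))
  rw [Finset.card_univ, ← Nat.card_eq_fintype_card, ← C.index_mul_card, Nat.mul_sub_one] at h1
  have h2 : 1 < C.index :=
    C.one_lt_index_of_ne_top hne
  have h3 : C.index ≤ C.index * Nat.card C := Nat.le_mul_of_pos_right _ Nat.card_pos
  omega

include hp in
/-- A `p`-group fixing every irreducible character of a `p'`-subgroup centralizes it. -/
theorem le_centralizer_of_fix_irr (N S : Subgroup G) [N.Normal] (hS : IsPGroup p S)
    (hN : ¬ p ∣ Nat.card N)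
    (hfix : ∀ θ : IrrCharacter N, S ≤ Char.inertia N (θ : N → ℂ)) :
    S ≤ Subgroup.centralizer (N : Set G) := by
  classical
  have hSN : S ≤ Subgroup.normalizer (N : Set G) := by rw [Subgroup.normalizer_eq_top]; exact le_top
  have hcop := Char.coprime_card_pGroup hS hN
  have hsolv : Group.IsSolvable S := by
    haveI := hS.isNilpotent
    infer_instance
  haveI : Finite (ConjClasses N) := Quotient.finite _
  haveI := Fintype.ofFinite N
  have hinv : ∀ χ : IrrCharacter N, Char.IsInvOn S N (χ : N → ℂ) := fun χ s hs g g' hg => by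
    have h := (Char.mem_inertia_iff N).1 (hfix χ hs) g
    rw [← h]
    exact congrArg _ (Subtype.ext hg)
  have hcount := Char.card_inv_eq_card_fixCl hsolv N hSN hcop
  rw [Nat.card_congr (Equiv.subtypeUnivEquiv hinv), Char.card_irr_eq_card_conjClasses] at hcount
  have hall : ∀ K : ConjClasses N, Char.IsFixCl S N K := by
    intro K
    by_contra hK
    haveI := Fintype.ofFinite (ConjClasses N)
    have : Nat.card {K : ConjClasses N // Char.IsFixCl S N K} < Nat.card (ConjClasses N) := by
      rw [Nat.card_eq_fintype_card, Nat.card_eq_fintype_card]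
      exact Fintype.card_subtype_lt hK
    omega
  have htop : (Subgroup.centralizer (S : Set G)).subgroupOf N = ⊤ := by
    refine eq_top_of_meets_classes _ fun a => ?_
    obtain ⟨c, hc, he⟩ := Char.exists_fixed_in_class hS hSN hN (hall (ConjClasses.mk a))
    exact ⟨c, Subgroup.mem_subgroupOf.2 hc, (ConjClasses.mk_eq_mk_iff_isConj.1 he).symm⟩
  rw [Subgroup.le_centralizer_iff]
  exact Subgroup.subgroupOf_eq_top.1 htop

/-- Degrees of constituents and orbit lengths divide. -/
theorem constituent_dvd (N : Subgroup G) [N.Normal] [Fintype N] (χ : IrrCharacter G)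
    (θ : IrrCharacter N) (h : classInner (fun n : N => (χ : G → ℂ) n) (θ : N → ℂ) ≠ 0) :
    charDegree (θ : N → ℂ) ∣ charDegree (χ : G → ℂ) ∧
      (Char.inertia N (θ : N → ℂ)).index ∣ charDegree (χ : G → ℂ) := by
  obtain ⟨c, hc⟩ := (χ.2.isCharacter.comp N.subtype).exists_nat_classInner θ.2.isCharacter
  have h1 := Char.clifford_degree N χ.2 θ.2 h
  rw [show classInner (fun n : N => (χ : G → ℂ) n) (θ : N → ℂ) = (c : ℂ) from hc,
    apply_one_eq_charDegree χ, apply_one_eq_charDegree θ] at h1
  have h2 : charDegree (χ : G → ℂ) =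
      c * (Char.inertia N (θ : N → ℂ)).index * charDegree (θ : N → ℂ) := by exact_mod_cast h1
  exact ⟨h2 ▸ Dvd.intro_left _ rfl,
    h2 ▸ Dvd.intro (c * charDegree (θ : N → ℂ)) (by ring)⟩

include hp in
/-- All degrees prime to `p` in a `p`-solvable group: a normal abelian Sylow subgroup. -/
theorem normal_abelian_sylow_of_degrees : ∀ (n : ℕ) (H : Type u) [Group H] [Finite H],
    Nat.card H = n → IsPSolvable p H →
      (∀ χ : IrrCharacter H, ¬ p ∣ charDegree (χ : H → ℂ)) →
        ∀ P : Sylow p H, (P : Subgroup H).Normal ∧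
          ∀ a ∈ (P : Subgroup H), ∀ b ∈ (P : Subgroup H), a * b = b * a := by
  intro n
  induction n using Nat.strong_induction_on with
  | _ n ih =>
    intro H _ _ hn hsol hdeg P
    classical
    haveI := Fintype.ofFinite H
    rcases subsingleton_or_nontrivial H with hH | hH
    · exact ⟨⟨fun x hx g => by rw [Subsingleton.elim (g * x * g⁻¹) x]; exact hx⟩,
        fun a _ b _ => Subsingleton.elim _ _⟩
    obtain ⟨N, hN⟩ := Core.exists_isMinNormal_univ (G := H)
    haveI := hN.1
    haveI := Fintype.ofFinite (H ⧸ N)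
    -- the quotient
    set π := QuotientGroup.mk' N with hπ
    set P' := P.mapSurjective (QuotientGroup.mk'_surjective N) with hP'
    obtain ⟨hP'n, hP'c⟩ := ih _ (hn ▸ Core.card_quotient_lt hN.2.1) (H ⧸ N) rfl
      (Core.isPSolvable_quotient hsol N) (fun φ => by
        have h := hdeg (infl N φ)
        rwa [show charDegree (infl N φ : H → ℂ) = charDegree (φ : H ⧸ N → ℂ) from
          charDegree_eq_of_apply_one (by
            rw [infl_coe, Function.comp_apply, QuotientGroup.mk_one, apply_one_eq_charDegree φ])] at h)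
      P'
    set L := (P' : Subgroup (H ⧸ N)).comap π with hL
    haveI hLn : L.Normal := hP'n.comap π
    have hPL : (P : Subgroup H) ≤ L := fun x hx => ⟨x, hx, rfl⟩
    by_cases hLtop : L = ⊤
    · -- the group is `P N`
      have hsup : (P : Subgroup H) ⊔ N = ⊤ := by
        rw [← hLtop, hL, hP', Sylow.coe_mapSurjective, Subgroup.comap_map_eq, QuotientGroup.ker_mk']
      rcases Core.minimal_normal_of_isPSolvable hsol hN with hNp | hNp
      · -- a `p`-group
        have htop : (P : Subgroup H) = ⊤ := by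
          have hle : N ≤ P := (Core.le_pCore' hN.1 hNp).trans (Core.pCore_le_sylow P)
          rwa [sup_eq_left.2 hle] at hsup
        have hHp : IsPGroup p H := (P.isPGroup'.of_equiv
          ((MulEquiv.subgroupCongr htop).trans Subgroup.topEquiv))
        have hlin : ∀ χ : IrrCharacter H, (χ : H → ℂ) 1 = 1 := by
          intro χ
          obtain ⟨k, hk⟩ := IsPGroup.iff_card.1 hHp
          obtain ⟨i, -, hi⟩ := (Nat.dvd_prime_pow hp.out).1 (hk ▸ charDegree_dvd_card χ)
          rcases Nat.eq_zero_or_pos i with rfl | hi0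
          · rw [apply_one_eq_charDegree χ, hi, pow_zero, Nat.cast_one]
          · exact absurd (hi ▸ dvd_pow_self p hi0.ne') (hdeg χ)
        exact ⟨htop ▸ inferInstance, fun a _ b _ => Char.comm_iff_all_linear.2 hlin a b⟩
      · -- a normal `p'`-subgroup
        haveI := Fintype.ofFinite N
        have hNd : ¬ p ∣ Nat.card N := fun h => hp.out.not_dvd_one (hNp ▸ Nat.dvd_gcd h dvd_rfl)
        have hPc : (P : Subgroup H) ≤ Subgroup.centralizer (N : Set H) := by
          refine le_centralizer_of_fix_irr N _ P.isPGroup' hNd fun θ x hx => ?_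
          obtain ⟨χ, hχ⟩ := exists_over N θ
          have hidx := (constituent_dvd N χ θ hχ).2
          have hNI : N ≤ Char.inertia N (θ : N → ℂ) := Char.le_inertia N θ.2.isClassFunction
          have h1 : (Char.inertia N (θ : N → ℂ)).index ∣ Nat.card P := by
            refine (Subgroup.index_dvd_of_le hNI).trans ?_
            rw [← Subgroup.relIndex_top_right, ← hsup, Subgroup.relIndex_sup_right]
            exact Subgroup.index_dvd_card _
          obtain ⟨k, hk⟩ := IsPGroup.iff_card.1 P.isPGroup'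
          obtain ⟨i, -, hi⟩ := (Nat.dvd_prime_pow hp.out).1 (hk ▸ h1)
          rcases Nat.eq_zero_or_pos i with rfl | hi0
          · rw [pow_zero, Subgroup.index_eq_one] at hi
            rw [hi]; exact Subgroup.mem_top x
          · exact absurd ((hi ▸ dvd_pow_self p hi0.ne' :).trans hidx) (hdeg χ)
        refine ⟨?_, fun a ha b hb => ?_⟩
        · rw [← Subgroup.normalizer_eq_top_iff, eq_top_iff, ← hsup]
          refine sup_le Subgroup.le_normalizer fun m hm => ?_
          refine Subgroup.centralizer_le_normalizer _ (Subgroup.mem_centralizer_iff.2 fun y hy => ?_)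
          exact (Subgroup.mem_centralizer_iff.1 (hPc hy) m hm).symm
        · have h1 := hP'c (π a) ⟨a, ha, rfl⟩ (π b) ⟨b, hb, rfl⟩
          rw [← map_mul, ← map_mul, hπ, QuotientGroup.mk'_apply, QuotientGroup.mk'_apply,
            QuotientGroup.eq] at h1
          have h2 : (a * b)⁻¹ * (b * a) ∈ (P : Subgroup H) :=
            Subgroup.mul_mem _ (Subgroup.inv_mem _ (Subgroup.mul_mem _ ha hb))
              (Subgroup.mul_mem _ hb ha)
          obtain ⟨k, hk⟩ := IsPGroup.iff_card.1 P.isPGroup'
          have h3 : (a * b)⁻¹ * (b * a) = 1 := by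
            have hdis := Subgroup.inf_eq_bot_of_coprime (H := (P : Subgroup H)) (K := N)
              (hk ▸ Nat.Coprime.pow_left k (hp.out.coprime_iff_not_dvd.2 hNd))
            exact Subgroup.mem_bot.1 (hdis ▸ ⟨h2, h1⟩)
          exact inv_mul_eq_one.1 h3
    · haveI := Fintype.ofFinite L
      have hLlt : Nat.card L < n := hn ▸ (Nat.lt_of_le_of_ne (Subgroup.card_le_card_group L)
        fun h => hLtop (Subgroup.eq_top_of_card_eq L h))
      obtain ⟨hn', hc'⟩ := ih _ hLlt L rfl (Core.isPSolvable_subgroup hsol L) (fun θ h => by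
        obtain ⟨χ, hχ⟩ := exists_over L θ
        exact hdeg χ (h.trans (constituent_dvd L χ θ hχ).1)) (P.subtype hPL)
      refine ⟨?_, fun a ha b hb => congrArg Subtype.val
        (hc' ⟨a, hPL ha⟩ ha ⟨b, hPL hb⟩ hb)⟩
      haveI := Sylow.characteristic_of_normal (P.subtype hPL) hn'
      have h := ConjAct.normal_of_characteristic_of_normal
        (H := L) (K := ((P.subtype hPL : Sylow p L) : Subgroup L))
      rwa [Sylow.coe_subtype, Subgroup.map_subgroupOf_eq_of_le hPL] at h

include hp in
/-- The principal block of a `p`-solvable group. -/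
theorem mem_principal_iff_core {M : Ideal AlgInt} (hM : IsPModular p M) (hsol : IsPSolvable p G)
    (χ : IrrCharacter G) : χ ∈ principalBlock M G ↔
      ∀ n ∈ pPrimeCore p G, (χ : G → ℂ) n = (χ : G → ℂ) 1 := by
  classical
  refine ⟨fun h => principal_trivial_on hM (Core.pPrimeCore_not_dvd p G) h, fun h => ?_⟩
  haveI := Fintype.ofFinite (G ⧸ pPrimeCore p G)
  obtain ⟨ψ, hψ, hψe⟩ := Char.exists_deflate_irr _ χ.2 h
  have h1 := mem_principal_of_centralizer_le hM
    (Core.pCore_isPGroup p (G ⧸ pPrimeCore p G))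
    (Core.centralizer_pCore_le_of_isPSolvable (Core.isPSolvable_quotient hsol _)
      Core.pPrimeCore_quotient_eq_bot) ⟨ψ, hψ⟩
  have h2 := sameBlock_symm hM (sameBlock_inflate hM (pPrimeCore p G) h1)
  rw [show (ψ ∘ QuotientGroup.mk : G → ℂ) = (χ : G → ℂ) from funext hψe] at h2
  exact h2

include hp in
/-- Abelian Sylow subgroups and heights in the principal block. -/
theorem comm_sylow_iff_heights {M : Ideal AlgInt} (hM : IsPModular p M) (hsol : IsPSolvable p G)
    (P : Sylow p G) : IsMulCommutative P ↔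
      ∀ χ ∈ principalBlock M G, blockHeight p (principalBlock M G) (χ : G → ℂ) = 0 := by
  classical
  set O := pPrimeCore p G with hO
  haveI := Fintype.ofFinite (G ⧸ O)
  have hmin : minVal p (principalBlock M G) = 0 := by
    refine Nat.le_zero.1 ((minVal_le (trivChar_mem_principal hM)).trans (le_of_eq ?_))
    rw [show charDegree (trivChar G : G → ℂ) = 1 from
      charDegree_eq_of_apply_one (by rw [trivChar_coe, Nat.cast_one]), Nat.factorization_one]
    rfl
  have hht : (∀ χ ∈ principalBlock M G, blockHeight p (principalBlock M G) (χ : G → ℂ) = 0) ↔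
      ∀ φ : IrrCharacter (G ⧸ O), ¬ p ∣ charDegree (φ : G ⧸ O → ℂ) := by
    have hdegeq : ∀ φ : IrrCharacter (G ⧸ O), charDegree (infl O φ : G → ℂ) =
        charDegree (φ : G ⧸ O → ℂ) := fun φ => charDegree_eq_of_apply_one (by
      rw [infl_coe, Function.comp_apply, QuotientGroup.mk_one, apply_one_eq_charDegree φ])
    constructor
    · intro h φ hd
      have h1 : infl O φ ∈ principalBlock M G := (mem_principal_iff_core hM hsol _).2 fun n hn => by
        rw [infl_coe, Function.comp_apply, Function.comp_apply, (QuotientGroup.eq_one_iff n).2 hn,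
          QuotientGroup.mk_one]
      have h2 := (blockHeight_eq_zero_iff h1).1 (h _ h1)
      rw [hmin, hdegeq] at h2
      exact absurd h2 (hp.out.factorization_pos_of_dvd (charDegree_pos φ).ne' hd).ne'
    · intro h χ hχ
      obtain ⟨ψ, hψ, hψe⟩ := Char.exists_deflate_irr O χ.2 ((mem_principal_iff_core hM hsol χ).1 hχ)
      rw [blockHeight_eq_zero_iff hχ, hmin, show χ = infl O ⟨ψ, hψ⟩ from
        Subtype.ext (funext fun x => (hψe x).symm), hdegeq,
        Nat.factorization_eq_zero_of_not_dvd (h _)]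
  rw [hht]
  set π := QuotientGroup.mk' O with hπ
  set P' := P.mapSurjective (QuotientGroup.mk'_surjective O) with hP'
  have hinj : ∀ a ∈ (P : Subgroup G), ∀ b ∈ (P : Subgroup G), π a = π b → a = b := by
    intro a ha b hb h
    rw [hπ, QuotientGroup.mk'_apply, QuotientGroup.mk'_apply, QuotientGroup.eq] at h
    obtain ⟨k, hk⟩ := IsPGroup.iff_card.1 P.isPGroup'
    have hdis := Subgroup.inf_eq_bot_of_coprime (H := (P : Subgroup G)) (K := O)
      (hk ▸ Nat.Coprime.pow_left k
        (hp.out.coprime_iff_not_dvd.2 (Core.pPrimeCore_not_dvd p G)))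
    exact inv_mul_eq_one.1 (Subgroup.mem_bot.1
      (hdis ▸ ⟨Subgroup.mul_mem _ (Subgroup.inv_mem _ ha) hb, h⟩))
  constructor
  · intro hc φ hd
    have hP'c : ∀ a ∈ (P' : Subgroup (G ⧸ O)), ∀ b ∈ (P' : Subgroup (G ⧸ O)), a * b = b * a := by
      rintro _ ⟨a, ha, rfl⟩ _ ⟨b, hb, rfl⟩
      rw [← map_mul, ← map_mul]
      exact congrArg π (congrArg Subtype.val (hc.is_comm.comm ⟨a, ha⟩ ⟨b, hb⟩))
    have hle : (P' : Subgroup (G ⧸ O)) ≤ pCore p (G ⧸ O) := fun x hx =>
      Core.centralizer_pCore_le_of_isPSolvable (Core.isPSolvable_quotient hsol O)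
        Core.pPrimeCore_quotient_eq_bot (Subgroup.mem_centralizer_iff.2 fun y hy =>
          hP'c y (Core.pCore_le_sylow P' hy) x hx)
    have heq : pCore p (G ⧸ O) = P' := le_antisymm (Core.pCore_le_sylow P') hle
    obtain ⟨m, hm⟩ := Char.degree_dvd_index_of_comm (pCore p (G ⧸ O))
      (heq ▸ hP'c) φ.2 (apply_one_eq_charDegree φ)
    refine P'.not_dvd_index ?_
    rw [← heq]
    exact hd.trans ⟨m, hm⟩
  · intro h
    obtain ⟨-, hc⟩ := normal_abelian_sylow_of_degrees _ (G ⧸ O) rfl
      (Core.isPSolvable_quotient hsol O) h P'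
    refine ⟨⟨fun a b => Subtype.ext (hinj _ (Subgroup.mul_mem _ a.2 b.2) _
      (Subgroup.mul_mem _ b.2 a.2) ?_)⟩⟩
    rw [map_mul]; refine Eq.trans ?_ (map_mul π _ _).symm
    exact hc _ ⟨_, a.2, rfl⟩ _ ⟨_, b.2, rfl⟩

end Cfsg.Lib.Block
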