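import Cfsg.Agent.Lib.Block.FongPrincipalType

/-!
# Blocks of principal type over a stable character

If `G ⧸ N` has a normal `p`-subgroup containing its centralizer and `θ` is a stable character of
the normal `p'`-subgroup `N`, the characters over `θ` form a block of principal type.
-/

set_option autoImplicit false
set_option linter.unusedSectionVars false
set_option maxHeartbeats 800000

namespace Cfsg.Lib.Block

open Cfsg
open scoped ComplexConjugate

universe u

/-- A finite-type instance for the subgroups of a finite group, local to this development. -/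
noncomputable local instance (priority := high) fintypeSubgroupStable {G : Type u} [Group G]
    [Fintype G] (H : Subgroup G) : Fintype H := Fintype.ofFinite H

variable {p : ℕ} [hp : Fact p.Prime] {M : Ideal AlgInt} {G : Type u} [Group G] [Fintype G]

theorem mem_of_pow_mem_of_not_dvd {A : Type u} [Group A] {K : Subgroup A} {g : A} {k : ℕ}
    (h : g ^ p ^ k ∈ K) (hg : ¬ p ∣ orderOf g) : g ∈ K := by
  obtain ⟨m, hm⟩ := exists_pow_eq_self_of_coprime (x := g) (n := p ^ k)
    (Nat.Coprime.pow_left k (hp.out.coprime_iff_not_dvd.2 hg))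
  rw [← hm]
  exact K.pow_mem h m

/-- An extension of a normal subgroup by a `p`-group is generated by it and a `p`-subgroup. -/
theorem exists_pGroup_sup_eq {A : Type u} [Group A] [Finite A] {K L : Subgroup A} [K.Normal]
    (hKL : K ≤ L) (hpow : ∀ l ∈ L, ∃ k : ℕ, l ^ p ^ k ∈ K) :
    ∃ Q : Subgroup A, IsPGroup p Q ∧ Q ≤ L ∧ K ⊔ Q = L := by
  obtain ⟨S⟩ : Nonempty (Sylow p L) := inferInstance
  refine ⟨(S : Subgroup L).map L.subtype, S.2.map _, Subgroup.map_subtype_le _, ?_⟩
  set Q := (S : Subgroup L).map L.subtype with hQ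
  refine le_antisymm (sup_le hKL (Subgroup.map_subtype_le _)) (Subgroup.relIndex_eq_one.1 ?_)
  have hQi : ¬ p ∣ Q.relIndex L := by
    rw [Subgroup.relIndex, Subgroup.subgroupOf, hQ,
      Subgroup.comap_map_eq_self_of_injective L.subtype_injective]
    exact S.not_dvd_index
  haveI : (K.subgroupOf L).Normal := Subgroup.Normal.subgroupOf ‹K.Normal› L
  have hq : IsPGroup p (L ⧸ K.subgroupOf L) := fun y => by
    obtain ⟨⟨l, hl⟩, rfl⟩ := QuotientGroup.mk'_surjective _ y
    obtain ⟨k, hk⟩ := hpow l hl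
    refine ⟨k, ?_⟩
    rw [← map_pow, QuotientGroup.mk'_apply, QuotientGroup.eq_one_iff, Subgroup.mem_subgroupOf]
    simpa using hk
  obtain ⟨m, hm⟩ := IsPGroup.iff_card.1 hq
  have h1 : (K ⊔ Q).relIndex L ∣ p ^ m := by
    rw [← hm]
    exact Subgroup.relIndex_dvd_of_le_left L le_sup_left
  have h2 : (K ⊔ Q).relIndex L ∣ Q.relIndex L := Subgroup.relIndex_dvd_of_le_left L le_sup_right
  refine Nat.eq_one_of_dvd_coprimes ?_ h1 h2
  exact Nat.Coprime.pow_left m (hp.out.coprime_iff_not_dvd.2 hQi)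

open Classical in
/-- A block of the centralizer of a `p`-subgroup induces `B` when the Brauer image of the
idempotent of `B` selects it. -/
theorem isInducedBlock_centralizer_iff (hM : IsPModular p M) {R : Subgroup G} (hR : IsPGroup p R)
    {B : Set (IrrCharacter G)} (hB : IsPBlock M B)
    {f : Set (IrrCharacter (Subgroup.centralizer (R : Set G)))} :
    IsInducedBlock M (Subgroup.centralizer (R : Set G)) f B ↔
      IsPBlock M f ∧ ∀ ξ ∈ f,
        res hM (brVec R (Subgroup.centralizer (R : Set G)) (indVec B) ξ) = 1 := by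
  have hHN := Subgroup.centralizer_le_normalizer (R : Set G)
  have he : ∀ (ξ : IrrCharacter (Subgroup.centralizer (R : Set G))) (g : G),
      inducedCentralChar (Subgroup.centralizer (R : Set G))
          (ξ : Subgroup.centralizer (R : Set G) → ℂ) g =
        brauerCentralChar R (Subgroup.centralizer (R : Set G))
          (ξ : Subgroup.centralizer (R : Set G) → ℂ) g := fun ξ g => by
    rw [inducedCentralChar, brauerCentralChar]
    refine finsum_mem_congr (Set.ext fun h => ?_) fun _ _ => rfl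
    simp only [Set.mem_setOf_eq]
    exact ⟨fun hh => ⟨hh, h.2⟩, fun hh => hh.1⟩
  constructor
  · rintro ⟨hf, -, h⟩
    refine ⟨hf, fun ξ hξ => ?_⟩
    obtain ⟨χ, hχ⟩ := nonempty_of_isPBlock hM hB
    exact (brRel_iff_mem hM hR le_rfl hHN ξ hB hχ).1
      ((brRel_iff_centralChar hM hR le_rfl hHN ξ χ).2 fun g => he ξ g ▸ h ξ hξ χ hχ g)
  · rintro ⟨hf, h⟩
    refine ⟨hf, hB, fun ξ hξ χ hχ g => ?_⟩
    rw [he]
    exact (brRel_iff_centralChar hM hR le_rfl hHN ξ χ).1
      ((brRel_iff_mem hM hR le_rfl hHN ξ hB hχ).2 (h ξ hξ)) g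

/-- A conjugation invariant function has equal central values at conjugate characters. -/
theorem vec_twistIrr {A : Type u} [Group A] [Fintype A] {K : Subgroup A} [hK : K.Normal]
    {a : K → ℂ} (ha : ∀ (g : A) (k : K), a ⟨g * k * g⁻¹, hK.conj_mem k k.2 g⟩ = a k) (g : A)
    (η : IrrCharacter K) : vec a (twistIrr K g η) = vec a η := by
  have h1 : (twistIrr K g η : K → ℂ) 1 = (η : K → ℂ) 1 := Char.conjTwist_apply_one K _ g
  rw [vec, vec, h1]
  congr 1
  refine Fintype.sum_equiv (MulAut.conjNormal g : K ≃* K).toEquiv _ _ fun k => ?_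
  rw [twistIrr_apply]
  exact congrArg (· * _) (ha g k).symm

/-- A function supported on a normal subgroup takes at a character the value it takes at a
constituent. -/
theorem vec_eq_vec_constituent {A : Type u} [Group A] [Fintype A] {K : Subgroup A}
    [hK : K.Normal] {f : A → ℂ} (hf : IsClassFunction A f) (hsupp : ∀ g, g ∉ K → f g = 0)
    {ξ : IrrCharacter A} {η : IrrCharacter K}
    (hc : classInner (fun k : K => (ξ : A → ℂ) k) (η : K → ℂ) ≠ 0) :
    vec f ξ = vec (fun k : K => f k) η := by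
  classical
  set c := vec (fun k : K => f k) η with hcdef
  have hres := Char.clifford_res K ξ.2 η.2 hc
  set e := classInner (fun k : K => (ξ : A → ℂ) k) (η : K → ℂ)
  have hval : ∀ φ ∈ Char.twistOrbit K (η : K → ℂ), ∑ k : K, f k * φ k = c * φ 1 := by
    intro φ hφ
    obtain ⟨g, rfl⟩ := (Char.mem_twistOrbit K).mp hφ
    have h := vec_twistIrr (a := fun k : K => f k) (fun x k => hf (k : A) x) g η
    rw [vec, div_eq_iff (twistIrr K g η).2.apply_one_ne_zero] at h
    exact h
  have hpt : ∀ k : K, (ξ : A → ℂ) k = e * ∑ φ ∈ Char.twistOrbit K (η : K → ℂ), φ k := fun k => by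
    have h := congrFun hres k
    simpa only [Pi.smul_apply, Finset.sum_apply, smul_eq_mul] using h
  have h1 := hpt 1
  rw [OneMemClass.coe_one] at h1
  rw [vec, div_eq_iff ξ.2.apply_one_ne_zero,
    ← Finset.sum_filter_of_ne (p := (· ∈ K)) fun x _ hx => by
      by_contra hn; exact hx (by rw [hsupp _ hn, zero_mul]),
    Finset.sum_subtype (p := fun x => x ∈ K) (F := inferInstance)
      (Finset.univ.filter (· ∈ K)) (fun x => by simp), h1]
  simp only [hpt, Finset.mul_sum]
  rw [Finset.sum_comm]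
  refine Finset.sum_congr rfl fun φ hφ => ?_
  rw [mul_left_comm, ← hval φ hφ, Finset.mul_sum]
  exact Finset.sum_congr rfl fun k _ => by ring

variable {N : Subgroup G} [hN : N.Normal] [Fintype N]

include hp in
/-- The block over a stable character, and its principal type. -/
theorem stable_block (hM : IsPModular p M) (hNp : ¬ p ∣ Nat.card N) {θ : IrrCharacter N}
    (hθ : ∀ g : G, twistIrr N g θ = θ) {O : Subgroup (G ⧸ N)} (hO : IsPGroup p O)
    [hOn : O.Normal]
    (hOc : Subgroup.centralizer (O : Set (G ⧸ N)) ≤ O)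
    {B : Set (IrrCharacter G)}
    (hmem : ∀ χ : IrrCharacter G,
      χ ∈ B ↔ classInner (fun n : N => (χ : G → ℂ) n) (θ : N → ℂ) ≠ 0) :
    IsPBlock M B ∧ ((∀ S : Sylow p G, IsDefectGroup p M B S) ∧
      ∀ D : Subgroup G, IsDefectGroup p M B D → ∃ S : Sylow p G, D = (S : Subgroup G)) ∧
      ∀ R : Subgroup G, IsPGroup p R →
        ∃! f : Set (IrrCharacter (Subgroup.centralizer (R : Set G))),
          IsInducedBlock M (Subgroup.centralizer (R : Set G)) f B := by
  classical
  set π := QuotientGroup.mk' N with hπ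
  set L : Subgroup G := O.comap π with hLdef
  have hNL : N ≤ L := fun n hn => by
    rw [hLdef, Subgroup.mem_comap, hπ, QuotientGroup.mk'_apply, (QuotientGroup.eq_one_iff n).2 hn]
    exact one_mem O
  have hLn : L.Normal := hOn.comap π
  have hpow : ∀ l ∈ L, ∃ k : ℕ, l ^ p ^ k ∈ N := fun l hl => by
    obtain ⟨k, hk⟩ := hO ⟨π l, hl⟩
    refine ⟨k, (QuotientGroup.eq_one_iff _).1 ?_⟩
    have := congrArg Subtype.val hk
    simpa [hπ] using this
  have hker : ∀ g : G, π g ∈ O → ¬ p ∣ orderOf g → g ∈ N := fun g hg h =>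
    (hpow g hg).elim fun k hk => mem_of_pow_mem_of_not_dvd hk h
  obtain ⟨Q, hQ, hQL, hsup⟩ := exists_pGroup_sup_eq (K := N) hNL hpow
  obtain ⟨B', hB', hmemB', hd, hzc⟩ := single_block_over hM hNp hθ hQ (hsup.symm ▸ hLn) (by
    intro g hg hgQ
    refine hker g (hOc (Subgroup.mem_centralizer_iff.2 fun y hy => ?_)) hg
    obtain ⟨l, rfl⟩ := QuotientGroup.mk'_surjective N y
    obtain ⟨n, hn, q, hq, rfl⟩ := Subgroup.mem_sup_of_normal_left.1
      (show l ∈ N ⊔ Q from hsup.symm ▸ hy)
    simp only [hπ, QuotientGroup.mk'_apply, QuotientGroup.mk_mul,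
      (QuotientGroup.eq_one_iff n).2 hn, one_mul]
    rw [← QuotientGroup.mk_mul, ← QuotientGroup.mk_mul, Subgroup.mem_centralizer_iff.1 hgQ q hq])
  obtain rfl : B = B' := Set.ext fun χ => (hmem χ).trans (hmemB' χ).symm
  have hsyl := sylow_isDefectGroup hM hB' hd
  refine ⟨hB', hsyl, fun R hR => ?_⟩
  set C := Subgroup.centralizer (R : Set G) with hC
  obtain ⟨S, hRS⟩ := hR.exists_le_sylow
  obtain ⟨f, hf⟩ := (exists_pair_iff hM hB' (hsyl.1 S) hR).2 ⟨1, by
    rintro _ ⟨r, hr, rfl⟩; simpa using hRS hr⟩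
  obtain ⟨hfpair, -, hfsel⟩ := (isBrauerPairOf_iff_brU hM B R f).1 hf
  refine ⟨f, (isInducedBlock_centralizer_iff hM hR hB').2 ⟨hfpair.2, hfsel⟩, fun f' hf' => ?_⟩
  obtain ⟨hf'b, hf'sel⟩ := (isInducedBlock_centralizer_iff hM hR hB').1 hf'
  obtain ⟨ξ, hξ⟩ := nonempty_of_isPBlock hM hfpair.2
  obtain ⟨ξ', hξ'⟩ := nonempty_of_isPBlock hM hf'b
  haveI : (N.subgroupOf C).Normal := hN.subgroupOf C
  have hb : IsPBlock M ({θ} : Set (IrrCharacter N)) := by
    rw [← blockOf_eq_singleton_of_full hM θ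
      (by rw [Nat.factorization_eq_zero_of_not_dvd hNp]; omega)]
    exact isPBlock_blockOf θ
  have hst := isStable_singleton hθ
  set a : C → ℂ := fun c => upCoeff ({θ} : Set (IrrCharacter N)) (c : G) with hadef
  have hac : IsClassFunction C a := fun c x => hst.isClassFunction_upCoeff _ _
  have ha0 : ∀ c : C, c ∉ N.subgroupOf C → a c = 0 := fun c hc => upCoeff_of_notMem hc
  have hsel : ∀ ζ : IrrCharacter C, res hM (brVec R C (indVec B) ζ) = 1 →
      ∀ η : IrrCharacter (N.subgroupOf C),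
        classInner (fun k : N.subgroupOf C => (ζ : C → ℂ) k) (η : N.subgroupOf C → ℂ) ≠ 0 →
          MemLocalIdeal M (vec (fun k : N.subgroupOf C => a k) η - 1) := by
    intro ζ hζ η hη
    have hI : ∀ c, a c ∈ locRing hM := fun c => upCoeff_mem_locRing hM hb _
    rw [← vec_eq_vec_constituent hac ha0 hη,
      ← res_eq_iff hM (apply_mem_locRing hM (vInt_vec (hM := hM) hac hI) ζ) (one_mem _), res_one,
      ← hζ, brVec]
    congr 2
    funext c
    rw [brF_of_mem c.2, hzc]
  obtain ⟨η, hη⟩ := Char.exists_irr_constituent_res (N.subgroupOf C) ξ.2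
  obtain ⟨η', hη'⟩ := Char.exists_irr_constituent_res (N.subgroupOf C) ξ'.2
  have huniq : ∀ η₁ : IrrCharacter (N.subgroupOf C),
      MemLocalIdeal M (vec (fun k : N.subgroupOf C => a k) η₁ - 1) → η₁ = η := fun η₁ h =>
    selected_unique hM hNp hθ hR C rfl h (hsel ξ (hfsel ξ hξ) η hη)
  have hinv : ∀ c : C, twistIrr (N.subgroupOf C) c η = η := fun c => huniq _ (by
    rw [vec_twistIrr (a := fun k : N.subgroupOf C => a k) fun x k => hac (k : C) x]
    exact hsel ξ (hfsel ξ hξ) η hη)
  have hK' : ¬ p ∣ Nat.card (N.subgroupOf C) := fun h => hNp (h.trans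
    (Subgroup.card_dvd_of_injective
      ((C.subtype.comp (N.subgroupOf C).subtype).codRestrict N fun k => k.2)
      fun a b hab => Subtype.ext (Subtype.ext (congrArg Subtype.val hab :))))
  obtain ⟨Q', hQ', hQ'L, hsup'⟩ := exists_pGroup_sup_eq (p := p) (K := N.subgroupOf C)
    (L := L.subgroupOf C) (fun c hc => hNL hc) fun c hc => by
      obtain ⟨k, hk⟩ := hpow (c : G) hc
      exact ⟨k, by simpa [Subgroup.mem_subgroupOf] using hk⟩
  have hcN : (Nat.card N).Coprime p := (hp.out.coprime_iff_not_dvd.2 hNp).symm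
  obtain ⟨B₁, hB₁, hmem₁, -, -⟩ := single_block_over (G := C) hM hK' hinv hQ'
    (hsup'.symm ▸ hLn.subgroupOf C) (by
      intro g hg hgQ
      have hgo : ¬ p ∣ orderOf (g : G) := by rwa [Subgroup.orderOf_coe]
      refine hker (g : G) (hOc ?_) hgo
      have hbot := Cfsg.Lib.Coprime.commutator_eq_bot_of_AxB (p := p) O (R.map π)
        (Subgroup.zpowers (π (g : G))) hO (hR.map π) ?_ ?_ ?_ ?_ ?_
      · rw [Subgroup.commutator_eq_bot_iff_le_centralizer, Subgroup.le_centralizer_iff] at hbot
        exact hbot (Subgroup.mem_zpowers _)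
      · rw [Nat.card_zpowers]
        exact (hp.out.coprime_iff_not_dvd.2
          fun h => hgo (h.trans (orderOf_map_dvd π _))).symm
      · exact (le_top : _ ≤ (⊤ : Subgroup (G ⧸ N))).trans
          (Subgroup.normalizer_eq_top_iff.2 hOn).ge
      · exact (le_top : _ ≤ (⊤ : Subgroup (G ⧸ N))).trans
          (Subgroup.normalizer_eq_top_iff.2 hOn).ge
      · rw [Subgroup.zpowers_le]
        exact Subgroup.map_centralizer_le_centralizer_image _ _ ⟨(g : G), g.2, rfl⟩
      · rw [Cfsg.Lib.Sig.centralizer_map_mk' N hcN hR]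
        rintro _ ⟨hyO, c, hc, rfl⟩
        obtain ⟨n, hn, q, hq, hnq⟩ := Subgroup.mem_sup_of_normal_left.1
          (show (⟨c, hc⟩ : C) ∈ N.subgroupOf C ⊔ Q' from hsup'.symm ▸ hyO)
        have hcq : π c = π (q : G) := by
          rw [show c = (n : G) * (q : G) from (congrArg Subtype.val hnq).symm, map_mul,
            show π (n : G) = 1 from (QuotientGroup.eq_one_iff _).2 hn, one_mul]
        rw [Subgroup.mem_centralizer_iff]
        rintro _ ⟨z, rfl⟩
        have hc0 : Commute (g : G) (q : G) :=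
          (congrArg Subtype.val (Subgroup.mem_centralizer_iff.1 hgQ q hq)).symm
        have hcomm : Commute (π (g : G)) (π (q : G)) := hc0.map π
        rw [hcq]
        exact hcomm.zpow_left z)
  have hη'η : η' = η := huniq η' (hsel ξ' (hf'sel ξ' hξ') η' hη')
  subst hη'η
  exact (isPBlock_eq_of_mem hM hf'b hB₁ hξ' ((hmem₁ ξ').2 hη')).trans
    (isPBlock_eq_of_mem hM hfpair.2 hB₁ hξ ((hmem₁ ξ).2 hη)).symm

end Cfsg.Lib.Block
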