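import Cfsg.Agent.Lib.Block.InflateRegular
import Cfsg.Agent.Lib.Block.CoverDefect
import Cfsg.Agent.Lib.Block.FongStableBlock

/-!
# Defect groups of blocks of quotient groups

A block of `G / N` contained in a block `B` has its defect groups inside the images of those of
`B`; for a normal `p`-subgroup `N` some contained block has exactly these images.
-/

set_option autoImplicit false
set_option linter.unusedSectionVars false

namespace Cfsg.Lib.Block

open Cfsg
open scoped ComplexConjugate

universe u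

variable {p : ℕ} [hp : Fact p.Prime] {M : Ideal AlgInt} {G : Type u} [Group G] [Fintype G]

/-- Central characters of inflations are multiples of those of the quotient. -/
theorem exists_centralChar_inflate (N : Subgroup G) [N.Normal] (g : G) :
    ∃ c : ℕ, ∀ χ : G ⧸ N → ℂ,
      centralChar (χ ∘ QuotientGroup.mk) g = (c : ℂ) * centralChar χ (g : G ⧸ N) := by
  have hle : Subgroup.centralizer ({g} : Set G) ≤
      (Subgroup.centralizer ({(g : G ⧸ N)} : Set (G ⧸ N))).comap (QuotientGroup.mk' N) := by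
    intro x hx
    simp only [Subgroup.mem_comap, QuotientGroup.mk'_apply, Subgroup.mem_centralizer_iff,
      Set.mem_singleton_iff, forall_eq] at hx ⊢
    rw [← QuotientGroup.mk_mul, hx, QuotientGroup.mk_mul]
  obtain ⟨c, hc⟩ := Subgroup.index_dvd_of_le hle
  rw [Subgroup.index_comap_of_surjective _ (QuotientGroup.mk'_surjective N)] at hc
  refine ⟨c, fun χ => ?_⟩
  rw [centralChar, centralChar, hc, Nat.cast_mul, Function.comp_apply, Function.comp_apply,
    QuotientGroup.mk_one]
  ring

include hp in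
/-- Characters in a block of the quotient inflate into one block. -/
theorem sameBlock_inflate (hM : IsPModular p M) (N : Subgroup G) [N.Normal]
    {χ ψ : G ⧸ N → ℂ} (h : SameBlock M χ ψ) :
    SameBlock M (χ ∘ QuotientGroup.mk) (ψ ∘ QuotientGroup.mk) := fun g => by
  obtain ⟨c, hc⟩ := exists_centralChar_inflate N g
  rw [hc, hc, ← mul_sub]
  exact memLocalIdeal_mul_left hM (natCast_mem_locRing hM c) (h _)

/-- The inflation of a character of the quotient. -/
noncomputable def infl (N : Subgroup G) [N.Normal] (χ : IrrCharacter (G ⧸ N)) : IrrCharacter G :=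
  ⟨fun g : G => (χ : G ⧸ N → ℂ) g, Char.isIrrCharacter_inflate N χ.2⟩

theorem infl_coe (N : Subgroup G) [N.Normal] (χ : IrrCharacter (G ⧸ N)) :
    (infl N χ : G → ℂ) = (χ : G ⧸ N → ℂ) ∘ QuotientGroup.mk := rfl

theorem infl_injective (N : Subgroup G) [N.Normal] :
    Function.Injective (infl (G := G) N) := fun χ ψ h => by
  refine Subtype.ext (funext fun q => ?_)
  induction q using QuotientGroup.induction_on with
  | H x => exact congrFun (congrArg Subtype.val h) x

/-- The characters of the quotient whose inflations lie in a set. -/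
def deflSet (N : Subgroup G) [N.Normal] (B : Set (IrrCharacter G)) :
    Set (IrrCharacter (G ⧸ N)) :=
  {χ | infl N χ ∈ B}

include hp in
/-- A block of the quotient meeting the deflation lies inside it. -/
theorem subset_deflSet (hM : IsPModular p M) (N : Subgroup G) [N.Normal]
    {B : Set (IrrCharacter G)} (hB : IsPBlock M B) {b : Set (IrrCharacter (G ⧸ N))}
    (hb : IsPBlock M b) {χ : IrrCharacter (G ⧸ N)} (hχb : χ ∈ b) (hχ : χ ∈ deflSet N B) :
    b ⊆ deflSet N B := fun ψ hψ => by
  haveI := Fintype.ofFinite (G ⧸ N)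
  exact mem_of_sameBlock hM hB hχ (sameBlock_inflate hM N (sameBlock_of_mem hM hb hχb hψ))

/-- Sums of coefficients over cosets give the coefficients in the quotient. -/
theorem sum_coset_blockCoeff (N : Subgroup G) [N.Normal] [Fintype N]
    (B : Set (IrrCharacter G)) (g : G) :
    ∑ n : N, blockCoeff B ((n : G) * g) = blockCoeff (deflSet N B) (g : G ⧸ N) := by
  classical
  haveI := Fintype.ofFinite (G ⧸ N)
  have hN0 : (Nat.card N : ℂ) ≠ 0 := by exact_mod_cast Nat.card_pos.ne'
  have hQ0 : (Nat.card (G ⧸ N) : ℂ) ≠ 0 := by exact_mod_cast Nat.card_pos.ne'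
  have key : ∑ χ ∈ B.toFinset, (χ : G → ℂ) 1 * ∑ n : N, conj ((χ : G → ℂ) ((n : G) * g)) =
      (Nat.card N : ℂ) * ∑ φ ∈ (deflSet N B).toFinset,
        (φ : G ⧸ N → ℂ) 1 * conj ((φ : G ⧸ N → ℂ) (g : G ⧸ N)) := by
    rw [Finset.mul_sum, ← Finset.sum_subset (s₁ := ((deflSet N B).toFinset.image (infl N)))
      (fun χ hχ => by
        obtain ⟨φ, hφ, rfl⟩ := Finset.mem_image.1 hχ
        exact Set.mem_toFinset.2 ((Set.mem_toFinset (s := deflSet N B)).1 hφ : infl N φ ∈ B)) fun χ hχ hn => by
        rcases Char.sum_coset_char_cases N χ.2 with h | ⟨h, -⟩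
        · rw [← map_sum, h, map_zero, mul_zero]
        · obtain ⟨ψ, hψ, hψe⟩ := Char.exists_deflate_irr N χ.2 fun n hn => h ⟨n, hn⟩
          have he : infl N ⟨ψ, hψ⟩ = χ := Subtype.ext (funext hψe)
          exact absurd (Finset.mem_image.2 ⟨⟨ψ, hψ⟩, Set.mem_toFinset.2
            (show infl N ⟨ψ, hψ⟩ ∈ B from he.symm ▸ Set.mem_toFinset.1 hχ), he⟩) hn,
      Finset.sum_image fun a _ b _ h => infl_injective N h]
    refine Finset.sum_congr rfl fun φ _ => ?_
    have hval : ∀ n : N, (infl N φ : G → ℂ) ((n : G) * g) = (φ : G ⧸ N → ℂ) (g : G ⧸ N) := by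
      intro n
      rw [infl_coe, Function.comp_apply, QuotientGroup.mk_mul, (QuotientGroup.eq_one_iff _).2 n.2,
        one_mul]
    simp only [hval, Finset.sum_const, Finset.card_univ, nsmul_eq_mul, ← Nat.card_eq_fintype_card,
      infl_coe, Function.comp_apply, QuotientGroup.mk_one]
    ring
  simp only [blockCoeff, finsum_mem_eq_toFinset_sum, ← Finset.mul_sum]
  rw [Finset.sum_comm]
  simp only [← Finset.mul_sum]
  rw [key, Subgroup.card_eq_card_quotient_mul_card_subgroup N, Nat.cast_mul]
  field_simp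

include hp in
/-- The deflated coefficients are local integers. -/
theorem deflSet_coeff_mem (hM : IsPModular p M) (N : Subgroup G) [N.Normal] [Fintype N]
    {B : Set (IrrCharacter G)} (hB : IsPBlock M B) (q : G ⧸ N) :
    blockCoeff (deflSet N B) q ∈ locRing hM := by
  induction q using QuotientGroup.induction_on with
  | H x =>
    rw [← sum_coset_blockCoeff N B x]
    exact Subring.sum_mem _ fun n _ => blockCoeff_mem_locRing hM hB _

include hp in
/-- A block of a quotient inside `B` has its defect group inside the image of one of `B`. -/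
theorem exists_defectGroup_image (hM : IsPModular p M) (N : Subgroup G) [N.Normal]
    {B : Set (IrrCharacter G)} (hB : IsPBlock M B) {b : Set (IrrCharacter (G ⧸ N))}
    (hb : IsPBlock M b) (hsub : b ⊆ deflSet N B) {D : Subgroup (G ⧸ N)}
    (hD : IsDefectGroup p M b D) :
    ∃ P : Subgroup G, IsDefectGroup p M B P ∧ D ≤ P.map (QuotientGroup.mk' N) := by
  classical
  haveI := Fintype.ofFinite (G ⧸ N)
  haveI := Fintype.ofFinite N
  haveI : Finite (ConjClasses (G ⧸ N)) := Quotient.finite _
  haveI := Fintype.ofFinite (ConjClasses (G ⧸ N))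
  obtain ⟨χ, hχ⟩ := nonempty_of_isPBlock hM hb
  -- a class of the quotient with unit coefficient and unit central character
  obtain ⟨q, hq1, hq2⟩ : ∃ q : G ⧸ N, ¬ MemLocalIdeal M (blockCoeff (deflSet N B) q) ∧
      ¬ MemLocalIdeal M (centralChar (χ : G ⧸ N → ℂ) q) := by
    by_contra hcon
    simp only [not_exists, not_and, not_not] at hcon
    have h1 : vec (blockCoeff (deflSet N B)) χ = 1 := by
      rw [show blockCoeff (deflSet N B) = zc (indVec (deflSet N B)) from
        funext fun g => (zc_indVec _ g).symm, vec_zc, indVec, if_pos (hsub hχ)]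
    rw [sum_mul_char_eq (fun g x => blockCoeff_conj_invariant _ g x)] at h1
    refine natCast_not_ideal hM hM.1.not_dvd_one ?_
    rw [Nat.cast_one, ← h1]
    refine memLocalIdeal_sum hM _ _ fun C _ => ?_
    by_cases he : MemLocalIdeal M (blockCoeff (deflSet N B) C.out)
    · exact memLocalIdeal_mul_right hM he (centralChar_mem_locRing hM χ _)
    · exact memLocalIdeal_mul_left hM (deflSet_coeff_mem hM N hB _) (hcon _ he)
  obtain ⟨S⟩ : Nonempty (Sylow p (Subgroup.centralizer ({q} : Set (G ⧸ N)))) := inferInstance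
  obtain ⟨z, hz⟩ := exists_conj_le_of_centralChar hM hb hD hχ hq2 S
  set E : Subgroup (G ⧸ N) := D.map (MulAut.conj z).toMonoidHom with hE
  have hEq : E ≤ Subgroup.centralizer ({q} : Set (G ⧸ N)) := hz.trans (cenSyl_le q S)
  have hEp : IsPGroup p E := (isPGroup_defectGroup hM hD).map _
  obtain ⟨Q, hQp, hQL, hQsup⟩ := exists_pGroup_sup_eq (p := p) (K := N)
    (L := E.comap (QuotientGroup.mk' N)) (fun n hn => by
      rw [Subgroup.mem_comap, QuotientGroup.mk'_apply, (QuotientGroup.eq_one_iff n).2 hn]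
      exact one_mem E)
    fun l hl => by
      obtain ⟨k, hk⟩ := hEp ⟨_, hl⟩
      refine ⟨k, (QuotientGroup.eq_one_iff _).1 ?_⟩
      rw [QuotientGroup.mk_pow]
      exact congrArg Subtype.val hk
  induction q using QuotientGroup.induction_on with
  | H x =>
  have hQx : ∀ k ∈ Q, ∀ g : G, (g : G ⧸ N) = (x : G ⧸ N) →
      ((k * g * k⁻¹ : G) : G ⧸ N) = (x : G ⧸ N) := by
    intro k hk g hg
    have h := Subgroup.mem_centralizer_iff.1 (hEq (hQL hk)) _ rfl
    rw [QuotientGroup.mk'_apply] at h
    rw [QuotientGroup.mk_mul, QuotientGroup.mk_mul, hg, QuotientGroup.mk_inv, ← h,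
      mul_inv_cancel_right]
  -- the conjugation action on the coset
  letI act : MulAction Q {g : G // (g : G ⧸ N) = (x : G ⧸ N)} :=
    { smul := fun k g => ⟨(k : G) * g.1 * (k : G)⁻¹, hQx k k.2 g.1 g.2⟩
      one_smul := fun g => Subtype.ext (show ((1 : Q) : G) * g.1 * ((1 : Q) : G)⁻¹ = g.1 by simp)
      mul_smul := fun a c g => Subtype.ext
        (show ((a * c : Q) : G) * g.1 * ((a * c : Q) : G)⁻¹ =
          (a : G) * ((c : G) * g.1 * (c : G)⁻¹) * (a : G)⁻¹ by
          rw [Subgroup.coe_mul]; group) }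
  have hsmul : ∀ (k : Q) (g : {g : G // (g : G ⧸ N) = (x : G ⧸ N)}),
      (k • g).1 = (k : G) * g.1 * (k : G)⁻¹ := fun _ _ => rfl
  obtain ⟨g, hgfix, hgc⟩ : ∃ g : {g : G // (g : G ⧸ N) = (x : G ⧸ N)},
      (∀ k : Q, k • g = g) ∧ ¬ MemLocalIdeal M (blockCoeff B g.1) := by
    by_contra hcon
    simp only [not_exists, not_and, not_not] at hcon
    set F : {g : G // (g : G ⧸ N) = (x : G ⧸ N)} → ℂ :=
      fun g => if ∀ k : Q, k • g = g then 0 else blockCoeff B g.1 with hF
    have hFsmall := orbit_sum_mem (K := Q) hM F (fun k g => ?_) (fun g => ?_) one_ne_zero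
      (fun g hg => ?_)
    · rw [Nat.cast_one, div_one] at hFsmall
      have hsum : ∑ g : {g : G // (g : G ⧸ N) = (x : G ⧸ N)}, blockCoeff B g.1 =
          blockCoeff (deflSet N B) (x : G ⧸ N) := by
        rw [← sum_coset_blockCoeff N B x]
        exact Fintype.sum_equiv
          { toFun := fun g => (⟨g.1 * x⁻¹, by
              rw [← QuotientGroup.eq_one_iff, QuotientGroup.mk_mul, g.2, QuotientGroup.mk_inv,
                mul_inv_cancel]⟩ : N)
            invFun := fun n => ⟨(n : G) * x, by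
              rw [QuotientGroup.mk_mul, (QuotientGroup.eq_one_iff _).2 n.2, one_mul]⟩
            left_inv := fun g => Subtype.ext (inv_mul_cancel_right _ _)
            right_inv := fun n => Subtype.ext (mul_inv_cancel_right _ _) }
          _ _ fun g => by simp
      refine hq1 (hsum ▸ ?_)
      rw [show ∑ g : {g : G // (g : G ⧸ N) = (x : G ⧸ N)}, blockCoeff B g.1 = ∑ g, F g +
        ∑ g, (blockCoeff B g.1 - F g) by rw [Finset.sum_sub_distrib]; ring]
      refine memLocalIdeal_add hM hFsmall (memLocalIdeal_sum hM _ _ fun g _ => ?_)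
      simp only [hF]
      split_ifs with h
      · rw [sub_zero]; exact hcon g h
      · rw [sub_self]; exact memLocalIdeal_zero hM
    · simp only [hF]
      refine if_congr ⟨fun h l => ?_, fun h l => by rw [h k, h l]⟩ rfl ?_
      · have h1 : g = k • g := by simpa using h k⁻¹
        rw [← h1] at h
        exact h l
      · rw [hsmul, blockCoeff_conj_invariant]
    · simp only [hF]
      split_ifs
      exacts [zero_mem _, blockCoeff_mem_locRing hM hB _]
    · have hne : MulAction.stabilizer Q g ≠ ⊤ := fun ht => hg (by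
        simp only [hF]
        rw [if_pos fun k => MulAction.mem_stabilizer_iff.1 (ht.ge (Subgroup.mem_top k))])
      rw [Nat.factorization_one, Finsupp.zero_apply, add_zero]
      obtain ⟨a, ha⟩ := IsPGroup.iff_card.1 hQp
      obtain ⟨b', hb', hbc⟩ := (Nat.dvd_prime_pow hp.out).1
        (ha ▸ (MulAction.stabilizer Q g).card_subgroup_dvd_card)
      rw [hbc, ha, hp.out.factorization_pow, hp.out.factorization_pow, Finsupp.single_eq_same,
        Finsupp.single_eq_same]
      exact hb'.lt_of_ne fun h => hne (Subgroup.eq_top_of_card_eq _ (by rw [hbc, ha, h]))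
  obtain ⟨D₀, hD₀⟩ := exists_defectGroup hM hB
  obtain ⟨w, hw⟩ := dClass_of_coeff hM hB hD₀ hgc Q hQp fun k hk =>
    Subgroup.mem_centralizer_iff.2 fun y hy => by
      rw [Set.mem_singleton_iff] at hy
      subst hy
      have h := congrArg Subtype.val (hgfix ⟨k, hk⟩)
      rw [hsmul] at h
      exact (mul_inv_eq_iff_eq_mul.1 h).symm
  obtain ⟨v, rfl⟩ := QuotientGroup.mk'_surjective N z
  refine ⟨_, isDefectGroup_conj hM hB hD₀ (v⁻¹ * w⁻¹), fun d hd => ?_⟩
  have hd' : MulAut.conj (QuotientGroup.mk' N v) d ∈ E := Subgroup.mem_map_of_mem _ hd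
  obtain ⟨d', rfl⟩ := QuotientGroup.mk'_surjective N d
  have hd'' : v * d' * v⁻¹ ∈ E.comap (QuotientGroup.mk' N) := by
    rw [Subgroup.mem_comap, map_mul, map_mul, map_inv]
    exact hd'
  rw [← hQsup, Subgroup.mem_sup_of_normal_left] at hd''
  obtain ⟨n, hn, k, hk, hnk⟩ := hd''
  refine ⟨v⁻¹ * k * v, ⟨w * k * w⁻¹, hw ⟨k, hk, rfl⟩, by simp; group⟩, ?_⟩
  rw [QuotientGroup.mk'_apply, QuotientGroup.mk'_apply, QuotientGroup.eq,
    show d' = v⁻¹ * (n * k) * v by rw [hnk]; group,
    show (v⁻¹ * k * v)⁻¹ * (v⁻¹ * (n * k) * v) = v⁻¹ * (k⁻¹ * n * k) * v by group]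
  have h1 := Subgroup.Normal.conj_mem ‹N.Normal› n hn k⁻¹
  rw [inv_inv] at h1
  have h2 := Subgroup.Normal.conj_mem ‹N.Normal› _ h1 v⁻¹
  rwa [inv_inv] at h2

include hp in
/-- For a normal `p`-subgroup some contained block has the images of the defect groups. -/
theorem exists_block_image (hM : IsPModular p M) (N : Subgroup G) [N.Normal] (hN : IsPGroup p N)
    {B : Set (IrrCharacter G)} (hB : IsPBlock M B) :
    ∃ b : Set (IrrCharacter (G ⧸ N)), IsPBlock M b ∧ b ⊆ deflSet N B ∧
      ∀ D : Subgroup (G ⧸ N), IsDefectGroup p M b D ↔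
        ∃ P : Subgroup G, IsDefectGroup p M B P ∧ D = P.map (QuotientGroup.mk' N) := by
  classical
  haveI := Fintype.ofFinite (G ⧸ N)
  haveI := Fintype.ofFinite N
  obtain ⟨D₀, hD₀⟩ := exists_defectGroup hM hB
  obtain ⟨g, hg, S, hS⟩ := isDefectGroup_iff.1 hD₀
  have hgN : g ∈ Subgroup.centralizer (N : Set G) := by
    by_contra hn
    exact hg.2.1 (blockCoeff_eq_zero_of_notMem hM hN hB hn ▸ memLocalIdeal_zero hM)
  have hgp : ¬ p ∣ orderOf g := not_dvd_orderOf_defectClass hM hB hg
  have hfib : blockCoeff (deflSet N B) (g : G ⧸ N) = blockCoeff B g := by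
    rw [← sum_coset_blockCoeff N B g, Finset.sum_eq_single (1 : N) (fun n _ hn => ?_)
      (fun h => absurd (Finset.mem_univ _) h), OneMemClass.coe_one, one_mul]
    exact blockCoeff_eq_zero_of_dvd hM (vInt_indVec hM hB) (dvd_orderOf_mul_of_commute hgp
      (Subgroup.mem_centralizer_iff.1 hgN n n.2) (exists_orderOf_eq_pow_of_mem hN n.2)
      fun h => hn (Subtype.ext h))
  set bs := (deflSet N B).toFinset.image fun χ : IrrCharacter (G ⧸ N) =>
    blockOf M (χ : G ⧸ N → ℂ) with hbs
  have hbs' : ∀ b ∈ bs, IsPBlock M b ∧ b ⊆ deflSet N B := fun b hb => by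
    obtain ⟨χ, hχ, rfl⟩ := Finset.mem_image.1 hb
    exact ⟨isPBlock_blockOf χ, subset_deflSet hM N hB (isPBlock_blockOf χ) (self_mem_blockOf hM χ)
      (Set.mem_toFinset.1 hχ)⟩
  have hsplit : blockCoeff (deflSet N B) (g : G ⧸ N) = ∑ b ∈ bs, blockCoeff b (g : G ⧸ N) := by
    simp only [blockCoeff, finsum_mem_eq_toFinset_sum, ← Finset.mul_sum]
    congr 1
    rw [← Finset.sum_fiberwise_of_maps_to (t := bs)
      (g := fun χ : IrrCharacter (G ⧸ N) => blockOf M (χ : G ⧸ N → ℂ))
      fun χ hχ => Finset.mem_image_of_mem _ hχ]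
    refine Finset.sum_congr rfl fun b hb => Finset.sum_congr ?_ fun _ _ => rfl
    ext χ
    rw [Finset.mem_filter, Set.mem_toFinset, Set.mem_toFinset]
    refine ⟨fun h => h.2 ▸ self_mem_blockOf hM χ, fun h => ⟨(hbs' b hb).2 h,
      isPBlock_eq_of_mem hM (isPBlock_blockOf χ) (hbs' b hb).1 (self_mem_blockOf hM χ) h⟩⟩
  obtain ⟨b, hb, hbu⟩ : ∃ b ∈ bs, ¬ MemLocalIdeal M (blockCoeff b (g : G ⧸ N)) := by
    by_contra hcon
    simp only [not_exists, not_and, not_not] at hcon
    exact hg.2.1 (hfib ▸ hsplit ▸ memLocalIdeal_sum hM _ _ fun b hb => hcon b hb)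
  obtain ⟨hbb, hbsub⟩ := hbs' b hb
  have hcls : IsDefectClass M b (g : G ⧸ N) := by
    refine ⟨blockCoeff_mem_locRing hM hbb _, hbu, fun χ hχ h => hg.2.2 (infl N χ) (hbsub hχ) ?_⟩
    rwa [infl_coe, centralChar_inflate_regular N hN _ hgp hgN]
  set C := Subgroup.centralizer ({(g : G ⧸ N)} : Set (G ⧸ N)) with hC
  have hCc : C.comap (QuotientGroup.mk' N) = Subgroup.centralizer ({g} : Set G) := by
    refine (Subgroup.eq_of_le_of_card_ge (fun x hx => ?_) ?_).symm
    · simp only [hC, Subgroup.mem_comap, QuotientGroup.mk'_apply, Subgroup.mem_centralizer_iff,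
        Set.mem_singleton_iff, forall_eq] at hx ⊢
      rw [← QuotientGroup.mk_mul, hx, QuotientGroup.mk_mul]
    · refine Nat.le_of_mul_le_mul_left ?_
        (Nat.pos_of_ne_zero (Subgroup.index_ne_zero_of_finite (H := Subgroup.centralizer ({g} : Set G))))
      rw [Subgroup.index_mul_card, ← index_centralizer_mk N hN hgp hgN,
        ← Subgroup.index_comap_of_surjective (f := QuotientGroup.mk' N) _
          (QuotientGroup.mk'_surjective N), ← hC, Subgroup.index_mul_card]
  have hND₀ : N ≤ D₀ := by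
    obtain ⟨c, -, hle⟩ := exists_conj_le_cenSyl S hN
      (mem_centralizer_singleton_of hgN)
    intro n hn
    rw [hS]
    refine hle ⟨c⁻¹ * n * c, ?_, by simp [mul_assoc]⟩
    simpa using Subgroup.Normal.conj_mem ‹N.Normal› n hn c⁻¹
  have hD₀C : D₀ ≤ Subgroup.centralizer ({g} : Set G) := hS ▸ cenSyl_le g S
  have hmapC : D₀.map (QuotientGroup.mk' N) ≤ C := by
    rw [Subgroup.map_le_iff_le_comap, hCc]; exact hD₀C
  have hrel : ¬ p ∣ (D₀.map (QuotientGroup.mk' N)).relIndex C := by
    rw [show C = (C.comap (QuotientGroup.mk' N)).map (QuotientGroup.mk' N) from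
      (Subgroup.map_comap_eq_self_of_surjective (QuotientGroup.mk'_surjective N) C).symm,
      ← Subgroup.relIndex_comap, Subgroup.comap_map_eq_self (by rwa [QuotientGroup.ker_mk']), hCc,
      hS, cenSyl, Subgroup.relIndex, Subgroup.subgroupOf,
      Subgroup.comap_map_eq_self_of_injective (Subgroup.subtype_injective _)]
    exact S.not_dvd_index
  have hp0 : IsPGroup p ((D₀.map (QuotientGroup.mk' N)).subgroupOf C) :=
    ((isPGroup_defectGroup hM hD₀).map _).comap_subtype
  have hbD : IsDefectGroup p M b (D₀.map (QuotientGroup.mk' N)) := by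
    refine isDefectGroup_iff.2 ⟨_, hcls, hp0.toSylow hrel, ?_⟩
    show _ = ((D₀.map (QuotientGroup.mk' N)).subgroupOf C).map C.subtype
    rw [Subgroup.map_subgroupOf_eq_of_le hmapC]
  refine ⟨b, hbb, hbsub, fun D => ⟨fun hD => ?_, ?_⟩⟩
  · obtain ⟨z, hz⟩ := exists_conj_defectGroup hM hbb hbD hD
    obtain ⟨v, rfl⟩ := QuotientGroup.mk'_surjective N z
    refine ⟨_, isDefectGroup_conj hM hB hD₀ v, ?_⟩
    rw [← hz, Subgroup.map_map, Subgroup.map_map]
    exact congrArg (fun f => Subgroup.map f D₀) (MonoidHom.ext fun y => by simp)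
  · rintro ⟨P, hP, rfl⟩
    obtain ⟨v, rfl⟩ := exists_conj_defectGroup hM hB hD₀ hP
    have h := isDefectGroup_conj hM hbb hbD (QuotientGroup.mk' N v)
    rw [Subgroup.map_map] at h ⊢
    convert h using 2
    exact MonoidHom.ext fun y => by simp

end Cfsg.Lib.Block
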