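import Cfsg.Agent.Lib.Block.DegreesPrime
import Cfsg.Agent.Lib.Block.PPrimeKernel
import Cfsg.Agent.Lib.Block.InflateDefect
import Cfsg.Agent.Lib.Block.CoverBasics
import Cfsg.Agent.Lib.Char.Clifford2
import Cfsg.Agent.Lib.Char.LinearExt
import Cfsg.Agent.Lib.Char.Linear
import Cfsg.Agent.Lib.Core.PSolvable

/-!
# Derived length of a Sylow subgroup and the number of degrees divisible by `p`
-/

set_option autoImplicit false
set_option linter.unusedSectionVars false
set_option maxHeartbeats 800000
set_option linter.style.haveILetI false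

namespace Cfsg.Lib.Block

open Cfsg Cfsg.Lib.Char

universe u v

/-- A hom with abelian kernel raises the derived length by at most one. -/
theorem derivedSeries_succ_of_comm_ker {A : Type u} {B : Type v} [Group A] [Group B] (f : A →* B)
    {k : ℕ} (h : derivedSeries B k = ⊥)
    (hc : ∀ a ∈ f.ker, ∀ b ∈ f.ker, a * b = b * a) : derivedSeries A (k + 1) = ⊥ := by
  have hle : derivedSeries A k ≤ f.ker := by
    rw [← MonoidHom.comap_bot, ← Subgroup.map_le_iff_le_comap, ← h]
    exact map_derivedSeries_le_derivedSeries f k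
  rw [derivedSeries_succ, eq_bot_iff, Subgroup.commutator_le]
  intro a ha b hb
  rw [Subgroup.mem_bot, commutatorElement_eq_one_iff_mul_comm]
  exact hc a (hle ha) b (hle hb)

/-- An injective hom does not raise the derived length. -/
theorem derivedSeries_eq_bot_of_injective {A : Type u} {B : Type v} [Group A] [Group B] {f : A →* B}
    (hf : Function.Injective f) {k : ℕ} (h : derivedSeries B k = ⊥) : derivedSeries A k = ⊥ := by
  rw [← Subgroup.map_eq_bot_iff_of_injective _ hf, eq_bot_iff, ← h]
  exact map_derivedSeries_le_derivedSeries f k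

theorem derivedSeries_eq_bot_mono {A : Type u} [Group A] {j k : ℕ} (hjk : j ≤ k)
    (h : derivedSeries A j = ⊥) : derivedSeries A k = ⊥ :=
  eq_bot_iff.2 (h ▸ derivedSeries_antitone A hjk)

variable {p : ℕ} [hp : Fact p.Prime]

/-- An invariant linear character of a normal `p`-subgroup lying under a character of degree
prime to `p` extends. -/
theorem exists_linear_extension_of_pPrime {T : Type u} [Group T] [Fintype T] {N : Subgroup T}
    [N.Normal] [Fintype N] (hN : IsPGroup p N) (f : N →* ℂˣ) {ψ : T → ℂ}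
    (hψ : IsIrrCharacter T ψ) (hres : ∀ n : N, ψ (n : T) = ψ 1 * (f n : ℂ))
    (hd : ¬ p ∣ charDegree ψ) : ∃ μ : T →* ℂˣ, ∀ n : N, μ n = f n := by
  classical
  have hψ1 : ψ 1 ≠ 0 := hψ.apply_one_ne_zero
  have hinv : ∀ (g : T) (n : N), f (MulAut.conjNormal g n) = f n := by
    intro g n
    have h1 := hres (MulAut.conjNormal g n)
    rw [MulAut.conjNormal_apply, hψ.isClassFunction, hres n] at h1
    exact (Units.ext (mul_left_cancel₀ hψ1 h1)).symm
  haveI := linearRep_isIrreducible f
  obtain ⟨ρ, hρ⟩ := exists_extension_of_local (linearRep f) (linearRep_inv f hinv) fun q hq => by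
    haveI : Fact q.Prime := ⟨hq⟩
    suffices ∃ (P : Subgroup T) (hNP : N ≤ P) (η : P →* ℂˣ), Nat.Coprime P.index q ∧
        ∀ n : N, η ⟨n, hNP n.2⟩ = f n by
      obtain ⟨P, hNP, η, hcop, hη⟩ := this
      exact ⟨P, hNP, fun x => (η x : ℂ), hcop, (isIrrCharacter_linear η).isCharacter,
        fun n => by rw [linearRep_character]; exact congrArg Units.val (hη n)⟩
    obtain ⟨S⟩ : Nonempty (Sylow q T) := inferInstance
    have hS : Nat.Coprime (S : Subgroup T).index q :=
      (hq.coprime_iff_not_dvd.2 S.not_dvd_index).symm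
    by_cases hqp : q = p
    · subst hqp
      have hNS : N ≤ (S : Subgroup T) :=
        (Core.le_pCore' inferInstance hN).trans (Core.pCore_le_sylow S)
      have hres' : IsCharacter (S : Subgroup T) fun x : (S : Subgroup T) => ψ x :=
        hψ.isCharacter.comp (S : Subgroup T).subtype
      obtain ⟨μ, hμ, hμp⟩ := exists_pPrime_constituent (p := q) hres' (n := charDegree ψ)
        (by rw [Subgroup.coe_one]; exact apply_one_eq_charDegree (⟨ψ, hψ⟩ : IrrCharacter T)) hd
      obtain ⟨a, ha⟩ := IsPGroup.iff_card.1 S.2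
      have hdeg : charDegree (μ : ↥(S : Subgroup T) → ℂ) = 1 := by
        obtain ⟨b, -, hb⟩ := (Nat.dvd_prime_pow hq).1
          (ha ▸ Char.degree_dvd_card μ.2 (apply_one_eq_charDegree μ))
        rcases b with _ | b
        · simpa using hb
        · exact absurd (hb ▸ dvd_pow_self q b.succ_ne_zero) hμp
      obtain ⟨η, hη⟩ := Char.exists_hom_of_degree_one μ.2.isCharacter
        (by rw [apply_one_eq_charDegree, hdeg, Nat.cast_one])
      refine ⟨S, hNS, η, hS, ?_⟩
      set N' : Subgroup (S : Subgroup T) := N.subgroupOf (S : Subgroup T) with hN'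
      haveI := Fintype.ofFinite N'
      let η' : N' →* ℂˣ := η.comp N'.subtype
      let f' : N' →* ℂˣ := f.comp (Subgroup.subgroupOfEquivOfLe hNS).toMonoidHom
      have hle := classInner_res_le_of_constituent N' hres' μ.2 hμ
        (isIrrCharacter_linear η').isCharacter
      have hfη : (fun x : N' => (f' x : ℂ)) = fun x : N' => (η' x : ℂ) := by
        by_contra hne
        have e1 : (fun x : N' => (μ : ↥(S : Subgroup T) → ℂ) x) = fun x : N' => (η' x : ℂ) :=
          funext fun x => congrFun hη x
        have e2 : (fun x : N' => ψ ((x : (S : Subgroup T)) : T)) =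
            ψ 1 • fun x : N' => (f' x : ℂ) :=
          funext fun x => hres ⟨_, Subgroup.mem_subgroupOf.1 x.2⟩
        rw [e1, e2, classInner_irr_self (isIrrCharacter_linear η'), classInner_smul_left,
          classInner_irr_ne (isIrrCharacter_linear f') (isIrrCharacter_linear η') hne,
          mul_zero] at hle
        norm_num at hle
      intro n
      exact (Units.ext (congrFun hfη ⟨⟨n, hNS n.2⟩, n.2⟩)).symm
    · set P : Subgroup T := (S : Subgroup T) ⊔ N with hP
      have hNP : N ≤ P := le_sup_right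
      set N' : Subgroup P := N.subgroupOf P with hN'
      haveI : N'.Normal := inferInstanceAs (N.subgroupOf P).Normal
      let f' : N' →* ℂˣ := f.comp (Subgroup.subgroupOfEquivOfLe hNP).toMonoidHom
      have hinv' : ∀ (g : P) (n : N'), f' (MulAut.conjNormal g n) = f' n := fun g n =>
        hinv g (Subgroup.subgroupOfEquivOfLe hNP n)
      have hcop : Nat.Coprime N'.index (orderOf f') := by
        obtain ⟨a, ha⟩ := IsPGroup.iff_card.1 S.2
        obtain ⟨b, hb⟩ := IsPGroup.iff_card.1 hN
        have h1 : N'.index ∣ q ^ a := by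
          rw [← ha]
          show N.relIndex ((S : Subgroup T) ⊔ N) ∣ _
          rw [Subgroup.relIndex_sup_right]
          exact Subgroup.index_dvd_card _
        have h2 : orderOf f' ∣ p ^ b := by
          rw [← hb, ← Nat.card_congr (Subgroup.subgroupOfEquivOfLe hNP).toEquiv]
          refine orderOf_dvd_of_pow_eq_one (MonoidHom.ext fun x => ?_)
          rw [MonoidHom.pow_apply, MonoidHom.one_apply, ← map_pow, pow_card_eq_one', map_one]
        exact ((((Nat.coprime_primes hq hp.out).2 hqp).pow _ _).coprime_dvd_left h1).coprime_dvd_right h2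
      obtain ⟨μ, hμ, -⟩ := exists_linear_extension_coprime f' hinv' hcop
      exact ⟨P, hNP, μ, Nat.Coprime.coprime_dvd_left
        (Subgroup.index_dvd_of_le le_sup_left) hS, fun n => hμ ⟨⟨n, hNP n.2⟩, n.2⟩⟩
  exact exists_linear_extension_of_rep hρ

/-- The number of irreducible degrees divisible by `p`. -/
noncomputable def singularCount (p : ℕ) (G : Type u) [Group G] : ℕ :=
  Nat.card {χ : IrrCharacter G // p ∣ charDegree (χ : G → ℂ)}

/-- If every character over a nontrivial linear character of a normal abelian `p`-subgroup has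
degree prime to `p`, the Sylow subgroups are metabelian. -/
theorem derivedSeries_two_of_over {G : Type u} [Group G] [Fintype G] (hsol : IsPSolvable p G)
    {N : Subgroup G} [N.Normal] [Fintype N] (hN : IsPGroup p N)
    (hab : ∀ a ∈ N, ∀ b ∈ N, a * b = b * a) (l : N →* ℂˣ)
    (h : ∀ χ : IrrCharacter G, classInner (fun n : N => (χ : G → ℂ) n) (fun n => (l n : ℂ)) ≠ 0 →
      ¬ p ∣ charDegree (χ : G → ℂ)) (P : Sylow p G) :
    derivedSeries ↥(P : Subgroup G) 2 = ⊥ := by
  classical
  set θ : IrrCharacter N := ⟨fun n => (l n : ℂ), isIrrCharacter_linear l⟩ with hθ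
  have hθ1 : (θ : N → ℂ) 1 = 1 := by
    show ((l 1 : ℂˣ) : ℂ) = 1
    rw [map_one, Units.val_one]
  obtain ⟨T, hTdef⟩ : ∃ T : Subgroup G, T = inertia N (θ : N → ℂ) := ⟨_, rfl⟩
  have hNT : N ≤ T := hTdef ▸ le_inertia N θ.2.isClassFunction
  haveI := Fintype.ofFinite T
  haveI : (N.subgroupOf T).Normal := inferInstance
  haveI := Fintype.ofFinite (N.subgroupOf T)
  -- characters of `T` over `θ`
  have hover : ∀ ψ : T → ℂ, IsIrrCharacter T ψ →
      classInner (fun n : N => ψ ⟨n, hNT n.2⟩) (θ : N → ℂ) ≠ 0 →
        ¬ p ∣ T.index ∧ ¬ p ∣ charDegree ψ := by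
    intro ψ hψ hc
    obtain ⟨hirr, hmult⟩ := clifford_induce N θ.2 hNT hTdef hψ hc
    have hd := h ⟨indFun T ψ, hirr⟩ (hmult ▸ hc)
    have e : charDegree (indFun T ψ) = T.index * charDegree ψ := charDegree_eq_of_apply_one (by
      rw [indFun_apply_one, Nat.cast_mul,
        show ψ 1 = (charDegree ψ : ℂ) from apply_one_eq_charDegree (⟨ψ, hψ⟩ : IrrCharacter T)])
    exact ⟨fun h0 => hd (by simp only [e]; exact h0.mul_right _),
      fun h0 => hd (by simp only [e]; exact h0.mul_left _)⟩
  obtain ⟨χ, hχ⟩ := Cfsg.Lib.Block.exists_over N θ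
  obtain ⟨ψ, hψ, hψθ, -, -⟩ := clifford_exists N θ.2 hNT hTdef χ.2 hχ
  obtain ⟨hTp, hψp⟩ := hover ψ hψ hψθ
  -- the extension
  set N' : Subgroup T := N.subgroupOf T with hN'
  set l' : N' →* ℂˣ := l.comp (Subgroup.subgroupOfEquivOfLe hNT).toMonoidHom with hl'
  have hresψ : ∀ n : N', ψ (n : T) = ψ 1 * (l' n : ℂ) := by
    intro n
    have e := res_eq_smul N θ.2 hNT hTdef hψ hψθ
    have e1 := congrFun e 1
    have en := congrFun e (Subgroup.subgroupOfEquivOfLe hNT n)
    simp only [Pi.smul_apply, smul_eq_mul, hθ1, mul_one] at e1 en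
    rw [← e1] at en
    exact en
  have hNp' : IsPGroup p N' := hN.of_equiv (Subgroup.subgroupOfEquivOfLe hNT).symm
  obtain ⟨μ, hμ⟩ := exists_linear_extension_of_pPrime hNp' l' hψ hresψ hψp
  -- all degrees of the quotient are prime to `p`
  haveI := Fintype.ofFinite (T ⧸ N')
  have hdeg : DegreesPrimeTo p (T ⧸ N') := by
    intro φ hd
    set φ' : IrrCharacter T := ⟨fun t => (φ : T ⧸ N' → ℂ) t, isIrrCharacter_inflate N' φ.2⟩
      with hφ'
    set ψ' : T → ℂ := (φ' : T → ℂ) * fun t => (μ t : ℂ) with hψ'
    have hψ'i : IsIrrCharacter T ψ' := isIrrCharacter_mul_linear φ'.2 μ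
    have e : (fun n : N => ψ' ⟨n, hNT n.2⟩) = ((φ : T ⧸ N' → ℂ) 1) • (θ : N → ℂ) := by
      funext n
      have hn : (⟨n, hNT n.2⟩ : T) ∈ N' := n.2
      show (φ : T ⧸ N' → ℂ) _ * (μ _ : ℂ) = _ * (l n : ℂ)
      rw [(QuotientGroup.eq_one_iff _).2 hn, hμ ⟨_, hn⟩]
      rfl
    have hd' : charDegree ψ' = charDegree (φ : T ⧸ N' → ℂ) := charDegree_eq_of_apply_one (by
      show (φ : T ⧸ N' → ℂ) _ * (μ 1 : ℂ) = _
      rw [QuotientGroup.mk_one, map_one, Units.val_one, mul_one, apply_one_eq_charDegree φ])
    refine (hover ψ' hψ'i ?_).2 (hd' ▸ hd)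
    rw [e, classInner_smul_left, classInner_irr_self θ.2, mul_one]
    exact φ.2.apply_one_ne_zero
  -- the Sylow subgroup of the inertia group
  obtain ⟨Q⟩ : Nonempty (Sylow p T) := inferInstance
  have hsolT : IsPSolvable p (T ⧸ N') :=
    Core.isPSolvable_quotient (Core.isPSolvable_subgroup hsol T) N'
  set Q' : Sylow p (T ⧸ N') := Q.mapSurjective (QuotientGroup.mk'_surjective N') with hQ'
  obtain ⟨-, hc⟩ := (sylow_normal_comm_iff hsolT Q').2 hdeg
  set g : ↥(Q : Subgroup T) →* T ⧸ N' :=
    (QuotientGroup.mk' N').comp (Q : Subgroup T).subtype with hg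
  have hQ2 : derivedSeries ↥(Q : Subgroup T) 2 = ⊥ := by
    refine derivedSeries_succ_of_comm_ker (k := 1) g.rangeRestrict ?_ ?_
    · rw [derivedSeries_one, eq_bot_iff, commutator_def, Subgroup.commutator_le]
      rintro ⟨a, ha⟩ - ⟨b, hb⟩ -
      rw [Subgroup.mem_bot, commutatorElement_eq_one_iff_mul_comm]
      obtain ⟨a', rfl⟩ := ha
      obtain ⟨b', rfl⟩ := hb
      exact Subtype.ext (hc _ ⟨a', a'.2, rfl⟩ _ ⟨b', b'.2, rfl⟩)
    · intro a ha b hb
      rw [MonoidHom.ker_rangeRestrict, MonoidHom.mem_ker] at ha hb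
      exact Subtype.ext (Subtype.ext (hab _ (Subgroup.mem_subgroupOf.1 ((QuotientGroup.eq_one_iff _).1 ha))
        _ (Subgroup.mem_subgroupOf.1 ((QuotientGroup.eq_one_iff _).1 hb))))
  set R : Subgroup G := (Q : Subgroup T).map T.subtype with hR
  have hR2 : derivedSeries ↥R 2 = ⊥ :=
    derivedSeries_eq_bot_of_injective
      (f := ((Q : Subgroup T).equivMapOfInjective T.subtype T.subtype_injective).symm.toMonoidHom)
      (MulEquiv.injective _) hQ2
  obtain ⟨S, hRS⟩ := (Q.2.map T.subtype).exists_le_sylow
  have hRS' : R = (S : Subgroup G) := by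
    refine Subgroup.eq_of_le_of_card_ge hRS (le_of_eq ?_)
    rw [hR, Subgroup.card_map_of_injective T.subtype_injective, Sylow.card_eq_multiplicity,
      Sylow.card_eq_multiplicity, ← T.card_mul_index,
      Nat.factorization_mul Nat.card_pos.ne' Subgroup.index_ne_zero_of_finite, Finsupp.add_apply,
      Nat.factorization_eq_zero_of_not_dvd hTp, add_zero]
  rw [hRS'] at hR2
  exact derivedSeries_eq_bot_of_injective (f := (Sylow.equiv P S).toMonoidHom)
    (MulEquiv.injective _) hR2

/-- In a `p`-soluble group the derived length of a Sylow subgroup exceeds the number of degrees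
divisible by `p` by at most one. -/
theorem derivedSeries_singularCount : ∀ (n : ℕ) (G : Type u) [Group G] [Finite G],
    Nat.card G = n → IsPSolvable p G → ∀ P : Sylow p G,
      derivedSeries ↥(P : Subgroup G) (singularCount p G + 1) = ⊥ := by
  intro n
  induction n using Nat.strong_induction_on with
  | _ n ih =>
    intro G _ _ hn hsol P
    classical
    haveI := Fintype.ofFinite G
    rcases subsingleton_or_nontrivial G with hG | hG
    · exact eq_bot_iff.2 fun x _ => Subgroup.mem_bot.2 (Subsingleton.elim _ _)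
    obtain ⟨N, hN⟩ := Core.exists_isMinNormal_univ (G := G)
    haveI := hN.1
    haveI := Fintype.ofFinite N
    haveI := Fintype.ofFinite (G ⧸ N)
    set P' : Sylow p (G ⧸ N) := P.mapSurjective (QuotientGroup.mk'_surjective N) with hP'
    have hIH := ih _ (hn ▸ Core.card_quotient_lt hN.2.1) (G ⧸ N) rfl
      (Core.isPSolvable_quotient hsol N) P'
    set g : ↥(P : Subgroup G) →* ↥(P' : Subgroup (G ⧸ N)) :=
      ((QuotientGroup.mk' N).comp (P : Subgroup G).subtype).codRestrict _
        (fun x => ⟨x, x.2, rfl⟩) with hg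
    have hker : ∀ x ∈ g.ker, (x : G) ∈ N := fun x hx =>
      (QuotientGroup.eq_one_iff _).1 (congrArg Subtype.val (MonoidHom.mem_ker.1 hx))
    let i : {φ : IrrCharacter (G ⧸ N) // p ∣ charDegree (φ : G ⧸ N → ℂ)} →
        {χ : IrrCharacter G // p ∣ charDegree (χ : G → ℂ)} := fun φ => ⟨infl N φ.1, by
      rw [charDegree_eq_of_apply_one (n := charDegree (φ.1 : G ⧸ N → ℂ)) (by
        rw [infl_coe, Function.comp_apply, QuotientGroup.mk_one, apply_one_eq_charDegree φ.1])]
      exact φ.2⟩
    have hi : Function.Injective i := fun a b hab =>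
      Subtype.ext (infl_injective N (congrArg Subtype.val hab))
    haveI : Finite (IrrCharacter G) := inferInstance
    have hle : singularCount p (G ⧸ N) ≤ singularCount p G := Nat.card_le_card_of_injective i hi
    rcases Core.minimal_normal_of_isPSolvable hsol hN with hNp | hNp
    · have hsolN : Group.IsSolvable N := have := hNp.isNilpotent; IsNilpotent.to_isSolvable
      haveI := Core.isMulCommutative_of_minimal_solvable hN hsolN
      have hab : ∀ a ∈ N, ∀ b ∈ N, a * b = b * a := fun a ha b hb =>
        congrArg Subtype.val (mul_comm' (⟨a, ha⟩ : N) ⟨b, hb⟩)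
      by_cases hsurj : Function.Surjective i
      · -- no new singular degree
        rcases Nat.eq_zero_or_pos (singularCount p G) with h0 | hpos
        · rw [h0]
          have hdeg : DegreesPrimeTo p G := fun χ hd => by
            haveI : Nonempty {χ : IrrCharacter G // p ∣ charDegree (χ : G → ℂ)} := ⟨⟨χ, hd⟩⟩
            exact absurd h0 Nat.card_pos.ne'
          obtain ⟨-, hc⟩ := (sylow_normal_comm_iff hsol P).2 hdeg
          rw [show 0 + 1 = 1 from rfl, derivedSeries_one, eq_bot_iff, commutator_def,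
            Subgroup.commutator_le]
          intro a _ b _
          rw [Subgroup.mem_bot, commutatorElement_eq_one_iff_mul_comm]
          exact Subtype.ext (hc _ a.2 _ b.2)
        · letI : CommGroup N :=
            { (inferInstance : Group N) with mul_comm := fun a b => Subtype.ext (hab _ a.2 _ b.2) }
          haveI : Nontrivial (N →* ℂˣ) := Finite.one_lt_card_iff_nontrivial.1 (by
            rw [card_monoidHom_units]
            exact (Subgroup.one_lt_card_iff_ne_bot N).2 hN.2.1)
          obtain ⟨l, hl⟩ := exists_ne (1 : N →* ℂˣ)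
          refine derivedSeries_eq_bot_mono (show 2 ≤ singularCount p G + 1 by omega)
            (derivedSeries_two_of_over hsol hNp hab l (fun χ hχ hd => ?_) P)
          obtain ⟨φ, hφ⟩ := hsurj ⟨χ, hd⟩
          refine hχ ?_
          have e : (fun x : N => (χ : G → ℂ) x) =
              (φ.1 : G ⧸ N → ℂ) 1 • fun _ : N => (1 : ℂ) := by
            funext x
            rw [← show infl N φ.1 = χ from congrArg Subtype.val hφ, infl_coe, Function.comp_apply,
              (QuotientGroup.eq_one_iff _).2 x.2]
            simp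
          rw [e, classInner_smul_left, classInner_irr_ne isIrrCharacter_one (isIrrCharacter_linear l)
            (fun h => hl (MonoidHom.ext fun x => Units.ext (congrFun h x).symm)), mul_zero]
      · have hlt : singularCount p (G ⧸ N) + 1 ≤ singularCount p G := by
          refine Nat.succ_le_of_lt (lt_of_le_of_ne hle fun he => hsurj ?_)
          exact (hi.bijective_of_nat_card_le he.ge).2
        refine derivedSeries_eq_bot_mono (Nat.add_le_add_right hlt 1)
          (derivedSeries_succ_of_comm_ker g hIH fun a ha b hb => ?_)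
        exact Subtype.ext (hab _ (hker a ha) _ (hker b hb))
    · refine derivedSeries_eq_bot_mono (Nat.add_le_add_right hle 1)
        (derivedSeries_eq_bot_of_injective (f := g) ?_ hIH)
      rw [injective_iff_map_eq_one]
      intro x hx
      obtain ⟨k, hk⟩ := IsPGroup.iff_card.1 P.isPGroup'
      have hdis := Subgroup.inf_eq_bot_of_coprime (H := (P : Subgroup G)) (K := N)
        (hk ▸ (Nat.Coprime.pow_left k hNp.symm))
      exact Subtype.ext (Subgroup.mem_bot.1 (hdis ▸ ⟨x.2, hker x (MonoidHom.mem_ker.2 hx)⟩))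

end Cfsg.Lib.Block
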