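import Cfsg.Agent.Lib.Block.DihedralRankTwo
import Cfsg.Agent.Lib.Block.CentralQuotientForm
import Cfsg.Agent.Lib.TwoGroup.QuasiDihedral

/-!
# Blocks with dihedral or semidihedral defect group and a central involution

With dihedral defect group the block is nilpotent; with semidihedral defect group the block of
the quotient has dihedral defect group with an unfused reflection, so the rank is at most two.
-/

set_option autoImplicit false
set_option linter.unusedSectionVars false
set_option maxHeartbeats 800000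

namespace Cfsg.Lib.Block

open Cfsg Cfsg.Lib.Char

universe u

noncomputable local instance (priority := high) fintypeSubgroupDihedralCenter {A : Type u}
    [Group A] [Fintype A] (H : Subgroup A) : Fintype H := Fintype.ofFinite H

local notation "C[" Q "]" => Subgroup.centralizer (SetLike.coe Q)

variable {G : Type u} [Group G] [Fintype G] [Fact (Nat.Prime 2)] {M : Ideal AlgInt}
  (hM : IsPModular 2 M) {B : Set (IrrCharacter G)}

include hM in
/-- A central two-element lies in every defect group. -/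
theorem mem_defectGroup_of_central_dihedralCenter (hB : IsPBlock M B) {D : Subgroup G}
    (hD : IsDefectGroup 2 M B D) {z : G} (hz : z ∈ Subgroup.center G)
    (hord : ∃ k : ℕ, orderOf z = 2 ^ k) : z ∈ D := by
  obtain ⟨g, hg, P, rfl⟩ := isDefectGroup_iff.1 hD
  have hzc : z ∈ Subgroup.centralizer ({g} : Set G) := by
    rw [Subgroup.mem_centralizer_singleton_iff]
    exact ((Subgroup.mem_center_iff.1 hz) g).symm
  obtain ⟨z', hz'⟩ : ∃ z' : Subgroup.centralizer ({g} : Set G), z' = ⟨z, hzc⟩ := ⟨_, rfl⟩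
  haveI hn : (Subgroup.zpowers z').Normal :=
    ⟨fun n hn x => by
      have hcomm : Commute x z' :=
        Subtype.ext (by subst hz'; exact (Subgroup.mem_center_iff.1 hz) (x : G))
      obtain ⟨i, rfl⟩ := Subgroup.mem_zpowers_iff.1 hn
      rw [(hcomm.zpow_right i).eq, mul_inv_cancel_right]
      exact hn⟩
  obtain ⟨k, hk⟩ := hord
  have hzp : IsPGroup 2 (Subgroup.zpowers z') := IsPGroup.of_card (n := k) (by
    rw [Nat.card_zpowers, hz', Subgroup.orderOf_mk, hk])
  have hle : Subgroup.zpowers z' ≤ (P : Subgroup _) := by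
    have hsup : IsPGroup 2 ((P : Subgroup _) ⊔ Subgroup.zpowers z' : Subgroup _) :=
      P.2.to_sup_of_normal_right hzp
    exact le_sup_right.trans (P.3 hsup le_sup_left).le
  exact ⟨z', hle (Subgroup.mem_zpowers z'), by rw [hz']; rfl⟩

include hM in
/-- With dihedral defect group and a central involution the block has rank one. -/
theorem blockRank_dihedral_central (hB : IsPBlock M B) {D : Subgroup G}
    (hD : IsDefectGroup 2 M B D) {n : ℕ} (hn : 3 ≤ n) (e : D ≃* DihedralGroup (2 ^ (n - 1)))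
    {z : G} (hz : z ∈ Subgroup.center G) (hz2 : orderOf z = 2) : blockRank 2 B = 1 := by
  classical
  obtain ⟨m, rfl⟩ : ∃ m, n = m + 3 := ⟨n - 3, by omega⟩
  obtain ⟨h, hh⟩ : ∃ h, h = 2 ^ (m + 1) := ⟨_, rfl⟩
  obtain ⟨e'⟩ : Nonempty (D ≃* DihedralGroup (2 * h)) := by
    have : 2 ^ (m + 3 - 1) = 2 * h := by
      rw [hh, show m + 3 - 1 = (m + 1) + 1 by omega, pow_succ, mul_comm]
    exact ⟨this ▸ e⟩
  have h2 : 2 ≤ h := by
    rw [hh]
    exact le_self_pow (by norm_num) (by omega)
  have heven : Even h := hh ▸ Nat.even_pow.2 ⟨even_two, by omega⟩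
  have hk : 4 * h = 2 ^ (m + 3) := by rw [hh]; ring
  obtain ⟨P, hP, S⟩ := dihSylow_of_equiv h2 heven hk e'
  have hzD : z ∈ D := mem_defectGroup_of_central_dihedralCenter hM hB hD hz ⟨1, by rw [hz2, pow_one]⟩
  have hzc : ∀ d : D, Commute (⟨z, hzD⟩ : D) d := fun d =>
    Subtype.ext ((Subgroup.mem_center_iff.1 hz) (d : G)).symm
  have hzsq : (⟨z, hzD⟩ : D) * ⟨z, hzD⟩ = 1 := Subtype.ext (by
    show z * z = 1
    rw [← pow_two, ← hz2, pow_orderOf_eq_one])
  have hz1 : (⟨z, hzD⟩ : D) ≠ 1 := fun e1 => by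
    rw [show z = 1 from congrArg Subtype.val e1, orderOf_one] at hz2
    exact absurd hz2 (by norm_num)
  have hzσ : (⟨z, hzD⟩ : D) ∈ Subgroup.zpowers (e'.symm (DihedralGroup.r 1)) := by
    by_contra hno
    have h1 := (S.cover _ (hP ▸ Subgroup.mem_top _)).resolve_left hno
    obtain ⟨i, hi⟩ := Subgroup.mem_zpowers_iff.1 h1
    have hcomm : Commute (e'.symm (DihedralGroup.sr 0)) (e'.symm (DihedralGroup.r 1)) := by
      rw [show e'.symm (DihedralGroup.sr 0) = (⟨z, hzD⟩ : D)⁻¹ *
        (e'.symm (DihedralGroup.r 1)) ^ i by rw [hi, inv_mul_cancel_left]]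
      exact ((hzc _).inv_left).mul_left (Commute.zpow_self _ i)
    have h2' := S.rel
    rw [hcomm.eq, mul_inv_cancel_right] at h2'
    have h3 := orderOf_dvd_of_pow_eq_one (x := e'.symm (DihedralGroup.r 1)) (n := 2)
      (by rw [pow_two, mul_eq_one_iff_eq_inv]; exact h2')
    rw [S.orderσ] at h3
    have := Nat.le_of_dvd two_pos h3
    omega
  have hzJ : (⟨z, hzD⟩ : D) = (e'.symm (DihedralGroup.r 1)) ^ h :=
    (S.eq_central_of_sq hzσ hzsq).resolve_left hz1
  have hDp : IsPGroup 2 D := IsPGroup.of_card (n := blockDefect 2 B) (card_defectGroup hM hB hD)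
  obtain ⟨c, hc⟩ := (exists_pair_iff hM hB hD hDp).2
    ⟨1, by rintro _ ⟨x, hx, rfl⟩; simpa using hx⟩
  have hmax := maximal_of_defectGroup hM hc hD
  have hnil : IsNilpotentBlock 2 M B := by
    refine ⟨hB, fun Q g hQ x hx _ hxr => ?_⟩
    obtain ⟨y, hy⟩ := exists_conj_le_maximal hM hmax hQ
    have hyQ : Q.map (MulAut.conj y).toMonoidHom ≤ D := le_of_rel hy
    refine Subgroup.mem_centralizer_iff.2 fun q hq => ?_
    have hodd : Odd (orderOf (y * x * y⁻¹)) := by
      rw [← MulAut.conj_apply, MulEquiv.orderOf_eq, Nat.odd_iff]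
      have h' : ¬ 2 ∣ orderOf x := hxr
      omega
    have hcomm := commute_of_normalizes_dihedral hP S (x := y * x * y⁻¹) (by
      rw [← hzJ]
      exact (Subgroup.mem_center_iff.1 hz) _) hodd hyQ (fun d hd => by
        obtain ⟨q', hq', rfl⟩ := hd
        refine ⟨x * q' * x⁻¹, (Subgroup.mem_normalizer_iff.1 hx q').1 hq', ?_⟩
        simp only [MulEquiv.coe_toMonoidHom, MulAut.conj_apply]
        group) (d := y * q * y⁻¹) ⟨q, hq, rfl⟩
    exact ((Commute.conj_iff y).1 hcomm).symm.eq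
  exact (nilpotent_blockRank_one hM hnil hD).1

include hM in
/-- With semidihedral defect group and a central involution the block has rank at most two. -/
theorem blockRank_semidihedral_central (hB : IsPBlock M B) {D : Subgroup G}
    (hD : IsDefectGroup 2 M B D) (hsd : IsQuasiDihedral D)
    {z : G} (hz : z ∈ Subgroup.center G) (hz2 : orderOf z = 2) : blockRank 2 B ≤ 2 := by
  classical
  obtain ⟨n, ⟨d⟩⟩ := Cfsg.Lib.TwoGroup.exists_sd hsd
  have hn := d.three_le
  have hzD : z ∈ D := mem_defectGroup_of_central_dihedralCenter hM hB hD hz ⟨1, by rw [hz2, pow_one]⟩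
  have hzc : (⟨z, hzD⟩ : D) ∈ Subgroup.center D := Subgroup.mem_center_iff.2 fun w =>
    Subtype.ext ((Subgroup.mem_center_iff.1 hz) (w : G))
  have hzz : (⟨z, hzD⟩ : D) = d.z := by
    rw [d.center_eq] at hzc
    obtain ⟨i, hi⟩ := Subgroup.mem_zpowers_iff.1 hzc
    rcases Int.even_or_odd' i with ⟨j, rfl | rfl⟩
    · exfalso
      rw [zpow_mul, zpow_ofNat, ← d.orderOf_z, pow_orderOf_eq_one, one_zpow] at hi
      rw [show z = 1 from congrArg Subtype.val hi.symm, orderOf_one] at hz2
      exact absurd hz2 (by norm_num)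
    · rw [← hi, zpow_add, zpow_mul, zpow_ofNat, ← d.orderOf_z, pow_orderOf_eq_one, one_zpow,
        one_mul, zpow_one]
  have hNc : Subgroup.zpowers z ≤ Subgroup.center G := Subgroup.zpowers_le.2 hz
  haveI hNn : (Subgroup.zpowers z).Normal :=
    ⟨fun m hm g => by rw [(Subgroup.mem_center_iff.1 (hNc hm)) g, mul_inv_cancel_right]; exact hm⟩
  have hN : IsPGroup 2 (Subgroup.zpowers z) :=
    IsPGroup.of_card (n := 1) (by rw [Nat.card_zpowers, hz2, pow_one])
  haveI := Fintype.ofFinite (G ⧸ Subgroup.zpowers z)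
  obtain ⟨hBb, hdef⟩ := deflSet_central hM hN hNc hB
  rw [← blockRank_deflSet hM (Subgroup.zpowers z) hN
    (fun g _ => centralizer_of_le_center hNc g) hB]
  obtain ⟨f, hf⟩ : ∃ f : D →* G ⧸ Subgroup.zpowers z,
      f = (QuotientGroup.mk' (Subgroup.zpowers z)).comp D.subtype := ⟨_, rfl⟩
  have hfr : f.range = D.map (QuotientGroup.mk' (Subgroup.zpowers z)) := by
    rw [hf, MonoidHom.range_comp, Subgroup.range_subtype]
  have hker : ∀ a : D, f a = 1 ↔ a ∈ Subgroup.zpowers d.x ∧ (a = 1 ∨ a = d.z) := by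
    intro a
    rw [hf, MonoidHom.comp_apply, QuotientGroup.mk'_apply, QuotientGroup.eq_one_iff]
    constructor
    · intro ha
      obtain ⟨i, hi⟩ := Subgroup.mem_zpowers_iff.1 ha
      have hi' : d.z ^ i = a := by
        rw [← hzz]
        exact Subtype.ext (by rw [SubgroupClass.coe_zpow]; exact hi)
      refine ⟨by rw [← hi']; exact zpow_mem (zpow_mem (Subgroup.mem_zpowers _) _) i, ?_⟩
      rcases Int.even_or_odd' i with ⟨j, rfl | rfl⟩
      · left; rw [← hi', zpow_mul, zpow_ofNat, ← d.orderOf_z, pow_orderOf_eq_one, one_zpow]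
      · right; rw [← hi', zpow_add, zpow_mul, zpow_ofNat, ← d.orderOf_z, pow_orderOf_eq_one,
          one_zpow, one_mul, zpow_one]
    · rintro ⟨-, rfl | rfl⟩
      · exact one_mem _
      · rw [← hzz]; exact Subgroup.mem_zpowers z
  have hyy : f d.y * f d.y = 1 := by rw [← map_mul, d.yy, map_one]
  have hynot : f d.y ∉ Subgroup.zpowers (f d.x) := by
    intro hy
    obtain ⟨i, hi⟩ := Subgroup.mem_zpowers_iff.1 hy
    rw [← map_zpow] at hi
    have := ((hker (d.y⁻¹ * d.x ^ i)).1 (by rw [map_mul, map_inv, hi, inv_mul_cancel])).1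
    exact d.y_notMem ((Subgroup.inv_mem_iff _).1
      ((Subgroup.mul_mem_cancel_right _ (zpow_mem (Subgroup.mem_zpowers _) i)).1 this))
  have hinv : f d.y * f d.x * (f d.y)⁻¹ = (f d.x)⁻¹ := by
    rw [← map_inv, ← map_inv, ← map_mul, ← map_mul, ← mul_inv_eq_one, ← map_inv, ← map_mul,
      inv_inv, ← zpow_one d.x, d.conj_zpow, ← zpow_add]
    rw [show (2 * Cfsg.Lib.TwoGroup.SD.P n - 1) * 1 + 1 = 2 * Cfsg.Lib.TwoGroup.SD.P n by ring]
    exact (hker d.z).2 ⟨zpow_mem (Subgroup.mem_zpowers _) _, Or.inr rfl⟩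
  have hclosure : Subgroup.closure ({f d.x, f d.y} : Set (G ⧸ Subgroup.zpowers z)) =
      D.map (QuotientGroup.mk' (Subgroup.zpowers z)) := by
    rw [← hfr]
    refine le_antisymm ((Subgroup.closure_le _).2 ?_) ?_
    · rintro a (rfl | rfl) <;> exact ⟨_, rfl⟩
    · rintro _ ⟨s, rfl⟩
      obtain ⟨k, rfl | rfl⟩ := d.normal_form s
      · rw [map_zpow]
        exact zpow_mem (Subgroup.subset_closure (Set.mem_insert _ _)) _
      · rw [map_mul, map_zpow]
        exact mul_mem (zpow_mem (Subgroup.subset_closure (Set.mem_insert _ _)) _)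
          (Subgroup.subset_closure (Set.mem_insert_of_mem _ rfl))
  obtain ⟨ee⟩ := Cfsg.Lib.TwoGroup.equiv_dihedral hyy hinv hynot
  rw [hclosure] at ee
  have hcardmap := card_map_mk_mul (p := 2) (N := Subgroup.zpowers z) (P := D) (Subgroup.zpowers_le.2 hzD)
  rw [Nat.card_congr ee.toEquiv, DihedralGroup.nat_card, Nat.card_zpowers, hz2, d.card,
    pow_succ] at hcardmap
  have hord : orderOf (f d.x) = 2 ^ (n - 1) := by
    have e1 : (2 : ℕ) ^ n = 2 * 2 ^ (n - 1) := by
      rw [← pow_succ', show n - 1 + 1 = n by omega]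
    omega
  rw [hord] at ee
  refine blockRank_le_two_of_unfused hM hBb (hdef D hD) hn ee (t := f d.y)
    (by rw [← hfr]; exact ⟨d.y, rfl⟩) hyy (fun e1 => ?_) ?_
  · exact hynot (by rw [e1]; exact one_mem _)
  intro w hw2 hw1 hwc hconj
  obtain ⟨a, ha⟩ : (w : G ⧸ Subgroup.zpowers z) ∈ f.range := by rw [hfr]; exact w.2
  have hfc : ∀ b : D, Commute (f b) (f a) := fun b => by
    have := congrArg Subtype.val (hwc ⟨f b, by rw [← hfr]; exact ⟨b, rfl⟩⟩).eq
    rw [ha]
    exact this
  have hfa2 : f (a * a) = 1 := by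
    rw [map_mul, ha]
    exact congrArg Subtype.val hw2
  have ha1 : f a ≠ 1 := fun e1 => hw1 (Subtype.ext (ha.symm.trans e1))
  have haz : a * a = d.z := by
    refine ((hker _).1 hfa2).2.resolve_left fun e1 => ?_
    obtain ⟨k, rfl | rfl⟩ := d.normal_form a
    · by_cases hk : d.x ^ k = 1
      · exact ha1 (by rw [hk, map_one])
      · exact ha1 ((hker _).2 ⟨zpow_mem (Subgroup.mem_zpowers _) k,
          Or.inr (d.eq_z_of_sq hk e1)⟩)
    · have hc1 := hfc d.x
      rw [map_mul, map_zpow] at hc1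
      have hc2 : Commute (f d.x) (f d.y) := by
        have := (Commute.zpow_right (Commute.refl (f d.x)) (-k)).mul_right hc1
        rwa [← mul_assoc, ← zpow_add, neg_add_cancel, zpow_zero, one_mul] at this
      have h3 : orderOf (f d.x) ∣ 2 := by
        refine orderOf_dvd_of_pow_eq_one ?_
        have e2 := hinv
        rw [← hc2.eq, mul_inv_cancel_right] at e2
        rw [pow_two, mul_eq_one_iff_eq_inv]
        exact e2
      rw [hord] at h3
      have h4 := Nat.le_of_dvd two_pos h3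
      have : 2 ^ 2 ≤ 2 ^ (n - 1) := Nat.pow_le_pow_right two_pos (by omega)
      omega
  obtain ⟨g, hg⟩ := isConj_iff.1 hconj
  obtain ⟨g₀, rfl⟩ := QuotientGroup.mk'_surjective (Subgroup.zpowers z) g
  rw [← ha, hf] at hg
  simp only [MonoidHom.comp_apply, Subgroup.coe_subtype, QuotientGroup.mk'_apply,
    ← QuotientGroup.mk_inv, ← QuotientGroup.mk_mul] at hg
  obtain ⟨i, hi⟩ := Subgroup.mem_zpowers_iff.1 (QuotientGroup.eq.1 hg)
  have hzi : (z ^ i) * (z ^ i) = 1 := by
    rw [← zpow_add, ← two_mul, zpow_mul, zpow_ofNat, ← hz2, pow_orderOf_eq_one, one_zpow]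
  have hA : (a : G) = g₀ * (d.y : G) * g₀⁻¹ * z ^ i := by rw [hi]; group
  have hcz : Commute (z ^ i) (g₀ * (d.y : G) * g₀⁻¹) :=
    ((Subgroup.mem_center_iff.1 (hNc (zpow_mem (Subgroup.mem_zpowers z) i))) _).symm
  have hyG : (d.y : G) * (d.y : G) = 1 := congrArg Subtype.val d.yy
  have hone : (a : G) * (a : G) = 1 := by
    rw [hA, hcz.mul_mul_mul_comm, hzi, mul_one,
      show g₀ * (d.y : G) * g₀⁻¹ * (g₀ * (d.y : G) * g₀⁻¹) = g₀ * ((d.y : G) * (d.y : G)) * g₀⁻¹ by
        group, hyG, mul_one, mul_inv_cancel]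
  exact d.z_ne_one (haz ▸ Subtype.ext hone)

end Cfsg.Lib.Block
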