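import Cfsg.Agent.Lib.Block.DefectTwoBound

/-!
# Pairings of sections with the characters of the centralizer

`secT` pairs the regular part of a section with a character of the block of the centralizer. At a
major subsection it is the degree factor times a unit at the prime.
-/

set_option autoImplicit false
set_option linter.unusedSectionVars false
set_option maxHeartbeats 400000

namespace Cfsg.Lib.Block

open Cfsg
open scoped ComplexConjugate

universe u

variable {p : ℕ} {M : Ideal AlgInt} {G : Type u} [Group G] [Fintype G] [Fact p.Prime]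
  (hM : IsPModular p M) {H : Subgroup G} [Fintype H] {u : G}
  {b : Set (IrrCharacter H)} {B : Set (IrrCharacter G)}

/-- The scaled regular inner product of a section with a character. -/
noncomputable def secT (p d : ℕ) (u : G) (χ : IrrCharacter G) (φ : IrrCharacter H) : ℂ :=
  ((p ^ d : ℕ) : ℂ) * regInner p (secFn u H (χ : G → ℂ)) (φ : H → ℂ)

open Classical in
include hM in
theorem secT_eq_sum (hHu : ∀ h : H, Commute u (h : G)) (hb : IsPBlock M b) {d : ℕ}
    (hbd : blockDefect p b = d) (χ : IrrCharacter G) {φ : IrrCharacter H} (hφ : φ ∈ b) :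
    secT p d u χ φ =
      ∑ ξ ∈ b.toFinset, classInner (secFn u H (χ : G → ℂ)) (ξ : H → ℂ) * regN p b ξ φ := by
  have hexp := Char.eq_sum_classInner (isClassFunction_secFn hHu χ)
  have e : pRegularPart p (secFn u H (χ : G → ℂ)) = ∑ ξ : IrrCharacter H,
      classInner (secFn u H (χ : G → ℂ)) (ξ : H → ℂ) • pRegularPart p (ξ : H → ℂ) := by
    funext c
    simp only [Finset.sum_apply, Pi.smul_apply, smul_eq_mul]
    by_cases hc : IsPRegular p c
    · conv_lhs => rw [pRegularPart_of_reg hc, hexp]
      simp [pRegularPart_of_reg hc]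
    · simp [pRegularPart_of_sing hc]
  rw [secT, regInner, e, Char.classInner_sum_left, Finset.mul_sum,
    ← Finset.sum_subset (Finset.subset_univ b.toFinset) fun ξ _ hξ => ?_]
  · refine Finset.sum_congr rfl fun ξ _ => ?_
    rw [Char.classInner_smul_left, regN, hbd, regInner]
    ring
  · rw [Char.classInner_smul_left, ← regInner, ← regInner_symm,
      regInner_eq_zero hM (vInt_indVec hM hb) hφ fun h => hξ (Set.mem_toFinset.2 h),
      mul_zero, mul_zero]

open Classical in
include hM in
/-- Orthogonality of the pairings over the induced block. -/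
theorem sum_secT_mul_conj (hu : ∃ k : ℕ, orderOf u = p ^ k) (hHu : ∀ h : H, Commute u (h : G))
    (hCH : Subgroup.centralizer ({u} : Set G) ≤ H) (hind : IsInducedBlock M H b B) {d : ℕ}
    (hbd : blockDefect p b = d) {φ φ' : IrrCharacter H} (hφ : φ ∈ b) (hφ' : φ' ∈ b) :
    ∑ χ ∈ B.toFinset, secT p d u χ φ * conj (secT p d u χ φ') =
      ((p ^ d : ℕ) : ℂ) * conj (regN p b φ φ') := by
  have hK : ((Nat.card H : ℕ) : ℂ) ≠ 0 := Char.card_cast_ne_zero
  have e1 : ∀ (χ : IrrCharacter G) (ψ : IrrCharacter H), ψ ∈ b → secT p d u χ ψ =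
      ((p ^ d : ℕ) : ℂ) * ((Nat.card H : ℂ)⁻¹ * ∑ s : H, pRegularPart p
        (blockPart b (secFn u H (χ : G → ℂ))) s * conj ((ψ : H → ℂ) s)) := by
    intro χ ψ hψ
    rw [secT_eq_sum hM hHu hind.1 hbd χ hψ]
    simp only [regN, regInner, classInner, hbd, Finset.mul_sum]
    rw [Finset.sum_comm]
    refine Finset.sum_congr rfl fun s _ => ?_
    by_cases hs : IsPRegular p s
    · simp only [pRegularPart_of_reg hs, blockPart, classInner, finsum_mem_eq_toFinset_sum,
        Finset.mul_sum, Finset.sum_mul]
      refine Finset.sum_congr rfl fun ξ _ => Finset.sum_congr (by ext; simp) fun t _ => ?_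
      ring
    · simp [pRegularPart_of_sing hs]
  have hsel : ∀ s : H, IsPRegular p s → ∑ t : H, pRegularPart p (φ' : H → ℂ) t * regKer b s t =
      (Nat.card H : ℂ) * (φ' : H → ℂ) s := by
    intro s hs
    have h := sum_char_mul_regKer b φ' s
    rw [if_pos hφ'] at h
    rw [← h, ← mul_assoc, mul_inv_cancel₀ hK, one_mul]
    refine Finset.sum_congr rfl fun t _ => ?_
    by_cases ht : IsPRegular p t
    · rw [pRegularPart_of_reg ht]
    · rw [regKer_eq_zero hM (vInt_indVec hM hind.1) hs ht, mul_zero, mul_zero]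
  have e2 : ∀ s t : H, ∑ χ ∈ B.toFinset, pRegularPart p (blockPart b (secFn u H (χ : G → ℂ))) s *
      conj (pRegularPart p (blockPart b (secFn u H (χ : G → ℂ))) t) =
      if IsPRegular p s ∧ IsPRegular p t then regKer b s t else 0 := by
    intro s t
    by_cases hs : IsPRegular p s
    · by_cases ht : IsPRegular p t
      · rw [if_pos ⟨hs, ht⟩, ← sum_blockPart_mul_conj_block hM hu hHu hCH hind hs ht]
        exact Finset.sum_congr rfl fun χ _ => by
          rw [pRegularPart_of_reg hs, pRegularPart_of_reg ht]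
      · rw [if_neg fun h => ht h.2]
        simp [pRegularPart_of_sing ht]
    · rw [if_neg fun h => hs h.1]
      simp [pRegularPart_of_sing hs]
  have e3 : ∀ s : H, ∑ t : H, (if IsPRegular p s ∧ IsPRegular p t then regKer b s t else 0) *
      (φ' : H → ℂ) t = (Nat.card H : ℂ) * pRegularPart p (φ' : H → ℂ) s := by
    intro s
    by_cases hs : IsPRegular p s
    · rw [pRegularPart_of_reg hs, ← hsel s hs]
      refine Finset.sum_congr rfl fun t _ => ?_
      by_cases ht : IsPRegular p t
      · rw [if_pos ⟨hs, ht⟩, pRegularPart_of_reg ht, mul_comm]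
      · rw [if_neg fun h => ht h.2, pRegularPart_of_sing ht, zero_mul, zero_mul]
    · rw [pRegularPart_of_sing hs, mul_zero]
      exact Finset.sum_eq_zero fun t _ => by rw [if_neg fun h => hs h.1, zero_mul]
  calc ∑ χ ∈ B.toFinset, secT p d u χ φ * conj (secT p d u χ φ')
      = ((p ^ d : ℕ) : ℂ) ^ 2 * ((Nat.card H : ℂ)⁻¹) ^ 2 * ∑ s : H, conj ((φ : H → ℂ) s) *
          ∑ t : H, (∑ χ ∈ B.toFinset, pRegularPart p (blockPart b (secFn u H (χ : G → ℂ))) s *
            conj (pRegularPart p (blockPart b (secFn u H (χ : G → ℂ))) t)) * (φ' : H → ℂ) t := by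
        rw [Finset.sum_congr rfl fun χ _ => by rw [e1 χ φ hφ, e1 χ φ' hφ']]
        simp only [map_mul, map_natCast, map_inv₀, map_sum, Complex.conj_conj, Finset.mul_sum,
          Finset.sum_mul]
        conv_rhs => arg 2; ext s; rw [Finset.sum_comm]
        conv_rhs => rw [Finset.sum_comm]
        refine Finset.sum_congr rfl fun χ _ => ?_
        rw [Finset.sum_comm]
        refine Finset.sum_congr rfl fun s _ => Finset.sum_congr rfl fun t _ => ?_
        ring
    _ = _ := by
        simp only [e2, e3]
        rw [regN, hbd, regInner, classInner]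
        simp only [map_mul, map_natCast, map_inv₀, map_sum, Complex.conj_conj, Finset.mul_sum]
        refine Finset.sum_congr rfl fun s _ => ?_
        by_cases hs : IsPRegular p s
        · simp only [pRegularPart_of_reg hs]
          field_simp
        · simp [pRegularPart_of_sing hs]

open Classical in
/-- The sum over the regular classes which gives a pairing. -/
noncomputable def secS (p : ℕ) (u : G) (χ : IrrCharacter G) (φ : IrrCharacter H) : ℂ :=
  ∑ C ∈ Finset.univ.image (ConjClasses.mk : H → ConjClasses H),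
    if IsPRegular p C.out then centralChar (χ : G → ℂ) (u * (C.out : H)) * conj ((φ : H → ℂ) C.out)
    else 0

open Classical in
theorem secT_eq_class (hu : ∃ k : ℕ, orderOf u = p ^ k) (hHu : ∀ h : H, Commute u (h : G))
    (hCH : Subgroup.centralizer ({u} : Set G) ≤ H) (d : ℕ) (χ : IrrCharacter G)
    (φ : IrrCharacter H) :
    secT p d u χ φ =
      ((p ^ d : ℕ) : ℂ) * (χ : G → ℂ) 1 / (Nat.card G : ℂ) * secS p u χ φ := by
  set g : H → ℂ := fun s => pRegularPart p (secFn u H (χ : G → ℂ)) s * conj ((φ : H → ℂ) s)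
    with hg
  have hgc : IsClassFunction H g := fun s k => by
    simp only [hg]
    rw [isClassFunction_pRegularPart (isClassFunction_secFn hHu χ) s k,
      φ.2.isClassFunction s k]
  have hsum : ∑ s, g s = ∑ C ∈ Finset.univ.image (ConjClasses.mk : H → ConjClasses H),
      ((Subgroup.centralizer ({C.out} : Set H)).index : ℂ) * g C.out := by
    rw [← Finset.sum_fiberwise_of_maps_to (g := (ConjClasses.mk : H → ConjClasses H))
      (t := Finset.univ.image ConjClasses.mk) fun s hs => Finset.mem_image_of_mem _ hs]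
    refine Finset.sum_congr rfl fun C _ => ?_
    rw [← Char.card_classFinset C.out, ← Char.sum_classFinset hgc]
    refine Finset.sum_congr ?_ fun _ _ => rfl
    ext x
    rw [Char.mem_classFinset, Finset.mem_filter, ← ConjClasses.mk_eq_mk_iff_isConj,
      show ConjClasses.mk C.out = C from Quotient.out_eq C]
    exact ⟨fun h => h.2.symm, fun h => ⟨Finset.mem_univ _, h.symm⟩⟩
  have hcl : ∀ s : H, IsPRegular p s →
      Nat.card (Subgroup.centralizer ({u * (s : G)} : Set G)) =
        Nat.card (Subgroup.centralizer ({s} : Set H)) := by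
    intro s hs
    have hle : Subgroup.centralizer ({u * (s : G)} : Set G) ≤ H := by
      intro x hx
      refine hCH (Subgroup.mem_centralizer_iff.2 fun w hw => ?_)
      rw [Set.mem_singleton_iff] at hw
      rw [hw]
      have hc : Commute x (u * (s : G)) :=
        (Subgroup.mem_centralizer_iff.1 hx _ (Set.mem_singleton _)).symm
      have hpp : pPt p (u * (s : G)) = u :=
        pPt_mul_reg hu (hHu s) (by rwa [IsPRegular, orderOf_submonoid])
      have h3 := pPt_conj (p := p) (u * (s : G)) x
      rw [hc.eq, mul_inv_cancel_right, hpp, eq_mul_inv_iff_mul_eq] at h3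
      exact h3
    have e : (Subgroup.centralizer ({u * (s : G)} : Set G)).subgroupOf H =
        Subgroup.centralizer ({s} : Set H) := by
      ext x
      simp only [Subgroup.mem_subgroupOf, Subgroup.mem_centralizer_iff, Set.mem_singleton_iff,
        forall_eq]
      constructor
      · intro h
        apply Subtype.ext
        simp only [Subgroup.coe_mul]
        rw [mul_assoc, ← mul_assoc (x : G) u, ← (hHu x).eq, mul_assoc u] at h
        exact mul_left_cancel h
      · intro h
        have h' := congrArg Subtype.val h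
        simp only [Subgroup.coe_mul] at h'
        rw [mul_assoc, h', ← mul_assoc, (hHu x).eq, mul_assoc]
    rw [← e, Nat.card_congr (Subgroup.subgroupOfEquivOfLe hle).toEquiv]
  rw [secT, regInner, classInner, secS]
  rw [show ∑ s, pRegularPart p (secFn u H (χ : G → ℂ)) s * conj ((φ : H → ℂ) s) = ∑ s, g s from rfl,
    hsum, Finset.mul_sum, Finset.mul_sum, Finset.mul_sum]
  refine Finset.sum_congr rfl fun C _ => ?_
  simp only [hg]
  by_cases hC : IsPRegular p C.out
  · rw [pRegularPart_of_reg hC, if_pos hC]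
    simp only [secFn, centralChar]
    have hcard := hcl C.out hC
    have h1 := (Subgroup.centralizer ({C.out} : Set H)).card_mul_index
    have h2 := (Subgroup.centralizer ({u * (C.out : H)} : Set G)).card_mul_index
    rw [hcard] at h2
    have h1' : (Nat.card (Subgroup.centralizer ({C.out} : Set H)) : ℂ) *
        ((Subgroup.centralizer ({C.out} : Set H)).index : ℂ) = (Nat.card H : ℂ) := by
      exact_mod_cast h1
    have h2' : (Nat.card (Subgroup.centralizer ({C.out} : Set H)) : ℂ) *
        ((Subgroup.centralizer ({u * (C.out : H)} : Set G)).index : ℂ) = (Nat.card G : ℂ) := by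
      exact_mod_cast h2
    have hH0 := Char.card_cast_ne_zero (G := H)
    have hG0 := Char.card_cast_ne_zero (G := G)
    have hχ0 := χ.2.apply_one_ne_zero
    field_simp
    rw [← h1', ← h2']
    ring
  · rw [pRegularPart_of_sing hC, if_neg hC]
    simp

open Classical in
include hM in
theorem secS_mem (χ : IrrCharacter G) (φ : IrrCharacter H) : secS p u χ φ ∈ locRing hM := by
  refine sum_mem fun C _ => ?_
  split_ifs
  · refine mul_mem (centralChar_mem_locRing hM χ _) ?_
    rw [← φ.2.isCharacter.apply_inv]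
    exact charVal_mem_locRing hM φ _
  · exact zero_mem _

open Classical in
include hM in
theorem secS_sub_mem (hB : IsPBlock M B) {χ η : IrrCharacter G} (hχ : χ ∈ B) (hη : η ∈ B)
    (φ : IrrCharacter H) : MemLocalIdeal M (secS p u χ φ - secS p u η φ) := by
  rw [secS, secS, ← Finset.sum_sub_distrib]
  refine memLocalIdeal_sum hM _ _ fun C _ => ?_
  split_ifs
  · rw [← sub_mul]
    refine memLocalIdeal_mul_right hM (sameBlock_of_mem hM hB hχ hη _) ?_
    rw [← φ.2.isCharacter.apply_inv]
    exact charVal_mem_locRing hM φ _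
  · simpa using memLocalIdeal_zero hM

include hM in
/-- The degree factor at a major subsection. -/
theorem degree_factor_facts {d : ℕ} (hB : IsPBlock M B) (hBd : blockDefect p B = d)
    {χ : IrrCharacter G} (hχ : χ ∈ B) :
    ((p ^ d : ℕ) : ℂ) * (χ : G → ℂ) 1 / (Nat.card G : ℂ) /
        (p : ℂ) ^ blockHeight p B (χ : G → ℂ) ∈ locRing hM ∧
      ¬ MemLocalIdeal M (((p ^ d : ℕ) : ℂ) * (χ : G → ℂ) 1 / (Nat.card G : ℂ) /
        (p : ℂ) ^ blockHeight p B (χ : G → ℂ)) := by
  have hp := (Fact.out : p.Prime)
  set h := blockHeight p B (χ : G → ℂ) with hh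
  have e : ((p ^ d : ℕ) : ℂ) * (χ : G → ℂ) 1 / (Nat.card G : ℂ) / (p : ℂ) ^ h =
      ((p ^ d * charDegree (χ : G → ℂ) : ℕ) : ℂ) / ((Nat.card G * p ^ h : ℕ) : ℂ) := by
    rw [apply_one_eq_charDegree χ, div_div]
    push_cast
    rfl
  have hf1 : (p ^ d * charDegree (χ : G → ℂ)).factorization p =
      d + (charDegree (χ : G → ℂ)).factorization p := by
    rw [Nat.factorization_mul (pow_ne_zero _ hp.ne_zero) (charDegree_pos χ).ne', Finsupp.add_apply,
      Nat.factorization_pow, Finsupp.smul_apply, hp.factorization_self]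
    simp
  have hf2 : (Nat.card G * p ^ h).factorization p = (Nat.card G).factorization p + h := by
    rw [Nat.factorization_mul Nat.card_pos.ne' (pow_ne_zero _ hp.ne_zero), Finsupp.add_apply,
      Nat.factorization_pow, Finsupp.smul_apply, hp.factorization_self]
    simp
  have h1 := blockDefect_add_minVal (p := p) (nonempty_of_isPBlock hM hB)
  have h2 := minVal_le (p := p) hχ
  rw [hBd] at h1
  have h3 : h = (charDegree (χ : G → ℂ)).factorization p - minVal p B := blockHeight_eq B _
  rw [e]
  exact ⟨natCast_div_mem hM (Nat.mul_ne_zero Nat.card_pos.ne' (pow_ne_zero _ hp.ne_zero))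
      (Or.inr (by omega)),
    natCast_div_not_ideal hM (Nat.mul_ne_zero (pow_ne_zero _ hp.ne_zero) (charDegree_pos χ).ne')
      (Nat.mul_ne_zero Nat.card_pos.ne' (pow_ne_zero _ hp.ne_zero)) (by omega)⟩

open Classical in
include hM in
/-- A pairing at a height zero character is a unit. -/
theorem secT_not_mem (hu : ∃ k : ℕ, orderOf u = p ^ k) (hHu : ∀ h : H, Commute u (h : G))
    (hCH : Subgroup.centralizer ({u} : Set G) ≤ H) (hind : IsInducedBlock M H b B) {d : ℕ}
    (hbd : blockDefect p b = d) {χ : IrrCharacter G} (hχ : χ ∈ B)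
    (hh : blockHeight p B (χ : G → ℂ) = 0) {φ : IrrCharacter H} (hφ : φ ∈ b)
    (hφ0 : blockHeight p b (φ : H → ℂ) = 0) : ¬ MemLocalIdeal M (secT p d u χ φ) := by
  intro hT
  refine contr_not_mem hM hu hHu hCH hind hbd hχ hχ hh hh ?_
  obtain ⟨m, hm⟩ := exists_regForm hM hind.1
  have hb := hind.1
  have hN0 : ¬ MemLocalIdeal M (m φ φ : ℂ) := fun h =>
    hm.not_dvd φ hφ φ hφ hφ0 (by
      rw [hφ0, zero_add, pow_one]; exact dvd_of_memLocalIdeal_intCast hM h)
  have hac : ∀ ξ : IrrCharacter H, classInner (secFn u H (χ : G → ℂ)) (ξ : H → ℂ) ∈ locRing hM := by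
    intro ξ
    have huH : u ∈ H := hCH (Subgroup.mem_centralizer_iff.2 fun z hz => by
      rw [Set.mem_singleton_iff] at hz; rw [hz])
    obtain ⟨c, hc, hcχ⟩ := classInner_secFn huH hHu χ ξ
    obtain ⟨n, hn⟩ := (χ.2.isCharacter.comp H.subtype).exists_nat_classInner ξ.2.isCharacter
    rw [hcχ, show classInner (fun h : H => (χ : G → ℂ) h) (ξ : H → ℂ) = n from hn]
    exact mul_mem (isIntegral_mem_locRing hM
      (IsIntegral.of_pow (orderOf_pos u) (hc.symm ▸ isIntegral_one))) (natCast_mem _ _)
  have hcj : ∀ ξ : IrrCharacter H,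
      conj (classInner (secFn u H (χ : G → ℂ)) (ξ : H → ℂ)) ∈ locRing hM := by
    intro ξ
    have huH : u ∈ H := hCH (Subgroup.mem_centralizer_iff.2 fun z hz => by
      rw [Set.mem_singleton_iff] at hz; rw [hz])
    obtain ⟨c, hc, hcχ⟩ := classInner_secFn huH hHu χ ξ
    obtain ⟨n, hn⟩ := (χ.2.isCharacter.comp H.subtype).exists_nat_classInner ξ.2.isCharacter
    rw [hcχ, show classInner (fun h : H => (χ : G → ℂ) h) (ξ : H → ℂ) = n from hn, map_mul,
      map_natCast]
    refine mul_mem (isIntegral_mem_locRing hM (IsIntegral.of_pow (orderOf_pos u) ?_))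
      (natCast_mem _ _)
    rw [← map_pow, hc, map_one]
    exact isIntegral_one
  have key : ∀ ξ' ∈ b, MemLocalIdeal M (secT p d u χ ξ') := by
    intro ξ' hξ'
    have h1 : MemLocalIdeal M (secT p d u χ ξ' * (m φ φ : ℂ) -
        secT p d u χ φ * (m ξ' φ : ℂ)) := by
      rw [secT_eq_sum hM hHu hb hbd χ hξ', secT_eq_sum hM hHu hb hbd χ hφ, Finset.sum_mul,
        Finset.sum_mul, ← Finset.sum_sub_distrib]
      refine memLocalIdeal_sum hM _ _ fun ξ hξ => ?_
      have hξb := Set.mem_toFinset.1 hξ
      rw [hm.eq ξ hξb ξ' hξ', hm.eq ξ hξb φ hφ, mul_assoc, mul_assoc, ← mul_sub,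
        ← Int.cast_mul, ← Int.cast_mul, ← Int.cast_sub]
      refine memLocalIdeal_mul_left hM (hac ξ) ?_
      obtain ⟨q, hq⟩ := hm.rankOne hM hb hφ hφ0 hξb hξ'
      rw [hq, Int.cast_mul, Int.cast_natCast]
      exact memLocalIdeal_mul_right hM ((memLocalIdeal_natCast_iff hM p).2 dvd_rfl)
        (intCast_mem _ _)
    have h2 := memLocalIdeal_add hM h1 (memLocalIdeal_mul_right hM hT (intCast_mem _ (m ξ' φ)))
    rw [sub_add_cancel] at h2
    have hmem : secT p d u χ ξ' ∈ locRing hM := by
      rw [secT_eq_sum hM hHu hb hbd χ hξ']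
      exact sum_mem fun ξ hξ => mul_mem (hac ξ) (by
        rw [hm.eq ξ (Set.mem_toFinset.1 hξ) ξ' hξ']; exact intCast_mem _ _)
    exact ((memLocalIdeal_mul_iff hM hmem (intCast_mem _ _)).1 h2).resolve_right hN0
  rw [contr_eq_sum hM hb d hbd, Finset.sum_comm]
  refine memLocalIdeal_sum hM _ _ fun ξ' hξ' => ?_
  have hξb := Set.mem_toFinset.1 hξ'
  have := memLocalIdeal_mul_left hM (hcj ξ') (key ξ' hξb)
  rw [secT_eq_sum hM hHu hb hbd χ hξb, Finset.mul_sum] at this
  convert this using 1
  exact Finset.sum_congr rfl fun ξ _ => by ring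

end Cfsg.Lib.Block
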