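import Cfsg.Agent.Lib.Block.DihedralColumns

/-!
# The principal two-block of a group with dihedral Sylow two-subgroups

The weights of the rotation determine four nonexceptional characters of odd degree and `h - 1`
further ones; there are no others.
-/

set_option autoImplicit false
set_option linter.unusedSectionVars false
set_option maxHeartbeats 1600000

namespace Cfsg.Lib.Block

open Cfsg
open scoped ComplexConjugate

universe u

noncomputable local instance (priority := high) fintypeSubgroupDihedralPrincipal {A : Type u}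
    [Group A] [Fintype A] (H : Subgroup A) : Fintype H := Fintype.ofFinite H

/-- Integers whose squares sum to at most three. -/
theorem sign_of_sq_le_three {a : ℤ} (h : a * a ≤ 3) : a = -1 ∨ a = 0 ∨ a = 1 := by
  have h1 : -1 ≤ a ∧ a ≤ 1 := ⟨by nlinarith, by nlinarith⟩
  omega

/-- Three rows of weights. -/
theorem exists_support {α : Type*} [DecidableEq α] (s : Finset α) (f : α → ℤ) (n : ℕ)
    (hn : n ≤ 3) (hsum : ∑ x ∈ s, f x * f x = n) :
    (s.filter fun x => f x ≠ 0).card = n ∧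
      ∀ x ∈ s, f x = -1 ∨ f x = 0 ∨ f x = 1 := by
  have hall : ∀ x ∈ s, f x = -1 ∨ f x = 0 ∨ f x = 1 := fun x hx => sign_of_sq_le_three (by
    have := Finset.single_le_sum (fun y _ => mul_self_nonneg (f y)) hx
    rw [hsum] at this
    omega)
  refine ⟨?_, hall⟩
  rw [← Finset.sum_filter_add_sum_filter_not s (fun x => f x ≠ 0),
    Finset.sum_eq_zero (s := s.filter fun x => ¬f x ≠ 0) (fun x hx => by
      rw [not_not.1 (Finset.mem_filter.1 hx).2, mul_zero]), add_zero,
    Finset.sum_congr rfl (g := fun _ => (1 : ℤ)) (fun x hx => by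
      obtain ⟨hxs, hx0⟩ := Finset.mem_filter.1 hx
      rcases hall x hxs with h | h | h <;> simp_all), Finset.sum_const, nsmul_eq_mul, mul_one]
    at hsum
  exact_mod_cast hsum

/-- The combinatorics of weights with the Gram matrix of the rotation. -/
theorem weight_shape {α : Type*} [DecidableEq α] (B : Finset α) {one : α} (hone : one ∈ B) {h : ℕ}
    (hh : 2 ≤ h) (heven : Even h) (w : ℕ → α → ℤ) (deg : α → ℤ)
    (hw1 : ∀ j, 0 < j → j ≤ h → w j one = -1) (hd1 : deg one = 1)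
    (hgram : ∀ j k, 0 < j → j ≤ h → 0 < k → k ≤ h →
      ∑ x ∈ B, w j x * w k x = 2 + (if j = k then 1 else 0) + if j + k = 2 * h then 1 else 0)
    (hrel : ∀ j, 0 < j → j ≤ h → ∑ x ∈ B, w j x * deg x = 0) :
    ∃ (c x₂ x₃ : α) (Y : ℕ → α), c ∈ B ∧ x₂ ∈ B ∧ x₃ ∈ B ∧ c ≠ one ∧ x₂ ≠ one ∧ x₃ ≠ one ∧
      c ≠ x₂ ∧ c ≠ x₃ ∧ x₂ ≠ x₃ ∧
      (w h c = 1 ∨ w h c = -1) ∧ (w h x₂ = 1 ∨ w h x₂ = -1) ∧ (w h x₃ = 1 ∨ w h x₃ = -1) ∧
      (∀ x ∈ B, w h x ≠ 0 → x = one ∨ x = c ∨ x = x₂ ∨ x = x₃) ∧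
      (∀ j, 0 < j → j < h → Y j ∈ B ∧ Y j ≠ one ∧ Y j ≠ c ∧ Y j ≠ x₂ ∧ Y j ≠ x₃ ∧
        w j c = w h c ∧ (w j (Y j) = 1 ∨ w j (Y j) = -1) ∧
        ∀ x ∈ B, w j x ≠ 0 → x = one ∨ x = c ∨ x = Y j) ∧
      ∀ j k, 0 < j → j < h → 0 < k → k < h → Y j = Y k → j = k := by
  obtain ⟨s, hs⟩ : ∃ s, s = B.erase one := ⟨_, rfl⟩
  have hsum : ∀ j k, 0 < j → j ≤ h → 0 < k → k ≤ h → ∑ x ∈ s, w j x * w k x =
      1 + (if j = k then 1 else 0) + if j + k = 2 * h then 1 else 0 := by
    intro j k hj0 hj hk0 hk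
    have e := hgram j k hj0 hj hk0 hk
    rw [← Finset.add_sum_erase _ _ hone, hw1 j hj0 hj, hw1 k hk0 hk, ← hs] at e
    linarith
  have hdeg : ∀ j, 0 < j → j ≤ h → ∑ x ∈ s, w j x * deg x = 1 := by
    intro j hj0 hj
    have e := hrel j hj0 hj
    rw [← Finset.add_sum_erase _ _ hone, hw1 j hj0 hj, hd1, ← hs] at e
    linarith
  have hmid := hsum h h (by omega) le_rfl (by omega) le_rfl
  rw [if_pos rfl, if_pos (two_mul h).symm] at hmid
  obtain ⟨hH, hHs⟩ := exists_support s (w h) 3 le_rfl (by rw [hmid]; rfl)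
  -- each other row has one common and one further entry
  have hrow : ∀ j, 0 < j → j < h → ∃ p q, p ∈ s ∧ q ∈ s ∧ p ≠ q ∧ w h p ≠ 0 ∧ w h q = 0 ∧
      w j p = w h p ∧ (w j q = 1 ∨ w j q = -1) ∧ ∀ x ∈ s, w j x ≠ 0 → x = p ∨ x = q := by
    intro j hj0 hj
    have e := hsum j j hj0 hj.le hj0 hj.le
    rw [if_pos rfl, if_neg (by omega)] at e
    obtain ⟨hJ, hJs⟩ := exists_support s (w j) 2 (by norm_num) (by rw [e]; rfl)
    obtain ⟨p, q, hpq, hset⟩ := Finset.card_eq_two.1 hJ
    have hmem : ∀ x, x ∈ s.filter (fun x => w j x ≠ 0) ↔ x = p ∨ x = q := fun x => by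
      rw [hset]; simp
    have hp := Finset.mem_filter.1 ((hmem p).2 (Or.inl rfl))
    have hq := Finset.mem_filter.1 ((hmem q).2 (Or.inr rfl))
    have hcross := hsum j h hj0 hj.le (by omega) le_rfl
    rw [if_neg (by omega), if_neg (by omega), ← Finset.sum_filter_of_ne (p := fun x => w j x ≠ 0)
      (fun x _ hne h0 => hne (by rw [h0, zero_mul])), hset, Finset.sum_pair hpq] at hcross
    have hpv : w j p = 1 ∨ w j p = -1 := by rcases hJs p hp.1 with h | h | h <;> simp_all
    have hqv : w j q = 1 ∨ w j q = -1 := by rcases hJs q hq.1 with h | h | h <;> simp_all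
    have hall : ∀ x ∈ s, w j x ≠ 0 → x = p ∨ x = q := fun x hx hx0 =>
      (hmem x).1 (Finset.mem_filter.2 ⟨hx, hx0⟩)
    by_cases hq0 : w h q = 0
    · refine ⟨p, q, hp.1, hq.1, hpq, ?_, hq0, ?_, hqv, hall⟩
      · intro h0; rw [h0, hq0, mul_zero, mul_zero] at hcross; norm_num at hcross
      · rw [hq0, mul_zero] at hcross
        rcases hpv with h | h <;> rw [h] at hcross ⊢ <;> omega
    · have hp0 : w h p = 0 := by
        by_contra hp0
        rcases hpv with h1 | h1 <;> rcases hqv with h2 | h2 <;> rw [h1, h2] at hcross <;>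
          rcases hHs p hp.1 with h3 | h3 | h3 <;> rcases hHs q hq.1 with h4 | h4 | h4 <;> omega
      refine ⟨q, p, hq.1, hp.1, hpq.symm, hq0, hp0, ?_, hpv, fun x hx hx0 => (hall x hx hx0).symm⟩
      rw [hp0, mul_zero] at hcross
      rcases hqv with h | h <;> rw [h] at hcross ⊢ <;> omega
  haveI : Nonempty α := ⟨one⟩
  choose! c Y hcs hYs hcY hc0 hY0 hcv hYv hcov using hrow
  have hpair : ∀ j k, 0 < j → j < h → 0 < k → k < h → j ≠ k →
      (c j = c k ∧ Y j ≠ Y k) ∨ (c j ≠ c k ∧ Y j = Y k) := by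
    intro j k hj0 hj hk0 hk hne
    have e := hsum j k hj0 hj.le hk0 hk.le
    rw [if_neg hne, if_neg (by omega)] at e
    have hYc : Y j ≠ c k := fun h' => hc0 k hk0 hk (h' ▸ hY0 j hj0 hj)
    have hcY' : c j ≠ Y k := fun h' => hc0 j hj0 hj (h'.symm ▸ hY0 k hk0 hk)
    rw [← Finset.sum_subset (s₁ := {c j, Y j}) (by
        intro x hx
        simp only [Finset.mem_insert, Finset.mem_singleton] at hx
        rcases hx with rfl | rfl
        · exact hcs j hj0 hj
        · exact hYs j hj0 hj)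
      (fun x hx hn => by
        by_cases h0 : w j x = 0
        · rw [h0, zero_mul]
        · simp only [Finset.mem_insert, Finset.mem_singleton] at hn
          exact absurd (hcov j hj0 hj x hx h0) hn),
      Finset.sum_pair (hcY j hj0 hj)] at e
    have h1 : c j ≠ c k → w k (c j) = 0 := fun hne' => by
      by_contra h0
      rcases hcov k hk0 hk _ (hcs j hj0 hj) h0 with h' | h'
      · exact hne' h'
      · exact hcY' h'
    have h2 : Y j ≠ Y k → w k (Y j) = 0 := fun hne' => by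
      by_contra h0
      rcases hcov k hk0 hk _ (hYs j hj0 hj) h0 with h' | h'
      · exact hYc h'
      · exact hne' h'
    by_cases hc : c j = c k
    · refine Or.inl ⟨hc, fun hY => ?_⟩
      rw [hcv j hj0 hj, hc, hcv k hk0 hk, hY] at e
      rcases hHs _ (hcs k hk0 hk) with a | a | a
      · rcases hY ▸ hYv j hj0 hj with b | b <;> rcases hYv k hk0 hk with b' | b' <;>
          rw [a, b, b'] at e <;> omega
      · exact hc0 k hk0 hk a
      · rcases hY ▸ hYv j hj0 hj with b | b <;> rcases hYv k hk0 hk with b' | b' <;>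
          rw [a, b, b'] at e <;> omega
    · refine Or.inr ⟨hc, by_contra fun hY => ?_⟩
      rw [h1 hc, h2 hY, mul_zero, mul_zero] at e
      norm_num at e
  have hdegj : ∀ j, 0 < j → j < h → w h (c j) * deg (c j) + w j (Y j) * deg (Y j) = 1 := by
    intro j hj0 hj
    have e := hdeg j hj0 hj.le
    rwa [← Finset.sum_subset (s₁ := {c j, Y j}) (by
        intro x hx
        simp only [Finset.mem_insert, Finset.mem_singleton] at hx
        rcases hx with rfl | rfl
        · exact hcs j hj0 hj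
        · exact hYs j hj0 hj)
      (fun x hx hn => by
        by_cases h0 : w j x = 0
        · rw [h0, zero_mul]
        · simp only [Finset.mem_insert, Finset.mem_singleton] at hn
          exact absurd (hcov j hj0 hj x hx h0) hn),
      Finset.sum_pair (hcY j hj0 hj), hcv j hj0 hj] at e
  have hsame : ∀ j k, 0 < j → j < h → 0 < k → k < h → c j = c k := by
    intro j k hj0 hj hk0 hk
    by_contra hne
    have hjk : j ≠ k := fun e => hne (e ▸ rfl)
    have hYjk : Y j = Y k := ((hpair j k hj0 hj hk0 hk hjk).resolve_left fun e => hne e.1).2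
    have hallY : ∀ l, 0 < l → l < h → Y l = Y j := by
      intro l hl0 hl
      by_cases hlj : l = j
      · rw [hlj]
      by_cases hlk : l = k
      · rw [hlk, hYjk]
      rcases hpair l j hl0 hl hj0 hj hlj with ⟨e1, e2⟩ | ⟨-, e2⟩
      · rcases hpair l k hl0 hl hk0 hk hlk with ⟨e3, -⟩ | ⟨-, e4⟩
        · exact absurd (e1.symm.trans e3) hne
        · exact absurd (e4.trans hYjk.symm) e2
      · exact e2
    have hinj : Set.InjOn c ↑(Finset.Ioo 0 h) := by
      intro a ha b hb e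
      rw [Finset.coe_Ioo, Set.mem_Ioo] at ha hb
      by_contra hab
      rcases hpair a b ha.1 ha.2 hb.1 hb.2 hab with ⟨-, e2⟩ | ⟨e2, -⟩
      · exact e2 ((hallY a ha.1 ha.2).trans (hallY b hb.1 hb.2).symm)
      · exact e2 e
    have hsub : (Finset.Ioo 0 h).image c ⊆ s.filter fun x => w h x ≠ 0 := fun x hx => by
      obtain ⟨l, hl, rfl⟩ := Finset.mem_image.1 hx
      rw [Finset.mem_Ioo] at hl
      exact Finset.mem_filter.2 ⟨hcs l hl.1 hl.2, hc0 l hl.1 hl.2⟩
    have hcard := Finset.card_le_card hsub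
    rw [Finset.card_image_of_injOn hinj, hH, Nat.card_Ioo] at hcard
    have h4 : h = 4 := by
      obtain ⟨r, hr⟩ := heven
      omega
    -- all three common entries have the same product with their degree
    have heq : Finset.image c (Finset.Ioo 0 h) = s.filter fun x => w h x ≠ 0 :=
      Finset.eq_of_subset_of_card_le hsub (by
        rw [Finset.card_image_of_injOn hinj, hH, Nat.card_Ioo]; omega)
    have hconst : ∀ l, 0 < l → l < h → ∀ i, 0 < i → i < h →
        w l (Y j) = w i (Y j) := by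
      intro l hl0 hl i hi0 hi
      by_cases hli : l = i
      · rw [hli]
      have hc' : c l ≠ c i := fun e => hli (hinj (by simp [hl0, hl]) (by simp [hi0, hi]) e)
      have e := hsum l i hl0 hl.le hi0 hi.le
      rw [if_neg hli, if_neg (by omega), ← Finset.sum_subset (s₁ := {c l, Y l}) (by
          intro x hx
          simp only [Finset.mem_insert, Finset.mem_singleton] at hx
          rcases hx with rfl | rfl
          · exact hcs l hl0 hl
          · exact hYs l hl0 hl)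
        (fun x hx hn => by
          by_cases h0 : w l x = 0
          · rw [h0, zero_mul]
          · simp only [Finset.mem_insert, Finset.mem_singleton] at hn
            exact absurd (hcov l hl0 hl x hx h0) hn),
        Finset.sum_pair (hcY l hl0 hl), hallY l hl0 hl,
        show w i (c l) = 0 by
          by_contra h0
          rcases hcov i hi0 hi _ (hcs l hl0 hl) h0 with h' | h'
          · exact hc' h'
          · exact hc0 l hl0 hl (h' ▸ hY0 i hi0 hi),
        mul_zero, zero_add] at e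
      have a1 := hYv l hl0 hl
      have a2 := hYv i hi0 hi
      rw [hallY l hl0 hl] at a1
      rw [hallY i hi0 hi] at a2
      rcases a1 with a | a <;> rcases a2 with b | b <;> rw [a, b] at e ⊢ <;> omega
    have hval : ∀ l, 0 < l → l < h →
        w h (c l) * deg (c l) = 1 - w j (Y j) * deg (Y j) := by
      intro l hl0 hl
      have e := hdegj l hl0 hl
      rw [hallY l hl0 hl, hconst l hl0 hl j hj0 hj] at e
      linarith
    have e := hdeg h (by omega) le_rfl
    rw [← Finset.sum_filter_of_ne (p := fun x => w h x ≠ 0)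
        (fun x _ hne' h0 => hne' (by rw [h0, zero_mul])), ← heq, Finset.sum_image hinj,
      Finset.sum_congr rfl (fun l hl => hval l (Finset.mem_Ioo.1 hl).1 (Finset.mem_Ioo.1 hl).2),
      Finset.sum_const, Nat.card_Ioo, nsmul_eq_mul, h4] at e
    norm_num at e
    omega
  have h1 : (0 : ℕ) < 1 ∧ 1 < h := ⟨one_pos, by omega⟩
  have hc₁ : c 1 ∈ s.filter fun x => w h x ≠ 0 :=
    Finset.mem_filter.2 ⟨hcs 1 h1.1 h1.2, hc0 1 h1.1 h1.2⟩
  have herase : ((s.filter fun x => w h x ≠ 0).erase (c 1)).card = 2 := by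
    rw [Finset.card_erase_of_mem hc₁, hH]
  obtain ⟨x₂, x₃, h23, hset⟩ := Finset.card_eq_two.1 herase
  have hx2 : x₂ ∈ (s.filter fun x => w h x ≠ 0).erase (c 1) := hset ▸ Finset.mem_insert_self _ _
  have hx3 : x₃ ∈ (s.filter fun x => w h x ≠ 0).erase (c 1) :=
    hset ▸ Finset.mem_insert_of_mem (Finset.mem_singleton_self _)
  simp only [Finset.mem_erase, Finset.mem_filter] at hx2 hx3
  have hsB : ∀ {x}, x ∈ s → x ∈ B ∧ x ≠ one := fun hx => by
    rw [hs, Finset.mem_erase] at hx; exact hx.symm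
  have hsgn : ∀ {x}, x ∈ s → w h x ≠ 0 → w h x = 1 ∨ w h x = -1 := fun {x} hx h0 => by
    rcases hHs x hx with a | a | a <;> simp_all
  refine ⟨c 1, x₂, x₃, Y, (hsB (hcs 1 h1.1 h1.2)).1, (hsB hx2.2.1).1, (hsB hx3.2.1).1,
    (hsB (hcs 1 h1.1 h1.2)).2, (hsB hx2.2.1).2, (hsB hx3.2.1).2, hx2.1.symm, hx3.1.symm, h23,
    hsgn (hcs 1 h1.1 h1.2) (hc0 1 h1.1 h1.2), hsgn hx2.2.1 hx2.2.2, hsgn hx3.2.1 hx3.2.2,
    fun x hx h0 => ?_, fun j hj0 hj => ?_, fun j k hj0 hj hk0 hk e => ?_⟩
  · by_cases hx1 : x = one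
    · exact Or.inl hx1
    by_cases hxc : x = c 1
    · exact Or.inr (Or.inl hxc)
    have hmem : x ∈ (s.filter fun x => w h x ≠ 0).erase (c 1) :=
      Finset.mem_erase.2 ⟨hxc, Finset.mem_filter.2 ⟨hs ▸ Finset.mem_erase.2 ⟨hx1, hx⟩, h0⟩⟩
    rw [hset, Finset.mem_insert, Finset.mem_singleton] at hmem
    exact Or.inr (Or.inr hmem)
  · have hcj : c j = c 1 := hsame j 1 hj0 hj h1.1 h1.2
    refine ⟨(hsB (hYs j hj0 hj)).1, (hsB (hYs j hj0 hj)).2, hcj ▸ (hcY j hj0 hj).symm,
      fun e => hx2.2.2 (e ▸ hY0 j hj0 hj), fun e => hx3.2.2 (e ▸ hY0 j hj0 hj),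
      hcj ▸ hcv j hj0 hj, hYv j hj0 hj, fun x hx h0 => ?_⟩
    by_cases hx1 : x = one
    · exact Or.inl hx1
    rcases hcov j hj0 hj x (hs ▸ Finset.mem_erase.2 ⟨hx1, hx⟩) h0 with e | e
    · exact Or.inr (Or.inl (e.trans hcj))
    · exact Or.inr (Or.inr e)
  · by_contra hjk
    rcases hpair j k hj0 hj hk0 hk hjk with ⟨-, e2⟩ | ⟨e2, -⟩
    · exact e2 e
    · exact e2 (hsame j k hj0 hj hk0 hk)

variable {G : Type u} [Group G] [Fintype G] {M : Ideal AlgInt}

namespace DihSylow

variable {P : Sylow 2 G} {σ τ : G} {h : ℕ} [Fact (Nat.Prime 2)] (hM : IsPModular 2 M)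
  (D : DihSylow P σ τ h)

include D

open Classical in
include hM in
/-- The norm of the column of an involution not conjugate to the central one. -/
theorem column_reflection {u : G} (hu1 : u ≠ 1) (hu2 : u * u = 1)
    (hc : ¬ IsConj u (σ ^ h)) :
    ∑ χ ∈ (principalBlock M G).toFinset, (χ : G → ℂ) u * conj ((χ : G → ℂ) u) = 4 := by
  have hu : ∃ k : ℕ, orderOf u = 2 ^ k :=
    ⟨1, by rw [orderOf_eq_prime (by rw [pow_two, hu2]) hu1, pow_one]⟩
  rw [← finsum_mem_eq_toFinset_sum, principal_column hM hu hu, if_pos (IsConj.refl u),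
    principalDegSq_of_complement hM (D.complement_involution hu1 hu2) (Classical.arbitrary _),
    D.card_sylow_reflection hu1 hu2 hc]
  norm_num

open Classical in
include hM in
/-- The principal block for a dihedral Sylow two-subgroup. -/
theorem principal_shape {ζ : ℂ} (hζ : IsPrimitiveRoot ζ (2 * h)) :
    ∃ (χ₁ χ₂ χ₃ : IrrCharacter G) (χ' : Fin (h - 1) → IrrCharacter G) (δ₁ δ₂ δ₃ : ℤ),
      (δ₁ = 1 ∨ δ₁ = -1) ∧ (δ₂ = 1 ∨ δ₂ = -1) ∧ (δ₃ = 1 ∨ δ₃ = -1) ∧ Function.Injective χ' ∧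
      χ₁ ≠ trivChar G ∧ χ₂ ≠ trivChar G ∧ χ₃ ≠ trivChar G ∧
      χ₁ ≠ χ₂ ∧ χ₁ ≠ χ₃ ∧ χ₂ ≠ χ₃ ∧
      (∀ j, χ' j ≠ χ₁ ∧ χ' j ≠ χ₂ ∧ χ' j ≠ χ₃ ∧ χ' j ≠ trivChar G) ∧
      principalBlock M G =
        {χ | χ = trivChar G ∨ χ = χ₁ ∨ χ = χ₂ ∨ χ = χ₃ ∨ ∃ j, χ = χ' j} ∧
      Nat.card (principalBlock M G) = h + 3 ∧
      (∀ l : ℕ, 0 < l → l < 2 * h → (χ₁ : G → ℂ) (σ ^ l) = δ₁ ∧
        (χ₂ : G → ℂ) (σ ^ l) = δ₂ * (-1) ^ (l + 1) ∧ (χ₃ : G → ℂ) (σ ^ l) = δ₃ * (-1) ^ (l + 1) ∧
        ∀ j : Fin (h - 1), (χ' j : G → ℂ) (σ ^ l) =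
          δ₁ * (ζ ^ (((j : ℕ) + 1) * l) + (ζ ^ (((j : ℕ) + 1) * l))⁻¹)) ∧
      ∀ ρ : G, IsPRegular 2 ρ →
        1 + δ₁ * (χ₁ : G → ℂ) ρ = -δ₂ * (χ₂ : G → ℂ) ρ - δ₃ * (χ₃ : G → ℂ) ρ ∧
        ∀ j : Fin (h - 1), 1 + δ₁ * (χ₁ : G → ℂ) ρ = δ₁ * (χ' j : G → ℂ) ρ := by
  obtain ⟨w, hw1, hval, hpar, hgram, hreg⟩ := D.exists_weights hM hζ
  have hh := D.two_le
  obtain ⟨B, hB⟩ : ∃ B, B = (principalBlock M G).toFinset := ⟨_, rfl⟩
  rw [← hB] at hgram hreg
  have htriv : trivChar G ∈ B := hB ▸ Set.mem_toFinset.2 (trivChar_mem_principal hM)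
  have hone : IsPRegular 2 (1 : G) := by simp [IsPRegular]
  obtain ⟨c, x₂, x₃, Y, hcB, h2B, h3B, hc1, h21, h31, hc2, hc3, h23, hcv, h2v, h3v, hcovh, hY,
      hYinj⟩ := weight_shape B htriv hh D.even w (fun χ => (charDegree (χ : G → ℂ) : ℤ))
    (fun j hj0 hj => hw1 j hj0 (by omega))
    (by rw [charDegree_eq_of_apply_one (n := 1) (by rw [trivChar_coe, Nat.cast_one]), Nat.cast_one])
    (fun j k hj0 hj hk0 hk => hgram j k hj0 (by omega) hk0 (by omega))
    (fun j hj0 hj => by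
      apply Int.cast_injective (α := ℂ)
      push_cast
      rw [← hreg j hj0 (by omega) 1 hone]
      exact Finset.sum_congr rfl fun χ _ => by rw [apply_one_eq_charDegree])
  -- symmetry of the weights
  have hsym : ∀ j, 0 < j → j < 2 * h → ∀ χ ∈ B, w (2 * h - j) χ = w j χ := by
    intro j hj0 hj
    have e : ∑ χ ∈ B, (w (2 * h - j) χ - w j χ) * (w (2 * h - j) χ - w j χ) = 0 := by
      rw [Finset.sum_congr rfl (g := fun χ => w (2 * h - j) χ * w (2 * h - j) χ -
        2 * (w (2 * h - j) χ * w j χ) + w j χ * w j χ) fun χ _ => by ring,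
        Finset.sum_add_distrib, Finset.sum_sub_distrib, ← Finset.mul_sum,
        hgram _ _ (by omega) (by omega) (by omega) (by omega),
        hgram _ _ (by omega) (by omega) hj0 hj, hgram _ _ hj0 hj hj0 hj]
      by_cases hjh : j = h
      · subst hjh
        rw [show 2 * j - j = j by omega]
        simp [two_mul]
      · rw [if_pos rfl, if_neg (by omega), if_neg (by omega), if_pos (by omega), if_pos rfl,
          if_neg (by omega)]
        norm_num
    intro χ hχ
    have := (Finset.sum_eq_zero_iff_of_nonneg fun χ _ =>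
      mul_self_nonneg (w (2 * h - j) χ - w j χ)).1 e χ hχ
    exact sub_eq_zero.1 (mul_self_eq_zero.1 this)
  -- weights off the support
  have hzeroh : ∀ x ∈ B, x ≠ trivChar G → x ≠ c → x ≠ x₂ → x ≠ x₃ → w h x = 0 :=
    fun x hx a b d e => by_contra fun h0 => by
      rcases hcovh x hx h0 with h' | h' | h' | h' <;> contradiction
  have hzero : ∀ j, 0 < j → j < h → ∀ x ∈ B, x ≠ trivChar G → x ≠ c → x ≠ Y j → w j x = 0 :=
    fun j hj0 hj x hx a b d => by_contra fun h0 => by
      rcases (hY j hj0 hj).2.2.2.2.2.2.2 x hx h0 with h' | h' | h' <;> contradiction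
  have hfold : ∀ j, 0 < j → j < 2 * h → ∀ x ∈ B,
      w j x = if j < h then w j x else if j = h then w h x else w (2 * h - j) x := by
    intro j hj0 hj x hx
    split_ifs with h1 h2
    · rfl
    · rw [h2]
    · exact (hsym j hj0 hj x hx).symm
  obtain ⟨δ₁, hδ₁⟩ : ∃ d, d = -w h c := ⟨_, rfl⟩
  obtain ⟨δ₂, hδ₂⟩ : ∃ d, d = -w h x₂ := ⟨_, rfl⟩
  obtain ⟨δ₃, hδ₃⟩ : ∃ d, d = -w h x₃ := ⟨_, rfl⟩
  have hδ₁' : δ₁ = 1 ∨ δ₁ = -1 := by omega
  -- the regular relations
  have hrelh : ∀ ρ : G, IsPRegular 2 ρ →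
      1 + (δ₁ : ℂ) * (c : G → ℂ) ρ = -(δ₂ : ℂ) * (x₂ : G → ℂ) ρ - (δ₃ : ℂ) * (x₃ : G → ℂ) ρ := by
    intro ρ hρ
    have e := hreg h (by omega) (by omega) ρ hρ
    rw [← Finset.sum_subset (s₁ := {trivChar G, c, x₂, x₃}) (by
        intro x hx
        simp only [Finset.mem_insert, Finset.mem_singleton] at hx
        rcases hx with rfl | rfl | rfl | rfl <;> assumption)
      (fun x hx hn => by
        simp only [Finset.mem_insert, Finset.mem_singleton, not_or] at hn
        rw [hzeroh x hx hn.1 hn.2.1 hn.2.2.1 hn.2.2.2, Int.cast_zero, zero_mul]),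
      Finset.sum_insert (by simp [hc1.symm, h21.symm, h31.symm]),
      Finset.sum_insert (by simp [hc2, hc3]), Finset.sum_pair h23,
      hw1 h (by omega) (by omega), trivChar_coe] at e
    rw [hδ₁, hδ₂, hδ₃]
    push_cast at e ⊢
    linear_combination -e
  have hrelY : ∀ j, 0 < j → j < h → ∀ ρ : G, IsPRegular 2 ρ →
      1 + (δ₁ : ℂ) * (c : G → ℂ) ρ = (w j (Y j) : ℂ) * (Y j : G → ℂ) ρ := by
    intro j hj0 hj ρ hρ
    obtain ⟨hYB, hY1, hYc, -, -, hwc, -, -⟩ := hY j hj0 hj
    have e := hreg j hj0 (by omega) ρ hρ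
    rw [← Finset.sum_subset (s₁ := {trivChar G, c, Y j}) (by
        intro x hx
        simp only [Finset.mem_insert, Finset.mem_singleton] at hx
        rcases hx with rfl | rfl | rfl <;> assumption)
      (fun x hx hn => by
        simp only [Finset.mem_insert, Finset.mem_singleton, not_or] at hn
        rw [hzero j hj0 hj x hx hn.1 hn.2.1 hn.2.2, Int.cast_zero, zero_mul]),
      Finset.sum_insert (by simp [hc1.symm, hY1.symm]), Finset.sum_pair hYc.symm,
      hw1 j hj0 (by omega), hwc, trivChar_coe] at e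
    rw [hδ₁]
    push_cast at e ⊢
    linear_combination -e
  -- the sign of the exceptional characters
  have hYsign : ∀ j, 0 < j → j < h → w j (Y j) = δ₁ := by
    intro j hj0 hj
    have e := hrelY j hj0 hj 1 hone
    rw [apply_one_eq_charDegree, apply_one_eq_charDegree] at e
    have e' : 1 + δ₁ * (charDegree (c : G → ℂ) : ℤ) =
        w j (Y j) * (charDegree (Y j : G → ℂ) : ℤ) := by
      apply Int.cast_injective (α := ℂ)
      push_cast
      exact e
    have p1 : (0 : ℤ) < charDegree (c : G → ℂ) := by exact_mod_cast charDegree_pos c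
    have p2 : (0 : ℤ) < charDegree (Y j : G → ℂ) := by exact_mod_cast charDegree_pos (Y j)
    rcases hδ₁' with a | a <;> rcases (hY j hj0 hj).2.2.2.2.2.2.1 with b | b <;>
      rw [a, b] at e' ⊢ <;> omega
  have hneg : ζ ^ h = -1 :=
    (hζ.pow (a := h) (by omega) (mul_comm 2 h)).eq_neg_one_of_two_right
  -- values
  have hsum0 : ∀ l : ℕ, 0 < l → l < 2 * h →
      ∑ j ∈ Finset.Ioo 0 (2 * h), ζ ^ (j * l) = -1 := by
    intro l hl0 hl
    have e := sum_zpow_mul_eq hζ (by omega) (l : ℤ)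
    rw [if_neg (by
      intro hd
      have := Int.le_of_dvd (by omega) hd
      omega), Finset.sum_congr rfl (g := fun i : ℕ => ζ ^ (i * l)) (fun i _ => by
        rw [← Int.natCast_mul, zpow_natCast, mul_comm l i]),
      ← Finset.add_sum_erase _ _ (Finset.mem_range.2 (by omega : 0 < 2 * h)),
      zero_mul, pow_zero] at e
    rw [show Finset.Ioo 0 (2 * h) = (Finset.range (2 * h)).erase 0 by ext; simp; omega]
    linear_combination e
  have hvc : ∀ l : ℕ, 0 < l → l < 2 * h → (c : G → ℂ) (σ ^ l) = δ₁ := by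
    intro l hl0 hl
    rw [hval c l hl0 hl, Finset.sum_congr rfl (g := fun j => (w h c : ℂ) * ζ ^ (j * l))
      (fun j hj => by
        rw [Finset.mem_Ioo] at hj
        rw [hfold j hj.1 hj.2 c hcB]
        split_ifs with h1 h2
        · rw [(hY j hj.1 h1).2.2.2.2.2.1]
        · rfl
        · rw [(hY (2 * h - j) (by omega) (by omega)).2.2.2.2.2.1]),
      ← Finset.mul_sum, hsum0 l hl0 hl, hδ₁]
    push_cast
    ring
  have hv23 : ∀ x ∈ B, x ≠ trivChar G → x ≠ c → (∀ j, 0 < j → j < h → x ≠ Y j) →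
      ∀ l : ℕ, 0 < l → l < 2 * h → (x : G → ℂ) (σ ^ l) = -(w h x : ℂ) * (-1) ^ (l + 1) := by
    intro x hx hx1 hxc hxY l hl0 hl
    rw [hval x l hl0 hl, Finset.sum_eq_single h]
    · rw [pow_mul, hneg, pow_succ]; ring
    · intro j hj hjh
      rw [Finset.mem_Ioo] at hj
      rw [hfold j hj.1 hj.2 x hx]
      split_ifs with h1
      · rw [hzero j hj.1 h1 x hx hx1 hxc (hxY j hj.1 h1), Int.cast_zero, zero_mul]
      · rw [hzero _ (by omega) (by omega) x hx hx1 hxc (hxY _ (by omega) (by omega)),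
          Int.cast_zero, zero_mul]
    · exact fun hn => absurd (Finset.mem_Ioo.2 ⟨by omega, by omega⟩) hn
  have hvY : ∀ i, 0 < i → i < h → ∀ l : ℕ, 0 < l → l < 2 * h →
      (Y i : G → ℂ) (σ ^ l) = (δ₁ : ℂ) * (ζ ^ (i * l) + (ζ ^ (i * l))⁻¹) := by
    intro i hi0 hi l hl0 hl
    obtain ⟨hYB, hY1, hYc, hY2, hY3, -, -, -⟩ := hY i hi0 hi
    rw [hval _ l hl0 hl, ← Finset.sum_subset (s₁ := {i, 2 * h - i}) (by
        intro x hx
        simp only [Finset.mem_insert, Finset.mem_singleton] at hx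
        rw [Finset.mem_Ioo]
        omega)
      (fun j hj hn => by
        simp only [Finset.mem_insert, Finset.mem_singleton, not_or] at hn
        rw [Finset.mem_Ioo] at hj
        rw [hfold j hj.1 hj.2 _ hYB]
        split_ifs with h1 h2
        · rw [hzero j hj.1 h1 _ hYB hY1 hYc fun e => hn.1 (hYinj i j hi0 hi hj.1 h1 e).symm,
            Int.cast_zero, zero_mul]
        · rw [hzeroh _ hYB hY1 hYc hY2 hY3, Int.cast_zero, zero_mul]
        · rw [hzero _ (by omega) (by omega) _ hYB hY1 hYc fun e => hn.2 (by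
            have := hYinj i (2 * h - j) hi0 hi (by omega) (by omega) e
            omega), Int.cast_zero, zero_mul]),
      Finset.sum_pair (by omega), hsym i hi0 (by omega) _ hYB, hYsign i hi0 hi,
      show ζ ^ ((2 * h - i) * l) = (ζ ^ (i * l))⁻¹ from eq_inv_of_mul_eq_one_left (by
        rw [← pow_add, ← add_mul, show 2 * h - i + i = 2 * h by omega, pow_mul, hζ.pow_eq_one,
          one_pow])]
    ring
  -- odd degrees
  have hodd : ∀ x : IrrCharacter G, ((x : G → ℂ) (σ ^ h) = 1 ∨ (x : G → ℂ) (σ ^ h) = -1) →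
      Odd (charDegree (x : G → ℂ) : ℤ) := by
    intro x hx
    obtain ⟨k, hk, r, hr⟩ := hpar x
    have hk' : k = 1 ∨ k = -1 := by
      rcases hx with e | e <;> rw [hk] at e
      · exact Or.inl (by exact_mod_cast e)
      · exact Or.inr (by exact_mod_cast e)
    rw [Int.odd_iff]
    omega
  have hnotY : ∀ x, (x = x₂ ∨ x = x₃) → ∀ j, 0 < j → j < h → x ≠ Y j := by
    rintro x (rfl | rfl) j hj0 hj e
    · exact (hY j hj0 hj).2.2.2.1 e.symm
    · exact (hY j hj0 hj).2.2.2.2.1 e.symm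
  have hJ := D.central_involution
  have hsgn : ∀ k : ℕ, ((-1 : ℂ) ^ k = 1 ∨ (-1 : ℂ) ^ k = -1) := fun k => neg_one_pow_eq_or ℂ k
  have hoddc : Odd (charDegree (c : G → ℂ) : ℤ) := hodd c (by
    rw [hvc h (by omega) (by omega)]
    rcases hδ₁' with e | e <;> simp [e])
  have hodd23 : ∀ x, (x = x₂ ∨ x = x₃) → Odd (charDegree (x : G → ℂ) : ℤ) := by
    intro x hx
    refine hodd x ?_
    have hxB : x ∈ B := by rcases hx with rfl | rfl <;> assumption
    have hx1 : x ≠ trivChar G := by rcases hx with rfl | rfl <;> assumption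
    have hxc : x ≠ c := by rcases hx with rfl | rfl <;> exact Ne.symm (by assumption)
    rw [hv23 x hxB hx1 hxc (hnotY x hx) h (by omega) (by omega)]
    have hxv : w h x = 1 ∨ w h x = -1 := by rcases hx with rfl | rfl <;> assumption
    rcases hxv with e | e <;> rcases hsgn (h + 1) with e' | e' <;> simp [e, e']
  -- no further characters
  have hall : ∀ x ∈ B, x = trivChar G ∨ x = c ∨ x = x₂ ∨ x = x₃ ∨
      ∃ j, 0 < j ∧ j < h ∧ x = Y j := by
    intro x hx
    by_contra hn
    simp only [not_or, not_exists, not_and] at hn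
    obtain ⟨n1, n2, n3, n4, n5⟩ := hn
    have hvan : ∀ l : ℕ, 0 < l → l < 2 * h → (x : G → ℂ) (σ ^ l) = 0 := by
      intro l hl0 hl
      rw [hv23 x hx n1 n2 n5 l hl0 hl, hzeroh x hx n1 n2 n3 n4]
      simp
    have hxP : x ∈ principalBlock M G := Set.mem_toFinset.1 (hB ▸ hx)
    have hdz := blockDefect_eq_zero_of_vanish hM x fun g hg => by
      have hg1 : g ≠ 1 := fun e => by rw [e, orderOf_one] at hg; omega
      have hg2 : g * g = 1 := by rw [← pow_two, ← hg, pow_orderOf_eq_one]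
      by_cases hc' : IsConj g (σ ^ h)
      · obtain ⟨y, hy⟩ := isConj_iff.1 hc'
        rw [← x.2.isClassFunction g y, hy, hvan h (by omega) (by omega)]
      have hnorm := D.column_reflection hM hg1 hg2 hc'
      have hint : ∀ z : IrrCharacter G, ∃ k : ℤ, (z : G → ℂ) g = k ∧
          Even (k - charDegree (z : G → ℂ)) := fun z => exists_value_parity z hg2
      choose k hk hke using hint
      have hsum : ∑ z ∈ B, k z * k z = 4 := by
        apply Int.cast_injective (α := ℂ)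
        rw [hB]
        push_cast
        rw [← hnorm]
        exact Finset.sum_congr rfl fun z _ => by rw [hk, map_intCast]
      have hge : ∀ z : IrrCharacter G, Odd (charDegree (z : G → ℂ) : ℤ) → 1 ≤ k z * k z := by
        intro z hz
        obtain ⟨a, ha⟩ := hke z
        obtain ⟨b, hb⟩ := hz
        have : k z ≠ 0 := by omega
        exact mul_self_pos.2 this
      have hd1 : Odd (charDegree ((trivChar G : IrrCharacter G) : G → ℂ) : ℤ) := by
        rw [charDegree_eq_of_apply_one (n := 1) (by rw [trivChar_coe, Nat.cast_one])]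
        simp
      have hle : ∑ z ∈ ({trivChar G, c, x₂, x₃, x} : Finset (IrrCharacter G)), k z * k z ≤
          ∑ z ∈ B, k z * k z := by
        refine Finset.sum_le_sum_of_subset_of_nonneg ?_ fun z _ _ => mul_self_nonneg _
        intro z hz
        simp only [Finset.mem_insert, Finset.mem_singleton] at hz
        rcases hz with rfl | rfl | rfl | rfl | rfl <;> assumption
      rw [Finset.sum_insert (by simp [hc1.symm, h21.symm, h31.symm, Ne.symm n1]),
        Finset.sum_insert (by simp [hc2, hc3, Ne.symm n2]),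
        Finset.sum_insert (by simp [h23, Ne.symm n3]), Finset.sum_pair (Ne.symm n4), hsum] at hle
      have a1 := hge _ hd1
      have a2 := hge _ hoddc
      have a3 := hge _ (hodd23 x₂ (Or.inl rfl))
      have a4 := hge _ (hodd23 x₃ (Or.inr rfl))
      have a5 := mul_self_nonneg (k x)
      rw [hk, show k x = 0 from mul_self_eq_zero.1 (by omega), Int.cast_zero]
    rw [← eq_blockOf_of_mem hM isPBlock_principal hxP] at hdz
    have h1 := (card_eq_one_of_defect_zero hM isPBlock_principal hdz).1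
    rw [Nat.card_eq_card_toFinset, ← hB] at h1
    exact n1 (Finset.card_le_one.1 h1.le x hx _ htriv)
  obtain ⟨χ', hχ'⟩ : ∃ χ' : Fin (h - 1) → IrrCharacter G, χ' = fun j : Fin (h - 1) => Y ((j : ℕ) + 1) := ⟨_, rfl⟩
  have hin : ∀ j : Fin (h - 1), 0 < (j : ℕ) + 1 ∧ (j : ℕ) + 1 < h := fun j =>
    ⟨by omega, by have := j.2; omega⟩
  have hinj : Function.Injective χ' := fun a b e => by
    rw [hχ'] at e
    have := hYinj _ _ (hin a).1 (hin a).2 (hin b).1 (hin b).2 e
    exact Fin.ext (by omega)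
  have hYne : ∀ j : Fin (h - 1), χ' j ≠ c ∧ χ' j ≠ x₂ ∧ χ' j ≠ x₃ ∧ χ' j ≠ trivChar G := by
    intro j
    obtain ⟨-, h1, h2, h3, h4, -⟩ := hY _ (hin j).1 (hin j).2
    rw [hχ']
    exact ⟨h2, h3, h4, h1⟩
  have hset : principalBlock M G =
      {χ | χ = trivChar G ∨ χ = c ∨ χ = x₂ ∨ χ = x₃ ∨ ∃ j, χ = χ' j} := by
    ext x
    refine ⟨fun hx => ?_, fun hx => ?_⟩
    · rcases hall x (hB ▸ Set.mem_toFinset.2 hx) with e | e | e | e | ⟨j, hj0, hj, e⟩
      · exact Or.inl e
      · exact Or.inr (Or.inl e)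
      · exact Or.inr (Or.inr (Or.inl e))
      · exact Or.inr (Or.inr (Or.inr (Or.inl e)))
      · refine Or.inr (Or.inr (Or.inr (Or.inr ⟨⟨j - 1, by omega⟩, ?_⟩)))
        rw [hχ', e]
        congr 1
        show j = j - 1 + 1
        omega
    · rw [← Set.mem_toFinset, ← hB]
      rcases hx with rfl | rfl | rfl | rfl | ⟨j, rfl⟩
      · exact htriv
      · exact hcB
      · exact h2B
      · exact h3B
      · rw [hχ']; exact (hY _ (hin j).1 (hin j).2).1
  refine ⟨c, x₂, x₃, χ', δ₁, δ₂, δ₃, hδ₁', by omega, by omega, hinj, hc1, h21, h31, hc2, hc3, h23,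
    hYne, hset, ?_, fun l hl0 hl => ⟨hvc l hl0 hl, ?_, ?_, fun j => ?_⟩,
    fun ρ hρ => ⟨hrelh ρ hρ, fun j => ?_⟩⟩
  · have hBeq : (principalBlock M G).toFinset =
        ({trivChar G, c, x₂, x₃} : Finset (IrrCharacter G)) ∪ Finset.univ.image χ' := by
      ext x
      rw [Set.mem_toFinset, hset]
      simp [eq_comm, or_assoc]
    rw [Nat.card_eq_card_toFinset, hBeq, Finset.card_union_of_disjoint (Finset.disjoint_left.2 (by
        intro x hx hx'
        obtain ⟨j, -, rfl⟩ := Finset.mem_image.1 hx'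
        simp only [Finset.mem_insert, Finset.mem_singleton] at hx
        obtain ⟨a1, a2, a3, a4⟩ := hYne j
        rcases hx with e | e | e | e <;> contradiction)),
      Finset.card_image_of_injective _ hinj, Finset.card_univ, Fintype.card_fin,
      Finset.card_insert_of_notMem (by simp [hc1.symm, h21.symm, h31.symm]),
      Finset.card_insert_of_notMem (by simp [hc2, hc3]), Finset.card_pair h23]
    omega
  · rw [hv23 x₂ h2B h21 hc2.symm (hnotY x₂ (Or.inl rfl)) l hl0 hl, hδ₂, Int.cast_neg]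
  · rw [hv23 x₃ h3B h31 hc3.symm (hnotY x₃ (Or.inr rfl)) l hl0 hl, hδ₃, Int.cast_neg]
  · rw [hχ']
    exact hvY _ (hin j).1 (hin j).2 l hl0 hl
  · rw [hrelY _ (hin j).1 (hin j).2 ρ hρ, hYsign _ (hin j).1 (hin j).2, hχ']

end DihSylow

end Cfsg.Lib.Block
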