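import Mathlib.Analysis.Complex.Basic
import Cfsg.Agent.Lib.Block.DihedralPrincipal

/-!
# Integral weights with the Gram matrix of the rotations, none orthogonal to the involution

Either the weights have the shape of a block with `h + 3` members, or `h = 4` and there are only
five members, whose degrees are then proportional to `3, 1, 1, 1, 2`.
-/

set_option autoImplicit false
set_option linter.unusedSectionVars false
set_option maxHeartbeats 1600000

namespace Cfsg.Lib.Block

/-- The value at the central involution of a vector of weights. -/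
def midValue {α : Type*} (h : ℕ) (w : ℕ → α → ℤ) (x : α) : ℤ :=
  w h x + 2 * ∑ j ∈ Finset.Ioo 0 h, (-1) ^ j * w j x

theorem sum_Ioo_neg_one_pow {h : ℕ} (h2 : 2 ≤ h) (heven : Even h) :
    ∑ j ∈ Finset.Ioo 0 h, (-1 : ℤ) ^ j = -1 := by
  have e : Finset.range h = insert 0 (Finset.Ioo 0 h) := by
    ext; simp; omega
  have hs := neg_one_geom_sum (R := ℤ) (n := h)
  rw [if_pos heven, e, Finset.sum_insert (by simp), pow_zero] at hs
  linarith

/-- The regular shape of the weights. -/
def RegularShape.{a, v} {α : Type a} (B : Finset α) (h : ℕ) (w : ℕ → α → ℤ) : Prop :=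
  B.card = h + 3 ∧ ∃ S : Finset α, S ⊆ B ∧ S.card = 4 ∧
    (∀ x ∈ S, midValue h w x = 1 ∨ midValue h w x = -1) ∧
    (∀ x ∈ B, x ∉ S → midValue h w x = 2 ∨ midValue h w x = -2) ∧
    ∃ T : Finset α, T.card ≤ 3 ∧ ∀ {U : Type v} [AddCommGroup U] [Module ℂ U] (f : α → U),
      (∀ j, 0 < j → j ≤ h → ∑ x ∈ B, (w j x : ℂ) • f x = 0) →
        ∀ x ∈ B, f x ∈ Submodule.span ℂ (f '' (T : Set α))

/-- The exceptional shape of the weights. -/
def ExceptionalShape {α : Type*} (B : Finset α) (h : ℕ) (w : ℕ → α → ℤ) : Prop :=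
  h = 4 ∧ ∀ deg : α → ℤ, (∀ x ∈ B, 0 < deg x) →
    (∀ j, 0 < j → j ≤ 4 → ∑ x ∈ B, w j x * deg x = 0) →
    ∃ x₀ ∈ B, Odd (midValue h w x₀) ∧ ∃ ε : ℤ, (ε = 1 ∨ ε = -1) ∧
      ∀ (t : ℂ) (v : α → ℂ), ∑ x ∈ B, (deg x : ℂ) * v x = 0 →
        ∑ x ∈ B, (w 4 x : ℂ) * v x = 0 → ∑ x ∈ B, (w 2 x : ℂ) * v x = 0 →
        ∑ x ∈ B, (w 1 x : ℂ) * v x = -4 * t → ∑ x ∈ B, (w 3 x : ℂ) * v x = -4 * t →
        ∀ s : ℂ, ∑ x ∈ B, v x * v x * (-(w 4 x : ℂ) + s * ((w 1 x : ℂ) - w 3 x)) / (deg x : ℂ) =
          t * t * (-32 * (ε : ℂ) / (3 * (deg x₀ : ℂ)))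

/-- The combinatorics of the weights. -/
theorem block_weight_shape {α : Type*} [DecidableEq α] (B : Finset α) {h : ℕ} (hh : 2 ≤ h)
    (heven : Even h) (hsmall : h = 2 ∨ h = 4 ∨ 8 ≤ h) (w : ℕ → α → ℤ)
    (hgram : ∀ j k, 0 < j → j ≤ h → 0 < k → k ≤ h →
      ∑ x ∈ B, w j x * w k x = 2 + (if j = k then 1 else 0) + if j + k = 2 * h then 1 else 0)
    (hmid : ∀ x ∈ B, midValue h w x ≠ 0) :
    RegularShape B h w ∨ ExceptionalShape B h w := by
  have hneg := sum_Ioo_neg_one_pow hh heven
  have hHH : ∑ x ∈ B, w h x * w h x = 4 := by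
    rw [hgram h h (by omega) le_rfl (by omega) le_rfl, if_pos rfl, if_pos (two_mul h).symm]
    norm_num
  have hjh : ∀ j, 0 < j → j < h → ∑ x ∈ B, w j x * w h x = 2 := fun j hj0 hj => by
    rw [hgram j h hj0 hj.le (by omega) le_rfl, if_neg (by omega), if_neg (by omega)]
    norm_num
  -- the last row consists of four signs
  have hH1 : ∀ x ∈ B, w h x = -1 ∨ w h x = 0 ∨ w h x = 1 := by
    intro x hx
    by_contra hn
    simp only [not_or] at hn
    have hle : w h x * w h x ≤ 4 := by
      rw [← hHH]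
      exact Finset.single_le_sum (f := fun y => w h y * w h y)
        (fun y _ => mul_self_nonneg (w h y)) hx
    have hv : w h x = 2 ∨ w h x = -2 := by
      have h1 : -2 ≤ w h x ∧ w h x ≤ 2 := ⟨by nlinarith, by nlinarith⟩
      omega
    have hoff : ∀ y ∈ B, y ≠ x → w h y = 0 := by
      intro y hy hyx
      have h2 : ∑ z ∈ ({x, y} : Finset α), w h z * w h z ≤ 4 := by
        rw [← hHH]
        refine Finset.sum_le_sum_of_subset_of_nonneg ?_ fun z _ _ => mul_self_nonneg _
        intro z hz
        simp only [Finset.mem_insert, Finset.mem_singleton] at hz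
        rcases hz with rfl | rfl <;> assumption
      rw [Finset.sum_pair (Ne.symm hyx)] at h2
      have : w h x * w h x = 4 := by rcases hv with e | e <;> rw [e] <;> norm_num
      exact mul_self_eq_zero.1 (le_antisymm (by linarith) (mul_self_nonneg _))
    refine hmid x hx ?_
    have hwj : ∀ j ∈ Finset.Ioo 0 h, 2 * w j x = w h x := by
      intro j hj
      rw [Finset.mem_Ioo] at hj
      have e := hjh j hj.1 hj.2
      rw [Finset.sum_eq_single_of_mem x hx fun y hy hyx => by rw [hoff y hy hyx, mul_zero]] at e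
      rcases hv with a | a <;> rw [a] at e ⊢ <;> omega
    rw [midValue, Finset.mul_sum,
      Finset.sum_congr rfl (g := fun j => (-1) ^ j * w h x) fun j hj => by
        rw [← hwj j hj]; ring,
      ← Finset.sum_mul, hneg]
    ring
  obtain ⟨S, hS⟩ : ∃ S, S = B.filter fun x => w h x ≠ 0 := ⟨_, rfl⟩
  have hmemS : ∀ x, x ∈ S ↔ x ∈ B ∧ w h x ≠ 0 := fun x => by rw [hS, Finset.mem_filter]
  have hsgn : ∀ x ∈ S, w h x = 1 ∨ w h x = -1 := fun x hx => by
    rcases hH1 x ((hmemS x).1 hx).1 with a | a | a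
    · exact Or.inr a
    · exact absurd a ((hmemS x).1 hx).2
    · exact Or.inl a
  have hSsq : ∀ x ∈ S, w h x * w h x = 1 := fun x hx => by
    rcases hsgn x hx with a | a <;> rw [a] <;> norm_num
  have hScard : S.card = 4 := by
    have e : ∑ x ∈ S, w h x * w h x = 4 := by
      rw [← hHH, hS]
      exact Finset.sum_filter_of_ne fun x _ hne h0 => hne (by rw [h0, zero_mul])
    rw [Finset.sum_congr rfl hSsq, Finset.sum_const, nsmul_eq_mul, mul_one] at e
    exact_mod_cast e
  -- each other row
  have hrow : ∀ j, 0 < j → j < h → ∃ p q y, p ∈ S ∧ q ∈ S ∧ y ∈ B ∧ y ∉ S ∧ p ≠ q ∧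
      w j p = w h p ∧ w j q = w h q ∧ (w j y = 1 ∨ w j y = -1) ∧
      ∀ x ∈ B, w j x ≠ 0 → x = p ∨ x = q ∨ x = y := by
    intro j hj0 hj
    have e : ∑ x ∈ B, w j x * w j x = 3 := by
      rw [hgram j j hj0 hj.le hj0 hj.le, if_pos rfl, if_neg (by omega)]
      norm_num
    obtain ⟨hc, hall⟩ := exists_support B (w j) 3 le_rfl (by rw [e]; rfl)
    obtain ⟨a, b, c, hab, hac, hbc, hset⟩ := Finset.card_eq_three.1 hc
    have hmem : ∀ x, (x ∈ B ∧ w j x ≠ 0) ↔ (x = a ∨ x = b ∨ x = c) := fun x => by
      have h' := Finset.ext_iff.1 hset x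
      simpa using h'
    have hcross := hjh j hj0 hj
    rw [← Finset.sum_filter_of_ne (p := fun x => w j x ≠ 0)
      (fun x _ hne h0 => hne (by rw [h0, zero_mul])), hset,
      Finset.sum_insert (by simp [hab, hac]), Finset.sum_pair hbc] at hcross
    obtain ⟨haB, ha0⟩ := (hmem a).2 (Or.inl rfl)
    obtain ⟨hbB, hb0⟩ := (hmem b).2 (Or.inr (Or.inl rfl))
    obtain ⟨hcB, hc0⟩ := (hmem c).2 (Or.inr (Or.inr rfl))
    have sa := hall a haB
    have sb := hall b hbB
    have sc := hall c hcB
    have key : ∀ x ∈ B, w j x ≠ 0 → (w j x * w h x = 0 → x ∉ S ∧ (w j x = 1 ∨ w j x = -1)) ∧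
        (w j x * w h x = 1 → x ∈ S ∧ w j x = w h x) := by
      intro x hx hx0
      constructor
      · intro h0
        refine ⟨fun hxS => ((hmemS x).1 hxS).2 ((mul_eq_zero.1 h0).resolve_left hx0), ?_⟩
        rcases hall x hx with a' | a' | a'
        · exact Or.inr a'
        · exact absurd a' hx0
        · exact Or.inl a'
      · intro h1
        refine ⟨(hmemS x).2 ⟨hx, fun h0 => by rw [h0, mul_zero] at h1; exact zero_ne_one h1⟩, ?_⟩
        rcases hall x hx with a' | a' | a' <;> rw [a'] at h1 ⊢ <;> omega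
    have hprod : ∀ x ∈ B, -1 ≤ w j x * w h x ∧ w j x * w h x ≤ 1 := by
      intro x hx
      rcases hall x hx with a' | a' | a' <;> rcases hH1 x hx with b' | b' | b' <;>
        rw [a', b'] <;> norm_num
    have pa := hprod a haB
    have pb := hprod b hbB
    have pc := hprod c hcB
    have hcases : (w j a * w h a = 0 ∧ w j b * w h b = 1 ∧ w j c * w h c = 1) ∨
        (w j a * w h a = 1 ∧ w j b * w h b = 0 ∧ w j c * w h c = 1) ∨
        (w j a * w h a = 1 ∧ w j b * w h b = 1 ∧ w j c * w h c = 0) := by omega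
    have hcov : ∀ x ∈ B, w j x ≠ 0 → x = a ∨ x = b ∨ x = c := fun x hx h0 => (hmem x).1 ⟨hx, h0⟩
    rcases hcases with ⟨za, ob, oc⟩ | ⟨oa, zb, oc⟩ | ⟨oa, ob, zc⟩
    · exact ⟨b, c, a, ((key b hbB hb0).2 ob).1, ((key c hcB hc0).2 oc).1, haB,
        ((key a haB ha0).1 za).1, hbc, ((key b hbB hb0).2 ob).2, ((key c hcB hc0).2 oc).2,
        ((key a haB ha0).1 za).2, fun x hx h0 => by
          rcases hcov x hx h0 with h' | h' | h' <;> simp [h']⟩
    · exact ⟨a, c, b, ((key a haB ha0).2 oa).1, ((key c hcB hc0).2 oc).1, hbB,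
        ((key b hbB hb0).1 zb).1, hac, ((key a haB ha0).2 oa).2, ((key c hcB hc0).2 oc).2,
        ((key b hbB hb0).1 zb).2, fun x hx h0 => by
          rcases hcov x hx h0 with h' | h' | h' <;> simp [h']⟩
    · exact ⟨a, b, c, ((key a haB ha0).2 oa).1, ((key b hbB hb0).2 ob).1, hcB,
        ((key c hcB hc0).1 zc).1, hab, ((key a haB ha0).2 oa).2, ((key b hbB hb0).2 ob).2,
        ((key c hcB hc0).1 zc).2, hcov⟩
  haveI : Nonempty α := by
    obtain ⟨x, -⟩ := Finset.card_pos.1 (by omega : 0 < S.card)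
    exact ⟨x⟩
  choose! p q Y hpS hqS hYB hYS hpq hpv hqv hYv hcov using hrow
  have hP2 : ∀ j, 0 < j → j < h → ({p j, q j} : Finset α).card = 2 := fun j hj0 hj =>
    Finset.card_pair (hpq j hj0 hj)
  have hval : ∀ j, 0 < j → j < h → ∀ x ∈ S,
      w j x = if x ∈ ({p j, q j} : Finset α) then w h x else 0 := by
    intro j hj0 hj x hx
    split_ifs with hP
    · simp only [Finset.mem_insert, Finset.mem_singleton] at hP
      rcases hP with rfl | rfl
      · exact hpv j hj0 hj
      · exact hqv j hj0 hj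
    · by_contra h0
      rcases hcov j hj0 hj x ((hmemS x).1 hx).1 h0 with a | a | a
      · exact hP (by simp [a])
      · exact hP (by simp [a])
      · exact hYS j hj0 hj (a ▸ hx)
  have hvalY : ∀ j, 0 < j → j < h → ∀ x ∈ B, x ∉ S → x ≠ Y j → w j x = 0 := by
    intro j hj0 hj x hx hxS hne
    by_contra h0
    rcases hcov j hj0 hj x hx h0 with a | a | a
    · exact hxS (a ▸ hpS j hj0 hj)
    · exact hxS (a ▸ hqS j hj0 hj)
    · exact hne a
  have hsub : ∀ j, 0 < j → j < h → ({p j, q j} : Finset α) ⊆ S := by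
    intro j hj0 hj x hx
    simp only [Finset.mem_insert, Finset.mem_singleton] at hx
    rcases hx with rfl | rfl
    exacts [hpS j hj0 hj, hqS j hj0 hj]
  -- two rows
  have hpair : ∀ j k, 0 < j → j < h → 0 < k → k < h → j ≠ k →
      ((({p j, q j} : Finset α) ∩ {p k, q k}).card = 2 ∧ Y j ≠ Y k) ∨
      ((({p j, q j} : Finset α) ∩ {p k, q k}).card = 1 ∧ Y j = Y k ∧
        w j (Y j) = w k (Y k)) := by
    intro j k hj0 hj hk0 hk hne
    have e := hgram j k hj0 hj.le hk0 hk.le
    rw [if_neg hne, if_neg (by omega), ← Finset.sum_subset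
      (s₁ := insert (Y j) ({p j, q j} : Finset α)) (by
        intro x hx
        rcases Finset.mem_insert.1 hx with rfl | hx
        · exact hYB j hj0 hj
        · exact ((hmemS x).1 (hsub j hj0 hj hx)).1)
      (fun x hx hn => by
        by_cases h0 : w j x = 0
        · rw [h0, zero_mul]
        · rcases hcov j hj0 hj x hx h0 with a | a | a <;> exact absurd (by simp [a]) hn),
      Finset.sum_insert (fun hm => hYS j hj0 hj (hsub j hj0 hj hm)),
      Finset.sum_congr rfl (g := fun x => if x ∈ ({p k, q k} : Finset α) then (1 : ℤ) else 0)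
        (fun x hx => by
          rw [hval j hj0 hj x (hsub j hj0 hj hx), if_pos hx, hval k hk0 hk x (hsub j hj0 hj hx)]
          split_ifs
          · exact hSsq x (hsub j hj0 hj hx)
          · exact mul_zero _),
      Finset.sum_boole, Finset.filter_mem_eq_inter] at e
    have hle : (({p j, q j} : Finset α) ∩ {p k, q k}).card ≤ 2 :=
      (Finset.card_le_card Finset.inter_subset_left).trans (hP2 j hj0 hj).le
    by_cases hY : Y j = Y k
    · have hyy : w j (Y j) * w k (Y j) = 1 ∨ w j (Y j) * w k (Y j) = -1 := by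
        rw [hY]
        rcases hY ▸ hYv j hj0 hj with a | a <;> rcases hYv k hk0 hk with b | b <;>
          rw [a, b] <;> norm_num
      refine Or.inr ⟨by omega, hY, ?_⟩
      have h1 : w j (Y j) * w k (Y j) = 1 := by omega
      rw [hY] at h1 ⊢
      rcases hY ▸ hYv j hj0 hj with a | a <;> rcases hYv k hk0 hk with b | b <;>
        rw [a, b] at h1 ⊢ <;> omega
    · rw [hvalY k hk0 hk _ (hYB j hj0 hj) (hYS j hj0 hj) hY, mul_zero] at e
      exact Or.inl ⟨by omega, hY⟩
  have heq2 : ∀ j k, 0 < j → j < h → 0 < k → k < h →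
      (({p j, q j} : Finset α) ∩ {p k, q k}).card = 2 →
        ({p j, q j} : Finset α) = {p k, q k} := by
    intro j k hj0 hj hk0 hk hc
    have e1 := Finset.eq_of_subset_of_card_le
      (Finset.inter_subset_left (s₁ := ({p j, q j} : Finset α)) (s₂ := {p k, q k}))
      (by rw [hc, hP2 j hj0 hj])
    have e2 := Finset.eq_of_subset_of_card_le
      (Finset.inter_subset_right (s₁ := ({p j, q j} : Finset α)) (s₂ := {p k, q k}))
      (by rw [hc, hP2 k hk0 hk])
    exact e1.symm.trans e2
  have hall : ∀ x ∈ B, x ∈ S ∨ ∃ j, 0 < j ∧ j < h ∧ x = Y j := by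
    intro x hx
    by_contra hn
    simp only [not_or, not_exists, not_and] at hn
    obtain ⟨hxS, hxY⟩ := hn
    refine hmid x hx ?_
    rw [midValue, Finset.sum_eq_zero fun j hj => ?_]
    · have : w h x = 0 := by_contra fun h0 => hxS ((hmemS x).2 ⟨hx, h0⟩)
      rw [this, mul_zero, add_zero]
    · rw [Finset.mem_Ioo] at hj
      rw [hvalY j hj.1 hj.2 x hx hxS (hxY j hj.1 hj.2), mul_zero]
  by_cases hsame : ∀ j k, 0 < j → j < h → 0 < k → k < h →
      ({p j, q j} : Finset α) = {p k, q k}
  · -- the regular shape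
    left
    have h1 : (0 : ℕ) < 1 ∧ 1 < h := ⟨one_pos, by omega⟩
    have hinj : ∀ j k, 0 < j → j < h → 0 < k → k < h → Y j = Y k → j = k := by
      intro j k hj0 hj hk0 hk hY
      by_contra hne
      rcases hpair j k hj0 hj hk0 hk hne with ⟨-, a⟩ | ⟨a, -, -⟩
      · exact a hY
      · rw [hsame j k hj0 hj hk0 hk, Finset.inter_self, hP2 k hk0 hk] at a
        omega
    have hBeq : B = S ∪ (Finset.Ioo 0 h).image Y := by
      ext x
      rw [Finset.mem_union, Finset.mem_image]
      constructor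
      · intro hx
        rcases hall x hx with a | ⟨j, hj0, hj, rfl⟩
        · exact Or.inl a
        · exact Or.inr ⟨j, Finset.mem_Ioo.2 ⟨hj0, hj⟩, rfl⟩
      · rintro (hx | ⟨j, hj, rfl⟩)
        · exact ((hmemS x).1 hx).1
        · exact hYB j (Finset.mem_Ioo.1 hj).1 (Finset.mem_Ioo.1 hj).2
    have hSB : S ⊆ B := fun x hx => ((hmemS x).1 hx).1
    refine ⟨?_, S, hSB, hScard, fun x hx => ?_, fun x hx hxS => ?_, ?_⟩
    · rw [hBeq, Finset.card_union_of_disjoint (Finset.disjoint_left.2 (by
          intro x hx hx'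
          obtain ⟨j, hj, rfl⟩ := Finset.mem_image.1 hx'
          exact hYS j (Finset.mem_Ioo.1 hj).1 (Finset.mem_Ioo.1 hj).2 hx)),
        Finset.card_image_of_injOn (by
          intro a ha b hb e
          rw [Finset.coe_Ioo, Set.mem_Ioo] at ha hb
          exact hinj a b ha.1 ha.2 hb.1 hb.2 e), hScard, Nat.card_Ioo]
      omega
    · rw [midValue, Finset.sum_congr rfl
        (g := fun j => (-1) ^ j * if x ∈ ({p 1, q 1} : Finset α) then w h x else 0)
        fun j hj => by
          rw [Finset.mem_Ioo] at hj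
          rw [hval j hj.1 hj.2 x hx, hsame j 1 hj.1 hj.2 h1.1 h1.2],
        ← Finset.sum_mul, hneg]
      rcases hsgn x hx with a | a <;> split_ifs <;> rw [a] <;> norm_num
    · obtain ⟨i, hi0, hi, rfl⟩ := (hall x hx).resolve_left hxS
      have hx0 : w h (Y i) = 0 := by_contra fun h0 => hxS ((hmemS _).2 ⟨hx, h0⟩)
      rw [midValue, hx0, Finset.sum_eq_single_of_mem i (Finset.mem_Ioo.2 ⟨hi0, hi⟩) fun j hj hne => by
        rw [Finset.mem_Ioo] at hj
        rw [hvalY j hj.1 hj.2 _ hx hxS fun e => hne (hinj i j hi0 hi hj.1 hj.2 e).symm, mul_zero]]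
      rcases hYv i hi0 hi with a | a <;> rcases neg_one_pow_eq_or ℤ i with b | b <;>
        rw [a, b] <;> norm_num
    · obtain ⟨hpS1, hqS1⟩ := And.intro (hpS 1 h1.1 h1.2) (hqS 1 h1.1 h1.2)
      have hrest : 2 = (S \ {p 1, q 1}).card := by
        rw [Finset.card_sdiff_of_subset (hsub 1 h1.1 h1.2), hScard, hP2 1 h1.1 h1.2]
      obtain ⟨r, r', hrr, hr⟩ := Finset.card_eq_two.1 hrest.symm
      have hrS : r ∈ S ∧ r' ∈ S ∧ r ∉ ({p 1, q 1} : Finset α) ∧ r' ∉ ({p 1, q 1} : Finset α) := by
        have a : r ∈ S \ {p 1, q 1} := by rw [hr]; simp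
        have b : r' ∈ S \ {p 1, q 1} := by rw [hr]; simp
        rw [Finset.mem_sdiff] at a b
        exact ⟨a.1, b.1, a.2, b.2⟩
      refine ⟨{p 1, q 1, r}, Finset.card_le_three, fun {U} _ _ f hf => ?_⟩
      obtain ⟨L, hL⟩ : ∃ L, L = Submodule.span ℂ (f '' (({p 1, q 1, r} : Finset α) : Set α)) :=
        ⟨_, rfl⟩
      rw [← hL]
      have hmemL : ∀ x, (x = p 1 ∨ x = q 1 ∨ x = r) → f x ∈ L := fun x hx =>
        hL ▸ Submodule.subset_span ⟨x, by simpa using hx, rfl⟩
      have hkey : ∀ j, 0 < j → j ≤ h → ∀ z ∈ B, (w j z : ℂ) ≠ 0 →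
          (∀ x ∈ B, x ≠ z → w j x ≠ 0 → f x ∈ L) → f z ∈ L := by
        intro j hj0 hj z hz hz0 hothers
        have e := hf j hj0 hj
        rw [← Finset.add_sum_erase _ _ hz, add_eq_zero_iff_eq_neg] at e
        rw [← inv_smul_smul₀ hz0 (f z), e]
        refine L.smul_mem _ (L.neg_mem (L.sum_mem fun x hx => ?_))
        obtain ⟨hxz, hxB⟩ := Finset.mem_erase.1 hx
        by_cases h0 : w j x = 0
        · rw [h0, Int.cast_zero, zero_smul]; exact L.zero_mem
        · exact L.smul_mem _ (hothers x hxB hxz h0)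
      have hSL : ∀ x ∈ S, f x ∈ L := by
        intro x hx
        have hcases : x = p 1 ∨ x = q 1 ∨ x = r ∨ x = r' := by
          by_cases hP : x ∈ ({p 1, q 1} : Finset α)
          · simp only [Finset.mem_insert, Finset.mem_singleton] at hP
            tauto
          · have : x ∈ S \ {p 1, q 1} := Finset.mem_sdiff.2 ⟨hx, hP⟩
            rw [hr] at this
            simp only [Finset.mem_insert, Finset.mem_singleton] at this
            tauto
        rcases hcases with a | a | a | a
        · exact hmemL x (Or.inl a)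
        · exact hmemL x (Or.inr (Or.inl a))
        · exact hmemL x (Or.inr (Or.inr a))
        · refine hkey h (by omega) le_rfl x ((hmemS x).1 hx).1
            (Int.cast_ne_zero.2 ((hmemS x).1 hx).2) fun z hz hzx h0 => hmemL z ?_
          have hzS := (hmemS z).2 ⟨hz, h0⟩
          by_cases hP : z ∈ ({p 1, q 1} : Finset α)
          · simp only [Finset.mem_insert, Finset.mem_singleton] at hP
            tauto
          · have : z ∈ S \ {p 1, q 1} := Finset.mem_sdiff.2 ⟨hzS, hP⟩
            rw [hr] at this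
            simp only [Finset.mem_insert, Finset.mem_singleton] at this
            rcases this with b | b
            · exact Or.inr (Or.inr b)
            · exact absurd (b.trans a.symm) hzx
      intro x hx
      rcases hall x hx with a | ⟨j, hj0, hj, rfl⟩
      · exact hSL x a
      · refine hkey j hj0 hj.le _ hx
          (Int.cast_ne_zero.2 (by rcases hYv j hj0 hj with a | a <;> rw [a] <;> norm_num))
          fun z hz hzY h0 => ?_
        rcases hcov j hj0 hj z hz h0 with a | a | a
        · exact hSL z (a ▸ hpS j hj0 hj)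
        · exact hSL z (a ▸ hqS j hj0 hj)
        · exact absurd a hzY
  · -- the exceptional shape
    right
    have hdist : ∀ j k, 0 < j → j < h → 0 < k → k < h → j ≠ k →
        (({p j, q j} : Finset α) ∩ {p k, q k}).card = 1 ∧ Y j = Y k ∧
          w j (Y j) = w k (Y k) := by
      intro j k hj0 hj hk0 hk hne
      refine (hpair j k hj0 hj hk0 hk hne).resolve_left fun ⟨hc, hY⟩ => ?_
      apply hsame
      have hPjk := heq2 j k hj0 hj hk0 hk hc
      have hone : ∀ l, 0 < l → l < h → ({p l, q l} : Finset α) = {p j, q j} := by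
        intro l hl0 hl
        by_contra hl'
        have a1 : l ≠ j := fun e => hl' (by rw [e])
        have a2 : l ≠ k := fun e => hl' (by rw [e, ← hPjk])
        have b1 := (hpair l j hl0 hl hj0 hj a1).resolve_left
          fun h' => hl' (heq2 l j hl0 hl hj0 hj h'.1)
        have b2 := (hpair l k hl0 hl hk0 hk a2).resolve_left
          fun h' => hl' ((heq2 l k hl0 hl hk0 hk h'.1).trans hPjk.symm)
        exact hY (b1.2.1.symm.trans b2.2.1)
      exact fun a b ha0 ha hb0 hb => (hone a ha0 ha).trans (hone b hb0 hb).symm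
    have hh4 : h = 4 := by
      rcases hsmall with h' | h' | h'
      · refine absurd (fun j k _ _ _ _ => ?_) hsame
        rw [show j = k by omega]
      · exact h'
      · exfalso
        have hcard := Finset.card_le_card_of_injOn (s := Finset.Ioo 0 h)
          (t := S.powersetCard 2) (fun j => ({p j, q j} : Finset α)) (fun j hj => by
            have hj' := Finset.mem_Ioo.1 hj
            exact Finset.mem_powersetCard.2 ⟨hsub j hj'.1 hj'.2, hP2 j hj'.1 hj'.2⟩)
          (fun a ha b hb e => by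
            rw [Finset.coe_Ioo, Set.mem_Ioo] at ha hb
            by_contra hne
            have a1 := (hdist a b ha.1 ha.2 hb.1 hb.2 hne).1
            simp only at e
            rw [e, Finset.inter_self, hP2 b hb.1 hb.2] at a1
            omega)
        rw [Finset.card_powersetCard, hScard, Nat.card_Ioo, show Nat.choose 4 2 = 6 from rfl] at hcard
        omega
    subst hh4
    obtain ⟨hc13, hY13, hs13⟩ := hdist 1 3 one_pos (by norm_num) (by norm_num) (by norm_num) (by norm_num)
    obtain ⟨hc12, hY12, hs12⟩ := hdist 1 2 one_pos (by norm_num) (by norm_num) (by norm_num) (by norm_num)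
    obtain ⟨hc23, -, -⟩ := hdist 2 3 (by norm_num) (by norm_num) (by norm_num) (by norm_num) (by norm_num)
    obtain ⟨P₁, hP₁⟩ : ∃ P₁, P₁ = ({p 1, q 1} : Finset α) := ⟨_, rfl⟩
    obtain ⟨P₂, hP₂⟩ : ∃ P₂, P₂ = ({p 2, q 2} : Finset α) := ⟨_, rfl⟩
    obtain ⟨P₃, hP₃⟩ : ∃ P₃, P₃ = ({p 3, q 3} : Finset α) := ⟨_, rfl⟩
    have c1 : P₁.card = 2 := hP₁ ▸ hP2 1 one_pos (by norm_num)
    have c2 : P₂.card = 2 := hP₂ ▸ hP2 2 (by norm_num) (by norm_num)
    have c3 : P₃.card = 2 := hP₃ ▸ hP2 3 (by norm_num) (by norm_num)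
    have s1 : P₁ ⊆ S := hP₁ ▸ hsub 1 one_pos (by norm_num)
    have s2 : P₂ ⊆ S := hP₂ ▸ hsub 2 (by norm_num) (by norm_num)
    have s3 : P₃ ⊆ S := hP₃ ▸ hsub 3 (by norm_num) (by norm_num)
    rw [← hP₁, ← hP₃] at hc13
    rw [← hP₁, ← hP₂] at hc12
    rw [← hP₂, ← hP₃] at hc23
    obtain ⟨e, he⟩ := Finset.card_eq_one.1 hc13
    have hemem : e ∈ P₁ ∧ e ∈ P₃ := Finset.mem_inter.1 (by rw [he]; exact Finset.mem_singleton_self e)
    obtain ⟨f, hf⟩ := Finset.card_eq_one.1
      (show (P₁.erase e).card = 1 by rw [Finset.card_erase_of_mem hemem.1, c1])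
    obtain ⟨g, hg⟩ := Finset.card_eq_one.1
      (show (P₃.erase e).card = 1 by rw [Finset.card_erase_of_mem hemem.2, c3])
    have hP1e : P₁ = {e, f} := by rw [← Finset.insert_erase hemem.1, hf]
    have hP3e : P₃ = {e, g} := by rw [← Finset.insert_erase hemem.2, hg]
    have hef : e ≠ f := fun e' => by rw [hP1e, e'] at c1; simp at c1
    have heg : e ≠ g := fun e' => by rw [hP3e, e'] at c3; simp at c3
    have hfg : f ≠ g := fun e' => by
      rw [hP1e, hP3e, e', Finset.inter_self, Finset.card_pair heg] at hc13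
      omega
    have hS3 : ({e, f, g} : Finset α) ⊆ S := by
      intro x hx
      simp only [Finset.mem_insert, Finset.mem_singleton] at hx
      rcases hx with rfl | rfl | rfl
      · exact s1 hemem.1
      · exact s1 (by rw [hP1e]; simp)
      · exact s3 (by rw [hP3e]; simp)
    have hcard3 : ({e, f, g} : Finset α).card = 3 := by
      rw [Finset.card_insert_of_notMem (by simp [hef, heg]), Finset.card_pair hfg]
    obtain ⟨i, hi⟩ := Finset.card_eq_one.1
      (show (S \ {e, f, g}).card = 1 by rw [Finset.card_sdiff_of_subset hS3, hScard, hcard3])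
    have hiS : i ∈ S ∧ i ∉ ({e, f, g} : Finset α) :=
      Finset.mem_sdiff.1 (by rw [hi]; exact Finset.mem_singleton_self i)
    have hine : i ≠ e ∧ i ≠ f ∧ i ≠ g := by simpa using hiS.2
    have hSeq : S = {e, f, g, i} := by
      ext x
      constructor
      · intro hx
        by_cases h3 : x ∈ ({e, f, g} : Finset α)
        · simp only [Finset.mem_insert, Finset.mem_singleton] at h3 ⊢
          tauto
        · have : x ∈ S \ {e, f, g} := Finset.mem_sdiff.2 ⟨hx, h3⟩
          rw [hi, Finset.mem_singleton] at this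
          simp [this]
      · intro hx
        simp only [Finset.mem_insert, Finset.mem_singleton] at hx
        rcases hx with rfl | rfl | rfl | rfl
        · exact hS3 (by simp)
        · exact hS3 (by simp)
        · exact hS3 (by simp)
        · exact hiS.1
    have hP2cases : P₂ = {f, g} ∨ P₂ = {e, i} := by
      have h12 : (({e, f} : Finset α).filter fun x => x ∈ P₂).card = 1 := by
        rw [Finset.filter_mem_eq_inter, ← hP1e, hc12]
      have h23 : (({e, g} : Finset α).filter fun x => x ∈ P₂).card = 1 := by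
        rw [Finset.filter_mem_eq_inter, ← hP3e, Finset.inter_comm, hc23]
      rw [Finset.card_filter, Finset.sum_pair hef] at h12
      rw [Finset.card_filter, Finset.sum_pair heg] at h23
      have hcap : P₂ = ({e, f, g, i} : Finset α).filter fun x => x ∈ P₂ := by
        ext x
        rw [Finset.mem_filter, ← hSeq]
        exact ⟨fun hx => ⟨s2 hx, hx⟩, fun hx => hx.2⟩
      by_cases hE : e ∈ P₂
      · right
        have hF : f ∉ P₂ := fun h' => by rw [if_pos hE, if_pos h'] at h12; omega
        have hG : g ∉ P₂ := fun h' => by rw [if_pos hE, if_pos h'] at h23; omega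
        refine Finset.eq_of_subset_of_card_le (fun x hx => ?_)
          (by rw [c2, Finset.card_pair (Ne.symm hine.1)])
        rw [hcap, Finset.mem_filter] at hx
        simp only [Finset.mem_insert, Finset.mem_singleton] at hx ⊢
        rcases hx.1 with rfl | rfl | rfl | rfl
        · exact Or.inl rfl
        · exact absurd hx.2 hF
        · exact absurd hx.2 hG
        · exact Or.inr rfl
      · left
        have hF : f ∈ P₂ := by
          by_contra h'
          rw [if_neg hE, if_neg h'] at h12; omega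
        have hG : g ∈ P₂ := by
          by_contra h'
          rw [if_neg hE, if_neg h'] at h23; omega
        refine (Finset.eq_of_subset_of_card_le ?_ (by rw [c2, Finset.card_pair hfg])).symm
        intro x hx
        simp only [Finset.mem_insert, Finset.mem_singleton] at hx
        rcases hx with rfl | rfl <;> assumption
    obtain ⟨y, hy⟩ : ∃ y, y = Y 1 := ⟨_, rfl⟩
    have hY2 : Y 2 = y := hy ▸ hY12.symm
    have hY3 : Y 3 = y := hy ▸ hY13.symm
    obtain ⟨η, hη⟩ : ∃ η, η = w 1 y := ⟨_, rfl⟩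
    have hη2 : w 2 y = η := by rw [hη, hy, hs12, ← hY12]
    have hη3 : w 3 y = η := by rw [hη, hy, hs13, ← hY13]
    have hηv : η = 1 ∨ η = -1 := by rw [hη, hy]; exact hYv 1 one_pos (by norm_num)
    have hyS : y ∉ S := hy ▸ hYS 1 one_pos (by norm_num)
    have hyB : y ∈ B := hy ▸ hYB 1 one_pos (by norm_num)
    have hy4 : w 4 y = 0 := by_contra fun h0 => hyS ((hmemS y).2 ⟨hyB, h0⟩)
    have hyne : y ≠ e ∧ y ≠ f ∧ y ≠ g ∧ y ≠ i := by
      rw [hSeq] at hyS
      simpa using hyS
    have hBeq : B = {e, f, g, i, y} := by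
      ext x
      constructor
      · intro hx
        rcases hall x hx with a | ⟨j, hj0, hj, rfl⟩
        · rw [hSeq] at a
          simp only [Finset.mem_insert, Finset.mem_singleton] at a ⊢
          tauto
        · have : j = 1 ∨ j = 2 ∨ j = 3 := by omega
          rcases this with rfl | rfl | rfl
          · simp [hy]
          · simp [hY2]
          · simp [hY3]
      · intro hx
        simp only [Finset.mem_insert, Finset.mem_singleton] at hx
        have hSB : ∀ z ∈ S, z ∈ B := fun z hz => ((hmemS z).1 hz).1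
        rcases hx with rfl | rfl | rfl | rfl | rfl
        · exact hSB _ (by simp [hSeq])
        · exact hSB _ (by simp [hSeq])
        · exact hSB _ (by simp [hSeq])
        · exact hSB _ (by simp [hSeq])
        · exact hyB
    have hsum5 : ∀ {R : Type} [AddCommMonoid R] (F : α → R),
        ∑ x ∈ B, F x = F e + F f + F g + F i + F y := by
      intro R _ F
      rw [hBeq, Finset.sum_insert (by simp [hef, heg, hine.1.symm, hyne.1.symm]),
        Finset.sum_insert (by simp [hfg, hine.2.1.symm, hyne.2.1.symm]),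
        Finset.sum_insert (by simp [hine.2.2.symm, hyne.2.2.1.symm]),
        Finset.sum_pair hyne.2.2.2.symm]
      abel
    have hv : ∀ x ∈ S, w 1 x = (if x ∈ P₁ then w 4 x else 0) ∧
        w 2 x = (if x ∈ P₂ then w 4 x else 0) ∧ w 3 x = (if x ∈ P₃ then w 4 x else 0) :=
      fun x hx => by
        rw [hP₁, hP₂, hP₃]
        exact ⟨hval 1 one_pos (by norm_num) x hx, hval 2 (by norm_num) (by norm_num) x hx,
          hval 3 (by norm_num) (by norm_num) x hx⟩
    have heS : e ∈ S := by simp [hSeq]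
    have hfS : f ∈ S := by simp [hSeq]
    have hgS : g ∈ S := by simp [hSeq]
    obtain ⟨e1, e2, e3⟩ := hv e heS
    obtain ⟨f1, f2, f3⟩ := hv f hfS
    obtain ⟨g1, g2, g3⟩ := hv g hgS
    obtain ⟨i1, i2, i3⟩ := hv i hiS.1
    simp only [hP1e, hP3e, Finset.mem_insert, Finset.mem_singleton, hef, hef.symm, heg, heg.symm,
      hfg, hfg.symm, hine.1, hine.2.1, hine.2.2, or_true, or_self, or_false,
      false_or, if_true, if_false] at e1 e3 f1 f3 g1 g3 i1 i3
    refine ⟨rfl, fun deg hpos hrel => ⟨f, ((hmemS f).1 hfS).1, ?_, w 4 f, hsgn f hfS, ?_⟩⟩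
    · have : midValue 4 w f = w 4 f + 2 * (-w 1 f + w 2 f - w 3 f) := by
        rw [midValue, show Finset.Ioo 0 4 = {1, 2, 3} from rfl, Finset.sum_insert (by decide),
          Finset.sum_pair (by decide)]
        ring
      rw [this]
      rcases hsgn f hfS with a | a <;> rw [a] <;>
        [exact (odd_one.add_even (even_two_mul _)); exact (odd_neg_one.add_even (even_two_mul _))]
    intro t v hd h4 h2 h1 h3 s
    rw [hsum5] at hd h4 h2 h1 h3
    rw [hsum5]
    have r4 := hrel 4 (by norm_num) le_rfl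
    have r2 := hrel 2 (by norm_num) (by norm_num)
    have r1 := hrel 1 one_pos (by norm_num)
    have r3 := hrel 3 (by norm_num) (by norm_num)
    rw [hsum5] at r4 r2 r1 r3
    simp only [e1, e3, f1, f3, g1, g3, i1, i3, ← hη, hη3, hy4] at h4 h1 h3 r4 r1 r3 ⊢
    have we := hSsq e heS
    have wf := hSsq f hfS
    have wg := hSsq g hgS
    have wi := hSsq i hiS.1
    have dpos : ∀ x ∈ S, (0 : ℤ) < deg x := fun x hx => hpos x ((hmemS x).1 hx).1
    -- signed degrees and entries
    obtain ⟨A, hA⟩ : ∃ A, A = w 4 f * deg f := ⟨_, rfl⟩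
    obtain ⟨E', hE'⟩ : ∃ E', E' = (w 4 e : ℂ) * v e := ⟨_, rfl⟩
    obtain ⟨F', hF'⟩ : ∃ F', F' = (w 4 f : ℂ) * v f := ⟨_, rfl⟩
    obtain ⟨G', hG'⟩ : ∃ G', G' = (w 4 g : ℂ) * v g := ⟨_, rfl⟩
    obtain ⟨I', hI'⟩ : ∃ I', I' = (w 4 i : ℂ) * v i := ⟨_, rfl⟩
    obtain ⟨Y', hY'⟩ : ∃ Y', Y' = (η : ℂ) * v y := ⟨_, rfl⟩
    have hA0 : (A : ℂ) ≠ 0 := Int.cast_ne_zero.2 (hA ▸ mul_ne_zero
      ((hmemS f).1 hfS).2 (dpos f hfS).ne')
    have sq : ∀ x ∈ S, (w 4 x : ℂ) * (w 4 x : ℂ) = 1 := fun x hx => by exact_mod_cast hSsq x hx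
    have hηsq : (η : ℂ) * η = 1 := by rcases hηv with a | a <;> simp [a]
    have hdA : (deg f : ℂ) = (w 4 f : ℂ) * A := by
      rw [hA]; push_cast; linear_combination (-(deg f : ℂ)) * sq f hfS
    have hgA : w 4 g * deg g = A := by rw [hA]; linarith
    have hdgA : (deg g : ℂ) = (w 4 g : ℂ) * A := by
      rw [← hgA]; push_cast; linear_combination (-(deg g : ℂ)) * sq g hgS
    -- both forms of the middle pair
    rcases hP2cases with hP | hP
    · simp only [hP, Finset.mem_insert, Finset.mem_singleton, hef, heg, hine.2.1, hine.2.2,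
        or_true, true_or, or_self, if_true, if_false] at e2 f2 g2 i2
      simp only [e2, f2, g2, i2, hη2] at h2 r2
      have heA : w 4 e * deg e = A := by rw [hA]; linarith
      have hiA : w 4 i * deg i = -3 * A := by rw [hA]; linarith
      have hyA : η * deg y = -2 * A := by rw [hA]; linarith
      have hdeA : (deg e : ℂ) = (w 4 e : ℂ) * A := by
        rw [← heA]; push_cast; linear_combination (-(deg e : ℂ)) * sq e heS
      have hdiA : (deg i : ℂ) = (w 4 i : ℂ) * (-3 * A) := by
        have hh : ((w 4 i * deg i : ℤ) : ℂ) = ((-3 * A : ℤ) : ℂ) := by rw [hiA]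
        push_cast at hh
        linear_combination (-(deg i : ℂ)) * sq i hiS.1 + (w 4 i : ℂ) * hh
      have hdyA : (deg y : ℂ) = (η : ℂ) * (-2 * A) := by
        have hh : ((η * deg y : ℤ) : ℂ) = ((-2 * A : ℤ) : ℂ) := by rw [hyA]
        push_cast at hh
        linear_combination (-(deg y : ℂ)) * hηsq + (η : ℂ) * hh
      push_cast at h4 h2 h1 h3 hd
      simp only [zero_mul, add_zero, zero_add] at h4 h2 h1 h3
      rw [← hE', ← hF', ← hG', ← hI'] at h4
      rw [← hF', ← hG', ← hY'] at h2
      rw [← hE', ← hF', ← hY'] at h1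
      rw [← hE', ← hG', ← hY'] at h3
      rw [hdeA, hdA, hdgA, hdiA, hdyA,
        show (w 4 e : ℂ) * A * v e = A * E' by rw [hE']; ring,
        show (w 4 f : ℂ) * A * v f = A * F' by rw [hF']; ring,
        show (w 4 g : ℂ) * A * v g = A * G' by rw [hG']; ring,
        show (w 4 i : ℂ) * (-3 * A) * v i = A * (-3 * I') by rw [hI']; ring,
        show (η : ℂ) * (-2 * A) * v y = A * (-2 * Y') by rw [hY']; ring] at hd
      have hd' : E' + F' + G' - 3 * I' - 2 * Y' = 0 := mul_left_cancel₀ hA0 (by
        rw [mul_zero]; linear_combination hd)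
      have vF : F' = t := by linear_combination (1 / 16 : ℂ) * hd' + (3 / 16 : ℂ) * h4 +
        (3 / 8 : ℂ) * h2 + (3 / 8 : ℂ) * h1 - (5 / 8 : ℂ) * h3
      have vG : G' = t := by linear_combination vF + h3 - h1
      have vY : Y' = -2 * t := by linear_combination h2 - vF - vG
      have vE : E' = -3 * t := by linear_combination h1 - vF - vY
      have vI : I' = t := by linear_combination h4 - vE - vF - vG
      have ve : v e = (w 4 e : ℂ) * E' := by rw [hE']; linear_combination (-v e) * sq e heS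
      have vf : v f = (w 4 f : ℂ) * F' := by rw [hF']; linear_combination (-v f) * sq f hfS
      have vg : v g = (w 4 g : ℂ) * G' := by rw [hG']; linear_combination (-v g) * sq g hgS
      have vi : v i = (w 4 i : ℂ) * I' := by rw [hI']; linear_combination (-v i) * sq i hiS.1
      have vy : v y = (η : ℂ) * Y' := by rw [hY']; linear_combination (-v y) * hηsq
      rw [ve, vf, vg, vi, vy, hdeA, hdA, hdgA, hdiA, hdyA, vE, vF, vG, vI, vY]
      rcases hsgn e heS with a | a <;> rcases hsgn f hfS with b | b <;>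
        rcases hsgn g hgS with c | c <;> rcases hsgn i hiS.1 with d | d <;>
        simp only [a, b, c, d] <;> push_cast <;> field_simp <;> ring
    · simp only [hP, Finset.mem_insert, Finset.mem_singleton, hef.symm, heg.symm, hine.2.1.symm,
        hine.2.2.symm, or_true, true_or, or_self, if_true, if_false] at e2 f2 g2 i2
      simp only [e2, f2, g2, i2, hη2] at h2 r2
      have hiA : w 4 i * deg i = A := by rw [hA]; linarith
      have heA : w 4 e * deg e = -3 * A := by rw [hA]; linarith
      have hyA : η * deg y = 2 * A := by rw [hA]; linarith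
      have hdiA : (deg i : ℂ) = (w 4 i : ℂ) * A := by
        rw [← hiA]; push_cast; linear_combination (-(deg i : ℂ)) * sq i hiS.1
      have hdeA : (deg e : ℂ) = (w 4 e : ℂ) * (-3 * A) := by
        have hh : ((w 4 e * deg e : ℤ) : ℂ) = ((-3 * A : ℤ) : ℂ) := by rw [heA]
        push_cast at hh
        linear_combination (-(deg e : ℂ)) * sq e heS + (w 4 e : ℂ) * hh
      have hdyA : (deg y : ℂ) = (η : ℂ) * (2 * A) := by
        have hh : ((η * deg y : ℤ) : ℂ) = ((2 * A : ℤ) : ℂ) := by rw [hyA]
        push_cast at hh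
        linear_combination (-(deg y : ℂ)) * hηsq + (η : ℂ) * hh
      push_cast at h4 h2 h1 h3 hd
      simp only [zero_mul, add_zero, zero_add] at h4 h2 h1 h3
      rw [← hE', ← hF', ← hG', ← hI'] at h4
      rw [← hE', ← hI', ← hY'] at h2
      rw [← hE', ← hF', ← hY'] at h1
      rw [← hE', ← hG', ← hY'] at h3
      rw [hdeA, hdA, hdgA, hdiA, hdyA,
        show (w 4 e : ℂ) * (-3 * A) * v e = A * (-3 * E') by rw [hE']; ring,
        show (w 4 f : ℂ) * A * v f = A * F' by rw [hF']; ring,
        show (w 4 g : ℂ) * A * v g = A * G' by rw [hG']; ring,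
        show (w 4 i : ℂ) * A * v i = A * I' by rw [hI']; ring,
        show (η : ℂ) * (2 * A) * v y = A * (2 * Y') by rw [hY']; ring] at hd
      have hd' : -3 * E' + F' + G' + I' + 2 * Y' = 0 := mul_left_cancel₀ hA0 (by
        rw [mul_zero]; linear_combination hd)
      have vE : E' = -t := by linear_combination (-3 / 16 : ℂ) * hd' + (1 / 16 : ℂ) * h4 +
        (1 / 8 : ℂ) * h1 + (1 / 8 : ℂ) * h2 + (1 / 8 : ℂ) * h3
      have vY : Y' = -2 * t := by linear_combination (h1 + h2 + h3 - h4) / 3 - (2 / 3 : ℂ) * vE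
      have vF : F' = -t := by linear_combination h1 - vE - vY
      have vG : G' = -t := by linear_combination h3 - vE - vY
      have vI : I' = 3 * t := by linear_combination h2 - vE - vY
      have ve : v e = (w 4 e : ℂ) * E' := by rw [hE']; linear_combination (-v e) * sq e heS
      have vf : v f = (w 4 f : ℂ) * F' := by rw [hF']; linear_combination (-v f) * sq f hfS
      have vg : v g = (w 4 g : ℂ) * G' := by rw [hG']; linear_combination (-v g) * sq g hgS
      have vi : v i = (w 4 i : ℂ) * I' := by rw [hI']; linear_combination (-v i) * sq i hiS.1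
      have vy : v y = (η : ℂ) * Y' := by rw [hY']; linear_combination (-v y) * hηsq
      rw [ve, vf, vg, vi, vy, hdeA, hdA, hdgA, hdiA, hdyA, vE, vF, vG, vI, vY]
      rcases hsgn e heS with a | a <;> rcases hsgn f hfS with b | b <;>
        rcases hsgn g hgS with c | c <;> rcases hsgn i hiS.1 with d | d <;>
        simp only [a, b, c, d] <;> push_cast <;> field_simp <;> ring

end Cfsg.Lib.Block
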