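import Cfsg.Agent.Lib.Fusion.Alperin
import Cfsg.Agent.Lib.Invol.SylowTools
import Cfsg.Agent.Lib.Local.FixedOrderClosed

/-!
# Centralizers of two-elements in groups with dihedral Sylow two-subgroups

The centralizer of every nonidentity two-element has a normal two-complement, and powers of the
rotation of order at least four are conjugate only to their inverses.
-/

set_option autoImplicit false
set_option linter.unusedSectionVars false
set_option maxHeartbeats 800000

namespace Cfsg.Lib.Block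

open Cfsg

universe u

variable {G : Type u} [Group G] [Finite G]

/-- A Sylow two-subgroup presented as a dihedral group of order `2 m = 4 h`. -/
structure DihSylow (P : Sylow 2 G) (σ τ : G) (h : ℕ) : Prop where
  even : Even h
  two_le : 2 ≤ h
  memσ : σ ∈ (P : Subgroup G)
  memτ : τ ∈ (P : Subgroup G)
  orderσ : orderOf σ = 2 * h
  sqτ : τ * τ = 1
  rel : τ * σ * τ⁻¹ = σ⁻¹
  cover : ∀ x ∈ (P : Subgroup G), x ∈ Subgroup.zpowers σ ∨ x * τ ∈ Subgroup.zpowers σ
  card : Nat.card (P : Subgroup G) = 4 * h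

/-- An element of odd order normalizing a cyclic two-subgroup centralizes it. -/
theorem commute_of_odd_cyclic {y x : G} {a : ℕ} (ha : orderOf y = 2 ^ a) (hx : Odd (orderOf x))
    (hn : x * y * x⁻¹ ∈ Subgroup.zpowers y) : Commute x y := by
  obtain ⟨k, hk⟩ := Subgroup.mem_zpowers_iff.1 hn
  have hit : ∀ j : ℕ, x ^ j * y * (x ^ j)⁻¹ = y ^ (k ^ j) := by
    intro j
    induction j with
    | zero => simp
    | succ j ih =>
      rw [pow_succ' x, mul_inv_rev,
        show x * x ^ j * y * ((x ^ j)⁻¹ * x⁻¹) = x * (x ^ j * y * (x ^ j)⁻¹) * x⁻¹ by group, ih,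
        ← conj_zpow, ← hk, ← zpow_mul, pow_succ']
  have h1 := hit (orderOf x)
  rw [pow_orderOf_eq_one, one_mul, inv_one, mul_one] at h1
  have h2 : ((k ^ orderOf x : ℤ) : ZMod (2 ^ a)) = 1 := by
    have : y ^ (1 : ℤ) = y ^ (k ^ orderOf x) := by rw [zpow_one]; exact h1
    rw [zpow_eq_zpow_iff_modEq, ha, ← ZMod.intCast_eq_intCast_iff] at this
    rw [← this, Int.cast_one]
  rw [Int.cast_pow] at h2
  have hx0 : orderOf x ≠ 0 := (orderOf_pos x).ne'
  have hk1 : (k : ZMod (2 ^ a)) = 1 := by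
    obtain ⟨w, hw⟩ := IsUnit.of_pow_eq_one h2 hx0
    rw [← hw, ← Units.val_one, Units.val_inj]
    rw [← hw, ← Units.val_pow_eq_pow_val, Units.val_eq_one] at h2
    have hcop : (orderOf x).Coprime (Nat.card (ZMod (2 ^ a))ˣ) := by
      haveI : NeZero (2 ^ a) := ⟨by positivity⟩
      rw [Nat.card_eq_fintype_card, ZMod.card_units_eq_totient]
      rcases a.eq_zero_or_pos with h0 | h0
      · simp [h0]
      · rw [Nat.totient_prime_pow Nat.prime_two h0, show 2 - 1 = 1 from rfl, mul_one]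
        exact (Nat.coprime_two_right.2 hx).pow_right _
    exact orderOf_eq_one_iff.1
      (Nat.eq_one_of_dvd_coprimes hcop (orderOf_dvd_of_pow_eq_one h2) (orderOf_dvd_natCard w))
  have h3 : x * y * x⁻¹ = y := by
    rw [← hk]
    conv_rhs => rw [← zpow_one y]
    rw [zpow_eq_zpow_iff_modEq, ha, ← ZMod.intCast_eq_intCast_iff, hk1, Int.cast_one]
  exact mul_inv_eq_iff_eq_mul.1 h3

/-- An element of odd order normalizing a two-group and centralizing a subgroup of index at most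
two in it centralizes it. -/
theorem commute_of_index_two {x : G} (hx : Odd (orderOf x)) {D A : Set G}
    (hD : ∀ d ∈ D, x * d * x⁻¹ ∈ D) (hA : ∀ c ∈ A, Commute x c)
    (hA2 : ∀ c ∈ A, ∃ k : ℕ, orderOf c = 2 ^ k)
    (hq : ∀ d ∈ D, ∀ d' ∈ D, d ∉ A → d' ∉ A → d⁻¹ * d' ∈ A) {d : G} (hd : d ∈ D) :
    Commute x d := by
  by_cases hdA : d ∈ A
  · exact hA d hdA
  have hd' : x * d * x⁻¹ ∉ A := fun h => hdA (by
    have h1 := hA _ h
    have e : d = x * d * x⁻¹ := by
      conv_lhs => rw [show d = x⁻¹ * (x * d * x⁻¹) * x by group, mul_assoc, ← h1.eq]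
      group
    rwa [e])
  obtain ⟨c, hc⟩ : ∃ c, c = d⁻¹ * (x * d * x⁻¹) := ⟨_, rfl⟩
  have hcA : c ∈ A := hc ▸ hq d hd _ (hD d hd) hdA hd'
  have hxd : x * d * x⁻¹ = d * c := by rw [hc]; group
  have hit : ∀ j : ℕ, x ^ j * d * (x ^ j)⁻¹ = d * c ^ j := by
    intro j
    induction j with
    | zero => simp
    | succ j ih =>
      rw [pow_succ' x, mul_inv_rev,
        show x * x ^ j * d * ((x ^ j)⁻¹ * x⁻¹) = x * (x ^ j * d * (x ^ j)⁻¹) * x⁻¹ by group, ih,
        show x * (d * c ^ j) * x⁻¹ = x * d * x⁻¹ * (x * c ^ j * x⁻¹) by group, hxd,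
        ((hA c hcA).pow_right j).eq, mul_inv_cancel_right, mul_assoc, pow_succ']
  have h1 := hit (orderOf x)
  rw [pow_orderOf_eq_one, one_mul, inv_one, mul_one, left_eq_mul] at h1
  obtain ⟨k, hk⟩ := hA2 c hcA
  have hc1 : c = 1 := orderOf_eq_one_iff.1 (Nat.eq_one_of_dvd_coprimes
    ((Nat.coprime_two_right.2 hx).pow_right k) (orderOf_dvd_of_pow_eq_one h1) (hk ▸ dvd_refl _))
  rw [hc1, mul_one] at hxd
  exact mul_inv_eq_iff_eq_mul.1 hxd

/-- A normal complement in the centralizer of a two-element passes to its conjugates. -/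
theorem complement_conj {u g : G}
    (h : HasNormalPComplement 2 (Subgroup.centralizer ({g * u * g⁻¹} : Set G))) :
    HasNormalPComplement 2 (Subgroup.centralizer ({u} : Set G)) := by
  have hmap : ∀ z : Subgroup.centralizer ({g * u * g⁻¹} : Set G),
      g⁻¹ * (z : G) * g ∈ Subgroup.centralizer ({u} : Set G) := fun z => by
    have hz := Subgroup.mem_centralizer_singleton_iff.1 z.2
    refine Subgroup.mem_centralizer_singleton_iff.2 ?_
    calc g⁻¹ * (z : G) * g * u = g⁻¹ * ((z : G) * (g * u * g⁻¹)) * g := by group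
      _ = u * (g⁻¹ * (z : G) * g) := by rw [hz]; group
  let f : Subgroup.centralizer ({g * u * g⁻¹} : Set G) →* Subgroup.centralizer ({u} : Set G) :=
    MonoidHom.mk' (fun z => ⟨_, hmap z⟩) fun a b => Subtype.ext (by
      simp only [Subgroup.coe_mul]
      group)
  haveI : Fact (Nat.Prime 2) := ⟨Nat.prime_two⟩
  refine Fusion.hasNormalPComplement_of_surjective f (fun w => ?_) h
  have hw := Subgroup.mem_centralizer_singleton_iff.1 w.2
  refine ⟨⟨g * (w : G) * g⁻¹, Subgroup.mem_centralizer_singleton_iff.2 ?_⟩, Subtype.ext ?_⟩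
  · calc g * (w : G) * g⁻¹ * (g * u * g⁻¹) = g * ((w : G) * u) * g⁻¹ := by group
      _ = g * u * g⁻¹ * (g * (w : G) * g⁻¹) := by rw [hw]; group
  · show g⁻¹ * (g * (w : G) * g⁻¹) * g = w
    group

/-- The centralizers of conjugate elements. -/
def centralizerConjEquiv (u g : G) : Subgroup.centralizer ({u} : Set G) ≃*
    Subgroup.centralizer ({g * u * g⁻¹} : Set G) where
  toFun y := ⟨g * (y : G) * g⁻¹, Subgroup.mem_centralizer_singleton_iff.2 (by
    have h1 := Subgroup.mem_centralizer_singleton_iff.1 y.2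
    calc g * (y : G) * g⁻¹ * (g * u * g⁻¹) = g * ((y : G) * u) * g⁻¹ := by group
      _ = g * u * g⁻¹ * (g * (y : G) * g⁻¹) := by rw [h1]; group)⟩
  invFun y := ⟨g⁻¹ * (y : G) * g, Subgroup.mem_centralizer_singleton_iff.2 (by
    have h1 := Subgroup.mem_centralizer_singleton_iff.1 y.2
    calc g⁻¹ * (y : G) * g * u = g⁻¹ * ((y : G) * (g * u * g⁻¹)) * g := by group
      _ = u * (g⁻¹ * (y : G) * g) := by rw [h1]; group)⟩
  left_inv y := Subtype.ext (by show g⁻¹ * (g * (y : G) * g⁻¹) * g = y; group)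
  right_inv y := Subtype.ext (by show g * (g⁻¹ * (y : G) * g) * g⁻¹ = y; group)
  map_mul' a b := Subtype.ext (by simp only [Subgroup.coe_mul]; group)

namespace DihSylow

variable {P : Sylow 2 G} {σ τ : G} {h : ℕ} (D : DihSylow P σ τ h)

include D

theorem zpowers_le : Subgroup.zpowers σ ≤ (P : Subgroup G) := Subgroup.zpowers_le.2 D.memσ

theorem τ_inv : τ⁻¹ = τ := inv_eq_of_mul_eq_one_right D.sqτ

theorem τ_conj {c : G} (hc : c ∈ Subgroup.zpowers σ) : τ * c * τ⁻¹ = c⁻¹ := by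
  obtain ⟨i, rfl⟩ := Subgroup.mem_zpowers_iff.1 hc
  rw [← conj_zpow, D.rel, inv_zpow]

theorem comm_zpowers {a b : G} (ha : a ∈ Subgroup.zpowers σ) (hb : b ∈ Subgroup.zpowers σ) :
    a * b = b * a := by
  obtain ⟨i, rfl⟩ := Subgroup.mem_zpowers_iff.1 ha
  obtain ⟨j, rfl⟩ := Subgroup.mem_zpowers_iff.1 hb
  exact ((Commute.refl σ).zpow_zpow i j).eq

theorem sq_outside {x : G} (hx : x ∈ (P : Subgroup G)) (hx' : x ∉ Subgroup.zpowers σ) :
    x * x = 1 := by
  have hc := (D.cover x hx).resolve_left hx'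
  have h1 := D.τ_conj hc
  rw [D.τ_inv] at h1
  calc x * x = x * τ * (τ * (x * τ) * τ) := by
        rw [show τ * (x * τ) * τ = τ * x * (τ * τ) by group, D.sqτ, mul_one, ← mul_assoc,
          mul_assoc x τ τ, D.sqτ, mul_one]
    _ = 1 := by rw [h1, mul_inv_cancel]

theorem mem_of_sq_ne {x : G} (hx : x ∈ (P : Subgroup G)) (h2 : x * x ≠ 1) :
    x ∈ Subgroup.zpowers σ := by
  by_contra hx'
  exact h2 (D.sq_outside hx hx')

/-- The element outside inverts the rotations. -/
theorem conj_outside {x c : G} (hx : x ∈ (P : Subgroup G)) (hx' : x ∉ Subgroup.zpowers σ)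
    (hc : c ∈ Subgroup.zpowers σ) : x * c * x⁻¹ = c⁻¹ := by
  have hxτ := (D.cover x hx).resolve_left hx'
  rw [show x * c * x⁻¹ = x * τ * (τ⁻¹ * c * τ) * (x * τ)⁻¹ by group, D.τ_inv,
    show τ * c * τ = c⁻¹ by nth_rw 2 [← D.τ_inv]; exact D.τ_conj hc,
    D.comm_zpowers hxτ (inv_mem hc), mul_inv_cancel_right]

/-- The centralizer in the Sylow subgroup of a rotation of order at least four. -/
theorem mem_of_commute {x c : G} (hx : x ∈ (P : Subgroup G)) (hc : c ∈ Subgroup.zpowers σ)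
    (hc2 : c * c ≠ 1) (hcomm : Commute x c) : x ∈ Subgroup.zpowers σ := by
  by_contra hx'
  have h1 := D.conj_outside hx hx' hc
  rw [hcomm.eq, mul_inv_cancel_right] at h1
  exact hc2 (mul_eq_one_iff_eq_inv.2 h1)

theorem quot_outside {d d' : G} (hd : d ∈ (P : Subgroup G)) (hd' : d' ∈ (P : Subgroup G))
    (h1 : d ∉ Subgroup.zpowers σ) (h2 : d' ∉ Subgroup.zpowers σ) :
    d⁻¹ * d' ∈ Subgroup.zpowers σ := by
  have e1 := (D.cover d hd).resolve_left h1
  have e2 := (D.cover d' hd').resolve_left h2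
  have hi : d⁻¹ = d := inv_eq_of_mul_eq_one_right (D.sq_outside hd h1)
  have e3 := D.τ_conj e2
  have : d⁻¹ * d' = d * τ * (τ * (d' * τ) * τ⁻¹) := by
    rw [hi, D.τ_inv, show τ * (d' * τ) * τ = τ * d' * (τ * τ) by group, D.sqτ, mul_one,
      ← mul_assoc, mul_assoc d τ τ, D.sqτ, mul_one]
  rw [this, e3]
  exact mul_mem e1 (inv_mem e2)

/-- The central involution. -/
theorem central_involution :
    σ ^ h * σ ^ h = 1 ∧ σ ^ h ≠ 1 ∧ ∀ x ∈ (P : Subgroup G), Commute x (σ ^ h) := by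
  have h2 := D.two_le
  have hsq : σ ^ h * σ ^ h = 1 := by rw [← pow_add, ← two_mul, ← D.orderσ, pow_orderOf_eq_one]
  have hm : σ ^ h ∈ Subgroup.zpowers σ := ⟨h, zpow_natCast σ h⟩
  refine ⟨hsq, pow_ne_one_of_lt_orderOf (by omega) (by rw [D.orderσ]; omega), fun x hx => ?_⟩
  by_cases hx' : x ∈ Subgroup.zpowers σ
  · exact D.comm_zpowers hx' hm
  · have h1 := D.conj_outside hx hx' hm
    rw [inv_eq_of_mul_eq_one_right hsq] at h1
    exact mul_inv_eq_iff_eq_mul.1 h1

theorem eq_central_of_sq {c : G} (hc : c ∈ Subgroup.zpowers σ) (h2 : c * c = 1) :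
    c = 1 ∨ c = σ ^ h := by
  obtain ⟨i, hi⟩ := (IsOfFinOrder.mem_powers_iff_mem_zpowers (isOfFinOrder_of_finite σ)).2 hc
  rw [← hi] at h2 ⊢
  rw [← pow_add, ← orderOf_dvd_iff_pow_eq_one, D.orderσ] at h2
  obtain ⟨j, hj⟩ := h2
  have hih : i = h * j := by
    have h' : 2 * i = 2 * (h * j) := by rw [← mul_assoc, ← hj]; ring
    omega
  show σ ^ i = 1 ∨ σ ^ i = σ ^ h
  rw [hih, pow_mul]
  obtain ⟨k, rfl | rfl⟩ := Nat.even_or_odd' j
  · left
    rw [pow_mul, pow_two, D.central_involution.1, one_pow]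
  · right
    rw [pow_succ, pow_mul, pow_two, D.central_involution.1, one_pow, one_mul]

/-- A two-subgroup centralizing a rotation of order at least four has order at most `2 h`. -/
theorem card_le_rotation {c : G} (hc : c ∈ Subgroup.zpowers σ) (hc2 : c * c ≠ 1) {Q : Subgroup G}
    (hQ : IsPGroup 2 Q) (hQc : ∀ x ∈ Q, Commute x c) : Nat.card Q ≤ 2 * h := by
  haveI : Fact (Nat.Prime 2) := ⟨Nat.prime_two⟩
  have hcp : IsPGroup 2 (Subgroup.zpowers c) :=
    P.2.to_le (Subgroup.zpowers_le.2 (D.zpowers_le hc))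
  have hsup : IsPGroup 2 ↥(Q ⊔ Subgroup.zpowers c) := by
    refine hQ.to_sup_of_normal_left' hcp (Subgroup.zpowers_le.2 ?_)
    refine Subgroup.mem_normalizer_iff.2 fun x => ⟨fun hx => ?_, fun hx => ?_⟩
    · rwa [← (hQc x hx).eq, mul_inv_cancel_right]
    · have := hQc _ hx
      have e : c * x * c⁻¹ = x := by
        have h' : c * x * c⁻¹ * c = c * (c * x * c⁻¹) := this.eq
        calc c * x * c⁻¹ = c⁻¹ * (c * (c * x * c⁻¹)) := by group
          _ = c⁻¹ * (c * x * c⁻¹ * c) := by rw [h']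
          _ = x := by group
      rwa [e] at hx
  obtain ⟨g, hg⟩ := Invol.exists_conj_mem_sylow P hsup
  have hu := hg c (Subgroup.mem_sup_right (Subgroup.mem_zpowers c))
  have hu2 : g * c * g⁻¹ * (g * c * g⁻¹) ≠ 1 := fun e => hc2 (by
    rw [show g * c * g⁻¹ * (g * c * g⁻¹) = g * (c * c) * g⁻¹ by group] at e
    exact conj_eq_one_iff.1 e)
  have hsub : Q.map (MulAut.conj g).toMonoidHom ≤ Subgroup.zpowers σ := by
    rintro _ ⟨x, hx, rfl⟩
    exact D.mem_of_commute (hg x (Subgroup.mem_sup_left hx)) (D.mem_of_sq_ne hu hu2) hu2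
      ((hQc x hx).map (MulAut.conj g).toMonoidHom)
  have h1 := Subgroup.card_le_of_le hsub
  rwa [Subgroup.card_map_of_injective (MulAut.conj g).injective, Nat.card_zpowers, D.orderσ] at h1

/-- A Sylow subgroup of the centralizer of a rotation of order at least four. -/
theorem exists_sylow_rotation {c : G} (hc : c ∈ Subgroup.zpowers σ) (hc2 : c * c ≠ 1) :
    ∃ R : Sylow 2 (Subgroup.centralizer ({c} : Set G)),
      (R : Subgroup (Subgroup.centralizer ({c} : Set G))).map (Subgroup.subtype _) =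
        Subgroup.zpowers σ := by
  haveI : Fact (Nat.Prime 2) := ⟨Nat.prime_two⟩
  have hle : Subgroup.zpowers σ ≤ Subgroup.centralizer ({c} : Set G) := fun x hx =>
    Subgroup.mem_centralizer_singleton_iff.2 (D.comm_zpowers hx hc)
  have hp : IsPGroup 2 ((Subgroup.zpowers σ).subgroupOf (Subgroup.centralizer ({c} : Set G))) :=
    (P.2.to_le D.zpowers_le).of_equiv (Subgroup.subgroupOfEquivOfLe hle).symm
  obtain ⟨R, hR⟩ := hp.exists_le_sylow
  have hge : Subgroup.zpowers σ ≤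
      (R : Subgroup (Subgroup.centralizer ({c} : Set G))).map (Subgroup.subtype _) :=
    fun x hx => ⟨⟨x, hle hx⟩, hR hx, rfl⟩
  refine ⟨R, (Subgroup.eq_of_le_of_card_ge hge ?_).symm⟩
  rw [Nat.card_zpowers, D.orderσ]
  refine D.card_le_rotation hc hc2 (R.2.map _) ?_
  rintro _ ⟨x, -, rfl⟩
  exact Subgroup.mem_centralizer_singleton_iff.1 x.2

theorem complement_rotation {c : G} (hc : c ∈ Subgroup.zpowers σ) (hc2 : c * c ≠ 1) :
    HasNormalPComplement 2 (Subgroup.centralizer ({c} : Set G)) := by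
  haveI : Fact (Nat.Prime 2) := ⟨Nat.prime_two⟩
  obtain ⟨R, hR⟩ := D.exists_sylow_rotation hc hc2
  refine Local.FixedOrder.hasNormalPComplement_of_cyclic (fun q hq _ => hq.two_le) R ?_
  exact isCyclic_of_surjective
    (((R : Subgroup (Subgroup.centralizer ({c} : Set G))).equivMapOfInjective _
      (Subgroup.subtype_injective _)).trans (MulEquiv.subgroupCongr hR)).symm
    (MulEquiv.surjective _)

/-- Rotations of order at least four are conjugate only to their inverses. -/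
theorem conj_rotation {a b g : G} (ha : a ∈ Subgroup.zpowers σ) (hb : b ∈ Subgroup.zpowers σ)
    (hb2 : b * b ≠ 1) (hg : g * a * g⁻¹ = b) : b = a ∨ b = a⁻¹ := by
  haveI : Fact (Nat.Prime 2) := ⟨Nat.prime_two⟩
  obtain ⟨R, hR⟩ := D.exists_sylow_rotation hb hb2
  have hle : (Subgroup.zpowers σ).map (MulAut.conj g).toMonoidHom ≤
      Subgroup.centralizer ({b} : Set G) := by
    rintro _ ⟨x, hx, rfl⟩
    refine Subgroup.mem_centralizer_singleton_iff.2 ?_
    have h1 : Commute x a := D.comm_zpowers hx ha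
    have := (h1.map (MulAut.conj g).toMonoidHom).eq
    rwa [show (MulAut.conj g).toMonoidHom a = b from hg] at this
  have hp : IsPGroup 2 (((Subgroup.zpowers σ).map (MulAut.conj g).toMonoidHom).subgroupOf
      (Subgroup.centralizer ({b} : Set G))) :=
    ((P.2.to_le D.zpowers_le).map _).of_equiv (Subgroup.subgroupOfEquivOfLe hle).symm
  obtain ⟨z, hz⟩ := Invol.exists_conj_mem_sylow R hp
  have hgo : (z : G) * g * σ * ((z : G) * g)⁻¹ ∈ Subgroup.zpowers σ := by
    rw [← hR]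
    exact ⟨_, hz ⟨g * σ * g⁻¹, hle ⟨σ, Subgroup.mem_zpowers σ, rfl⟩⟩
      ⟨σ, Subgroup.mem_zpowers σ, rfl⟩, by simp only [Subgroup.subtype_apply]; push_cast; group⟩
  -- the conjugation on the rotations is that of a two-element
  obtain ⟨x, hx⟩ : ∃ x, x = (z : G) * g := ⟨_, rfl⟩
  rw [← hx] at hgo
  have hxa : x * a * x⁻¹ = b := by
    have h1 := Subgroup.mem_centralizer_singleton_iff.1 z.2
    rw [hx, show (z : G) * g * a * ((z : G) * g)⁻¹ = (z : G) * (g * a * g⁻¹) * (z : G)⁻¹ by group,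
      hg, h1, mul_inv_cancel_right]
  suffices hs : x * σ * x⁻¹ = σ ∨ x * σ * x⁻¹ = σ⁻¹ by
    obtain ⟨i, rfl⟩ := Subgroup.mem_zpowers_iff.1 ha
    rw [← hxa, ← conj_zpow]
    rcases hs with h1 | h1 <;> rw [h1]
    · exact Or.inl rfl
    · exact Or.inr (inv_zpow σ i)
  obtain ⟨a2, ha2⟩ : ∃ k, orderOf σ = 2 ^ k := by
    obtain ⟨k, hk⟩ := IsPGroup.iff_orderOf.1 P.2 ⟨σ, D.memσ⟩
    exact ⟨k, by rwa [Subgroup.orderOf_mk] at hk⟩
  -- split off the odd part
  obtain ⟨d, e, hd, hde⟩ := Nat.exists_eq_pow_mul_and_not_dvd (orderOf_pos x).ne' 2 (by norm_num)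
  obtain ⟨u, v, huv⟩ : ∃ u v : ℤ, u * (2 ^ d : ℕ) + v * (e : ℤ) = 1 := by
    have hcop : IsCoprime ((2 ^ d : ℕ) : ℤ) (e : ℤ) := Int.isCoprime_iff_gcd_eq_one.2 (by
      rw [Int.gcd_natCast_natCast]
      exact ((Nat.prime_two.coprime_iff_not_dvd).2 hd).pow_left d)
    exact hcop
  have hnorm : ∀ k : ℤ, x ^ k * σ * (x ^ k)⁻¹ ∈ Subgroup.zpowers σ := by
    have hxN : x ∈ Subgroup.normalizer (Subgroup.zpowers σ : Set G) := by
      have hmap : (Subgroup.zpowers σ).map (MulAut.conj x).toMonoidHom = Subgroup.zpowers σ :=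
        Subgroup.eq_of_le_of_card_ge (by
          rintro _ ⟨y, hy, rfl⟩
          obtain ⟨i, rfl⟩ := Subgroup.mem_zpowers_iff.1 hy
          show x * σ ^ i * x⁻¹ ∈ _
          rw [← conj_zpow]
          exact zpow_mem hgo i)
          (Subgroup.card_map_of_injective (MulAut.conj x).injective).ge
      refine Subgroup.mem_normalizer_iff.2 fun y => ?_
      conv_rhs => rw [← hmap]
      exact (Subgroup.mem_map_iff_mem (f := (MulAut.conj x).toMonoidHom)
        (MulAut.conj x).injective (K := Subgroup.zpowers σ) (x := y)).symm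
    exact fun k => (Subgroup.mem_normalizer_iff.1 (zpow_mem hxN k) σ).1 (Subgroup.mem_zpowers σ)
  obtain ⟨s, hs⟩ : ∃ s, s = x ^ (u * (2 ^ d : ℕ)) := ⟨_, rfl⟩
  obtain ⟨t, ht⟩ : ∃ t, t = x ^ (v * (e : ℤ)) := ⟨_, rfl⟩
  have hxst : x = t * s := by
    rw [hs, ht, ← zpow_add, show v * (e : ℤ) + u * (2 ^ d : ℕ) = 1 by linarith, zpow_one]
  have hso : Odd (orderOf s) := by
    refine Odd.of_dvd_nat (Nat.odd_iff.2 (by omega : e % 2 = 1)) (orderOf_dvd_of_pow_eq_one ?_)
    rw [hs, ← zpow_natCast, ← zpow_mul,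
      show u * ((2 ^ d : ℕ) : ℤ) * (e : ℤ) = (orderOf x : ℤ) * u by rw [hde]; push_cast; ring,
      zpow_mul, zpow_natCast, pow_orderOf_eq_one, one_zpow]
  have hsσ : Commute s σ := commute_of_odd_cyclic ha2 hso (hs ▸ hnorm _)
  have htσ : t * σ * t⁻¹ ∈ Subgroup.zpowers σ := ht ▸ hnorm _
  have ht2 : ∃ k : ℕ, orderOf t = 2 ^ k := by
    refine ((Nat.dvd_prime_pow Nat.prime_two).1 (orderOf_dvd_of_pow_eq_one (n := 2 ^ d) ?_)).imp
      fun k hk => hk.2
    rw [ht, ← zpow_natCast, ← zpow_mul,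
      show v * (e : ℤ) * ((2 ^ d : ℕ) : ℤ) = (orderOf x : ℤ) * v by rw [hde]; push_cast; ring,
      zpow_mul, zpow_natCast, pow_orderOf_eq_one, one_zpow]
  have hconj : x * σ * x⁻¹ = t * σ * t⁻¹ := by
    rw [hxst, show t * s * σ * (t * s)⁻¹ = t * (s * σ * s⁻¹) * t⁻¹ by group, hsσ.eq,
      mul_inv_cancel_right]
  rw [hconj]
  have hσ2 : σ * σ ≠ 1 := by
    rw [← pow_two]
    exact pow_ne_one_of_lt_orderOf two_ne_zero (by rw [D.orderσ]; have := D.two_le; omega)
  have hsup : IsPGroup 2 ↥(Subgroup.zpowers σ ⊔ Subgroup.zpowers t) := by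
    obtain ⟨k, hk⟩ := ht2
    refine (P.2.to_le D.zpowers_le).to_sup_of_normal_left'
      (IsPGroup.of_card (n := k) (by rw [Nat.card_zpowers, hk])) (Subgroup.zpowers_le.2 ?_)
    rw [ht]
    refine Subgroup.mem_normalizer_iff.2 fun y => ?_
    have hmap : (Subgroup.zpowers σ).map (MulAut.conj (x ^ (v * (e : ℤ)))).toMonoidHom =
        Subgroup.zpowers σ := Subgroup.eq_of_le_of_card_ge (by
      rintro _ ⟨y, hy, rfl⟩
      obtain ⟨i, rfl⟩ := Subgroup.mem_zpowers_iff.1 hy
      show x ^ (v * (e : ℤ)) * σ ^ i * (x ^ (v * (e : ℤ)))⁻¹ ∈ _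
      rw [← conj_zpow]
      exact zpow_mem (hnorm _) i)
      (Subgroup.card_map_of_injective (MulAut.conj (x ^ (v * (e : ℤ)))).injective).ge
    conv_rhs => rw [← hmap]
    exact (Subgroup.mem_map_iff_mem (f := (MulAut.conj (x ^ (v * (e : ℤ)))).toMonoidHom)
      (MulAut.conj _).injective (K := Subgroup.zpowers σ) (x := y)).symm
  obtain ⟨w, hw⟩ := Invol.exists_conj_mem_sylow P hsup
  have hwσ := hw σ (Subgroup.mem_sup_left (Subgroup.mem_zpowers σ))
  have hwt := hw t (Subgroup.mem_sup_right (Subgroup.mem_zpowers t))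
  have hwσ2 : w * σ * w⁻¹ ∈ Subgroup.zpowers σ := D.mem_of_sq_ne hwσ fun e => hσ2 (by
    rw [show w * σ * w⁻¹ * (w * σ * w⁻¹) = w * (σ * σ) * w⁻¹ by group] at e
    exact conj_eq_one_iff.1 e)
  have hback : ∀ y z : G, w * y * w⁻¹ = w * z * w⁻¹ → y = z := fun y z e =>
    mul_left_cancel (mul_right_cancel e)
  by_cases hwt' : w * t * w⁻¹ ∈ Subgroup.zpowers σ
  · refine Or.inl (hback _ _ ?_)
    rw [show w * (t * σ * t⁻¹) * w⁻¹ = w * t * w⁻¹ * (w * σ * w⁻¹) * (w * t * w⁻¹)⁻¹ by group,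
      D.comm_zpowers hwt' hwσ2, mul_inv_cancel_right]
  · refine Or.inr (hback _ _ ?_)
    rw [show w * (t * σ * t⁻¹) * w⁻¹ = w * t * w⁻¹ * (w * σ * w⁻¹) * (w * t * w⁻¹)⁻¹ by group,
      D.conj_outside hwt hwt' hwσ2]
    group

/-- An involution has a conjugate in the Sylow subgroup whose centralizer there is a Sylow subgroup
of its centralizer. -/
theorem exists_good_conj {u : G} (hu2 : u * u = 1) :
    ∃ g : G, g * u * g⁻¹ ∈ (P : Subgroup G) ∧
      ∃ R : Sylow 2 (Subgroup.centralizer ({g * u * g⁻¹} : Set G)),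
        ∀ z : Subgroup.centralizer ({g * u * g⁻¹} : Set G),
          z ∈ (R : Subgroup (Subgroup.centralizer ({g * u * g⁻¹} : Set G))) ↔
            (z : G) ∈ (P : Subgroup G) := by
  haveI : Fact (Nat.Prime 2) := ⟨Nat.prime_two⟩
  let S : Sylow 2 (Subgroup.centralizer ({u} : Set G)) := Classical.arbitrary _
  have hup : IsPGroup 2 (Subgroup.zpowers u) := by
    rcases eq_or_ne u 1 with h1 | h1
    · exact IsPGroup.of_card (n := 0) (by rw [Nat.card_zpowers, h1, orderOf_one, pow_zero])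
    · exact IsPGroup.of_card (n := 1) (by
        rw [Nat.card_zpowers, orderOf_eq_prime (by rw [pow_two, hu2]) h1, pow_one])
  have hnorm : u ∈ Subgroup.normalizer
      (((S : Subgroup (Subgroup.centralizer ({u} : Set G))).map (Subgroup.subtype _) :
        Subgroup G) : Set G) := by
    have hfix : ∀ x : G, x ∈ Subgroup.centralizer ({u} : Set G) → u * x * u⁻¹ = x := fun x hx => by
      rw [← Subgroup.mem_centralizer_singleton_iff.1 hx, mul_inv_cancel_right]
    refine Subgroup.mem_normalizer_iff.2 fun x => ⟨?_, ?_⟩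
    · rintro ⟨y, hy, rfl⟩
      exact ⟨y, hy, (hfix _ y.2).symm⟩
    · rintro ⟨y, hy, he⟩
      refine ⟨y, hy, ?_⟩
      have e : x = u⁻¹ * (y : G) * u := by
        rw [show (y : G) = u * x * u⁻¹ from he]; group
      have h1 := hfix _ y.2
      rw [e]
      calc (y : G) = u⁻¹ * (u * (y : G) * u⁻¹) * u := by group
        _ = u⁻¹ * (y : G) * u := by rw [h1]
  obtain ⟨g, hg⟩ := Invol.exists_conj_mem_sylow P
    ((S.2.map (Subgroup.centralizer ({u} : Set G)).subtype).to_sup_of_normal_left' hup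
      (Subgroup.zpowers_le.2 hnorm))
  refine ⟨g, hg u (Subgroup.mem_sup_right (Subgroup.mem_zpowers u)), ?_⟩
  obtain ⟨C', hC'⟩ : ∃ C', C' = Subgroup.centralizer ({g * u * g⁻¹} : Set G) := ⟨_, rfl⟩
  have hp : IsPGroup 2 ((P : Subgroup G).subgroupOf C') := P.2.comap_subtype
  obtain ⟨R, hR⟩ := hp.exists_le_sylow
  subst hC'
  refine ⟨R, fun z => ⟨fun hz => ?_, fun hz => hR hz⟩⟩
  have hcard : Nat.card (R : Subgroup (Subgroup.centralizer ({g * u * g⁻¹} : Set G))) ≤
      Nat.card ((P : Subgroup G).subgroupOf (Subgroup.centralizer ({g * u * g⁻¹} : Set G))) := by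
    have h1 : Nat.card (S : Subgroup (Subgroup.centralizer ({u} : Set G))) =
        Nat.card (R : Subgroup (Subgroup.centralizer ({g * u * g⁻¹} : Set G))) := by
      rw [S.card_eq_multiplicity, R.card_eq_multiplicity,
        Nat.card_congr (centralizerConjEquiv u g).toEquiv]
    rw [← h1]
    refine Nat.card_le_card_of_injective (fun y => ⟨centralizerConjEquiv u g y.1, hg _ (Subgroup.mem_sup_left ⟨y, y.2, rfl⟩)⟩) fun a b e => ?_
    have e' := congrArg (fun w : ((P : Subgroup G).subgroupOf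
      (Subgroup.centralizer ({g * u * g⁻¹} : Set G))) => ((w : Subgroup.centralizer
        ({g * u * g⁻¹} : Set G)) : G)) e
    exact Subtype.ext (Subtype.ext (mul_left_cancel (mul_right_cancel e')))
  rwa [← Subgroup.eq_of_le_of_card_ge hR hcard] at hz

/-- The centralizer of an involution has a normal complement. -/
theorem complement_involution {u : G} (hu : u ≠ 1) (hu2 : u * u = 1) :
    HasNormalPComplement 2 (Subgroup.centralizer ({u} : Set G)) := by
  haveI : Fact (Nat.Prime 2) := ⟨Nat.prime_two⟩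
  obtain ⟨g, hgu, R, hR⟩ := D.exists_good_conj hu2
  refine complement_conj (g := g) ?_
  obtain ⟨w, hw⟩ : ∃ w, w = g * u * g⁻¹ := ⟨_, rfl⟩
  have hw1 : w ≠ 1 := hw ▸ fun e => hu (conj_eq_one_iff.1 e)
  have hw2 : w * w = 1 := by
    rw [hw, show g * u * g⁻¹ * (g * u * g⁻¹) = g * (u * u) * g⁻¹ by group, hu2, mul_one,
      mul_inv_cancel]
  revert R
  rw [← hw] at hgu ⊢
  intro R hR
  obtain ⟨hJ2, hJ1, hJc⟩ := D.central_involution
  refine (Fusion.frobenius R).2 fun Q hQ x hx hxo => ?_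
  refine Subgroup.mem_centralizer_iff.2 fun q hq => ?_
  have hxG : Odd (orderOf (x : G)) := by
    rw [orderOf_submonoid]
    exact Nat.coprime_two_right.1 hxo
  have hxw : Commute (x : G) w := Subgroup.mem_centralizer_singleton_iff.1 x.2
  -- the subgroup enlarged by the involution
  obtain ⟨E, hE⟩ : ∃ E : Subgroup G, E = Q.map (Subgroup.subtype _) ⊔ Subgroup.zpowers w :=
    ⟨_, rfl⟩
  have hEP : ∀ d ∈ E, d ∈ (P : Subgroup G) ∧ Commute d w := by
    intro d hd
    have h1 : E ≤ (P : Subgroup G) ⊓ Subgroup.centralizer ({w} : Set G) := by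
      rw [hE]
      refine sup_le ?_ (Subgroup.zpowers_le.2 ⟨hgu, Subgroup.mem_centralizer_singleton_iff.2 rfl⟩)
      rintro _ ⟨y, hy, rfl⟩
      exact ⟨(hR y).1 (hQ hy), y.2⟩
    exact ⟨(h1 hd).1, Subgroup.mem_centralizer_singleton_iff.1 (h1 hd).2⟩
  have hEx : ∀ d ∈ E, (x : G) * d * (x : G)⁻¹ ∈ E := by
    have h1 : E.map (MulAut.conj (x : G)).toMonoidHom ≤ E := by
      rw [hE, Subgroup.map_sup, MonoidHom.map_zpowers]
      refine sup_le (le_trans ?_ le_sup_left) (le_trans ?_ le_sup_right)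
      · rintro _ ⟨_, ⟨y, hy, rfl⟩, rfl⟩
        exact ⟨x * y * x⁻¹, (Subgroup.mem_normalizer_iff.1 hx y).1 hy, rfl⟩
      · rw [show (MulAut.conj (x : G)).toMonoidHom w = (x : G) * w * (x : G)⁻¹ from rfl, hxw.eq,
          mul_inv_cancel_right]
    exact fun d hd => h1 ⟨d, hd, rfl⟩
  have hqE : (q : G) ∈ E := hE ▸ Subgroup.mem_sup_left ⟨q, hq, rfl⟩
  refine Subtype.ext (Commute.symm ?_)
  by_cases hwσ : w ∈ Subgroup.zpowers σ
  · -- the central involution
    have hwJ : w = σ ^ h := (D.eq_central_of_sq hwσ hw2).resolve_left hw1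
    refine commute_of_index_two hxG (D := (E : Set G))
      (A := ((E ⊓ Subgroup.zpowers σ : Subgroup G) : Set G)) hEx (fun c hc => ?_)
      (fun c hc => ?_) (fun d hd d' hd' h1 h2 => ⟨E.mul_mem (E.inv_mem hd) hd', ?_⟩) hqE
    · haveI : IsCyclic ↥(E ⊓ Subgroup.zpowers σ) := isCyclic_of_injective
        (Subgroup.inclusion inf_le_right) (Subgroup.inclusion_injective inf_le_right)
      obtain ⟨y, hy⟩ := IsCyclic.exists_generator (α := ↥(E ⊓ Subgroup.zpowers σ))
      suffices hyx : Commute (x : G) y by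
        obtain ⟨i, hi⟩ := Subgroup.mem_zpowers_iff.1 (hy ⟨c, hc⟩)
        rw [show c = ((y ^ i : ↥(E ⊓ Subgroup.zpowers σ)) : G) by rw [hi]]
        push_cast
        exact hyx.zpow_right i
      obtain ⟨a, ha⟩ : ∃ a, orderOf (y : G) = 2 ^ a := by
        obtain ⟨a, ha⟩ := IsPGroup.iff_orderOf.1 P.2 ⟨y, (hEP y y.2.1).1⟩
        exact ⟨a, by rwa [Subgroup.orderOf_mk] at ha⟩
      refine commute_of_odd_cyclic ha hxG ?_
      by_cases hy2 : (y : G) * y = 1
      · rcases D.eq_central_of_sq y.2.2 hy2 with e | e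
        · rw [e]; simp
        · rw [e, ← hwJ, hxw.eq, mul_inv_cancel_right]; exact Subgroup.mem_zpowers w
      · have hm : (x : G) * y * (x : G)⁻¹ ∈ E ⊓ Subgroup.zpowers σ := by
          refine ⟨hEx _ y.2.1, D.mem_of_sq_ne (hEP _ (hEx _ y.2.1)).1 fun e => hy2 ?_⟩
          rw [show (x : G) * y * (x : G)⁻¹ * ((x : G) * y * (x : G)⁻¹) =
            (x : G) * ((y : G) * y) * (x : G)⁻¹ by group] at e
          exact conj_eq_one_iff.1 e
        obtain ⟨i, hi⟩ := Subgroup.mem_zpowers_iff.1 (hy ⟨_, hm⟩)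
        exact ⟨i, by have := congrArg Subtype.val hi; push_cast at this; exact this⟩
    · obtain ⟨a, ha⟩ := IsPGroup.iff_orderOf.1 P.2 ⟨c, (hEP c hc.1).1⟩
      exact ⟨a, by rwa [Subgroup.orderOf_mk] at ha⟩
    · exact D.quot_outside (hEP d hd).1 (hEP d' hd').1 (fun e => h1 ⟨hd, e⟩)
        fun e => h2 ⟨hd', e⟩
  · -- a reflection
    have hfour : ∀ d ∈ E, d ∉ ({1, w} : Set G) → d = σ ^ h ∨ d = w * σ ^ h := by
      intro d hd hd'
      simp only [Set.mem_insert_iff, Set.mem_singleton_iff, not_or] at hd'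
      obtain ⟨hdP, hdw⟩ := hEP d hd
      by_cases hdσ : d ∈ Subgroup.zpowers σ
      · have h1 := D.conj_outside hgu hwσ hdσ
        rw [← hdw.eq, mul_inv_cancel_right] at h1
        exact Or.inl ((D.eq_central_of_sq hdσ (mul_eq_one_iff_eq_inv.2 h1)).resolve_left hd'.1)
      · have hm : w⁻¹ * d ∈ Subgroup.zpowers σ := D.quot_outside hgu hdP hwσ hdσ
        have h1 : w * (w⁻¹ * d) * w⁻¹ = (w⁻¹ * d)⁻¹ := D.conj_outside hgu hwσ hm
        have hc : Commute w (w⁻¹ * d) := ((Commute.refl w).inv_right).mul_right hdw.symm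
        rw [hc.eq, mul_inv_cancel_right] at h1
        rcases D.eq_central_of_sq hm (mul_eq_one_iff_eq_inv.2 h1) with e | e
        · exact absurd (inv_mul_eq_one.1 e).symm hd'.2
        · exact Or.inr (by rw [← e, mul_inv_cancel_left])
    have hwi : w⁻¹ = w := inv_eq_of_mul_eq_one_right hw2
    have hJi : (σ ^ h)⁻¹ = σ ^ h := inv_eq_of_mul_eq_one_right hJ2
    refine commute_of_index_two hxG (D := (E : Set G)) (A := ({1, w} : Set G)) hEx ?_ ?_
      (fun d hd d' hd' h1 h2 => ?_) hqE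
    · rintro c (rfl | rfl)
      · exact Commute.one_right _
      · exact hxw
    · rintro c (rfl | rfl)
      · exact ⟨0, by simp⟩
      · exact ⟨1, by rw [orderOf_eq_prime (by rw [pow_two, hw2]) hw1, pow_one]⟩
    · have hcw : σ ^ h * w = w * σ ^ h := (hJc w hgu).eq.symm
      rcases hfour d hd h1 with rfl | rfl <;> rcases hfour d' hd' h2 with rfl | rfl
      · exact Or.inl (inv_mul_cancel _)
      · refine Or.inr (Set.mem_singleton_iff.2 ?_)
        rw [hJi, ← mul_assoc, hcw, mul_assoc, hJ2, mul_one]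
      · refine Or.inr (Set.mem_singleton_iff.2 ?_)
        rw [mul_inv_rev, hJi, hwi, hcw, mul_assoc, hJ2, mul_one]
      · exact Or.inl (inv_mul_cancel _)

/-- The centralizer of a nontrivial member of the Sylow subgroup has a normal complement. -/
theorem complement {u : G} (hu : u ∈ (P : Subgroup G)) (hu1 : u ≠ 1) :
    HasNormalPComplement 2 (Subgroup.centralizer ({u} : Set G)) := by
  by_cases h2 : u * u = 1
  · exact D.complement_involution hu1 h2
  · exact D.complement_rotation (D.mem_of_sq_ne hu h2) h2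

/-- The Sylow subgroup centralizes the central involution. -/
theorem le_centralizer_central :
    (P : Subgroup G) ≤ Subgroup.centralizer ({σ ^ h} : Set G) := fun x hx =>
  Subgroup.mem_centralizer_singleton_iff.2 (D.central_involution.2.2 x hx).eq

/-- An involution not conjugate to the central one has a four group as Sylow subgroup of its
centralizer. -/
theorem card_sylow_reflection {u : G} (hu1 : u ≠ 1) (hu2 : u * u = 1)
    (hc : ¬ IsConj u (σ ^ h)) (R : Sylow 2 (Subgroup.centralizer ({u} : Set G))) :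
    Nat.card (R : Subgroup (Subgroup.centralizer ({u} : Set G))) = 4 := by
  haveI : Fact (Nat.Prime 2) := ⟨Nat.prime_two⟩
  obtain ⟨g, hgu, S, hS⟩ := D.exists_good_conj hu2
  obtain ⟨hJ2, hJ1, hJc⟩ := D.central_involution
  have hRS : Nat.card (R : Subgroup (Subgroup.centralizer ({u} : Set G))) =
      Nat.card (S : Subgroup (Subgroup.centralizer ({g * u * g⁻¹} : Set G))) := by
    rw [R.card_eq_multiplicity, S.card_eq_multiplicity,
      Nat.card_congr (centralizerConjEquiv u g).toEquiv]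
  obtain ⟨w, hw⟩ : ∃ w, w = g * u * g⁻¹ := ⟨_, rfl⟩
  revert S
  rw [← hw] at hgu ⊢
  intro S hS hRS
  have hw1 : w ≠ 1 := hw ▸ fun e => hu1 (conj_eq_one_iff.1 e)
  have hwJ : w ≠ σ ^ h := fun e => hc (isConj_iff.2 ⟨g, hw ▸ e⟩)
  have hw2 : w * w = 1 := by
    rw [hw, show g * u * g⁻¹ * (g * u * g⁻¹) = g * (u * u) * g⁻¹ by group, hu2, mul_one,
      mul_inv_cancel]
  have hwσ : w ∉ Subgroup.zpowers σ := fun e =>
    (D.eq_central_of_sq e hw2).elim hw1 hwJ
  rw [hRS]
  classical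
  have hset : Subtype.val '' (((S : Subgroup (Subgroup.centralizer ({w} : Set G))) :
      Set (Subgroup.centralizer ({w} : Set G)))) =
      ({1, σ ^ h, w, w * σ ^ h} : Set G) := by
    ext d
    constructor
    · rintro ⟨z, hz, rfl⟩
      have hdP := (hS z).1 hz
      have hdw : Commute (z : G) w := Subgroup.mem_centralizer_singleton_iff.1 z.2
      by_cases hdσ : (z : G) ∈ Subgroup.zpowers σ
      · have h1 := D.conj_outside hgu hwσ hdσ
        rw [← hdw.eq, mul_inv_cancel_right] at h1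
        rcases D.eq_central_of_sq hdσ (mul_eq_one_iff_eq_inv.2 h1) with e | e <;> simp [e]
      · have hm : w⁻¹ * (z : G) ∈ Subgroup.zpowers σ := D.quot_outside hgu hdP hwσ hdσ
        have h1 : w * (w⁻¹ * (z : G)) * w⁻¹ = (w⁻¹ * (z : G))⁻¹ := D.conj_outside hgu hwσ hm
        have hc : Commute w (w⁻¹ * (z : G)) := ((Commute.refl w).inv_right).mul_right hdw.symm
        rw [hc.eq, mul_inv_cancel_right] at h1
        rcases D.eq_central_of_sq hm (mul_eq_one_iff_eq_inv.2 h1) with e | e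
        · simp [(inv_mul_eq_one.1 e).symm]
        · simp [show (z : G) = w * σ ^ h by rw [← e, mul_inv_cancel_left]]
    · intro hd
      have hJw : Commute (σ ^ h) w := (hJc w hgu).symm
      have hmem : d ∈ (P : Subgroup G) ∧ Commute d w := by
        rcases hd with rfl | rfl | rfl | rfl
        · exact ⟨one_mem _, Commute.one_left _⟩
        · exact ⟨D.zpowers_le ⟨h, zpow_natCast σ h⟩, hJw⟩
        · exact ⟨hgu, Commute.refl _⟩
        · exact ⟨mul_mem hgu (D.zpowers_le ⟨h, zpow_natCast σ h⟩), (Commute.refl w).mul_left hJw⟩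
      exact ⟨⟨d, Subgroup.mem_centralizer_singleton_iff.2 hmem.2.eq⟩, (hS _).2 hmem.1, rfl⟩
  have h4 := congrArg Set.ncard hset
  rw [Set.ncard_image_of_injective _ Subtype.val_injective, ← Nat.card_coe_set_eq] at h4
  rw [show Nat.card (S : Subgroup (Subgroup.centralizer ({w} : Set G))) =
    Nat.card ↥((S : Subgroup (Subgroup.centralizer ({w} : Set G))) : Set (Subgroup.centralizer ({w} : Set G))) from rfl, h4]
  have h5 : w * σ ^ h ≠ 1 := fun e => hwJ (by
    rw [mul_eq_one_iff_eq_inv.1 e, inv_eq_of_mul_eq_one_right hJ2])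
  rw [Set.ncard_eq_toFinset_card']
  simp [Ne.symm hJ1, Ne.symm hw1, Ne.symm h5, hwJ, Ne.symm hwJ, hJ1, hw1]

end DihSylow

end Cfsg.Lib.Block
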