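import Cfsg.Agent.Lib.Block.PSolvableHeight
import Cfsg.Agent.Lib.Block.DihedralLocal
import Cfsg.Agent.Lib.TwoGroup.QuasiDihedral
import Cfsg.Agent.Lib.Char.Linear
import Cfsg.Agent.Lib.Char.Clifford2
import Cfsg.Agent.Lib.Core.PSolvable
import Mathlib.GroupTheory.Transfer
import Mathlib.GroupTheory.SpecificGroups.Dihedral

/-!
# Blocks of two-solvable groups with dihedral or semidihedral defect groups

After Fong's reductions the quotient by the odd core has an odd part of order at most three,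
inverted by an element, so the rank of the block is at most two.
-/

set_option autoImplicit false
set_option linter.unusedSectionVars false
set_option maxHeartbeats 800000

namespace Cfsg.Lib.Block

open Cfsg Cfsg.Lib.Char
open scoped ComplexConjugate

universe u

noncomputable local instance (priority := high) fintypeSubgroupDihedralSolvable {A : Type u}
    [Group A] [Fintype A] (H : Subgroup A) : Fintype H := Fintype.ofFinite H

/-- A cyclic subgroup of index two, elements of order at most four outside it. -/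
def IsTameShape (S : Type u) [Group S] : Prop :=
  ∃ a : S, (∀ d d' : S, d ∉ Subgroup.zpowers a → d' ∉ Subgroup.zpowers a →
      d⁻¹ * d' ∈ Subgroup.zpowers a) ∧
    (∀ d : S, d ∉ Subgroup.zpowers a → d ^ 4 = 1) ∧ 8 ≤ Nat.card S ∧
    ((∀ d : S, d ∉ Subgroup.zpowers a → d ^ 2 = 1) ∨ 16 ≤ Nat.card S)

theorem isTameShape_congr {S T : Type u} [Group S] [Group T] (e : S ≃* T) (h : IsTameShape S) :
    IsTameShape T := by
  obtain ⟨a, hq, h4, hc, hs⟩ := h
  have hmem : ∀ d : T, d ∈ Subgroup.zpowers (e a) ↔ e.symm d ∈ Subgroup.zpowers a := fun d => by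
    rw [Subgroup.mem_zpowers_iff, Subgroup.mem_zpowers_iff]
    refine exists_congr fun k => ?_
    rw [← map_zpow e, MulEquiv.eq_symm_apply]
  refine ⟨e a, fun d d' h1 h2 => ?_, fun d h1 => ?_, (Nat.card_congr e.toEquiv) ▸ hc, ?_⟩
  · rw [hmem] at h1 h2 ⊢
    rw [map_mul, map_inv]
    exact hq _ _ h1 h2
  · rw [hmem] at h1
    refine e.symm.injective ?_
    rw [map_pow, map_one]
    exact h4 _ h1
  · refine hs.imp (fun hs d h1 => ?_) fun hs => (Nat.card_congr e.toEquiv) ▸ hs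
    rw [hmem] at h1
    refine e.symm.injective ?_
    rw [map_pow, map_one]
    exact hs _ h1

theorem isTameShape_dihedral {S : Type u} [Group S] {n : ℕ} (hn : 3 ≤ n)
    (e : S ≃* DihedralGroup (2 ^ (n - 1))) : IsTameShape S := by
  haveI : NeZero (2 ^ (n - 1)) := ⟨pow_ne_zero _ two_ne_zero⟩
  obtain ⟨a, ha⟩ : ∃ a, a = e.symm (DihedralGroup.r 1) := ⟨_, rfl⟩
  have hout : ∀ d : S, d ∉ Subgroup.zpowers a → ∃ j, d = e.symm (DihedralGroup.sr j) := by
    intro d hd
    rcases hx : e d with j | j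
    · refine absurd ?_ hd
      rw [← e.symm_apply_apply d, hx, ha, ← ZMod.natCast_zmod_val j, ← DihedralGroup.r_one_pow,
        map_pow]
      exact pow_mem (Subgroup.mem_zpowers _) _
    · exact ⟨j, by rw [← hx, e.symm_apply_apply]⟩
  have hsq : ∀ d : S, d ∉ Subgroup.zpowers a → d ^ 2 = 1 := fun d hd => by
    obtain ⟨j, rfl⟩ := hout d hd
    rw [pow_two, ← map_mul, DihedralGroup.sr_mul_self, map_one]
  refine ⟨a, fun d d' hd hd' => ?_, fun d hd => ?_, ?_, Or.inl hsq⟩
  · obtain ⟨i, rfl⟩ := hout d hd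
    obtain ⟨j, rfl⟩ := hout d' hd'
    rw [← map_inv, ← map_mul, DihedralGroup.inv_sr, DihedralGroup.sr_mul_sr, ha,
      ← ZMod.natCast_zmod_val (j - i), ← DihedralGroup.r_one_pow, map_pow]
    exact pow_mem (Subgroup.mem_zpowers _) _
  · rw [show 4 = 2 * 2 from rfl, pow_mul, hsq d hd, one_pow]
  · rw [Nat.card_congr e.toEquiv, DihedralGroup.nat_card]
    have : 2 ^ 2 ≤ 2 ^ (n - 1) := Nat.pow_le_pow_right two_pos (by omega)
    omega

theorem isTameShape_semidihedral {S : Type u} [Group S] [Finite S] (h : IsQuasiDihedral S) :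
    IsTameShape S := by
  obtain ⟨n, ⟨d⟩⟩ := Cfsg.Lib.TwoGroup.exists_sd h
  have hout : ∀ w : S, w ∉ Subgroup.zpowers d.x → ∃ k : ℤ, w = d.x ^ k * d.y := by
    intro w hw
    obtain ⟨k, rfl | rfl⟩ := d.normal_form w
    · exact absurd (zpow_mem (Subgroup.mem_zpowers _) k) hw
    · exact ⟨k, rfl⟩
  have h16 : 16 ≤ Nat.card S := by
    rw [d.card]
    calc 16 = 2 ^ (3 + 1) := by norm_num
      _ ≤ 2 ^ (n + 1) := Nat.pow_le_pow_right two_pos (by have := d.three_le; omega)
  refine ⟨d.x, fun w w' hw hw' => ?_, fun w hw => ?_, by omega, Or.inr h16⟩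
  · obtain ⟨k, rfl⟩ := hout w hw
    obtain ⟨l, rfl⟩ := hout w' hw'
    rw [show (d.x ^ k * d.y)⁻¹ * (d.x ^ l * d.y) = d.y⁻¹ * d.x ^ (l - k) * d.y by group,
      show d.y⁻¹ = d.y from inv_eq_of_mul_eq_one_right d.yy,
      show d.y * d.x ^ (l - k) * d.y = d.y * d.x ^ (l - k) * d.y⁻¹ by
        rw [show d.y⁻¹ = d.y from inv_eq_of_mul_eq_one_right d.yy], d.conj_zpow]
    exact zpow_mem (Subgroup.mem_zpowers _) _
  · obtain ⟨k, rfl⟩ := hout w hw
    rw [show 4 = 2 * 2 from rfl, pow_mul, pow_two (d.x ^ k * d.y), d.sq, ← zpow_natCast,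
      ← zpow_mul, d.zx_one]
    exact ⟨k, by push_cast; ring⟩

/-- The odd elements of a two-constrained group with tame Sylow subgroup. -/
theorem exists_odd_structure {X : Type u} [Group X] [Fintype X] {O : Subgroup X} [O.Normal]
    (hO : IsPGroup 2 O) (hOc : Subgroup.centralizer (O : Set X) ≤ O)
    (hOmax : ∀ N : Subgroup X, N.Normal → IsPGroup 2 N → N ≤ O) (P : Sylow 2 X)
    (hP : IsTameShape (P : Subgroup X)) :
    (∀ x : X, Odd (orderOf x) → x = 1) ∨ ∃ x t : X, orderOf x = 3 ∧ t * x * t⁻¹ = x⁻¹ ∧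
      ∀ g : X, Odd (orderOf g) → ∃ k : X, k * g * k⁻¹ ∈ Subgroup.zpowers x := by
  classical
  haveI : Fact (Nat.Prime 2) := ⟨Nat.prime_two⟩
  obtain ⟨⟨a, haP⟩, hq, h4, hbig, hsmall⟩ := hP
  obtain ⟨Z, hZ⟩ : ∃ Z : Subgroup X, Z = Subgroup.zpowers a := ⟨_, rfl⟩
  have hmemZ : ∀ (d : X) (hd : d ∈ (P : Subgroup X)),
      (⟨d, hd⟩ : (P : Subgroup X)) ∈ Subgroup.zpowers (⟨a, haP⟩ : (P : Subgroup X)) ↔ d ∈ Z := by
    intro d hd
    rw [hZ, Subgroup.mem_zpowers_iff, Subgroup.mem_zpowers_iff]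
    exact exists_congr fun k => by rw [Subtype.ext_iff, SubgroupClass.coe_zpow]
  have hquot : ∀ d ∈ (P : Subgroup X), ∀ d' ∈ (P : Subgroup X), d ∉ Z → d' ∉ Z →
      d⁻¹ * d' ∈ Z := fun d hd d' hd' h1 h2 => (hmemZ _ (mul_mem (inv_mem hd) hd')).1
    (hq ⟨d, hd⟩ ⟨d', hd'⟩ (fun e => h1 ((hmemZ d hd).1 e)) fun e => h2 ((hmemZ d' hd').1 e))
  obtain ⟨A, hA⟩ : ∃ A : Subgroup X, A = O ⊓ Z := ⟨_, rfl⟩
  have hOP : O ≤ (P : Subgroup X) := le_sup_right.trans
    (P.3 (P.2.to_sup_of_normal_right hO) le_sup_left).le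
  haveI hAcyc : IsCyclic A := by
    have hle : A ≤ Subgroup.zpowers a := by rw [hA, hZ]; exact inf_le_right
    exact isCyclic_of_injective (Subgroup.inclusion hle) (Subgroup.inclusion_injective hle)
  obtain ⟨y, hy⟩ : ∃ y : X, Subgroup.zpowers y = A := by
    obtain ⟨y, hy⟩ := IsCyclic.exists_generator (α := A)
    refine ⟨(y : X), le_antisymm (Subgroup.zpowers_le.2 y.2) fun w hw => ?_⟩
    obtain ⟨i, hi⟩ := Subgroup.mem_zpowers_iff.1 (hy ⟨w, hw⟩)
    exact ⟨i, by simpa using congrArg Subtype.val hi⟩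
  have hyA : y ∈ A := hy ▸ Subgroup.mem_zpowers y
  have hy2 : ∃ k : ℕ, orderOf y = 2 ^ k := by
    obtain ⟨k, hk⟩ := IsPGroup.iff_orderOf.1 hO ⟨y, (hA ▸ hyA : y ∈ O ⊓ Z).1⟩
    exact ⟨k, by rwa [Subgroup.orderOf_mk] at hk⟩
  obtain ⟨s, hs⟩ := hy2
  have hAcard : Nat.card A = 2 ^ s := by rw [← hy, Nat.card_zpowers, hs]
  -- conjugation
  have hAO : A ≤ O := hA ▸ inf_le_left
  have hconjA : ∀ g : X, A.map (MulAut.conj g).toMonoidHom ≤ O := fun g w hw => by
    obtain ⟨v, hv, rfl⟩ := hw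
    exact Subgroup.Normal.conj_mem inferInstance v (hAO hv) g
  have hPA : ∀ g ∈ (P : Subgroup X), ∀ w ∈ A, g * w * g⁻¹ ∈ A := by
    intro g hg w hw
    have hw' : w ∈ O ⊓ Z := hA ▸ hw
    have hga : g * a * g⁻¹ ∈ Z := by
      by_cases hgZ : g ∈ Z
      · exact Z.mul_mem (Z.mul_mem hgZ (hZ ▸ Subgroup.mem_zpowers a)) (Z.inv_mem hgZ)
      · by_contra hno
        have h1 := hquot g hg _ (mul_mem (mul_mem hg haP) (inv_mem hg)) hgZ hno
        rw [show g⁻¹ * (g * a * g⁻¹) = a * g⁻¹ by group] at h1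
        exact hgZ (Z.inv_mem_iff.1 ((Z.mul_mem_cancel_left (hZ ▸ Subgroup.mem_zpowers a)).1 h1))
    rw [hA]
    refine ⟨Subgroup.Normal.conj_mem inferInstance w hw'.1 g, ?_⟩
    obtain ⟨i, hi⟩ := Subgroup.mem_zpowers_iff.1 (hZ ▸ hw'.2)
    rw [← hi, ← conj_zpow]
    exact zpow_mem hga i
  have key : ∀ x : X, Odd (orderOf x) → (∀ w ∈ A, x * w * x⁻¹ ∈ A) → x = 1 := by
    intro x hx hfix
    have hxO : x ∈ O := hOc (Subgroup.mem_centralizer_iff.2 fun d hd => by
      refine (commute_of_index_two hx (D := (O : Set X)) (A := (A : Set X))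
        (fun w hw => Subgroup.Normal.conj_mem inferInstance w hw x) (fun c hc => ?_)
        (fun c hc => ?_) (fun w hw w' hw' h1 h2 => ?_) hd).symm.eq
      · obtain ⟨i, rfl⟩ := Subgroup.mem_zpowers_iff.1 (hy.symm ▸ hc : c ∈ Subgroup.zpowers y)
        exact (commute_of_odd_cyclic hs hx (hy.symm ▸ hfix y hyA)).zpow_right i
      · obtain ⟨k, hk⟩ := IsPGroup.iff_orderOf.1 hO ⟨c, hAO hc⟩
        exact ⟨k, by rwa [Subgroup.orderOf_mk] at hk⟩
      · rw [SetLike.mem_coe, hA]
        rw [SetLike.mem_coe, hA] at h1 h2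
        exact ⟨O.mul_mem (O.inv_mem hw) hw', hquot w (hOP hw) w' (hOP hw')
          (fun e => h1 ⟨hw, e⟩) fun e => h2 ⟨hw', e⟩⟩)
    obtain ⟨k, hk⟩ := IsPGroup.iff_orderOf.1 hO ⟨x, hxO⟩
    rw [Subgroup.orderOf_mk] at hk
    rcases k with _ | k
    · exact orderOf_eq_one_iff.1 hk
    · rw [hk, Nat.odd_iff, pow_succ'] at hx
      omega
  by_cases hall : ∀ x : X, Odd (orderOf x) → ∀ w ∈ A, x * w * x⁻¹ ∈ A
  · exact Or.inl fun x hx => key x hx (hall x hx)
  refine Or.inr ?_
  push Not at hall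
  obtain ⟨g₀, -, w₀, hw₀, hg₀⟩ := hall
  -- the size of the core
  have hne : A.map (MulAut.conj g₀).toMonoidHom ≠ A := fun e => hg₀ (by
    rw [← e]; exact ⟨w₀, hw₀, rfl⟩)
  have hcardA' : Nat.card (A.map (MulAut.conj g₀).toMonoidHom : Subgroup X) = 2 ^ s := by
    rw [Subgroup.card_map_of_injective (MulAut.conj g₀).injective, hAcard]
  have hd₀ : ∃ d ∈ O, d ∉ A := by
    by_contra hno
    push Not at hno
    exact hne (Subgroup.eq_of_le_of_card_ge ((hconjA g₀).trans hno) (by rw [hcardA', hAcard]))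
  obtain ⟨d₀, hd₀O, hd₀A⟩ := hd₀
  have houtZ : ∀ d ∈ O, d ∉ A → d ∉ Z := fun d hd hdA hdZ => hdA (hA ▸ ⟨hd, hdZ⟩)
  have hOcard : Nat.card O ≤ 2 * 2 ^ s := by
    have hinj : Function.Injective (fun w : O => if hw : (w : X) ∈ A then ((⟨w, hw⟩ : A), false)
        else ((⟨d₀⁻¹ * w, hA ▸ ⟨O.mul_mem (O.inv_mem hd₀O) w.2, hquot d₀ (hOP hd₀O) w (hOP w.2)
          (houtZ d₀ hd₀O hd₀A) (houtZ w w.2 hw)⟩⟩ : A), true)) := by
      intro u v huv
      simp only at huv
      split_ifs at huv with hu hv hv <;> simp only [Prod.mk.injEq, Subtype.mk.injEq] at huv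
      · exact Subtype.ext huv.1
      · exact absurd huv.2 (by decide)
      · exact absurd huv.2 (by decide)
      · exact Subtype.ext (mul_left_cancel huv.1)
    have h1 := Nat.card_le_card_of_injective _ hinj
    rw [Nat.card_prod, hAcard, Nat.card_eq_fintype_card (α := Bool), Fintype.card_bool] at h1
    omega
  obtain ⟨y', hy'⟩ : ∃ y', y' = g₀ * y * g₀⁻¹ := ⟨_, rfl⟩
  have hy'gen : A.map (MulAut.conj g₀).toMonoidHom = Subgroup.zpowers y' := by
    rw [← hy, MonoidHom.map_zpowers, hy']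
    rfl
  have hy'O : y' ∈ O := hy' ▸ Subgroup.Normal.conj_mem inferInstance y (hAO hyA) g₀
  have hy'Z : y' ∉ Z := fun e => hne (Subgroup.eq_of_le_of_card_ge
    (hy'gen ▸ Subgroup.zpowers_le.2 (hA ▸ ⟨hy'O, e⟩)) (by rw [hcardA', hAcard]))
  have hy'ord : orderOf y' = 2 ^ s := by rw [hy', ← MulAut.conj_apply, MulEquiv.orderOf_eq, hs]
  have hnotmem : (⟨y', hOP hy'O⟩ : (P : Subgroup X)) ∉
      Subgroup.zpowers (⟨a, haP⟩ : (P : Subgroup X)) := fun e => hy'Z ((hmemZ _ _).1 e)
  have hs0 : s ≠ 0 := fun e => by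
    rw [e, pow_zero, orderOf_eq_one_iff] at hy'ord
    exact hy'Z (hy'ord ▸ Z.one_mem)
  have hs2 : s ≤ 2 := by
    have h1 : orderOf y' ∣ 2 ^ 2 := orderOf_dvd_of_pow_eq_one (by
      have := congrArg Subtype.val (h4 _ hnotmem)
      simpa using this)
    rw [hy'ord] at h1
    exact (Nat.pow_dvd_pow_iff_le_right (le_refl 2)).1 h1
  have hlt : Nat.card O < Nat.card (P : Subgroup X) := by
    have hle4 : 2 ^ s ≤ 4 := le_trans (Nat.pow_le_pow_right two_pos hs2) (by norm_num)
    rcases hsmall with h2 | h16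
    · have h1 : orderOf y' ∣ 2 ^ 1 := orderOf_dvd_of_pow_eq_one (by
        have := congrArg Subtype.val (h2 _ hnotmem)
        simpa using this)
      rw [hy'ord] at h1
      have hs1 := (Nat.pow_dvd_pow_iff_le_right (le_refl 2)).1 h1
      have : 2 ^ s ≤ 2 := le_trans (Nat.pow_le_pow_right two_pos hs1) (by norm_num)
      omega
    · omega
  -- the stabilizer
  obtain ⟨N, hN⟩ : ∃ N : Subgroup X, N = Subgroup.normalizer (A : Set X) := ⟨_, rfl⟩
  have hNmem : ∀ g : X, g ∈ N ↔ ∀ w ∈ A, g * w * g⁻¹ ∈ A := by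
    intro g
    rw [hN]
    constructor
    · exact fun hg w hw => (Subgroup.mem_normalizer_iff.1 hg w).1 hw
    · intro hg
      have he : A.map (MulAut.conj g).toMonoidHom = A := Subgroup.eq_of_le_of_card_ge
        (by rintro _ ⟨w, hw, rfl⟩; exact hg w hw)
        (by rw [Subgroup.card_map_of_injective (MulAut.conj g).injective])
      refine Subgroup.mem_normalizer_iff.2 fun w => ⟨hg w, fun hw => ?_⟩
      rw [← he] at hw
      obtain ⟨v, hv, hvw⟩ := hw
      rwa [show w = v from ((MulAut.conj g).injective hvw).symm]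
  have hNp : IsPGroup 2 N := by
    refine IsPGroup.iff_card.2 ⟨_,
      Nat.eq_prime_pow_of_unique_prime_dvd Nat.card_pos.ne' fun {q} hqp hqd => ?_⟩
    by_contra hq2
    haveI := Fact.mk hqp
    obtain ⟨w, hw⟩ := exists_prime_orderOf_dvd_card' q hqd
    have hodd : Odd (orderOf (w : X)) := by
      rw [orderOf_submonoid, hw]
      exact hqp.odd_of_ne_two hq2
    have := key _ hodd ((hNmem _).1 w.2)
    rw [← orderOf_submonoid, this, orderOf_one] at hw
    exact hqp.ne_one hw.symm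
  have hNP : N = (P : Subgroup X) := P.3 hNp fun g hg => (hNmem g).2 (hPA g hg)
  -- counting the conjugates
  obtain ⟨q, hqc⟩ : ∃ q, q = 2 ^ (s - 1) := ⟨_, rfl⟩
  have h2s : 2 ^ s = 2 * q := by
    rw [hqc, ← pow_succ', show s - 1 + 1 = s by omega]
  have hinj : Function.Injective (fun z : (X ⧸ N) × Fin q =>
      (⟨z.1.out * y ^ (2 * (z.2 : ℕ) + 1) * z.1.out⁻¹,
        Subgroup.Normal.conj_mem inferInstance _ (hAO (pow_mem hyA _)) _⟩ : O)) := by
    rintro ⟨c, i⟩ ⟨c', i'⟩ h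
    have h' := congrArg Subtype.val h
    simp only at h'
    have hgen : ∀ i : Fin q, Subgroup.zpowers (y ^ (2 * (i : ℕ) + 1)) = A := fun i => by
      refine Subgroup.eq_of_le_of_card_ge (Subgroup.zpowers_le.2 (pow_mem hyA _)) ?_
      rw [hAcard, Nat.card_zpowers, Nat.Coprime.orderOf_pow, hs]
      rw [hs]
      exact Nat.Coprime.pow_left _ (Nat.coprime_two_left.2 (odd_two_mul_add_one _))
    have hcc : c = c' := by
      rw [← QuotientGroup.out_eq' c, ← QuotientGroup.out_eq' c']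
      refine QuotientGroup.eq.2 ((hNmem _).2 fun w hw => ?_)
      rw [← hgen i'] at hw
      obtain ⟨j, rfl⟩ := Subgroup.mem_zpowers_iff.1 hw
      rw [← conj_zpow]
      refine zpow_mem ?_ j
      rw [show c.out⁻¹ * c'.out * y ^ (2 * (i' : ℕ) + 1) * (c.out⁻¹ * c'.out)⁻¹ =
        c.out⁻¹ * (c'.out * y ^ (2 * (i' : ℕ) + 1) * c'.out⁻¹) * c.out by group, ← h',
        show c.out⁻¹ * (c.out * y ^ (2 * (i : ℕ) + 1) * c.out⁻¹) * c.out =
          y ^ (2 * (i : ℕ) + 1) by group]
      exact pow_mem hyA _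
    subst hcc
    simp only [mul_left_inj, mul_right_inj] at h'
    have hlt' : ∀ i : Fin q, 2 * (i : ℕ) + 1 < orderOf y := fun i => by
      rw [hs, h2s]; have := i.2; omega
    have := pow_injOn_Iio_orderOf (hlt' i) (hlt' i') h'
    have hii : i = i' := Fin.ext (by omega)
    rw [hii]
  have hcount : Nat.card (X ⧸ N) * q < 2 * 2 ^ s := by
    have h1 : Nat.card ((X ⧸ N) × Fin q) < Nat.card O := by
      rw [Nat.card_eq_fintype_card, Nat.card_eq_fintype_card]
      refine Fintype.card_lt_of_injective_of_notMem _ hinj (b := 1) ?_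
      rintro ⟨⟨c, i⟩, hc⟩
      have hc' := congrArg Subtype.val hc
      simp only [OneMemClass.coe_one] at hc'
      rw [conj_eq_one_iff] at hc'
      refine pow_ne_one_of_lt_orderOf (by omega) ?_ hc'
      rw [hs, h2s]; have := i.2; omega
    rw [Nat.card_prod, Nat.card_eq_fintype_card (α := Fin q), Fintype.card_fin] at h1
    omega
  have hidx : (P : Subgroup X).index = 3 := by
    have h1 : ¬ 2 ∣ (P : Subgroup X).index := P.not_dvd_index
    have h2 : (P : Subgroup X).index ≠ 1 := fun e => hg₀ ((hNmem g₀).1 (by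
      rw [hNP, Subgroup.index_eq_one.1 e]; exact Subgroup.mem_top _) w₀ hw₀)
    have h3 : (P : Subgroup X).index < 4 := by
      rw [← hNP, Subgroup.index_eq_card]
      by_contra h
      push Not at h
      have := Nat.mul_le_mul_right q h
      rw [h2s] at hcount
      omega
    omega
  have hXcard : Nat.card X = Nat.card (P : Subgroup X) * 3 := by
    rw [← hidx, Subgroup.card_mul_index]
  obtain ⟨k, hk⟩ : ∃ k, Nat.card (P : Subgroup X) = 2 ^ k := IsPGroup.iff_card.1 P.2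
  have hodd3 : ∀ g : X, Odd (orderOf g) → orderOf g ∣ 3 := fun g hg => by
    have h1 := orderOf_dvd_natCard g
    rw [hXcard, hk] at h1
    exact ((Nat.coprime_two_right.2 hg).pow_right k).dvd_of_dvd_mul_left h1
  haveI : Fact (Nat.Prime 3) := ⟨Nat.prime_three⟩
  obtain ⟨x, hx⟩ := exists_prime_orderOf_dvd_card' (G := X) 3 (hXcard ▸ dvd_mul_left 3 _)
  have hfac : (Nat.card X).factorization 3 = 1 := by
    rw [hXcard, hk, Nat.factorization_mul (by positivity) (by norm_num), Finsupp.add_apply,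
      Nat.prime_two.factorization_pow, Finsupp.single_apply, if_neg (by norm_num),
      Nat.prime_three.factorization_self]
  have hsyl : ∀ g : X, orderOf g = 3 → ∃ Q : Sylow 3 X, (Q : Subgroup X) = Subgroup.zpowers g :=
    fun g hg => exists_sylow_eq (p := 3) (by rw [Nat.card_zpowers, hg, hfac, pow_one])
  obtain ⟨Q, hQ⟩ := hsyl x hx
  have hnc : ¬ Subgroup.normalizer ((Q : Subgroup X) : Set X) ≤
      Subgroup.centralizer ((Q : Subgroup X) : Set X) := by
    intro hle
    have hcompl := MonoidHom.ker_transferSylow_isComplement' Q hle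
    have hc := hcompl.card_mul
    have hQc : Nat.card (Q : Subgroup X) = 3 := by rw [hQ, Nat.card_zpowers, hx]
    rw [hQc, hXcard] at hc
    have hK : Nat.card (MonoidHom.transferSylow Q hle).ker = Nat.card (P : Subgroup X) :=
      Nat.eq_of_mul_eq_mul_right (by norm_num) hc
    have := Subgroup.card_le_of_le (hOmax _ inferInstance (IsPGroup.of_card (hK.trans hk)))
    omega
  obtain ⟨t, htn, htc⟩ := Set.not_subset.1 hnc
  refine ⟨x, t, hx, ?_, fun g hg => ?_⟩
  · rw [hQ] at htn htc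
    obtain ⟨i, hi⟩ := Subgroup.mem_zpowers_iff.1
      ((Subgroup.mem_normalizer_iff.1 htn x).1 (Subgroup.mem_zpowers x))
    have hmod : x ^ (i % 3) = x ^ i := by
      have := zpow_mod_orderOf x i
      rwa [hx] at this
    have h3 : i % 3 = 0 ∨ i % 3 = 1 ∨ i % 3 = 2 := by omega
    rcases h3 with e | e | e <;> rw [e] at hmod <;> rw [← hi, ← hmod]
    · exfalso
      rw [← hmod, zpow_zero] at hi
      rw [conj_eq_one_iff.1 hi.symm, orderOf_one] at hx
      omega
    · exfalso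
      rw [← hmod, zpow_one] at hi
      refine htc (Subgroup.mem_centralizer_iff.2 fun w hw => ?_)
      obtain ⟨j, rfl⟩ := Subgroup.mem_zpowers_iff.1 hw
      have : Commute t x := mul_inv_eq_iff_eq_mul.1 hi.symm
      exact (this.zpow_right j).symm.eq
    · rw [eq_inv_iff_mul_eq_one, zpow_ofNat, ← pow_succ,
          show 2 + 1 = orderOf x by omega, pow_orderOf_eq_one]
  · rcases (Nat.dvd_prime Nat.prime_three).1 (hodd3 g hg) with e | e
    · exact ⟨1, by rw [orderOf_eq_one_iff.1 e]; simp⟩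
    · obtain ⟨R, hR⟩ := hsyl g e
      obtain ⟨k, hk⟩ := MulAction.exists_smul_eq X R Q
      refine ⟨k, ?_⟩
      rw [← hQ, ← hk, Sylow.coe_subgroup_smul]
      have := Subgroup.smul_mem_pointwise_smul g (MulAut.conj k) (R : Subgroup X)
        (hR ▸ Subgroup.mem_zpowers g)
      simpa [MulAut.smul_def] using this

/-- Over a normal subgroup of index three the characters over an invariant character agree up to
a scalar on each coset. -/
theorem exists_coset_ratio {H : Type u} [Group H] [Fintype H] {N : Subgroup H} [N.Normal]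
    (hidx : N.index = 3) {θ : N → ℂ} (hθ : IsIrrCharacter N θ)
    (hinv : ∀ g, conjTwist N θ g = θ) {ψ : H → ℂ} (hψ : IsIrrCharacter H ψ)
    (hc : classInner (fun n : N => ψ n) θ ≠ 0) {ψ' : H → ℂ} (hψ' : IsIrrCharacter H ψ')
    (hc' : classInner (fun n : N => ψ' n) θ ≠ 0) (x : H) :
    ∃ b : ℂ, ∀ h : H, x⁻¹ * h ∈ N → ψ' h = b * ψ h := by
  classical
  haveI := Fintype.ofFinite (H ⧸ N)
  have hq3 : Nat.card (H ⧸ N) = 3 := by rw [← Subgroup.index_eq_card, hidx]
  haveI : Fact (Nat.Prime 3) := ⟨Nat.prime_three⟩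
  haveI hcyc : IsCyclic (H ⧸ N) := isCyclic_of_prime_card hq3
  letI : CommGroup (H ⧸ N) := IsCyclic.commGroup
  haveI : Finite (H ⧸ N →* ℂˣ) := Nat.finite_of_card_ne_zero (by
    rw [card_monoidHom_units, hq3]; norm_num)
  obtain ⟨φ, hφ⟩ : ∃ φ : H ⧸ N →* ℂˣ, φ ≠ 1 := by
    haveI : Nontrivial (H ⧸ N →* ℂˣ) := Finite.one_lt_card_iff_nontrivial.1 (by
      rw [card_monoidHom_units, hq3]; norm_num)
    exact exists_ne 1
  have hφker : ∀ q : H ⧸ N, q ≠ 1 → φ q ≠ 1 := by
    intro q hq e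
    refine hφ (MonoidHom.ext fun r => ?_)
    have htop : r ∈ Subgroup.zpowers q := by
      rw [zpowers_eq_top_of_prime_card hq3 hq]; exact Subgroup.mem_top r
    obtain ⟨i, rfl⟩ := Subgroup.mem_zpowers_iff.1 htop
    rw [map_zpow, e, one_zpow, MonoidHom.one_apply]
  obtain ⟨lam, hlam⟩ : ∃ lam : H →* ℂˣ, lam = φ.comp (QuotientGroup.mk' N) := ⟨_, rfl⟩
  have hlamN : ∀ h ∈ N, lam h = 1 := fun h hh => by
    rw [hlam, MonoidHom.comp_apply, QuotientGroup.mk'_apply, (QuotientGroup.eq_one_iff h).2 hh,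
      map_one]
  have hlam3 : ∀ h, lam h ^ 3 = 1 := fun h => by
    rw [hlam, MonoidHom.comp_apply, ← map_pow, ← hq3, pow_card_eq_one', map_one]
  have hlamne : ∀ h, h ∉ N → lam h ≠ 1 ∧ lam h ^ 2 ≠ 1 := by
    intro h hh
    have h1 : lam h ≠ 1 := by
      rw [hlam, MonoidHom.comp_apply, QuotientGroup.mk'_apply]
      exact hφker _ fun e => hh ((QuotientGroup.eq_one_iff h).1 e)
    refine ⟨h1, fun h2 => h1 ?_⟩
    have := hlam3 h
    rwa [pow_succ, h2, one_mul] at this
  -- multiples of a member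
  have hmul : ∀ i : ℕ, IsIrrCharacter H (ψ * fun h => ((lam ^ i) h : ℂ)) ∧
      classInner (fun n : N => (ψ * fun h => ((lam ^ i) h : ℂ)) n) θ ≠ 0 := by
    intro i
    refine ⟨isIrrCharacter_mul_linear hψ (lam ^ i), ?_⟩
    rw [show (fun n : N => (ψ * fun h => ((lam ^ i) h : ℂ)) n) = fun n : N => ψ n from
      funext fun n => by simp [hlamN n n.2]]
    exact hc
  obtain ⟨e, he⟩ := (hψ.isCharacter.comp N.subtype).exists_nat_classInner hθ.isCharacter
  have hres : ∀ n : N, ψ n = (e : ℂ) * θ n := fun n => by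
    have := congrFun (clifford_invariant N hψ hθ hinv hc) n
    rw [show classInner (fun n : N => ψ n) θ = (e : ℂ) from he] at this
    exact this
  have hnv : ∃ h, h ∉ N ∧ ψ h ≠ 0 := by
    by_contra hno
    push Not at hno
    have h1 := classInner_irr_self hψ
    have h2 : ∑ g : H, ψ g * conj (ψ g) = ∑ n : N, ψ n * conj (ψ n) := by
      rw [← Finset.sum_filter_of_ne (p := fun g : H => g ∈ N) (fun g _ hne => by
        by_contra hg
        exact hne (by rw [hno g hg, zero_mul]))]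
      exact Finset.sum_subtype _ (fun g => by simp) fun g => ψ g * conj (ψ g)
    have h3 : ∑ n : N, ψ n * conj (ψ n) = (e : ℂ) * e * (Nat.card N : ℂ) := by
      have h4 := classInner_irr_self hθ
      rw [classInner, inv_mul_eq_one₀ Char.card_cast_ne_zero] at h4
      rw [h4, Finset.mul_sum]
      refine Finset.sum_congr rfl fun n _ => ?_
      rw [hres, map_mul, map_natCast]
      ring
    rw [classInner, inv_mul_eq_one₀ Char.card_cast_ne_zero, h2, h3,
      ← N.card_mul_index, hidx, Nat.cast_mul, mul_comm (Nat.card N : ℂ)] at h1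
    have h5 := mul_right_cancel₀ Char.card_cast_ne_zero h1
    have h6 : 3 = e * e := by exact_mod_cast h5
    rcases Nat.lt_or_ge e 2 with he2 | he2
    · interval_cases e <;> omega
    · nlinarith
  obtain ⟨h₀, hh₀, hψ₀⟩ := hnv
  obtain ⟨mem, hmem⟩ : ∃ mem : Fin 3 → IrrCharacter H,
      ∀ i, (mem i : H → ℂ) = ψ * fun h => ((lam ^ (i : ℕ)) h : ℂ) :=
    ⟨fun i => ⟨_, (hmul i).1⟩, fun _ => rfl⟩
  have hinj : Function.Injective mem := by
    intro i j hij
    have h1 := congrFun ((hmem i).symm.trans ((congrArg Subtype.val hij).trans (hmem j))) h₀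
    simp only [Pi.mul_apply, MonoidHom.pow_apply, Units.val_pow_eq_pow_val] at h1
    have h2 : lam h₀ ^ (i : ℕ) = lam h₀ ^ (j : ℕ) :=
      Units.ext (by simpa using mul_left_cancel₀ hψ₀ h1)
    have hord : orderOf (lam h₀) = 3 := orderOf_eq_prime (hlam3 h₀) (hlamne h₀ hh₀).1
    exact Fin.ext (pow_injOn_Iio_orderOf (show (i : ℕ) < orderOf (lam h₀) by rw [hord]; exact i.2)
      (show (j : ℕ) < orderOf (lam h₀) by rw [hord]; exact j.2) h2)
  -- at most three characters lie over the invariant character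
  have hind : IsClassFunction H (indFun N θ) := isClassFunction_indFun N θ
  obtain ⟨c, hcn⟩ : ∃ c : IrrCharacter H → ℕ,
      ∀ η : IrrCharacter H, classInner (indFun N θ) (η : H → ℂ) = c η :=
    ⟨fun η => ((isCharacter_indFun N hθ.isCharacter).exists_nat_classInner η.2.isCharacter).choose,
      fun η => ((isCharacter_indFun N hθ.isCharacter).exists_nat_classInner
        η.2.isCharacter).choose_spec⟩
  have hover : ∀ η : IrrCharacter H,
      classInner (fun n : N => (η : H → ℂ) n) θ ≠ 0 → c η ≠ 0 := by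
    intro η hη h0
    have := hcn η
    rw [h0, Nat.cast_zero, classInner_indFun N θ η.2.isClassFunction, ← classInner_conj_symm] at this
    exact hη ((map_eq_zero _).1 this)
  have hsum : ∑ η : IrrCharacter H, c η * c η = 3 := by
    have h1 := classInner_indFun_self (H := N) hθ
    rw [show inertia N θ = ⊤ from eq_top_iff.2 fun g _ => (mem_inertia N).2 (hinv g),
      Subgroup.card_top, ← N.card_mul_index, hidx, Nat.cast_mul] at h1
    have h2 := mul_left_cancel₀ Char.card_cast_ne_zero h1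
    have h3 : classInner (indFun N θ) (indFun N θ) =
        ∑ η : IrrCharacter H, (c η : ℂ) * c η := by
      conv_lhs => arg 1; rw [eq_sum_classInner hind]
      rw [classInner_sum_left]
      refine Finset.sum_congr rfl fun η _ => ?_
      rw [classInner_smul_left, classInner_conj_symm (indFun N θ) (η : H → ℂ) |>.symm, hcn,
        map_natCast]
    rw [h3] at h2
    exact_mod_cast h2
  have hS : (Finset.univ.filter fun η : IrrCharacter H => c η ≠ 0).card ≤ 3 := by
    rw [← hsum, Finset.card_eq_sum_ones]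
    refine le_trans (Finset.sum_le_sum fun η hη => ?_)
      (Finset.sum_le_sum_of_subset (Finset.filter_subset _ _))
    have := (Finset.mem_filter.1 hη).2
    exact Nat.one_le_iff_ne_zero.2 (Nat.mul_ne_zero this this)
  have heq : Finset.univ.image mem = Finset.univ.filter fun η : IrrCharacter H => c η ≠ 0 := by
    refine Finset.eq_of_subset_of_card_le (fun η hη => ?_) ?_
    · obtain ⟨i, -, rfl⟩ := Finset.mem_image.1 hη
      refine Finset.mem_filter.2 ⟨Finset.mem_univ _, hover _ ?_⟩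
      rw [hmem]
      exact (hmul i).2
    · rw [Finset.card_image_of_injective _ hinj, Finset.card_univ, Fintype.card_fin]
      exact hS
  obtain ⟨i, -, hi⟩ := Finset.mem_image.1
    (heq.symm ▸ Finset.mem_filter.2 ⟨Finset.mem_univ _, hover ⟨ψ', hψ'⟩ hc'⟩ :
      (⟨ψ', hψ'⟩ : IrrCharacter H) ∈ Finset.univ.image mem)
  refine ⟨((lam ^ (i : ℕ)) x : ℂ), fun h hh => ?_⟩
  have h1 := congrFun ((congrArg Subtype.val hi).symm.trans (hmem i)) h
  simp only [Pi.mul_apply] at h1
  rw [h1, mul_comm]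
  congr 2
  conv_lhs => rw [show h = x * (x⁻¹ * h) by group]
  rw [map_mul, MonoidHom.pow_apply lam _ (x⁻¹ * h), hlamN _ hh, one_pow, mul_one]

section Rank

variable {G : Type u} [Group G] [Fintype G] [Fact (Nat.Prime 2)]

/-- Two functions control the regular parts. -/
theorem blockRank_le_two_of_functions {B : Set (IrrCharacter G)} (F : Fin 2 → G → ℂ)
    (h : ∀ χ ∈ B, ∀ g : G, IsPRegular 2 g → ∃ a b : ℂ, (χ : G → ℂ) g = a * F 0 g + b * F 1 g)
    (hsing : ∀ i, ∀ g : G, ¬ IsPRegular 2 g → F i g = 0)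
    (huniform : ∀ χ ∈ B, ∃ a b : ℂ, ∀ g : G, IsPRegular 2 g →
      (χ : G → ℂ) g = a * F 0 g + b * F 1 g) :
    blockRank 2 B ≤ 2 := by
  have hle : Submodule.span ℂ ((fun χ : IrrCharacter G => pRegularPart 2 (χ : G → ℂ)) '' B) ≤
      Submodule.span ℂ (Set.range F) := by
    rw [Submodule.span_le]
    rintro _ ⟨χ, hχ, rfl⟩
    obtain ⟨a, b, hab⟩ := huniform χ hχ
    rw [SetLike.mem_coe, Submodule.mem_span_range_iff_exists_fun]
    refine ⟨![a, b], funext fun g => ?_⟩
    simp only [Fin.sum_univ_two, Matrix.cons_val_zero, Matrix.cons_val_one, Pi.add_apply,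
      Pi.smul_apply, smul_eq_mul]
    by_cases hg : IsPRegular 2 g
    · rw [pRegularPart_of_reg hg, hab g hg]
    · rw [pRegularPart_of_sing hg, hsing 0 g hg, hsing 1 g hg, mul_zero, mul_zero, add_zero]
  refine (Submodule.finrank_mono hle).trans ?_
  exact (finrank_range_le_card F).trans (by simp)

/-- Induction does not raise the rank. -/
theorem blockRank_le_of_induced {T : Subgroup G} {B : Set (IrrCharacter G)}
    {B' : Set (IrrCharacter T)}
    (h : ∀ χ ∈ B, ∃ ψ ∈ B', (χ : G → ℂ) = indFun T (ψ : T → ℂ)) :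
    blockRank 2 B ≤ blockRank 2 B' := by
  classical
  obtain ⟨L, hL⟩ : ∃ L : (T → ℂ) →ₗ[ℂ] (G → ℂ), ∀ f, L f = indFun T f :=
    ⟨{ toFun := indFun T, map_add' := indFun_add T, map_smul' := indFun_smul T }, fun _ => rfl⟩
  refine le_trans (Submodule.finrank_mono ?_)
    (Submodule.finrank_map_le L
      (Submodule.span ℂ ((fun ψ : IrrCharacter T => pRegularPart 2 (ψ : T → ℂ)) '' B')))
  rw [Submodule.span_le]
  rintro _ ⟨χ, hχ, rfl⟩
  obtain ⟨ψ, hψ, he⟩ := h χ hχ
  refine ⟨_, Submodule.subset_span ⟨ψ, hψ, rfl⟩, ?_⟩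
  rw [hL]
  funext g
  dsimp only
  by_cases hg : IsPRegular 2 g
  · rw [pRegularPart_of_reg hg, he]
    simp only [indFun]
    congr 1
    refine Finset.sum_congr rfl fun y _ => ?_
    by_cases hy : y⁻¹ * g * y ∈ T
    · rw [extendByZero_of_mem _ _ hy, extendByZero_of_mem _ _ hy, pRegularPart_of_reg]
      rw [IsPRegular, Subgroup.orderOf_mk,
        show y⁻¹ * g * y = MulAut.conj y⁻¹ g by simp, MulEquiv.orderOf_eq]
      exact hg
    · rw [extendByZero_of_notMem _ _ hy, extendByZero_of_notMem _ _ hy]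
  · rw [pRegularPart_of_sing hg]
    simp only [indFun]
    rw [Finset.sum_eq_zero fun y _ => ?_, mul_zero]
    by_cases hy : y⁻¹ * g * y ∈ T
    · rw [extendByZero_of_mem _ _ hy, pRegularPart_of_sing]
      rw [IsPRegular, Subgroup.orderOf_mk,
        show y⁻¹ * g * y = MulAut.conj y⁻¹ g by simp, MulEquiv.orderOf_eq]
      exact hg
    · rw [extendByZero_of_notMem _ _ hy]

/-- The rank over a stable character of the odd core. -/
theorem blockRank_stable_le_two {N : Subgroup G} [N.Normal] {θ : IrrCharacter N}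
    (hθ : ∀ g : G, twistIrr N g θ = θ) {B : Set (IrrCharacter G)}
    (hmem : ∀ χ ∈ B, classInner (fun n : N => (χ : G → ℂ) n) (θ : N → ℂ) ≠ 0)
    (hne : B.Nonempty)
    (hX : (∀ q : G ⧸ N, Odd (orderOf q) → q = 1) ∨ ∃ x t : G ⧸ N, orderOf x = 3 ∧
      t * x * t⁻¹ = x⁻¹ ∧
      ∀ q : G ⧸ N, Odd (orderOf q) → ∃ k, k * q * k⁻¹ ∈ Subgroup.zpowers x) :
    blockRank 2 B ≤ 2 := by
  classical
  have hinv : ∀ g : G, conjTwist N (θ : N → ℂ) g = θ := fun g => by rw [← coe_twistIrr, hθ]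
  have hodd : ∀ g : G, IsPRegular 2 g → Odd (orderOf (g : G ⧸ N)) := fun g hg => by
    rw [Nat.odd_iff]
    have h1 : orderOf (g : G ⧸ N) ∣ orderOf g := orderOf_map_dvd (QuotientGroup.mk' N) g
    have h2 : ¬ 2 ∣ orderOf (g : G ⧸ N) := fun h => hg (h.trans h1)
    omega
  obtain ⟨χ₀, hχ₀⟩ := hne
  rcases hX with hone | ⟨x, t, hx, ht, hconj⟩
  · have hgN : ∀ g : G, IsPRegular 2 g → g ∈ N := fun g hg =>
      (QuotientGroup.eq_one_iff g).1 (hone _ (hodd g hg))
    obtain ⟨F, hF⟩ : ∃ F : Fin 2 → G → ℂ, F = fun i g =>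
        if h : IsPRegular 2 g then (if i = 0 then (θ : N → ℂ) ⟨g, hgN g h⟩ else 0) else 0 :=
      ⟨_, rfl⟩
    have key : ∀ χ ∈ B, ∃ a b : ℂ, ∀ g : G, IsPRegular 2 g →
        (χ : G → ℂ) g = a * F 0 g + b * F 1 g := by
      intro χ hχ
      refine ⟨classInner (fun n : N => (χ : G → ℂ) n) (θ : N → ℂ), 0, fun g hg => ?_⟩
      rw [hF]
      simp only [dif_pos hg, if_pos, zero_mul, add_zero]
      exact congrFun (clifford_invariant N χ.2 θ.2 hinv (hmem χ hχ)) ⟨g, hgN g hg⟩
    exact blockRank_le_two_of_functions F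
      (fun χ hχ g hg => by obtain ⟨a, b, h⟩ := key χ hχ; exact ⟨a, b, h g hg⟩)
      (fun i g hg => by rw [hF]; simp [hg]) key
  obtain ⟨t₀, rfl⟩ := QuotientGroup.mk'_surjective N t
  have hrep : ∀ g : G, IsPRegular 2 g → ∃ k : G,
      ((k * g * k⁻¹ : G) : G ⧸ N) = 1 ∨ ((k * g * k⁻¹ : G) : G ⧸ N) = x := by
    intro g hg
    obtain ⟨k', hk'⟩ := hconj _ (hodd g hg)
    obtain ⟨k, rfl⟩ := QuotientGroup.mk'_surjective N k'
    obtain ⟨i, hi⟩ := Subgroup.mem_zpowers_iff.1 hk'
    have hmod : x ^ (i % 3) = x ^ i := by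
      have := zpow_mod_orderOf x i
      rwa [hx] at this
    have h3 : i % 3 = 0 ∨ i % 3 = 1 ∨ i % 3 = 2 := by omega
    rcases h3 with e | e | e <;> rw [e] at hmod <;> rw [← hmod] at hi
    · exact ⟨k, Or.inl (by rw [zpow_zero] at hi; rw [hi]; rfl)⟩
    · exact ⟨k, Or.inr (by rw [zpow_one] at hi; rw [hi]; rfl)⟩
    · refine ⟨t₀ * k, Or.inr ?_⟩
      have h2 : x ^ (2 : ℤ) = x⁻¹ := by
        rw [eq_inv_iff_mul_eq_one, zpow_ofNat, ← pow_succ,
          show 2 + 1 = orderOf x by omega, pow_orderOf_eq_one]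
      rw [h2] at hi
      simp only [QuotientGroup.mk'_apply] at ht hi
      rw [show t₀ * k * g * (t₀ * k)⁻¹ = t₀ * (k * g * k⁻¹) * t₀⁻¹ by group, QuotientGroup.mk_mul,
        QuotientGroup.mk_mul, QuotientGroup.mk_mul, QuotientGroup.mk_mul, QuotientGroup.mk_inv,
        QuotientGroup.mk_inv, ← hi, ← conj_inv, ht, inv_inv]
  choose! k hk using hrep
  obtain ⟨H, hH⟩ : ∃ H : Subgroup G, H = (Subgroup.zpowers x).comap (QuotientGroup.mk' N) :=
    ⟨_, rfl⟩
  have hNH : N ≤ H := fun n hn => by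
    rw [hH, Subgroup.mem_comap, QuotientGroup.mk'_apply, (QuotientGroup.eq_one_iff n).2 hn]
    exact one_mem _
  haveI : (N.subgroupOf H).Normal := Subgroup.Normal.subgroupOf inferInstance H
  have hidx : (N.subgroupOf H).index = 3 := by
    have h1 : (N.subgroupOf H).index * H.index = N.index := Subgroup.relIndex_mul_index hNH
    have h2 : H.index = (Subgroup.zpowers x).index := by
      rw [hH]
      exact Subgroup.index_comap_of_surjective _ (QuotientGroup.mk'_surjective N)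
    have h3 : 3 * (Subgroup.zpowers x).index = N.index := by
      rw [Subgroup.index_eq_card N, ← hx, ← Nat.card_zpowers x, Subgroup.card_mul_index]
    rw [h2, ← h3] at h1
    exact Nat.eq_of_mul_eq_mul_right
      (Nat.pos_of_ne_zero Subgroup.index_ne_zero_of_finite) h1
  obtain ⟨θ', hθ'⟩ : ∃ θ', θ' = resTo N (θ : N → ℂ) H := ⟨_, rfl⟩
  have hθ'irr : IsIrrCharacter (N.subgroupOf H) θ' := hθ' ▸ isIrrCharacter_resTo N θ.2 hNH
  have hθ'inv : ∀ g : H, conjTwist (N.subgroupOf H) θ' g = θ' := fun g => by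
    subst hθ'
    funext n
    exact (mem_inertia_iff N).1 ((mem_inertia N).2 (hinv (g : G)))
      ⟨((n : H) : G), Subgroup.mem_subgroupOf.1 n.2⟩
  have hover : ∀ χ ∈ B, ∀ η : IrrCharacter H,
      classInner (fun h : H => (χ : G → ℂ) h) (η : H → ℂ) ≠ 0 →
        classInner (fun n : N.subgroupOf H => (η : H → ℂ) n) θ' ≠ 0 := by
    intro χ hχ η hη
    obtain ⟨ρ, hρ⟩ := exists_irr_constituent_res (N.subgroupOf H) η.2
    have hle := classInner_res_le_of_constituent (N.subgroupOf H)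
      (χ.2.isCharacter.comp H.subtype) η.2 hη ρ.2.isCharacter
    have hres : (fun n : N.subgroupOf H => (χ : G → ℂ) ((n : H) : G)) =
        classInner (fun n : N => (χ : G → ℂ) n) (θ : N → ℂ) • θ' := by
      funext n
      rw [hθ']
      exact congrFun (clifford_invariant N χ.2 θ.2 hinv (hmem χ hχ))
        ⟨((n : H) : G), Subgroup.mem_subgroupOf.1 n.2⟩
    by_cases hρθ : (ρ : N.subgroupOf H → ℂ) = θ'
    · rw [← hρθ]; exact hρ
    · exfalso
      obtain ⟨m, hm⟩ := (η.2.isCharacter.comp (N.subgroupOf H).subtype).exists_nat_classInner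
        ρ.2.isCharacter
      have hm' : classInner (fun n : N.subgroupOf H => (η : H → ℂ) n) (ρ : N.subgroupOf H → ℂ) =
          (m : ℂ) := hm
      change _ ≤ (classInner (fun n : N.subgroupOf H => (χ : G → ℂ) ((n : H) : G))
        (ρ : N.subgroupOf H → ℂ)).re at hle
      rw [hres, classInner_smul_left, classInner_irr_ne hθ'irr ρ.2 (Ne.symm hρθ), mul_zero,
        Complex.zero_re, hm', Complex.natCast_re] at hle
      exact hρ (by rw [hm', show m = 0 by exact_mod_cast le_antisymm hle (Nat.cast_nonneg m),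
        Nat.cast_zero])
  obtain ⟨ψ₀, hψ₀⟩ := exists_constituent (χ₀.2.isCharacter.comp H.subtype)
    (show (χ₀ : G → ℂ) ((1 : H) : G) ≠ 0 from χ₀.2.apply_one_ne_zero)
  obtain ⟨xr, hxr⟩ := QuotientGroup.mk'_surjective N x
  have hxrH : xr ∈ H := by
    rw [hH, Subgroup.mem_comap, hxr]
    exact Subgroup.mem_zpowers x
  have hinH : ∀ g : G, (g : G ⧸ N) = x → g ∈ H := fun g hg => by
    rw [hH, Subgroup.mem_comap, QuotientGroup.mk'_apply, hg]
    exact Subgroup.mem_zpowers x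
  have hcoset : ∀ χ ∈ B, ∃ b : ℂ, ∀ (g : G) (hg : (g : G ⧸ N) = x),
      (χ : G → ℂ) g = b * (ψ₀ : H → ℂ) ⟨g, hinH g hg⟩ := by
    intro χ hχ
    have hex : ∀ η : IrrCharacter H, ∃ b : ℂ,
        ∀ h : H, (⟨xr, hxrH⟩ : H)⁻¹ * h ∈ N.subgroupOf H →
        classInner (fun h : H => (χ : G → ℂ) h) (η : H → ℂ) * (η : H → ℂ) h =
          b * (ψ₀ : H → ℂ) h := by
      intro η
      by_cases hη : classInner (fun h : H => (χ : G → ℂ) h) (η : H → ℂ) = 0
      · exact ⟨0, fun h _ => by rw [hη, zero_mul, zero_mul]⟩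
      · obtain ⟨b, hb⟩ := exists_coset_ratio hidx hθ'irr hθ'inv ψ₀.2 (hover χ₀ hχ₀ ψ₀ hψ₀) η.2
          (hover χ hχ η hη) ⟨xr, hxrH⟩
        exact ⟨classInner (fun h : H => (χ : G → ℂ) h) (η : H → ℂ) * b, fun h hh => by
          rw [hb h hh, mul_assoc]⟩
    choose b hb using hex
    refine ⟨∑ η, b η, fun g hg => ?_⟩
    have e := congrFun (eq_sum_classInner (f := fun h : H => (χ : G → ℂ) h)
      (χ.2.isCharacter.comp H.subtype).isClassFunction) ⟨g, hinH g hg⟩
    simp only [Finset.sum_apply, Pi.smul_apply, smul_eq_mul] at e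
    rw [e, Finset.sum_mul]
    refine Finset.sum_congr rfl fun η _ => hb η _ ?_
    rw [Subgroup.mem_subgroupOf]
    show xr⁻¹ * g ∈ N
    rw [← QuotientGroup.eq_one_iff, QuotientGroup.mk_mul, QuotientGroup.mk_inv, hg, ← hxr,
      QuotientGroup.mk'_apply, inv_mul_cancel]
  obtain ⟨F, hF⟩ : ∃ F : Fin 2 → G → ℂ, F = fun i g =>
      if hg : IsPRegular 2 g then
        (if h1 : k g * g * (k g)⁻¹ ∈ N then (if i = 0 then (θ : N → ℂ) ⟨_, h1⟩ else 0)
        else (if i = 0 then 0 else (ψ₀ : H → ℂ) ⟨k g * g * (k g)⁻¹, hinH _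
          ((hk g hg).resolve_left fun e => h1 ((QuotientGroup.eq_one_iff _).1 e))⟩))
      else 0 := ⟨_, rfl⟩
  have key : ∀ χ ∈ B, ∃ a b : ℂ, ∀ g : G, IsPRegular 2 g →
      (χ : G → ℂ) g = a * F 0 g + b * F 1 g := by
    intro χ hχ
    obtain ⟨b, hb⟩ := hcoset χ hχ
    refine ⟨classInner (fun n : N => (χ : G → ℂ) n) (θ : N → ℂ), b, fun g hg => ?_⟩
    rw [← χ.2.isClassFunction g (k g), hF]
    by_cases h1 : k g * g * (k g)⁻¹ ∈ N
    · simp only [dif_pos hg, dif_pos h1, if_pos, if_neg (one_ne_zero : (1 : Fin 2) ≠ 0),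
        mul_zero, add_zero]
      exact congrFun (clifford_invariant N χ.2 θ.2 hinv (hmem χ hχ)) ⟨_, h1⟩
    · simp only [dif_pos hg, dif_neg h1, if_pos, if_neg (one_ne_zero : (1 : Fin 2) ≠ 0),
        mul_zero, zero_add]
      exact hb _ ((hk g hg).resolve_left fun e => h1 ((QuotientGroup.eq_one_iff _).1 e))
  exact blockRank_le_two_of_functions F
    (fun χ hχ g hg => by obtain ⟨a, b, h⟩ := key χ hχ; exact ⟨a, b, h g hg⟩)
    (fun i g hg => by rw [hF]; simp [hg]) key

end Rank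

/-- In a two-solvable group such a block has rank at most two. -/
theorem blockRank_solvable_le_two {M : Ideal AlgInt} (hM : IsPModular 2 M) :
    ∀ (n : ℕ) {G : Type u} [Group G] [Fintype G], Nat.card G = n → Cfsg.IsPSolvable 2 G →
      ∀ (B : Set (IrrCharacter G)), IsPBlock M B → ∀ P : Subgroup G, IsDefectGroup 2 M B P →
        IsTameShape P → blockRank 2 B ≤ 2 := by
  classical
  haveI : Fact (Nat.Prime 2) := ⟨Nat.prime_two⟩
  intro n
  induction n using Nat.strong_induction_on with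
  | _ n ih =>
  intro G _ _ hn hsolv B hB P hP hshape
  obtain ⟨χ, hχ⟩ := nonempty_of_isPBlock hM hB
  set N := Cfsg.pPrimeCore 2 G with hN
  have hNp : ¬ 2 ∣ Nat.card N := Cfsg.Lib.Core.pPrimeCore_not_dvd 2 G
  obtain ⟨θ, hc⟩ := Char.exists_irr_constituent_res N χ.2
  have hb : IsPBlock M ({θ} : Set (IrrCharacter N)) := by
    rw [← blockOf_eq_singleton_of_full hM θ
      (by rw [Nat.factorization_eq_zero_of_not_dvd hNp]; omega)]
    exact isPBlock_blockOf θ
  obtain ⟨T, hNT, hT⟩ := exists_blockStab (G := G) hM hb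
  by_cases htop : T = ⊤
  · have hθ : ∀ g : G, twistIrr N g θ = θ := fun g =>
      hT.twist_mem (htop ▸ Subgroup.mem_top g) (Set.mem_singleton θ)
    have hO := Cfsg.Lib.Core.pCore_isPGroup 2 (G ⧸ N)
    have hOc := Cfsg.Lib.Sig.isPConstrained_iff.1
      (Cfsg.Lib.Sig.isPConstrained_of_isPSolvable hsolv)
    obtain ⟨hB', ⟨-, hsyl⟩, -⟩ := stable_block hM hNp hθ hO hOc
      (B := {χ | classInner (fun m : N => (χ : G → ℂ) m) (θ : N → ℂ) ≠ 0}) fun χ => Iff.rfl
    obtain rfl := isPBlock_eq_of_mem hM hB hB' hχ hc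
    obtain ⟨S, rfl⟩ := hsyl P hP
    haveI := Fintype.ofFinite (G ⧸ N)
    obtain ⟨S', hS'⟩ : ∃ S' : Sylow 2 (G ⧸ N),
        (S' : Subgroup (G ⧸ N)) = (S : Subgroup G).map (QuotientGroup.mk' N) :=
      ⟨S.mapSurjective (QuotientGroup.mk'_surjective N), rfl⟩
    have hinjS : Function.Injective
        ((QuotientGroup.mk' N).subgroupMap (S : Subgroup G)) := by
      intro a b hab
      have h1 : ((a : G) : G ⧸ N) = (b : G) := congrArg Subtype.val hab
      rw [QuotientGroup.eq] at h1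
      obtain ⟨j, hj⟩ := IsPGroup.iff_orderOf.1 S.2 (a⁻¹ * b)
      refine inv_mul_eq_one.1 (orderOf_eq_one_iff.1 ?_)
      have h2 : orderOf (a⁻¹ * b) ∣ Nat.card N := by
        have h3 := orderOf_dvd_natCard (⟨((a⁻¹ * b : (S : Subgroup G)) : G), by
          simpa using h1⟩ : N)
        rwa [Subgroup.orderOf_mk, orderOf_submonoid] at h3
      rw [hj] at h2 ⊢
      rcases j with _ | j
      · rfl
      · exact absurd (dvd_trans (dvd_pow_self 2 (Nat.succ_ne_zero j)) h2) hNp
    have hshape' : IsTameShape (S' : Subgroup (G ⧸ N)) := by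
      rw [hS']
      exact isTameShape_congr (MulEquiv.ofBijective _
        ⟨hinjS, MonoidHom.subgroupMap_surjective _ _⟩) hshape
    exact blockRank_stable_le_two hθ (fun η hη => hη) ⟨χ, hχ⟩
      (exists_odd_structure hO hOc (fun K hK hKp => Cfsg.Lib.Core.le_pCore' hK hKp) S' hshape')
  · have hlt : Nat.card T < n := by
      rw [← hn]
      refine lt_of_le_of_ne (Subgroup.card_le_card_group T) fun h => htop ?_
      exact Subgroup.eq_top_of_card_eq T h
    obtain ⟨B', hB', hcov, hind⟩ := hT.exists_corr hNT hM hb hB ⟨χ, hχ, θ, rfl, hc⟩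
    obtain ⟨D', hD'⟩ := exists_defectGroup hM hB'
    obtain ⟨x, hx⟩ := exists_conj_defectGroup hM hB (hT.defectGroup hNT hM hb hB' hcov hind hD') hP
    obtain ⟨B₁, hi, -, -, hmem⟩ := hT.exists_induced hNT hM hb hB' hcov
    obtain rfl := isInducedBlock_unique hM hi hind
    subst hx
    have hshape' : IsTameShape D' := isTameShape_congr
      ((D'.equivMapOfInjective T.subtype T.subtype_injective).trans
        ((D'.map T.subtype).equivMapOfInjective (MulAut.conj x).toMonoidHom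
          (MulAut.conj x).injective)).symm hshape
    exact (blockRank_le_of_induced fun η hη => (hmem η).1 hη).trans
      (ih _ hlt rfl (Cfsg.Lib.Core.isPSolvable_subgroup hsolv T) B' hB' D' hD' hshape')

end Cfsg.Lib.Block
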