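import Cfsg.Agent.Lib.Block.DecompositionFull
import Cfsg.Agent.Lib.Block.BlockSimpleDegree

/-!
# Blocks whose characters have one degree

If all members of a block have the same degree, the degree divides the dimensions of the simple
modules, so every member stays irreducible modulo `p`; as the block is indecomposable it has one
simple module, and then as many members as its defect group has elements.
-/

set_option autoImplicit false
set_option linter.unusedSectionVars false
set_option maxHeartbeats 1000000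

namespace Cfsg.Lib.Block

open Cfsg
open scoped ComplexConjugate

universe u

variable {p : ℕ} [Fact p.Prime] {M : Ideal AlgInt} {A : Type u} [Group A] [Fintype A]
  (hM : IsPModular p M) {B : Set (IrrCharacter A)}

include hM in
/-- A block with a single degree has one simple module and `p ^ d` members. -/
theorem exists_regBlock_of_equal_degree (hB : IsPBlock M B) {n : ℕ}
    (hn : ∀ χ ∈ B, charDegree (χ : A → ℂ) = n) :
    ∃ ψ₀ : IrrCharacter A, RegBlock p M B (p ^ blockDefect p B) ψ₀ := by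
  classical
  obtain ⟨ψ₀, hψ₀, hmin⟩ := exists_minVal (p := p) (nonempty_of_isPBlock hM hB)
  have hh : ∀ χ ∈ B, blockHeight p B (χ : A → ℂ) = 0 := fun χ hχ => by
    rw [blockHeight_eq_zero_iff hχ, hn χ hχ, ← hn ψ₀ hψ₀, hmin]
  have hn0 : 0 < n := hn ψ₀ hψ₀ ▸ charDegree_pos ψ₀
  obtain ⟨ι, _, m, d, hm0, hdeg, hvan, hreg, -, hc⟩ := exists_decomposition_full hM hB
  have hge : ∀ i, n ≤ m i := fun i => by
    obtain ⟨c, hc⟩ := hc i
    refine Nat.le_of_dvd (hm0 i) (Int.natCast_dvd_natCast.1 ?_)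
    rw [hc]
    exact Finset.dvd_sum fun χ hχ => by rw [hn χ (Set.mem_toFinset.1 hχ)]; exact dvd_mul_left _ _
  -- each member has one column with entry one
  have hcol : ∀ χ ∈ B, ∃ i, d i χ = 1 ∧ ∀ j, j ≠ i → d j χ = 0 := by
    intro χ hχ
    have hsum : ∑ i, d i χ ≤ 1 := by
      refine Nat.le_of_mul_le_mul_left ?_ hn0
      rw [mul_one, Finset.mul_sum]
      conv_rhs => rw [← hn χ hχ, hdeg χ hχ]
      exact Finset.sum_le_sum fun i _ => Nat.mul_le_mul_right _ (hge i)
    have hpos : ∃ i, d i χ ≠ 0 := by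
      by_contra h
      push Not at h
      have := hdeg χ hχ
      rw [hn χ hχ, Finset.sum_eq_zero fun i _ => by rw [h i, mul_zero]] at this
      omega
    obtain ⟨i, hi⟩ := hpos
    refine ⟨i, ?_, fun j hj => ?_⟩
    · have := Finset.single_le_sum (f := fun i => d i χ) (fun _ _ => Nat.zero_le _)
        (Finset.mem_univ i)
      omega
    · have h2 : d i χ + d j χ ≤ ∑ k, d k χ := by
        rw [← Finset.sum_pair (f := fun k => d k χ) hj.symm]
        exact Finset.sum_le_sum_of_subset (Finset.subset_univ _)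
      omega
  choose J hJ1 hJ0 using hcol
  -- the regular inner products
  set i₀ := J ψ₀ hψ₀ with hi₀
  set N : ℕ := ∑ χ ∈ B.toFinset, d i₀ χ with hN
  have hkey : ∀ η ∈ B,
      (N : ℂ) * regInner p (ψ₀ : A → ℂ) (η : A → ℂ) = (d i₀ η : ℂ) := by
    intro η hη
    set Φ : A → ℂ := ∑ χ ∈ B.toFinset, (d i₀ χ : ℂ) • (χ : A → ℂ) with hΦ
    have hpart : pRegularPart p Φ = Φ := by
      funext x
      by_cases hx : IsPRegular p x
      · rw [pRegularPart_of_reg hx]
      · rw [pRegularPart_of_sing hx]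
        have h := hvan i₀ x (not_not.1 hx)
        simp only [hΦ, Finset.sum_apply, Pi.smul_apply, smul_eq_mul]
        rw [← h]
        exact Finset.sum_congr rfl fun χ _ => mul_comm _ _
    have h1 : classInner Φ (η : A → ℂ) = (d i₀ η : ℂ) := by
      rw [hΦ, Char.classInner_sum_left, Finset.sum_eq_single η]
      · rw [Char.classInner_smul_left, Char.classInner_irr_self η.2, mul_one]
      · intro χ _ hne
        rw [Char.classInner_smul_left,
          Char.classInner_irr_ne χ.2 η.2 fun h => hne (Subtype.ext h), mul_zero]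
      · exact fun h => absurd (Set.mem_toFinset.2 hη) h
    rw [← h1, ← hpart]
    have h2 : pRegularPart p Φ = ∑ χ ∈ B.toFinset, (d i₀ χ : ℂ) • pRegularPart p (ψ₀ : A → ℂ) := by
      funext x
      by_cases hx : IsPRegular p x
      · simp only [pRegularPart_of_reg hx, hΦ, Finset.sum_apply, Pi.smul_apply, smul_eq_mul]
        refine Finset.sum_congr rfl fun χ hχ => ?_
        have hχ' := Set.mem_toFinset.1 hχ
        by_cases hd : d i₀ χ = 0
        · simp [hd]
        have hJ : J χ hχ' = i₀ := by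
          by_contra h
          exact hd (hJ0 χ hχ' i₀ (Ne.symm h))
        congr 1
        refine hreg χ hχ' ψ₀ hψ₀ (fun j => ?_) x hx
        by_cases hj : j = i₀
        · rw [hj, hi₀, hJ1 ψ₀ hψ₀, ← hi₀, ← hJ, hJ1 χ hχ']
        · rw [hJ0 χ hχ' j (hJ ▸ hj), hJ0 ψ₀ hψ₀ j hj]
      · simp [pRegularPart_of_sing hx]
    rw [h2, ← Finset.sum_smul, ← Nat.cast_sum, ← hN, Char.classInner_smul_left]
    rfl
  have hdN : ∀ η ∈ B, d i₀ η = 1 := by
    intro η hη
    obtain ⟨z, hz, -, hz0⟩ := exists_int_regN hM hB hψ₀ hη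
    rw [hh η hη, pow_zero, Nat.cast_one, mul_one] at hz
    have hz' : ¬ (p : ℤ) ∣ z := hz0 (hh ψ₀ hψ₀)
    by_contra hne
    have hd0 : d i₀ η = 0 := hJ0 η hη i₀ fun h => hne (h ▸ hJ1 η hη)
    have h := hkey η hη
    rw [hd0, Nat.cast_zero, mul_eq_zero, Nat.cast_eq_zero] at h
    rcases h with h | h
    · have := (Finset.sum_eq_zero_iff.1 h) ψ₀ (Set.mem_toFinset.2 hψ₀)
      rw [hi₀, hJ1 ψ₀ hψ₀] at this
      exact one_ne_zero this
    · rw [regN, h, mul_zero] at hz
      exact hz' ((Int.cast_eq_zero.1 hz.symm).symm ▸ dvd_zero _)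
  have hNcard : N = Nat.card B := by
    rw [hN, Finset.sum_congr rfl fun χ hχ => hdN χ (Set.mem_toFinset.1 hχ), Finset.sum_const,
      smul_eq_mul, mul_one, Set.toFinset_card, Nat.card_eq_fintype_card]
  have hregeq : ∀ χ ∈ B, ∀ y : A, IsPRegular p y → (χ : A → ℂ) y = (ψ₀ : A → ℂ) y := by
    intro χ hχ y hy
    have hJ : J χ hχ = i₀ := by
      by_contra h
      have h2 := hdN χ hχ
      rw [hJ0 χ hχ i₀ (Ne.symm h)] at h2
      exact zero_ne_one h2
    refine hreg χ hχ ψ₀ hψ₀ (fun j => ?_) y hy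
    by_cases hj : j = i₀
    · rw [hj, hdN χ hχ, hdN ψ₀ hψ₀]
    · rw [hJ0 χ hχ j (hJ ▸ hj), hJ0 ψ₀ hψ₀ j hj]
  have hinner : (Nat.card B : ℂ) * regInner p (ψ₀ : A → ℂ) (ψ₀ : A → ℂ) = 1 := by
    rw [← hNcard, hkey ψ₀ hψ₀, hdN ψ₀ hψ₀, Nat.cast_one]
  have hcard : Nat.card B = p ^ blockDefect p B := by
    obtain ⟨z, hz, -, hz0⟩ := exists_int_regN hM hB hψ₀ hψ₀
    rw [hh ψ₀ hψ₀, pow_zero, Nat.cast_one, mul_one] at hz
    have h1 : ((p ^ blockDefect p B : ℕ) : ℂ) = (Nat.card B : ℂ) * (z : ℂ) := by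
      rw [← hz, regN, mul_left_comm, hinner, mul_one]
    have h2 : ((p ^ blockDefect p B : ℕ) : ℤ) = (Nat.card B : ℤ) * z := by exact_mod_cast h1
    have h3 : z.natAbs ∣ p ^ blockDefect p B := by
      have := congrArg Int.natAbs h2
      rw [Int.natAbs_natCast, Int.natAbs_mul, Int.natAbs_natCast] at this
      exact Dvd.intro_left _ this.symm
    obtain ⟨j, -, hj⟩ := (Nat.dvd_prime_pow (Fact.out : p.Prime)).1 h3
    have hj0 : j = 0 := by
      by_contra hne
      refine hz0 (hh ψ₀ hψ₀) (Int.natCast_dvd.2 ?_)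
      rw [hj]
      exact dvd_pow_self p hne
    have := congrArg Int.natAbs h2
    rw [Int.natAbs_natCast, Int.natAbs_mul, Int.natAbs_natCast, hj, hj0, pow_zero, mul_one] at this
    exact this.symm
  refine ⟨ψ₀, hB, ?_, hcard, hψ₀, hregeq, by rw [← hcard]; exact hinner⟩
  rw [blockRank]
  refine (Submodule.finrank_mono (t := Submodule.span ℂ {pRegularPart p (ψ₀ : A → ℂ)})
    (Submodule.span_le.2 ?_)).trans ((finrank_span_le_card _).trans (by simp))
  rintro _ ⟨χ, hχ, rfl⟩
  refine Submodule.mem_span_singleton.2 ⟨1, ?_⟩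
  funext y
  by_cases hy : IsPRegular p y
  · simp [pRegularPart_of_reg hy, hregeq χ hχ y hy]
  · simp [pRegularPart_of_sing hy]

end Cfsg.Lib.Block
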