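import Cfsg.Agent.Lib.Block.StarBase
import Cfsg.Agent.Lib.Block.AbelianSections

/-!
# Twisted values at local idempotents

The value of a character at a lift of a local idempotent, and the weighted sums of these values
over the pairs at a `p`-element, from which the star construction is assembled.
-/

set_option autoImplicit false
set_option linter.unusedSectionVars false
set_option maxHeartbeats 800000

namespace Cfsg.Lib.Block

open Cfsg
open scoped MonoidAlgebra

universe u

variable {p : ℕ} {M : Ideal AlgInt} (hM : IsPModular p M) {G : Type u} [Group G] [Fintype G]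
  [Fact p.Prime]

noncomputable local instance (priority := high) fintypeSubgroupStarTau {A : Type u} [Group A]
    [Fintype A] (H : Subgroup A) : Fintype H := Fintype.ofFinite H

local notation "C[" Q "]" => Subgroup.centralizer (SetLike.coe Q)

/-- The block idempotent of a centralizer over the local ring. -/
noncomputable def blkO (Q : Subgroup G) (b : Set (IrrCharacter C[Q])) : OGA hM G :=
  vO hM C[Q] (indVec b)

theorem red_blkO {Q : Subgroup G} {b : Set (IrrCharacter C[Q])} (hb : IsPBlock M b) :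
    red hM (blkO hM Q b) = blkK hM Q b := red_vO hM (vInt_indVec hM hb)

theorem blkO_idem {Q : Subgroup G} {b : Set (IrrCharacter C[Q])} (hb : IsPBlock M b) :
    IsIdempotentElem (blkO hM Q b) := by
  show _ * _ = _
  rw [blkO, ← vO_mul hM (vInt_indVec hM hb) (vInt_indVec hM hb), indVec_mul_indVec, Set.inter_self]

theorem blkO_mem_invAlg {Q S : Subgroup G} {b : Set (IrrCharacter C[Q])} (hb : IsPBlock M b)
    (hS : S ≤ C[Q]) : blkO hM Q b ∈ invAlg (locRing hM) S :=
  vO_mem_invAlg hM (vInt_indVec hM hb) (invOn_mono hS (invOn_self _))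

theorem blkK_mul_of_ne {Q : Subgroup G} {b b' : Set (IrrCharacter C[Q])} (hb : IsPBlock M b)
    (hb' : IsPBlock M b') (hne : b ≠ b') : blkK hM Q b * blkK hM Q b' = 0 := by
  have h0 : b ∩ b' = ∅ := by
    ext η
    simp only [Set.mem_inter_iff, Set.mem_empty_iff_false, iff_false, not_and]
    exact fun h h' => hne (isPBlock_eq_of_mem hM hb hb' h h')
  rw [blkK, blkK, ← vK_mul hM (vInt_indVec hM hb) (vInt_indVec hM hb'), indVec_mul_indVec, h0,
    vK_eq_zero_iff hM (by rw [← h0, ← indVec_mul_indVec]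
                          exact vInt_mul hM (vInt_indVec hM hb) (vInt_indVec hM hb'))]
  rw [show indVec (∅ : Set (IrrCharacter C[Q])) = 0 from funext fun η => by simp [indVec]]
  exact vSmall_zero hM

theorem centralizer_le_zpowers_cen {u g : G} (h : Commute u g) :
    Subgroup.zpowers g ≤ C[Subgroup.zpowers u] := by
  rw [Subgroup.zpowers_le, Subgroup.mem_centralizer_iff]
  rintro x ⟨n, rfl⟩
  exact (h.zpow_left n).eq

theorem pPt_commute_self (g : G) : Commute (pPt p g) g := by
  obtain ⟨n, hn⟩ := pPt_mem_zpowers (p := p) g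
  rw [← hn]
  exact (Commute.refl g).zpow_left n

theorem isPGroup_zpowers_of_pow {u : G} (hu : ∃ k : ℕ, orderOf u = p ^ k) :
    IsPGroup p (Subgroup.zpowers u) := by
  obtain ⟨k, hk⟩ := hu
  exact IsPGroup.of_card (n := k) (by rw [Nat.card_zpowers, hk])

theorem isPGroup_zpowers_pPt (g : G) : IsPGroup p (Subgroup.zpowers (pPt p g)) :=
  isPGroup_zpowers_of_pow (exists_orderOf_pPt g)

/-- The sum of a character against the idempotent of a block is the block part of its section. -/
theorem hatC_blkO {u : G} {y : C[Subgroup.zpowers u]} (χ : IrrCharacter G)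
    {b : Set (IrrCharacter C[Subgroup.zpowers u])} (hb : IsPBlock M b) :
    hatC hM (χ : G → ℂ) (blkO hM (Subgroup.zpowers u) b) (u * (y : G)) =
      blockPart b (secFn u C[Subgroup.zpowers u] (χ : G → ℂ)) y := by
  classical
  have hHu : ∀ h : C[Subgroup.zpowers u], Commute u (h : G) := fun h =>
    Subgroup.mem_centralizer_iff.1 h.2 u (Subgroup.mem_zpowers u)
  rw [hatC, blockPart_eq_sum b (isClassFunction_secFn hHu χ)]
  simp only [blkO, coeff_vO hM (vInt_indVec hM hb), extF_indVec]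
  rw [← Finset.sum_subset (Finset.subset_univ (C[Subgroup.zpowers u] : Set G).toFinset)
    fun x _ hx => by
      rw [subgroupBlockCoeff, dif_neg (by simpa using hx), zero_mul],
    Finset.sum_subtype (p := fun x => x ∈ C[Subgroup.zpowers u]) (F := inferInstance)
      (C[Subgroup.zpowers u] : Set G).toFinset (fun x => by simp)]
  refine Finset.sum_congr (by ext; simp) fun k _ => ?_
  rw [subgroupBlockCoeff, dif_pos k.2, secFn, Subgroup.coe_mul, ← mul_assoc, ← mul_assoc,
    ← (hHu k).eq]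

/-- `I` lifts the idempotent `x` of the centralizer of the `p`-part of `g`. -/
def IsTauLift (g : G) (x : KGA hM G) (I : OGA hM G) : Prop :=
  IsIdempotentElem I ∧ I ∈ invAlg (locRing hM) (Subgroup.zpowers g) ∧
    brK (Subgroup.zpowers (pPt p g)) (red hM I) = x

open Classical in
/-- The value of a function at a lift of an idempotent of the centralizer of the `p`-part. -/
noncomputable def tau (F : G → ℂ) (g : G) (x : KGA hM G) : ℂ :=
  if h : ∃ I, IsTauLift hM g x I then hatC hM F h.choose g else 0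

theorem tau_eq {F : G → ℂ} (hF : IsClassFunction G F) {g : G} {x : KGA hM G} {I : OGA hM G}
    (hI : IsTauLift hM g x I) : tau hM F g x = hatC hM F I g := by
  classical
  have h : ∃ I, IsTauLift hM g x I := ⟨I, hI⟩
  rw [tau, dif_pos h]
  obtain ⟨h1, h2, h3⟩ := h.choose_spec
  refine hatC_congr hM hF h1 hI.1 h2 hI.2.1 fun c hc => ?_
  rw [centralizer_singleton_eq] at hc
  rw [← coeff_brK_of_mem (red hM h.choose) hc, h3, ← hI.2.2, coeff_brK_of_mem _ hc]

include hM in
theorem exists_tauLift {g : G} {x : KGA hM G}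
    (hx : x ∈ invAlg (resField hM) (Subgroup.zpowers g)) (hi : IsIdempotentElem x)
    (hb : brK (Subgroup.zpowers (pPt p g)) x = x) : ∃ I, IsTauLift hM g x I := by
  obtain ⟨I, hI, hIi, hIr⟩ := exists_inv_idem_lift hM hx hi
  exact ⟨I, hIi, hI, by rw [hIr, hb]⟩

theorem tau_zero {F : G → ℂ} (hF : IsClassFunction G F) (g : G) : tau hM F g 0 = 0 := by
  rw [tau_eq hM hF (I := 0) ⟨IsIdempotentElem.zero, zero_mem _, by rw [map_zero, brK_zero]⟩,
    hatC_zero]

theorem tau_add {F : G → ℂ} (hF : IsClassFunction G F) {g : G} {x y : KGA hM G}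
    (hx : x ∈ invAlg (resField hM) (Subgroup.zpowers g)) (hxi : IsIdempotentElem x)
    (hxb : brK (Subgroup.zpowers (pPt p g)) x = x)
    (hy : y ∈ invAlg (resField hM) (Subgroup.zpowers g)) (hyi : IsIdempotentElem y)
    (hyb : brK (Subgroup.zpowers (pPt p g)) y = y) (hxy : x * y = 0) (hyx : y * x = 0) :
    tau hM F g (x + y) = tau hM F g x + tau hM F g y := by
  obtain ⟨I, hI, hIi, hIr⟩ := exists_inv_idem_lift hM hx hxi
  obtain ⟨J, hJ, hJi, hJr, hIJ⟩ :=
    exists_orth_idem_lift hM hI hIi hy hyi (by rw [hIr, hxy]) (by rw [hIr, hyx])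
  have e1 : tau hM F g x = hatC hM F I g := tau_eq hM hF ⟨hIi, hI, by rw [hIr, hxb]⟩
  have e2 : tau hM F g y = hatC hM F J g := tau_eq hM hF ⟨hJi, hJ, by rw [hJr, hyb]⟩
  have e3 : tau hM F g (x + y) = hatC hM F (I + J) g :=
    tau_eq hM hF ⟨hIJ, add_mem hI hJ, by rw [map_add, hIr, hJr, brK_add, hxb, hyb]⟩
  rw [e1, e2, e3, hatC_add]

/-- The weighted sum over the blocks of the centralizer of `u`. -/
noncomputable def phiAt (W : G → BrauerPairIdx G → ℂ) (F : G → ℂ) (u g : G) (x : KGA hM G) : ℂ :=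
  ∑ b ∈ blocksOf M C[Subgroup.zpowers u],
    W u ⟨Subgroup.zpowers u, b⟩ *
      tau hM F g (brK (Subgroup.zpowers u) x * blkK hM (Subgroup.zpowers u) b)

/-- The weighted value at an idempotent. -/
noncomputable def phiFn (W : G → BrauerPairIdx G → ℂ) (F : G → ℂ) (x : KGA hM G) (g : G) : ℂ :=
  phiAt hM W F (pPt p g) g x

variable (W : G → BrauerPairIdx G → ℂ) {F : G → ℂ}

theorem phiFn_zero (hF : IsClassFunction G F) (g : G) : phiFn hM W F 0 g = 0 := by
  refine Finset.sum_eq_zero fun b _ => ?_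
  rw [brK_zero, zero_mul, tau_zero hM hF, mul_zero]

theorem localPiece_facts {g : G} {x : KGA hM G}
    (hx : x ∈ invAlg (resField hM) (Subgroup.zpowers g)) (hi : IsIdempotentElem x)
    {b : Set (IrrCharacter C[Subgroup.zpowers (pPt p g)])} (hb : IsPBlock M b) :
    brK (Subgroup.zpowers (pPt p g)) x * blkK hM _ b ∈
        invAlg (resField hM) (Subgroup.zpowers g) ∧
      IsIdempotentElem (brK (Subgroup.zpowers (pPt p g)) x * blkK hM _ b) ∧
      brK (Subgroup.zpowers (pPt p g))
          (brK (Subgroup.zpowers (pPt p g)) x * blkK hM _ b) =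
        brK (Subgroup.zpowers (pPt p g)) x * blkK hM _ b := by
  have hug : Subgroup.zpowers g ≤ C[Subgroup.zpowers (pPt p g)] :=
    centralizer_le_zpowers_cen (pPt_commute_self g)
  have huu : Subgroup.zpowers (pPt p g) ≤ Subgroup.zpowers g :=
    Subgroup.zpowers_le.2 (pPt_mem_zpowers g)
  have h1 : brK (Subgroup.zpowers (pPt p g)) x ∈ invAlg (resField hM) (Subgroup.zpowers g) :=
    brK_mem_invAlg (hug.trans (Subgroup.centralizer_le_normalizer _)) hx
  have h2 : blkK hM (Subgroup.zpowers (pPt p g)) b ∈ invAlg (resField hM) (Subgroup.zpowers g) :=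
    vK_mem_invAlg hM (invOn_mono hug (invOn_self _))
  refine ⟨mul_mem h1 h2, IsIdempotentElem.mul_of_commute
    (blkK_commute hM b (brK_idempotent _ x)).symm
    (brK_isIdem (isPGroup_zpowers_pPt g) (invAlg_anti huu hx) hi) (blkK_idem hM hb), ?_⟩
  rw [brK_mul (isPGroup_zpowers_pPt g) (invAlg_anti huu h1) (invAlg_anti huu h2), brK_idempotent,
    brK_blkK]

theorem phiFn_add (hF : IsClassFunction G F) {g : G} {x y : KGA hM G}
    (hx : x ∈ invAlg (resField hM) (Subgroup.zpowers g)) (hxi : IsIdempotentElem x)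
    (hy : y ∈ invAlg (resField hM) (Subgroup.zpowers g)) (hyi : IsIdempotentElem y)
    (hxy : x * y = 0) (hyx : y * x = 0) :
    phiFn hM W F (x + y) g = phiFn hM W F x g + phiFn hM W F y g := by
  rw [phiFn, phiFn, phiFn, phiAt, phiAt, phiAt, ← Finset.sum_add_distrib]
  refine Finset.sum_congr rfl fun b hb => ?_
  have hb' := (mem_blocksOf hM).1 hb
  obtain ⟨a1, a2, a3⟩ := localPiece_facts hM hx hxi hb'
  obtain ⟨b1, b2, b3⟩ := localPiece_facts hM hy hyi hb'
  have huu : Subgroup.zpowers (pPt p g) ≤ Subgroup.zpowers g :=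
    Subgroup.zpowers_le.2 (pPt_mem_zpowers g)
  have horth : ∀ s t : KGA hM G, s ∈ invAlg (resField hM) (Subgroup.zpowers g) →
      t ∈ invAlg (resField hM) (Subgroup.zpowers g) → s * t = 0 →
      brK (Subgroup.zpowers (pPt p g)) s * blkK hM _ b *
        (brK (Subgroup.zpowers (pPt p g)) t * blkK hM _ b) = 0 := by
    intro s t hs ht hst
    rw [mul_assoc, ← mul_assoc (blkK hM _ b), (blkK_commute hM b (brK_idempotent _ t)).eq,
      mul_assoc (brK _ t), ← mul_assoc, ← brK_mul (isPGroup_zpowers_pPt g) (invAlg_anti huu hs)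
        (invAlg_anti huu ht), hst, brK_zero, zero_mul]
  rw [brK_add, add_mul, tau_add hM hF a1 a2 a3 b1 b2 b3 (horth x y hx hy hxy)
    (horth y x hy hx hyx), mul_add]

theorem phiFn_one (χ : IrrCharacter G) (g : G) :
    phiFn hM W (χ : G → ℂ) 1 g =
      ∑ b ∈ blocksOf M C[Subgroup.zpowers (pPt p g)],
        W (pPt p g) ⟨Subgroup.zpowers (pPt p g), b⟩ *
          hatC hM (χ : G → ℂ) (blkO hM (Subgroup.zpowers (pPt p g)) b) g := by
  refine Finset.sum_congr rfl fun b hb => ?_
  have hb' := (mem_blocksOf hM).1 hb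
  rw [brK_one, one_mul, tau_eq hM χ.2.isClassFunction
    ⟨blkO_idem hM hb', blkO_mem_invAlg hM hb' (centralizer_le_zpowers_cen (pPt_commute_self g)),
      by rw [red_blkO hM hb', brK_blkK]⟩]

/-! ### Equivariance -/

/-- Conjugation on a group algebra. -/
noncomputable def conjA (R : Type*) [CommRing R] (a : G) : R[G] ≃ₐ[R] R[G] :=
  MonoidAlgebra.domCongr R R (MulAut.conj a)

theorem coeff_conjA {R : Type*} [CommRing R] (a : G) (x : R[G]) (g : G) :
    (conjA R a x).coeff (a * g * a⁻¹) = x.coeff g := by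
  rw [conjA, MonoidAlgebra.coeff_domCongr]
  congr 1
  show a⁻¹ * (a * g * a⁻¹) * a = g
  group

theorem red_conjA (a : G) (x : OGA hM G) :
    red hM (conjA (locRing hM) a x) = conjA (resField hM) a (red hM x) := by
  refine MonoidAlgebra.ext (Finsupp.ext fun g => ?_)
  obtain ⟨g, rfl⟩ : ∃ h, a * h * a⁻¹ = g := ⟨a⁻¹ * g * a, by group⟩
  rw [coeff_red, coeff_conjA, coeff_conjA, coeff_red]

theorem conjA_mem_invAlg {R : Type*} [CommRing R] (a : G) {x : R[G]} {H H' : Subgroup G}
    (hH : ∀ h ∈ H', a⁻¹ * h * a ∈ H) (hx : x ∈ invAlg R H) : conjA R a x ∈ invAlg R H' := by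
  refine mem_invAlg.2 fun h hh g => ?_
  obtain ⟨g, rfl⟩ : ∃ z, a * z * a⁻¹ = g := ⟨a⁻¹ * g * a, by group⟩
  rw [coeff_conjA, show h * (a * g * a⁻¹) * h⁻¹ =
    a * ((a⁻¹ * h * a) * g * (a⁻¹ * h * a)⁻¹) * a⁻¹ by group, coeff_conjA,
    mem_invAlg.1 hx _ (hH h hh)]

theorem conjA_mem_zpowers {R : Type*} [CommRing R] (a g : G) {x : R[G]}
    (hx : x ∈ invAlg R (Subgroup.zpowers g)) :
    conjA R a x ∈ invAlg R (Subgroup.zpowers (a * g * a⁻¹)) := by
  refine conjA_mem_invAlg a (fun h hh => ?_) hx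
  rw [← conj_zpowers_map] at hh
  obtain ⟨z, hz, rfl⟩ := hh
  have e : a⁻¹ * (a * z * a⁻¹) * a = z := by group
  exact e.symm ▸ hz

theorem brK_conjA {k : Type*} [Field k] (a : G) (Q : Subgroup G) (x : k[G]) :
    brK (Q.map (MulAut.conj a).toMonoidHom) (conjA k a x) = conjA k a (brK Q x) := by
  refine MonoidAlgebra.ext (Finsupp.ext fun g => ?_)
  obtain ⟨g, rfl⟩ : ∃ z, a * z * a⁻¹ = g := ⟨a⁻¹ * g * a, by group⟩
  have hm := conjMaps_centralizer (rfl : Q.map (MulAut.conj a).toMonoidHom = _) g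
  rw [coeff_conjA]
  by_cases hg : g ∈ C[Q]
  · rw [coeff_brK_of_mem _ (hm.1 hg), coeff_brK_of_mem _ hg, coeff_conjA]
  · rw [coeff_brK_of_notMem _ fun h => hg (hm.2 h), coeff_brK_of_notMem _ hg]

theorem blkK_conjSet {a : G} {Q Q' : Subgroup G} (h : Q.map (MulAut.conj a).toMonoidHom = Q')
    (b : Set (IrrCharacter C[Q])) :
    blkK hM Q' (conjSet (conjMaps_centralizer h) b) = conjA (resField hM) a (blkK hM Q b) := by
  refine MonoidAlgebra.ext (Finsupp.ext fun g => ?_)
  obtain ⟨g, rfl⟩ : ∃ z, a * z * a⁻¹ = g := ⟨a⁻¹ * g * a, by group⟩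
  rw [coeff_conjA, blkK, blkK, coeff_vK, coeff_vK, extF_indVec, extF_indVec,
    subgroupBlockCoeff_conjSet]

theorem hatC_conjA (hF : IsClassFunction G F) (a : G) (I : OGA hM G) (g : G) :
    hatC hM F (conjA (locRing hM) a I) (a * g * a⁻¹) = hatC hM F I g := by
  refine (Fintype.sum_equiv (MulAut.conj a).toEquiv _ _ fun k => ?_).symm
  simp only [MulEquiv.toEquiv_eq_coe, MulEquiv.coe_toEquiv, MulAut.conj_apply]
  rw [coeff_conjA, show a * k * a⁻¹ * (a * g * a⁻¹) = a * (k * g) * a⁻¹ by group, hF (k * g) a]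

theorem tau_conjA (hF : IsClassFunction G F) (a g : G) {x : KGA hM G}
    (hx : x ∈ invAlg (resField hM) (Subgroup.zpowers g)) (hi : IsIdempotentElem x)
    (hb : brK (Subgroup.zpowers (pPt p g)) x = x) :
    tau hM F (a * g * a⁻¹) (conjA (resField hM) a x) = tau hM F g x := by
  obtain ⟨I, hIi, hI, hIb⟩ := exists_tauLift hM hx hi hb
  rw [tau_eq hM hF ⟨hIi, hI, hIb⟩, tau_eq hM hF (I := conjA (locRing hM) a I)
    ⟨IsIdempotentElem.map hIi _, conjA_mem_zpowers a g hI, ?_⟩, hatC_conjA hM hF]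
  rw [pPt_conj, red_conjA, ← conj_zpowers_map, brK_conjA, hIb]

variable {W}

theorem phiFn_conjA (hF : IsClassFunction G F)
    (hW : ∀ (a u : G) (i : BrauerPairIdx G), W (a * u * a⁻¹) (conjIdx a i) = W u i)
    (a g : G) {x : KGA hM G} (hx : x ∈ invAlg (resField hM) (Subgroup.zpowers g))
    (hi : IsIdempotentElem x) :
    phiFn hM W F (conjA (resField hM) a x) (a * g * a⁻¹) = phiFn hM W F x g := by
  show phiAt hM W F (pPt p (a * g * a⁻¹)) _ _ = phiAt hM W F (pPt p g) g x
  rw [pPt_conj]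
  set u := pPt p g with hu
  have hmap := conj_zpowers_map a u
  symm
  refine Finset.sum_bij (fun b _ => conjSet (conjMaps_centralizer hmap) b) (fun b hb => ?_)
    (fun b _ b' _ h => pullSet_injective _ h) (fun b' hb' => ?_) fun b hb => ?_
  · exact (mem_blocksOf hM).2 (isPBlock_conjSet _ ((mem_blocksOf hM).1 hb))
  · exact ⟨pullSet (conjIso (conjMaps_centralizer hmap)) b',
      (mem_blocksOf hM).2 (isPBlock_pullSet _ ((mem_blocksOf hM).1 hb')), pullSet_symm _ _⟩
  · obtain ⟨a1, a2, a3⟩ := localPiece_facts hM hx hi ((mem_blocksOf hM).1 hb)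
    rw [← conjIdx_eq hmap b, hW, blkK_conjSet hM hmap, ← hmap, brK_conjA, ← map_mul,
      tau_conjA hM hF a g a1 a2 a3]

end Cfsg.Lib.Block
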