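import Cfsg.Agent.Lib.Block.EqualDegree
import Cfsg.Agent.Lib.Block.BlockCenter
import Cfsg.Agent.Lib.Block.AbelianNilpotent
import Cfsg.Agent.Lib.Block.StarTau
import Cfsg.Agent.Lib.Block.StarVanish

/-!
# A block with one degree has trivial inertial quotient

The corner of such a block at an idempotent of rank one is commutative of dimension the order of
the defect group, so the centre of the block is at least as large.  The trace to the corner of an
element of a defect class is a unit, hence the Brauer map at the defect group is injective on the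
centre.  Its image lies in the fixed points of the inertial group on the group algebra of the
defect group, which therefore are everything.
-/

set_option autoImplicit false
set_option linter.unusedSectionVars false
set_option maxHeartbeats 1000000

namespace Cfsg.Lib.Block

open Cfsg Module
open scoped ComplexConjugate MonoidAlgebra

universe u

noncomputable local instance (priority := high) fintypeSubgroupEqualDegreeInertial {A : Type u}
    [Group A] [Fintype A] (H : Subgroup A) : Fintype H := Fintype.ofFinite H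

local notation "C[" Q "]" => Subgroup.centralizer (SetLike.coe Q)

variable {p : ℕ} [Fact p.Prime] {M : Ideal AlgInt} {A : Type u} [Group A] [Fintype A]
  (hM : IsPModular p M)

/-! ## Idempotents of trace at most one -/

theorem eq_zero_of_idem_trace_zero {n : ℕ} {E : Module.End ℂ (Fin n → ℂ)}
    (hE : IsIdempotentElem E) (h : LinearMap.trace ℂ _ E = 0) : E = 0 := by
  rw [((LinearMap.isProj_range_iff_isIdempotentElem E).2 hE).trace, Nat.cast_eq_zero,
    Submodule.finrank_eq_zero, LinearMap.range_eq_bot] at h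
  exact h

theorem sandwich_of_idem_trace_one {n : ℕ} {E : Module.End ℂ (Fin n → ℂ)}
    (hE : IsIdempotentElem E) (h : LinearMap.trace ℂ _ E = 1) (X : Module.End ℂ (Fin n → ℂ)) :
    E * X * E = LinearMap.trace ℂ _ (E * X) • E := by
  rw [((LinearMap.isProj_range_iff_isIdempotentElem E).2 hE).trace, Nat.cast_eq_one] at h
  obtain ⟨v, hv, hspan⟩ := finrank_eq_one_iff'.1 h
  choose f hf using fun y => hspan ⟨E y, LinearMap.mem_range_self E y⟩
  have hf' : ∀ y, f y • (v : Fin n → ℂ) = E y := fun y => congrArg Subtype.val (hf y)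
  have hv0 : (v : Fin n → ℂ) ≠ 0 := fun h0 => hv (Subtype.ext h0)
  let F : (Fin n → ℂ) →ₗ[ℂ] ℂ :=
    { toFun := f
      map_add' := fun y z => smul_left_injective ℂ hv0 (by
        simp only [add_smul, hf', map_add])
      map_smul' := fun c y => smul_left_injective ℂ hv0 (by
        simp only [RingHom.id_apply, smul_eq_mul, mul_smul, hf', map_smul]) }
  have hEX : E * X = (F ∘ₗ X).smulRight (v : Fin n → ℂ) := LinearMap.ext fun y => (hf' (X y)).symm
  have ht : LinearMap.trace ℂ _ (E * X) = f (X v) := by
    rw [hEX, LinearMap.trace_smulRight]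
    rfl
  refine LinearMap.ext fun y => ?_
  rw [ht, LinearMap.smul_apply, Module.End.mul_apply, Module.End.mul_apply, ← hf' y, map_smul,
    map_smul, ← hf' (X v), smul_smul, smul_smul, mul_comm]

/-! ## The representations on the group algebra over the local ring -/

/-- A complex representation on the group algebra over the local ring. -/
noncomputable def repC {n : ℕ} (ρ : Representation ℂ A (Fin n → ℂ)) :
    OGA hM A →+* Module.End ℂ (Fin n → ℂ) :=
  ρ.asAlgebraHom.toRingHom.comp (MonoidAlgebra.mapRingHom A (locRing hM).subtype)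

theorem repC_eq_sum {n : ℕ} (ρ : Representation ℂ A (Fin n → ℂ)) (x : OGA hM A) :
    repC hM ρ x = ∑ g : A, (x.coeff g : ℂ) • ρ g := by
  conv_lhs => rw [← MonoidAlgebra.sum_coeff_single x, Finsupp.sum_fintype _ _ (by simp)]
  rw [map_sum]
  refine Finset.sum_congr rfl fun g _ => ?_
  simp [repC, Representation.asAlgebraHom_single]

theorem trace_repC {n : ℕ} {ρ : Representation ℂ A (Fin n → ℂ)} {χ : A → ℂ}
    (hρ : ρ.character = χ) (x : OGA hM A) :
    LinearMap.trace ℂ _ (repC hM ρ x) = hatC hM χ x 1 := by
  rw [repC_eq_sum, map_sum, hatC]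
  refine Finset.sum_congr rfl fun g _ => ?_
  rw [map_smul, smul_eq_mul, mul_one, ← hρ]
  rfl

theorem hatC_mul_comm (χ : IrrCharacter A) (x y : OGA hM A) :
    hatC hM (χ : A → ℂ) (x * y) 1 = hatC hM (χ : A → ℂ) (y * x) 1 := by
  obtain ⟨n, ρ, -, hρ⟩ := χ.2
  rw [← trace_repC hM hρ, ← trace_repC hM hρ, map_mul (repC hM ρ), map_mul (repC hM ρ),
    LinearMap.trace_mul_comm]

/-- An element that acts as zero in every representation is zero. -/
theorem eq_zero_of_repC {x : OGA hM A}
    (h : ∀ (χ : IrrCharacter A) (n : ℕ) (ρ : Representation ℂ A (Fin n → ℂ)),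
      ρ.character = (χ : A → ℂ) → repC hM ρ x = 0) : x = 0 := by
  refine MonoidAlgebra.ext (Finsupp.ext fun g => Subtype.ext ?_)
  show (x.coeff g : ℂ) = 0
  have h1 := card_mul_coeff_one hM (x * MonoidAlgebra.single g⁻¹ 1)
  rw [coeff_mul_single', inv_inv, one_mul, Finset.sum_eq_zero fun χ _ => ?_, mul_eq_zero] at h1
  · exact h1.resolve_left Char.card_cast_ne_zero
  · obtain ⟨n, ρ, -, hρ⟩ := χ.2
    rw [← trace_repC hM hρ, map_mul, h χ n ρ hρ, zero_mul, map_zero, mul_zero]

theorem hatC_mem_locRing (χ : IrrCharacter A) (x : OGA hM A) :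
    hatC hM (χ : A → ℂ) x 1 ∈ locRing hM :=
  sum_mem fun g _ => mul_mem (x.coeff g).2
    (isIntegral_mem_locRing hM (χ.2.isCharacter.isIntegral _))

theorem hatC_sub_mem_of_red (χ : IrrCharacter A) {x y : OGA hM A} (h : red hM x = red hM y) :
    MemLocalIdeal M (hatC hM (χ : A → ℂ) x 1 - hatC hM (χ : A → ℂ) y 1) := by
  rw [hatC, hatC, ← Finset.sum_sub_distrib]
  refine memLocalIdeal_sum hM _ _ fun g _ => ?_
  rw [← sub_mul]
  refine memLocalIdeal_mul_right hM ?_ (isIntegral_mem_locRing hM (χ.2.isCharacter.isIntegral _))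
  have h1 := congrArg (fun z : KGA hM A => z.coeff g) h
  simp only [coeff_red, resMap_eq_iff] at h1
  exact h1

/-! ## The corner of an idempotent of trace one -/

variable {B : Set (IrrCharacter A)} {a : OGA hM A}

/-- The scalar by which a corner element acts. -/
theorem repC_corner (hB : IsPBlock M B) (ha : IsIdempotentElem a)
    (haB : oV hM (indVec B) * a = a) (ha1 : ∀ χ ∈ B, hatC hM (χ : A → ℂ) a 1 = 1)
    (χ : IrrCharacter A) {n : ℕ} {ρ : Representation ℂ A (Fin n → ℂ)}
    (hρ : ρ.character = (χ : A → ℂ)) (U : OGA hM A) :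
    (χ ∉ B → repC hM ρ a = 0) ∧
      repC hM ρ (a * U * a) = hatC hM (χ : A → ℂ) (a * U) 1 • repC hM ρ a := by
  have hi : IsIdempotentElem (repC hM ρ a) := ha.map (repC hM ρ)
  have h0 : χ ∉ B → repC hM ρ a = 0 := fun hχ => eq_zero_of_idem_trace_zero hi (by
    rw [trace_repC hM hρ, hatC_of_notMem hM hB a haB hχ])
  refine ⟨h0, ?_⟩
  by_cases hχ : χ ∈ B
  · rw [map_mul, map_mul, sandwich_of_idem_trace_one hi (by rw [trace_repC hM hρ, ha1 χ hχ]),
      ← map_mul, trace_repC hM hρ]
  · rw [map_mul, h0 hχ, mul_zero, smul_zero]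

/-- The corner is commutative. -/
theorem corner_comm_lift (hB : IsPBlock M B) (ha : IsIdempotentElem a)
    (haB : oV hM (indVec B) * a = a) (ha1 : ∀ χ ∈ B, hatC hM (χ : A → ℂ) a 1 = 1)
    (U V : OGA hM A) : a * U * a * (a * V * a) = a * V * a * (a * U * a) := by
  refine sub_eq_zero.1 (eq_zero_of_repC hM fun χ n ρ hρ => ?_)
  rw [map_sub, map_mul, map_mul _ (a * V * a), (repC_corner hM hB ha haB ha1 χ hρ U).2,
    (repC_corner hM hB ha haB ha1 χ hρ V).2, smul_mul_smul_comm, smul_mul_smul_comm, mul_comm,
    sub_self]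

theorem corner_comm_red (hB : IsPBlock M B) (ha : IsIdempotentElem a)
    (haB : oV hM (indVec B) * a = a) (ha1 : ∀ χ ∈ B, hatC hM (χ : A → ℂ) a 1 = 1)
    (x y : KGA hM A) :
    red hM a * x * red hM a * (red hM a * y * red hM a) =
      red hM a * y * red hM a * (red hM a * x * red hM a) := by
  have h := congrArg (red hM) (corner_comm_lift hM hB ha haB ha1 (liftC hM x) (liftC hM y))
  simpa only [map_mul, red_liftC] using h

open Classical in
/-- A corner element whose scalars have nonzero reduction is not a zero divisor in the centre. -/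
theorem eq_zero_of_corner_unit (hB : IsPBlock M B) (ha : IsIdempotentElem a)
    (haB : oV hM (indVec B) * a = a) (ha1 : ∀ χ ∈ B, hatC hM (χ : A → ℂ) a 1 = 1)
    (U : OGA hM A) {c : resField hM} (hc : c ≠ 0)
    (hUc : ∀ χ ∈ B, res hM (hatC hM (χ : A → ℂ) (a * U) 1) = c) {w : KGA hM A}
    (hw : w * red hM (a * U * a) = 0) : w * red hM a = 0 := by
  set W : OGA hM A := a * U * a with hW
  set lam : IrrCharacter A → locRing hM := fun η => ⟨_, hatC_mem_locRing hM η (a * U)⟩ with hlam
  set F : IrrCharacter A → OGA hM A := fun η => W - lam η • 1 with hF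
  have hWa : a * W = W := by rw [hW, ← mul_assoc, ← mul_assoc, ha.eq]
  have hzero : a * (B.toFinset.toList.map F).prod = 0 := by
    refine eq_zero_of_repC hM fun χ n ρ hρ => ?_
    by_cases hχ : χ ∈ B
    · have hstep : ∀ η, repC hM ρ a * repC hM ρ (F η) =
          ((lam χ : ℂ) - (lam η : ℂ)) • repC hM ρ a := by
        intro η
        have hs : repC hM ρ (lam η • (1 : OGA hM A)) = (lam η : ℂ) • 1 := by
          simp [repC, MonoidAlgebra.one_def, MonoidAlgebra.smul_single',
            Representation.asAlgebraHom_single]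
        rw [hF, map_sub, mul_sub, ← map_mul, hWa, hW, (repC_corner hM hB ha haB ha1 χ hρ U).2,
          hs, mul_smul_comm, mul_one]
        exact (sub_smul _ _ _).symm
      have hprod : ∀ l : List (IrrCharacter A), repC hM ρ (a * (l.map F).prod) =
          (l.map fun η => (lam χ : ℂ) - (lam η : ℂ)).prod • repC hM ρ a := by
        intro l
        induction l with
        | nil => simp
        | cons η l ih =>
          rw [List.map_cons, List.map_cons, List.prod_cons, List.prod_cons, map_mul, map_mul,
            ← mul_assoc, hstep, smul_mul_assoc, ← map_mul, ih, smul_smul]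
      rw [hprod, List.prod_eq_zero, zero_smul]
      exact List.mem_map.2 ⟨χ, Finset.mem_toList.2 (Set.mem_toFinset.2 hχ), sub_self _⟩
    · rw [map_mul, (repC_corner hM hB ha haB ha1 χ hρ U).1 hχ, zero_mul]
  have hred : ∀ η ∈ B, red hM (F η) = red hM W - c • 1 := by
    intro η hη
    rw [hF, map_sub]
    congr 1
    rw [← hUc η hη, res_of_mem hM (hatC_mem_locRing hM η (a * U))]
    simp [MonoidAlgebra.one_def, MonoidAlgebra.smul_single', red, hlam]
  have hlist : ∀ l : List (IrrCharacter A), (∀ η ∈ l, η ∈ B) →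
      w * red hM a * red hM (l.map F).prod = (-c) ^ l.length • (w * red hM a) := by
    intro l
    induction l with
    | nil => simp
    | cons η l ih =>
      intro hl
      rw [List.map_cons, List.prod_cons, map_mul, ← mul_assoc, hred η (hl η (by simp)), mul_sub,
        mul_assoc w, ← map_mul, hWa, hw, zero_sub, mul_smul_comm, mul_one, ← neg_smul,
        smul_mul_assoc, ih fun ξ hξ => hl ξ (by simp [hξ]), smul_smul, List.length_cons, pow_succ']
  have h := hlist _ fun η hη => Set.mem_toFinset.1 (Finset.mem_toList.1 hη)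
  rw [mul_assoc w, ← map_mul, hzero, map_zero, mul_zero] at h
  exact (smul_eq_zero.1 h.symm).resolve_left (pow_ne_zero _ (neg_ne_zero.2 hc))

/-! ## The trace to a full corner -/

/-- The trace to the corner. -/
noncomputable def cornerTrace {hM : IsPModular p M} (e : KGA hM A) {N : ℕ}
    (a b : Fin N → KGA hM A) : KGA hM A →ₗ[resField hM] KGA hM A :=
  ∑ i, LinearMap.mulLeft (resField hM) e ∘ₗ LinearMap.mulRight (resField hM) e ∘ₗ
    LinearMap.mulLeft (resField hM) (b i) ∘ₗ LinearMap.mulRight (resField hM) (a i)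

theorem cornerTrace_apply (e : KGA hM A) {N : ℕ} (a b : Fin N → KGA hM A) (x : KGA hM A) :
    cornerTrace e a b x = ∑ i, e * (b i * x * a i) * e := by
  simp [cornerTrace, mul_assoc]

theorem cornerTrace_comm {e : KGA hM A} (he : IsIdempotentElem e) (heB : blkA hM B * e = e)
    {N : ℕ} {a b : Fin N → KGA hM A} (hab : ∑ i, a i * e * b i = blkA hM B)
    (hcomm : ∀ x y, e * x * e * (e * y * e) = e * y * e * (e * x * e)) (x y : KGA hM A) :
    cornerTrace e a b (x * y) = cornerTrace e a b (y * x) := by
  have hmem : ∀ z, cornerTrace e a b z ∈ cornerSub e := fun z => by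
    rw [cornerTrace_apply]
    exact sum_mem fun i _ => mem_cornerSub_mk e _
  have hext : ∀ (τ : Module.Dual (resField hM) (cornerSub e)) z,
      extFun a b τ z = τ ⟨_, hmem z⟩ := fun τ z => by
    rw [extFun_apply, ← map_sum]
    refine congrArg τ (Subtype.ext ?_)
    rw [AddSubmonoidClass.coe_finset_sum]
    exact (cornerTrace_apply hM e a b z).symm
  have h : (⟨_, hmem (x * y)⟩ : cornerSub e) - ⟨_, hmem (y * x)⟩ = 0 := by
    refine (Module.forall_dual_apply_eq_zero_iff (resField hM) _).1 fun τ => ?_
    rw [map_sub, ← hext, ← hext, extFun_comm he heB hab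
      (fun u v _ _ => congrArg τ (Subtype.ext (hcomm u v))), sub_self]
  exact congrArg Subtype.val (sub_eq_zero.1 h)

end Cfsg.Lib.Block
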