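import Cfsg.Agent.Lib.Block.EqualDegreeInertial
import Cfsg.Agent.Lib.Block.DefectApps
import Cfsg.Agent.Lib.Block.CentralDefect
import Cfsg.Agent.Lib.Block.Correspondence

/-!
# Blocks with abelian defect group and one degree are nilpotent

The Brauer map at the defect group is injective on the centre of the block, whose dimension is
the order of the defect group, and its values are fixed by the inertial group.
-/

set_option autoImplicit false
set_option linter.unusedSectionVars false
set_option maxHeartbeats 1600000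

namespace Cfsg.Lib.Block

open Cfsg Module
open scoped ComplexConjugate MonoidAlgebra

universe u

noncomputable local instance (priority := high) fintypeSubgroupEqualDegreeMain {A : Type u}
    [Group A] [Fintype A] (H : Subgroup A) : Fintype H := Fintype.ofFinite H

local notation "C[" Q "]" => Subgroup.centralizer (SetLike.coe Q)

variable {p : ℕ} [Fact p.Prime] {M : Ideal AlgInt} {A : Type u} [Group A] [Fintype A]
  (hM : IsPModular p M) {B : Set (IrrCharacter A)} {P : Subgroup A}

/-- The Brauer image of the idempotent of a block. -/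
theorem brK_blkA (Q : Subgroup A) :
    brK Q (blkA hM B) = vK hM C[Q] (brU Q B) := by
  classical
  refine MonoidAlgebra.ext (Finsupp.ext fun g => ?_)
  rw [coeff_vK, extF_brU]
  by_cases hg : g ∈ C[Q]
  · rw [coeff_brK_of_mem _ hg, if_pos hg, blkA, coeff_cV, zc_indVec]
  · rw [coeff_brK_of_notMem _ hg, if_neg hg, res_zero]

/-- The Brauer image of a block idempotent kills the blocks of the centralizer outside its
pairs. -/
theorem brK_blkA_mul_of_not_pair (hB : IsPBlock M B) (hP : IsPGroup p P)
    {f : Set (IrrCharacter C[P])} (hf : IsPBlock M f) (hne : ¬ IsBrauerPairOf p M B P f) :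
    brK P (blkA hM B) * blkK hM P f = 0 := by
  have hu := vInt_brU hM P hB
  obtain ⟨η, hη⟩ := nonempty_of_isPBlock hM hf
  have h1 : res hM (brU P B η) ≠ 1 := fun h => hne ((isBrauerPairOf_iff_brU hM B P f).2
    ⟨⟨hP, hf⟩, hB, fun ξ hξ => (res_apply_eq hM hu (sameBlock_of_mem hM hf hξ hη)).trans h⟩)
  have h2 := vSmall_mul_indVec hM hu (vSmall_brU_idem hM hP hB) hf hη
  rw [if_neg h1, sub_zero] at h2
  rw [brK_blkA, blkK, ← vK_mul hM hu (vInt_indVec hM hf)]
  exact (vK_eq_zero_iff hM (vInt_mul hM hu (vInt_indVec hM hf))).2 h2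

theorem conjA_of_central {x : KGA hM A} (hx : ∀ g a, x.coeff (g * a * g⁻¹) = x.coeff a) (t : A) :
    conjA (resField hM) t x = x := by
  refine MonoidAlgebra.ext (Finsupp.ext fun g => ?_)
  obtain ⟨g, rfl⟩ : ∃ h, t * h * t⁻¹ = g := ⟨t⁻¹ * g * t, by group⟩
  rw [coeff_conjA, hx]

variable {c : Set (IrrCharacter C[P])}

/-- A central element of the block whose image at the root block vanishes has Brauer image zero. -/
theorem brK_eq_zero_of_root (hmax : IsMaximalBrauerPair p M B P c) {x : KGA hM A}
    (hx : ∀ g a, x.coeff (g * a * g⁻¹) = x.coeff a) (hxB : blkA hM B * x = x)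
    (h0 : brK P x * blkK hM P c = 0) : brK P x = 0 := by
  classical
  have hP := hmax.1.1.1
  have hB := hmax.1.2.1
  have hxI : x ∈ invAlg (resField hM) P := mem_invAlg.2 fun g _ a => hx g a
  have hbI : blkA hM B ∈ invAlg (resField hM) P := mem_invAlg.2 fun g _ a => by
    rw [blkA, coeff_cV, coeff_cV, zc_conj_invariant]
  have hfac : brK P x = brK P (blkA hM B) * brK P x := by rw [← brK_mul hP hbI hxI, hxB]
  rw [← mul_one (brK P x), ← sum_blkK hM P, Finset.mul_sum]
  refine Finset.sum_eq_zero fun f hf => ?_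
  have hfB := (mem_blocksOf hM).1 hf
  by_cases hpair : IsBrauerPairOf p M B P f
  · obtain ⟨g, hg⟩ := exists_conj_le_maximal hM hmax hpair
    have hgP : P.map (MulAut.conj g).toMonoidHom = P := by
      refine Subgroup.eq_of_le_of_card_ge ?_ (le_of_eq ?_)
      · have := le_of_rel hg
        rwa [conjIdx_eq rfl f] at this
      · rw [Subgroup.card_map_of_injective (MulAut.conj g).injective]
    rw [conjIdx_eq hgP] at hg
    have hc : conjSet (conjMaps_centralizer hgP) f = c :=
      subpair_unique hM hmax.1.1 hg Relation.ReflTransGen.refl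
    refine (conjA (resField hM) g).injective ?_
    rw [map_mul, map_zero, ← blkK_conjSet hM hgP, hc, ← brK_conjA, hgP, conjA_of_central hM hx g]
    exact h0
  · rw [hfac, mul_assoc, ← (blkK_commute hM f (brK_idempotent P x)).eq, ← mul_assoc,
      brK_blkA_mul_of_not_pair hM hB hP hfB hpair, zero_mul]

/-- The sums of the translates of the root idempotent by the defect group. -/
noncomputable def rootSum (P : Subgroup A) (c : Set (IrrCharacter C[P])) :
    (P → resField hM) →ₗ[resField hM] KGA hM A :=
  ∑ d : P, (LinearMap.proj d).smulRight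
    ((MonoidAlgebra.single (d : A) (1 : resField hM) : KGA hM A) * blkK hM P c)

theorem rootSum_apply (f : P → resField hM) :
    rootSum hM P c f =
      ∑ d : P, f d • ((MonoidAlgebra.single (d : A) (1 : resField hM) : KGA hM A) * blkK hM P c) := by
  simp [rootSum]

/-- The translates are independent. -/
theorem rootSum_injective (hP : IsPGroup p P) (hc : IsPBlock M c) :
    Function.Injective (rootSum hM P c) := by
  classical
  have hne : blkK hM P c ≠ 0 := by
    intro h
    rw [blkK, vK_eq_zero_iff hM (vInt_indVec hM hc)] at h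
    obtain ⟨ξ, hξ⟩ := nonempty_of_isPBlock hM hc
    have := apply_mem_ideal hM h ξ
    rw [indVec, if_pos hξ] at this
    exact not_memLocalIdeal_one hM this
  have hsupp : ∀ g, (blkK hM P c).coeff g ≠ 0 → g ∈ C[P] ∧ IsPRegular p g := by
    intro g hg
    rw [blkK, coeff_vK, extF_indVec, subgroupBlockCoeff] at hg
    split_ifs at hg with hgC
    · refine ⟨hgC, fun hd => hg ?_⟩
      rw [blockCoeff_eq_zero_of_dvd hM (vInt_indVec hM hc) (by rwa [Subgroup.orderOf_mk]), res_zero]
    · exact absurd (res_zero hM) hg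
  obtain ⟨u, hu⟩ : ∃ u, (blkK hM P c).coeff u ≠ 0 := by
    by_contra h
    push Not at h
    exact hne (MonoidAlgebra.ext (Finsupp.ext fun g => by rw [h g]; rfl))
  obtain ⟨huC, hur⟩ := hsupp u hu
  refine (injective_iff_map_eq_zero _).2 fun f hf => funext fun d => ?_
  have h := congrArg (fun z : KGA hM A => z.coeff ((d : A) * u)) hf
  simp only [rootSum_apply, MonoidAlgebra.coeff_sum, Finsupp.finset_sum_apply,
    MonoidAlgebra.coeff_smul, Finsupp.smul_apply, smul_eq_mul, MonoidAlgebra.coeff_zero,
    Finsupp.coe_zero, Pi.zero_apply, coeff_single_mul'] at h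
  rw [Finset.sum_eq_single d ?_ (fun h' => absurd (Finset.mem_univ _) h'), inv_mul_cancel_left] at h
  · exact (mul_eq_zero.1 h).resolve_right hu
  · intro d' _ hne'
    refine mul_eq_zero_of_right _ ?_
    by_contra hz
    obtain ⟨-, hreg⟩ := hsupp _ hz
    set y : A := (d' : A)⁻¹ * d with hy
    have hyP : y ∈ P := mul_mem (inv_mem d'.2) d.2
    rw [← mul_assoc, ← hy] at hreg
    have hord : ∃ k : ℕ, orderOf y = p ^ k := by
      obtain ⟨k, hk⟩ := IsPGroup.iff_orderOf.1 hP ⟨y, hyP⟩
      exact ⟨k, by rwa [Subgroup.orderOf_mk] at hk⟩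
    obtain ⟨k, hk⟩ := hord
    have h1 : pPt p (y * u) = y := (eq_pPt rfl
      (Subgroup.mem_centralizer_iff.1 huC y hyP) hk hur).symm
    rw [(pPt_eq_one_iff (y * u)).2 hreg] at h1
    exact hne' (Subtype.ext (inv_mul_eq_one.1 (h1 ▸ rfl : (d' : A)⁻¹ * d = 1)))

/-- The space of central elements of the group algebra of the centralizer in the root block. -/
noncomputable def rootCenter (P : Subgroup A) (c : Set (IrrCharacter C[P])) :
    Submodule (resField hM) (KGA hM A) where
  carrier := {w | (∀ g, g ∉ C[P] → w.coeff g = 0) ∧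
    (∀ g ∈ C[P], ∀ a, w.coeff (g * a * g⁻¹) = w.coeff a) ∧ blkK hM P c * w = w}
  zero_mem' := ⟨fun _ _ => rfl, fun _ _ _ => rfl, mul_zero _⟩
  add_mem' {v w} hv hw := ⟨fun g hg => by
      rw [MonoidAlgebra.coeff_add, Finsupp.add_apply, hv.1 g hg, hw.1 g hg, add_zero],
    fun g hg a => by
      simp only [MonoidAlgebra.coeff_add, Finsupp.add_apply, hv.2.1 g hg, hw.2.1 g hg],
    by rw [mul_add, hv.2.2, hw.2.2]⟩
  smul_mem' r w hw := ⟨fun g hg => by
      rw [MonoidAlgebra.coeff_smul, Finsupp.smul_apply, hw.1 g hg, smul_zero],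
    fun g hg a => by simp only [MonoidAlgebra.coeff_smul, Finsupp.smul_apply, hw.2.1 g hg],
    by rw [mul_smul_comm, hw.2.2]⟩

include hM in
/-- The root block has at most as many characters as the defect group has elements. -/
theorem finrank_rootCenter_le (hmax : IsMaximalBrauerPair p M B P c)
    (hab : ∀ x ∈ P, ∀ y ∈ P, x * y = y * x) :
    finrank (resField hM) (rootCenter hM P c) ≤ Nat.card P := by
  classical
  have hc := hmax.1.1.2
  have hcD : IsDefectGroup p M c (P.subgroupOf C[P]) :=
    subpair_defect hM hmax hab Relation.ReflTransGen.refl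
  have hPC : P ≤ C[P] := le_centralizer_of_abelian hab le_rfl
  have hcen : P.subgroupOf C[P] ≤ Subgroup.center C[P] := fun x hx =>
    Subgroup.mem_center_iff.2 fun g => Subtype.ext
      (Subgroup.mem_centralizer_iff.1 g.2 x hx).symm
  have hk := card_le_of_rank_one hM hc (blockRank_eq_one_of_central hM hc hcD hcen)
  rw [← card_defectGroup hM hc hcD, Nat.card_congr (Subgroup.subgroupOfEquivOfLe hPC).toEquiv]
    at hk
  let R : KGA hM A →ₗ[resField hM] KGA hM C[P] :=
    { toFun := fun w => MonoidAlgebra.ofCoeff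
        (Finsupp.equivFunOnFinite.symm fun h : C[P] => w.coeff h)
      map_add' := fun v w => MonoidAlgebra.ext (Finsupp.ext fun h => rfl)
      map_smul' := fun r w => MonoidAlgebra.ext (Finsupp.ext fun h => rfl) }
  have hRi : ∀ w ∈ rootCenter hM P c, inclC (resField hM) C[P] (R w) = w := fun w hw => by
    refine MonoidAlgebra.ext (Finsupp.ext fun g => ?_)
    by_cases hg : g ∈ C[P]
    · exact coeff_inclC_coe (R w) ⟨g, hg⟩
    · rw [coeff_inclC_of_notMem _ hg, hw.1 g hg]
  have hblk : inclC (resField hM) C[P] (blkA hM c) = blkK hM P c := by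
    refine MonoidAlgebra.ext (Finsupp.ext fun g => ?_)
    rw [blkK, coeff_vK]
    by_cases hg : g ∈ C[P]
    · rw [show (inclC (resField hM) C[P] (blkA hM c)).coeff g = (blkA hM c).coeff ⟨g, hg⟩ from
        coeff_inclC_coe (blkA hM c) ⟨g, hg⟩, extF_of_mem _ hg]
      rfl
    · rw [coeff_inclC_of_notMem _ hg, extF_of_notMem _ hg, res_zero]
  have hinj : Function.Injective (R.domRestrict (rootCenter hM P c)) := fun v w h =>
    Subtype.ext (by
      rw [← hRi v v.2, ← hRi w w.2]
      exact congrArg _ h)
  rw [← LinearMap.finrank_range_of_inj hinj]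
  refine (finrank_center_le hM hc _ ?_).trans hk
  rintro _ ⟨w, rfl⟩
  refine ⟨fun g a => w.2.2.1 g g.2 a, inclC_injective (resField hM) C[P] ?_⟩
  rw [map_mul, hblk]
  show blkK hM P c * inclC (resField hM) C[P] (R w) = inclC (resField hM) C[P] (R w)
  rw [hRi w w.2]
  exact w.2.2.2

theorem rootSum_mem (hmax : IsMaximalBrauerPair p M B P c)
    (hab : ∀ x ∈ P, ∀ y ∈ P, x * y = y * x) (f : P → resField hM) :
    rootSum hM P c f ∈ rootCenter hM P c := by
  classical
  have hPC : P ≤ C[P] := le_centralizer_of_abelian hab le_rfl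
  rw [rootSum_apply]
  refine sum_mem fun d _ => Submodule.smul_mem _ _ ⟨fun g hg => ?_, fun g hg a => ?_, ?_⟩
  · rw [coeff_single_mul', blkK, coeff_vK, extF_of_notMem _ fun h => hg ?_, res_zero]
    have := mul_mem (hPC d.2) h
    rwa [mul_inv_cancel_left] at this
  · have hI : blkK hM P c ∈ invAlg (resField hM) C[P] := vK_mem_invAlg hM (invOn_self _)
    rw [coeff_single_mul', coeff_single_mul']
    have e : (d : A)⁻¹ * (g * a * g⁻¹) = g * ((d : A)⁻¹ * a) * g⁻¹ := by
      have := Subgroup.mem_centralizer_iff.1 hg _ (inv_mem d.2)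
      rw [← mul_assoc, ← mul_assoc, this]
      group
    rw [e, mem_invAlg.1 hI g hg]
  · have hd : brK P (MonoidAlgebra.single (d : A) (1 : resField hM) : KGA hM A) =
        MonoidAlgebra.single (d : A) (1 : resField hM) := by
      refine MonoidAlgebra.ext (Finsupp.ext fun g => ?_)
      by_cases hg : g ∈ C[P]
      · rw [coeff_brK_of_mem _ hg]
      · rw [coeff_brK_of_notMem _ hg, MonoidAlgebra.coeff_single, Finsupp.single_eq_of_ne]
        exact fun h => hg (h ▸ hPC d.2)
    rw [← mul_assoc, (blkK_commute hM c hd).eq, mul_assoc, (blkK_idem hM hmax.1.1.2).eq]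

/-! ## The main theorem -/

include hM in
/-- A block with abelian defect group, one simple module, as many characters as the defect group
has elements, agreeing on regular elements, has trivial inertial quotient. -/
theorem inertial_trivial_of_regBlock {ψ₀ : IrrCharacter A}
    (R : RegBlock p M B (Nat.card P) ψ₀) (hh : blockHeight p B (ψ₀ : A → ℂ) = 0)
    (hD : IsDefectGroup p M B P) (hmax : IsMaximalBrauerPair p M B P c)
    (hab : ∀ x ∈ P, ∀ y ∈ P, x * y = y * x) :
    ∀ t : A, t ∈ Subgroup.normalizer (P : Set A) → StabilizesBlock C[P] c t → t ∈ C[P] := by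
  classical
  haveI := isAlgClosed_resField hM
  have hB := R.block
  have hP := hmax.1.1.1
  -- the corner
  obtain ⟨m, σ, hσ, hσb⟩ := exists_simple hM hB
  have hm := simple_dim_pos hM hσ
  obtain ⟨e, hei, -, heB, heσ⟩ := exists_rank_one_idem hM hB R.rank hσ hσb ⟨0, hm⟩
  have hr : finrank (resField hM) (LinearMap.range (σ.asAlgebraHom e)) = 1 := by
    rw [heσ, LinearMap.range_smulRight_apply (by
      intro h
      have := LinearMap.congr_fun h (Pi.single ⟨0, hm⟩ 1)
      simp at this),
      finrank_span_singleton (Pi.single_ne_zero_iff.2 one_ne_zero)]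
  obtain ⟨N, a, b, hab'⟩ := exists_full hM hB R.rank hσ hσb hei heB hr
  obtain ⟨e', he'i, he'B, he'⟩ := exists_block_lift hM hB hei heB
  have he'1 : ∀ χ ∈ B, hatC hM (χ : A → ℂ) e' 1 = 1 := fun χ hχ => by
    have h := R.hatC_mul hM hσ hσb he'i he'B
    rw [he', hr, R.degree_eq hM hσ hσb, Nat.cast_one, mul_one] at h
    rw [R.hatC_eq hM he'i hχ]
    exact mul_right_cancel₀ (b := (m : ℂ)) (Nat.cast_ne_zero.2 hm.ne') (h.trans (one_mul _).symm)
  have hcomm : ∀ x y, e * x * e * (e * y * e) = e * y * e * (e * x * e) :=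
    he' ▸ corner_comm_red hM hB he'i he'B he'1
  -- its dimension
  have hdim : finrank (resField hM) (cornerSub e) = Nat.card P := by
    apply Nat.cast_injective (R := ℂ)
    rw [cornerSub, ← he', finrank_range_two_sided hM hB he'i he'i he'B,
      Finset.sum_congr rfl fun χ hχ => by rw [he'1 χ (Set.mem_toFinset.1 hχ), one_mul],
      Finset.sum_const, nsmul_eq_mul, mul_one, Set.toFinset_card, ← Nat.card_eq_fintype_card,
      R.card]
  -- an element of a defect class in the centralizer
  obtain ⟨y₀, hy₀, S₀, hS₀⟩ := isDefectGroup_iff.1 hD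
  have hyr : ¬ p ∣ orderOf y₀ := not_dvd_orderOf_defectClass hM hB hy₀
  have hyC : ∀ d ∈ P, d * y₀ = y₀ * d := by
    intro d hd
    rw [hS₀] at hd
    obtain ⟨z, -, rfl⟩ := hd
    exact (Subgroup.mem_centralizer_iff.1 z.2 y₀ rfl).symm
  -- the unit
  set cc : resField hM := res hM ((ψ₀ : A → ℂ) y₀) with hcc
  have hint : ∀ χ : IrrCharacter A, (χ : A → ℂ) y₀ ∈ locRing hM := fun χ =>
    isIntegral_mem_locRing hM (χ.2.isCharacter.isIntegral y₀)
  have hcc0 : cc ≠ 0 := fun h => charVal_defectClass_not_mem hM hB hy₀ R.mem hh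
    ((res_eq_zero_iff hM (hint ψ₀)).1 h)
  set s : OGA hM A := MonoidAlgebra.single y₀ 1 with hs
  set U : OGA hM A := ∑ i, liftC hM (b i) * s * liftC hM (a i) with hU
  have hUval : ∀ χ ∈ B, res hM (hatC hM (χ : A → ℂ) (e' * U) 1) = cc := by
    intro χ hχ
    set S : OGA hM A := ∑ i, liftC hM (a i) * e' * liftC hM (b i) with hS
    have e1 : hatC hM (χ : A → ℂ) (e' * U) 1 = hatC hM (χ : A → ℂ) (S * s) 1 := by
      obtain ⟨n, ρ, -, hρ⟩ := χ.2
      rw [← trace_repC hM hρ, ← trace_repC hM hρ, hU, hS, Finset.mul_sum, Finset.sum_mul,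
        map_sum, map_sum, map_sum, map_sum]
      refine Finset.sum_congr rfl fun i _ => ?_
      rw [trace_repC hM hρ, trace_repC hM hρ, ← mul_assoc,
        hatC_mul_comm hM χ (e' * (liftC hM (b i) * s)) (liftC hM (a i))]
      simp only [mul_assoc]
    have hredS : red hM (S * s) = red hM (oV hM (indVec B) * s) := by
      rw [map_mul, map_mul, hS, map_sum]
      simp only [map_mul, red_liftC, he', hab', red_oV hM (vInt_indVec hM hB)]
      rfl
    have h2 := hatC_sub_mem_of_red hM χ hredS
    rw [hatC_oV_mul hM hB s χ hχ] at h2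
    have e2 : hatC hM (χ : A → ℂ) s 1 = (χ : A → ℂ) y₀ := by
      rw [hatC, Finset.sum_eq_single y₀]
      · simp [hs]
      · intro g _ hg
        simp [hs, Finsupp.single_eq_of_ne hg]
      · simp
    rw [e2, ← e1] at h2
    rw [hcc, ← R.reg χ hχ y₀ hyr]
    exact (res_eq_iff hM (hatC_mem_locRing hM χ _) (hint χ)).2 h2
  have hTy : red hM (e' * U * e') = cornerTrace e a b (MonoidAlgebra.single y₀ 1) := by
    rw [cornerTrace_apply, map_mul, map_mul, he', hU, map_sum, Finset.mul_sum, Finset.sum_mul]
    refine Finset.sum_congr rfl fun i _ => ?_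
    rw [map_mul, map_mul, red_liftC, red_liftC, hs,
      show red hM (MonoidAlgebra.single y₀ 1) = MonoidAlgebra.single y₀ 1 by simp [red]]
  -- the Brauer map is injective on the centre
  have hkill : ∀ x : KGA hM A, (∀ g a, x.coeff (g * a * g⁻¹) = x.coeff a) →
      blkA hM B * x = x → brK P x = 0 → x = 0 := by
    intro x hx hxB hx0
    have hxc : ∀ z, x * z = z * x := fun z =>
      (commute_of_supported (H := ⊤) (mem_invAlg.2 fun g _ a => hx g a)
        fun g hg => absurd (Subgroup.mem_top g) hg).eq
    have hTz : ∀ w, cornerTrace e a b (x * w) = x * cornerTrace e a b w := by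
      intro w
      rw [cornerTrace_apply, cornerTrace_apply, Finset.mul_sum]
      refine Finset.sum_congr rfl fun i _ => ?_
      rw [← mul_assoc (b i), ← hxc (b i), mul_assoc x (b i) w, mul_assoc x (b i * w) (a i),
        ← mul_assoc e x, ← hxc e, mul_assoc x, mul_assoc x]
    have hxy : x * cornerTrace e a b (MonoidAlgebra.single y₀ 1) = 0 := by
      rw [← hTz]
      refine MonoidAlgebra.ext (Finsupp.ext fun h => ?_)
      letI : MulAction P A := MulAction.compHom A ((MulAut.conj).comp P.subtype)
      have hsm : ∀ (q : P) (g : A), q • g = (q : A) * g * (q : A)⁻¹ := fun _ _ => rfl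
      conv_lhs => rw [← MonoidAlgebra.sum_coeff_single x, Finsupp.sum_fintype _ _ (by simp),
        Finset.sum_mul, map_sum, MonoidAlgebra.coeff_sum, Finsupp.finset_sum_apply]
      rw [sum_eq_sum_fixed_of_pgroup hP _ fun (q : P) g => ?_]
      · refine (Finset.sum_eq_zero fun g hg => ?_).trans rfl
        have hgC : g ∈ C[P] := Subgroup.mem_centralizer_iff.2 fun q hq => by
          have := (Finset.mem_filter.1 hg).2 ⟨q, hq⟩
          rw [hsm] at this
          exact mul_inv_eq_iff_eq_mul.1 this
        rw [← coeff_brK_of_mem x hgC, hx0]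
        simp
      · rw [hsm, hx]
        have e3 : (MonoidAlgebra.single ((q : A) * g * (q : A)⁻¹) (x.coeff g) : KGA hM A) *
            MonoidAlgebra.single y₀ 1 = MonoidAlgebra.single (q : A) 1 *
              ((MonoidAlgebra.single g (x.coeff g) * MonoidAlgebra.single y₀ 1) *
                MonoidAlgebra.single (q : A)⁻¹ 1) := by
          have e4 : y₀ * (q : A)⁻¹ = (q : A)⁻¹ * y₀ :=
            (hyC _ (inv_mem q.2)).symm
          simp only [MonoidAlgebra.single_mul_single, one_mul, mul_one, mul_assoc, e4]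
        rw [e3, cornerTrace_comm hM hei heB hab' hcomm, mul_assoc,
          MonoidAlgebra.single_mul_single (q : A)⁻¹ (q : A), inv_mul_cancel, one_mul,
          ← MonoidAlgebra.one_def, mul_one]
    have hxe : x * e = 0 := by
      rw [← he']
      exact eq_zero_of_corner_unit hM hB he'i he'B he'1 U hcc0 hUval (hTy ▸ hxy)
    rw [← hxB, ← hab', Finset.sum_mul]
    refine Finset.sum_eq_zero fun i _ => ?_
    rw [mul_assoc, ← hxc (b i), ← mul_assoc, mul_assoc (a i), ← hxc e, hxe, mul_zero, zero_mul]
  -- the images lie in the translates of the root idempotent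
  have hPC : P ≤ C[P] := le_centralizer_of_abelian hab le_rfl
  have hrange : LinearMap.range (rootSum hM P c) = rootCenter hM P c := by
    refine Submodule.eq_of_le_of_finrank_le ?_ ?_
    · rintro _ ⟨f, rfl⟩
      exact rootSum_mem hM hmax hab f
    · refine (finrank_rootCenter_le hM hmax hab).trans (le_of_eq ?_)
      rw [LinearMap.finrank_range_of_inj (rootSum_injective hM hP hmax.1.1.2),
        Module.finrank_fintype_fun_eq_card, Nat.card_eq_fintype_card]
  intro t htN htS
  have htP : P.map (MulAut.conj t).toMonoidHom = P := map_conj_eq_self htN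
  have htc : conjA (resField hM) t (blkK hM P c) = blkK hM P c := by
    have h1 := (conjIdx_eq_self_iff c t).2 ⟨htN, htS⟩
    rw [conjIdx_eq htP] at h1
    rw [← blkK_conjSet hM htP]
    exact congrArg (blkK hM P) (eq_of_heq (Sigma.ext_iff.1 h1).2)
  let π : P → P := fun d =>
    ⟨t * d * t⁻¹, (Subgroup.mem_normalizer_iff.1 htN (d : A)).1 d.2⟩
  have hπ : Function.Bijective π := Finite.injective_iff_bijective.1 fun d d' h =>
    Subtype.ext (mul_left_cancel (mul_right_cancel (congrArg Subtype.val h)))
  let F : Submodule (resField hM) (P → resField hM) :=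
    LinearMap.eqLocus (LinearMap.funLeft (resField hM) (resField hM) π) LinearMap.id
  let Φ : KGA hM A →ₗ[resField hM] KGA hM A :=
    { toFun := fun x => brK P x * blkK hM P c
      map_add' := fun v w => by rw [brK_add, add_mul]
      map_smul' := fun r w => by rw [brK_smul, smul_mul_assoc]; rfl }
  have hτ : ∀ (τ : Module.Dual (resField hM) (cornerSub e)) (x y : KGA hM A),
      ∀ (hx : e * x * e * (e * y * e) ∈ cornerSub e) (hy : e * y * e * (e * x * e) ∈ cornerSub e),
        τ ⟨_, hx⟩ = τ ⟨_, hy⟩ := fun τ x y _ _ => congrArg τ (Subtype.ext (hcomm x y))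
  have hinj : Function.Injective (Φ ∘ₗ centElt (e := e) a b) := by
    refine (injective_iff_map_eq_zero _).2 fun τ h => ?_
    obtain ⟨h1, h2⟩ := centElt_mem hei heB hab' (hτ τ)
    exact centElt_eq_zero hei heB hab' (hτ τ)
      (hkill _ h1 h2 (brK_eq_zero_of_root hM hmax h1 h2 h))
  have hle : LinearMap.range (Φ ∘ₗ centElt (e := e) a b) ≤ F.map (rootSum hM P c) := by
    rintro _ ⟨τ, rfl⟩
    obtain ⟨h1, h2⟩ := centElt_mem hei heB hab' (hτ τ)
    set x := centElt (e := e) a b τ with hx
    have hbI : brK P x ∈ invAlg (resField hM) C[P] :=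
      brK_mem_invAlg (Subgroup.centralizer_le_normalizer _) (mem_invAlg.2 fun g _ a => h1 g a)
    have hcom := blkK_commute hM c (brK_idempotent P x)
    have hmem : brK P x * blkK hM P c ∈ rootCenter hM P c := by
      refine ⟨fun g hg => ?_, fun g hg a => ?_, ?_⟩
      · rw [coeff_mul_sum, Finset.sum_eq_zero fun h _ => ?_]
        by_cases hh : h ∈ C[P]
        · rw [blkK, coeff_vK, extF_of_notMem _ fun h' => hg (by simpa using mul_mem hh h'),
            res_zero, mul_zero]
        · rw [coeff_brK_of_notMem x hh, zero_mul]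
      · exact mem_invAlg.1 (mul_mem hbI (vK_mem_invAlg hM (invOn_self _))) g hg a
      · rw [← mul_assoc, hcom.eq, mul_assoc, (blkK_idem hM hmax.1.1.2).eq]
    rw [← hrange] at hmem
    obtain ⟨f, hf⟩ := hmem
    refine ⟨f, ?_, hf⟩
    have hconj : conjA (resField hM) t (rootSum hM P c f) = rootSum hM P c f := by
      rw [hf, map_mul, htc, ← brK_conjA, htP, conjA_of_central hM h1]
    have heq : conjA (resField hM) t (rootSum hM P c (f ∘ π)) = rootSum hM P c f := by
      rw [rootSum_apply, rootSum_apply, map_sum]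
      refine Fintype.sum_bijective π hπ _ _ fun d => ?_
      rw [map_smul, map_mul, htc]
      congr 2
      rw [conjA]
      simp [π, MulAut.conj_apply]
    show f ∘ π = f
    exact rootSum_injective hM hP hmax.1.1.2
      ((conjA (resField hM) t).injective (heq.trans hconj.symm))
  have htop : F = ⊤ := by
    refine Submodule.eq_top_of_finrank_eq (le_antisymm (Submodule.finrank_le _) ?_)
    rw [Module.finrank_fintype_fun_eq_card, ← Nat.card_eq_fintype_card, ← hdim,
      ← Subspace.dual_finrank_eq, ← LinearMap.finrank_range_of_inj hinj]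
    exact (Submodule.finrank_mono hle).trans
      (le_of_eq (LinearEquiv.finrank_eq
        (Submodule.equivMapOfInjective _ (rootSum_injective hM hP hmax.1.1.2) F).symm))
  refine Subgroup.mem_centralizer_iff.2 fun d hd => ?_
  have h : (Pi.single (π ⟨d, hd⟩) (1 : resField hM) : P → resField hM) ∈ F :=
    htop ▸ Submodule.mem_top
  have h2 := congrFun (show (Pi.single (π ⟨d, hd⟩) (1 : resField hM) : P → resField hM) ∘ π =
    Pi.single (π ⟨d, hd⟩) 1 from h) ⟨d, hd⟩
  have h3 : π ⟨d, hd⟩ = ⟨d, hd⟩ := by
    by_contra hne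
    rw [Function.comp_apply, Pi.single_eq_same, Pi.single_eq_of_ne (Ne.symm hne)] at h2
    exact one_ne_zero h2
  exact (mul_inv_eq_iff_eq_mul.1 (congrArg Subtype.val h3)).symm

include hM in
/-- With abelian defect group a block has one degree exactly when it is nilpotent. -/
theorem equal_degree_iff_nilpotent {D : Subgroup A} (hB : IsPBlock M B)
    (hD : IsDefectGroup p M B D) (hab : ∀ x ∈ D, ∀ y ∈ D, x * y = y * x) :
    (∃ n : ℕ, ∀ χ ∈ B, charDegree (χ : A → ℂ) = n) ↔ IsNilpotentBlock p M B := by
  constructor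
  · rintro ⟨n, hn⟩
    obtain ⟨e, hmax⟩ := exists_pair_at_defect hM hB hD
    obtain ⟨ψ₀, R⟩ := exists_regBlock_of_equal_degree hM hB hn
    rw [← card_defectGroup hM hB hD] at R
    refine (nilpotent_iff_inertial hM hab hmax).2 (inertial_trivial_of_regBlock hM R ?_ hD hmax hab)
    obtain ⟨ψ, hψ, hmin⟩ := exists_minVal (p := p) (nonempty_of_isPBlock hM hB)
    rw [blockHeight_eq_zero_iff R.mem, hn ψ₀ R.mem, ← hn ψ hψ, hmin]
  · intro hnil
    obtain ⟨hl, hk⟩ := rank_one_of_nilpotent_abelian hM hnil hD hab
    rw [card_defectGroup hM hB hD] at hk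
    obtain ⟨ψ, hψ⟩ := nonempty_of_isPBlock hM hB
    refine ⟨charDegree (ψ : A → ℂ), fun χ hχ => ?_⟩
    have h := reg_eq_of_rank_one hM hB hl hk hχ hψ
      (x := 1) (by simp [IsPRegular, (Fact.out : p.Prime).ne_one])
    rw [apply_one_eq_charDegree, apply_one_eq_charDegree] at h
    exact_mod_cast h

end Cfsg.Lib.Block
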