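import Cfsg.Agent.Lib.Block.CoverApps
import Cfsg.Agent.Lib.Block.CoverStab
import Cfsg.Agent.Lib.Block.CoverConstituent
import Cfsg.Agent.Lib.Block.CentralProduct
import Cfsg.Agent.Lib.Char.Ramification
import Cfsg.Agent.Lib.Char.Linear

/-!
# Blocks with a normal defect group: abelian defect group iff all heights vanish
-/

set_option autoImplicit false
set_option linter.unusedSectionVars false
set_option maxHeartbeats 800000

namespace Cfsg.Lib.Block

open Cfsg
open scoped ComplexConjugate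

universe u

variable {p : ℕ} [hp : Fact p.Prime] {M : Ideal AlgInt}

include hp in
/-- With `G = P C(P)` the valuations of the degrees are shifted those of `P`. -/
theorem central_heights_iff {H : Type u} [Group H] [Fintype H] (hM : IsPModular p M)
    {P : Subgroup H} (hP : IsPGroup p P) (hH : P ⊔ Subgroup.centralizer (P : Set H) = ⊤)
    {B : Set (IrrCharacter H)} (hB : IsPBlock M B) (hD : IsDefectGroup p M B P) :
    (∀ θ ∈ B, blockHeight p B (θ : H → ℂ) = 0) ↔ ∀ a ∈ P, ∀ c ∈ P, a * c = c * a := by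
  classical
  haveI := normal_of_sup_centralizer hH
  haveI := Fintype.ofFinite P
  obtain ⟨χ, hχ, htriv⟩ := exists_trivial_on_mem hM hP hB
  obtain ⟨-, hstruct⟩ := centralProduct_block hM hP hH hB hD
  obtain ⟨F, -, hF, hmem⟩ := hstruct χ hχ htriv
  have hv : ∀ ζ : IrrCharacter P, (charDegree (F ζ : H → ℂ)).factorization p =
      (charDegree (ζ : P → ℂ)).factorization p + (charDegree (χ : H → ℂ)).factorization p := by
    intro ζ
    rw [charDegree_eq_of_apply_one (n := charDegree (ζ : P → ℂ) * charDegree (χ : H → ℂ)) (by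
      rw [hF, secChar_regular _ _ (by rw [orderOf_one]; exact hp.out.not_dvd_one),
        apply_one_eq_charDegree, apply_one_eq_charDegree, Nat.cast_mul]),
      Nat.factorization_mul (charDegree_pos ζ).ne' (charDegree_pos χ).ne', Finsupp.add_apply]
  have hone : charDegree ((trivChar P : IrrCharacter P) : P → ℂ) = 1 :=
    charDegree_eq_of_apply_one (by simp [trivChar_coe])
  have hmin : sInf ((fun θ : IrrCharacter H => (charDegree (θ : H → ℂ)).factorization p) '' B) =
      (charDegree (χ : H → ℂ)).factorization p := by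
    refine le_antisymm (Nat.sInf_le ⟨χ, hχ, rfl⟩) (le_csInf ⟨_, χ, hχ, rfl⟩ ?_)
    rintro _ ⟨θ, hθ, rfl⟩
    obtain ⟨ζ, rfl⟩ := (hmem θ).1 hθ
    simp only [hv]
    omega
  have hh : ∀ ζ, blockHeight p B (F ζ : H → ℂ) = (charDegree (ζ : P → ℂ)).factorization p := by
    intro ζ
    simp only [blockHeight, hmin, hv]
    omega
  rw [show (∀ a ∈ P, ∀ c ∈ P, a * c = c * a) ↔ ∀ a c : P, a * c = c * a from
    ⟨fun h a c => Subtype.ext (h a a.2 c c.2),
      fun h a ha c hc => congrArg Subtype.val (h ⟨a, ha⟩ ⟨c, hc⟩)⟩, Char.comm_iff_all_linear]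
  constructor
  · intro h ζ
    have h0 := h (F ζ) ((hmem _).2 ⟨ζ, rfl⟩)
    rw [hh] at h0
    obtain ⟨k, hk⟩ := hP.exists_card_eq
    obtain ⟨i, -, hi⟩ := (Nat.dvd_prime_pow hp.out).1 (hk ▸ charDegree_dvd_card ζ)
    rw [hi, hp.out.factorization_pow, Finsupp.single_eq_same] at h0
    rw [apply_one_eq_charDegree, hi, h0, pow_zero, Nat.cast_one]
  · intro h θ hθ
    obtain ⟨ζ, rfl⟩ := (hmem θ).1 hθ
    rw [hh, charDegree_eq_of_apply_one (n := 1) (by rw [h ζ, Nat.cast_one]), Nat.factorization_one,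
      Finsupp.zero_apply]

variable {G : Type u} [Group G] [Fintype G]

include hp in
/-- Reynolds: a normal defect group is abelian exactly when all heights vanish. -/
theorem normal_defect_abelian_iff (hM : IsPModular p M) {B : Set (IrrCharacter G)}
    (hB : IsPBlock M B) {P : Subgroup G} [hPn : P.Normal] (hP : IsDefectGroup p M B P) :
    (∀ a ∈ P, ∀ c ∈ P, a * c = c * a) ↔ ∀ χ ∈ B, blockHeight p B (χ : G → ℂ) = 0 := by
  classical
  have hPp : IsPGroup p P := isPGroup_defectGroup hM hP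
  have hconj : ∀ x : G, P.map (MulAut.conj x).toMonoidHom = P := fun x => by
    refine Subgroup.eq_of_le_of_card_ge ?_ (le_of_eq
      (Subgroup.card_map_of_injective (MulAut.conj x).injective).symm)
    rintro _ ⟨g, hg, rfl⟩
    exact hPn.conj_mem g hg x
  set H : Subgroup G := P ⊔ Subgroup.centralizer (P : Set G) with hH
  haveI : (Subgroup.centralizer (P : Set G)).Normal := inferInstance
  haveI hHn : H.Normal := Subgroup.sup_normal _ _
  haveI := Fintype.ofFinite H
  have hPH : P ≤ H := le_sup_left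
  obtain ⟨χ₀, hχ₀⟩ := nonempty_of_isPBlock hM hB
  obtain ⟨θ₀, hθ₀⟩ := Char.exists_irr_constituent_res H χ₀.2
  set b := blockOf M (θ₀ : H → ℂ) with hbdef
  have hb : IsPBlock M b := isPBlock_blockOf θ₀
  obtain ⟨D, hD, hDb, -⟩ := exists_defectGroup_meet hM hb hB
    ⟨χ₀, hχ₀, θ₀, self_mem_blockOf hM θ₀, hθ₀⟩
  obtain ⟨x, hx⟩ := exists_conj_defectGroup hM hB hP hD
  rw [hconj] at hx
  subst hx
  rw [inf_eq_left.2 hPH] at hDb
  set P' := P.subgroupOf H with hP'
  have hP'p : IsPGroup p P' := hPp.of_equiv (Subgroup.subgroupOfEquivOfLe hPH).symm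
  have hH' : P' ⊔ Subgroup.centralizer (P' : Set H) = ⊤ := by
    rw [eq_top_iff]
    rintro ⟨g, hg⟩ -
    obtain ⟨u, hu, c, hc, rfl⟩ := Subgroup.mem_sup_of_normal_left.1 hg
    have hcH : c ∈ H := Subgroup.mem_sup_right hc
    rw [show (⟨u * c, hg⟩ : H) = ⟨u, hPH hu⟩ * ⟨c, hcH⟩ from rfl]
    refine Subgroup.mul_mem_sup (Subgroup.mem_subgroupOf.2 hu) ?_
    exact Subgroup.mem_centralizer_iff.2 fun z hz => Subtype.ext
      (Subgroup.mem_centralizer_iff.1 hc (z : G) (Subgroup.mem_subgroupOf.1 hz))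
  -- the stabiliser of `b`
  obtain ⟨T, hHT, hT⟩ := exists_blockStab (G := G) hM hb
  haveI := Fintype.ofFinite T
  obtain ⟨B', hB', hcov', hind⟩ := hT.exists_corr hHT hM hb hB
    ⟨χ₀, hχ₀, θ₀, self_mem_blockOf hM θ₀, hθ₀⟩
  obtain ⟨B₁, hi, -, -, hmemB⟩ := hT.exists_induced hHT hM hb hB' hcov'
  obtain rfl := isInducedBlock_unique hM hi hind
  haveI : (H.subgroupOf T).Normal := hHn.subgroupOf T
  haveI := Fintype.ofFinite (H.subgroupOf T)
  set e := Subgroup.subgroupOfEquivOfLe hHT with he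
  have hbT := isPBlock_pullSet (M := M) e hb
  have hst := hT.isStable_pullSet hHT
  obtain ⟨hdef, hheight⟩ := hT.defect_height hHT hM hb hB' hcov' hind
  obtain ⟨B'', hB'', hcov'', hd''⟩ := hst.exists_weaklyRegular hM hbT
  obtain ⟨ψ₁, hψ₁, θ₁, hθ₁, hc₁⟩ := hcov'
  have hcovT : ∃ ψ ∈ B', ∃ η ∈ pullSet e b,
      classInner (fun n : H.subgroupOf T => (ψ : T → ℂ) n) (η : H.subgroupOf T → ℂ) ≠ 0 :=
    ⟨ψ₁, hψ₁, compIrr e θ₁, mem_pullSet.2 hθ₁,
      (Char.classInner_resTo H (θ₁ : H → ℂ) hHT (ψ₁ : T → ℂ)).trans_ne hc₁⟩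
  have hsame : B'' = B' := by
    obtain ⟨ψ, hψ, η, hη, hc⟩ := hcov''
    obtain ⟨ψ', hψ', η', hη', hc'⟩ := hcovT
    by_contra hne
    have hn : ψ ∉ B' := fun h => hne (isPBlock_eq_of_mem hM hB'' hB' hψ h)
    have hPT : P ≤ T := hPH.trans hHT
    have key := vec_sub_mem_of_supported (H.subgroupOf T) hM (f := zc (indVec B'))
      (fun g x => zc_conj_invariant _ g x) (vInt_indVec hM hB') (fun g hg => by
        rw [zc_indVec]
        refine blockCoeff_eq_zero_of_notMem (Q := P.subgroupOf T) hM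
          (hPp.of_equiv (Subgroup.subgroupOfEquivOfLe hPT).symm) hB' fun h => hg ?_
        refine Subgroup.mem_subgroupOf.2 (Subgroup.mem_sup_right
          (Subgroup.mem_centralizer_iff.2 fun z hz => ?_))
        exact congrArg Subtype.val (Subgroup.mem_centralizer_iff.1 h (⟨z, hPT hz⟩ : T)
          (Subgroup.mem_subgroupOf.2 hz))) (χ := ψ') (χ' := ψ) fun n => by
      rw [centralChar_eq_of_constituent (H.subgroupOf T) hc' n,
        centralChar_eq_of_constituent (H.subgroupOf T) hc n]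
      exact inducedCentralChar_congr (H.subgroupOf T) hM (sameBlock_of_mem hM hbT hη' hη) (n : T)
    rw [congrFun (vec_zc _) ψ', congrFun (vec_zc _) ψ, indVec, indVec, if_pos hψ', if_neg hn,
      sub_zero] at key
    exact not_memLocalIdeal_one hM key
  subst hsame
  have hidx : ¬ p ∣ (H.subgroupOf T).index := by
    intro hdvd
    have h1 := hp.out.factorization_pos_of_dvd Subgroup.index_ne_zero_of_finite hdvd
    rw [blockDefect_pullSet] at hd''
    have h2 := card_defectGroup hM hB hP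
    have h3 := card_defectGroup hM hb hDb
    rw [Nat.card_congr (Subgroup.subgroupOfEquivOfLe hPH).toEquiv, h2] at h3
    have h4 := Nat.pow_right_injective hp.out.two_le h3
    omega
  -- degrees in the stabiliser
  have hvdeg : ∀ ψ : IrrCharacter T, ∀ θ : IrrCharacter H,
      LiesOver hHT ψ θ → (charDegree (ψ : T → ℂ)).factorization p =
        (charDegree (θ : H → ℂ)).factorization p := by
    intro ψ θ hc
    obtain ⟨hdvd, hq⟩ := Char.degree_ratio_dvd_index (H.subgroupOf T) ψ.2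
      (θ := (compIrr e θ : H.subgroupOf T → ℂ)) (compIrr e θ).2
      ((Char.classInner_resTo H (θ : H → ℂ) hHT (ψ : T → ℂ)).trans_ne hc)
      (c := charDegree (ψ : T → ℂ)) (d := charDegree (θ : H → ℂ))
      (apply_one_eq_charDegree ψ) (by rw [compIrr_apply, map_one, apply_one_eq_charDegree])
    obtain ⟨m, hm⟩ := hdvd
    have hθp := charDegree_pos θ
    rw [hm, Nat.mul_div_cancel_left _ hθp] at hq
    have hm0 : m ≠ 0 := fun h => by
      rw [h, mul_zero] at hm; exact (charDegree_pos ψ).ne' hm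
    rw [hm, Nat.factorization_mul hθp.ne' hm0, Finsupp.add_apply,
      Nat.factorization_eq_zero_of_not_dvd (fun h => hidx (h.trans hq)), add_zero]
  have hcov₂ : ∃ ψ ∈ B'', ∃ θ ∈ b, LiesOver hHT ψ θ := ⟨ψ₁, hψ₁, θ₁, hθ₁, hc₁⟩
  have hall := fun ψ (hψ : ψ ∈ B'') => hT.all_over hHT hM hb hB'' hcov₂ hψ
  have hsur : ∀ θ ∈ b, ∃ ψ ∈ B'', LiesOver hHT ψ θ := by
    intro θ hθ
    obtain ⟨ψ, hψ, hc⟩ := exists_over_of_covered (H.subgroupOf T) hM hbT hB'' hcovT
      (θ := compIrr e θ) (mem_pullSet.2 hθ)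
    exact ⟨ψ, hψ, (Char.classInner_resTo H (θ : H → ℂ) hHT (ψ : T → ℂ)).symm.trans_ne hc⟩
  have himg : (fun ψ : IrrCharacter T => (charDegree (ψ : T → ℂ)).factorization p) '' B'' =
      (fun θ : IrrCharacter H => (charDegree (θ : H → ℂ)).factorization p) '' b := by
    ext n
    constructor
    · rintro ⟨ψ, hψ, rfl⟩
      obtain ⟨θ, hθ, hc⟩ := hall ψ hψ
      exact ⟨θ, hθ, (hvdeg ψ θ hc).symm⟩
    · rintro ⟨θ, hθ, rfl⟩
      obtain ⟨ψ, hψ, hc⟩ := hsur θ hθ
      exact ⟨ψ, hψ, hvdeg ψ θ hc⟩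
  have hTH : (∀ ψ ∈ B'', blockHeight p B'' (ψ : T → ℂ) = 0) ↔
      ∀ θ ∈ b, blockHeight p b (θ : H → ℂ) = 0 := by
    constructor
    · intro h θ hθ
      obtain ⟨ψ, hψ, hc⟩ := hsur θ hθ
      have := h ψ hψ
      simp only [blockHeight, himg, hvdeg ψ θ hc] at this ⊢
      exact this
    · intro h ψ hψ
      obtain ⟨θ, hθ, hc⟩ := hall ψ hψ
      have := h θ hθ
      simp only [blockHeight, himg, hvdeg ψ θ hc] at this ⊢
      exact this
  have hGT : (∀ χ ∈ B₁, blockHeight p B₁ (χ : G → ℂ) = 0) ↔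
      ∀ ψ ∈ B'', blockHeight p B'' (ψ : T → ℂ) = 0 := by
    constructor
    · intro h ψ hψ
      obtain ⟨χ, hχ, -, hh⟩ := hheight ψ hψ
      rw [← hh]
      exact h χ hχ
    · intro h χ hχ
      obtain ⟨ψ, hψ, he⟩ := (hmemB χ).1 hχ
      obtain ⟨χ', hχ', he', hh⟩ := hheight ψ hψ
      rw [show χ = χ' from Subtype.ext (he.trans he'.symm), hh]
      exact h ψ hψ
  rw [hGT, hTH, central_heights_iff hM hP'p hH' hb hDb]
  exact ⟨fun h a ha c hc => Subtype.ext (h (a : G) ha (c : G) hc),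
    fun h a ha c hc => congrArg Subtype.val (h ⟨a, hPH ha⟩ ha ⟨c, hPH hc⟩ hc)⟩

end Cfsg.Lib.Block
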