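import Cfsg.Agent.Lib.Block.EqualDegreeMain
import Cfsg.Agent.Lib.Block.InflateDefect
import Cfsg.Agent.Lib.Block.Reynolds
import Cfsg.Agent.Lib.Block.StarValues
import Cfsg.Agent.Lib.Block.NilpotentPairs
import Cfsg.Agent.Lib.Char.PrimitiveClassSize
import Cfsg.Agent.Lib.Coprime.Action
import Cfsg.Agent.Lib.PGroup.Basic
import Cfsg.Agent.Lib.FusionSys.Alperin
import Cfsg.Agent.Lib.FusionSys.Nilpotent

/-!
# Normal defect groups and the degrees of height zero

A block with normal defect group is nilpotent exactly when its characters of height zero have one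
degree.  The inertial group is compared with that of a block of the quotient by the derived
subgroup of the defect group, whose defect group is abelian.
-/

set_option autoImplicit false
set_option linter.unusedSectionVars false
set_option linter.style.haveILetI false
set_option maxHeartbeats 1000000

namespace Cfsg.Lib.Block

open Cfsg
open scoped ComplexConjugate commutatorElement

universe u

local notation "C[" Q "]" => Subgroup.centralizer (SetLike.coe Q)

noncomputable local instance (priority := high) fintypeSubgroupEqualHeightZero {A : Type u}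
    [Group A] [Fintype A] (H : Subgroup A) : Fintype H := Fintype.ofFinite H

variable {p : ℕ} [hp : Fact p.Prime] {M : Ideal AlgInt} {G : Type u} [Group G] [Fintype G]

include hp in
/-- The blocks of constituents on the centralizer of a normal `p`-subgroup give pairs. -/
theorem isBrauerPairOf_of_constituent (hM : IsPModular p M) {P : Subgroup G} [P.Normal]
    (hP : IsPGroup p P) {B : Set (IrrCharacter G)} (hB : IsPBlock M B) {χ : IrrCharacter G}
    (hχ : χ ∈ B) {θ : IrrCharacter C[P]}
    (hc : classInner (fun n : C[P] => (χ : G → ℂ) n) (θ : C[P] → ℂ) ≠ 0) :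
    IsBrauerPairOf p M B P (blockOf M (θ : C[P] → ℂ)) := by
  classical
  have hcv : ∀ η : IrrCharacter C[P],
      classInner (fun n : C[P] => (χ : G → ℂ) n) (η : C[P] → ℂ) ≠ 0 →
      brauerOmega P (blockCoeff B) (η : C[P] → ℂ) = 1 := by
    intro η hη
    have hf : ∀ g x : G, blockCoeff B (x * g * x⁻¹) = blockCoeff B g := fun g x => by
      rw [← zc_indVec, ← zc_indVec]; exact zc_conj_invariant _ g x
    have hsum : ∑ g : G, blockCoeff B g * (χ : G → ℂ) g = (χ : G → ℂ) 1 := by
      have h := congrFun (vec_zc (indVec B)) χ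
      rw [vec, indVec, if_pos hχ, div_eq_one_iff_eq χ.2.apply_one_ne_zero] at h
      rw [← h]
      exact Finset.sum_congr rfl fun g _ => by rw [zc_indVec]
    have hres : ∑ n : C[P], blockCoeff B n * (χ : G → ℂ) n = (χ : G → ℂ) 1 := by
      rw [← hsum, ← Finset.sum_subtype (Finset.univ.filter fun g => g ∈ C[P])
        (fun g => by simp) (fun g => blockCoeff B g * (χ : G → ℂ) g), Finset.sum_filter]
      refine Finset.sum_congr rfl fun g _ => ?_
      split_ifs with h
      · rfl
      · rw [blockCoeff_eq_zero_of_notMem hM hP hB h, zero_mul]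
    have hratio : ∀ n : C[P], (χ : G → ℂ) n / (χ : G → ℂ) 1 =
        indFun C[P] (η : C[P] → ℂ) n / indFun C[P] (η : C[P] → ℂ) 1 := fun n => by
      have h := centralChar_eq_of_constituent C[P] hη n
      rw [inducedCentralChar_eq_ind] at h
      simp only [centralChar, mul_div_assoc] at h
      exact mul_left_cancel₀ (Nat.cast_ne_zero.2 Subgroup.index_ne_zero_of_finite) h
    have hone : indFun C[P] (η : C[P] → ℂ) 1 = (C[P].index : ℂ) * (η : C[P] → ℂ) 1 :=
      Char.indFun_apply_one _ _
    have hind : ∑ n : C[P], blockCoeff B n * indFun C[P] (η : C[P] → ℂ) n =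
        (C[P].index : ℂ) * ∑ n : C[P], blockCoeff B n * (η : C[P] → ℂ) n := by
      have e : ∀ y : G, ∑ n : C[P], blockCoeff B n *
          extendByZero C[P] (η : C[P] → ℂ) (y⁻¹ * (n : G) * y) =
            ∑ n : C[P], blockCoeff B n * (η : C[P] → ℂ) n := fun y => by
        refine Fintype.sum_equiv (MulAut.conjNormal y⁻¹ : C[P] ≃* C[P]).toEquiv _ _ fun n => ?_
        have hm : y⁻¹ * (n : G) * y ∈ C[P] := by
          simpa using Subgroup.Normal.conj_mem (inferInstance : (C[P]).Normal) _ n.2 y⁻¹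
        have hn : (MulAut.conjNormal y⁻¹ : C[P] ≃* C[P]) n = ⟨y⁻¹ * (n : G) * y, hm⟩ :=
          Subtype.ext (by simp)
        rw [show ((MulAut.conjNormal y⁻¹ : C[P] ≃* C[P]).toEquiv n) =
          MulAut.conjNormal y⁻¹ n from rfl, hn, Char.extendByZero_of_mem _ _ hm]
        exact congrArg (· * _) ((hf _ y⁻¹).symm.trans (congrArg _ (by rw [inv_inv])))
      have e' : ∀ n : C[P], blockCoeff B n * indFun C[P] (η : C[P] → ℂ) n =
          (Nat.card C[P] : ℂ)⁻¹ * ∑ y : G, blockCoeff B n *
            extendByZero C[P] (η : C[P] → ℂ) (y⁻¹ * (n : G) * y) := fun n => by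
        rw [indFun, mul_left_comm, Finset.mul_sum]
      rw [Finset.sum_congr rfl fun n _ => e' n, ← Finset.mul_sum, Finset.sum_comm,
        Finset.sum_congr rfl fun y _ => e y, Finset.sum_const, Finset.card_univ,
        nsmul_eq_mul, ← Nat.card_eq_fintype_card, ← Subgroup.index_mul_card C[P], Nat.cast_mul]
      field_simp [Char.card_cast_ne_zero (G := C[P])]
    have hη1 := η.2.apply_one_ne_zero
    rw [brauerOmega, finsum_eq_sum_of_fintype, ← Finset.sum_div,
      ← mul_div_mul_left _ _ (show (C[P].index : ℂ) ≠ 0 from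
        Nat.cast_ne_zero.2 Subgroup.index_ne_zero_of_finite), ← hind, ← hone, Finset.sum_div]
    simp only [mul_div_assoc, ← hratio]
    simp only [← mul_div_assoc, ← Finset.sum_div]
    rw [hres, div_self χ.2.apply_one_ne_zero]
  refine (isBrauerPairOf_iff_brU hM B P _).2 ⟨⟨hP, isPBlock_blockOf θ⟩, hB, fun η hη => ?_⟩
  have hpair : res hM (brU P B θ) = 1 := by
    have h := hcv θ hc
    have e : brU P B θ = brauerOmega P (blockCoeff B) (θ : C[P] → ℂ) := by
      have hv := congrFun (vec_zc (brU P B)) θ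
      rw [← hv, vec, brauerOmega, finsum_eq_sum_of_fintype, Finset.sum_div]
      refine Finset.sum_congr rfl fun n _ => ?_
      have h := extF_brU P B (n : G)
      rw [if_pos n.2, extF_of_mem _ n.2] at h
      rw [← h]
    rw [e, h, res_one]
  rw [← hpair]
  exact res_apply_eq hM (vInt_brU hM P hB) (sameBlock_of_mem hM (isPBlock_blockOf θ) hη
    (self_mem_blockOf hM θ))

include hp in
/-- A `p`-regular element centralizing the abelianization of a normal `p`-subgroup centralizes
the subgroup. -/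
theorem mem_centralizer_of_mod_derived {D : Subgroup G} [D.Normal] (hD : IsPGroup p D) {x : G}
    (hx : ¬ p ∣ orderOf x)
    (h : ∀ d ∈ D, x * d * x⁻¹ * d⁻¹ ∈ (⁅D, D⁆ : Subgroup G)) : x ∈ C[D] := by
  obtain ⟨k, hk⟩ := hD.exists_card_eq
  have hcop : (Nat.card (Subgroup.zpowers x)).Coprime (Nat.card D) := by
    rw [Nat.card_zpowers, hk]
    exact ((hp.out.coprime_iff_not_dvd.2 hx).symm).pow_right k
  have hle : ⁅D, Subgroup.zpowers x⁆ ≤ (⁅D, D⁆ : Subgroup G) := by
    haveI : (⁅D, D⁆ : Subgroup G).Normal := Subgroup.commutator_normal D D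
    have hx' : ∀ d ∈ D, QuotientGroup.mk' (⁅D, D⁆ : Subgroup G) x *
        QuotientGroup.mk' _ d = QuotientGroup.mk' _ d * QuotientGroup.mk' _ x := fun d hd => by
      have h' := (QuotientGroup.eq_one_iff _).2 (h d hd)
      rw [← QuotientGroup.mk'_apply, map_mul, map_mul, map_mul, map_inv, map_inv,
        mul_inv_eq_one, mul_inv_eq_iff_eq_mul] at h'
      exact h'
    refine Subgroup.commutator_le.2 fun d hd y hy => ?_
    obtain ⟨n, rfl⟩ := Subgroup.mem_zpowers_iff.1 hy
    rw [← QuotientGroup.eq_one_iff, ← QuotientGroup.mk'_apply, map_commutatorElement,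
      commutatorElement_eq_one_iff_commute, map_zpow]
    exact (show Commute _ _ from (hx' d hd)).zpow_left n |>.symm
  have hsol : Group.IsSolvable (Subgroup.zpowers x) ∨ Group.IsSolvable D :=
    Or.inl (Group.isSolvable_of_comm fun a b => mul_comm' a b)
  refine Cfsg.Lib.Coprime.le_centralizer_of_commutator_le_frattini
    (G := D) (A := Subgroup.zpowers x) (by rw [Subgroup.normalizer_eq_top]; exact le_top) hcop
    hsol (hle.trans ?_) (Subgroup.mem_zpowers x)
  rw [← Subgroup.map_subtype_commutator]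
  exact Subgroup.map_mono (PGroup.commutator_le_frattini hD)

section Inertial

variable (hM : IsPModular p M) {D N : Subgroup G} [D.Normal] [N.Normal]

include hM in
/-- Nilpotency of a block of the quotient bounds the stabilizer of a pair. -/
theorem exists_pair_inertial (hDp : IsPGroup p D) (hN : N = ⁅D, D⁆) {B : Set (IrrCharacter G)}
    (hB : IsPBlock M B) {b : Set (IrrCharacter (G ⧸ N))} (hb : IsPBlock M b)
    (hsub : b ⊆ deflSet N B)
    (hbD : IsDefectGroup p M b (D.map (QuotientGroup.mk' N))) (hnil : IsNilpotentBlock p M b) :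
    ∃ e : Set (IrrCharacter C[D]), IsBrauerPairOf p M B D e ∧
      ∀ x : G, StabilizesBlock C[D] e x → ¬ p ∣ orderOf x → x ∈ C[D] := by
  classical
  haveI := Fintype.ofFinite (G ⧸ N)
  set π := QuotientGroup.mk' N with hπ
  set Dbar := D.map π with hDbar
  haveI : Dbar.Normal := Subgroup.Normal.map inferInstance π (QuotientGroup.mk'_surjective N)
  have hND : N ≤ D := hN ▸ Subgroup.commutator_le_left D D
  have hDbp : IsPGroup p Dbar := hDp.map π
  have habar : ∀ a ∈ Dbar, ∀ c ∈ Dbar, a * c = c * a := by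
    rintro _ ⟨a, ha, rfl⟩ _ ⟨c, hc, rfl⟩
    have h : π ⁅a, c⁆ = 1 := (QuotientGroup.eq_one_iff _).2
      (hN ▸ Subgroup.commutator_mem_commutator ha hc)
    rw [map_commutatorElement] at h
    exact (commutatorElement_eq_one_iff_commute.1 h).eq
  obtain ⟨χb, hχb⟩ := nonempty_of_isPBlock hM hb
  obtain ⟨η, hη⟩ := Char.exists_irr_constituent_res C[Dbar] χb.2
  have hpb := isBrauerPairOf_of_constituent hM hDbp hb hχb hη
  have hin := (nilpotent_iff_inertial hM habar (maximal_of_defectGroup hM hpb hbD)).1 hnil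
  -- the preimage of the centralizer
  set K : Subgroup G := C[Dbar].comap π with hK
  haveI : K.Normal := Subgroup.Normal.comap inferInstance π
  have hCK : C[D] ≤ K := fun g hg => Subgroup.mem_centralizer_iff.2 (by
    rintro _ ⟨d, hd, rfl⟩
    rw [← map_mul, ← map_mul, Subgroup.mem_centralizer_iff.1 hg d hd])
  let r : K →* C[Dbar] := (π.comp K.subtype).codRestrict C[Dbar] fun k => k.2
  have hr : Function.Surjective r := fun q => by
    obtain ⟨g, hg⟩ := QuotientGroup.mk'_surjective N (q : G ⧸ N)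
    exact ⟨⟨g, Subgroup.mem_comap.2 (hg ▸ q.2)⟩, Subtype.ext hg⟩
  let ηK : IrrCharacter K := ⟨fun k => (η : C[Dbar] → ℂ) (r k), η.2.comp_surjective r hr⟩
  set C' := C[D].subgroupOf K with hC'
  set eC := Subgroup.subgroupOfEquivOfLe hCK with heC
  obtain ⟨θ', hθ'⟩ := Char.exists_irr_constituent_res C' ηK.2
  set θ : IrrCharacter C[D] := compIrr eC.symm θ' with hθdef
  have hθ : compIrr eC θ = θ' := Subtype.ext (funext fun a => by
    simp [hθdef, compIrr_apply])
  -- a pair of the block
  set χ : IrrCharacter G := infl N χb with hχdef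
  have hχ : χ ∈ B := hsub hχb
  have hKη : classInner (fun k : K => (χ : G → ℂ) k) (ηK : K → ℂ) ≠ 0 :=
    Char.PrimitiveClassSize.constituent_trans r (χb.2.isCharacter.comp C[Dbar].subtype) η.2 hη ηK.2 (by
      show classInner (ηK : K → ℂ) (ηK : K → ℂ) ≠ 0
      rw [Char.classInner_irr_self ηK.2]; exact one_ne_zero)
  have hCθ : classInner (fun n : C[D] => (χ : G → ℂ) n) (θ : C[D] → ℂ) ≠ 0 := by
    refine Char.PrimitiveClassSize.constituent_trans (Subgroup.inclusion hCK) (χ.2.isCharacter.comp K.subtype) ηK.2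
      hKη θ.2 ?_
    refine ne_of_eq_of_ne ?_ hθ'
    simp only [classInner]
    congr 1
    · rw [Nat.card_congr eC.toEquiv]
    refine (Fintype.sum_equiv eC.toEquiv _ _ fun a => ?_).symm
    simp [hθdef, compIrr_apply]
    exact Or.inl (congrArg (ηK : K → ℂ) (Subtype.ext rfl))
  set e := blockOf M (θ : C[D] → ℂ) with he
  refine ⟨e, isBrauerPairOf_of_constituent hM hDp hB hχ hCθ, fun x hx hxr => ?_⟩
  -- the conjugate characters
  set η' : IrrCharacter C[Dbar] := twistIrr C[Dbar] (π x) η with hη'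
  let ηK' : IrrCharacter K := ⟨fun k => (η' : C[Dbar] → ℂ) (r k), η'.2.comp_surjective r hr⟩
  have hηK' : ηK' = twistIrr K x ηK := Subtype.ext (funext fun k => by
    simp only [ηK', ηK, hη', twistIrr_apply]
    refine congrArg _ (Subtype.ext ?_)
    show π x * π (k : G) * (π x)⁻¹ = π (x * (k : G) * x⁻¹)
    rw [map_mul, map_mul, map_inv])
  set θx : IrrCharacter C[D] := twistIrr C[D] x θ with hθx
  have hθxe : θx ∈ e := by
    obtain ⟨-, hst⟩ := hx
    -- every member is the twist of one of the members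
    have hmap : ∀ ψ ∈ e, ∃ ψ' ∈ e, twistIrr C[D] x ψ' = ψ := fun ψ hψ => by
      obtain ⟨ψ', hψ', hcj⟩ := hst ψ hψ
      refine ⟨ψ', hψ', Subtype.ext (funext fun k => ?_)⟩
      rw [twistIrr_apply]
      exact hcj k _ rfl
    obtain ⟨ψ', hψ', he'⟩ := hmap θ (self_mem_blockOf hM θ)
    have h1 := (sameBlock_twistIrr C[D] x ψ' θ (M := M)).2
      (sameBlock_of_mem hM (isPBlock_blockOf θ) hψ' (self_mem_blockOf hM θ))
    rw [he'] at h1
    exact mem_blockOf.2 h1
  have hθx' : classInner (fun n : C' => (ηK' : K → ℂ) n) (compIrr eC θx : C' → ℂ) ≠ 0 := by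
    refine ne_of_eq_of_ne ?_ hθ'
    simp only [classInner]
    congr 1
    have hn : ∀ n : C', MulAut.conjNormal x (n : K) ∈ C' := fun n =>
      Subgroup.mem_subgroupOf.2 (by
        rw [MulAut.conjNormal_apply]
        exact Subgroup.Normal.conj_mem inferInstance _ (Subgroup.mem_subgroupOf.1 n.2) x)
    refine Fintype.sum_bijective (fun n : C' => (⟨MulAut.conjNormal x (n : K), hn n⟩ : C'))
      ((Finite.injective_iff_bijective).1 fun a b h => Subtype.ext
        ((MulAut.conjNormal x).injective (congrArg Subtype.val h))) _ _ fun n => ?_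
    rw [hηK', twistIrr_apply, ← hθ, compIrr_apply, compIrr_apply, hθx, twistIrr_apply]
    congr 2
  have hsame : SameBlock M (η : C[Dbar] → ℂ) (η' : C[Dbar] → ℂ) := by
    refine sameBlock_of_regular_centralizer hM (⊥ : Subgroup C[Dbar]) (IsPGroup.of_bot)
      fun q hq _ => ?_
    obtain ⟨g, hg, hgq⟩ := exists_regular_lift N (q : G ⧸ N) (by rwa [Subgroup.orderOf_coe])
    have hgD : g ∈ C[D] := mem_centralizer_of_mod_derived hDp hg fun d hd => by
      rw [← hN, ← QuotientGroup.eq_one_iff, ← QuotientGroup.mk'_apply, map_mul, map_mul, map_mul,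
        map_inv, map_inv, QuotientGroup.mk'_apply, hgq,
        ← Subgroup.mem_centralizer_iff.1 q.2 _ ⟨d, hd, rfl⟩, mul_inv_cancel_right,
        QuotientGroup.mk'_apply, mul_inv_cancel]
    have hgN : g ∈ C[N] := Subgroup.centralizer_le hND hgD
    set k : K := ⟨g, hCK hgD⟩ with hk
    have hrk : r k = q := Subtype.ext hgq
    -- central characters of the inflations
    have hidx : (Subgroup.centralizer ({k} : Set K)).index =
        (Subgroup.centralizer ({q} : Set C[Dbar])).index := by
      rw [← Subgroup.index_comap_of_surjective (f := r) _ hr]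
      refine congrArg Subgroup.index (le_antisymm (fun y hy => ?_) fun y hy => ?_)
      · rw [Subgroup.mem_comap, Subgroup.mem_centralizer_singleton_iff, ← hrk, ← map_mul,
          ← map_mul, Subgroup.mem_centralizer_singleton_iff.1 hy]
      · rw [Subgroup.mem_comap, Subgroup.mem_centralizer_singleton_iff, ← hrk, ← map_mul,
          ← map_mul] at hy
        have hmem : g⁻¹ * ((y : G) * g * (y : G)⁻¹) ∈ N := by
          have h1 : π ((y : G) * g) = π (g * (y : G)) := congrArg Subtype.val hy
          rw [map_mul, map_mul] at h1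
          rw [← QuotientGroup.eq_one_iff, ← QuotientGroup.mk'_apply, map_mul, map_mul, map_mul,
            map_inv, map_inv, h1, mul_inv_cancel_right, inv_mul_cancel]
        set n := g⁻¹ * ((y : G) * g * (y : G)⁻¹) with hn
        have hn1 : n = 1 := by
          by_contra hne
          have h1 : p ∣ orderOf (n * g) := dvd_orderOf_mul_of_commute hg
            (Subgroup.mem_centralizer_iff.1 hgN n hmem)
            (exists_orderOf_eq_pow_of_mem (hDp.to_le hND) hmem) hne
          rw [(Subgroup.mem_centralizer_iff.1 hgN n hmem), hn, mul_inv_cancel_left,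
            show orderOf ((y : G) * g * (y : G)⁻¹) = orderOf g from
              (MulAut.conj (y : G)).orderOf_eq g] at h1
          exact hg h1
        refine Subgroup.mem_centralizer_singleton_iff.2 (Subtype.ext ?_)
        have h2 : (y : G) * g * (y : G)⁻¹ = g := by
          rw [← mul_inv_cancel_left g ((y : G) * g * (y : G)⁻¹), ← hn, hn1, mul_one]
        exact mul_inv_eq_iff_eq_mul.1 h2
    have hcen : ∀ ζ : IrrCharacter C[Dbar],
        centralChar (fun j : K => (ζ : C[Dbar] → ℂ) (r j)) k =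
          centralChar (ζ : C[Dbar] → ℂ) q := fun ζ => by
      simp only [centralChar, hidx, hrk, map_one]
    haveI : C'.Normal := Subgroup.Normal.subgroupOf inferInstance K
    have e1 := centralChar_eq_of_constituent C' hθ' (⟨k, Subgroup.mem_subgroupOf.2 hgD⟩ : C')
    have e2 := centralChar_eq_of_constituent C' hθx' (⟨k, Subgroup.mem_subgroupOf.2 hgD⟩ : C')
    rw [show ((⟨k, Subgroup.mem_subgroupOf.2 hgD⟩ : C') : K) = k from rfl] at e1 e2
    rw [← hcen, ← hcen, show (fun j : K => (η : C[Dbar] → ℂ) (r j)) = (ηK : K → ℂ) from rfl,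
      show (fun j : K => (η' : C[Dbar] → ℂ) (r j)) = (ηK' : K → ℂ) from rfl, e1, e2, ← hθ]
    exact inducedCentralChar_congr C' hM ((sameBlock_compIrr eC θ θx).2 (mem_blockOf.1 hθxe)) k
  have hxN : π x ∈ Subgroup.normalizer (Dbar : Set (G ⧸ N)) := by
    rw [Subgroup.normalizer_eq_top]; trivial
  have hstb : StabilizesBlock C[Dbar] (blockOf M (η : C[Dbar] → ℂ)) (π x) := by
    refine ⟨mem_normalizer_centralizer hxN, fun ψ hψ => ?_⟩
    refine ⟨twistIrr C[Dbar] (π x)⁻¹ ψ, ?_, fun k k' hk => ?_⟩
    · refine mem_blockOf.2 ((sameBlock_twistIrr C[Dbar] (π x) η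
        (twistIrr C[Dbar] (π x)⁻¹ ψ) (M := M)).1 ?_)
      have e : twistIrr C[Dbar] (π x) (twistIrr C[Dbar] (π x)⁻¹ ψ) = ψ := by
        have h := twistIrr_inv C[Dbar] (π x)⁻¹ ψ
        rwa [inv_inv] at h
      rw [e]
      exact sameBlock_of_mem hM (isPBlock_blockOf η) (mem_blockOf.2 hsame) hψ
    · rw [twistIrr_apply]
      refine congrArg _ (Subtype.ext ?_)
      simp [hk, mul_assoc]
  have hxC := hin _ hxN hstb
  exact mem_centralizer_of_mod_derived hDp hxr fun d hd => by
    rw [← hN, ← QuotientGroup.eq_one_iff, ← QuotientGroup.mk'_apply, map_mul, map_mul, map_mul,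
      map_inv, map_inv, ← Subgroup.mem_centralizer_iff.1 hxC _ ⟨d, hd, rfl⟩, mul_inv_cancel_right,
      mul_inv_cancel]

end Inertial

include hp in
/-- Over a normal defect group a trivial inertial quotient gives nilpotency. -/
theorem nilpotent_of_normal_inertial (hM : IsPModular p M) {B : Set (IrrCharacter G)}
    {D : Subgroup G} [D.Normal] {e : Set (IrrCharacter C[D])}
    (hmax : IsMaximalBrauerPair p M B D e)
    (hin : ∀ x : G, StabilizesBlock C[D] e x → ¬ p ∣ orderOf x → x ∈ C[D]) :
    IsNilpotentBlock p M B := by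
  classical
  have hDp : IsPGroup p D := hmax.1.1.1
  obtain ⟨F, hF⟩ := exists_blockFusion hM hmax
  have hsat := isSaturated_blockFusion hM hF
  refine (nilpotent_iff_inner hM hF).2 fun Q => Set.Subset.antisymm ?_ ?_
  swap
  · rintro φ ⟨hQ, g, hg, h⟩
    exact FusionSys.hom_congr (F.conj_mem hQ hg) h
  refine FusionSys.le_inner_of_autGroup hDp hsat (fun R hR => ?_) Q
  have hRD : R = D := by
    rcases hR with h | hess
    · exact h
    obtain ⟨hRle, hcen⟩ := hess.1
    by_contra hne
    have hrad := (FusionSys.isRadical_of_isEssential hDp hess).2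
    obtain ⟨u, hu, huR⟩ := SetLike.exists_of_lt (lt_inf_normalizer hDp (lt_of_le_of_ne hRle hne))
    let A : Subgroup (F.autGroup R) := (autInducedBy D R).subgroupOf (F.autGroup R)
    haveI : A.Normal := ⟨fun n hn a => by
      obtain ⟨h, hh, hact⟩ := FusionSys.mem_autInducedBy.1 (Subgroup.mem_subgroupOf.1 hn)
      obtain ⟨-, g, hg, -⟩ := (hF.2 _ _).1 ((FusionSys.mem_autGroup hRle).1 a.2)
      refine Subgroup.mem_subgroupOf.2 (FusionSys.mem_autInducedBy.2 ⟨g * h * g⁻¹,
        Subgroup.Normal.conj_mem inferInstance h hh g, fun x => ?_⟩)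
      have hinv : ((((a : MulAut R)⁻¹) x : R) : G) = g⁻¹ * (x : G) * g := by
        have h2 := hg (((a : MulAut R)⁻¹) x)
        simp only [MulAut.apply_inv_self, MonoidHom.comp_apply, MulEquiv.coe_toMonoidHom,
          Subgroup.coe_subtype] at h2
        rw [h2]; group
      have h3 := hg ((n : MulAut R) (((a : MulAut R)⁻¹) x))
      simp only [MonoidHom.comp_apply, MulEquiv.coe_toMonoidHom, Subgroup.coe_subtype] at h3
      rw [Subgroup.coe_mul, Subgroup.coe_mul, InvMemClass.coe_inv, MulAut.mul_apply,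
        MulAut.mul_apply, h3, hact, hinv]
      group⟩
    have hA : A ≤ pCore p (F.autGroup R) :=
      Cfsg.Lib.Core.le_pCore' inferInstance (FusionSys.isPGroup_autInducedBy hDp).comap_subtype
    have hmem : FusionSys.conjAut R hu.2 ∈ autInducedBy D R :=
      FusionSys.mem_autInducedBy.2 ⟨u, hu.1, fun x => FusionSys.coe_conjAut R hu.2 x⟩
    refine huR (FusionSys.mem_of_conjAut_mem_inn (hcen R ?_) hRle hu.1
      (fun x => FusionSys.coe_conjAut R hu.2 x) ?_)
    · exact FusionSys.isConj_refl F hRle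
    · rw [← hrad]
      exact ⟨⟨_, FusionSys.autInducedBy_le_autGroup hRle hmem⟩,
        hA (Subgroup.mem_subgroupOf.2 hmem), rfl⟩
  subst hRD
  rintro ⟨α, hα⟩
  obtain ⟨-, g, hg, -, f, hf, hgf⟩ := (hF.2 _ _).1 ((FusionSys.mem_autGroup le_rfl).1 hα)
  have hgN : g ∈ Subgroup.normalizer (R : Set G) := FusionSys.mem_normalizer_of_aut (α := α) hg
  have hfe : f = e := subpair_unique hM hmax.1.1 hf Relation.ReflTransGen.refl
  subst hfe
  have hfix : conjIdx g ⟨R, f⟩ = ⟨R, f⟩ := by
    have h1 : Relation.ReflTransGen (NormalSubpairRel p M) (conjIdx g ⟨R, f⟩) ⟨R, f⟩ := hgf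
    rw [conjIdx_eq (map_conj_eq_self hgN)] at h1 ⊢
    exact Sigma.ext rfl (heq_of_eq (subpair_unique hM hmax.1.1 h1 hf))
  obtain ⟨a, ha⟩ : ∃ a : ℕ, g ^ a = pReg p g :=
    mem_powers_iff_mem_zpowers.2 (pReg_mem_zpowers g)
  have hfixpow : ∀ n : ℕ, conjIdx (g ^ n) ⟨R, f⟩ = ⟨R, f⟩ := by
    intro n
    induction n with
    | zero => rw [pow_zero, conjIdx_one]
    | succ n ih => rw [pow_succ, ← conjIdx_mul, hfix, ih]
  have hc : pReg p g ∈ C[R] :=
    hin _ ((conjIdx_eq_self_iff f _).1 (ha ▸ hfixpow a)).2 (not_dvd_orderOf_pReg g)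
  obtain ⟨k, hk⟩ := exists_pow_pPt (p := p) g
  refine ⟨k, Subtype.ext (pow_conj_act (g := g) hg ?_)⟩
  rw [← pPt_mul_pReg (p := p) g, (pPt_commute_pReg g).mul_pow, hk, one_mul]
  exact pow_mem hc _

include hp in
/-- The characters of height zero of a nilpotent block have one degree. -/
theorem equal_height_zero_of_nilpotent (hM : IsPModular p M) {B : Set (IrrCharacter G)}
    {D : Subgroup G} (hD : IsDefectGroup p M B D) (hnil : IsNilpotentBlock p M B) :
    ∃ d : ℕ, ∀ χ ∈ B, blockHeight p B (χ : G → ℂ) = 0 → charDegree (χ : G → ℂ) = d := by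
  classical
  have hB := hnil.1
  obtain ⟨c, hmax⟩ := exists_pair_at_defect hM hB hD
  obtain ⟨χ₀, hχ₀, h0, -, μ, hμ⟩ := exists_star_data hM hmax hnil
  have hinn := innerFusion_of_nilpotent hM hmax hnil
  have hdeg : ∀ ζ : IrrCharacter D, charDegree ((μ ζ : IrrCharacter G) : G → ℂ) =
      charDegree (ζ : D → ℂ) * charDegree (χ₀ : G → ℂ) := fun ζ => by
    refine charDegree_eq_of_apply_one ?_
    rw [hμ, starFn_reg_class hM hmax (isFusChar_extP hinn ζ.2.isGeneralized) hχ₀
      (show IsPRegular p (1 : G) by simp [IsPRegular, hp.out.ne_one]),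
      extP_mem _ (one_mem D), apply_one_eq_charDegree χ₀, Nat.cast_mul]
    exact congrArg (· * _) (apply_one_eq_charDegree ζ)
  refine ⟨charDegree (χ₀ : G → ℂ), fun χ hχ hh => ?_⟩
  obtain ⟨ζ, hζ⟩ := μ.surjective ⟨χ, hχ⟩
  have e : χ = μ ζ := (congrArg Subtype.val hζ).symm
  have h1 := (blockHeight_eq_zero_iff hχ).1 hh
  rw [← (blockHeight_eq_zero_iff hχ₀).1 h0, e, hdeg,
    Nat.factorization_mul (charDegree_pos ζ).ne' (charDegree_pos χ₀).ne', Finsupp.add_apply] at h1
  obtain ⟨k, hk⟩ := (isPGroup_defectGroup hM hD).exists_card_eq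
  obtain ⟨i, -, hi⟩ := (Nat.dvd_prime_pow hp.out).1 (hk ▸ charDegree_dvd_card ζ)
  rw [e, hdeg]
  rw [hi, hp.out.factorization_pow, Finsupp.single_eq_same] at h1
  rw [hi, show i = 0 by omega, pow_zero, one_mul]

include hp in
/-- The main statement. -/
theorem equal_height_zero_iff_nilpotent (hM : IsPModular p M) {B : Set (IrrCharacter G)}
    (hB : IsPBlock M B) {D : Subgroup G} (hD : IsDefectGroup p M B D) [D.Normal] :
    (∃ d : ℕ, ∀ χ ∈ B, blockHeight p B (χ : G → ℂ) = 0 → charDegree (χ : G → ℂ) = d) ↔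
      IsNilpotentBlock p M B := by
  classical
  refine ⟨fun ⟨n, hn⟩ => ?_, equal_height_zero_of_nilpotent hM hD⟩
  obtain ⟨N, hN⟩ : ∃ N : Subgroup G, N = ⁅D, D⁆ := ⟨_, rfl⟩
  haveI : N.Normal := hN ▸ Subgroup.commutator_normal D D
  haveI := Fintype.ofFinite (G ⧸ N)
  have hDp := isPGroup_defectGroup hM hD
  have hND : N ≤ D := hN ▸ Subgroup.commutator_le_left D D
  obtain ⟨b, hb, hsub, hbdef⟩ := exists_block_image hM N (hDp.to_le hND) hB
  have hbD : IsDefectGroup p M b (D.map (QuotientGroup.mk' N)) := (hbdef _).2 ⟨D, hD, rfl⟩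
  haveI : (D.map (QuotientGroup.mk' N)).Normal :=
    Subgroup.Normal.map inferInstance _ (QuotientGroup.mk'_surjective N)
  have habar : ∀ a ∈ D.map (QuotientGroup.mk' N), ∀ c ∈ D.map (QuotientGroup.mk' N),
      a * c = c * a := by
    rintro _ ⟨a, ha, rfl⟩ _ ⟨c, hc, rfl⟩
    have h : QuotientGroup.mk' N ⁅a, c⁆ = 1 := (QuotientGroup.eq_one_iff _).2
      (hN ▸ Subgroup.commutator_mem_commutator ha hc)
    rw [map_commutatorElement] at h
    exact (commutatorElement_eq_one_iff_commute.1 h).eq
  have hh0 := (normal_defect_abelian_iff hM hb hbD).1 habar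
  -- exponents
  obtain ⟨ψ₀, hψ₀, hmin⟩ := exists_minVal (p := p) (nonempty_of_isPBlock hM hb)
  obtain ⟨χ₁, hχ₁, hmin₁⟩ := exists_minVal (p := p) (nonempty_of_isPBlock hM hB)
  obtain ⟨a, ha⟩ := (hDp.to_le hND).exists_card_eq
  have hcardG : Nat.card G = Nat.card (G ⧸ N) * Nat.card N :=
    Subgroup.card_eq_card_quotient_mul_card_subgroup N
  have hvG : (Nat.card G).factorization p = (Nat.card (G ⧸ N)).factorization p + a := by
    rw [hcardG, Nat.factorization_mul Nat.card_pos.ne' Nat.card_pos.ne', ha, Finsupp.add_apply,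
      hp.out.factorization_pow, Finsupp.single_eq_same]
  have hdB : blockDefect p B = blockDefect p b + a := by
    refine Nat.pow_right_injective hp.out.two_le ?_
    show p ^ _ = p ^ _
    rw [pow_add, ← card_defectGroup hM hB hD, ← card_defectGroup hM hb hbD, ← ha,
      ← Subgroup.card_mul_index ((N.subgroupOf D)),
      Nat.card_congr (Subgroup.subgroupOfEquivOfLe hND).toEquiv, mul_comm]
    congr 1
    rw [← Subgroup.relIndex, ← Subgroup.relIndex_ker, QuotientGroup.ker_mk']
  have hle : ∀ {A : Type u} [Group A] [Fintype A] (η : IrrCharacter A),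
      (charDegree (η : A → ℂ)).factorization p ≤ (Nat.card A).factorization p := fun η =>
    (Nat.factorization_le_iff_dvd (charDegree_pos η).ne' Nat.card_pos.ne').2
      (charDegree_dvd_card η) p
  have hdeg : ∀ ψ : IrrCharacter (G ⧸ N), charDegree (infl N ψ : G → ℂ) =
      charDegree (ψ : G ⧸ N → ℂ) := fun ψ => charDegree_eq_of_apply_one (by
    rw [infl_coe, Function.comp_apply, QuotientGroup.mk_one, apply_one_eq_charDegree])
  have hn' : ∀ ψ ∈ b, charDegree (ψ : G ⧸ N → ℂ) = n := fun ψ hψ => by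
    rw [← hdeg]
    refine hn _ (hsub hψ) ?_
    have h := hh0 ψ hψ
    simp only [blockHeight, blockDefect] at h hdB ⊢
    rw [hdeg]
    simp only [minVal] at hmin hmin₁
    have h1 := hle ψ₀
    have h2 := hle χ₁
    rw [hmin] at h1
    rw [hmin₁] at h2
    omega
  have hnil := (equal_degree_iff_nilpotent hM hb hbD habar).1 ⟨n, hn'⟩
  obtain ⟨e, he, hin⟩ := exists_pair_inertial hM hDp hN hB hb hsub hbD hnil
  exact nilpotent_of_normal_inertial hM (maximal_of_defectGroup hM he hD) hin

end Cfsg.Lib.Block
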