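import Cfsg.Agent.Lib.Block.FreeSections
import Cfsg.Agent.Lib.Block.AbelianUnit

/-!
# Gluing the sections of a block with free inertial action

There are signs on the nontrivial subgroups of the defect group after whose multiplication the
sections of every member of a local block form a signed linear character, and those of a member of
the block form a generalized character off the identity.
-/

set_option autoImplicit false
set_option linter.unusedSectionVars false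
set_option maxHeartbeats 1000000

namespace Cfsg.Lib.Block

open Cfsg Cfsg.Lib.Char
open scoped ComplexConjugate

universe u

noncomputable local instance (priority := high) fintypeSubgroupFreeGlue {A : Type u}
    [Group A] [Fintype A] (H : Subgroup A) : Fintype H := Fintype.ofFinite H

local notation "C[" Q "]" => Subgroup.centralizer (SetLike.coe Q)

section Weights

variable {G : Type u} [Group G] [Fintype G]

open Classical in
/-- The weights of the interval above a subgroup. -/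
theorem exists_weights (Q : Subgroup G) : ∃ cw : Subgroup G → ℤ, cw Q = 1 ∧
    ∀ R : Subgroup G, Q < R →
      ∑ Q' ∈ Finset.univ.filter (fun Q' => Q ≤ Q' ∧ Q' ≤ R), cw Q' = 0 := by
  suffices ∀ n : ℕ, ∃ cw : Subgroup G → ℤ, cw Q = 1 ∧ ∀ R : Subgroup G, Q < R → Nat.card R ≤ n →
      ∑ Q' ∈ Finset.univ.filter (fun Q' => Q ≤ Q' ∧ Q' ≤ R), cw Q' = 0 by
    obtain ⟨cw, h1, h2⟩ := this (Nat.card G)
    exact ⟨cw, h1, fun R hR => h2 R hR (Subgroup.card_le_card_group R)⟩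
  intro n
  induction n with
  | zero =>
    exact ⟨fun _ => 1, rfl, fun R _ h => absurd (Nat.le_zero.1 h) Nat.card_pos.ne'⟩
  | succ n ih =>
    obtain ⟨cw, h1, h2⟩ := ih
    refine ⟨fun R => if Q < R ∧ Nat.card R = n + 1 then
      -∑ Q' ∈ Finset.univ.filter (fun Q' => Q ≤ Q' ∧ Q' < R), cw Q' else cw R,
      by simp [h1], fun R hR hn => ?_⟩
    have hlt : ∀ Q' : Subgroup G, Q' < R → Nat.card Q' < Nat.card R := fun Q' h =>
      lt_of_le_of_ne (Subgroup.card_le_of_le h.le) fun e =>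
        h.ne (Subgroup.eq_of_le_of_card_ge h.le e.ge)
    have hsplit : ∀ g : Subgroup G → ℤ,
        ∑ Q' ∈ Finset.univ.filter (fun Q' => Q ≤ Q' ∧ Q' ≤ R), g Q' =
          g R + ∑ Q' ∈ Finset.univ.filter (fun Q' => Q ≤ Q' ∧ Q' < R), g Q' := by
      intro g
      rw [← Finset.add_sum_erase _ _ (Finset.mem_filter.2 ⟨Finset.mem_univ R, hR.le, le_rfl⟩)]
      congr 1
      refine Finset.sum_congr ?_ fun _ _ => rfl
      ext Q'
      simp only [Finset.mem_erase, Finset.mem_filter, Finset.mem_univ, true_and]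
      exact ⟨fun h => ⟨h.2.1, lt_of_le_of_ne h.2.2 h.1⟩, fun h => ⟨h.2.ne, h.1, h.2.le⟩⟩
    rcases Nat.lt_or_eq_of_le hn with hn' | hn'
    · rw [← h2 R hR (by omega)]
      refine Finset.sum_congr rfl fun Q' hQ' => if_neg fun h => ?_
      have := Subgroup.card_le_of_le (Finset.mem_filter.1 hQ').2.2
      omega
    · rw [hsplit, if_pos ⟨hR, hn'⟩, Finset.sum_congr rfl (g := cw) fun Q' hQ' =>
        if_neg fun h => ?_, neg_add_cancel]
      have := hlt Q' (Finset.mem_filter.1 hQ').2.2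
      omega

open Classical in
/-- Weisner's identity. -/
theorem sum_weights_sup {Q W P : Subgroup G} {cw : Subgroup G → ℤ} (h1 : cw Q = 1)
    (h2 : ∀ R : Subgroup G, Q < R →
      ∑ Q' ∈ Finset.univ.filter (fun Q' => Q ≤ Q' ∧ Q' ≤ R), cw Q' = 0)
    (hQW : Q < W) (hWP : W ≤ P) (Φ : Subgroup G → ℂ) :
    ∑ Q' ∈ Finset.univ.filter (fun Q' => Q < Q' ∧ Q' ≤ P), (cw Q' : ℂ) * Φ (Q' ⊔ W) = -Φ W := by
  obtain ⟨I, hI⟩ : ∃ I : Finset (Subgroup G),
      I = Finset.univ.filter (fun Q' => Q ≤ Q' ∧ Q' ≤ P) := ⟨_, rfl⟩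
  have hfib : ∀ n : ℕ, ∀ R : Subgroup G, Nat.card R = n → R ≤ P → W ≤ R →
      ∑ Q' ∈ I.filter (fun Q' => Q' ⊔ W = R), cw Q' = 0 := by
    intro n
    induction n using Nat.strong_induction_on with
    | _ n ih =>
    intro R hn hRP hWR
    have h := h2 R (hQW.trans_le hWR)
    rw [← Finset.sum_fiberwise_of_maps_to (g := fun Q' => Q' ⊔ W)
      (t := Finset.univ.filter fun R' => W ≤ R' ∧ R' ≤ R) (fun Q' hQ' => Finset.mem_filter.2
        ⟨Finset.mem_univ _, le_sup_right, sup_le (Finset.mem_filter.1 hQ').2.2 hWR⟩)] at h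
    have heq : ∀ R' : Subgroup G, R' ≤ R →
        (Finset.univ.filter fun Q' => Q ≤ Q' ∧ Q' ≤ R).filter (fun Q' => Q' ⊔ W = R') =
          I.filter (fun Q' => Q' ⊔ W = R') := by
      intro R' hR'
      ext Q'
      simp only [hI, Finset.mem_filter, Finset.mem_univ, true_and]
      refine ⟨fun h => ⟨⟨h.1.1, h.1.2.trans hRP⟩, h.2⟩, fun h => ⟨⟨h.1.1, ?_⟩, h.2⟩⟩
      exact (le_sup_left.trans h.2.le).trans hR'
    rw [Finset.sum_eq_single R] at h
    · rwa [heq R le_rfl] at h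
    · intro R' hR' hne
      obtain ⟨-, hWR', hR'R⟩ := Finset.mem_filter.1 hR'
      rw [heq R' hR'R]
      refine ih _ ?_ R' rfl (hR'R.trans hRP) hWR'
      rw [← hn]
      exact lt_of_le_of_ne (Subgroup.card_le_of_le hR'R) fun e =>
        hne (Subgroup.eq_of_le_of_card_ge hR'R e.ge)
    · exact fun hno => absurd (Finset.mem_filter.2 ⟨Finset.mem_univ _, hWR, le_rfl⟩) hno
  have htot : ∑ Q' ∈ I, (cw Q' : ℂ) * Φ (Q' ⊔ W) = 0 := by
    rw [← Finset.sum_fiberwise_of_maps_to (g := fun Q' => Q' ⊔ W)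
      (t := Finset.univ.filter fun R => W ≤ R ∧ R ≤ P) (fun Q' hQ' => by
        rw [hI] at hQ'
        exact Finset.mem_filter.2 ⟨Finset.mem_univ _, le_sup_right,
          sup_le (Finset.mem_filter.1 hQ').2.2 hWP⟩)]
    refine Finset.sum_eq_zero fun R hR => ?_
    rw [Finset.sum_congr rfl (g := fun Q' => (cw Q' : ℂ) * Φ R) fun Q' hQ' => by
      rw [(Finset.mem_filter.1 hQ').2], ← Finset.sum_mul, ← Int.cast_sum,
      hfib _ R rfl (Finset.mem_filter.1 hR).2.2 (Finset.mem_filter.1 hR).2.1, Int.cast_zero,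
      zero_mul]
  rw [← Finset.add_sum_erase _ _ (hI ▸ Finset.mem_filter.2
    ⟨Finset.mem_univ Q, le_rfl, hQW.le.trans hWP⟩ : Q ∈ I), h1, Int.cast_one, one_mul,
    sup_eq_right.2 hQW.le] at htot
  have he : I.erase Q = Finset.univ.filter (fun Q' => Q < Q' ∧ Q' ≤ P) := by
    ext Q'
    simp only [hI, Finset.mem_erase, Finset.mem_filter, Finset.mem_univ, true_and]
    exact ⟨fun h => ⟨lt_of_le_of_ne h.2.1 (Ne.symm h.1), h.2.2⟩,
      fun h => ⟨h.1.ne', h.1.le, h.2⟩⟩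
  rw [he] at htot
  linear_combination htot

end Weights

/-- The sections at `Q`, corrected by the signs `σ`, are signed linear characters. -/
def GlueAt (p : ℕ) (M : Ideal AlgInt) {G : Type u} [Group G] [Fintype G] (P : Subgroup G)
    (c : Set (IrrCharacter C[P])) (σ : Subgroup G → ℤ) (Q : Subgroup G) : Prop :=
  (Nat.card P ≤ 2 * Nat.card Q → σ Q = 1) ∧ ∀ ψ ∈ subBlock p M P c Q, ∃ l : P →* ℂˣ, ∀ w : P,
    (σ (Q ⊔ Subgroup.zpowers (w : G)) : ℂ) *
      secVal p M P c (Q ⊔ Subgroup.zpowers (w : G)) (extC Q ψ) w = (σ Q : ℂ) * (l w : ℂ)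

namespace FreeSetup

variable {p : ℕ} [Fact p.Prime] {M : Ideal AlgInt} {G : Type u} [Group G] [Fintype G]
  {B : Set (IrrCharacter G)} {P : Subgroup G} {c : Set (IrrCharacter C[P])} {T : Subgroup G}
  (S : FreeSetup p M B P c T)

local notation "f[" Q "]" => subBlock p M P c Q
local notation "D[" R "]" => secVal p M P c R

include S

theorem isClassFunction_P (F : P → ℂ) : IsClassFunction P F := fun a b => by
  have e : b * a * b⁻¹ = a := by
    rw [show b * a = a * b from Subtype.ext (S.comm _ b.2 _ a.2), mul_inv_cancel_right]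
  rw [e]

open Classical in
/-- Signs glued strictly above `Q` make a generalized character from the sections at `Q`. -/
theorem exists_glue_char {Q : Subgroup G} (hQ : Q ≤ P) (σ : Subgroup G → ℤ)
    (hglue : ∀ Q' : Subgroup G, Q < Q' → Q' ≤ P → GlueAt p M P c σ Q') :
    ∃ cw : Subgroup G → ℤ, ∀ F : G → ℂ, (∀ Q' : Subgroup G, Q < Q' → Q' ≤ P →
        IsGeneralizedCharacter C[Q'] fun y : C[Q'] => F y) →
      ∃ Φ : P → ℂ, IsGeneralizedCharacter P Φ ∧
        (∀ w : P, (w : G) ∉ Q → Φ w = (σ (Q ⊔ Subgroup.zpowers (w : G)) : ℂ) *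
          D[Q ⊔ Subgroup.zpowers (w : G)] F w) ∧
        Φ 1 = -∑ Q' ∈ Finset.univ.filter (fun Q' => Q < Q' ∧ Q' ≤ P),
          (cw Q' : ℂ) * ((σ Q' : ℂ) * D[Q'] F 1) := by
  obtain ⟨cw, hcw1, hcw⟩ := exists_weights Q
  refine ⟨cw, fun F hF => ?_⟩
  obtain ⟨I, hI⟩ : ∃ I : Finset (Subgroup G),
      I = Finset.univ.filter (fun Q' => Q < Q' ∧ Q' ≤ P) := ⟨_, rfl⟩
  rw [← hI]
  refine ⟨-∑ Q' ∈ I, (cw Q' : ℂ) • fun w : P => (σ (Q' ⊔ Subgroup.zpowers (w : G)) : ℂ) *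
    D[Q' ⊔ Subgroup.zpowers (w : G)] F w, ?_, fun w hw => ?_, ?_⟩
  · refine (IsGeneralizedCharacter.sum _ _ fun Q' hQ' => ?_).neg
    rw [hI, Finset.mem_filter] at hQ'
    obtain ⟨-, hlt, hle⟩ := hQ'
    have hQ'1 : Q' ≠ ⊥ := ne_bot_of_gt hlt
    refine IsGeneralizedCharacter.intCast_smul ?_ _
    choose l hl using (hglue Q' hlt hle).2
    choose a ha using fun η : IrrCharacter C[Q'] =>
      (hF Q' hlt hle).exists_int_classInner η.2.isGeneralized
    have e : (fun w : P => (σ (Q' ⊔ Subgroup.zpowers (w : G)) : ℂ) *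
        D[Q' ⊔ Subgroup.zpowers (w : G)] F w) = ∑ η ∈ f[Q'].toFinset.attach,
          ((a η.1 * σ Q' : ℤ) : ℂ) •
            fun w : P => (l η.1 (Set.mem_toFinset.1 η.2) w : ℂ) := by
      funext w
      rw [S.secVal_trans le_sup_left (S.mem_cen hle w.2) (hF Q' hlt hle).isClassFunction,
        Finset.mul_sum, ← Finset.sum_subset (Finset.subset_univ f[Q'].toFinset) fun η _ hη => by
          rw [S.secVal_eq_zero hle hQ'1 w.2 fun h => hη (Set.mem_toFinset.2 h), mul_zero, mul_zero],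
        ← Finset.sum_attach, Finset.sum_apply]
      refine Finset.sum_congr rfl fun η _ => ?_
      rw [Pi.smul_apply, smul_eq_mul, ha, Int.cast_mul]
      linear_combination (a η.1 : ℂ) * hl η.1 (Set.mem_toFinset.1 η.2) w
    rw [e]
    exact IsGeneralizedCharacter.sum _ _ fun η _ =>
      (Char.isIrrCharacter_linear _).isGeneralized.intCast_smul _
  · simp only [Pi.neg_apply, Finset.sum_apply, Pi.smul_apply, smul_eq_mul]
    have hQW : Q < Q ⊔ Subgroup.zpowers (w : G) := lt_of_le_of_ne le_sup_left fun e =>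
      hw (e ▸ Subgroup.mem_sup_right (Subgroup.mem_zpowers _))
    have h := sum_weights_sup hcw1 hcw hQW (S.sup_zpowers_le hQ w.2)
      fun R => (σ R : ℂ) * D[R] F w
    rw [← hI] at h
    rw [Finset.sum_congr rfl (g := fun Q' => (cw Q' : ℂ) *
      ((σ (Q' ⊔ (Q ⊔ Subgroup.zpowers (w : G))) : ℂ) *
        D[Q' ⊔ (Q ⊔ Subgroup.zpowers (w : G))] F w)) fun Q' hQ' => ?_, h, neg_neg]
    rw [hI, Finset.mem_filter] at hQ'
    rw [← sup_assoc, sup_eq_left.2 hQ'.2.1.le]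
  · simp only [Pi.neg_apply, Finset.sum_apply, Pi.smul_apply, smul_eq_mul, OneMemClass.coe_one,
      Subgroup.zpowers_one_eq_bot, sup_bot_eq]

/-- A member of a local block multiplies by a linear character at the elements of the pair. -/
theorem exists_central_hom {Q : Subgroup G} (hQ : Q ≤ P) {ψ : IrrCharacter C[Q]}
    (hψ : ψ ∈ f[Q]) : ∃ ν : Q.subgroupOf P →* ℂˣ, ∀ z : Q.subgroupOf P,
      (∀ g : G, g ∈ C[Q] → extC Q ψ ((z : P) * g) = (ν z : ℂ) * extC Q ψ g) ∧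
      D[Q] (extC Q ψ) (z : P) = (ν z : ℂ) := by
  classical
  have hcen : ∀ z : Q.subgroupOf P,
      (⟨((z : P) : G), S.mem_cen hQ (z : P).2⟩ : C[Q]) ∈ Subgroup.center C[Q] := fun z =>
    Subgroup.mem_center_iff.2 fun g => Subtype.ext
      (Subgroup.mem_centralizer_iff.1 g.2 _ (Subgroup.mem_subgroupOf.1 z.2)).symm
  choose ν hν using fun z : Q.subgroupOf P => exists_central_scalar ψ (hcen z)
  have hval : ∀ (z : Q.subgroupOf P) (g : G), g ∈ C[Q] →
      extC Q ψ ((z : P) * g) = ν z * extC Q ψ g := fun z g hg => by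
    have e1 := extC_coe Q (ψ : C[Q] → ℂ) (⟨((z : P) : G), S.mem_cen hQ (z : P).2⟩ * ⟨g, hg⟩)
    have e2 := extC_coe Q (ψ : C[Q] → ℂ) ⟨g, hg⟩
    simp only [Subgroup.coe_mul] at e1
    rw [e1, e2, (hν z).2]
  have hne : extC Q ψ 1 ≠ 0 := by
    rw [show (1 : G) = ((1 : C[Q]) : G) from rfl, extC_coe]
    exact ψ.2.apply_one_ne_zero
  have hmul : ∀ z z' : Q.subgroupOf P, ν (z * z') = ν z * ν z' := by
    intro z z'
    refine mul_right_cancel₀ hne ?_
    rw [← hval (z * z') 1 (one_mem _), mul_assoc, ← hval z' 1 (one_mem _), mul_one, mul_one,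
      ← hval z _ (S.mem_cen hQ (z' : P).2)]
    rfl
  have h1 : ν 1 = 1 := mul_right_cancel₀ hne (by
    rw [← hval 1 1 (one_mem _), one_mul, OneMemClass.coe_one, OneMemClass.coe_one, one_mul])
  let νM : Q.subgroupOf P →* ℂ := { toFun := ν, map_one' := h1, map_mul' := hmul }
  refine ⟨νM.toHomUnits, fun z => ⟨fun g hg => ?_, ?_⟩⟩
  · exact hval z g hg
  · show _ = ν z
    have e : (fun y : C[Q] => extC Q ψ ((z : P) * (y : G))) = ν z • (ψ : C[Q] → ℂ) :=
      funext fun y => by rw [hval z y y.2, extC_coe]; rfl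
    simp only [secVal, e, Char.classInner_smul_left, finsum_mem_eq_toFinset_sum, ← Finset.mul_sum]
    rw [Finset.sum_eq_single_of_mem ψ (Set.mem_toFinset.2 hψ) fun ρ _ hne =>
      Char.classInner_irr_ne ψ.2 ρ.2 fun h => hne (Subtype.ext h.symm),
      Char.classInner_irr_self ψ.2, mul_one]

open Classical in
/-- One step of the gluing. -/
theorem exists_local_sign {Q : Subgroup G} (hQ : Q ≤ P) (hQ1 : Q ≠ ⊥) (σ : Subgroup G → ℤ)
    (hσ : ∀ R, σ R = 1 ∨ σ R = -1)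
    (hglue : ∀ Q' : Subgroup G, Q < Q' → Q' ≤ P → GlueAt p M P c σ Q') :
    ∃ ε : ℤ, (ε = 1 ∨ ε = -1) ∧ (Nat.card P ≤ 2 * Nat.card Q → ε = 1) ∧
      ∀ ψ ∈ f[Q], ∃ l : P →* ℂˣ, ∀ w : P,
        ((w : G) ∈ Q → D[Q ⊔ Subgroup.zpowers (w : G)] (extC Q ψ) w = (l w : ℂ)) ∧
        ((w : G) ∉ Q → (σ (Q ⊔ Subgroup.zpowers (w : G)) : ℂ) *
          D[Q ⊔ Subgroup.zpowers (w : G)] (extC Q ψ) w = (ε : ℂ) * (l w : ℂ)) := by
  have hc : ∀ a b : P, a * b = b * a := fun a b => Subtype.ext (S.comm _ a.2 _ b.2)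
  have hsupQ : ∀ w : P, (w : G) ∈ Q → Q ⊔ Subgroup.zpowers (w : G) = Q := fun w hw =>
    sup_eq_left.2 (Subgroup.zpowers_le.2 hw)
  by_cases hQP : Q = P
  · refine ⟨1, Or.inl rfl, fun _ => rfl, fun ψ hψ => ?_⟩
    obtain ⟨ν, hν⟩ := S.exists_central_hom hQ hψ
    obtain ⟨l, hl⟩ := exists_hom_extension hc _ ν
    refine ⟨l, fun w => ⟨fun hw => ?_, fun hw => absurd (hQP ▸ w.2) hw⟩⟩
    rw [hsupQ w hw, (hν ⟨w, hw⟩).2, ← hl]
  have htop : Q.subgroupOf P ≠ ⊤ := fun h => hQP (le_antisymm hQ (Subgroup.subgroupOf_eq_top.1 h))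
  have hidx : (Q.subgroupOf P).index * Nat.card Q = Nat.card P := by
    rw [← Nat.card_congr (Subgroup.subgroupOfEquivOfLe hQ).toEquiv, Subgroup.index_mul_card]
  obtain ⟨cw, hcw⟩ := S.exists_glue_char hQ σ hglue
  have hsgn : ∀ R, (σ R : ℂ) * conj (σ R : ℂ) = 1 := fun R => by
    rcases hσ R with h | h <;> simp [h]
  -- the signed character at one member
  have hone : ∀ ψ ∈ f[Q], ∃ (ε : ℤ) (l : P →* ℂˣ) (m : ℤ), (ε = 1 ∨ ε = -1) ∧
      ((Q.subgroupOf P).index ≤ 2 → ε = 1) ∧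
      (∀ w : P, (w : G) ∈ Q → D[Q ⊔ Subgroup.zpowers (w : G)] (extC Q ψ) w = (l w : ℂ)) ∧
      (∀ w : P, (w : G) ∉ Q → (σ (Q ⊔ Subgroup.zpowers (w : G)) : ℂ) *
          D[Q ⊔ Subgroup.zpowers (w : G)] (extC Q ψ) w = (ε : ℂ) * (l w : ℂ)) ∧
      -∑ Q' ∈ Finset.univ.filter (fun Q' => Q < Q' ∧ Q' ≤ P),
          (cw Q' : ℂ) * ((σ Q' : ℂ) * D[Q'] (extC Q ψ) 1) =
        (ε : ℂ) + ((Q.subgroupOf P).index : ℂ) * (m : ℂ) := by
    intro ψ hψ
    obtain ⟨Φ, hΦg, hΦ, hΦ1⟩ := hcw (extC Q ψ) fun Q' hlt _ => by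
      have h := ψ.2.isGeneralized.comp
        (Subgroup.inclusion (Subgroup.centralizer_le (SetLike.coe_subset_coe.2 hlt.le)))
      have e : (fun y : C[Q'] => extC Q (ψ : C[Q] → ℂ) y) = fun y : C[Q'] => (ψ : C[Q] → ℂ)
          (Subgroup.inclusion (Subgroup.centralizer_le (SetLike.coe_subset_coe.2 hlt.le)) y) :=
        funext fun y => extC_coe Q (ψ : C[Q] → ℂ)
          (Subgroup.inclusion (Subgroup.centralizer_le (SetLike.coe_subset_coe.2 hlt.le)) y)
      rw [e]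
      exact h
    obtain ⟨ν, hν⟩ := S.exists_central_hom hQ hψ
    have hmulΦ : ∀ w : P, w ∉ Q.subgroupOf P → ∀ z : Q.subgroupOf P,
        Φ (w * (z : P)) = (ν z : ℂ) * Φ w := by
      intro w hw z
      have hz : ((z : P) : G) ∈ Q := Subgroup.mem_subgroupOf.1 z.2
      have hwz : ((w * (z : P) : P) : G) ∉ Q := fun h => hw (by
        have := mul_mem h (inv_mem hz)
        rwa [Subgroup.coe_mul, mul_inv_cancel_right] at this)
      have hsup : Q ⊔ Subgroup.zpowers ((w * (z : P) : P) : G) =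
          Q ⊔ Subgroup.zpowers (w : G) := by
        refine le_antisymm (sup_le le_sup_left (Subgroup.zpowers_le.2 ?_))
          (sup_le le_sup_left (Subgroup.zpowers_le.2 ?_))
        · rw [Subgroup.coe_mul]
          exact mul_mem (Subgroup.mem_sup_right (Subgroup.mem_zpowers _)) (Subgroup.mem_sup_left hz)
        · have := mul_mem (Subgroup.mem_sup_right (Subgroup.mem_zpowers ((w * (z : P) : P) : G)) :
            ((w * (z : P) : P) : G) ∈ Q ⊔ Subgroup.zpowers ((w * (z : P) : P) : G))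
            (Subgroup.mem_sup_left (inv_mem hz))
          rwa [Subgroup.coe_mul, mul_inv_cancel_right] at this
      rw [hΦ _ hwz, hΦ w hw, hsup]
      have e : (fun y : C[Q ⊔ Subgroup.zpowers (w : G)] =>
          extC Q ψ (((w * (z : P) : P) : G) * (y : G))) =
          (ν z : ℂ) • fun y : C[Q ⊔ Subgroup.zpowers (w : G)] =>
            extC Q ψ ((w : G) * (y : G)) := by
        funext y
        rw [Pi.smul_apply, smul_eq_mul, Subgroup.coe_mul, S.comm _ w.2 _ (z : P).2, mul_assoc]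
        exact (hν z).1 _ (mul_mem (S.mem_cen hQ w.2)
          (Subgroup.centralizer_le (SetLike.coe_subset_coe.2 le_sup_left) y.2))
      simp only [secVal, e, Char.classInner_smul_left, finsum_mem_eq_toFinset_sum,
        ← Finset.mul_sum]
      ring
    have habsΦ : ∀ w : P, w ∉ Q.subgroupOf P → Φ w * conj (Φ w) = 1 := by
      intro w hw
      rw [hΦ w hw, map_mul]
      linear_combination (D[Q ⊔ Subgroup.zpowers (w : G)] (extC Q ψ) (w : G) *
        conj (D[Q ⊔ Subgroup.zpowers (w : G)] (extC Q ψ) (w : G))) * hsgn _ +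
        S.secVal_unit hQ hQ1 w.2 hψ
    obtain ⟨ε, l, m, hε, hε2, hlν, hl, hl1⟩ := exists_sign_linear hc htop hΦg ν hmulΦ habsΦ
    refine ⟨ε, l, m, hε, hε2, fun w hw => ?_, fun w hw => ?_, hΦ1.symm.trans hl1⟩
    · rw [hsupQ w hw, (hν ⟨w, hw⟩).2, ← hlν]
    · rw [← hΦ w hw, hl w hw]
  obtain ⟨ψ₀, hψ₀⟩ := nonempty_of_isPBlock S.modular (S.sub_spec hQ).1
  obtain ⟨ε₀, l₀, m₀, hε₀, hsmall, hin₀, hout₀, hval₀⟩ := hone ψ₀ hψ₀
  refine ⟨ε₀, hε₀, fun h => hsmall ?_, fun ψ hψ => ?_⟩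
  · exact Nat.le_of_mul_le_mul_right (by rw [hidx]; exact h) (Nat.card_pos (α := Q))
  obtain ⟨ε, l, m, hε, hsm, hin, hout, hval⟩ := hone ψ hψ
  suffices hεε : ε = ε₀ by
    subst hεε
    exact ⟨l, fun w => ⟨hin w, hout w⟩⟩
  by_cases h2 : (Q.subgroupOf P).index ≤ 2
  · rw [hsm h2, hsmall h2]
  have hsame : ∀ Q' : Subgroup G, Q < Q' → Q' ≤ P → D[Q'] (extC Q ψ) 1 = D[Q'] (extC Q ψ₀) 1 :=
    fun Q' hlt hle => S.secVal_one_congr hle (ne_bot_of_gt hlt) fun y hy => by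
      obtain ⟨x, hx⟩ : ∃ x : C[Q], (x : G) = (y : G) :=
        ⟨⟨_, Subgroup.centralizer_le (SetLike.coe_subset_coe.2 hlt.le) y.2⟩, rfl⟩
      rw [← hx, extC_coe, extC_coe]
      refine S.sub_agree hQ hQ1 hψ hψ₀ ?_
      rwa [IsPRegular, ← Subgroup.orderOf_coe, hx, Subgroup.orderOf_coe]
  rw [Finset.sum_congr rfl fun Q' hQ' => by
    rw [hsame Q' (Finset.mem_filter.1 hQ').2.1 (Finset.mem_filter.1 hQ').2.2]] at hval
  rw [hval₀] at hval
  have hint : ε₀ - ε = ((Q.subgroupOf P).index : ℤ) * (m - m₀) := by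
    apply Int.cast_injective (α := ℂ)
    push_cast
    linear_combination hval
  by_contra hne
  have h2' : (2 : ℤ) < (Q.subgroupOf P).index := by exact_mod_cast (by omega : 2 < _)
  have hk0 : m - m₀ ≠ 0 := fun h => hne (by rw [h, mul_zero] at hint; omega)
  have hk : 1 ≤ |m - m₀| := Int.one_le_abs hk0
  have habs : |ε₀ - ε| ≤ 2 := by rcases hε with rfl | rfl <;> rcases hε₀ with rfl | rfl <;> decide
  rw [hint, abs_mul, Nat.abs_cast] at habs
  nlinarith

open Classical in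
/-- Signs gluing the sections of all local blocks. -/
theorem exists_signs : ∃ σ : Subgroup G → ℤ, (∀ R, σ R = 1 ∨ σ R = -1) ∧
    ∀ Q : Subgroup G, Q ≤ P → Q ≠ ⊥ → GlueAt p M P c σ Q := by
  suffices ∀ n : ℕ, ∃ σ : Subgroup G → ℤ, (∀ R, σ R = 1 ∨ σ R = -1) ∧ ∀ Q : Subgroup G, Q ≤ P →
      Q ≠ ⊥ → Nat.card P < Nat.card Q + n → GlueAt p M P c σ Q by
    obtain ⟨σ, hσ, h⟩ := this (Nat.card P + 1)
    exact ⟨σ, hσ, fun Q hQ hQ1 => h Q hQ hQ1 (by omega)⟩
  intro n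
  induction n with
  | zero =>
    exact ⟨fun _ => 1, fun _ => Or.inl rfl, fun Q hQ _ h => absurd h
      (not_lt.2 (by simpa using Subgroup.card_le_of_le hQ))⟩
  | succ n ih =>
    obtain ⟨σ, hσ, hglue⟩ := ih
    have hnew : ∀ Q : Subgroup G, Q ≤ P → Q ≠ ⊥ → Nat.card P = Nat.card Q + n →
        ∀ Q' : Subgroup G, Q < Q' → Q' ≤ P → GlueAt p M P c σ Q' := fun Q hQ _ hn Q' hlt hle => by
      refine hglue Q' hle (ne_bot_of_gt hlt) ?_
      have : Nat.card Q < Nat.card Q' := lt_of_le_of_ne (Subgroup.card_le_of_le hlt.le) fun e =>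
        hlt.ne (Subgroup.eq_of_le_of_card_ge hlt.le e.ge)
      omega
    choose ε hε hε1 hεl using fun Q (h : Q ≤ P ∧ Q ≠ ⊥ ∧ Nat.card P = Nat.card Q + n) =>
      S.exists_local_sign h.1 h.2.1 σ hσ (hnew Q h.1 h.2.1 h.2.2)
    refine ⟨fun Q => if h : Q ≤ P ∧ Q ≠ ⊥ ∧ Nat.card P = Nat.card Q + n then ε Q h else σ Q,
      fun R => ?_, fun Q hQ hQ1 hn => ?_⟩
    · beta_reduce
      split_ifs with h
      · exact hε R h
      · exact hσ R
    -- larger subgroups keep their signs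
    have hkeep : ∀ R : Subgroup G, Nat.card P < Nat.card R + n →
        ¬ (R ≤ P ∧ R ≠ ⊥ ∧ Nat.card P = Nat.card R + n) := fun R h h' => by omega
    by_cases hnQ : Nat.card P < Nat.card Q + n
    · obtain ⟨h1, h2⟩ := hglue Q hQ hQ1 hnQ
      refine ⟨fun h => ?_, fun ψ hψ => ?_⟩
      · beta_reduce
        rw [dif_neg (hkeep Q hnQ)]; exact h1 h
      · obtain ⟨l, hl⟩ := h2 ψ hψ
        refine ⟨l, fun w => ?_⟩
        beta_reduce
        rw [dif_neg (hkeep Q hnQ), dif_neg (hkeep _ ?_)]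
        · exact hl w
        · have := Subgroup.card_le_of_le (le_sup_left : Q ≤ Q ⊔ Subgroup.zpowers (w : G))
          omega
    · have hQn : Q ≤ P ∧ Q ≠ ⊥ ∧ Nat.card P = Nat.card Q + n := ⟨hQ, hQ1, by omega⟩
      refine ⟨fun h => ?_, fun ψ hψ => ?_⟩
      · beta_reduce
        rw [dif_pos hQn]; exact hε1 Q hQn h
      · obtain ⟨l, hl⟩ := hεl Q hQn ψ hψ
        refine ⟨l, fun w => ?_⟩
        beta_reduce
        by_cases hw : (w : G) ∈ Q
        · rw [(hl w).1 hw, sup_eq_left.2 (Subgroup.zpowers_le.2 hw), dif_pos hQn]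
        · have hlt : Q < Q ⊔ Subgroup.zpowers (w : G) := lt_of_le_of_ne le_sup_left fun e =>
            hw (e ▸ Subgroup.mem_sup_right (Subgroup.mem_zpowers _))
          have hcard : Nat.card Q < Nat.card ↥(Q ⊔ Subgroup.zpowers (w : G)) :=
            lt_of_le_of_ne (Subgroup.card_le_of_le hlt.le) fun e =>
              hlt.ne (Subgroup.eq_of_le_of_card_ge hlt.le e.ge)
          rw [dif_pos hQn, dif_neg (hkeep _ (by omega))]
          exact (hl w).2 hw

/-- Glued signs are invariant under the stabilizer. -/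
theorem sign_invariant {σ : Subgroup G → ℤ} (hσ : ∀ R, σ R = 1 ∨ σ R = -1)
    (hglue : ∀ Q : Subgroup G, Q ≤ P → Q ≠ ⊥ → GlueAt p M P c σ Q) {t : G} (ht : t ∈ T) :
    ∀ Q : Subgroup G, Q ≤ P → Q ≠ ⊥ → σ (Q.map (MulAut.conj t).toMonoidHom) = σ Q := by
  classical
  suffices ∀ n : ℕ, ∀ Q : Subgroup G, Q ≤ P → Q ≠ ⊥ → Nat.card P - Nat.card Q = n →
      σ (Q.map (MulAut.conj t).toMonoidHom) = σ Q from fun Q hQ hQ1 => this _ Q hQ hQ1 rfl
  intro n
  induction n using Nat.strong_induction_on with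
  | _ n ih =>
  intro Q hQ hQ1 hn
  obtain ⟨hQ', hconj⟩ := S.sub_conj ht hQ (R' := Q.map (MulAut.conj t).toMonoidHom) rfl
  have hQ'1 : Q.map (MulAut.conj t).toMonoidHom ≠ ⊥ := fun h =>
    hQ1 ((Subgroup.map_eq_bot_iff_of_injective _ (MulAut.conj t).injective).1 h)
  have hcard : Nat.card ↥(Q.map (MulAut.conj t).toMonoidHom) = Nat.card Q :=
    Subgroup.card_map_of_injective (MulAut.conj t).injective
  by_cases hbig : Nat.card P ≤ 2 * Nat.card Q
  · rw [(hglue _ hQ' hQ'1).1 (by rwa [hcard]), (hglue Q hQ hQ1).1 hbig]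
  have htN := ((S.stab t).1 ht).1
  obtain ⟨ψ, hψ⟩ := nonempty_of_isPBlock S.modular (S.sub_spec hQ).1
  obtain ⟨ι, hι⟩ : ∃ ι : C[Q] ≃* C[Q.map (MulAut.conj t).toMonoidHom],
      ι = conjIso (conjMaps_centralizer rfl) := ⟨_, rfl⟩
  obtain ⟨ψ', hψ'⟩ : ∃ ψ', ψ' = compIrr ι.symm ψ := ⟨_, rfl⟩
  have hψ'mem : ψ' ∈ f[Q.map (MulAut.conj t).toMonoidHom] := by
    rw [← hconj, hψ', hι, conjSet]
    exact mem_pullSet.2 hψ
  have hval : ∀ g : G, extC (Q.map (MulAut.conj t).toMonoidHom) ψ' (t * g * t⁻¹) =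
      extC Q ψ g := by
    intro g
    by_cases hg : g ∈ C[Q]
    · obtain ⟨y, rfl⟩ : ∃ y : C[Q], (y : G) = g := ⟨⟨g, hg⟩, rfl⟩
      have e : t * (y : G) * t⁻¹ = ((ι y : C[Q.map (MulAut.conj t).toMonoidHom]) : G) := by
        rw [hι]; rfl
      rw [e, extC_coe, extC_coe, hψ', compIrr_apply, ι.symm_apply_apply]
    · rw [extC, extC, dif_neg hg, dif_neg fun h => hg ?_]
      exact (conjMaps_centralizer rfl g).2 h
  obtain ⟨l, hl⟩ := (hglue Q hQ hQ1).2 ψ hψ
  obtain ⟨l', hl'⟩ := (hglue _ hQ' hQ'1).2 ψ' hψ'mem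
  let tw : P →* P := (P.normalizerMonoidHom ⟨t, htN⟩).toMonoidHom
  refine (sign_eq_of_agree (Q := Q.subgroupOf P) ?_ (hσ Q) (hσ _) l (l'.comp tw) fun w hw => ?_).symm
  · rw [Nat.card_congr (Subgroup.subgroupOfEquivOfLe hQ).toEquiv]
    omega
  have hw' : (w : G) ∉ Q := fun h => hw (Subgroup.mem_subgroupOf.2 h)
  have hlt : Q < Q ⊔ Subgroup.zpowers (w : G) := lt_of_le_of_ne le_sup_left fun e =>
    hw' (e ▸ Subgroup.mem_sup_right (Subgroup.mem_zpowers _))
  have hmap : (Q ⊔ Subgroup.zpowers (w : G)).map (MulAut.conj t).toMonoidHom =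
      Q.map (MulAut.conj t).toMonoidHom ⊔ Subgroup.zpowers (t * (w : G) * t⁻¹) := by
    rw [Subgroup.map_sup, conj_zpowers_map]
  obtain ⟨-, hconjR⟩ := S.sub_conj ht (S.sup_zpowers_le hQ w.2) hmap
  have hσR := ih _ (by
    have h1 : Nat.card Q < Nat.card ↥(Q ⊔ Subgroup.zpowers (w : G)) :=
      lt_of_le_of_ne (Subgroup.card_le_of_le hlt.le) fun e =>
        hlt.ne (Subgroup.eq_of_le_of_card_ge hlt.le e.ge)
    have h2 := Subgroup.card_le_of_le (S.sup_zpowers_le hQ w.2)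
    omega) _ (S.sup_zpowers_le hQ w.2) (S.ne_bot_of_le hlt.le hQ1) rfl
  have h1 := hl w
  have h2 := hl' (tw w)
  have htw : ((tw w : P) : G) = t * (w : G) * t⁻¹ := rfl
  rw [htw, S.secVal_conj hmap hconjR hval, ← hmap, hσR, h1] at h2
  exact h2

open Classical in
/-- The sections of a character glue to a generalized character off the identity. -/
theorem exists_global_char {σ : Subgroup G → ℤ}
    (hglue : ∀ Q : Subgroup G, Q ≤ P → Q ≠ ⊥ → GlueAt p M P c σ Q) (χ : IrrCharacter G) :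
    ∃ Φ : P → ℂ, IsGeneralizedCharacter P Φ ∧ ∀ u : P, u ≠ 1 →
      Φ u = (σ (Subgroup.zpowers (u : G)) : ℂ) *
        D[Subgroup.zpowers (u : G)] (χ : G → ℂ) u := by
  obtain ⟨cw, hcw⟩ := S.exists_glue_char (bot_le : ⊥ ≤ P) σ
    fun Q' hlt hle => hglue Q' hle hlt.ne'
  obtain ⟨Φ, h1, h2, -⟩ := hcw (χ : G → ℂ) fun Q' _ _ => χ.2.isGeneralized.comp C[Q'].subtype
  refine ⟨Φ, h1, fun u hu => ?_⟩
  have h := h2 u fun h => hu (Subtype.ext (Subgroup.mem_bot.1 h))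
  rwa [bot_sup_eq] at h

end FreeSetup

end Cfsg.Lib.Block
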