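import Cfsg.Agent.Lib.Block.FreeLattice
import Cfsg.Agent.Lib.Block.CyclicIsometry

/-!
# Perfect isometries from matching sections

A signed bijection between two blocks with free inertial action under which every column of
sections of one block is a local multiple of a column of the other is a perfect isometry.
-/

set_option autoImplicit false
set_option linter.unusedSectionVars false
set_option maxHeartbeats 800000

namespace Cfsg.Lib.Block

open Cfsg Cfsg.Lib.Char
open scoped ComplexConjugate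

universe u

noncomputable local instance (priority := high) fintypeSubgroupFreeIsometry {A : Type u}
    [Group A] [Fintype A] (H : Subgroup A) : Fintype H := Fintype.ofFinite H

local notation "C[" Q "]" => Subgroup.centralizer (SetLike.coe Q)

namespace FreeSetup

variable {p : ℕ} [Fact p.Prime] {M : Ideal AlgInt} {G : Type u} [Group G] [Fintype G]
  {B : Set (IrrCharacter G)} {P : Subgroup G} {c : Set (IrrCharacter C[P])} {T : Subgroup G}
  (S : FreeSetup p M B P c T)

local notation "f[" Q "]" => subBlock p M P c Q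
local notation "D[" R "]" => secVal p M P c R

include S

/-- Sections at conjugate elements of an orbit agree. -/
theorem secVal_orbit {u t : G} (hu : u ∈ P) (ht : t ∈ T) (χ : IrrCharacter G) :
    D[Subgroup.zpowers (t * u * t⁻¹)] (χ : G → ℂ) (t * u * t⁻¹) =
      D[Subgroup.zpowers u] (χ : G → ℂ) u := by
  have hmap := conj_zpowers_map t u
  exact S.secVal_conj hmap (S.sub_conj ht (Subgroup.zpowers_le.2 hu) hmap).2
    (fun g => χ.2.isClassFunction g t) u

open Classical in
/-- The inner products of two columns of sections are multiples of the order of the defect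
group. -/
theorem gram_mem {u v : G} (hu : u ∈ P) (hu1 : u ≠ 1) (hv : v ∈ P) (hv1 : v ≠ 1) :
    ∃ z ∈ locRing S.modular, ∑ χ ∈ B.toFinset, D[Subgroup.zpowers u] (χ : G → ℂ) u *
      conj (D[Subgroup.zpowers v] (χ : G → ℂ) v) = (Nat.card P : ℂ) * z := by
  by_cases horb : ∃ t ∈ T, t * u * t⁻¹ = v
  · obtain ⟨t, ht, rfl⟩ := horb
    refine ⟨1, one_mem _, ?_⟩
    rw [mul_one, ← S.sum_secVal_top hu hu1]
    exact Finset.sum_congr rfl fun χ _ => by rw [S.secVal_orbit hu ht χ]
  · refine ⟨0, zero_mem _, ?_⟩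
    rw [mul_zero, S.sum_secVal_ne hu hu1 hv hv1 fun t ht e => horb ⟨t, ht, e⟩]

open Classical in
/-- The sum of a local block at a regular element, over the order of the centralizer. -/
theorem sub_div_centralizer {v : G} (hv : v ∈ P) (hv1 : v ≠ 1)
    {ρ₀ : IrrCharacter C[Subgroup.zpowers v]} (hρ₀ : ρ₀ ∈ f[Subgroup.zpowers v])
    {y : C[Subgroup.zpowers v]} (hy : IsPRegular p y) :
    (Nat.card P : ℂ) * (ρ₀ : C[Subgroup.zpowers v] → ℂ) y /
      (Nat.card (Subgroup.centralizer ({y} : Set C[Subgroup.zpowers v])) : ℂ) ∈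
        locRing S.modular := by
  obtain ⟨hle, hne, hind⟩ := S.zpowers_data hv hv1
  obtain ⟨d, hd0, hd⟩ := S.sub_degree hle hne
  have hvan : ∀ g : C[Subgroup.zpowers v], ¬ IsPRegular p g →
      ∑ ρ ∈ f[Subgroup.zpowers v].toFinset, (1 : ℂ) * (ρ : C[Subgroup.zpowers v] → ℂ) g = 0 := by
    intro g hg
    have h := regKer_eq_zero S.modular (vInt_indVec S.modular hind.1)
      (isPRegular_one (A := C[Subgroup.zpowers v])) hg
    rw [regKer, Finset.sum_congr rfl fun ρ hρ => by rw [hd ρ (Set.mem_toFinset.1 hρ)],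
      ← Finset.mul_sum, ← map_sum] at h
    simp only [one_mul]
    exact (map_eq_zero _).1 ((mul_eq_zero.1 h).resolve_left (Nat.cast_ne_zero.2 hd0.ne'))
  have h := div_centralizer_of_vanish (hM := S.modular) f[Subgroup.zpowers v].toFinset
    (fun _ => (1 : ℂ)) (fun ρ => (ρ : C[Subgroup.zpowers v] → ℂ)) (fun _ _ => one_mem _)
    (fun ρ _ => ρ.2.isCharacter) hvan hy
  simp only [one_mul] at h
  rwa [Finset.sum_congr rfl fun ρ hρ => S.sub_agree hle hne (Set.mem_toFinset.1 hρ) hρ₀ hy,
    Finset.sum_const, nsmul_eq_mul, ← Nat.card_eq_card_toFinset, (S.sub_data hle hne).2.1] at h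

omit S in
theorem card_centralizer_section {u : G} (hu : ∃ k : ℕ, orderOf u = p ^ k)
    {y : C[Subgroup.zpowers u]} (hy : IsPRegular p y) :
    Nat.card (Subgroup.centralizer ({u * (y : G)} : Set G)) =
      Nat.card (Subgroup.centralizer ({y} : Set C[Subgroup.zpowers u])) := by
  have hyG : IsPRegular p (y : G) := by rwa [IsPRegular, orderOf_submonoid]
  have hpart := pPt_mul_reg hu (commute_mem_cen u y) hyG
  have hmem : ∀ x ∈ Subgroup.centralizer ({u * (y : G)} : Set G),
      x ∈ C[Subgroup.zpowers u] ∧ x * (y : G) = (y : G) * x := by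
    intro x hx
    have h1 : x * (u * (y : G)) = u * (y : G) * x := Subgroup.mem_centralizer_singleton_iff.1 hx
    have h2 := pPt_conj (p := p) (u * (y : G)) x
    rw [h1, mul_inv_cancel_right, hpart] at h2
    have h3 : x * u = u * x := mul_inv_eq_iff_eq_mul.1 h2.symm
    exact ⟨centralizer_singleton_le u (Subgroup.mem_centralizer_singleton_iff.2 h3),
      mul_left_cancel (a := u) (by rw [← mul_assoc, ← h3, mul_assoc, h1, mul_assoc])⟩
  refine Nat.card_congr
    { toFun := fun x => ⟨⟨x.1, (hmem x.1 x.2).1⟩,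
        Subgroup.mem_centralizer_singleton_iff.2 (Subtype.ext (hmem x.1 x.2).2)⟩
      invFun := fun x => ⟨((x.1 : C[Subgroup.zpowers u]) : G),
        Subgroup.mem_centralizer_singleton_iff.2 ?_⟩
      left_inv := fun x => rfl
      right_inv := fun x => rfl }
  have h4 : ((x.1 : C[Subgroup.zpowers u]) : G) * (y : G) = (y : G) * (x.1 : C[Subgroup.zpowers u]) :=
    congrArg Subtype.val (Subgroup.mem_centralizer_singleton_iff.1 x.2)
  rw [← mul_assoc, ← (commute_mem_cen u x.1).eq, mul_assoc, h4, mul_assoc]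

open Classical in
/-- The value at a singular element as a combination of the sections. -/
theorem exists_section_expansion {g : G} (hg : ¬ IsPRegular p g) :
    ∃ r : P → ℂ, r 1 = 0 ∧ (∀ v, r v ∈ locRing S.modular ∧
      (Nat.card P : ℂ) * r v / (Nat.card (Subgroup.centralizer ({g} : Set G)) : ℂ) ∈
        locRing S.modular) ∧
      ∀ cc : IrrCharacter G → ℂ, ∑ χ ∈ B.toFinset, cc χ * (χ : G → ℂ) g =
        ∑ v : P, (∑ χ ∈ B.toFinset, cc χ * D[Subgroup.zpowers (v : G)] (χ : G → ℂ) v) * r v := by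
  obtain ⟨u, hu, hup, y, hy, rfl⟩ := exists_section_decomp (p := p) g
  have hu1 : u ≠ 1 := fun e => hg (by subst e; simpa [IsPRegular, orderOf_submonoid] using hy)
  have hblock : ∀ b : Set (IrrCharacter C[Subgroup.zpowers u]), b ∈ blocksOf M C[Subgroup.zpowers u] →
      ∃ (v : P) (r : ℂ), (v = 1 → r = 0) ∧ r ∈ locRing S.modular ∧
        (Nat.card P : ℂ) * r / (Nat.card (Subgroup.centralizer ({u * (y : G)} : Set G)) : ℂ) ∈
          locRing S.modular ∧
        ∀ χ ∈ B, blockPart b (secFn u C[Subgroup.zpowers u] ((χ : IrrCharacter G) : G → ℂ)) y =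
          D[Subgroup.zpowers (v : G)] (χ : G → ℂ) v * r := by
    intro b hb
    have hbb := (mem_blocksOf S.modular).1 hb
    rcases pair_or_vanish S.modular S.maximal hup hbb with ⟨x, hx⟩ | h
    · have hvP : x * u * x⁻¹ ∈ P := le_of_rel hx ⟨u, Subgroup.mem_zpowers u, rfl⟩
      have hv1 : x * u * x⁻¹ ≠ 1 := fun e => hu1 (conj_eq_one_iff.1 e)
      have hmap := conj_zpowers_map x u
      rw [conjIdx_eq hmap] at hx
      have hf := S.sub_eq (isPBlock_conjSet _ hbb) hx
      obtain ⟨hle, hne, -⟩ := S.zpowers_data hvP hv1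
      obtain ⟨ρ₀, hρ₀⟩ := nonempty_of_isPBlock S.modular (S.sub_spec hle).1
      obtain ⟨y', hy'eq⟩ : ∃ y', y' = conjIso (conjMaps_centralizer hmap) y := ⟨_, rfl⟩
      have hy' : IsPRegular p y' := by rwa [hy'eq, IsPRegular, MulEquiv.orderOf_eq]
      refine ⟨⟨x * u * x⁻¹, hvP⟩, (ρ₀ : C[Subgroup.zpowers (x * u * x⁻¹)] → ℂ) y',
        fun e => absurd (congrArg Subtype.val e) hv1, charVal_mem_locRing S.modular ρ₀ y', ?_,
        fun χ _ => ?_⟩
      · have hcard : Nat.card (Subgroup.centralizer ({u * (y : G)} : Set G)) =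
            Nat.card (Subgroup.centralizer ({y'} : Set C[Subgroup.zpowers (x * u * x⁻¹)])) := by
          rw [card_centralizer_section hup hy, hy'eq]
          have h1 := (Subgroup.centralizer ({y} : Set C[Subgroup.zpowers u])).card_mul_index
          have h2 := (Subgroup.centralizer ({conjIso (conjMaps_centralizer hmap) y} :
            Set C[Subgroup.zpowers (x * u * x⁻¹)])).card_mul_index
          rw [index_centralizer_equiv, ← Nat.card_congr (conjIso (conjMaps_centralizer hmap)).toEquiv]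
            at h2
          exact Nat.eq_of_mul_eq_mul_right (Nat.pos_of_ne_zero Subgroup.index_ne_zero_of_finite)
            (h1.trans h2.symm)
        rw [hcard]
        exact S.sub_div_centralizer hvP hv1 hρ₀ hy'
      · rw [← blockPart_secFn_conj S.modular χ hmap rfl hbb y, ← hf, ← hy'eq,
          S.blockPart_sub hle hne _ hρ₀ hy']
        rfl
    · exact ⟨1, 0, fun _ => rfl, zero_mem _, by simp, fun χ hχ => by rw [h χ hχ y hy, mul_zero]⟩
  choose v r hr1 hr hrd hval using hblock
  refine ⟨fun w => ∑ b ∈ (blocksOf M C[Subgroup.zpowers u]).attach,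
    if v b.1 b.2 = w then r b.1 b.2 else 0, ?_, fun w => ⟨?_, ?_⟩, fun cc => ?_⟩
  · refine Finset.sum_eq_zero fun b _ => ?_
    split_ifs with e
    · exact hr1 b.1 b.2 e
    · rfl
  · exact sum_mem fun b _ => by split_ifs <;> [exact hr b.1 b.2; exact zero_mem _]
  · rw [Finset.mul_sum, Finset.sum_div]
    refine sum_mem fun b _ => ?_
    split_ifs
    · exact hrd b.1 b.2
    · simp
  · simp only [sum_blockPart_section S.modular, Finset.mul_sum]
    rw [Finset.sum_comm, ← Finset.sum_attach]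
    conv_rhs => rw [Finset.sum_comm]
    refine Finset.sum_congr rfl fun b _ => ?_
    simp only [mul_ite, mul_zero, Finset.sum_ite_eq, Finset.mem_univ, if_true, Finset.sum_mul]
    refine Finset.sum_congr rfl fun χ hχ => ?_
    rw [hval b.1 b.2 χ (Set.mem_toFinset.1 hχ), mul_assoc]

open Classical in
/-- The conjugate sections are orthogonal to the regular values. -/
theorem conj_secVal_sum_reg {v : G} (hv : v ∈ P) (hv1 : v ≠ 1) {g : G} (hg : IsPRegular p g) :
    ∑ χ ∈ B.toFinset, conj (D[Subgroup.zpowers v] (χ : G → ℂ) v) * (χ : G → ℂ) g = 0 := by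
  have h := congrArg conj (S.sum_secVal_mul_reg hv hv1 (g := g⁻¹) (by rwa [IsPRegular, orderOf_inv]))
  rw [map_zero, map_sum] at h
  rw [← h]
  exact Finset.sum_congr rfl fun χ _ => by
    rw [map_mul, χ.2.isCharacter.apply_inv, Complex.conj_conj]

open Classical in
/-- The conjugate sections against a singular value are multiples of the order of the defect
group. -/
theorem conj_secVal_sum_mem {v : G} (hv : v ∈ P) (hv1 : v ≠ 1) {g : G} (hg : ¬ IsPRegular p g) :
    ∃ z ∈ locRing S.modular,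
      ∑ χ ∈ B.toFinset, conj (D[Subgroup.zpowers v] (χ : G → ℂ) v) * (χ : G → ℂ) g =
        (Nat.card P : ℂ) * z := by
  obtain ⟨r, hr1, hr, hexp⟩ := S.exists_section_expansion hg
  have hw : ∀ w : P, ∃ z ∈ locRing S.modular, (∑ χ ∈ B.toFinset,
      conj (D[Subgroup.zpowers v] (χ : G → ℂ) v) * D[Subgroup.zpowers (w : G)] (χ : G → ℂ) w) *
        r w = (Nat.card P : ℂ) * z := by
    intro w
    by_cases hw : w = 1
    · exact ⟨0, zero_mem _, by rw [hw, hr1, mul_zero, mul_zero]⟩
    · obtain ⟨z, hz, e⟩ := S.gram_mem w.2 (fun e => hw (Subtype.ext e)) hv hv1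
      refine ⟨z * r w, mul_mem hz (hr w).1, ?_⟩
      rw [← mul_assoc, ← e]
      simp only [mul_comm (conj _)]
  choose z hz hzw using hw
  exact ⟨∑ w, z w, sum_mem fun w _ => hz w, by
    rw [hexp, Finset.sum_congr rfl fun w _ => hzw w, Finset.mul_sum]⟩

section Isometry

variable {H : Type u} [Group H] [Fintype H] {B' : Set (IrrCharacter H)} {P' : Subgroup H}
  {c' : Set (IrrCharacter C[P'])} {T' : Subgroup H} (S' : FreeSetup p M B' P' c' T')

include S'

open Classical in
/-- Matching columns of sections give a perfect isometry. -/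
theorem perfect_of_sections (hq : Nat.card P' = Nat.card P)
    (I : IrrCharacter H → IrrCharacter G) (ε : IrrCharacter H → ℤ) (hI : Set.BijOn I B' B)
    (hε : ∀ η ∈ B', ε η = 1 ∨ ε η = -1)
    (h1 : ∀ v ∈ P, v ≠ 1 → ∃ v' ∈ P', v' ≠ 1 ∧ ∃ s ∈ locRing S.modular, ∀ η ∈ B',
      (ε η : ℂ) * D[Subgroup.zpowers v] (I η : G → ℂ) v =
        s * conj (secVal p M P' c' (Subgroup.zpowers v') (η : H → ℂ) v'))
    (h2 : ∀ v' ∈ P', v' ≠ 1 → ∃ v ∈ P, v ≠ 1 ∧ ∃ s ∈ locRing S.modular, ∀ η ∈ B',
      (ε η : ℂ) * secVal p M P' c' (Subgroup.zpowers v') (η : H → ℂ) v' =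
        s * conj (D[Subgroup.zpowers v] (I η : G → ℂ) v)) :
    IsPerfectIsometry p M B' B I ε := by
  have hM := S.modular
  have hq0 : (Nat.card P : ℂ) ≠ 0 := Char.card_cast_ne_zero
  -- sums over `B'` as sums over `B`
  have hre : ∀ F : IrrCharacter G → ℂ, ∑ χ ∈ B.toFinset, F χ = ∑ η ∈ B'.toFinset, F (I η) :=
    fun F => (Finset.sum_bij (fun η _ => I η) (fun η hη => Set.mem_toFinset.2
      (hI.1 (Set.mem_toFinset.1 hη))) (fun a ha b hb e => hI.2.1 (Set.mem_toFinset.1 ha)
      (Set.mem_toFinset.1 hb) e) (fun χ hχ => by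
        obtain ⟨η, hη, e⟩ := hI.2.2 (Set.mem_toFinset.1 hχ)
        exact ⟨η, Set.mem_toFinset.2 hη, e⟩) fun _ _ => rfl).symm
  obtain ⟨J, hJ⟩ : ∃ J : IrrCharacter G → IrrCharacter H, ∀ η ∈ B', J (I η) = η :=
    ⟨fun χ => if h : ∃ η ∈ B', I η = χ then h.choose
        else (nonempty_of_isPBlock hM S'.block).some,
      fun η hη => by
        have h : ∃ η' ∈ B', I η' = I η := ⟨η, hη, rfl⟩
        beta_reduce
        rw [dif_pos h]
        exact hI.2.1 h.choose_spec.1 hη h.choose_spec.2⟩
  have hsum : ∀ (a : IrrCharacter H → ℂ) (F : IrrCharacter G → ℂ),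
      ∑ χ ∈ B.toFinset, a (J χ) * F χ = ∑ η ∈ B'.toFinset, a η * F (I η) := fun a F => by
    rw [hre fun χ => a (J χ) * F χ]
    exact Finset.sum_congr rfl fun η hη => by rw [hJ η (Set.mem_toFinset.1 hη)]
  have hloc : ∀ η, ((ε η : ℂ)) ∈ locRing hM := fun η => intCast_mem _ _
  -- the columns of one block against an element of the other group
  have hSv : ∀ (y : H) (v : P), v ≠ 1 →
      ∃ s ∈ locRing hM, ∃ v' ∈ P', v' ≠ 1 ∧
        ∑ η ∈ B'.toFinset, (ε η : ℂ) * (η : H → ℂ) y * D[Subgroup.zpowers (v : G)] (I η : G → ℂ) v =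
          s * ∑ η ∈ B'.toFinset,
            conj (secVal p M P' c' (Subgroup.zpowers v') (η : H → ℂ) v') * (η : H → ℂ) y := by
    intro y v hv
    obtain ⟨v', hv'P, hv'1, s, hs, hval⟩ := h1 v v.2 fun e => hv (Subtype.ext e)
    refine ⟨s, hs, v', hv'P, hv'1, ?_⟩
    rw [Finset.mul_sum]
    refine Finset.sum_congr rfl fun η hη => ?_
    linear_combination (η : H → ℂ) y * hval η (Set.mem_toFinset.1 hη)
  have hSv' : ∀ (x : G) (v' : P'), v' ≠ 1 →
      ∃ s ∈ locRing hM, ∃ v ∈ P, v ≠ 1 ∧
        ∑ η ∈ B'.toFinset, (ε η : ℂ) * (I η : G → ℂ) x *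
            secVal p M P' c' (Subgroup.zpowers (v' : H)) (η : H → ℂ) v' =
          s * ∑ χ ∈ B.toFinset, conj (D[Subgroup.zpowers v] (χ : G → ℂ) v) * (χ : G → ℂ) x := by
    intro x v' hv'
    obtain ⟨v, hvP, hv1, s, hs, hval⟩ := h2 v' v'.2 fun e => hv' (Subtype.ext e)
    refine ⟨s, hs, v, hvP, hv1, ?_⟩
    rw [hre, Finset.mul_sum]
    refine Finset.sum_congr rfl fun η hη => ?_
    linear_combination (I η : G → ℂ) x * hval η (Set.mem_toFinset.1 hη)
  have hker : ∀ x y, signedBijectionKernel B' I ε x y =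
      ∑ η ∈ B'.toFinset, (ε η : ℂ) * (I η : G → ℂ) x * (η : H → ℂ) y := fun x y => by
    rw [signedBijectionKernel, finsum_mem_eq_toFinset_sum]
  have hkerB : ∀ x y, signedBijectionKernel B' I ε x y =
      ∑ χ ∈ B.toFinset, (ε (J χ) : ℂ) * ((J χ : IrrCharacter H) : H → ℂ) y * (χ : G → ℂ) x := by
    intro x y
    rw [hker, hsum (fun η => (ε η : ℂ) * (η : H → ℂ) y) fun χ => (χ : G → ℂ) x]
    exact Finset.sum_congr rfl fun η _ => by ring
  have hkerB' : ∀ x y, signedBijectionKernel B' I ε x y =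
      ∑ η ∈ B'.toFinset, ((ε η : ℂ) * (I η : G → ℂ) x) * (η : H → ℂ) y := hker
  -- mixed pairs
  have hvan1 : ∀ x y, ¬ IsPRegular p x → IsPRegular p y → signedBijectionKernel B' I ε x y = 0 := by
    intro x y hx hy
    rw [hkerB]
    refine S.sum_block_eq_zero_of_secVal _ (fun v hv hv1 => ?_) hx
    obtain ⟨s, -, v', hv'P, hv'1, e⟩ := hSv y ⟨v, hv⟩ fun e => hv1 (congrArg Subtype.val e)
    rw [hsum (fun η => (ε η : ℂ) * (η : H → ℂ) y), e,
      S'.conj_secVal_sum_reg hv'P hv'1 hy, mul_zero]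
  have hvan2 : ∀ x y, IsPRegular p x → ¬ IsPRegular p y → signedBijectionKernel B' I ε x y = 0 := by
    intro x y hx hy
    rw [hkerB']
    refine S'.sum_block_eq_zero_of_secVal _ (fun v' hv' hv'1 => ?_) hy
    obtain ⟨s, -, v, hvP, hv1, e⟩ := hSv' x ⟨v', hv'⟩ fun e => hv'1 (congrArg Subtype.val e)
    rw [e, S.conj_secVal_sum_reg hvP hv1 hx, mul_zero]
  refine ⟨hI, hε, fun x y => ?_⟩
  by_cases hx : IsPRegular p x <;> by_cases hy : IsPRegular p y
  · refine ⟨?_, ?_, Or.inl (iff_of_true hx hy)⟩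
    · refine (mem_locRing hM).1 ?_
      rw [hker, Finset.sum_congr rfl fun η _ => mul_right_comm _ _ _]
      exact div_centralizer_of_vanish (hM := hM) B'.toFinset
        (fun η => (ε η : ℂ) * (η : H → ℂ) y) (fun η => (I η : G → ℂ))
        (fun η _ => mul_mem (hloc η) (charVal_mem_locRing hM η y)) (fun η _ => (I η).2.isCharacter)
        (fun g hg => by
          rw [← hvan1 g y hg hy, hker]
          exact Finset.sum_congr rfl fun η _ => mul_right_comm _ _ _) hx
    · refine (mem_locRing hM).1 ?_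
      rw [hker]
      exact div_centralizer_of_vanish (hM := hM) B'.toFinset
        (fun η => (ε η : ℂ) * (I η : G → ℂ) x) (fun η => (η : H → ℂ))
        (fun η _ => mul_mem (hloc η) (charVal_mem_locRing hM (I η) x))
        (fun η _ => η.2.isCharacter) (fun g hg => by rw [← hvan2 x g hx hg, hker]) hy
  · rw [hvan2 x y hx hy, zero_div, zero_div]
    exact ⟨zero_mem (locRing hM), zero_mem (locRing hM), Or.inr rfl⟩
  · rw [hvan1 x y hx hy, zero_div, zero_div]
    exact ⟨zero_mem (locRing hM), zero_mem (locRing hM), Or.inr rfl⟩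
  · refine ⟨?_, ?_, Or.inl (iff_of_false hx hy)⟩
    · obtain ⟨r, hr1, hr, hexp⟩ := S.exists_section_expansion hx
      refine (mem_locRing hM).1 ?_
      rw [hkerB, hexp, Finset.sum_div]
      refine sum_mem fun v _ => ?_
      by_cases hv : v = 1
      · simp [hv, hr1]
      obtain ⟨s, hs, v', hv'P, hv'1, e⟩ := hSv y v hv
      obtain ⟨z, hz, e'⟩ := S'.conj_secVal_sum_mem hv'P hv'1 hy
      rw [hsum (fun η => (ε η : ℂ) * (η : H → ℂ) y), e, e', hq,
        show s * ((Nat.card P : ℂ) * z) * r v /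
            (Nat.card (Subgroup.centralizer ({x} : Set G)) : ℂ) =
          s * z * ((Nat.card P : ℂ) * r v /
            (Nat.card (Subgroup.centralizer ({x} : Set G)) : ℂ)) by ring]
      exact mul_mem (mul_mem hs hz) (hr v).2
    · obtain ⟨r, hr1, hr, hexp⟩ := S'.exists_section_expansion hy
      refine (mem_locRing hM).1 ?_
      rw [hkerB', hexp, Finset.sum_div]
      refine sum_mem fun v' _ => ?_
      by_cases hv : v' = 1
      · simp [hv, hr1]
      obtain ⟨s, hs, v, hvP, hv1, e⟩ := hSv' x v' hv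
      obtain ⟨z, hz, e'⟩ := S.conj_secVal_sum_mem hvP hv1 hx
      rw [e, e', ← hq,
        show s * ((Nat.card P' : ℂ) * z) * r v' /
            (Nat.card (Subgroup.centralizer ({y} : Set H)) : ℂ) =
          s * z * ((Nat.card P' : ℂ) * r v' /
            (Nat.card (Subgroup.centralizer ({y} : Set H)) : ℂ)) by ring]
      exact mul_mem (mul_mem hs hz) (hr v').2

end Isometry

end FreeSetup

end Cfsg.Lib.Block
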