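import Cfsg.Agent.Lib.Block.FreeGlue
import Cfsg.Agent.Lib.Block.CycShape

/-!
# The lattice of a block with abelian defect group and free inertial action

The multiplicities of the differences of two linear characters of the defect group in the glued
sections are the coefficients of generalized characters with Gram matrix `I + e J`, which vanish
at regular elements and span all such combinations.
-/

set_option autoImplicit false
set_option linter.unusedSectionVars false
set_option maxHeartbeats 1600000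

namespace Cfsg.Lib.Block

open Cfsg Cfsg.Lib.Char
open scoped ComplexConjugate

universe u

noncomputable local instance (priority := high) fintypeSubgroupFreeLattice {A : Type u}
    [Group A] [Fintype A] (H : Subgroup A) : Fintype H := Fintype.ofFinite H

local notation "C[" Q "]" => Subgroup.centralizer (SetLike.coe Q)

section Columns

variable {p : ℕ} {M : Ideal AlgInt} {G : Type u} [Group G] [Fintype G] [Fact p.Prime]
  (hM : IsPModular p M) {H : Subgroup G} [Fintype H] {u : G}

include hM in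
/-- A section is orthogonal to the columns of elements outside its coset of regular elements. -/
theorem sum_blockPart_mul_conj_char {b : Set (IrrCharacter H)} (hb : IsPBlock M b) {g : G}
    (hno : ∀ h : H, IsPRegular p h → ¬ IsConj (u * (h : G)) g) {y : H} (hy : IsPRegular p y) :
    ∑ χ : IrrCharacter G, blockPart b (secFn u H (χ : G → ℂ)) y * conj ((χ : G → ℂ) g) = 0 := by
  classical
  simp only [blockPart_eq_regKer_sum, secFn, Finset.mul_sum, Finset.sum_mul]
  rw [Finset.sum_comm]
  refine Finset.sum_eq_zero fun h _ => ?_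
  by_cases hh : IsPRegular p h
  · rw [Finset.sum_congr rfl fun (χ : IrrCharacter G) _ => show (Nat.card H : ℂ)⁻¹ *
        ((χ : G → ℂ) (u * (h : G)) * regKer b y h) * conj ((χ : G → ℂ) g) =
        (Nat.card H : ℂ)⁻¹ * regKer b y h * ((χ : G → ℂ) (u * (h : G)) * conj ((χ : G → ℂ) g)) by
      ring, ← Finset.mul_sum, Char.column_orthogonality, if_neg (hno h hh), mul_zero]
  · simp [regKer_eq_zero hM (vInt_indVec hM hb) hy hh]

end Columns

namespace FreeSetup

variable {p : ℕ} [Fact p.Prime] {M : Ideal AlgInt} {G : Type u} [Group G] [Fintype G]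
  {B : Set (IrrCharacter G)} {P : Subgroup G} {c : Set (IrrCharacter C[P])} {T : Subgroup G}
  (S : FreeSetup p M B P c T)

local notation "f[" Q "]" => subBlock p M P c Q
local notation "D[" R "]" => secVal p M P c R

include S

theorem zpowers_data {u : G} (hu : u ∈ P) (hu1 : u ≠ 1) :
    Subgroup.zpowers u ≤ P ∧ Subgroup.zpowers u ≠ ⊥ ∧
      IsInducedBlock M C[Subgroup.zpowers u] f[Subgroup.zpowers u] B := by
  have hle := Subgroup.zpowers_le.2 hu
  refine ⟨hle, fun h => hu1 (Subgroup.zpowers_eq_bot.1 h), ?_⟩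
  exact (isBrauerPairOf_zpowers_iff S.modular S.block (S.exists_order hu) (S.sub_spec hle).1).1
    ((isBrauerPairOf_iff_of_le S.modular (S.sub_spec hle).2 B).1 S.maximal.1)

theorem blockPart_zpowers {u : G} {d : ℕ}
    (hd : ∀ ρ ∈ f[Subgroup.zpowers u], (ρ : C[Subgroup.zpowers u] → ℂ) 1 = (d : ℂ))
    (χ : IrrCharacter G) :
    blockPart f[Subgroup.zpowers u] (secFn u C[Subgroup.zpowers u] (χ : G → ℂ)) 1 =
      (d : ℂ) * D[Subgroup.zpowers u] (χ : G → ℂ) u :=
  blockPart_one_of_degree _ hd

theorem secVal_outside {u : G} (hu : u ∈ P) (hu1 : u ≠ 1) {χ : IrrCharacter G} (hχ : χ ∉ B) :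
    D[Subgroup.zpowers u] (χ : G → ℂ) u = 0 := by
  obtain ⟨hle, hne, hind⟩ := S.zpowers_data hu hu1
  obtain ⟨d, hd0, hd⟩ := S.sub_degree hle hne
  have h := blockPart_secFn_eq_zero S.modular (S.exists_order hu) (commute_mem_cen u)
    (centralizer_singleton_le u) hind hχ (isPRegular_one (A := C[Subgroup.zpowers u]))
  rw [S.blockPart_zpowers hd] at h
  exact (mul_eq_zero.1 h).resolve_left (Nat.cast_ne_zero.2 hd0.ne')

open Classical in
theorem sum_block_eq_univ {u : G} (hu : u ∈ P) (hu1 : u ≠ 1) (X : IrrCharacter G → ℂ) :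
    ∑ χ ∈ B.toFinset, D[Subgroup.zpowers u] (χ : G → ℂ) u * X χ =
      ∑ χ : IrrCharacter G, D[Subgroup.zpowers u] (χ : G → ℂ) u * X χ :=
  Finset.sum_subset (Finset.subset_univ _) fun χ _ hχ => by
    rw [S.secVal_outside hu hu1 fun h => hχ (Set.mem_toFinset.2 h), zero_mul]

open Classical in
/-- The squares of the sections of the block at an element sum to the order of the defect group. -/
theorem sum_secVal_top {u : G} (hu : u ∈ P) (hu1 : u ≠ 1) :
    ∑ χ ∈ B.toFinset, D[Subgroup.zpowers u] (χ : G → ℂ) u *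
      conj (D[Subgroup.zpowers u] (χ : G → ℂ) u) = (Nat.card P : ℂ) := by
  obtain ⟨hle, hne, hind⟩ := S.zpowers_data hu hu1
  obtain ⟨d, hd0, hd⟩ := S.sub_degree hle hne
  have h := sum_blockPart_mul_conj_block S.modular (S.exists_order hu) (commute_mem_cen u)
    (centralizer_singleton_le u) hind (y := 1) (y' := 1) isPRegular_one isPRegular_one
  simp only [S.blockPart_zpowers hd, map_mul, map_natCast] at h
  have hker : regKer f[Subgroup.zpowers u] 1 1 = (Nat.card P : ℂ) * ((d : ℂ) * d) := by
    rw [regKer, Finset.sum_congr rfl fun ρ hρ => by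
      rw [hd ρ (Set.mem_toFinset.1 hρ), map_natCast],
      Finset.sum_const, nsmul_eq_mul, ← Nat.card_eq_card_toFinset, (S.sub_data hle hne).2.1]
  rw [hker] at h
  refine mul_right_cancel₀ (b := (d : ℂ) * d) (by simp [hd0.ne']) ?_
  rw [← h, Finset.sum_mul]
  exact Finset.sum_congr rfl fun χ _ => by ring

open Classical in
/-- Sections at elements in different orbits are orthogonal. -/
theorem sum_secVal_ne {u v : G} (hu : u ∈ P) (hu1 : u ≠ 1) (hv : v ∈ P) (hv1 : v ≠ 1)
    (horb : ∀ t ∈ T, t * u * t⁻¹ ≠ v) :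
    ∑ χ ∈ B.toFinset, D[Subgroup.zpowers u] (χ : G → ℂ) u *
      conj (D[Subgroup.zpowers v] (χ : G → ℂ) v) = 0 := by
  obtain ⟨hle, hne, hind⟩ := S.zpowers_data hu hu1
  obtain ⟨hle', hne', hind'⟩ := S.zpowers_data hv hv1
  obtain ⟨d, hd0, hd⟩ := S.sub_degree hle hne
  obtain ⟨d', hd0', hd'⟩ := S.sub_degree hle' hne'
  rw [S.sum_block_eq_univ hu hu1]
  refine mul_left_cancel₀ (a := (d : ℂ) * d') (by simp [hd0.ne', hd0'.ne']) ?_
  rw [mul_zero, Finset.mul_sum, Finset.sum_congr rfl fun (χ : IrrCharacter G) _ => show (d : ℂ) * d' *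
      (D[Subgroup.zpowers u] (χ : G → ℂ) u * conj (D[Subgroup.zpowers v] (χ : G → ℂ) v)) =
    blockPart f[Subgroup.zpowers u] (secFn u C[Subgroup.zpowers u] (χ : G → ℂ)) 1 *
      conj (blockPart f[Subgroup.zpowers v] (secFn v C[Subgroup.zpowers v] (χ : G → ℂ)) 1) by
    rw [S.blockPart_zpowers hd, S.blockPart_zpowers hd', map_mul, map_natCast]; ring]
  by_cases hconj : IsConj u v
  · obtain ⟨x, hx⟩ := isConj_iff.1 hconj
    have hvu : x⁻¹ * v * x⁻¹⁻¹ = u := by rw [← hx]; group
    have hmap : (Subgroup.zpowers v).map (MulAut.conj x⁻¹).toMonoidHom = Subgroup.zpowers u := by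
      rw [conj_zpowers_map, hvu]
    have hb' := isPBlock_conjSet (conjMaps_centralizer hmap) (S.sub_spec hle').1
    have hne2 : f[Subgroup.zpowers u] ≠
        conjSet (conjMaps_centralizer hmap) f[Subgroup.zpowers v] := by
      intro e
      have hg : conjIdx x⁻¹ ⟨Subgroup.zpowers v, f[Subgroup.zpowers v]⟩ =
          ⟨Subgroup.zpowers u, f[Subgroup.zpowers u]⟩ := by rw [conjIdx_eq hmap, ← e]
      obtain ⟨y, w, hy, hw, hyw⟩ := exists_conj_factor S.modular S.maximal S.comm
        (S.sub_spec hle').2 (S.sub_spec hle).2 hg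
      refine horb y⁻¹ (inv_mem ((mem_stab_iff S.stab).2 hy)) ?_
      have hwv : w * v * w⁻¹ = v := by
        rw [← Subgroup.mem_centralizer_iff.1 hw v (Subgroup.mem_zpowers _), mul_inv_cancel_right]
      rw [← hvu, hyw, show y * w * v * (y * w)⁻¹ = y * (w * v * w⁻¹) * y⁻¹ by group, hwv]
      group
    have hinter : f[Subgroup.zpowers u] ∩
        conjSet (conjMaps_centralizer hmap) f[Subgroup.zpowers v] = ∅ :=
      Set.eq_empty_iff_forall_notMem.2 fun η hη =>
        hne2 (isPBlock_eq_of_mem S.modular hind.1 hb' hη.1 hη.2)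
    have h := sum_blockPart_mul_conj S.modular (S.exists_order hu) (commute_mem_cen u)
      (centralizer_singleton_le u) (vInt_indVec S.modular hind.1) (vInt_indVec S.modular hb')
      (y := 1) (y' := 1) isPRegular_one isPRegular_one
    rw [hinter] at h
    refine Eq.trans (Finset.sum_congr rfl fun χ _ => ?_) (h.trans ?_)
    swap
    · unfold regKer
      refine Finset.sum_eq_zero fun η hη => ?_
      simp at hη
    have e := blockPart_secFn_conj S.modular χ hmap hvu (S.sub_spec hle').1 1
    rw [map_one] at e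
    rw [← e]
  · have key : ∀ χ : IrrCharacter G,
        conj (blockPart f[Subgroup.zpowers v] (secFn v C[Subgroup.zpowers v] (χ : G → ℂ)) 1) =
          ∑ h : C[Subgroup.zpowers v], conj ((Nat.card C[Subgroup.zpowers v] : ℂ)⁻¹ *
            regKer f[Subgroup.zpowers v] 1 h) * conj ((χ : G → ℂ) (v * (h : G))) := fun χ => by
      rw [blockPart_eq_regKer_sum, Finset.mul_sum, map_sum]
      exact Finset.sum_congr rfl fun h _ => by rw [← map_mul]; congr 1; rw [secFn]; ring
    simp only [key, Finset.mul_sum]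
    rw [Finset.sum_comm]
    refine Finset.sum_eq_zero fun h _ => ?_
    by_cases hh : IsPRegular p h
    · rw [Finset.sum_congr rfl fun χ _ => mul_left_comm _ _ _, ← Finset.mul_sum,
        sum_blockPart_mul_conj_char S.modular hind.1 (fun h' hh' hc => hconj ?_) isPRegular_one,
        mul_zero]
      obtain ⟨x, hx⟩ := isConj_iff.1 hc
      have h1 := pPt_conj (p := p) (u * (h' : G)) x
      rw [hx, pPt_mul_reg (S.exists_order hv) (commute_mem_cen v h)
          (by rwa [IsPRegular, orderOf_submonoid]),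
        pPt_mul_reg (S.exists_order hu) (commute_mem_cen u h')
          (by rwa [IsPRegular, orderOf_submonoid])] at h1
      exact isConj_iff.2 ⟨x, h1.symm⟩
    · simp [regKer_eq_zero S.modular (vInt_indVec S.modular hind'.1) isPRegular_one hh]

open Classical in
/-- The sections are orthogonal to the regular values. -/
theorem sum_secVal_mul_reg {u : G} (hu : u ∈ P) (hu1 : u ≠ 1) {g : G} (hg : IsPRegular p g) :
    ∑ χ ∈ B.toFinset, D[Subgroup.zpowers u] (χ : G → ℂ) u * (χ : G → ℂ) g = 0 := by
  obtain ⟨hle, hne, hind⟩ := S.zpowers_data hu hu1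
  obtain ⟨d, hd0, hd⟩ := S.sub_degree hle hne
  have h := sum_blockPart_mul_conj_char S.modular (u := u) hind.1 (g := g⁻¹)
    (fun h hh hc => ?_) (y := 1) isPRegular_one
  · simp only [S.blockPart_zpowers hd, mul_assoc, ← Finset.mul_sum] at h
    have h0 := (mul_eq_zero.1 h).resolve_left (Nat.cast_ne_zero.2 hd0.ne')
    rw [S.sum_block_eq_univ hu hu1, ← h0]
    refine Finset.sum_congr rfl fun χ _ => ?_
    rw [χ.2.isCharacter.apply_inv, Complex.conj_conj]
  · obtain ⟨x, hx⟩ := isConj_iff.1 hc
    have h1 := pPt_conj (p := p) (u * (h : G)) x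
    have hginv : IsPRegular p g⁻¹ := by rwa [IsPRegular, orderOf_inv]
    rw [hx, pPt_mul_reg (S.exists_order hu) (commute_mem_cen u h)
      (by rwa [IsPRegular, orderOf_submonoid]),
      show pPt p g⁻¹ = 1 by
        simpa using pPt_mul_reg (u := (1 : G)) ⟨0, by simp⟩ (Commute.one_left _) hginv] at h1
    exact hu1 (conj_eq_one_iff.1 h1.symm)

open Classical in
/-- A combination killed by all sections vanishes at the singular elements. -/
theorem sum_block_eq_zero_of_secVal (cc : IrrCharacter G → ℂ)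
    (h0 : ∀ v ∈ P, v ≠ 1 →
      ∑ χ ∈ B.toFinset, cc χ * D[Subgroup.zpowers v] (χ : G → ℂ) v = 0)
    {g : G} (hg : ¬ IsPRegular p g) : ∑ χ ∈ B.toFinset, cc χ * (χ : G → ℂ) g = 0 := by
  obtain ⟨u, hu, hup, y, hy, rfl⟩ := exists_section_decomp (p := p) g
  have hu1 : u ≠ 1 := fun e => hg (by subst e; simpa [IsPRegular, orderOf_submonoid] using hy)
  simp only [sum_blockPart_section S.modular, Finset.mul_sum]
  rw [Finset.sum_comm]
  refine Finset.sum_eq_zero fun b hb => ?_
  have hbb := (mem_blocksOf S.modular).1 hb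
  rcases pair_or_vanish S.modular S.maximal hup hbb with ⟨x, hx⟩ | h
  · have hvP : x * u * x⁻¹ ∈ P := le_of_rel hx ⟨u, Subgroup.mem_zpowers u, rfl⟩
    have hv1 : x * u * x⁻¹ ≠ 1 := fun e => hu1 (conj_eq_one_iff.1 e)
    have hmap := conj_zpowers_map x u
    rw [conjIdx_eq hmap] at hx
    have hf := S.sub_eq (isPBlock_conjSet _ hbb) hx
    obtain ⟨hle, hne, -⟩ := S.zpowers_data hvP hv1
    obtain ⟨ρ₀, hρ₀⟩ := nonempty_of_isPBlock S.modular (S.sub_spec hle).1
    have hy' : IsPRegular p (conjIso (conjMaps_centralizer hmap) y) := by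
      rwa [IsPRegular, MulEquiv.orderOf_eq]
    rw [Finset.sum_congr rfl (g := fun χ : IrrCharacter G => cc χ *
      D[Subgroup.zpowers (x * u * x⁻¹)] (χ : G → ℂ) (x * u * x⁻¹) *
        (ρ₀ : C[Subgroup.zpowers (x * u * x⁻¹)] → ℂ) (conjIso (conjMaps_centralizer hmap) y))
      fun χ _ => ?_, ← Finset.sum_mul, h0 _ hvP hv1, zero_mul]
    rw [← blockPart_secFn_conj S.modular χ hmap rfl hbb y, ← hf,
      S.blockPart_sub hle hne _ hρ₀ hy', mul_assoc (cc χ)]
    rfl
  · exact Finset.sum_eq_zero fun χ hχ => by rw [h χ (Set.mem_toFinset.1 hχ) y hy, mul_zero]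

/-- The twist of the defect group by a member of the stabilizer. -/
noncomputable def twist (t : T) : MulAut P := P.normalizerMonoidHom ⟨t, ((S.stab t).1 t.2).1⟩

theorem twist_coe (t : T) (w : P) :
    ((S.twist t w : P) : G) = (t : G) * (w : G) * (t : G)⁻¹ := rfl

theorem twist_mul (a b : T) : S.twist (a * b) = S.twist a * S.twist b := by
  ext w
  rw [MulAut.mul_apply, twist_coe, twist_coe, twist_coe, Subgroup.coe_mul]
  group

theorem twist_of_mem (t : T) (ht : (t : G) ∈ C[P]) (w : P) : S.twist t w = w :=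
  Subtype.ext (by
    rw [twist_coe, ← Subgroup.mem_centralizer_iff.1 ht _ w.2, mul_inv_cancel_right])

theorem mem_cen_of_fixed_hom {l : P →* ℂˣ} (hl : l ≠ 1) {t : T}
    (h : l.comp (S.twist t).toMonoidHom = l) : (t : G) ∈ C[P] := by
  by_contra ht
  have hc : ∀ a b : P, a * b = b * a := fun a b => Subtype.ext (S.comm _ a.2 _ b.2)
  let F : P → P := fun w => S.twist t w * w⁻¹
  have hF : Function.Injective F := by
    intro a b hab
    have h1 : S.twist t (a * b⁻¹) = a * b⁻¹ := by
      have h2 : S.twist t a * a⁻¹ = S.twist t b * b⁻¹ := hab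
      letI : CommGroup P := { (inferInstance : Group P) with mul_comm := hc }
      rw [map_mul, map_inv, ← div_eq_mul_inv, ← div_eq_mul_inv]
      exact div_eq_div_iff_div_eq_div.1 (by rwa [div_eq_mul_inv, div_eq_mul_inv])
    by_contra hne
    refine ht (S.free t t.2 _ (a * b⁻¹).2 (fun e => hne ?_) (congrArg Subtype.val h1))
    exact mul_inv_eq_one.1 (Subtype.ext e)
  have hsurj : Function.Surjective F := Finite.surjective_of_injective hF
  refine hl (MonoidHom.ext fun w => ?_)
  obtain ⟨a, rfl⟩ := hsurj w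
  have e : l (S.twist t a) = l a := DFunLike.congr_fun h a
  rw [map_mul, map_inv, e, mul_inv_cancel, MonoidHom.one_apply]

open Classical in
/-- The lattice of the block. -/
theorem exists_cycVectors : ∃ (ι : Type u) (_ : Fintype ι) (_ : DecidableEq ι) (τ : ι → G → ℂ),
    CycVectors p B ((C[P]).relIndex T) τ ∧
      Fintype.card ι * (C[P]).relIndex T = Nat.card P - 1 := by
  have hc : ∀ a b : P, a * b = b * a := fun a b => Subtype.ext (S.comm _ a.2 _ b.2)
  have hCT : C[P] ≤ T := centralizer_le_stab S.stab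
  obtain ⟨σ, hσ, hglue⟩ := S.exists_signs
  choose Φ hΦg hΦ using S.exists_global_char hglue
  have hconjσ : ∀ R, conj (σ R : ℂ) = (σ R : ℂ) := fun R => map_intCast _ _
  -- invariance
  have hΦT : ∀ (χ : IrrCharacter G) (t : T) (w : P), Φ χ (S.twist t w) = Φ χ w := by
    intro χ t w
    by_cases hw : w = 1
    · rw [hw, map_one]
    have hw' : S.twist t w ≠ 1 := fun e => hw ((S.twist t).injective (e.trans (map_one _).symm))
    have hwG : (w : G) ≠ 1 := fun e => hw (Subtype.ext e)
    have hle := Subgroup.zpowers_le.2 w.2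
    have hmap := conj_zpowers_map (t : G) (w : G)
    rw [hΦ χ _ hw', hΦ χ w hw, twist_coe,
      S.secVal_conj hmap (S.sub_conj t.2 hle hmap).2 (F := (χ : G → ℂ))
        (fun g => χ.2.isClassFunction g (t : G)), ← hmap,
      S.sign_invariant hσ hglue t.2 _ hle fun e => hwG (Subgroup.zpowers_eq_bot.1 e)]
  -- the orbits
  let X : Type u := {l : P →* ℂˣ // l ≠ 1}
  have hone : ∀ l : P →* ℂˣ, l.comp (S.twist 1).toMonoidHom = l := fun l => MonoidHom.ext fun w => by
    rw [MonoidHom.comp_apply, MulEquiv.coe_toMonoidHom, S.twist_of_mem 1 (one_mem _)]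
  have hcomp : ∀ (a b : T) (l : P →* ℂˣ), (l.comp (S.twist a).toMonoidHom).comp
      (S.twist b).toMonoidHom = l.comp (S.twist (a * b)).toMonoidHom := fun a b l => by
    rw [S.twist_mul]; rfl
  let s : Setoid X :=
    { r := fun a b => ∃ t : T, a.1.comp (S.twist t).toMonoidHom = b.1
      iseqv :=
        { refl := fun a => ⟨1, hone _⟩
          symm := fun {a b} ⟨t, e⟩ => ⟨t⁻¹, by rw [← e, hcomp, mul_inv_cancel, hone]⟩
          trans := fun {a b c} ⟨t, e⟩ ⟨t', e'⟩ => ⟨t * t', by rw [← e', ← e, hcomp]⟩ } }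
  let ι : Type u := Quotient s
  haveI : Fintype X := Fintype.ofFinite _
  haveI : Finite ι := Quotient.finite _
  letI instι : Fintype ι := Fintype.ofFinite _
  let r : ι → X := Quotient.out
  have hrel : ∀ {i j : ι} (t : T), (r i).1.comp (S.twist t).toMonoidHom = (r j).1 → i = j := by
    intro i j t e
    rw [← Quotient.out_eq i, ← Quotient.out_eq j]
    exact Quotient.sound ⟨t, e⟩
  have hcount : ∀ (a : X) (b : P →* ℂˣ),
      (Finset.univ.filter fun t : T => a.1.comp (S.twist t).toMonoidHom = b).card =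
        if ∃ t : T, a.1.comp (S.twist t).toMonoidHom = b then Nat.card C[P] else 0 := by
    intro a b
    split_ifs with hab
    · obtain ⟨t₀, e₀⟩ := hab
      rw [← Fintype.card_subtype, ← Nat.card_eq_fintype_card]
      refine Nat.card_congr
        { toFun := fun t => ⟨(t.1 : G) * (t₀ : G)⁻¹, ?_⟩
          invFun := fun k => ⟨⟨(k : G) * t₀, T.mul_mem (hCT k.2) t₀.2⟩, ?_⟩
          left_inv := fun t => Subtype.ext (Subtype.ext (by simp [mul_assoc]))
          right_inv := fun k => Subtype.ext (by simp [mul_assoc]) }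
      · refine S.mem_cen_of_fixed_hom a.2 (t := t.1 * t₀⁻¹) ?_
        rw [← hcomp, t.2, ← e₀, hcomp, mul_inv_cancel, hone]
      · show a.1.comp (S.twist ⟨(k : G) * t₀, _⟩).toMonoidHom = b
        rw [show (⟨(k : G) * t₀, T.mul_mem (hCT k.2) t₀.2⟩ : T) = ⟨k, hCT k.2⟩ * t₀ from rfl,
          ← hcomp, ← e₀]
        congr 1
        exact MonoidHom.ext fun w => by
          rw [MonoidHom.comp_apply, MulEquiv.coe_toMonoidHom, S.twist_of_mem ⟨k, hCT k.2⟩ k.2]
    · exact Finset.card_eq_zero.2 (Finset.filter_eq_empty_iff.2 fun t _ e => hab ⟨t, e⟩)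
  have hcardT : Nat.card T = (C[P]).relIndex T * Nat.card C[P] := by
    rw [Subgroup.relIndex, ← Nat.card_congr (Subgroup.subgroupOfEquivOfLe hCT).toEquiv, mul_comm,
      Subgroup.card_mul_index]
  have hCpos : 0 < Nat.card C[P] := Nat.card_pos
  have hcard : Fintype.card ι * (C[P]).relIndex T = Nat.card P - 1 := by
    have hX : Nat.card X = Nat.card P - 1 := by
      letI : CommGroup P := { (inferInstance : Group P) with mul_comm := hc }
      rw [Nat.card_eq_fintype_card, Fintype.card_subtype_compl, Fintype.card_subtype_eq,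
        ← Nat.card_eq_fintype_card, Char.card_monoidHom_units]
    have h2 : Fintype.card ι * Nat.card T = Nat.card X * Nat.card C[P] := by
      let F : ι × T → X := fun it => ⟨(r it.1).1.comp (S.twist it.2).toMonoidHom, fun e =>
        (r it.1).2 (by
          have e' := congrArg (fun l => l.comp (S.twist it.2⁻¹).toMonoidHom) e
          rwa [hcomp, mul_inv_cancel, hone, MonoidHom.one_comp] at e')⟩
      have hfib : ∀ x : X, (Finset.univ.filter fun it : ι × T => F it = x).card = Nat.card C[P] := by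
        intro x
        obtain ⟨t₀, e₀⟩ := (Quotient.mk_out x : (Quotient.out (Quotient.mk s x) : X) ≈ x)
        rw [← if_pos (c := ∃ t : T, (r (Quotient.mk s x)).1.comp (S.twist t).toMonoidHom = x.1)
          (t := Nat.card C[P]) (e := 0) ⟨t₀, e₀⟩, ← hcount]
        refine Finset.card_bij (fun it _ => it.2) (fun it hit => ?_) (fun a ha b hb e => ?_)
          fun t ht => ⟨(Quotient.mk s x, t), Finset.mem_filter.2 ⟨Finset.mem_univ _,
            Subtype.ext (Finset.mem_filter.1 ht).2⟩, rfl⟩
        · have h1 := congrArg Subtype.val (Finset.mem_filter.1 hit).2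
          have h3 : it.1 = Quotient.mk s x := by
            rw [← Quotient.out_eq it.1]; exact Quotient.sound ⟨it.2, h1⟩
          refine Finset.mem_filter.2 ⟨Finset.mem_univ _, ?_⟩
          rw [← h3]; exact h1
        · refine Prod.ext ?_ e
          rw [← Quotient.out_eq a.1, ← Quotient.out_eq b.1]
          exact (Quotient.sound (show r a.1 ≈ x from
            ⟨a.2, congrArg Subtype.val (Finset.mem_filter.1 ha).2⟩)).trans
            (Quotient.sound (show r b.1 ≈ x from
              ⟨b.2, congrArg Subtype.val (Finset.mem_filter.1 hb).2⟩)).symm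
      rw [Nat.card_eq_fintype_card (α := T), ← Fintype.card_prod, ← Finset.card_univ,
        Finset.card_eq_sum_card_fiberwise (f := F) (t := Finset.univ) fun _ _ => Finset.mem_univ _,
        Finset.sum_congr rfl fun x _ => hfib x, Finset.sum_const, Finset.card_univ, smul_eq_mul,
        ← Nat.card_eq_fintype_card]
    rw [← hX]
    refine Nat.eq_of_mul_eq_mul_right hCpos ?_
    rw [mul_assoc, ← hcardT, h2]
  -- the coefficients
  have hcoef : ∀ (i : ι) (χ : IrrCharacter G), ∃ a : ℤ,
      classInner (Φ χ) (fun w => ((r i).1 w : ℂ)) - classInner (Φ χ) (fun _ => (1 : ℂ)) =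
        (a : ℂ) := by
    intro i χ
    obtain ⟨a, ha⟩ := (hΦg χ).exists_int_classInner
      (Char.isIrrCharacter_linear (r i).1).isGeneralized
    obtain ⟨b, hb⟩ := (hΦg χ).exists_int_classInner Char.isCharacter_one.isGeneralized
    exact ⟨a - b, by rw [ha, hb, Int.cast_sub]⟩
  choose a ha using hcoef
  obtain ⟨L, hL⟩ : ∃ L : ι → P → ℂ, L = fun i w => ((r i).1 w : ℂ) - 1 := ⟨_, rfl⟩
  have hL1 : ∀ i, L i 1 = 0 := fun i => by simp [hL]
  have ha' : ∀ i χ, (a i χ : ℂ) = (Nat.card P : ℂ)⁻¹ * ∑ w : P, Φ χ w * conj (L i w) := by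
    intro i χ
    rw [← ha, classInner, classInner, ← mul_sub, ← Finset.sum_sub_distrib]
    congr 1
    exact Finset.sum_congr rfl fun w _ => by simp only [hL, map_sub, map_one]; ring
  let τ : ι → G → ℂ := fun i g => ∑ χ ∈ B.toFinset, (a i χ : ℂ) * (χ : G → ℂ) g
  have hτfun : ∀ i, τ i = ∑ χ ∈ B.toFinset, (a i χ : ℂ) • (χ : G → ℂ) := fun i => funext fun g => by
    simp [τ, Finset.sum_apply]
  have hτinner : ∀ i (ψ : IrrCharacter G),
      classInner (τ i) (ψ : G → ℂ) = if ψ ∈ B then (a i ψ : ℂ) else 0 := by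
    intro i ψ
    simp only [hτfun, Char.classInner_sum_left, Char.classInner_smul_left]
    rw [Finset.sum_congr rfl (g := fun χ : IrrCharacter G => if χ = ψ then (a i χ : ℂ) else 0)
      fun χ _ => ?_, Finset.sum_ite_eq']
    · simp
    · split_ifs with e
      · rw [e, Char.classInner_irr_self ψ.2, mul_one]
      · rw [Char.classInner_irr_ne χ.2 ψ.2 fun h => e (Subtype.ext h), mul_zero]
  -- the orthogonality of the glued sections
  have hK : ∀ u v : P, u ≠ 1 → v ≠ 1 → ∑ χ ∈ B.toFinset, Φ χ u * conj (Φ χ v) =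
      (Nat.card P : ℂ) / (Nat.card C[P] : ℂ) *
        ((Finset.univ.filter fun t : T => S.twist t u = v).card : ℂ) := by
    intro u v hu hv
    have huG : (u : G) ≠ 1 := fun e => hu (Subtype.ext e)
    have hvG : (v : G) ≠ 1 := fun e => hv (Subtype.ext e)
    by_cases horb : ∃ t : T, S.twist t u = v
    · obtain ⟨t₀, ht₀⟩ := horb
      have hn : (Finset.univ.filter fun t : T => S.twist t u = v).card = Nat.card C[P] := by
        rw [← Fintype.card_subtype, ← Nat.card_eq_fintype_card]
        refine Nat.card_congr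
          { toFun := fun t => ⟨(t₀ : G)⁻¹ * (t.1 : G), ?_⟩
            invFun := fun k => ⟨⟨(t₀ : G) * k, T.mul_mem t₀.2 (hCT k.2)⟩, ?_⟩
            left_inv := fun t => Subtype.ext (Subtype.ext (by simp))
            right_inv := fun k => Subtype.ext (by simp) }
        · refine S.free _ (T.mul_mem (T.inv_mem t₀.2) t.1.2) _ u.2 huG ?_
          have h1 : (t.1 : G) * (u : G) * (t.1 : G)⁻¹ = (t₀ : G) * (u : G) * (t₀ : G)⁻¹ :=
            congrArg Subtype.val (t.2.trans ht₀.symm)
          calc (t₀ : G)⁻¹ * (t.1 : G) * (u : G) * ((t₀ : G)⁻¹ * (t.1 : G))⁻¹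
              = (t₀ : G)⁻¹ * ((t.1 : G) * (u : G) * (t.1 : G)⁻¹) * (t₀ : G) := by group
            _ = _ := by rw [h1]; group
        · show S.twist ⟨(t₀ : G) * k, _⟩ u = v
          rw [show (⟨(t₀ : G) * k, T.mul_mem t₀.2 (hCT k.2)⟩ : T) = t₀ * ⟨k, hCT k.2⟩ from rfl,
            S.twist_mul, MulAut.mul_apply, S.twist_of_mem ⟨k, hCT k.2⟩ k.2, ht₀]
      rw [hn, div_mul_cancel₀ _ (Nat.cast_ne_zero.2 hCpos.ne'), ← ht₀,
        ← S.sum_secVal_top u.2 huG]
      refine Finset.sum_congr rfl fun χ _ => ?_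
      rw [hΦT, hΦ χ u hu, map_mul, hconjσ]
      have hs : (σ (Subgroup.zpowers (u : G)) : ℂ) * σ (Subgroup.zpowers (u : G)) = 1 := by
        rcases hσ (Subgroup.zpowers (u : G)) with e | e <;> simp [e]
      linear_combination (D[Subgroup.zpowers (u : G)] (χ : G → ℂ) u *
        conj (D[Subgroup.zpowers (u : G)] (χ : G → ℂ) u)) * hs
    · rw [Finset.filter_eq_empty_iff.2 fun t _ e => horb ⟨t, e⟩, Finset.card_empty, Nat.cast_zero,
        mul_zero, Finset.sum_congr rfl (g := fun χ : IrrCharacter G =>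
          ((σ (Subgroup.zpowers (u : G)) : ℂ) * σ (Subgroup.zpowers (v : G))) *
            (D[Subgroup.zpowers (u : G)] (χ : G → ℂ) u *
              conj (D[Subgroup.zpowers (v : G)] (χ : G → ℂ) v))) fun χ _ => ?_,
        ← Finset.mul_sum, S.sum_secVal_ne u.2 huG v.2 hvG
          (fun t ht e => horb ⟨⟨t, ht⟩, Subtype.ext e⟩), mul_zero]
      rw [hΦ χ u hu, hΦ χ v hv, map_mul, hconjσ]
      ring
  letI : DecidableEq ι := Classical.decEq ι
  suffices V : CycVectors p B ((C[P]).relIndex T) τ from ⟨ι, inferInstance, inferInstance, τ, V, hcard⟩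
  constructor
  · intro i
    rw [hτfun]
    exact IsGeneralizedCharacter.sum _ _ fun χ _ => χ.2.isGeneralized.intCast_smul _
  · intro i g hg
    show ∑ χ ∈ B.toFinset, (a i χ : ℂ) * (χ : G → ℂ) g = 0
    simp only [ha', Finset.mul_sum, Finset.sum_mul]
    rw [Finset.sum_comm]
    refine Finset.sum_eq_zero fun w _ => ?_
    by_cases hw : w = 1
    · simp [hw, hL1]
    rw [Finset.sum_congr rfl (g := fun χ : IrrCharacter G => ((Nat.card P : ℂ)⁻¹ * conj (L i w) *
        (σ (Subgroup.zpowers (w : G)) : ℂ)) *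
          (D[Subgroup.zpowers (w : G)] (χ : G → ℂ) w * (χ : G → ℂ) g)) fun χ _ => ?_,
      ← Finset.mul_sum, S.sum_secVal_mul_reg w.2 (fun e => hw (Subtype.ext e)) hg, mul_zero]
    rw [hΦ χ w hw]
    ring
  · intro i χ hχ
    rw [hτinner, if_neg hχ]
  · intro i j
    have hinner : classInner (τ i) (τ j) = ∑ χ ∈ B.toFinset, (a i χ : ℂ) * conj (a j χ : ℂ) := by
      conv_lhs => rw [hτfun j, Char.classInner_sum_right]
      refine Finset.sum_congr rfl fun χ hχ => ?_
      rw [Char.classInner_smul_right, hτinner, if_pos (Set.mem_toFinset.1 hχ), mul_comm]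
    have hq : (Nat.card P : ℂ) ≠ 0 := Char.card_cast_ne_zero
    have hC : (Nat.card C[P] : ℂ) ≠ 0 := Nat.cast_ne_zero.2 hCpos.ne'
    have hexp : ∑ χ ∈ B.toFinset, (a i χ : ℂ) * conj (a j χ : ℂ) =
        (Nat.card P : ℂ)⁻¹ * (Nat.card P : ℂ)⁻¹ * ∑ u : P, conj (L i u) *
          ∑ v : P, L j v * ∑ χ ∈ B.toFinset, Φ χ u * conj (Φ χ v) := by
      simp only [ha', map_mul, map_inv₀, map_natCast, map_sum, Complex.conj_conj, Finset.mul_sum,
        Finset.sum_mul]
      rw [Finset.sum_comm (γ := IrrCharacter G)]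
      refine Eq.trans ?_ Finset.sum_comm
      refine Finset.sum_congr rfl fun v _ => ?_
      rw [Finset.sum_comm]
      exact Finset.sum_congr rfl fun u _ => Finset.sum_congr rfl fun χ _ => by ring
    have horbit : ∀ u : P, conj (L i u) * ∑ v : P, L j v * ∑ χ ∈ B.toFinset, Φ χ u * conj (Φ χ v) =
        (Nat.card P : ℂ) / (Nat.card C[P] : ℂ) *
          ∑ t : T, conj (L i u) * L j (S.twist t u) := by
      intro u
      by_cases hu : u = 1
      · simp [hu, hL1]
      rw [← Finset.mul_sum, ← mul_assoc, mul_comm _ (conj (L i u)), mul_assoc]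
      congr 1
      rw [← Finset.sum_fiberwise (Finset.univ : Finset T) (fun t => S.twist t u), Finset.mul_sum]
      refine Finset.sum_congr rfl fun v _ => ?_
      by_cases hv : v = 1
      · subst hv
        rw [hL1, zero_mul, Finset.sum_eq_zero fun t ht => ?_, mul_zero]
        rw [(Finset.mem_filter.1 ht).2, hL1]
      rw [hK u v hu hv, Finset.sum_congr rfl fun t ht => by rw [(Finset.mem_filter.1 ht).2],
        Finset.sum_const, nsmul_eq_mul]
      ring
    have hpair : ∀ t : T, ∑ u : P, conj (L i u) * L j (S.twist t u) = (Nat.card P : ℂ) *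
        ((if (r j).1.comp (S.twist t).toMonoidHom = (r i).1 then (1 : ℂ) else 0) + 1) := by
      intro t
      obtain ⟨l, hl⟩ : ∃ l, l = (r j).1.comp (S.twist t).toMonoidHom := ⟨_, rfl⟩
      have hlw : ∀ u, L j (S.twist t u) = (l u : ℂ) - 1 := fun u => by simp [hL, hl]
      have hl1 : l ≠ 1 := fun e => (r j).2 (by
        have e' := congrArg (fun m => m.comp (S.twist t⁻¹).toMonoidHom) e
        rw [hl] at e'
        rwa [hcomp, mul_inv_cancel, hone, MonoidHom.one_comp] at e')
      rw [← hl]
      have h1 := hom_orth hc l (r i).1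
      have h2 := hom_orth hc l 1
      have h3 := hom_orth hc 1 (r i).1
      rw [if_neg hl1] at h2
      rw [if_neg fun e => (r i).2 e.symm] at h3
      simp only [MonoidHom.one_apply, Units.val_one, map_one, mul_one, one_mul] at h2 h3
      simp only [hlw]
      simp only [hL, map_sub, map_one]
      rw [Finset.sum_congr rfl fun u _ => show (conj ((r i).1 u : ℂ) - 1) * ((l u : ℂ) - 1) =
        (l u : ℂ) * conj ((r i).1 u : ℂ) - conj ((r i).1 u : ℂ) - (l u : ℂ) + 1 by ring]
      simp only [Finset.sum_add_distrib, Finset.sum_sub_distrib, h1, h2, h3, Finset.sum_const,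
        Finset.card_univ, nsmul_eq_mul, mul_one, ← Nat.card_eq_fintype_card]
      split_ifs <;> ring
    have hnum : ((Finset.univ.filter fun t : T =>
        (r j).1.comp (S.twist t).toMonoidHom = (r i).1).card : ℂ) =
        if i = j then (Nat.card C[P] : ℂ) else 0 := by
      rw [hcount (r j) (r i).1]
      by_cases hij : i = j
      · subst hij
        rw [if_pos ⟨1, hone _⟩, if_pos rfl]
      · rw [if_neg fun ⟨t, e⟩ => hij (hrel t e).symm, if_neg hij, Nat.cast_zero]
    rw [hinner, hexp, Finset.sum_congr rfl fun u _ => horbit u, ← Finset.mul_sum, Finset.sum_comm,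
      Finset.sum_congr rfl fun t _ => hpair t, ← Finset.mul_sum, Finset.sum_add_distrib,
      Finset.sum_boole, hnum, Finset.sum_const, Finset.card_univ, nsmul_eq_mul, mul_one,
      ← Nat.card_eq_fintype_card, hcardT, Nat.cast_mul]
    split_ifs <;> field_simp <;> ring
  · intro cc hcc g hg
    rw [finsum_mem_eq_toFinset_sum]
    refine S.sum_block_eq_zero_of_secVal cc (fun v hv hv1 => ?_) hg
    obtain ⟨h, hh⟩ : ∃ h : P → ℂ, h = fun w => ∑ χ ∈ B.toFinset, cc χ * Φ χ w := ⟨_, rfl⟩
    have hinner : ∀ F : P → ℂ, classInner h F = ∑ χ ∈ B.toFinset, cc χ * classInner (Φ χ) F := by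
      intro F
      rw [show h = ∑ χ ∈ B.toFinset, cc χ • Φ χ from funext fun w => by simp [hh, Finset.sum_apply],
        Char.classInner_sum_left]
      exact Finset.sum_congr rfl fun χ _ => Char.classInner_smul_left _ _ _
    have hdiff : ∀ i : ι, classInner h (fun w => ((r i).1 w : ℂ)) =
        classInner h (fun _ => (1 : ℂ)) := by
      intro i
      refine sub_eq_zero.1 ?_
      rw [hinner, hinner, ← Finset.sum_sub_distrib, ← hcc i]
      rw [show (fun g => ∑ᶠ χ ∈ B, cc χ * (χ : G → ℂ) g) =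
        ∑ χ ∈ B.toFinset, cc χ • (χ : G → ℂ) from funext fun g => by
          rw [finsum_mem_eq_toFinset_sum]; simp [Finset.sum_apply], Char.classInner_sum_left]
      refine Finset.sum_congr rfl fun χ hχ => ?_
      rw [← mul_sub, ha, Char.classInner_smul_left, ← Char.classInner_conj_symm (τ i), hτinner,
        if_pos (Set.mem_toFinset.1 hχ), map_intCast]
    have hall : ∀ l : P →* ℂˣ, l ≠ 1 → classInner h (fun w => (l w : ℂ)) =
        classInner h (fun _ => (1 : ℂ)) := by
      intro l hl
      obtain ⟨t, e⟩ := (Quotient.mk_out (⟨l, hl⟩ : X) :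
        (Quotient.out (Quotient.mk s ⟨l, hl⟩) : X) ≈ ⟨l, hl⟩)
      have hinv : ∀ w, h (S.twist t w) = h w := fun w => by
        simp only [hh, hΦT]
      rw [← hdiff (Quotient.mk s ⟨l, hl⟩), ← Char.classInner_comp_equiv (S.twist t) h
        (fun w => ((r (Quotient.mk s ⟨l, hl⟩)).1 w : ℂ))]
      congr 1
      · exact funext fun w => (hinv w).symm
      · exact funext fun w => congrArg Units.val (DFunLike.congr_fun e w).symm
    have hv' : (⟨v, hv⟩ : P) ≠ 1 := fun e => hv1 (congrArg Subtype.val e)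
    have hzero := apply_eq_sum_diff hc h hv'
    rw [Finset.sum_eq_zero fun l hl => by
      rw [hall l (Finset.mem_filter.1 hl).2, sub_self, zero_mul], hh] at hzero
    simp only [hΦ _ _ hv', mul_left_comm (cc _), ← Finset.mul_sum] at hzero
    refine (mul_eq_zero.1 hzero).resolve_left ?_
    rcases hσ (Subgroup.zpowers v) with e | e <;> simp [e]

end FreeSetup

end Cfsg.Lib.Block
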