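import Cfsg.Agent.Lib.Block.StarClass
import Cfsg.Agent.Lib.Block.CycEstimate

/-!
# The theorem of Broué and Puig on nilpotent blocks

A nilpotent block has one modular irreducible and its characters are the products of one
character of height zero with the irreducible characters of the defect group.
-/

set_option autoImplicit false
set_option linter.unusedSectionVars false
set_option linter.style.haveILetI false
set_option maxHeartbeats 1600000

namespace Cfsg.Lib.Block

open Cfsg Cfsg.Lib.Char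
open scoped ComplexConjugate

universe u

noncomputable local instance (priority := high) fintypeSubgroupNilpotentRank {A : Type u} [Group A]
    [Fintype A] (H : Subgroup A) : Fintype H := Fintype.ofFinite H

local notation "C[" Q "]" => Subgroup.centralizer (SetLike.coe Q)

/-- When the bound for squares of nonzero cyclotomic integers is attained, all have absolute
value one. -/
theorem norm_one_of_sum_sq {N : ℕ} [NeZero N] {ι : Type*} (s : Finset ι) (z : ι → cycField N)
    (hint : ∀ i ∈ s, IsIntegral ℤ (z i : ℂ)) (hne : ∀ i ∈ s, z i ≠ 0)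
    (hq : ∑ i ∈ s, (z i : ℂ) * conj (z i : ℂ) = (s.card : ℂ)) :
    ∀ i ∈ s, (z i : ℂ) * conj (z i : ℂ) = 1 := by
  classical
  haveI := finiteDimensional_cycField N
  choose w hw hwσ using exists_conj_commute N
  set x : ι → (cycField N →ₐ[ℚ] ℂ) → ℝ := fun i σ => ‖σ (z i)‖ ^ 2 with hx
  have hpos : ∀ i ∈ s, ∀ σ, 0 < x i σ := by
    intro i hi σ
    have : σ (z i) ≠ 0 := fun h => hne i hi (σ.toRingHom.injective (h.trans (map_zero σ).symm))
    simp only [hx]
    positivity
  have hall : ∀ σ : cycField N →ₐ[ℚ] ℂ, ∑ i ∈ s, x i σ = (s.card : ℝ) := by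
    intro σ
    have e : ∑ i ∈ s, z i * w (z i) = (s.card : cycField N) := by
      apply Subtype.ext
      push_cast
      rw [← hq]
      exact Finset.sum_congr rfl fun i _ => by rw [hw]
    have h := congrArg σ e
    rw [map_sum, map_natCast] at h
    simp only [map_mul, hwσ, Complex.mul_conj'] at h
    exact_mod_cast h
  have hprod : ∀ i ∈ s, 1 ≤ ∏ σ : cycField N →ₐ[ℚ] ℂ, x i σ := by
    intro i hi
    have hai : IsIntegral ℤ (z i) :=
      (isIntegral_algHom_iff (algebraMap (cycField N) ℂ).toIntAlgHom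
        (algebraMap (cycField N) ℂ).injective).mp (hint i hi)
    have hnorm := Algebra.norm_eq_prod_embeddings ℚ ℂ (z i)
    obtain ⟨k, hk⟩ := exists_int_of_isIntegral_rat
      (q := Algebra.norm ℚ (z i)) ((Algebra.isIntegral_norm ℚ hai).algebraMap (B := ℂ))
    have hk0 : k ≠ 0 := by
      intro h
      rw [h, Int.cast_zero] at hk
      exact hne i hi (Algebra.norm_eq_zero_iff.mp hk)
    simp only [hx]
    rw [Finset.prod_pow, ← norm_prod, ← hnorm, hk]
    have h2 : (1 : ℝ) ≤ |(k : ℝ)| := by exact_mod_cast Int.one_le_abs hk0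
    refine one_le_pow₀ ?_
    simpa [Complex.norm_intCast] using h2
  have hterm : ∀ i ∈ s, ((Finset.univ : Finset (cycField N →ₐ[ℚ] ℂ)).card : ℝ) ≤ ∑ σ, x i σ :=
    fun i hi => sub_card_nonneg_of_prod Finset.univ _ (fun σ _ => hpos i hi σ) (hprod i hi)
  have htot : ∑ _i ∈ s, ((Finset.univ : Finset (cycField N →ₐ[ℚ] ℂ)).card : ℝ) =
      ∑ i ∈ s, ∑ σ, x i σ := by
    rw [Finset.sum_comm, Finset.sum_congr rfl fun σ _ => hall σ, Finset.sum_const,
      Finset.sum_const, nsmul_eq_mul, nsmul_eq_mul, mul_comm]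
  intro i hi
  have heq := (Finset.sum_eq_sum_iff_of_le hterm).1 htot i hi
  have h1 : ∑ σ : cycField N →ₐ[ℚ] ℂ, (x i σ - 1 - Real.log (x i σ)) ≤ 0 := by
    rw [Finset.sum_sub_distrib, Finset.sum_sub_distrib, ← heq, Finset.sum_const, nsmul_eq_mul,
      mul_one, sub_self, zero_sub, ← Real.log_prod fun σ _ => (hpos i hi σ).ne']
    exact neg_nonpos.2 (Real.log_nonneg (hprod i hi))
  have h2 : x i (cycField N).val = 1 := by
    by_contra hne1
    refine absurd h1 (not_le.2 (Finset.sum_pos' (fun σ _ => ?_)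
      ⟨(cycField N).val, Finset.mem_univ _, ?_⟩))
    · exact sub_nonneg.2 (Real.log_le_sub_one_of_pos (hpos i hi σ))
    · exact sub_pos.2 (Real.log_lt_sub_one_of_pos (hpos i hi _) hne1)
  rw [Complex.mul_conj']
  have h3 : ‖(z i : ℂ)‖ ^ 2 = 1 := h2
  exact_mod_cast h3

variable {p : ℕ} {M : Ideal AlgInt} (hM : IsPModular p M) {G : Type u} [Group G] [Fintype G]
  [Fact p.Prime] {B : Set (IrrCharacter G)} {P : Subgroup G} {c : Set (IrrCharacter C[P])}
  {χ : IrrCharacter G}

variable (hmax : IsMaximalBrauerPair p M B P c)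

include hmax in
include hM in
/-- The section norm at a central element is the regular norm. -/
theorem secNorm_central (hχ : χ ∈ B) {x : G} (hx : x ∈ P) (hxc : x ∈ Subgroup.center G) :
    secNorm p M P c χ x = regInner p (χ : G → ℂ) (χ : G → ℂ) := by
  classical
  have hPc := hmax.1.1
  have hxo := isPGroup_exists_orderOf hPc.1 hx
  obtain ⟨b, hb, hle⟩ := exists_subpair hM hPc (Subgroup.zpowers_le.2 hx)
  have hall : ∀ g : G, g ∈ C[Subgroup.zpowers x] := fun g => centralizer_singleton_le x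
    (Subgroup.mem_centralizer_singleton_iff.2 (Subgroup.mem_center_iff.1 hxc g))
  rw [secNorm_eq hM hPc χ hle, secNormAt, regInner, classInner]
  obtain ⟨e, he⟩ : ∃ e : C[Subgroup.zpowers x] ≃ G, ∀ y, e y = (y : G) :=
    ⟨Equiv.subtypeUnivEquiv hall, fun _ => rfl⟩
  rw [Nat.card_congr e]
  congr 1
  obtain ⟨ω, hω, hωg⟩ := exists_central_scalar χ hxc
  have hω1 : ω * conj ω = 1 := by
    rw [Complex.mul_conj', Complex.norm_eq_one_of_pow_eq_one hω (orderOf_pos x).ne']
    simp
  refine Fintype.sum_equiv e _ _ fun y => ?_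
  rw [he]
  by_cases hy : IsPRegular p y
  · have hy' : IsPRegular p (y : G) := by rwa [IsPRegular, orderOf_submonoid]
    have hb' : ∀ b' ∈ blocksOf M C[Subgroup.zpowers x], b' ≠ b →
        blockPart b' (secFn x C[Subgroup.zpowers x] (χ : G → ℂ)) y = 0 := by
      intro b' hb' hne
      refine pair_or_vanish_nilpotent hM hmax hxo ((mem_blocksOf hM).1 hb') hχ (fun g hg => ?_) hy
      rw [conjIdx_eq_self_of_mem (hall g)] at hg
      exact hne (subpair_unique hM hPc hg hle)
    have hsum := sum_blockPart_section hM χ x y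
    rw [Finset.sum_eq_single_of_mem b ((mem_blocksOf hM).2 hb) hb', hωg] at hsum
    rw [if_pos hy, ← hsum, pRegularPart_of_reg hy', map_mul]
    linear_combination ((χ : G → ℂ) (y : G) * conj ((χ : G → ℂ) (y : G))) * hω1
  · have hy' : ¬ IsPRegular p (y : G) := by rwa [IsPRegular, orderOf_submonoid]
    rw [if_neg hy, pRegularPart_of_sing hy', zero_mul]

include hmax in
include hM in
open Classical in
/-- The section norm at an element whose block has rank one is the square of a nonzero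
cyclotomic integer. -/
theorem secNorm_rank_one (hnil : IsNilpotentBlock p M B) (hχ : χ ∈ B)
    (hh : blockHeight p B (χ : G → ℂ) = 0) {x : G} (hx : x ∈ P)
    {b : Set (IrrCharacter C[Subgroup.zpowers x])}
    (hle : SubpairLE p M (Subgroup.zpowers x) b P c) {φ : IrrCharacter C[Subgroup.zpowers x]}
    (hφ : φ ∈ b) (hφ0 : blockHeight p b (φ : C[Subgroup.zpowers x] → ℂ) = 0)
    (hr : regInner p (φ : C[Subgroup.zpowers x] → ℂ) (φ : C[Subgroup.zpowers x] → ℂ) =
      (cCen P x : ℂ)⁻¹)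
    (hd : ∀ η ∈ b, ∃ d : ℕ, ∀ y : C[Subgroup.zpowers x], IsPRegular p y →
      (η : C[Subgroup.zpowers x] → ℂ) y = (d : ℂ) * (φ : C[Subgroup.zpowers x] → ℂ) y) :
    ∃ z : cycField (Nat.card G), IsIntegral ℤ (z : ℂ) ∧ z ≠ 0 ∧
      (cCen P x : ℂ) * secNorm p M P c χ x = (z : ℂ) * conj (z : ℂ) := by
  haveI : NeZero (Nat.card G) := ⟨Nat.card_pos.ne'⟩
  have hPc := hmax.1.1
  have hxo := isPGroup_exists_orderOf hPc.1 hx
  have hHu := commute_mem_cen x
  have hCH := centralizer_singleton_le x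
  have hbr : IsBrauerPairOf p M B (Subgroup.zpowers x) b :=
    (isBrauerPairOf_iff_of_le hM hle B).1 hmax.1
  have hind := (isBrauerPairOf_zpowers_iff hM hmax.1.2.1 hxo hbr.1.2).1 hbr
  have huH : x ∈ C[Subgroup.zpowers x] := hCH (Subgroup.mem_centralizer_singleton_iff.2 rfl)
  choose d hd using hd
  set θ := secFn x C[Subgroup.zpowers x] (χ : G → ℂ) with hθ
  set a : ℂ := ∑ η : IrrCharacter C[Subgroup.zpowers x],
    if h : η ∈ b then classInner θ (η : C[Subgroup.zpowers x] → ℂ) * (d η h : ℂ) else 0 with ha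
  have hT : ∀ y : C[Subgroup.zpowers x], IsPRegular p y →
      blockPart b θ y = a * (φ : C[Subgroup.zpowers x] → ℂ) y := by
    intro y hy
    rw [blockPart_eq_inner_sum, ha, Finset.sum_mul]
    refine Finset.sum_congr rfl fun η _ => ?_
    by_cases h : η ∈ b
    · rw [if_pos h, dif_pos h, hd η h y hy, mul_assoc]
    · rw [if_neg h, dif_neg h, zero_mul]
  have hterm : ∀ η : IrrCharacter C[Subgroup.zpowers x],
      IsIntegral ℤ (classInner θ (η : C[Subgroup.zpowers x] → ℂ)) ∧
        classInner θ (η : C[Subgroup.zpowers x] → ℂ) ∈ cycField (Nat.card G) := by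
    intro η
    obtain ⟨r, hr, he⟩ := classInner_secFn huH hHu χ η
    obtain ⟨k, hk⟩ :=
      (χ.2.isCharacter.comp C[Subgroup.zpowers x].subtype).exists_nat_classInner η.2.isCharacter
    rw [hθ, he, show classInner (fun h : C[Subgroup.zpowers x] => (χ : G → ℂ) h)
      (η : C[Subgroup.zpowers x] → ℂ) = k from hk]
    refine ⟨IsIntegral.mul (IsIntegral.of_pow (orderOf_pos x) (by rw [hr]; exact isIntegral_one))
      (isIntegral_algebraMap (R := ℤ) (x := (k : ℤ))), mul_mem (mem_cycField ?_) (natCast_mem _ _)⟩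
    obtain ⟨m, hm⟩ := orderOf_dvd_natCard x
    rw [hm, pow_mul, hr, one_pow]
  have hamem : a ∈ cycField (Nat.card G) := sum_mem fun η _ => by
    split_ifs
    · exact mul_mem (hterm η).2 (natCast_mem _ _)
    · exact zero_mem _
  have haint : IsIntegral ℤ a := IsIntegral.sum _ fun η _ => by
    split_ifs with h
    · exact (hterm η).1.mul (isIntegral_algebraMap (R := ℤ) (x := (d η h : ℤ)))
    · exact isIntegral_zero
  have hreg : regInner p θ (φ : C[Subgroup.zpowers x] → ℂ) =
      a * regInner p (φ : C[Subgroup.zpowers x] → ℂ) (φ : C[Subgroup.zpowers x] → ℂ) := by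
    rw [regInner_blockPart hM hbr.1.2 hφ (isClassFunction_secFn' χ.2.isClassFunction x),
      regInner_congr_reg (f' := a • (φ : C[Subgroup.zpowers x] → ℂ)) fun y hy => hT y hy,
      regInner, regInner, ← Char.classInner_smul_left]
    congr 1
    funext y
    by_cases hy : IsPRegular p y
    · simp [pRegularPart_of_reg hy]
    · simp [pRegularPart_of_sing hy]
  have ha0 : a ≠ 0 := fun h0 => secT_not_mem hM hxo hHu hCH hind rfl hχ hh hφ hφ0 (by
    rw [secT, ← hθ, hreg, h0, zero_mul, mul_zero]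
    exact memLocalIdeal_zero hM)
  refine ⟨⟨a, hamem⟩, haint, fun h => ha0 (congrArg Subtype.val h), ?_⟩
  have hc0 : (cCen P x : ℂ) ≠ 0 := Nat.cast_ne_zero.2 Nat.card_pos.ne'
  have hn : secNormAt p χ b = a * conj a *
      regInner p (φ : C[Subgroup.zpowers x] → ℂ) (φ : C[Subgroup.zpowers x] → ℂ) := by
    rw [secNormAt, regInner, classInner, mul_left_comm _ _ (∑ _y, _)]
    congr 1
    rw [Finset.mul_sum]
    refine Finset.sum_congr rfl fun y _ => ?_
    by_cases hy : IsPRegular p y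
    · rw [if_pos hy, pRegularPart_of_reg hy, ← hθ, hT y hy, map_mul]; ring
    · rw [if_neg hy, pRegularPart_of_sing hy, zero_mul, mul_zero]
  rw [secNorm_eq hM hPc χ hle, hn, hr]
  field_simp

include hmax in
include hM in
/-- All weighted section norms of a character of height zero are one. -/
theorem secNorm_eq_one (hnil : IsNilpotentBlock p M B) (hχ : χ ∈ B)
    (hh : blockHeight p B (χ : G → ℂ) = 0)
    (hloc : ∀ x ∈ P, x ∉ Subgroup.center G → ∀ b : Set (IrrCharacter C[Subgroup.zpowers x]),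
      SubpairLE p M (Subgroup.zpowers x) b P c → ∃ φ ∈ b,
        blockHeight p b (φ : C[Subgroup.zpowers x] → ℂ) = 0 ∧
        regInner p (φ : C[Subgroup.zpowers x] → ℂ) (φ : C[Subgroup.zpowers x] → ℂ) =
          (cCen P x : ℂ)⁻¹ ∧
        ∀ η ∈ b, ∃ d : ℕ, ∀ y : C[Subgroup.zpowers x], IsPRegular p y →
          (η : C[Subgroup.zpowers x] → ℂ) y = (d : ℂ) * (φ : C[Subgroup.zpowers x] → ℂ) y) :
    (∀ x : P, (cCen P (x : G) : ℂ) * secNorm p M P c χ (x : G) = 1) ∧
      regInner p (χ : G → ℂ) (χ : G → ℂ) = (Nat.card P : ℂ)⁻¹ := by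
  classical
  haveI : NeZero (Nat.card G) := ⟨Nat.card_pos.ne'⟩
  have hPc := hmax.1.1
  have hB := hmax.1.2.1
  have hinn := innerFusion_of_nilpotent hM hmax hnil
  have hone : IsFocChar p M P c (fun _ => 1) :=
    ⟨fun _ _ _ _ => (one_mul 1).symm, rfl, fun _ _ _ _ _ => rfl⟩
  have htot := classInner_starFn hM hmax hinn hone.isFusChar hone.isFusChar hχ
  rw [starFn_trivial hM hmax hone hχ fun _ _ => rfl, Char.classInner_irr_self χ.2, mul_one] at htot
  simp only [map_one, mul_one, one_mul] at htot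
  have hPD := card_defectGroup hM hB (isDefectGroup_of_maximal hM hmax)
  obtain ⟨m, hm⟩ := exists_regForm hM hB
  have hpos : 0 < m χ χ := hm.diag_pos hM hB hχ
  obtain ⟨k, hk⟩ : ∃ k : ℕ, m χ χ = (k : ℤ) := ⟨(m χ χ).toNat, (Int.toNat_of_nonneg hpos.le).symm⟩
  have hk1 : 1 ≤ k := by omega
  have hr : (Nat.card P : ℂ) * regInner p (χ : G → ℂ) (χ : G → ℂ) = (k : ℂ) := by
    have := hm.eq χ hχ χ hχ
    rw [regN, hk, Int.cast_natCast] at this
    rw [hPD]; exact this
  set Z := (Finset.univ : Finset P).filter fun x : P => (x : G) ∈ Subgroup.center G with hZ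
  set S := (Finset.univ : Finset P).filter fun x : P => ¬ (x : G) ∈ Subgroup.center G with hS
  have hzs : Z.card + S.card = Nat.card P := by
    rw [hZ, hS, Finset.card_filter_add_card_filter_not, Finset.card_univ, Nat.card_eq_fintype_card]
  have hz1 : 1 ≤ Z.card := Finset.card_pos.2
    ⟨1, Finset.mem_filter.2 ⟨Finset.mem_univ _, one_mem _⟩⟩
  have hcen : ∀ x ∈ Z, (cCen P (x : G) : ℂ) * secNorm p M P c χ (x : G) = (k : ℂ) := by
    intro x hx
    have hxc := (Finset.mem_filter.1 hx).2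
    rw [secNorm_central hM hmax hχ x.2 hxc, ← hr, cCen, inf_eq_left.2 fun y _ =>
      centralizer_singleton_le _ (Subgroup.mem_centralizer_singleton_iff.2
        (Subgroup.mem_center_iff.1 hxc y))]
  have hnc : ∀ x : P, ∃ z : cycField (Nat.card G), x ∈ S → IsIntegral ℤ (z : ℂ) ∧ z ≠ 0 ∧
      (cCen P (x : G) : ℂ) * secNorm p M P c χ (x : G) = (z : ℂ) * conj (z : ℂ) := by
    intro x
    by_cases hx : x ∈ S
    · obtain ⟨b, -, hle⟩ := exists_subpair hM hPc (Subgroup.zpowers_le.2 x.2)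
      obtain ⟨φ, hφ, hφ0, hφr, hd⟩ := hloc _ x.2 (Finset.mem_filter.1 hx).2 b hle
      obtain ⟨z, hz⟩ := secNorm_rank_one hM hmax hnil hχ hh x.2 hle hφ hφ0 hφr hd
      exact ⟨z, fun _ => hz⟩
    · exact ⟨0, fun h => absurd h hx⟩
  choose z hz using hnc
  have hsum : ∑ x ∈ S, (z x : ℂ) * conj (z x : ℂ) = (Nat.card P : ℂ) - (Z.card : ℂ) * (k : ℂ) := by
    rw [htot, ← Finset.sum_filter_add_sum_filter_not Finset.univ
      (fun x : P => (x : G) ∈ Subgroup.center G), ← hZ, ← hS, Finset.sum_congr rfl hcen,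
      Finset.sum_const, nsmul_eq_mul, add_sub_cancel_left]
    exact Finset.sum_congr rfl fun x hx => ((hz x hx).2.2).symm
  have hle : Z.card * k ≤ Nat.card P := by
    have h := congrArg Complex.re hsum
    simp only [Complex.re_sum, Complex.mul_conj', ← Complex.ofReal_pow, Complex.ofReal_re,
      Complex.sub_re, Complex.natCast_re] at h
    have h0 : (0 : ℝ) ≤ (Nat.card P : ℝ) - (Z.card : ℝ) * (k : ℝ) := by
      have h2 : (0 : ℝ) ≤ ∑ x ∈ S, ‖(z x : ℂ)‖ ^ 2 := Finset.sum_nonneg fun _ _ => sq_nonneg _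
      rw [h, Complex.mul_re, Complex.natCast_re, Complex.natCast_re, Complex.natCast_im, zero_mul,
        sub_zero] at h2
      exact h2
    exact_mod_cast sub_nonneg.1 h0
  have hsum' : ∑ x ∈ S, (z x : ℂ) * conj (z x : ℂ) = ((Nat.card P - Z.card * k : ℕ) : ℂ) := by
    rw [hsum, Nat.cast_sub hle, Nat.cast_mul]
  have hbound := card_le_of_sum_sq S z (fun x hx => (hz x hx).1) (fun x hx => (hz x hx).2.1) hsum'
  have hk2 : k = 1 := by
    by_contra hne
    have : Z.card * 2 ≤ Z.card * k := Nat.mul_le_mul_left _ (by omega)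
    omega
  subst hk2
  rw [mul_one] at hsum'
  rw [show Nat.card P - Z.card = S.card by omega] at hsum'
  have hunit := norm_one_of_sum_sq S z (fun x hx => (hz x hx).1) (fun x hx => (hz x hx).2.1) hsum'
  refine ⟨fun x => ?_, ?_⟩
  · by_cases hx : (x : G) ∈ Subgroup.center G
    · rw [hcen x (Finset.mem_filter.2 ⟨Finset.mem_univ _, hx⟩), Nat.cast_one]
    · have hxS : x ∈ S := Finset.mem_filter.2 ⟨Finset.mem_univ _, hx⟩
      rw [(hz x hxS).2.2, hunit x hxS]
  · rw [Nat.cast_one] at hr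
    exact eq_inv_of_mul_eq_one_right hr

include hmax in
include hM in
/-- The characters of the block are the products with the characters of the defect group. -/
theorem exists_irr_equiv (hnil : IsNilpotentBlock p M B) (hχ : χ ∈ B)
    (hh : blockHeight p B (χ : G → ℂ) = 0)
    (hone : ∀ x : P, (cCen P (x : G) : ℂ) * secNorm p M P c χ (x : G) = 1) :
    ∃ Φ : B ≃ IrrCharacter P, ∀ (η : B) (y : G), IsPRegular p y →
      ((η : IrrCharacter G) : G → ℂ) y = ((Φ η : IrrCharacter P) : P → ℂ) 1 * (χ : G → ℂ) y := by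
  classical
  have hB := hmax.1.2.1
  have hinn := innerFusion_of_nilpotent hM hmax hnil
  have hf : ∀ ζ : IrrCharacter P, IsFusChar p M P c (extP P (ζ : P → ℂ)) :=
    fun ζ => isFusChar_extP hinn ζ.2.isGeneralized
  set F : IrrCharacter P → G → ℂ := fun ζ => starFn hM P c (extP P (ζ : P → ℂ)) χ with hF
  have horth : ∀ ζ ζ' : IrrCharacter P,
      classInner (F ζ) (F ζ') = classInner (ζ : P → ℂ) (ζ' : P → ℂ) := by
    intro ζ ζ'
    have h := classInner_starFn hM hmax hinn (hf ζ) (hf ζ') hχ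
    rw [show classInner (ζ : P → ℂ) (ζ' : P → ℂ) =
      (Nat.card P : ℂ)⁻¹ * ∑ x : P, (ζ : P → ℂ) x * conj ((ζ' : P → ℂ) x) from rfl]
    refine mul_left_cancel₀ (Char.card_cast_ne_zero (G := P)) ?_
    rw [mul_inv_cancel_left₀ Char.card_cast_ne_zero, hF, h]
    refine Finset.sum_congr rfl fun x _ => ?_
    rw [extP_coe, extP_coe, mul_left_comm, hone, mul_one]
  have h1reg : IsPRegular p (1 : G) := by simp [IsPRegular, (Fact.out : p.Prime).ne_one]
  have hval : ∀ (ζ : IrrCharacter P) {y : G}, IsPRegular p y →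
      F ζ y = (ζ : P → ℂ) 1 * (χ : G → ℂ) y := by
    intro ζ y hy
    simp only [hF]
    rw [starFn_reg_class hM hmax (hf ζ) hχ hy, extP_mem _ (one_mem P)]
    rfl
  have hirr : ∀ ζ : IrrCharacter P, ∃ μ : IrrCharacter G, μ ∈ B ∧ (μ : G → ℂ) = F ζ := by
    intro ζ
    obtain ⟨ε, μ, hε, he⟩ := Char.exists_signed_irr_of_norm_one
      (isGeneralizedCharacter_starFn hM hmax (hf ζ) χ)
      ((horth ζ ζ).trans (Char.classInner_irr_self ζ.2))
    obtain ⟨n, hn0, hn⟩ := χ.2.exists_degree
    obtain ⟨k, hk0, hk⟩ := ζ.2.exists_degree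
    obtain ⟨m, hm0, hm⟩ := μ.2.exists_degree
    have hε1 : ε = 1 := by
      rcases hε with h | h
      · exact h
      have h1 := congrFun he 1
      rw [show starFn hM P c (extP P (ζ : P → ℂ)) χ 1 = _ from hval ζ h1reg, hn, hk, Pi.smul_apply,
        hm, h, smul_eq_mul] at h1
      push_cast at h1
      have h2 : ((k * n + m : ℕ) : ℂ) = 0 := by push_cast; linear_combination h1
      have := Nat.cast_eq_zero.1 h2
      omega
    rw [hε1, Int.cast_one, one_smul] at he
    refine ⟨μ, ?_, he.symm⟩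
    by_contra hμ
    refine regInner_self_ne (p := p) χ ?_
    have h0 := regInner_eq_zero hM (vInt_indVec hM hB) hχ hμ
    rw [← regInner_conj, map_eq_zero] at h0
    rw [regInner_congr_reg (f' := ((ζ : P → ℂ) 1) • (χ : G → ℂ)) fun g hg => by
      rw [← he]; exact hval ζ hg, regInner] at h0
    rw [show pRegularPart p (((ζ : P → ℂ) 1) • (χ : G → ℂ)) =
        ((ζ : P → ℂ) 1) • pRegularPart p (χ : G → ℂ) from funext fun g => by
      by_cases hg : IsPRegular p g
      · simp [pRegularPart_of_reg hg]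
      · simp [pRegularPart_of_sing hg], Char.classInner_smul_left] at h0
    exact (mul_eq_zero.1 h0).resolve_left ζ.2.apply_one_ne_zero
  choose μ hμB hμ using hirr
  have hinj : Function.Injective μ := by
    intro ζ ζ' h
    by_contra hne
    have h1 := horth ζ ζ'
    rw [Char.classInner_irr_ne ζ.2 ζ'.2 fun e => hne (Subtype.ext e), ← hμ, ← hμ, h,
      Char.classInner_irr_self (μ ζ').2] at h1
    exact one_ne_zero h1
  have hsurj : ∀ η ∈ B, ∃ ζ, μ ζ = η := by
    intro η hη
    by_contra hno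
    simp only [not_exists] at hno
    obtain ⟨m, hm⟩ := exists_regForm hM hB
    have h0 : regInner p (χ : G → ℂ) (η : G → ℂ) = 0 := by
      have hexp : pRegularPart p (χ : G → ℂ) =
          (Nat.card P : ℂ)⁻¹ • ∑ ζ : IrrCharacter P, ((ζ : P → ℂ) 1) • F ζ := by
        funext g
        rw [Pi.smul_apply, Finset.sum_apply, smul_eq_mul]
        simp only [Pi.smul_apply, smul_eq_mul, hF]
        rw [sum_degree_starFn hM hmax hinn hχ g, inv_mul_cancel_left₀ Char.card_cast_ne_zero]
      rw [regInner, hexp, Char.classInner_smul_left, Char.classInner_sum_left,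
        Finset.sum_eq_zero fun ζ _ => ?_, mul_zero]
      rw [Char.classInner_smul_left, ← hμ, Char.classInner_irr_ne (μ ζ).2 η.2
        fun e => hno ζ (Subtype.ext e), mul_zero]
    refine hm.not_dvd χ hχ η hη hh ?_
    have h1 := hm.eq χ hχ η hη
    rw [regN, h0, mul_zero] at h1
    have h2 : m χ η = 0 := by exact_mod_cast h1.symm
    rw [h2]
    exact dvd_zero _
  let Ψ : IrrCharacter P → B := fun ζ => ⟨μ ζ, hμB ζ⟩
  have hΨ : Function.Bijective Ψ := ⟨fun a b h => hinj (congrArg Subtype.val h),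
    fun η => (hsurj η η.2).imp fun _ h => Subtype.ext h⟩
  refine ⟨(Equiv.ofBijective Ψ hΨ).symm, fun η y hy => ?_⟩
  obtain ⟨ζ, rfl⟩ := (Equiv.ofBijective Ψ hΨ).surjective η
  rw [Equiv.symm_apply_apply]
  show (μ ζ : G → ℂ) y = _
  rw [hμ]
  exact hval ζ hy

include hM in
/-- The theorem of Broué and Puig. -/
theorem nilpotent_core (n : ℕ) : ∀ {G : Type u} [Group G] [Fintype G]
    {B : Set (IrrCharacter G)} {P : Subgroup G}, Nat.card G ≤ n → IsNilpotentBlock p M B →
    IsDefectGroup p M B P →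
    ∃ χ₀ ∈ B, blockHeight p B (χ₀ : G → ℂ) = 0 ∧
      regInner p (χ₀ : G → ℂ) (χ₀ : G → ℂ) = (Nat.card P : ℂ)⁻¹ ∧
      ∃ Φ : B ≃ IrrCharacter P, ∀ (η : B) (y : G), IsPRegular p y →
        ((η : IrrCharacter G) : G → ℂ) y =
          ((Φ η : IrrCharacter P) : P → ℂ) 1 * (χ₀ : G → ℂ) y := by
  induction n using Nat.strong_induction_on with
  | _ n ih =>
  intro G _ _ B P hn hnil hD
  classical
  obtain ⟨c, hc⟩ := (exists_pair_iff hM hnil.1 hD (isPGroup_defectGroup hM hD)).2
    ⟨1, (map_conj_one _).le⟩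
  have hmax := maximal_of_defectGroup hM hc hD
  obtain ⟨χ, hχ, hmin⟩ := exists_minVal (p := p) (nonempty_of_isPBlock hM hnil.1)
  have hh := (blockHeight_eq_zero_iff hχ).2 hmin
  obtain ⟨hone, hr⟩ := secNorm_eq_one hM hmax hnil hχ hh (by
    intro x hx hxc b hle
    have hb : IsBrauerPairOf p M B (Subgroup.zpowers x) b :=
      (isBrauerPairOf_iff_of_le hM hle B).1 hmax.1
    have hlt : Nat.card C[Subgroup.zpowers x] < Nat.card G := by
      refine lt_of_le_of_ne (Subgroup.card_le_card_group _) fun h => hxc ?_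
      rw [Subgroup.mem_center_iff]
      intro g
      have hg : g ∈ C[Subgroup.zpowers x] := by
        rw [Subgroup.eq_top_of_card_eq _ h]; exact Subgroup.mem_top g
      exact (Subgroup.mem_centralizer_iff.1 hg x (Subgroup.mem_zpowers x)).symm
    obtain ⟨φ, hφ, hφ0, hφr, Φ, hΦ⟩ := ih _ (hlt.trans_le hn) le_rfl (nilpotent_of_pair hM hnil hb)
      (defect_of_nilpotent hM hmax hnil hle)
    refine ⟨φ, hφ, hφ0, ?_, fun η hη => ?_⟩
    · rw [hφr, cCen, Nat.card_congr (Subgroup.subgroupOfEquivOfLe inf_le_right).toEquiv]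
    · obtain ⟨d, -, hd⟩ := (Φ ⟨η, hη⟩).2.exists_degree
      exact ⟨d, fun y hy => by rw [← hd]; exact hΦ ⟨η, hη⟩ y hy⟩)
  exact ⟨χ, hχ, hh, hr, exists_irr_equiv hM hmax hnil hχ hh hone⟩

include hM in
/-- A nilpotent block has rank one. -/
theorem nilpotent_blockRank_one (hnil : IsNilpotentBlock p M B) (hD : IsDefectGroup p M B P) :
    blockRank p B = 1 ∧ ∃ χ₀ ∈ B, ∀ η ∈ B, ∃ d : ℕ, ∀ y : G,
      pRegularPart p (η : G → ℂ) y = (d : ℂ) * pRegularPart p (χ₀ : G → ℂ) y := by
  obtain ⟨χ₀, hχ₀, -, -, Φ, hΦ⟩ := nilpotent_core hM _ le_rfl hnil hD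
  have hd : ∀ η ∈ B, ∃ d : ℕ, ∀ y : G,
      pRegularPart p (η : G → ℂ) y = (d : ℂ) * pRegularPart p (χ₀ : G → ℂ) y := by
    intro η hη
    obtain ⟨d, -, hd⟩ := (Φ ⟨η, hη⟩).2.exists_degree
    refine ⟨d, fun y => ?_⟩
    by_cases hy : IsPRegular p y
    · rw [pRegularPart_of_reg hy, pRegularPart_of_reg hy, ← hd]
      exact hΦ ⟨η, hη⟩ y hy
    · rw [pRegularPart_of_sing hy, pRegularPart_of_sing hy, mul_zero]
  refine ⟨le_antisymm ?_ (blockRank_pos hM hnil.1), χ₀, hχ₀, hd⟩
  refine (Submodule.finrank_mono (Submodule.span_le.2 ?_)).trans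
    ((finrank_span_le_card ({pRegularPart p (χ₀ : G → ℂ)} : Set (G → ℂ))).trans (by simp))
  rintro _ ⟨η, hη, rfl⟩
  obtain ⟨d, hd⟩ := hd η hη
  exact Submodule.mem_span_singleton.2 ⟨d, funext fun y => (hd y).symm⟩

include hM in
/-- The height of a character of a nilpotent block is read off the defect group. -/
theorem nilpotent_height_equiv (hnil : IsNilpotentBlock p M B) (hD : IsDefectGroup p M B P) :
    ∃ Φ : B ≃ IrrCharacter P, ∀ η : B,
      blockHeight p B ((η : IrrCharacter G) : G → ℂ) =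
        (charDegree ((Φ η : IrrCharacter P) : P → ℂ)).factorization p := by
  obtain ⟨χ₀, hχ₀, hh, -, Φ, hΦ⟩ := nilpotent_core hM _ le_rfl hnil hD
  refine ⟨Φ, fun η => ?_⟩
  have h1reg : IsPRegular p (1 : G) := by simp [IsPRegular, (Fact.out : p.Prime).ne_one]
  have h := hΦ η 1 h1reg
  rw [apply_one_eq_charDegree, apply_one_eq_charDegree, apply_one_eq_charDegree,
    ← Nat.cast_mul, Nat.cast_inj] at h
  rw [blockHeight_eq, h, Nat.factorization_mul (charDegree_pos _).ne' (charDegree_pos _).ne',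
    Finsupp.add_apply, (blockHeight_eq_zero_iff hχ₀).1 hh, Nat.add_sub_cancel]

end Cfsg.Lib.Block
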