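import Cfsg.Agent.Lib.Block.AbelianNilpotent
import Cfsg.Agent.Lib.Block.NilpotentRank
import Cfsg.Agent.Lib.Block.MajorBound

/-!
# Sections at the local blocks of a block with free inertial action

For a pair `(R, f)` below the maximal pair all characters of `f` agree at regular elements, so a
section at `(R, f)` is one scalar times their common regular restriction.
-/

set_option autoImplicit false
set_option linter.unusedSectionVars false
set_option maxHeartbeats 800000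

namespace Cfsg.Lib.Block

open Cfsg Cfsg.Lib.Char
open scoped ComplexConjugate

universe u

noncomputable local instance (priority := high) fintypeSubgroupFreeSections {A : Type u}
    [Group A] [Fintype A] (H : Subgroup A) : Fintype H := Fintype.ofFinite H

local notation "C[" Q "]" => Subgroup.centralizer (SetLike.coe Q)

section Defs

variable {G : Type u} [Group G]

/-- The block of the centralizer of `Q` below the pair `(P, c)`. -/
def subBlock (p : ℕ) (M : Ideal AlgInt) (P : Subgroup G) (c : Set (IrrCharacter C[P]))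
    (Q : Subgroup G) : Set (IrrCharacter C[Q]) :=
  {ξ | ∃ f, IsPBlock M f ∧ SubpairLE p M Q f P c ∧ ξ ∈ f}

open Classical in
/-- A function on a centralizer extended by zero. -/
noncomputable def extC (Q : Subgroup G) (θ : C[Q] → ℂ) (g : G) : ℂ :=
  if h : g ∈ C[Q] then θ ⟨g, h⟩ else 0

theorem extC_coe (Q : Subgroup G) (θ : C[Q] → ℂ) (y : C[Q]) : extC Q θ (y : G) = θ y :=
  dif_pos y.2

/-- The scalar of the section of a function at the pair at `R` and the element `w`. -/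
noncomputable def secVal [Fintype G] (p : ℕ) (M : Ideal AlgInt) (P : Subgroup G)
    (c : Set (IrrCharacter C[P])) (R : Subgroup G) (F : G → ℂ) (w : G) : ℂ :=
  ∑ᶠ ρ ∈ subBlock p M P c R, classInner (fun y : C[R] => F (w * (y : G))) (ρ : C[R] → ℂ)

end Defs

/-- A block with abelian defect group on which the stabilizer of a root acts freely. -/
structure FreeSetup (p : ℕ) (M : Ideal AlgInt) {G : Type u} [Group G] [Fintype G]
    (B : Set (IrrCharacter G)) (P : Subgroup G) (c : Set (IrrCharacter C[P]))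
    (T : Subgroup G) : Prop where
  modular : IsPModular p M
  block : IsPBlock M B
  defect : IsDefectGroup p M B P
  comm : ∀ x ∈ P, ∀ y ∈ P, x * y = y * x
  root : IsInducedBlock M C[P] c B
  stab : ∀ g : G, g ∈ T ↔ g ∈ Subgroup.normalizer (P : Set G) ∧ StabilizesBlock C[P] c g
  free : ∀ g ∈ T, ∀ x ∈ P, x ≠ 1 → g * x * g⁻¹ = x → g ∈ C[P]

section BlockSum

variable {A : Type u} [Group A] [Fintype A]

theorem blockPart_one_of_degree {b : Set (IrrCharacter A)} (θ : A → ℂ) {d : ℂ}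
    (hd : ∀ ρ ∈ b, (ρ : A → ℂ) 1 = d) :
    blockPart b θ 1 = d * ∑ᶠ ρ ∈ b, classInner θ (ρ : A → ℂ) := by
  classical
  rw [blockPart_eq_inner_sum, finsum_mem_eq_toFinset_sum, Finset.mul_sum, ← Finset.sum_filter]
  refine Finset.sum_congr (by ext; simp) fun ρ hρ => ?_
  rw [hd ρ (Set.mem_toFinset.1 hρ), mul_comm]

theorem finsum_pullSet {A' : Type u} [Group A'] [Fintype A'] (e : A ≃* A')
    (b : Set (IrrCharacter A')) (θ : A' → ℂ) :
    ∑ᶠ ρ ∈ pullSet e b, classInner (fun a => θ (e a)) (ρ : A → ℂ) =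
      ∑ᶠ ρ ∈ b, classInner θ (ρ : A' → ℂ) := by
  refine (finsum_mem_eq_of_bijOn (compIrr e) ⟨fun ρ hρ => mem_pullSet.2 hρ,
    (irrEquiv e).injective.injOn, fun ρ hρ => ⟨compIrr e.symm ρ, hρ, compIrr_compIrr_symm e ρ⟩⟩
    fun ρ _ => ?_).symm
  exact (Char.classInner_comp_equiv e θ (ρ : A' → ℂ)).symm

end BlockSum

namespace FreeSetup

variable {p : ℕ} [Fact p.Prime] {M : Ideal AlgInt} {G : Type u} [Group G] [Fintype G]
  {B : Set (IrrCharacter G)} {P : Subgroup G} {c : Set (IrrCharacter C[P])} {T : Subgroup G}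
  (S : FreeSetup p M B P c T)

local notation "f[" Q "]" => subBlock p M P c Q
local notation "D[" R "]" => secVal p M P c R

include S

theorem maximal : IsMaximalBrauerPair p M B P c :=
  maximal_of_root S.modular S.block S.defect S.comm S.root

theorem pairP : IsBrauerPair p M P c := S.maximal.1.1

theorem sub_eq {Q : Subgroup G} {f : Set (IrrCharacter C[Q])} (hf : IsPBlock M f)
    (hle : SubpairLE p M Q f P c) : f[Q] = f := by
  ext ξ
  constructor
  · rintro ⟨f', -, hle', hξ⟩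
    rwa [subpair_unique S.modular S.pairP hle hle']
  · exact fun hξ => ⟨f, hf, hle, hξ⟩

theorem sub_spec {Q : Subgroup G} (hQ : Q ≤ P) :
    IsPBlock M f[Q] ∧ SubpairLE p M Q f[Q] P c := by
  obtain ⟨f, hf, hle⟩ := exists_subpair S.modular S.pairP hQ
  rw [S.sub_eq hf hle]
  exact ⟨hf, hle⟩

theorem P_le_cen {Q : Subgroup G} (hQ : Q ≤ P) : P ≤ C[Q] :=
  le_centralizer_of_abelian S.comm hQ

theorem mem_cen {Q : Subgroup G} (hQ : Q ≤ P) {w : G} (hw : w ∈ P) : w ∈ C[Q] := S.P_le_cen hQ hw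

theorem sup_zpowers_le {Q : Subgroup G} (hQ : Q ≤ P) {w : G} (hw : w ∈ P) :
    Q ⊔ Subgroup.zpowers w ≤ P :=
  sup_le hQ (Subgroup.zpowers_le.2 hw)

theorem exists_order {w : G} (hw : w ∈ P) : ∃ k : ℕ, orderOf w = p ^ k :=
  isPGroup_exists_orderOf S.pairP.1 hw

theorem ne_bot_of_le {Q R : Subgroup G} (hQR : Q ≤ R) (hQ1 : Q ≠ ⊥) : R ≠ ⊥ := fun h =>
  hQ1 (le_bot_iff.1 (h ▸ hQR))

theorem sub_data {Q : Subgroup G} (hQ : Q ≤ P) (hQ1 : Q ≠ ⊥) :
    blockRank p f[Q] = 1 ∧ Nat.card f[Q] = Nat.card P ∧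
      p ^ blockDefect p f[Q] = Nat.card P := by
  obtain ⟨hf, hle⟩ := S.sub_spec hQ
  obtain ⟨-, h1, h2⟩ := local_rank_one S.modular S.block S.defect S.comm S.root S.stab S.free hQ1 hle
  refine ⟨h1, h2, ?_⟩
  rw [← card_defectGroup S.modular hf (subpair_defect S.modular S.maximal S.comm hle)]
  exact Nat.card_congr (Subgroup.subgroupOfEquivOfLe (S.P_le_cen hQ)).toEquiv

theorem sub_agree {Q : Subgroup G} (hQ : Q ≤ P) (hQ1 : Q ≠ ⊥) {ξ η : IrrCharacter C[Q]}
    (hξ : ξ ∈ f[Q]) (hη : η ∈ f[Q]) {y : C[Q]} (hy : IsPRegular p y) :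
    (ξ : C[Q] → ℂ) y = (η : C[Q] → ℂ) y := by
  obtain ⟨h1, h2, h3⟩ := S.sub_data hQ hQ1
  exact reg_eq_of_rank_one S.modular (S.sub_spec hQ).1 h1 (h2.trans h3.symm) hξ hη hy

omit S in
theorem isPRegular_one {A : Type u} [Group A] : IsPRegular p (1 : A) := by
  simp [IsPRegular, (Fact.out : p.Prime).ne_one]

theorem sub_degree {Q : Subgroup G} (hQ : Q ≤ P) (hQ1 : Q ≠ ⊥) :
    ∃ d : ℕ, 0 < d ∧ ∀ ρ ∈ f[Q], (ρ : C[Q] → ℂ) 1 = (d : ℂ) := by
  obtain ⟨ρ₀, hρ₀⟩ := nonempty_of_isPBlock S.modular (S.sub_spec hQ).1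
  refine ⟨_, charDegree_pos ρ₀, fun ρ hρ => ?_⟩
  rw [← apply_one_eq_charDegree, S.sub_agree hQ hQ1 hρ hρ₀ isPRegular_one]

theorem sub_height {Q : Subgroup G} (hQ : Q ≤ P) (hQ1 : Q ≠ ⊥) {ρ : IrrCharacter C[Q]}
    (hρ : ρ ∈ f[Q]) : blockHeight p f[Q] (ρ : C[Q] → ℂ) = 0 := by
  obtain ⟨η, hη, hmin⟩ := exists_minVal (p := p) ⟨ρ, hρ⟩
  obtain ⟨d, -, hd⟩ := S.sub_degree hQ hQ1
  rw [blockHeight_eq_zero_iff hρ, ← hmin]
  have e : charDegree (ρ : C[Q] → ℂ) = charDegree (η : C[Q] → ℂ) := by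
    have h := (hd ρ hρ).trans (hd η hη).symm
    rw [apply_one_eq_charDegree, apply_one_eq_charDegree] at h
    exact_mod_cast h
  rw [e]

theorem isClassFunction_shift {R : Subgroup G} {w : G} (hw : w ∈ R) {F : G → ℂ}
    (hF : IsClassFunction G F) : IsClassFunction C[R] fun y : C[R] => F (w * (y : G)) := by
  intro y z
  have e : w * ((z : G) * (y : G) * (z : G)⁻¹) = (z : G) * (w * (y : G)) * (z : G)⁻¹ := by
    rw [← mul_assoc, ← mul_assoc, Subgroup.mem_centralizer_iff.1 z.2 w hw]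
    simp only [mul_assoc]
  simp only [Subgroup.coe_mul, InvMemClass.coe_inv, e]
  exact hF _ _

/-- The section at `(Q ⊔ ⟨w⟩)` seen in the centralizer of `Q`. -/
theorem exists_local {Q : Subgroup G} (hQ : Q ≤ P) {w : G} (hw : w ∈ P) :
    ∃ (H : Subgroup C[Q]) (e : H ≃* C[Q ⊔ Subgroup.zpowers w]),
      (∀ h : H, ((e h : C[Q ⊔ Subgroup.zpowers w]) : G) = ((h : C[Q]) : G)) ∧
      IsInducedBlock M H (pullSet e f[Q ⊔ Subgroup.zpowers w]) f[Q] ∧
      (∀ h : H, Commute (⟨w, S.mem_cen hQ hw⟩ : C[Q]) (h : C[Q])) ∧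
      Subgroup.centralizer ({⟨w, S.mem_cen hQ hw⟩} : Set C[Q]) ≤ H := by
  obtain ⟨R, hR⟩ : ∃ R, R = Q ⊔ Subgroup.zpowers w := ⟨_, rfl⟩
  rw [← hR]
  have hRP : R ≤ P := hR ▸ S.sup_zpowers_le hQ hw
  have hQR : Q ≤ R := hR ▸ le_sup_left
  have hwR : w ∈ R := hR ▸ Subgroup.mem_sup_right (Subgroup.mem_zpowers w)
  obtain ⟨hf, hle⟩ := S.sub_spec hQ
  obtain ⟨g, hgP, hn⟩ := normalSubpair_below S.modular S.pairP hle hQR hRP
    ((hRP.trans (S.P_le_cen hQ)).trans (Subgroup.centralizer_le_normalizer _))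
  obtain ⟨hfR, hleR⟩ := S.sub_spec hRP
  rw [subpair_unique S.modular S.pairP hgP hleR] at hn
  obtain ⟨U', hU'⟩ : ∃ U' : Subgroup C[Q], U'.map C[Q].subtype = R :=
    ⟨R.subgroupOf C[Q], Subgroup.map_subgroupOf_eq_of_le (hRP.trans (S.P_le_cen hQ))⟩
  subst hU'
  have hU : Q ≤ U'.map C[Q].subtype := hQR
  have hUp : IsPGroup p U' := (S.pairP.1.to_le hRP).of_equiv
    (U'.equivMapOfInjective C[Q].subtype C[Q].subtype_injective).symm
  have hUab : U' ≤ Subgroup.centralizer (U' : Set C[Q]) := fun x hx =>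
    Subgroup.mem_centralizer_iff.2 fun y hy =>
      Subtype.ext (S.comm y (hRP ⟨y, hy, rfl⟩) x (hRP ⟨x, hx, rfl⟩))
  refine ⟨Subgroup.centralizer (U' : Set C[Q]), cenUp U' (cen_map_le hU), fun h => rfl, ?_, ?_, ?_⟩
  · exact (isInducedBlockIn_iff_up _ _).1
      ((isInducedBlockIn_iff_subpair S.modular hU hUp hUab hn.1 hfR).2 hn)
  · intro h
    obtain ⟨x, hx, hxw⟩ := hwR
    have e := Subgroup.mem_centralizer_iff.1 h.2 x hx
    have hxe : x = ⟨w, S.mem_cen hQ hw⟩ := Subtype.ext hxw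
    rw [← hxe]
    exact e
  · intro x hx
    have hxR : (x : G) ∈ C[U'.map C[Q].subtype] := by
      rw [hR]
      have h1 : Q ⊔ Subgroup.zpowers w ≤ Subgroup.centralizer ({(x : G)} : Set G) := by
        refine sup_le (fun q hq => Subgroup.mem_centralizer_singleton_iff.2 ?_)
          (Subgroup.zpowers_le.2 (Subgroup.mem_centralizer_singleton_iff.2 ?_))
        · exact Subgroup.mem_centralizer_iff.1 x.2 q hq
        · exact congrArg Subtype.val (Subgroup.mem_centralizer_iff.1 hx _ rfl)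
      exact Subgroup.mem_centralizer_iff.2 fun r hr =>
        Subgroup.mem_centralizer_singleton_iff.1 (h1 hr)
    exact ((cenUp U' (cen_map_le hU)).symm ⟨x, hxR⟩).2

theorem secVal_local {Q : Subgroup G} (hQ : Q ≤ P) {w : G} (hw : w ∈ P) {H : Subgroup C[Q]}
    (e : H ≃* C[Q ⊔ Subgroup.zpowers w])
    (he : ∀ h : H, ((e h : C[Q ⊔ Subgroup.zpowers w]) : G) = ((h : C[Q]) : G))
    (θ : C[Q] → ℂ) :
    D[Q ⊔ Subgroup.zpowers w] (extC Q θ) w = ∑ᶠ ρ ∈ pullSet e f[Q ⊔ Subgroup.zpowers w],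
      classInner (secFn ⟨w, S.mem_cen hQ hw⟩ H θ) (ρ : H → ℂ) := by
  rw [secVal, ← finsum_pullSet e]
  refine finsum_congr fun ρ => finsum_congr fun _ => ?_
  congr 1
  funext h
  rw [he]
  exact (extC_coe Q θ (⟨w, S.mem_cen hQ hw⟩ * (h : C[Q])))

theorem degree_pullSet {R : Subgroup G} {A : Type u} [Group A] [Fintype A] (e : A ≃* C[R])
    {d : ℕ} (hd : ∀ ρ ∈ f[R], (ρ : C[R] → ℂ) 1 = (d : ℂ)) :
    ∀ ρ ∈ pullSet e f[R], (ρ : A → ℂ) 1 = (d : ℂ) := fun ρ hρ => by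
  have h := hd _ hρ
  rwa [compIrr_apply, map_one] at h

/-- Outside the local block the section vanishes. -/
theorem secVal_eq_zero {Q : Subgroup G} (hQ : Q ≤ P) (hQ1 : Q ≠ ⊥) {w : G} (hw : w ∈ P)
    {η : IrrCharacter C[Q]} (hη : η ∉ f[Q]) :
    D[Q ⊔ Subgroup.zpowers w] (extC Q η) w = 0 := by
  obtain ⟨H, e, he, hind, hcomm, hCH⟩ := S.exists_local hQ hw
  obtain ⟨d, hd0, hd⟩ :=
    S.sub_degree (S.sup_zpowers_le hQ hw) (S.ne_bot_of_le le_sup_left hQ1)
  have hu : ∃ k : ℕ, orderOf (⟨w, S.mem_cen hQ hw⟩ : C[Q]) = p ^ k := by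
    simpa [Subgroup.orderOf_mk] using S.exists_order hw
  have h := blockPart_secFn_eq_zero S.modular hu hcomm hCH hind hη (isPRegular_one (A := H))
  rw [blockPart_one_of_degree _ (S.degree_pullSet e hd), ← S.secVal_local hQ hw e he] at h
  exact (mul_eq_zero.1 h).resolve_left (Nat.cast_ne_zero.2 hd0.ne')

open Classical in
/-- The squares of the sections over a local block sum to the order of the defect group. -/
theorem sum_secVal_sq {Q : Subgroup G} (hQ : Q ≤ P) (hQ1 : Q ≠ ⊥) {w : G} (hw : w ∈ P) :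
    ∑ ψ ∈ f[Q].toFinset, D[Q ⊔ Subgroup.zpowers w] (extC Q ψ) w *
      conj (D[Q ⊔ Subgroup.zpowers w] (extC Q ψ) w) = (Nat.card P : ℂ) := by
  obtain ⟨H, e, he, hind, hcomm, hCH⟩ := S.exists_local hQ hw
  have hR1 := S.ne_bot_of_le (le_sup_left : Q ≤ Q ⊔ Subgroup.zpowers w) hQ1
  obtain ⟨d, hd0, hd⟩ := S.sub_degree (S.sup_zpowers_le hQ hw) hR1
  have hu : ∃ k : ℕ, orderOf (⟨w, S.mem_cen hQ hw⟩ : C[Q]) = p ^ k := by
    simpa [Subgroup.orderOf_mk] using S.exists_order hw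
  have h := sum_blockPart_mul_conj_block S.modular hu hcomm hCH hind (y := 1) (y' := 1)
    isPRegular_one isPRegular_one
  simp only [blockPart_one_of_degree _ (S.degree_pullSet e hd), ← S.secVal_local hQ hw e he,
    map_mul, map_natCast] at h
  have hker : regKer (pullSet e f[Q ⊔ Subgroup.zpowers w]) 1 1 =
      (Nat.card P : ℂ) * ((d : ℂ) * d) := by
    rw [regKer, Finset.sum_congr rfl fun ρ hρ => by
      rw [S.degree_pullSet e hd ρ (Set.mem_toFinset.1 hρ), map_natCast],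
      Finset.sum_const, nsmul_eq_mul, ← Nat.card_eq_card_toFinset,
      show Nat.card (pullSet e f[Q ⊔ Subgroup.zpowers w]) = Nat.card P from ?_]
    rw [← (S.sub_data (S.sup_zpowers_le hQ hw) hR1).2.1]
    exact Nat.card_congr ((irrEquiv e.symm).subtypeEquiv fun ρ => Iff.rfl)
  rw [hker] at h
  refine mul_right_cancel₀ (b := (d : ℂ) * d) (by simp [hd0.ne']) ?_
  rw [← h, Finset.sum_mul]
  exact Finset.sum_congr rfl fun ψ _ => by ring

theorem secVal_ne_zero {Q : Subgroup G} (hQ : Q ≤ P) (hQ1 : Q ≠ ⊥) {w : G} (hw : w ∈ P)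
    {ψ : IrrCharacter C[Q]} (hψ : ψ ∈ f[Q]) :
    D[Q ⊔ Subgroup.zpowers w] (extC Q ψ) w ≠ 0 := by
  classical
  intro h0
  obtain ⟨H, e, he, hind, hcomm, hCH⟩ := S.exists_local hQ hw
  have hRP := S.sup_zpowers_le hQ hw
  have hR1 := S.ne_bot_of_le (le_sup_left : Q ≤ Q ⊔ Subgroup.zpowers w) hQ1
  have hu : ∃ k : ℕ, orderOf (⟨w, S.mem_cen hQ hw⟩ : C[Q]) = p ^ k := by
    simpa [Subgroup.orderOf_mk] using S.exists_order hw
  rw [S.secVal_local hQ hw e he, finsum_mem_eq_toFinset_sum] at h0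
  obtain ⟨φ, hφ⟩ := nonempty_of_isPBlock S.modular hind.1
  have hagree : ∀ ξ ∈ pullSet e f[Q ⊔ Subgroup.zpowers w],
      pRegularPart p (ξ : H → ℂ) = pRegularPart p (φ : H → ℂ) := fun ξ hξ => funext fun y => by
    by_cases hy : IsPRegular p y
    · rw [pRegularPart_of_reg hy, pRegularPart_of_reg hy]
      have h := S.sub_agree hRP hR1 hξ hφ (y := e y) (by rwa [IsPRegular, e.orderOf_eq])
      rwa [compIrr_apply, compIrr_apply, e.symm_apply_apply] at h
    · rw [pRegularPart_of_sing hy, pRegularPart_of_sing hy]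
  have hφ0 : blockHeight p (pullSet e f[Q ⊔ Subgroup.zpowers w]) (φ : H → ℂ) = 0 := by
    obtain ⟨d, -, hd⟩ := S.sub_degree hRP hR1
    obtain ⟨η, hη, hmin⟩ := exists_minVal (p := p) ⟨φ, hφ⟩
    rw [blockHeight_eq_zero_iff hφ, ← hmin]
    have e' := (S.degree_pullSet e hd φ hφ).trans (S.degree_pullSet e hd η hη).symm
    rw [apply_one_eq_charDegree, apply_one_eq_charDegree, Nat.cast_inj] at e'
    rw [e']
  refine secT_not_mem S.modular hu hcomm hCH hind rfl hψ (S.sub_height hQ hQ1 hψ) hφ hφ0 ?_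
  rw [secT_eq_sum S.modular hcomm hind.1 rfl ψ hφ]
  have hsum : ∀ ξ ∈ (pullSet e f[Q ⊔ Subgroup.zpowers w]).toFinset,
      classInner (secFn ⟨w, S.mem_cen hQ hw⟩ H (ψ : C[Q] → ℂ)) (ξ : H → ℂ) *
          regN p (pullSet e f[Q ⊔ Subgroup.zpowers w]) ξ φ =
        classInner (secFn ⟨w, S.mem_cen hQ hw⟩ H (ψ : C[Q] → ℂ)) (ξ : H → ℂ) *
          regN p (pullSet e f[Q ⊔ Subgroup.zpowers w]) φ φ := fun ξ hξ => by
    simp only [regN, regInner, hagree ξ (Set.mem_toFinset.1 hξ)]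
  rw [Finset.sum_congr rfl hsum, ← Finset.sum_mul, h0, zero_mul]
  exact memLocalIdeal_zero S.modular

/-- The sections over a local block have absolute value one. -/
theorem secVal_unit {Q : Subgroup G} (hQ : Q ≤ P) (hQ1 : Q ≠ ⊥) {w : G} (hw : w ∈ P)
    {ψ : IrrCharacter C[Q]} (hψ : ψ ∈ f[Q]) :
    D[Q ⊔ Subgroup.zpowers w] (extC Q ψ) w *
      conj (D[Q ⊔ Subgroup.zpowers w] (extC Q ψ) w) = 1 := by
  classical
  haveI : NeZero (Nat.card G) := ⟨Nat.card_pos.ne'⟩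
  obtain ⟨H, e, he, hind, hcomm, hCH⟩ := S.exists_local hQ hw
  obtain ⟨v, hv⟩ : ∃ v : C[Q], v = ⟨w, S.mem_cen hQ hw⟩ := ⟨_, rfl⟩
  have hvH : v ∈ H := hv ▸ hCH (Subgroup.mem_centralizer_singleton_iff.2 rfl)
  have hterm : ∀ (η : IrrCharacter C[Q]) (ρ : IrrCharacter H),
      IsIntegral ℤ (classInner (secFn v H (η : C[Q] → ℂ)) (ρ : H → ℂ)) ∧
        classInner (secFn v H (η : C[Q] → ℂ)) (ρ : H → ℂ) ∈ cycField (Nat.card G) := by
    intro η ρ
    obtain ⟨r, hr, he'⟩ := classInner_secFn hvH (hv ▸ hcomm) η ρ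
    obtain ⟨k, hk⟩ := (η.2.isCharacter.comp H.subtype).exists_nat_classInner ρ.2.isCharacter
    rw [he', show classInner (fun h : H => (η : C[Q] → ℂ) h) (ρ : H → ℂ) = k from hk]
    refine ⟨IsIntegral.mul (IsIntegral.of_pow (orderOf_pos v) (by rw [hr]; exact isIntegral_one))
      (isIntegral_algebraMap (R := ℤ) (x := (k : ℤ))), mul_mem (mem_cycField ?_) (natCast_mem _ _)⟩
    obtain ⟨m, hm⟩ : orderOf v ∣ Nat.card G := by
      rw [← Subgroup.orderOf_coe]
      exact orderOf_dvd_natCard _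
    rw [hm, pow_mul, hr, one_pow]
  have hval : ∀ η : IrrCharacter C[Q], D[Q ⊔ Subgroup.zpowers w] (extC Q η) w =
      ∑ ρ ∈ (pullSet e f[Q ⊔ Subgroup.zpowers w]).toFinset,
        classInner (secFn v H (η : C[Q] → ℂ)) (ρ : H → ℂ) := fun η => by
    rw [S.secVal_local hQ hw e he, hv, finsum_mem_eq_toFinset_sum]
  have hmem : ∀ η : IrrCharacter C[Q],
      D[Q ⊔ Subgroup.zpowers w] (extC Q η) w ∈ cycField (Nat.card G) := fun η => by
    rw [hval]; exact sum_mem fun ρ _ => (hterm η ρ).2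
  have h := norm_one_of_sum_sq f[Q].toFinset (fun η => ⟨_, hmem η⟩)
    (fun η _ => by
      show IsIntegral ℤ (D[Q ⊔ Subgroup.zpowers w] (extC Q η) w)
      rw [hval]; exact IsIntegral.sum _ fun ρ _ => (hterm η ρ).1)
    (fun η hη h0 => S.secVal_ne_zero hQ hQ1 hw (Set.mem_toFinset.1 hη) (congrArg Subtype.val h0))
    (by rw [← Nat.card_eq_card_toFinset, (S.sub_data hQ hQ1).2.1]; exact S.sum_secVal_sq hQ hQ1 hw)
  exact h ψ (Set.mem_toFinset.2 hψ)

open Classical in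
/-- A section is the combination of the sections of the constituents at a smaller pair. -/
theorem secVal_trans {Q R : Subgroup G} (hQR : Q ≤ R) {w : G} (hw : w ∈ C[Q]) {F : G → ℂ}
    (hF : IsClassFunction C[Q] fun y : C[Q] => F y) :
    D[R] F w = ∑ η : IrrCharacter C[Q],
      classInner (fun y : C[Q] => F y) (η : C[Q] → ℂ) * D[R] (extC Q η) w := by
  have hexp : (fun y : C[R] => F (w * (y : G))) = ∑ η : IrrCharacter C[Q],
      classInner (fun y : C[Q] => F y) (η : C[Q] → ℂ) •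
        fun y : C[R] => extC Q (η : C[Q] → ℂ) (w * (y : G)) := by
    funext y
    obtain ⟨z, hz⟩ : ∃ z : C[Q], (z : G) = w * (y : G) :=
      ⟨⟨_, mul_mem hw (Subgroup.centralizer_le (SetLike.coe_subset_coe.2 hQR) y.2)⟩, rfl⟩
    simp only [Finset.sum_apply, Pi.smul_apply, smul_eq_mul, ← hz, extC_coe]
    have h := congrFun (Char.eq_sum_classInner hF) z
    simpa only [Finset.sum_apply, Pi.smul_apply, smul_eq_mul] using h
  simp only [secVal, finsum_mem_eq_toFinset_sum, hexp, Char.classInner_sum_left,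
    Char.classInner_smul_left, Finset.mul_sum]
  rw [Finset.sum_comm]

/-- At the identity a section only sees the regular elements. -/
theorem secVal_one_congr {R : Subgroup G} (hR : R ≤ P) (hR1 : R ≠ ⊥) {F F' : G → ℂ}
    (h : ∀ y : C[R], IsPRegular p y → F y = F' y) : D[R] F 1 = D[R] F' 1 := by
  obtain ⟨d, hd0, hd⟩ := S.sub_degree hR hR1
  refine mul_left_cancel₀ (Nat.cast_ne_zero.2 hd0.ne' : (d : ℂ) ≠ 0) ?_
  simp only [secVal, one_mul, ← blockPart_one_of_degree _ hd]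
  exact blockPart_congr_reg S.modular (S.sub_spec hR).1 h isPRegular_one

/-- At regular elements a section is its scalar times the common restriction. -/
theorem blockPart_sub {R : Subgroup G} (hR : R ≤ P) (hR1 : R ≠ ⊥) (θ : C[R] → ℂ)
    {ρ₀ : IrrCharacter C[R]} (hρ₀ : ρ₀ ∈ f[R]) {y : C[R]} (hy : IsPRegular p y) :
    blockPart f[R] θ y =
      (∑ᶠ ρ ∈ f[R], classInner θ (ρ : C[R] → ℂ)) * (ρ₀ : C[R] → ℂ) y := by
  classical
  rw [blockPart_eq_inner_sum, finsum_mem_eq_toFinset_sum, Finset.sum_mul, ← Finset.sum_filter]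
  refine Finset.sum_congr (by ext; simp) fun ρ hρ => ?_
  rw [S.sub_agree hR hR1 (Set.mem_toFinset.1 hρ) hρ₀ hy]

theorem sub_conj {t : G} (ht : t ∈ T) {R R' : Subgroup G} (hR : R ≤ P)
    (h : R.map (MulAut.conj t).toMonoidHom = R') :
    R' ≤ P ∧ conjSet (conjMaps_centralizer h) f[R] = f[R'] := by
  obtain ⟨hf, hle⟩ := S.sub_spec hR
  have hrel := rel_conjIdx S.modular t (a := ⟨R, f[R]⟩) (b := ⟨P, c⟩) hle
  rw [(mem_stab_iff S.stab).1 ht, conjIdx_eq h] at hrel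
  exact ⟨le_of_rel hrel, (S.sub_eq (isPBlock_conjSet _ hf) hrel).symm⟩

/-- Sections are invariant under conjugation. -/
theorem secVal_conj {t : G} {R R' : Subgroup G} (h : R.map (MulAut.conj t).toMonoidHom = R')
    (hf : conjSet (conjMaps_centralizer h) f[R] = f[R']) {F F' : G → ℂ}
    (hF : ∀ g : G, F' (t * g * t⁻¹) = F g) (w : G) :
    D[R'] F' (t * w * t⁻¹) = D[R] F w := by
  obtain ⟨ι, hι⟩ : ∃ ι : C[R] ≃* C[R'], ι = conjIso (conjMaps_centralizer h) := ⟨_, rfl⟩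
  have hval : ∀ y : C[R], ((ι y : C[R']) : G) = t * (y : G) * t⁻¹ := fun y => by rw [hι]; rfl
  have hf' : f[R] = pullSet ι f[R'] := by
    rw [← hf, conjSet, hι]
    exact (pullSet_symm (conjIso (conjMaps_centralizer h)).symm f[R]).symm
  simp only [secVal]
  rw [hf', ← finsum_pullSet ι]
  refine finsum_congr fun ρ => finsum_congr fun _ => ?_
  congr 1
  funext y
  rw [hval, ← hF (w * (y : G))]
  congr 1
  group

end FreeSetup

end Cfsg.Lib.Block
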