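import Cfsg.Agent.Lib.Block.Defect
import Mathlib.GroupTheory.PGroup
import Mathlib.GroupTheory.GroupAction.ConjAct

/-!
# Support of block idempotents

Reduction of sums fixed by a `p`-group, small (nilpotent modulo `M`) central elements, the ideal
of central elements supported on classes whose defect groups lie in a given subgroup, and the
properties of defect groups that follow.
-/

set_option autoImplicit false
set_option linter.unusedSectionVars false

namespace Cfsg.Lib.Block

open Cfsg
open scoped ComplexConjugate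

universe u

variable {p : ℕ} {M : Ideal AlgInt} {G : Type u} [Group G] [Fintype G] [Fact p.Prime]
  (hM : IsPModular p M)

open Classical in
/-- Reduction of a sum fixed by a `p`-group: only the fixed points remain. -/
theorem res_sum_centralizer (S : Subgroup G) (hS : IsPGroup p S) (f : G → ℂ)
    (hint : ∀ x, f x ∈ locRing hM) (hinv : ∀ s ∈ S, ∀ x, f (s * x * s⁻¹) = f x) :
    res hM (∑ x, f x) =
      ∑ x ∈ Finset.univ.filter (fun x => x ∈ Subgroup.centralizer (S : Set G)), res hM (f x) := by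
  rw [res_sum hM _ _ fun x _ => hint x]
  set r : G → resField hM := fun x => res hM (f x) with hr
  rw [← Finset.sum_fiberwise_of_maps_to (s := (Finset.univ : Finset G))
      (t := Finset.univ.image r) (g := r) (fun x _ => Finset.mem_image_of_mem r (Finset.mem_univ x)),
    ← Finset.sum_fiberwise_of_maps_to
      (s := Finset.univ.filter fun x => x ∈ Subgroup.centralizer (S : Set G))
      (t := Finset.univ.image r) (g := r) (fun x _ => Finset.mem_image_of_mem r (Finset.mem_univ x))]
  refine Finset.sum_congr rfl fun a _ => ?_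
  rw [Finset.sum_congr rfl (g := fun _ => a) fun x hx => (Finset.mem_filter.1 hx).2,
    Finset.sum_congr rfl (g := fun _ => a) fun x hx => (Finset.mem_filter.1 hx).2,
    Finset.sum_const, Finset.sum_const, nsmul_eq_mul, nsmul_eq_mul]
  congr 1
  let act : MulAction S {x : G // r x = a} :=
    { smul := fun s x => ⟨(s : G) * x.1 * (s : G)⁻¹, by
        exact (congrArg (res hM) (hinv s s.2 x.1)).trans x.2⟩
      one_smul := fun x => Subtype.ext (by
        show ((1 : S) : G) * x.1 * ((1 : S) : G)⁻¹ = x.1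
        simp)
      mul_smul := fun s t x => Subtype.ext (by
        show ((s * t : S) : G) * x.1 * ((s * t : S) : G)⁻¹ =
          (s : G) * ((t : G) * x.1 * (t : G)⁻¹) * (s : G)⁻¹
        simp [mul_assoc]) }
  letI := act
  rw [CharP.natCast_eq_natCast (resField hM) p]
  have h := hS.card_modEq_card_fixedPoints {x : G // r x = a}
  rw [Nat.card_eq_fintype_card, Fintype.card_subtype] at h
  refine h.trans (congrArg (· % p) ?_)
  rw [Finset.filter_filter, ← Fintype.card_subtype, ← Nat.card_eq_fintype_card]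
  refine Nat.card_congr
    { toFun := fun x => ⟨x.1.1, Subgroup.mem_centralizer_iff.2 fun s hs => ?_, x.1.2⟩
      invFun := fun x => ⟨⟨x.1, x.2.2⟩, fun s => Subtype.ext ?_⟩
      left_inv := fun x => rfl
      right_inv := fun x => rfl }
  · have := congrArg Subtype.val (x.2 ⟨s, hs⟩)
    change s * x.1.1 * s⁻¹ = x.1.1 at this
    rwa [mul_inv_eq_iff_eq_mul] at this
  · show (s : G) * x.1 * (s : G)⁻¹ = x.1
    rw [mul_inv_eq_iff_eq_mul]
    exact Subgroup.mem_centralizer_iff.1 x.2.1 _ s.2

/-! ## Small central elements -/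

/-- All coefficients in the local ideal. -/
def VSmall (M : Ideal AlgInt) (v : IrrCharacter G → ℂ) : Prop := ∀ g, MemLocalIdeal M (zc v g)

omit [Fact p.Prime] in
include hM in
theorem vSmall_zero : VSmall (G := G) M 0 := fun g => by
  rw [zc_zero]; exact memLocalIdeal_zero hM

omit [Fact p.Prime] in
include hM in
theorem vSmall_add {v w : IrrCharacter G → ℂ} (hv : VSmall M v) (hw : VSmall M w) :
    VSmall M (v + w) := fun g => by rw [zc_add]; exact memLocalIdeal_add hM (hv g) (hw g)

omit [Fact p.Prime] in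
include hM in
theorem vSmall_sub {v w : IrrCharacter G → ℂ} (hv : VSmall M v) (hw : VSmall M w) :
    VSmall M (v - w) := fun g => by rw [zc_sub]; exact memLocalIdeal_sub hM (hv g) (hw g)

omit [Fact p.Prime] in
include hM in
theorem vSmall_mul {v w : IrrCharacter G → ℂ} (hv : VInt hM v) (hw : VSmall M w) :
    VSmall M (v * w) := fun g => by
  rw [zc_mul]
  exact memLocalIdeal_sum hM _ _ fun x _ => memLocalIdeal_mul_left hM (hv x) (hw _)

omit [Fact p.Prime] in
include hM in
theorem vSmall_smul {c : ℂ} (hc : MemLocalIdeal M c) {v : IrrCharacter G → ℂ} (hv : VInt hM v) :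
    VSmall M (c • v) := fun g => by
  rw [zc_smul]; exact memLocalIdeal_mul_right hM hc (hv g)

omit [Fact p.Prime] in
include hM in
/-- An element idempotent modulo `M` with all central characters zero modulo `M` is small. -/
theorem vSmall_of_idem {v : IrrCharacter G → ℂ} (hv : VInt hM v)
    (h2 : VSmall M (v * v - v)) (hω : ∀ χ, MemLocalIdeal M (v χ)) : VSmall M v := by
  classical
  have hpow : ∀ n : ℕ, VSmall M (v ^ (n + 1) - v) := fun n => by
    induction n with
    | zero => simpa using vSmall_zero (G := G) hM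
    | succ n ih =>
      have e : v ^ (n + 1 + 1) - v = v * (v ^ (n + 1) - v) + (v * v - v) := by
        rw [pow_succ' v (n + 1)]; ring
      rw [e]
      exact vSmall_add hM (vSmall_mul hM hv ih) h2
  have hprod : ∀ s : Finset (IrrCharacter G),
      VInt hM (∏ χ ∈ s, (v - v χ • 1)) ∧
        VSmall M (∏ χ ∈ s, (v - v χ • 1) - v ^ s.card) := fun s => by
    induction s using Finset.induction_on with
    | empty => simpa using ⟨vInt_one (G := G) hM, vSmall_zero (G := G) hM⟩
    | insert a s ha ih =>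
      obtain ⟨hi, hs⟩ := ih
      rw [Finset.prod_insert ha, Finset.card_insert_of_notMem ha]
      refine ⟨vInt_mul hM (vInt_sub hM hv
        (vInt_smul hM (memLocRing_of_memLocalIdeal hM (hω a)) (vInt_one hM))) hi, ?_⟩
      have e : (v - v a • 1) * ∏ χ ∈ s, (v - v χ • 1) - v ^ (s.card + 1) =
          v * (∏ χ ∈ s, (v - v χ • 1) - v ^ s.card) - v a • ∏ χ ∈ s, (v - v χ • 1) := by
        rw [pow_succ', sub_mul, smul_mul_assoc, one_mul, mul_sub]; abel
      rw [e]
      exact vSmall_sub hM (vSmall_mul hM hv hs) (vSmall_smul hM (hω a) hi)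
  have hzero : (∏ χ : IrrCharacter G, (v - v χ • 1)) = (0 : IrrCharacter G → ℂ) := by
    funext ψ
    rw [Finset.prod_apply]
    exact Finset.prod_eq_zero (Finset.mem_univ ψ) (by simp)
  have hn := (hprod Finset.univ).2
  rw [hzero, zero_sub] at hn
  have hcard : 0 < (Finset.univ : Finset (IrrCharacter G)).card :=
    Finset.card_pos.2 ⟨trivChar G, Finset.mem_univ _⟩
  obtain ⟨n, hn'⟩ : ∃ n, (Finset.univ : Finset (IrrCharacter G)).card = n + 1 :=
    ⟨_, (Nat.succ_pred_eq_of_pos hcard).symm⟩
  rw [hn'] at hn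
  have e : v = -(v ^ (n + 1) - v) - -(v ^ (n + 1)) := by abel
  rw [e]
  refine vSmall_sub hM ?_ hn
  have e2 : -(v ^ (n + 1) - v) = (0 : IrrCharacter G → ℂ) - (v ^ (n + 1) - v) := by abel
  rw [e2]
  exact vSmall_sub hM (vSmall_zero hM) (hpow n)

/-- An idempotent lying in any set of elements closed under the ring operations and scalars
that contains an element congruent to it at every character. -/
theorem indVec_mem_of_congr {A : (IrrCharacter G → ℂ) → Prop} (hone : A 1)
    (hsub : ∀ v w, A v → A w → A (v - w)) (hmul : ∀ v w, A v → A w → A (v * w))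
    (hsmul : ∀ c ∈ locRing hM, ∀ v, A v → A (c • v))
    {B : Set (IrrCharacter G)} {v : IrrCharacter G → ℂ} (hv : A v)
    (hvint : ∀ χ, v χ ∈ locRing hM) (h1 : ∀ χ ∈ B, ¬ MemLocalIdeal M (v χ))
    (h0 : ∀ χ ∉ B, MemLocalIdeal M (v χ)) : A (indVec B) := by
  classical
  have hprodA : ∀ (s : Finset (IrrCharacter G)) (f : IrrCharacter G → IrrCharacter G → ℂ),
      (∀ i ∈ s, A (f i)) → A (∏ i ∈ s, f i) := fun s f hf => Finset.prod_induction f A hmul hone hf
  set u : IrrCharacter G → ℂ :=
    ∏ χ ∈ Finset.univ.filter (· ∉ B), (v - v χ • 1) with hu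
  have huA : A u := hprodA _ _ fun χ _ => hsub _ _ hv (hsmul _ (hvint χ) _ hone)
  have huint : ∀ χ, u χ ∈ locRing hM := fun χ => by
    rw [hu, Finset.prod_apply]
    refine prod_mem fun η _ => ?_
    simpa using sub_mem (hvint χ) (hvint η)
  have hu1 : ∀ χ ∈ B, ¬ MemLocalIdeal M (u χ) := fun χ hχ h => by
    have h2 := (res_eq_zero_iff hM (huint χ)).2 h
    rw [hu, Finset.prod_apply,
      res_prod hM _ _ fun η _ => by simpa using sub_mem (hvint χ) (hvint η),
      Finset.prod_eq_zero_iff] at h2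
    obtain ⟨η, hη, hη0⟩ := h2
    rw [Finset.mem_filter] at hη
    simp only [Pi.sub_apply, Pi.smul_apply, Pi.one_apply, smul_eq_mul, mul_one] at hη0
    rw [res_sub hM (hvint χ) (hvint η), (res_eq_zero_iff hM (hvint η)).2 (h0 η hη.2), sub_zero,
      res_eq_zero_iff hM (hvint χ)] at hη0
    exact h1 χ hχ hη0
  have hu0 : ∀ χ ∉ B, u χ = 0 := fun χ hχ => by
    rw [hu, Finset.prod_apply]
    exact Finset.prod_eq_zero (Finset.mem_filter.2 ⟨Finset.mem_univ χ, hχ⟩) (by simp)
  have hkey : indVec B = 1 - ∏ χ ∈ Finset.univ.filter (· ∈ B), (1 - (u χ)⁻¹ • u) := by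
    funext ψ
    simp only [indVec, Pi.sub_apply, Pi.one_apply, Finset.prod_apply, Pi.smul_apply, smul_eq_mul]
    by_cases hψ : ψ ∈ B
    · rw [if_pos hψ, Finset.prod_eq_zero (i := ψ) (by simp [hψ]), sub_zero]
      rw [inv_mul_cancel₀ (ne_zero_of_not_ideal (hu1 ψ hψ) hM), sub_self]
    · simp [hψ, hu0 ψ hψ]
  rw [hkey]
  refine hsub _ _ hone (hprodA _ _ fun χ hχ => hsub _ _ hone ?_)
  rw [Finset.mem_filter] at hχ
  exact hsmul _ (inv_mem_locRing_of_not_ideal hM (huint χ) (hu1 χ hχ.2)) _ huA

/-! ## Defect classes and the ideal of a subgroup -/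

/-- All `p`-subgroups of the centralizer of `g` are conjugate into `D`. -/
def DClass (p : ℕ) (D : Subgroup G) (g : G) : Prop :=
  ∀ S : Subgroup G, IsPGroup p S → S ≤ Subgroup.centralizer ({g} : Set G) →
    ∃ x : G, S.map (MulAut.conj x).toMonoidHom ≤ D

/-- Central elements supported modulo `M` on classes with defect groups inside `D`. -/
def VSupp (hM : IsPModular p M) (D : Subgroup G) (v : IrrCharacter G → ℂ) : Prop :=
  VInt hM v ∧ ∀ g, ¬ DClass p D g → MemLocalIdeal M (zc v g)

theorem vSupp_add {D : Subgroup G} {v w : IrrCharacter G → ℂ} (hv : VSupp hM D v)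
    (hw : VSupp hM D w) : VSupp hM D (v + w) :=
  ⟨vInt_add hM hv.1 hw.1, fun g hg => by
    rw [zc_add]; exact memLocalIdeal_add hM (hv.2 g hg) (hw.2 g hg)⟩

theorem vSupp_sub {D : Subgroup G} {v w : IrrCharacter G → ℂ} (hv : VSupp hM D v)
    (hw : VSupp hM D w) : VSupp hM D (v - w) :=
  ⟨vInt_sub hM hv.1 hw.1, fun g hg => by
    rw [zc_sub]; exact memLocalIdeal_sub hM (hv.2 g hg) (hw.2 g hg)⟩

theorem vSupp_zero (D : Subgroup G) : VSupp hM D (0 : IrrCharacter G → ℂ) :=
  ⟨vInt_zero hM, fun g _ => by rw [zc_zero]; exact memLocalIdeal_zero hM⟩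

theorem vSupp_smul {D : Subgroup G} {c : ℂ} (hc : c ∈ locRing hM) {v : IrrCharacter G → ℂ}
    (hv : VSupp hM D v) : VSupp hM D (c • v) :=
  ⟨vInt_smul hM hc hv.1, fun g hg => by
    rw [zc_smul]; exact memLocalIdeal_mul_left hM hc (hv.2 g hg)⟩

theorem mem_centralizer_singleton_of {S : Subgroup G} {x : G}
    (hx : x ∈ Subgroup.centralizer (S : Set G)) : S ≤ Subgroup.centralizer ({x} : Set G) := by
  intro s hs
  refine Subgroup.mem_centralizer_iff.2 fun z hz => ?_
  rw [Set.mem_singleton_iff] at hz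
  subst hz
  exact (Subgroup.mem_centralizer_iff.1 hx s hs).symm

theorem mem_centralizer_of_le {S : Subgroup G} {g : G}
    (hS : S ≤ Subgroup.centralizer ({g} : Set G)) : g ∈ Subgroup.centralizer (S : Set G) :=
  Subgroup.mem_centralizer_iff.2 fun s hs =>
    (Subgroup.mem_centralizer_iff.1 (hS hs) g rfl).symm

/-- `VSupp` is an ideal. -/
theorem vSupp_mul {D : Subgroup G} {v w : IrrCharacter G → ℂ} (hv : VSupp hM D v)
    (hw : VInt hM w) : VSupp hM D (v * w) := by
  classical
  refine ⟨vInt_mul hM hv.1 hw, fun g hg => ?_⟩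
  simp only [DClass, not_forall, not_exists] at hg
  obtain ⟨S, hSp, hSC, hS⟩ := hg
  have hint : ∀ x, zc v x * zc w (x⁻¹ * g) ∈ locRing hM := fun x => mul_mem (hv.1 x) (hw _)
  rw [zc_mul, ← res_eq_zero_iff hM (sum_mem fun x _ => hint x),
    res_sum_centralizer hM S hSp (fun x => zc v x * zc w (x⁻¹ * g)) hint fun s hs x => ?_]
  · refine Finset.sum_eq_zero fun x hx => ?_
    rw [res_eq_zero_iff hM (hint x)]
    refine memLocalIdeal_mul_right hM (hv.2 x fun hD => ?_) (hw _)
    obtain ⟨y, hy⟩ := hD S hSp (mem_centralizer_singleton_of (Finset.mem_filter.1 hx).2)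
    exact hS y hy
  · have hsg : s * g = g * s := (Subgroup.mem_centralizer_iff.1 (hSC hs) g rfl).symm
    show zc v (s * x * s⁻¹) * zc w ((s * x * s⁻¹)⁻¹ * g) = zc v x * zc w (x⁻¹ * g)
    rw [zc_conj_invariant, ← zc_conj_invariant w (x⁻¹ * g) s]
    congr 2
    calc (s * x * s⁻¹)⁻¹ * g = s * x⁻¹ * (s⁻¹ * g) := by group
      _ = s * x⁻¹ * (g * s⁻¹) := by
          congr 1
          rw [eq_mul_inv_iff_mul_eq, mul_assoc, ← hsg, inv_mul_cancel_left]
      _ = s * (x⁻¹ * g) * s⁻¹ := by group

/-- The `p`-Sylow subgroup of a centralizer, seen in the group. -/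
noncomputable def cenSyl (g : G) (P : Sylow p (Subgroup.centralizer ({g} : Set G))) : Subgroup G :=
  (P : Subgroup (Subgroup.centralizer ({g} : Set G))).map
    (Subgroup.centralizer ({g} : Set G)).subtype

theorem cenSyl_le (g : G) (P : Sylow p (Subgroup.centralizer ({g} : Set G))) :
    cenSyl g P ≤ Subgroup.centralizer ({g} : Set G) := Subgroup.map_subtype_le _

theorem isPGroup_cenSyl (g : G) (P : Sylow p (Subgroup.centralizer ({g} : Set G))) :
    IsPGroup p (cenSyl g P) := P.isPGroup'.map _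

/-- A `p`-subgroup of a centralizer lies in a conjugate of a given Sylow subgroup of it. -/
theorem exists_conj_le_cenSyl {g : G} (P : Sylow p (Subgroup.centralizer ({g} : Set G)))
    {S : Subgroup G} (hS : IsPGroup p S) (hle : S ≤ Subgroup.centralizer ({g} : Set G)) :
    ∃ x ∈ Subgroup.centralizer ({g} : Set G), S.map (MulAut.conj x).toMonoidHom ≤ cenSyl g P := by
  have hS' : IsPGroup p (S.subgroupOf (Subgroup.centralizer ({g} : Set G))) := hS.comap_subtype
  obtain ⟨R, hR⟩ := hS'.exists_le_sylow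
  obtain ⟨x, hx⟩ := MulAction.exists_smul_eq (Subgroup.centralizer ({g} : Set G)) R P
  refine ⟨x, x.2, ?_⟩
  rintro _ ⟨s, hs, rfl⟩
  have h1 : (⟨s, hle hs⟩ : Subgroup.centralizer ({g} : Set G)) ∈
      (R : Subgroup (Subgroup.centralizer ({g} : Set G))) := hR hs
  refine ⟨x * ⟨s, hle hs⟩ * x⁻¹, ?_, rfl⟩
  rw [← hx, Sylow.coe_subgroup_smul]
  exact Subgroup.smul_mem_pointwise_smul _ (MulAut.conj x) _ h1

theorem dClass_cenSyl (g : G) (P : Sylow p (Subgroup.centralizer ({g} : Set G))) :
    DClass p (cenSyl g P) g := fun _ hS hle =>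
  let ⟨x, _, hx⟩ := exists_conj_le_cenSyl P hS hle; ⟨x, hx⟩

theorem map_conj_le_centralizer {S : Subgroup G} {g : G}
    (hS : S ≤ Subgroup.centralizer ({g} : Set G)) (x : G) :
    S.map (MulAut.conj x).toMonoidHom ≤ Subgroup.centralizer ({x * g * x⁻¹} : Set G) := by
  rintro _ ⟨s, hs, rfl⟩
  refine Subgroup.mem_centralizer_iff.2 fun z hz => ?_
  rw [Set.mem_singleton_iff] at hz
  subst hz
  have h : g * s = s * g := Subgroup.mem_centralizer_iff.1 (hS hs) g rfl
  simp only [MulEquiv.toMonoidHom_eq_coe, MonoidHom.coe_coe, MulAut.conj_apply]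
  calc x * g * x⁻¹ * (x * s * x⁻¹) = x * (g * s) * x⁻¹ := by group
    _ = x * (s * g) * x⁻¹ := by rw [h]
    _ = x * s * x⁻¹ * (x * g * x⁻¹) := by group

theorem map_conj_map_conj (S : Subgroup G) (x y : G) :
    (S.map (MulAut.conj x).toMonoidHom).map (MulAut.conj y).toMonoidHom =
      S.map (MulAut.conj (y * x)).toMonoidHom := by
  rw [Subgroup.map_map]
  congr 1
  ext s
  simp [mul_assoc]

theorem dClass_conj {D : Subgroup G} {g : G} (h : DClass p D g) (y : G) :
    DClass p D (y * g * y⁻¹) := by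
  intro S hS hle
  have h1 := map_conj_le_centralizer hle y⁻¹
  rw [show y⁻¹ * (y * g * y⁻¹) * y⁻¹⁻¹ = g by group] at h1
  obtain ⟨x, hx⟩ := h _ (hS.map _) h1
  exact ⟨x * y⁻¹, by rwa [← map_conj_map_conj]⟩

theorem vSupp_centralChar {D : Subgroup G} {g : G} (hg : DClass p D g) :
    VSupp hM D (fun χ : IrrCharacter G => centralChar (χ : G → ℂ) g) := by
  classical
  refine ⟨vInt_centralChar hM g, fun x hx => ?_⟩
  rw [zc_centralChar, if_neg fun hc => hx ?_]
  · exact memLocalIdeal_zero hM
  · obtain ⟨y, rfl⟩ := isConj_iff.1 hc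
    exact dClass_conj hg y

include hM in
/-- A block idempotent lies in each `VSupp` ideal containing an element nonzero on the block. -/
theorem vSupp_indVec {B : Set (IrrCharacter G)} (hB : IsPBlock M B) {D : Subgroup G}
    {v : IrrCharacter G → ℂ} (hv : VSupp hM D v) {χ : IrrCharacter G} (hχ : χ ∈ B)
    (hne : ¬ MemLocalIdeal M (v χ)) : VSupp hM D (indVec B) := by
  classical
  have hunit : ∀ η ∈ B, ¬ MemLocalIdeal M (v η) := fun η hη h => hne (by
    have := memLocalIdeal_add hM (apply_sub_apply_mem hM hv.1 (sameBlock_of_mem hM hB hχ hη)) h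
    rwa [sub_add_cancel] at this)
  have hw : ∀ η ∈ B, VSupp hM D ((v η)⁻¹ • (v * indVec B)) := fun η hη =>
    vSupp_smul hM (inv_mem_locRing_of_not_ideal hM (apply_mem_locRing hM hv.1 η) (hunit η hη))
      (vSupp_mul hM hv (vInt_indVec hM hB))
  have key : ∀ s : Finset (IrrCharacter G), (∀ η ∈ s, η ∈ B) →
      VSupp hM D (1 - ∏ η ∈ s, (1 - (v η)⁻¹ • (v * indVec B))) ∧
        VInt hM (∏ η ∈ s, (1 - (v η)⁻¹ • (v * indVec B))) := fun s => by
    induction s using Finset.induction_on with
    | empty => exact fun _ => ⟨by simpa using vSupp_zero hM D, by simpa using vInt_one hM⟩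
    | insert a s ha ih =>
      intro hs
      obtain ⟨h1, h2⟩ := ih fun η hη => hs η (Finset.mem_insert_of_mem hη)
      have hwa := hw a (hs a (Finset.mem_insert_self _ _))
      rw [Finset.prod_insert ha]
      refine ⟨?_, vInt_mul hM (vInt_sub hM (vInt_one hM) hwa.1) h2⟩
      rw [show (1 : IrrCharacter G → ℂ) - (1 - (v a)⁻¹ • (v * indVec B)) *
            ∏ η ∈ s, (1 - (v η)⁻¹ • (v * indVec B)) =
          (1 - ∏ η ∈ s, (1 - (v η)⁻¹ • (v * indVec B))) +
            (v a)⁻¹ • (v * indVec B) * ∏ η ∈ s, (1 - (v η)⁻¹ • (v * indVec B)) by ring]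
      exact vSupp_add hM h1 (vSupp_mul hM hwa h2)
  have hkey : indVec B =
      1 - ∏ η ∈ Finset.univ.filter (· ∈ B), (1 - (v η)⁻¹ • (v * indVec B)) := by
    funext ψ
    simp only [Pi.sub_apply, Pi.one_apply, Finset.prod_apply, Pi.smul_apply, smul_eq_mul,
      Pi.mul_apply, indVec]
    by_cases hψ : ψ ∈ B
    · rw [if_pos hψ, Finset.prod_eq_zero (i := ψ) (by simp [hψ]), sub_zero]
      rw [mul_one, inv_mul_cancel₀ (ne_zero_of_not_ideal (hunit ψ hψ) hM), sub_self]
    · simp [hψ]
  rw [hkey]
  exact (key _ fun η hη => (Finset.mem_filter.1 hη).2).1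

theorem isDefectGroup_iff {B : Set (IrrCharacter G)} {D : Subgroup G} :
    IsDefectGroup p M B D ↔ ∃ g : G, IsDefectClass M B g ∧
      ∃ P : Sylow p (Subgroup.centralizer ({g} : Set G)), D = cenSyl g P := Iff.rfl

include hM in
/-- Idempotent coefficients live on classes with defect groups inside the block's. -/
theorem vSupp_defectGroup {B : Set (IrrCharacter G)} (hB : IsPBlock M B) {D : Subgroup G}
    (hD : IsDefectGroup p M B D) : VSupp hM D (indVec B) := by
  obtain ⟨g, hg, P, rfl⟩ := isDefectGroup_iff.1 hD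
  obtain ⟨χ, hχ⟩ := nonempty_of_isPBlock hM hB
  exact vSupp_indVec hM hB (vSupp_centralChar hM (dClass_cenSyl g P)) hχ (hg.2.2 χ hχ)

include hM in
theorem exists_defectGroup {B : Set (IrrCharacter G)} (hB : IsPBlock M B) :
    ∃ D : Subgroup G, IsDefectGroup p M B D := by
  obtain ⟨g, hg⟩ := exists_isDefectClass hM hB
  exact ⟨_, isDefectGroup_iff.2 ⟨g, hg, default, rfl⟩⟩

include hM in
theorem isPGroup_defectGroup {B : Set (IrrCharacter G)} {D : Subgroup G}
    (hD : IsDefectGroup p M B D) : IsPGroup p D := by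
  obtain ⟨g, -, P, rfl⟩ := isDefectGroup_iff.1 hD
  exact isPGroup_cenSyl g P

include hM in
/-- Unit coefficient: the centralizer's `p`-subgroups go into the defect group. -/
theorem dClass_of_coeff {B : Set (IrrCharacter G)} (hB : IsPBlock M B) {D : Subgroup G}
    (hD : IsDefectGroup p M B D) {h : G} (he : ¬ MemLocalIdeal M (blockCoeff B h)) :
    DClass p D h := by
  by_contra hn
  exact he (zc_indVec B h ▸ (vSupp_defectGroup hM hB hD).2 h hn)

include hM in
/-- A nonzero central character value: the defect group goes into the centralizer. -/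
theorem exists_conj_le_of_centralChar {B : Set (IrrCharacter G)} (hB : IsPBlock M B)
    {D : Subgroup G} (hD : IsDefectGroup p M B D) {χ : IrrCharacter G} (hχ : χ ∈ B) {h : G}
    (hne : ¬ MemLocalIdeal M (centralChar (χ : G → ℂ) h))
    (Q : Sylow p (Subgroup.centralizer ({h} : Set G))) :
    ∃ x : G, D.map (MulAut.conj x).toMonoidHom ≤ cenSyl h Q := by
  obtain ⟨g, hg, P, rfl⟩ := isDefectGroup_iff.1 hD
  have hsupp := vSupp_indVec hM hB (vSupp_centralChar hM (dClass_cenSyl h Q)) hχ hne
  have hD' : DClass p (cenSyl h Q) g := by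
    by_contra hn
    exact hg.2.1 (zc_indVec B g ▸ hsupp.2 g hn)
  exact hD' _ (isPGroup_cenSyl g P) (cenSyl_le g P)

include hM in
theorem card_defectGroup {B : Set (IrrCharacter G)} (hB : IsPBlock M B) {D : Subgroup G}
    (hD : IsDefectGroup p M B D) : Nat.card D = p ^ blockDefect p B := by
  obtain ⟨g, hg, P, rfl⟩ := isDefectGroup_iff.1 hD
  rw [cenSyl, Subgroup.card_map_of_injective (Subgroup.subtype_injective _), P.card_eq_multiplicity]
  exact congrArg (p ^ ·) (factorization_cenCard_defectClass hM hB hg)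

include hM in
/-- Conjugates of defect groups are defect groups. -/
theorem isDefectGroup_conj {B : Set (IrrCharacter G)} (hB : IsPBlock M B) {D : Subgroup G}
    (hD : IsDefectGroup p M B D) (x : G) :
    IsDefectGroup p M B (D.map (MulAut.conj x).toMonoidHom) := by
  obtain ⟨g, hg, P, rfl⟩ := isDefectGroup_iff.1 hD
  set g' := x * g * x⁻¹ with hg'
  have hcls : IsDefectClass M B g' := by
    have e : blockCoeff B g' = blockCoeff B g := blockCoeff_conj_invariant B g x
    exact ⟨e ▸ hg.1, e ▸ hg.2.1, fun χ hχ => by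
      rw [hg', centralChar_conj_invariant χ g x]; exact hg.2.2 χ hχ⟩
  set S := (cenSyl g P).map (MulAut.conj x).toMonoidHom with hS
  have hSle : S ≤ Subgroup.centralizer ({g'} : Set G) := map_conj_le_centralizer (cenSyl_le g P) x
  have hSp : IsPGroup p S := (isPGroup_cenSyl g P).map _
  have hcard : Nat.card S = p ^ blockDefect p B := by
    rw [hS, Subgroup.card_map_of_injective (MulAut.conj x).injective,
      card_defectGroup hM hB hD]
  refine isDefectGroup_iff.2 ⟨g', hcls,
    Sylow.ofCard (S.subgroupOf (Subgroup.centralizer ({g'} : Set G))) ?_, ?_⟩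
  · rw [Nat.card_congr (Subgroup.subgroupOfEquivOfLe hSle).toEquiv, hcard]
    exact congrArg (p ^ ·) (factorization_cenCard_defectClass hM hB hcls).symm
  · rw [cenSyl, Sylow.coe_ofCard, Subgroup.map_subgroupOf_eq_of_le hSle]

include hM in
/-- The defect groups of a block are conjugate. -/
theorem exists_conj_defectGroup {B : Set (IrrCharacter G)} (hB : IsPBlock M B)
    {D D' : Subgroup G} (hD : IsDefectGroup p M B D) (hD' : IsDefectGroup p M B D') :
    ∃ x : G, D.map (MulAut.conj x).toMonoidHom = D' := by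
  obtain ⟨g, hg, P, rfl⟩ := isDefectGroup_iff.1 hD
  obtain ⟨x, hx⟩ := dClass_of_coeff hM hB hD' hg.2.1 _ (isPGroup_cenSyl g P) (cenSyl_le g P)
  refine ⟨x, Subgroup.eq_of_le_of_card_ge hx (le_of_eq ?_)⟩
  rw [Subgroup.card_map_of_injective (MulAut.conj x).injective, card_defectGroup hM hB hD',
    card_defectGroup hM hB hD]

end Cfsg.Lib.Block
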