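import Cfsg.Agent.Lib.Block.DefectPairs
import Cfsg.Prelude.Def_BlockFusion

/-!
# Conjugates of local blocks and fully normalized subgroups
-/

set_option autoImplicit false
set_option linter.unusedSectionVars false
set_option maxHeartbeats 400000

namespace Cfsg.Lib.Block

open Cfsg

universe u

variable {p : ℕ} {M : Ideal AlgInt} {G : Type u} [Group G] [Fintype G] [Fact p.Prime]

noncomputable local instance (priority := high) fintypeSubgroupFullyNormal (H : Subgroup G) :
    Fintype H := Fintype.ofFinite H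

local notation "C[" Q "]" => Subgroup.centralizer (SetLike.coe Q)

theorem conjMaps_map (x : G) (T : Subgroup G) :
    ConjMaps x T (T.map (MulAut.conj x).toMonoidHom) := fun g => by
  constructor
  · intro hg; exact ⟨g, hg, rfl⟩
  · rintro ⟨k, hk, he⟩
    rwa [(MulAut.conj x).injective (show MulAut.conj x k = MulAut.conj x g from he)] at hk

variable (hM : IsPModular p M)

include hM in
/-- Conjugation carries a local block to a local block. -/
theorem isLocalBlock_conj {Q T : Subgroup G} {f : Set (IrrCharacter C[Q])}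
    {F : Set (IrrCharacter T)} (hT : IsLocalBlock p M Q T f F) (x : G) {T' : Subgroup G}
    (hT' : ConjMaps x T T') :
    IsLocalBlock p M (Q.map (MulAut.conj x).toMonoidHom) T' (conjBlock Q x f) (conjSet hT' F) := by
  have hmapQ := conjMaps_centralizer
    (rfl : Q.map (MulAut.conj x).toMonoidHom = Q.map (MulAut.conj x).toMonoidHom)
  have hcoef : ∀ g, subgroupBlockCoeff T' (conjSet hT' F) g =
      subgroupBlockCoeff C[Q.map (MulAut.conj x).toMonoidHom] (conjBlock Q x f) g := by
    intro g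
    obtain ⟨k, rfl⟩ : ∃ k, x * k * x⁻¹ = g := ⟨x⁻¹ * g * x, by group⟩
    rw [subgroupBlockCoeff_conjSet, conjBlock_eq, subgroupBlockCoeff_conjSet, hT.coeff]
  refine ⟨isPBlock_conjSet _ hT.block, ?_, ?_, hcoef, ?_⟩
  · intro y hy
    obtain ⟨k, rfl⟩ : ∃ k, x * k * x⁻¹ = y := ⟨x⁻¹ * y * x, by group⟩
    have hk := hT.le ((hT' k).2 hy)
    refine Subgroup.mem_normalizer_iff.2 fun a => ?_
    simp only [MulEquiv.coe_toMonoidHom, MulAut.conj_apply, Subgroup.mem_map]
    constructor
    · rintro ⟨q, hq, rfl⟩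
      exact ⟨k * q * k⁻¹, (Subgroup.mem_normalizer_iff.1 hk q).1 hq, by group⟩
    · rintro ⟨q, hq, he⟩
      refine ⟨k⁻¹ * q * k, ?_, ?_⟩
      · rw [Subgroup.mem_normalizer_iff.1 hk]
        rwa [show k * (k⁻¹ * q * k) * k⁻¹ = q by group]
      · calc x * (k⁻¹ * q * k) * x⁻¹ =
            (x * k * x⁻¹)⁻¹ * (x * q * x⁻¹) * (x * k * x⁻¹) := by group
          _ = a := by rw [he]; group
  · intro y hy
    obtain ⟨k, rfl⟩ : ∃ k, x * k * x⁻¹ = y := ⟨x⁻¹ * y * x, by group⟩
    exact (hT' k).1 (hT.cen ((hmapQ k).2 hy))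
  · intro y hy g
    obtain ⟨k, rfl⟩ : ∃ k, x * k * x⁻¹ = y := ⟨x⁻¹ * y * x, by group⟩
    obtain ⟨j, rfl⟩ : ∃ j, x * j * x⁻¹ = g := ⟨x⁻¹ * g * x, by group⟩
    rw [show x * k * x⁻¹ * (x * j * x⁻¹) * (x * k * x⁻¹)⁻¹ = x * (k * j * k⁻¹) * x⁻¹ by group,
      conjBlock_eq, extF_conjSet, extF_conjSet]
    exact hT.stab k ((hT' k).2 hy) j

include hM in
/-- The block stabilizer absorbs the normalizer inside a pair above. -/
theorem inf_normalizer_le_stab {P Q : Subgroup G} {e : Set (IrrCharacter C[P])}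
    {f : Set (IrrCharacter C[Q])} (hPe : IsBrauerPair p M P e) (hle : SubpairLE p M Q f P e)
    {y : G} (hy : y ∈ P ⊓ Subgroup.normalizer (Q : Set G)) : StabilizesBlock C[Q] f y := by
  obtain ⟨g, -, hng⟩ := normalSubpair_below hM hPe hle (S := Q ⊔ (P ⊓ Subgroup.normalizer (Q : Set G)))
    le_sup_left (sup_le (subpairLE_le hle) inf_le_left) (sup_le Subgroup.le_normalizer inf_le_right)
  exact hng.2.2.2.2.1 y ((le_sup_right :
    P ⊓ Subgroup.normalizer (Q : Set G) ≤ Q ⊔ (P ⊓ Subgroup.normalizer (Q : Set G))) hy)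

include hM in
/-- The bound on the intersection of `P` with a conjugate local group. -/
theorem card_inf_le_defect {P Q T : Subgroup G} {e : Set (IrrCharacter C[P])}
    {f : Set (IrrCharacter C[Q])} {F : Set (IrrCharacter T)} (hT : IsLocalBlock p M Q T f F)
    (hPe : IsBrauerPair p M P e) {g : G}
    (hg : SubpairLE p M (Q.map (MulAut.conj g).toMonoidHom) (conjBlock Q g f) P e) :
    Nat.card ↥(P ⊓ T.map (MulAut.conj g).toMonoidHom) ≤ p ^ blockDefect p F := by
  have hloc := isLocalBlock_conj hM hT g (conjMaps_map g T)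
  obtain ⟨D, hD, hle⟩ := le_defectGroup_of_subpair hM hloc hPe hg
  have h1 := Subgroup.card_le_of_le hle
  rw [Nat.card_congr (Subgroup.subgroupOfEquivOfLe (inf_le_right :
      P ⊓ T.map (MulAut.conj g).toMonoidHom ≤ T.map (MulAut.conj g).toMonoidHom)).toEquiv,
    card_defectGroup hM hloc.block hD] at h1
  exact h1.trans_eq (congrArg (p ^ ·) (blockDefect_pullSet p _ F))

include hM in
/-- Some conjugate local group meets `P` in a defect group. -/
theorem exists_card_inf_eq_defect {B : Set (IrrCharacter G)} {P Q T : Subgroup G}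
    {e : Set (IrrCharacter C[P])} {f : Set (IrrCharacter C[Q])} {F : Set (IrrCharacter T)}
    (hT : IsLocalBlock p M Q T f F) (hmax : IsMaximalBrauerPair p M B P e)
    (hle : SubpairLE p M Q f P e) :
    ∃ x : G, SubpairLE p M (Q.map (MulAut.conj x).toMonoidHom) (conjBlock Q x f) P e ∧
      Nat.card ↥(P ⊓ T.map (MulAut.conj x).toMonoidHom) = p ^ blockDefect p F := by
  obtain ⟨x, hx, hrest⟩ := exists_conj_local_defect hM hT hmax hle
  obtain ⟨hblk, -, hdef⟩ := hrest _ (conjMaps_map x T)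
  refine ⟨x, hx, ?_⟩
  have h1 := card_defectGroup hM hblk hdef
  rw [Nat.card_congr (Subgroup.subgroupOfEquivOfLe (inf_le_right :
      P ⊓ T.map (MulAut.conj x).toMonoidHom ≤ T.map (MulAut.conj x).toMonoidHom)).toEquiv] at h1
  exact h1.trans (congrArg (p ^ ·) (blockDefect_pullSet p _ F))

include hM in
/-- The intersection with `P` is a defect group as soon as it is large enough. -/
theorem isDefectGroup_inf_iff {P Q T : Subgroup G} {e : Set (IrrCharacter C[P])}
    {f : Set (IrrCharacter C[Q])} {F : Set (IrrCharacter T)} (hT : IsLocalBlock p M Q T f F)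
    (hPe : IsBrauerPair p M P e) (hle : SubpairLE p M Q f P e) :
    IsDefectGroup p M F ((P ⊓ T).subgroupOf T) ↔ p ^ blockDefect p F ≤ Nat.card ↥(P ⊓ T) := by
  constructor
  · intro h
    rw [← card_defectGroup hM hT.block h,
      Nat.card_congr (Subgroup.subgroupOfEquivOfLe (inf_le_right : P ⊓ T ≤ T)).toEquiv]
  · intro h
    obtain ⟨D, hD, hDle⟩ := le_defectGroup_of_subpair hM hT hPe hle
    rwa [Subgroup.eq_of_le_of_card_ge hDle (by
      rw [card_defectGroup hM hT.block hD,
        Nat.card_congr (Subgroup.subgroupOfEquivOfLe (inf_le_right : P ⊓ T ≤ T)).toEquiv]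
      exact h)]

/-- The centralizer of a conjugate. -/
theorem map_centralizer_conj (x : G) (Q : Subgroup G) :
    (Subgroup.centralizer (Q : Set G)).map (MulAut.conj x).toMonoidHom =
      Subgroup.centralizer ((Q.map (MulAut.conj x).toMonoidHom : Subgroup G) : Set G) := by
  ext g
  obtain ⟨k, rfl⟩ : ∃ k, x * k * x⁻¹ = g := ⟨x⁻¹ * g * x, by group⟩
  exact ((conjMaps_map x (Subgroup.centralizer (Q : Set G))) k).symm.trans
    ((conjMaps_centralizer rfl) k)

include hM in
/-- Conjugacy of subgroups in the fusion system of a block. -/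
theorem blockFusion_isConj_iff {B : Set (IrrCharacter G)} {P Q : Subgroup G}
    {e : Set (IrrCharacter C[P])} {F : FusionSystem P}
    (hF : IsBlockFusionSystemOn p M B P e F) {f : Set (IrrCharacter C[Q])}
    (hle : SubpairLE p M Q f P e) (R : Subgroup G) :
    F.IsConj Q R ↔ ∃ g : G, Q.map (MulAut.conj g).toMonoidHom = R ∧
      SubpairLE p M (Q.map (MulAut.conj g).toMonoidHom) (conjBlock Q g f) P e := by
  constructor
  · rintro ⟨φ, hφ, rfl⟩
    obtain ⟨-, g, hg, -, f', hf', hgf⟩ := (hF.2 Q φ).1 hφ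
    rw [subpair_unique hM hF.1.1.1 hf' hle] at hgf
    refine ⟨g, ?_, hgf⟩
    ext r
    constructor
    · rintro ⟨q, hq, rfl⟩; exact ⟨⟨q, hq⟩, hg ⟨q, hq⟩⟩
    · rintro ⟨q, rfl⟩; exact ⟨q, q.2, (hg q).symm⟩
  · rintro ⟨g, rfl, hgf⟩
    refine ⟨conjHom Q g, (hF.2 Q _).2 ⟨subpairLE_le hle, g, fun u => rfl, subpairLE_le hgf,
      f, hle, hgf⟩, ?_⟩
    rw [conjHom, MonoidHom.range_comp, Subgroup.range_subtype]

end Cfsg.Lib.Block
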