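import Cfsg.Prelude.Def_Transfer
import Cfsg.Agent.Lib.Char.CanonExt
import Cfsg.Agent.Lib.Char.Ramification
import Cfsg.Agent.Lib.Block.CoverBasics
import Cfsg.Agent.Lib.Block.PrincipalCover
import Cfsg.Agent.Lib.Block.PPart
import Cfsg.Agent.Lib.Fusion.Basic

/-!
# Galois fixed characters over a cyclic `p`-quotient

The members of the principal block of degree prime to `p` fixed by the automorphism raising
`p`-power roots of unity to the power `1 + p`, above the `p`-residual with cyclic quotient.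
-/

set_option autoImplicit false
set_option linter.unusedSectionVars false
set_option linter.style.haveILetI false

namespace Cfsg.Lib.Block.GaloisCount

open Cfsg Module
open scoped ComplexConjugate

universe u

noncomputable local instance (priority := high) fintypeSubgroupGaloisCount {A : Type u}
    [Group A] [Fintype A] (H : Subgroup A) : Fintype H := Fintype.ofFinite H

/-- Homomorphisms killed by `d` from a cyclic group. -/
theorem card_hom_pow {A : Type u} [CommGroup A] [Finite A] [IsCyclic A] (d : ℕ) :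
    Nat.card {f : A →* ℂˣ // f ^ d = 1} = Nat.gcd (Nat.card A) d := by
  haveI : NeZero (Monoid.exponent A) := ⟨Monoid.exponent_ne_zero_of_finite⟩
  obtain ⟨e⟩ := CommGroup.monoidHom_mulEquiv_of_hasEnoughRootsOfUnity A ℂ
  haveI : Finite (A →* ℂˣ) := Finite.of_equiv _ e.toEquiv.symm
  rw [← IsCyclic.card_powMonoidHom_ker (G := A) d]
  refine Nat.card_congr (e.toEquiv.subtypeEquiv fun f => ?_)
  rw [MonoidHom.mem_ker, powMonoidHom_apply]
  show f ^ d = 1 ↔ (e f) ^ d = 1
  rw [← map_pow, map_eq_one_iff e e.injective]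

variable {p : ℕ} [hp : Fact p.Prime] {G : Type u} [Group G] [Fintype G]
  (N : Subgroup G) [hN : N.Normal] (hgen : N = Subgroup.closure {g : G | Nat.Coprime (orderOf g) p})

include hgen

theorem mem_of_coprime {g : G} (hg : ¬ p ∣ orderOf g) : g ∈ N := by
  rw [hgen]
  exact Subgroup.subset_closure (hp.out.coprime_iff_not_dvd.2 hg).symm

theorem exists_index : ∃ a, N.index = p ^ a := by
  have h : IsPGroup p (G ⧸ N) := by
    intro q
    obtain ⟨g, rfl⟩ := QuotientGroup.mk_surjective q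
    obtain ⟨j, hj⟩ := exists_orderOf_pPt (p := p) g
    refine ⟨j, ?_⟩
    rw [← QuotientGroup.mk_pow, QuotientGroup.eq_one_iff, ← pPt_mul_pReg (p := p) g,
      (pPt_commute_pReg g).mul_pow, ← hj, pow_orderOf_eq_one, one_mul]
    exact pow_mem (mem_of_coprime N hgen (not_dvd_orderOf_pReg g)) _
  obtain ⟨a, ha⟩ := h.exists_card_eq
  exact ⟨a, by rw [Subgroup.index_eq_card, ha]⟩

theorem sup_sylow (P : Sylow p G) : N ⊔ (P : Subgroup G) = ⊤ := by
  rw [← Subgroup.index_eq_one]
  obtain ⟨a, ha⟩ := exists_index N hgen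
  have h1 : (N ⊔ (P : Subgroup G)).index ∣ N.index := Subgroup.index_dvd_of_le le_sup_left
  rw [ha] at h1
  exact Nat.eq_one_of_dvd_coprimes
    (Nat.Coprime.pow_right a (hp.out.coprime_iff_not_dvd.2 P.not_dvd_index).symm)
    (Subgroup.index_dvd_of_le le_sup_right) h1

/-- Linear characters of the residual have order prime to `p`. -/
theorem not_dvd_orderOf_hom (f : N →* ℂˣ) : ¬ p ∣ orderOf f := by
  set m := ordCompl[p] (Nat.card G) with hm
  let φ : N →* ℂˣ := f ^ m
  have hkey : ∀ x : N, f x ^ m = 1 := by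
    have hle : N ≤ φ.ker.map N.subtype := by
      conv_lhs => rw [hgen]
      rw [Subgroup.closure_le]
      intro g hg
      have hg' : ¬ p ∣ orderOf g := hp.out.coprime_iff_not_dvd.1 (Nat.Coprime.symm hg)
      have hdvd : orderOf g ∣ m := by
        refine (Nat.Coprime.dvd_mul_left ?_).1
          (show orderOf g ∣ ordProj[p] (Nat.card G) * m by
            rw [hm, Nat.ordProj_mul_ordCompl_eq_self]; exact orderOf_dvd_natCard g)
        exact (Nat.Coprime.pow_left _ (hp.out.coprime_iff_not_dvd.2 hg')).symm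
      have h1 : (⟨g, mem_of_coprime N hgen hg'⟩ : N) ^ m = 1 :=
        Subtype.ext (orderOf_dvd_iff_pow_eq_one.1 hdvd)
      refine ⟨⟨g, mem_of_coprime N hgen hg'⟩, MonoidHom.mem_ker.2 ?_, rfl⟩
      show (f ^ m) _ = 1
      rw [MonoidHom.pow_apply, ← map_pow, h1, map_one]
    intro x
    obtain ⟨y, hy, hyx⟩ := hle x.2
    have : y = x := Subtype.ext hyx
    rw [← this, ← MonoidHom.pow_apply]
    exact MonoidHom.mem_ker.1 hy
  intro h
  have h2 : orderOf f ∣ m := orderOf_dvd_of_pow_eq_one (MonoidHom.ext fun x => hkey x)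
  exact Nat.not_dvd_ordCompl hp.out Nat.card_pos.ne' (h.trans h2)

variable {k : ℕ} (hk₁ : ∀ g : G, (∃ j : ℕ, orderOf g = p ^ j) → g ^ k = g ^ (1 + p))
  (hk₂ : ∀ g : G, Nat.Coprime (orderOf g) p → g ^ k = g)

include hk₁ hk₂

omit hgen in
theorem coprime_k : k.Coprime (Nat.card G) := by
  refine Nat.coprime_of_dvd fun r hr hrk hrG => ?_
  haveI := Fact.mk hr
  obtain ⟨g, hg⟩ := exists_prime_orderOf_dvd_card' r hrG
  have h1 : g ^ k = 1 := orderOf_dvd_iff_pow_eq_one.1 (hg.symm ▸ hrk)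
  by_cases hrp : r = p
  · subst hrp
    rw [hk₁ g ⟨1, by rw [pow_one]; exact hg⟩] at h1
    have h2 := orderOf_dvd_of_pow_eq_one h1
    rw [hg] at h2
    exact hr.not_dvd_one ((Nat.dvd_add_left dvd_rfl).1 h2)
  · rw [hk₂ g (by rw [hg]; exact (Nat.coprime_primes hr hp.out).2 hrp)] at h1
    rw [h1, orderOf_one] at hg
    exact hr.ne_one hg.symm

theorem hom_pow_k {f : G →* ℂˣ} (hf : ∀ n ∈ N, f n = 1) (g : G) :
    f (g ^ k) = f g ^ (1 + p) := by
  obtain ⟨j, hj⟩ := exists_orderOf_pPt (p := p) g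
  have hv : f (pReg p g) = 1 := hf _ (mem_of_coprime N hgen (not_dvd_orderOf_pReg g))
  conv_lhs => rw [← pPt_mul_pReg (p := p) g, (pPt_commute_pReg g).mul_pow, map_mul, map_pow f (pReg p g),
    hv, one_pow, mul_one, hk₁ _ ⟨j, hj⟩, map_pow]
  conv_rhs => rw [← pPt_mul_pReg (p := p) g, map_mul, hv, mul_one]

/-- The canonical extension and its properties. -/
theorem exists_base (hcyc : IsCyclic (G ⧸ N)) {θ : IrrCharacter N}
    (hdeg : ¬ p ∣ charDegree (θ : N → ℂ))
    (hinv : ∀ (g : G) (n : N), (θ : N → ℂ) (MulAut.conjNormal g n) = (θ : N → ℂ) n) :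
    ∃ χc : IrrCharacter G, (∀ n : N, (χc : G → ℂ) n = (θ : N → ℂ) n) ∧
      (∀ χ : IrrCharacter G, (∀ n : N, (χ : G → ℂ) n = (θ : N → ℂ) n) →
        ∃ f : G →* ℂˣ, (∀ n ∈ N, f n = 1) ∧ ∀ g, (χ : G → ℂ) g = (f g : ℂ) * (χc : G → ℂ) g) ∧
      ((∀ n : N, (θ : N → ℂ) (n ^ k) = (θ : N → ℂ) n) →
        ∀ g, (χc : G → ℂ) (g ^ k) = (χc : G → ℂ) g) := by
  obtain ⟨a, ha⟩ := exists_index N hgen
  have hθ := θ.2
  obtain ⟨m, σ, hσ, hσθ⟩ := hθ
  haveI := hσ
  have hinvσ : ∀ (g : G) (n : N), σ.character (MulAut.conjNormal g n) = σ.character n := by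
    intro g n
    rw [hσθ]
    exact hinv g n
  have hm : m = charDegree (θ : N → ℂ) := by
    have h1 := apply_one_eq_charDegree θ
    rw [← hσθ, Representation.char_one, Module.finrank_fintype_fun_eq_card, Fintype.card_fin] at h1
    rw [← hσθ]
    exact_mod_cast h1
  have hd : Nat.Coprime N.index (finrank ℂ (Fin m → ℂ)) := by
    rw [Module.finrank_fintype_fun_eq_card, Fintype.card_fin, ha, hm]
    exact Nat.Coprime.pow_left _ (hp.out.coprime_iff_not_dvd.2 hdeg)
  have hfo := not_dvd_orderOf_hom N hgen (Char.detHom σ)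
  obtain ⟨μ, hμ, hμo⟩ := Char.exists_linear_extension_coprime (Char.detHom σ) (fun g n => Units.ext (by
    haveI : Representation.IsIrreducible
        (σ.comp (MulAut.conjNormal g : MulAut N).toMonoidHom : Representation ℂ N (Fin m → ℂ)) := by
      rw [Char.isIrreducible_iff_isIrrCharacter]
      exact Char.isIrrCharacter_comp_equiv (MulAut.conjNormal g) (Char.isIrrCharacter_character σ)
    obtain ⟨φ⟩ := Char.nonempty_equiv_of_character_eq
      (σ.comp (MulAut.conjNormal g : MulAut N).toMonoidHom : Representation ℂ N (Fin m → ℂ)) σ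
      (funext fun n => hinvσ g n)
    simp only [Char.detHom_apply]
    exact (Char.det_eq_of_equiv φ n).symm))
    (by rw [ha]; exact Nat.Coprime.pow_left _ (hp.out.coprime_iff_not_dvd.2 hfo))
  obtain ⟨ρ₀, hρ₀⟩ := Char.exists_extension_of_cyclic σ hinvσ hcyc
  obtain ⟨ρ, hρ, hdet⟩ := Char.exists_extension_det_eq hρ₀ hd μ hμ
  haveI : ρ.IsIrreducible := Char.isIrreducible_of_extension hρ
  refine ⟨⟨ρ.character, Char.isIrrCharacter_character ρ⟩, fun n => ?_, fun χ hχ => ?_,
    fun hfix g => ?_⟩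
  · rw [← hσθ]
    exact congrArg (fun f => LinearMap.trace ℂ _ f) (hρ n)
  · obtain ⟨ρ', hρ', hc⟩ := Char.exists_rep_of_res_eq N.subtype σ χ.2.isCharacter
      (fun n => by rw [hσθ]; exact hχ n)
    obtain ⟨f, hf, hfρ⟩ := Char.exists_hom_of_two_extensions hρ hρ'
    refine ⟨f, hf, fun g => ?_⟩
    rw [← hc]
    show LinearMap.trace ℂ _ (ρ' g) = _
    rw [hfρ, map_smul, smul_eq_mul]
    rfl
  · have hk := coprime_k (p := p) hk₁ hk₂
    have hψ := Char.isIrrCharacter_comp_pow hk (Char.isIrrCharacter_character ρ)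
    obtain ⟨ρ', hρ', hc⟩ := Char.exists_rep_of_res_eq N.subtype σ hψ.isCharacter (fun n => by
      show ρ.character ((n : G) ^ k) = _
      rw [← Subgroup.coe_pow, hσθ, ← hfix n, ← hσθ]
      exact congrArg (fun f => LinearMap.trace ℂ _ f) (hρ (n ^ k)))
    have hμk : ∀ y, μ (y ^ k) = μ y := by
      intro y
      obtain ⟨j, hj⟩ := exists_orderOf_pPt (p := p) y
      have hu : μ (pPt p y) = 1 := by
        have h1 : μ (pPt p y) ^ p ^ j = 1 := by rw [← map_pow, ← hj, pow_orderOf_eq_one, map_one]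
        have h2 : μ (pPt p y) ^ orderOf μ = 1 := by
          rw [← MonoidHom.pow_apply, pow_orderOf_eq_one, MonoidHom.one_apply]
        have h3 := pow_gcd_eq_one.2 ⟨h1, h2⟩
        rwa [(Nat.Coprime.pow_left _ (hp.out.coprime_iff_not_dvd.2
          (hμo ▸ hfo))).gcd_eq_one, pow_one] at h3
      conv_lhs => rw [← pPt_mul_pReg (p := p) y, (pPt_commute_pReg y).mul_pow, map_mul, map_pow, hu,
        one_pow, one_mul, hk₂ _ (hp.out.coprime_iff_not_dvd.2 (not_dvd_orderOf_pReg y)).symm]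
      conv_rhs => rw [← pPt_mul_pReg (p := p) y, map_mul, hu, one_mul]
    have hd' : Char.detHom ρ' = Char.detHom ρ := MonoidHom.ext fun y => Units.ext (by
      let j : Subgroup.zpowers y →* G :=
        { toFun := fun z => (z : G) ^ k
          map_one' := by simp
          map_mul' := fun a b => by
            rw [Subgroup.coe_mul]
            exact (show Commute (a : G) b by
              obtain ⟨i, hi⟩ := a.2
              obtain ⟨l, hl⟩ := b.2
              simp only [← hi, ← hl]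
              exact (Commute.refl y).zpow_zpow i l).mul_pow k }
      obtain ⟨φ⟩ := Char.nonempty_equiv_of_character_eq
        (ρ'.comp (Subgroup.zpowers y).subtype : Representation ℂ _ (Fin m → ℂ))
        (ρ.comp j : Representation ℂ _ (Fin m → ℂ)) (funext fun z => congrFun hc (z : G))
      have h2 : LinearMap.det (ρ (y ^ k)) = LinearMap.det (ρ' y) :=
        Char.det_eq_of_equiv φ ⟨y, Subgroup.mem_zpowers y⟩
      rw [Char.detHom_apply, ← h2, ← Char.detHom_apply, hdet, hμk])
    rw [Char.eq_of_extension_det hρ hρ' hd hd'] at hc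
    exact (congrFun hc g).symm

/-- The count. -/
theorem card_fixed (M : Ideal AlgInt) (hM : IsPModular p M) (P : Sylow p G)
    (hcyc : IsCyclic (G ⧸ N)) (hnt : N ≠ ⊤) :
    Nat.card {χ : IrrCharacter G // χ ∈ principalBlock M G ∧
        ¬ p ∣ charDegree (χ : G → ℂ) ∧ ∀ g : G, (χ : G → ℂ) (g ^ k) = (χ : G → ℂ) g} =
      p * Nat.card {θ : IrrCharacter N // θ ∈ principalBlock M N ∧
        ¬ p ∣ charDegree (θ : N → ℂ) ∧
        (∀ x ∈ (P : Subgroup G), ∀ n : N,
          (θ : N → ℂ) ⟨x * n * x⁻¹, hN.conj_mem n n.2 x⟩ = (θ : N → ℂ) n) ∧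
        ∀ n : N, (θ : N → ℂ) (n ^ k) = (θ : N → ℂ) n} := by
  classical
  obtain ⟨a, ha⟩ := exists_index N hgen
  set Θ := {θ : IrrCharacter N // θ ∈ principalBlock M N ∧
        ¬ p ∣ charDegree (θ : N → ℂ) ∧
        (∀ x ∈ (P : Subgroup G), ∀ n : N,
          (θ : N → ℂ) ⟨x * n * x⁻¹, hN.conj_mem n n.2 x⟩ = (θ : N → ℂ) n) ∧
        ∀ n : N, (θ : N → ℂ) (n ^ k) = (θ : N → ℂ) n} with hΘ
  set X := {χ : IrrCharacter G // χ ∈ principalBlock M G ∧
        ¬ p ∣ charDegree (χ : G → ℂ) ∧ ∀ g : G, (χ : G → ℂ) (g ^ k) = (χ : G → ℂ) g} with hX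
  set C := {f : G →* ℂˣ // (∀ n ∈ N, f n = 1) ∧ f ^ p = 1} with hC
  have hinv : ∀ θ : Θ, ∀ (g : G) (n : N),
      ((θ : IrrCharacter N) : N → ℂ) (MulAut.conjNormal g n) = ((θ : IrrCharacter N) : N → ℂ) n := by
    intro θ g
    have hle : N ⊔ (P : Subgroup G) ≤ Char.inertia N ((θ : IrrCharacter N) : N → ℂ) :=
      sup_le (Char.le_inertia N θ.1.2.isClassFunction)
        fun x hx => funext fun n => θ.2.2.2.1 x hx n
    exact congrFun (hle (sup_sylow N hgen P ▸ Subgroup.mem_top g))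
  choose base hres hext hbfix using fun θ : Θ => exists_base N hgen hk₁ hk₂ hcyc θ.2.2.1 (hinv θ)
  have hC1 : ∀ (f : C) (n : N), ((f.1 n : ℂˣ) : ℂ) = 1 := fun f n => by
    rw [f.2.1 n n.2, Units.val_one]
  have hprop : ∀ (θ : Θ) (f : C),
      IsIrrCharacter G (fun g => (base θ : G → ℂ) g * (f.1 g : ℂ)) := fun θ f =>
    Char.isIrrCharacter_mul_linear (base θ).2 f.1
  have hmem : ∀ (θ : Θ) (f : C),
      (⟨_, hprop θ f⟩ : IrrCharacter G) ∈ principalBlock M G ∧
      ¬ p ∣ charDegree (fun g => (base θ : G → ℂ) g * (f.1 g : ℂ)) ∧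
      ∀ g : G, (base θ : G → ℂ) (g ^ k) * (f.1 (g ^ k) : ℂ) = (base θ : G → ℂ) g * (f.1 g : ℂ) := by
    intro θ f
    refine ⟨?_, ?_, fun g => ?_⟩
    · obtain ⟨χ₀, hχ₀, hne⟩ := exists_principal_over N hM θ.2.1
      obtain ⟨B₀, -, huniq⟩ := existsUnique_over N hM ⟨a, ha⟩ (b := principalBlock M N)
        isPBlock_principal
      set χf : IrrCharacter G := ⟨_, hprop θ f⟩ with hχf
      have hover : classInner (fun n : N => (χf : G → ℂ) n)
          ((θ : IrrCharacter N) : N → ℂ) ≠ 0 := by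
        rw [show (fun n : N => (χf : G → ℂ) n) = ((θ : IrrCharacter N) : N → ℂ) from funext fun n => by
          show (base θ : G → ℂ) n * (f.1 n : ℂ) = _
          rw [hC1, mul_one, hres], Char.classInner_irr_self θ.1.2]
        exact one_ne_zero
      have e1 := huniq _ ⟨isPBlock_principal, χ₀, hχ₀, θ.1, θ.2.1, hne⟩
      have e2 := huniq _ ⟨isPBlock_blockOf (M := M) χf, χf, self_mem_blockOf hM χf, θ.1, θ.2.1,
        hover⟩
      rw [e1, ← e2]
      exact self_mem_blockOf hM χf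
    · have h1 := apply_one_eq_charDegree (⟨_, hprop θ f⟩ : IrrCharacter G)
      have h2 := apply_one_eq_charDegree θ.1
      have h3 := hres θ 1
      simp only [OneMemClass.coe_one] at h3
      simp only [map_one, Units.val_one, mul_one, h3, h2, Nat.cast_inj] at h1
      rw [← h1]
      exact θ.2.2.1
    · rw [hbfix θ θ.2.2.2.2 g, hom_pow_k N hgen hk₁ hk₂ f.2.1 g, pow_add, pow_one,
        ← MonoidHom.pow_apply, f.2.2, MonoidHom.one_apply, mul_one]
  let Φ : Θ × C → X := fun x => ⟨⟨_, hprop x.1 x.2⟩, hmem x.1 x.2⟩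
  have hbij : Function.Bijective Φ := by
    constructor
    · rintro ⟨θ, f⟩ ⟨θ', f'⟩ h
      have hg : ∀ g, (base θ : G → ℂ) g * (f.1 g : ℂ) = (base θ' : G → ℂ) g * (f'.1 g : ℂ) :=
        fun g => congrFun (congrArg (fun χ : X => ((χ : IrrCharacter G) : G → ℂ)) h) g
      have hθ : θ = θ' := Subtype.ext (Subtype.ext (funext fun n => by
        have := hg n
        rwa [hC1, hC1, mul_one, mul_one, hres, hres] at this))
      subst hθ
      refine Prod.ext rfl (Subtype.ext (MonoidHom.ext fun g => Units.ext ?_))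
      have hne : ∃ n : N, (base θ : G → ℂ) ((n : G) * g) ≠ 0 := by
        by_contra hcon
        push Not at hcon
        have := Char.sum_coset_self θ.1.2 (base θ).2.isCharacter (hres θ) g
        rw [Finset.sum_eq_zero fun n _ => by rw [hcon n, zero_mul]] at this
        exact Nat.cast_ne_zero.2 Nat.card_pos.ne' this.symm
      obtain ⟨n, hn⟩ := hne
      have h1 := mul_left_cancel₀ hn (hg ((n : G) * g))
      rwa [map_mul, map_mul, f.2.1 n n.2, f'.2.1 n n.2, one_mul, one_mul] at h1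
    · rintro ⟨χ, hχ, hdeg, hfix⟩
      obtain ⟨θ, hθ⟩ := Char.exists_irr_constituent_res N χ.2
      obtain ⟨hdvd, hratio⟩ := Char.degree_ratio_dvd_index N χ.2 θ.2 hθ
        (apply_one_eq_charDegree χ) (apply_one_eq_charDegree θ)
      rw [ha] at hratio
      have hratio1 : charDegree (χ : G → ℂ) / charDegree (θ : N → ℂ) = 1 := by
        obtain ⟨i, -, hi⟩ := (Nat.dvd_prime_pow hp.out).1 hratio
        rcases Nat.eq_zero_or_pos i with rfl | hi0
        · rw [hi, pow_zero]
        · exact absurd ((hi ▸ dvd_pow_self p hi0.ne').trans (Nat.div_dvd_of_dvd hdvd)) hdeg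
      have hdeq : charDegree (χ : G → ℂ) = charDegree (θ : N → ℂ) :=
        (Nat.eq_of_dvd_of_div_eq_one hdvd hratio1).symm
      have hres' : (fun n : N => (χ : G → ℂ) n) = (θ : N → ℂ) :=
        Char.eq_of_constituent_of_degree (χ.2.isCharacter.comp N.subtype) θ.2 hθ
          (by rw [OneMemClass.coe_one, apply_one_eq_charDegree χ, apply_one_eq_charDegree θ, hdeq])
      have hθ' : θ ∈ principalBlock M N ∧ ¬ p ∣ charDegree (θ : N → ℂ) ∧
          (∀ x ∈ (P : Subgroup G), ∀ n : N,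
            (θ : N → ℂ) ⟨x * n * x⁻¹, hN.conj_mem n n.2 x⟩ = (θ : N → ℂ) n) ∧
          ∀ n : N, (θ : N → ℂ) (n ^ k) = (θ : N → ℂ) n := by
        refine ⟨principal_constituent_mem N hM hχ hθ, hdeq ▸ hdeg, fun x _ n => ?_, fun n => ?_⟩
        · rw [← hres']
          exact χ.2.isClassFunction (n : G) x
        · rw [← hres']
          show (χ : G → ℂ) ((n ^ k : N) : G) = _
          rw [Subgroup.coe_pow]
          exact hfix n
      obtain ⟨f, hf, hfχ⟩ := hext ⟨θ, hθ'⟩ χ (fun n => congrFun hres' n)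
      have hfp : f ^ p = 1 := by
        refine MonoidHom.ext fun g => ?_
        rw [MonoidHom.pow_apply, MonoidHom.one_apply]
        obtain ⟨n, hn⟩ : ∃ n : N, (base ⟨θ, hθ'⟩ : G → ℂ) ((n : G) * g) ≠ 0 := by
          by_contra hcon
          push Not at hcon
          have := Char.sum_coset_self θ.2 (base ⟨θ, hθ'⟩).2.isCharacter (hres ⟨θ, hθ'⟩) g
          rw [Finset.sum_eq_zero fun n _ => by rw [hcon n, zero_mul]] at this
          exact Nat.cast_ne_zero.2 Nat.card_pos.ne' this.symm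
        have h := hfix ((n : G) * g)
        rw [hfχ, hfχ, hbfix _ hθ'.2.2.2, hom_pow_k N hgen hk₁ hk₂ hf, map_mul, hf n n.2, one_mul,
          pow_add, pow_one, Units.val_mul] at h
        have h2 : (f g : ℂ) * ((f g ^ p : ℂˣ) : ℂ) = (f g : ℂ) * 1 := by
          rw [mul_one]
          exact mul_right_cancel₀ hn h
        exact Units.ext (mul_left_cancel₀ (Units.ne_zero _) h2)
      refine ⟨⟨⟨θ, hθ'⟩, ⟨f, hf, hfp⟩⟩, Subtype.ext (Subtype.ext (funext fun g => ?_))⟩
      show (base ⟨θ, hθ'⟩ : G → ℂ) g * (f g : ℂ) = (χ : G → ℂ) g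
      rw [hfχ, mul_comm]
  rw [← Nat.card_congr (Equiv.ofBijective Φ hbij), Nat.card_prod, mul_comm]
  congr 1
  letI : CommGroup (G ⧸ N) :=
    { (inferInstance : Group (G ⧸ N)) with mul_comm := hcyc.commGroup.mul_comm }
  have hker : Nat.card C = Nat.card {φ : (G ⧸ N) →* ℂˣ // φ ^ p = 1} := by
    refine Nat.card_congr
      { toFun := fun f => ⟨QuotientGroup.lift N f.1 (fun n hn => f.2.1 n hn), ?_⟩
        invFun := fun φ => ⟨φ.1.comp (QuotientGroup.mk' N), fun n hn => ?_, ?_⟩
        left_inv := fun f => Subtype.ext (MonoidHom.ext fun g => rfl)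
        right_inv := fun φ => Subtype.ext (QuotientGroup.monoidHom_ext _ rfl) }
    · refine QuotientGroup.monoidHom_ext _ (MonoidHom.ext fun g => ?_)
      exact DFunLike.congr_fun f.2.2 g
    · show φ.1 (n : G ⧸ N) = 1
      rw [(QuotientGroup.eq_one_iff n).2 hn, map_one]
    · refine MonoidHom.ext fun g => ?_
      exact DFunLike.congr_fun φ.2 (g : G ⧸ N)
  haveI : IsCyclic (G ⧸ N) := hcyc
  rw [hker, card_hom_pow, ← Subgroup.index_eq_card, ha]
  refine Nat.gcd_eq_right ?_
  refine dvd_pow_self p fun h0 => hnt ?_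
  rw [← Subgroup.index_eq_one, ha, h0, pow_zero]

end Cfsg.Lib.Block.GaloisCount
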