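import Cfsg.Agent.Lib.Block.GreenStep
import Cfsg.Agent.Lib.Block.GroupRingLift
import Cfsg.Agent.Lib.Block.BrauerPairs

/-!
# Primitive idempotents of fixed algebras of the group algebra

The Brauer map on fixed algebras, Green's indecomposability step and the propagation of vanishing
below a point with nonzero Brauer image.
-/

set_option autoImplicit false
set_option linter.unusedSectionVars false
set_option maxHeartbeats 800000

namespace Cfsg.Lib.Block

open Cfsg
open scoped MonoidAlgebra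

universe u

variable {G : Type u} [Group G] {k : Type*} [Field k]

local notation "C[" Q "]" => Subgroup.centralizer (SetLike.coe Q)

theorem mem_invAlg_sup {R : Type*} [CommRing R] {H K : Subgroup G} {x : R[G]} :
    x ∈ invAlg R (H ⊔ K) ↔ x ∈ invAlg R H ∧ x ∈ invAlg R K := by
  refine ⟨fun h => ⟨invAlg_anti le_sup_left h, invAlg_anti le_sup_right h⟩, fun ⟨h1, h2⟩ => ?_⟩
  let F : Subgroup G :=
    { carrier := {g | ∀ y, x.coeff (g * y * g⁻¹) = x.coeff y}
      one_mem' := fun y => by simp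
      mul_mem' := fun {a b} ha hb y => by
        rw [show a * b * y * (a * b)⁻¹ = a * (b * y * b⁻¹) * a⁻¹ by group, ha, hb]
      inv_mem' := fun {a} ha y => by
        have := ha (a⁻¹ * y * a)
        rw [show a * (a⁻¹ * y * a) * a⁻¹ = y by group] at this
        rw [inv_inv, this] }
  have hle : H ⊔ K ≤ F := sup_le (fun a ha => mem_invAlg.1 h1 a ha) fun a ha => mem_invAlg.1 h2 a ha
  exact mem_invAlg.2 fun a ha => hle ha

/-- The Brauer map on the group algebra. -/
noncomputable def brK (Q : Subgroup G) (x : k[G]) : k[G] :=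
  haveI := Classical.decPred fun g : G => g ∈ C[Q]
  MonoidAlgebra.ofCoeff (x.coeff.filter fun g => g ∈ C[Q])

theorem coeff_brK_of_mem {Q : Subgroup G} (x : k[G]) {g : G} (hg : g ∈ C[Q]) :
    (brK Q x).coeff g = x.coeff g := by
  classical
  exact Finsupp.filter_apply_pos _ _ hg

theorem coeff_brK_of_notMem {Q : Subgroup G} (x : k[G]) {g : G} (hg : g ∉ C[Q]) :
    (brK Q x).coeff g = 0 := by
  classical
  exact Finsupp.filter_apply_neg _ _ hg

theorem brK_ext {Q : Subgroup G} {x y : k[G]} (h : ∀ g ∈ C[Q], x.coeff g = y.coeff g) :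
    brK Q x = brK Q y := by
  refine MonoidAlgebra.ext (Finsupp.ext fun g => ?_)
  by_cases hg : g ∈ C[Q]
  · rw [coeff_brK_of_mem x hg, coeff_brK_of_mem y hg, h g hg]
  · rw [coeff_brK_of_notMem x hg, coeff_brK_of_notMem y hg]

theorem brK_idempotent (Q : Subgroup G) (x : k[G]) : brK Q (brK Q x) = brK Q x :=
  brK_ext fun _ hg => coeff_brK_of_mem x hg

theorem brK_brK_of_le {Q R : Subgroup G} (h : Q ≤ R) (x : k[G]) : brK R (brK Q x) = brK R x :=
  brK_ext fun _ hg => coeff_brK_of_mem x (Subgroup.centralizer_le h hg)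

theorem brK_zero (Q : Subgroup G) : brK Q (0 : k[G]) = 0 := by
  refine MonoidAlgebra.ext (Finsupp.ext fun g => ?_)
  by_cases hg : g ∈ C[Q]
  · rw [coeff_brK_of_mem _ hg]
  · rw [coeff_brK_of_notMem _ hg]; rfl

theorem brK_add (Q : Subgroup G) (x y : k[G]) : brK Q (x + y) = brK Q x + brK Q y := by
  refine MonoidAlgebra.ext (Finsupp.ext fun g => ?_)
  rw [MonoidAlgebra.coeff_add, Finsupp.add_apply]
  by_cases hg : g ∈ C[Q]
  · simp [coeff_brK_of_mem _ hg]
  · simp [coeff_brK_of_notMem _ hg]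

theorem brK_sub (Q : Subgroup G) (x y : k[G]) : brK Q (x - y) = brK Q x - brK Q y :=
  eq_sub_of_add_eq (by rw [← brK_add, sub_add_cancel])

theorem brK_smul (Q : Subgroup G) (c : k) (x : k[G]) : brK Q (c • x) = c • brK Q x := by
  refine MonoidAlgebra.ext (Finsupp.ext fun g => ?_)
  rw [MonoidAlgebra.coeff_smul, Finsupp.smul_apply]
  by_cases hg : g ∈ C[Q]
  · simp [coeff_brK_of_mem _ hg]
  · simp [coeff_brK_of_notMem _ hg]

theorem brK_sum {ι : Type*} (Q : Subgroup G) (s : Finset ι) (f : ι → k[G]) :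
    brK Q (∑ i ∈ s, f i) = ∑ i ∈ s, brK Q (f i) := by
  classical
  induction s using Finset.induction_on with
  | empty => simp [brK_zero]
  | insert a s ha ih => rw [Finset.sum_insert ha, Finset.sum_insert ha, brK_add, ih]

theorem brK_one (Q : Subgroup G) : brK Q (1 : k[G]) = 1 := by
  refine MonoidAlgebra.ext (Finsupp.ext fun g => ?_)
  by_cases hg : g ∈ C[Q]
  · rw [coeff_brK_of_mem _ hg]
  · rw [coeff_brK_of_notMem _ hg, MonoidAlgebra.one_def, MonoidAlgebra.coeff_single,
      Finsupp.single_eq_of_ne fun h => hg (by rw [h]; exact one_mem _)]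

theorem brK_mem_invAlg_self [Fintype G] (Q : Subgroup G) (x : k[G]) : brK Q x ∈ invAlg k Q := by
  refine mem_invAlg.2 fun q hq g => ?_
  by_cases hg : g ∈ C[Q]
  · have e : q * g * q⁻¹ = g := by rw [Subgroup.mem_centralizer_iff.1 hg q hq, mul_inv_cancel_right]
    rw [e]
  · rw [coeff_brK_of_notMem x hg, coeff_brK_of_notMem x fun h =>
      hg ((centralizer_conj_mem_iff (Subgroup.le_normalizer hq)).1 h)]

theorem brK_mem_invAlg [Fintype G] {Q H : Subgroup G} (hH : H ≤ Subgroup.normalizer (Q : Set G)) {x : k[G]}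
    (hx : x ∈ invAlg k H) : brK Q x ∈ invAlg k H := by
  refine mem_invAlg.2 fun q hq g => ?_
  by_cases hg : g ∈ C[Q]
  · rw [coeff_brK_of_mem x hg, coeff_brK_of_mem x ((centralizer_conj_mem_iff (hH hq)).2 hg),
      mem_invAlg.1 hx q hq g]
  · rw [coeff_brK_of_notMem x hg, coeff_brK_of_notMem x fun h =>
      hg ((centralizer_conj_mem_iff (hH hq)).1 h)]

section Mul

variable [Fintype G] {p : ℕ} [Fact p.Prime] [CharP k p]

/-- The Brauer map is multiplicative on fixed points. -/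
theorem brK_mul {Q : Subgroup G} (hQ : IsPGroup p Q) {x y : k[G]} (hx : x ∈ invAlg k Q)
    (hy : y ∈ invAlg k Q) : brK Q (x * y) = brK Q x * brK Q y := by
  classical
  refine MonoidAlgebra.ext (Finsupp.ext fun c => ?_)
  by_cases hc : c ∈ C[Q]
  · rw [coeff_brK_of_mem _ hc, coeff_mul_sum, coeff_mul_sum]
    letI : MulAction Q G := MulAction.compHom G ((MulAut.conj).comp Q.subtype)
    have hsm : ∀ (q : Q) (h : G), q • h = (q : G) * h * (q : G)⁻¹ := fun _ _ => rfl
    rw [sum_eq_sum_fixed_of_pgroup hQ _ fun (q : Q) h => ?_]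
    · have hfix : ∀ h : G, (∀ q : Q, q • h = h) ↔ h ∈ C[Q] := by
        intro h
        rw [Subgroup.mem_centralizer_iff]
        constructor
        · intro hh q hq
          have := hh ⟨q, hq⟩
          rw [hsm] at this
          exact mul_inv_eq_iff_eq_mul.1 this
        · intro hh q
          rw [hsm]
          exact mul_inv_eq_iff_eq_mul.2 (hh q q.2)
      rw [Finset.sum_filter]
      refine Finset.sum_congr rfl fun h _ => ?_
      by_cases hh : h ∈ C[Q]
      · rw [if_pos ((hfix h).2 hh), coeff_brK_of_mem x hh,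
          coeff_brK_of_mem y (mul_mem (inv_mem hh) hc)]
      · rw [if_neg fun h' => hh ((hfix h).1 h'), coeff_brK_of_notMem x hh, zero_mul]
    · rw [hsm, mem_invAlg.1 hx q q.2]
      congr 1
      rw [← mem_invAlg.1 hy q q.2 (h⁻¹ * c)]
      congr 1
      have e : (q : G) * c * (q : G)⁻¹ = c := by
        rw [Subgroup.mem_centralizer_iff.1 hc q q.2, mul_inv_cancel_right]
      calc ((q : G) * h * (q : G)⁻¹)⁻¹ * c = ((q : G) * h * (q : G)⁻¹)⁻¹ * ((q : G) * c * (q : G)⁻¹) := by
            rw [e]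
        _ = _ := by group
  · rw [coeff_brK_of_notMem _ hc, coeff_mul_sum]
    refine (Finset.sum_eq_zero fun h _ => ?_).symm
    by_cases hh : h ∈ C[Q]
    · rw [coeff_brK_of_notMem y fun h' => hc (by simpa using mul_mem hh h'), mul_zero]
    · rw [coeff_brK_of_notMem x hh, zero_mul]

theorem brK_pow {Q : Subgroup G} (hQ : IsPGroup p Q) {x : k[G]} (hx : x ∈ invAlg k Q) (n : ℕ) :
    brK Q (x ^ n) = brK Q x ^ n := by
  induction n with
  | zero => rw [pow_zero, pow_zero, brK_one]
  | succ n ih => rw [pow_succ, pow_succ, brK_mul hQ (pow_mem hx n) hx, ih]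

theorem brK_isNilpotent {Q : Subgroup G} (hQ : IsPGroup p Q) {x : k[G]} (hx : x ∈ invAlg k Q)
    (h : IsNilpotent x) : IsNilpotent (brK Q x) := by
  obtain ⟨n, hn⟩ := h
  exact ⟨n, by rw [← brK_pow hQ hx, hn, brK_zero]⟩

theorem brK_isIdem {Q : Subgroup G} (hQ : IsPGroup p Q) {x : k[G]} (hx : x ∈ invAlg k Q)
    (h : IsIdempotentElem x) : IsIdempotentElem (brK Q x) := by
  show _ * _ = _
  rw [← brK_mul hQ hx hx, h.eq]

end Mul

section Points

variable [Fintype G] {p : ℕ} [Fact p.Prime] [CharP k p] [IsAlgClosed k]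

instance finiteDimensional_kG : FiniteDimensional k k[G] :=
  Module.Finite.of_basis (MonoidAlgebra.basis G k)

/-- A central idempotent of the local algebra is trivial on a point. -/
theorem IsPrim.brK_mul_eq_or {Q E : Subgroup G} (hQ : IsPGroup p Q) (hQE : Q ≤ E) {e ε : k[G]}
    (he : IsPrim (invAlg k E) e) (hε : ε ∈ invAlg k E) (hεb : brK Q ε = ε)
    (hεi : IsIdempotentElem ε) (hcomm : Commute (brK Q e) ε) :
    brK Q e * ε = 0 ∨ brK Q e * ε = brK Q e := by
  set b := brK Q e with hb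
  have heQ := invAlg_anti hQE he.mem
  have hεQ := invAlg_anti hQE hε
  have hbi : IsIdempotentElem b := brK_isIdem hQ heQ he.idem
  have hxS : e * ε * e ∈ invAlg k E := mul_mem (mul_mem he.mem hε) he.mem
  have hxc := InCorner.sandwich he.idem ε
  obtain ⟨c, hc⟩ := he.exists_scalar hxS hxc
  have hnil := brK_isNilpotent hQ
    (sub_mem (invAlg_anti hQE hxS) (Subalgebra.smul_mem _ heQ c)) hc
  have e1 : brK Q (e * ε * e) = b * ε := by
    rw [brK_mul hQ (mul_mem heQ hεQ) heQ, brK_mul hQ heQ hεQ, hεb, ← hb, mul_assoc, ← hcomm.eq,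
      ← mul_assoc, hbi.eq]
  rw [brK_sub, brK_smul, e1, ← hb] at hnil
  have hbε : IsIdempotentElem (b * ε) := IsIdempotentElem.mul_of_commute hcomm hbi hεi
  by_cases hc0 : c = 0
  · left
    rw [hc0, zero_smul, sub_zero] at hnil
    exact hbε.eq_zero_of_isNilpotent hnil
  · right
    have h1 : b * (b * ε) = b * ε := by rw [← mul_assoc, hbi.eq]
    have h2 : b * ε * b = b * ε := by rw [mul_assoc, ← hcomm.eq, ← mul_assoc, hbi.eq]
    have hd : IsIdempotentElem (b - b * ε) := by
      show (b - b * ε) * (b - b * ε) = _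
      rw [sub_mul, mul_sub, mul_sub, hbi.eq, h1, h2, hbε.eq, sub_self, sub_zero]
    have hcm : Commute (b * ε - c • b) (b - b * ε) := by
      have hbb : Commute (b * ε) b := h2.trans h1.symm
      exact ((hbb.sub_right (Commute.refl _)).sub_left
        (((Commute.refl b).sub_right hbb.symm).smul_left c))
    have h3 := hcm.isNilpotent_mul_right hnil
    rw [sub_mul, mul_sub, hbε.eq, h2, sub_self, smul_mul_assoc, mul_sub, hbi.eq, h1, zero_sub]
      at h3
    obtain ⟨n, hn⟩ := h3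
    have h4 : IsNilpotent (b - b * ε) := by
      refine ⟨n, ?_⟩
      rw [← neg_smul, smul_pow] at hn
      exact (smul_eq_zero.1 hn).resolve_left (pow_ne_zero _ (neg_ne_zero.2 hc0))
    exact (sub_eq_zero.1 (hd.eq_zero_of_isNilpotent h4)).symm

/-- The indicator of a set. -/
noncomputable def indK (k : Type*) [Field k] (s : Set G) : k[G] :=
  haveI := Classical.decPred fun g : G => g ∈ s
  MonoidAlgebra.ofCoeff (Finsupp.equivFunOnFinite.symm fun g => if g ∈ s then 1 else 0)

open Classical in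
theorem coeff_indK (s : Set G) (g : G) : (indK k s).coeff g = if g ∈ s then (1 : k) else 0 := by
  show (if g ∈ s then (1 : k) else 0) = _
  congr

/-- The orbit of an element under conjugation by a subgroup. -/
def orbK (H : Subgroup G) (g : G) : Set G := {x | ∃ h ∈ H, h * g * h⁻¹ = x}

theorem self_mem_orbK (H : Subgroup G) (g : G) : g ∈ orbK H g := ⟨1, one_mem H, by simp⟩

theorem orbK_conj_iff {H : Subgroup G} {h : G} (hh : h ∈ H) (g y : G) :
    h * y * h⁻¹ ∈ orbK H g ↔ y ∈ orbK H g := by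
  constructor
  · rintro ⟨a, ha, e⟩
    refine ⟨h⁻¹ * a, mul_mem (inv_mem hh) ha, ?_⟩
    calc h⁻¹ * a * g * (h⁻¹ * a)⁻¹ = h⁻¹ * (a * g * a⁻¹) * h := by group
      _ = y := by rw [e]; group
  · rintro ⟨a, ha, rfl⟩
    exact ⟨h * a, mul_mem hh ha, by group⟩

theorem indK_orbK_mem (H : Subgroup G) (g : G) : indK k (orbK H g) ∈ invAlg k H := by
  classical
  exact mem_invAlg.2 fun h hh y => by
    rw [coeff_indK, coeff_indK]
    exact if_congr (orbK_conj_iff hh g y) rfl rfl

theorem exists_index_prime_above {Q S : Subgroup G} (hQ : IsPGroup p Q) (hS : S < Q) :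
    ∃ M : Subgroup G, S ≤ M ∧ M ≤ Q ∧ (∀ q ∈ Q, ∀ m ∈ M, q * m * q⁻¹ ∈ M) ∧
      Nat.card Q = p * Nat.card M := by
  have hne : S.subgroupOf Q ≠ ⊤ := fun h => hS.not_ge fun q hq => by
    have : (⟨q, hq⟩ : Q) ∈ S.subgroupOf Q := h ▸ Subgroup.mem_top _
    exact Subgroup.mem_subgroupOf.1 this
  obtain ⟨M₀, hM₀, hle⟩ := (eq_top_or_exists_le_coatom (S.subgroupOf Q)).resolve_left hne
  haveI hnil : Group.IsNilpotent Q := hQ.isNilpotent
  haveI hnorm : M₀.Normal :=
    Subgroup.NormalizerCondition.normal_of_coatom M₀ Group.normalizerCondition_of_isNilpotent hM₀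
  have hidx : M₀.index = p := by
    have hQuot : IsPGroup p (Q ⧸ M₀) := hQ.to_quotient M₀
    obtain ⟨n, hn⟩ := IsPGroup.iff_card.1 hQuot
    have hn0 : n ≠ 0 := fun h => hM₀.1 (Subgroup.index_eq_one.1 (by
      rw [Subgroup.index_eq_card, hn, h, pow_zero]))
    obtain ⟨x, hx⟩ := exists_prime_orderOf_dvd_card' (G := Q ⧸ M₀) p (hn ▸ dvd_pow_self p hn0)
    have hlt : M₀ < (Subgroup.zpowers x).comap (QuotientGroup.mk' M₀) := by
      refine lt_of_le_of_ne (fun m hm => ?_) fun h => ?_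
      · rw [Subgroup.mem_comap, QuotientGroup.mk'_apply, (QuotientGroup.eq_one_iff m).2 hm]
        exact one_mem _
      · obtain ⟨y, rfl⟩ := QuotientGroup.mk'_surjective M₀ x
        have hy : y ∈ M₀ := h ▸ (Subgroup.mem_zpowers (QuotientGroup.mk' M₀ y) :
          y ∈ (Subgroup.zpowers (QuotientGroup.mk' M₀ y)).comap (QuotientGroup.mk' M₀))
        rw [QuotientGroup.mk'_apply, (QuotientGroup.eq_one_iff y).2 hy, orderOf_one] at hx
        exact (Fact.out : p.Prime).one_lt.ne hx
    have htop := hM₀.2 _ hlt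
    have : (Subgroup.zpowers x).index = 1 := by
      rw [← Subgroup.index_comap_of_surjective _ (QuotientGroup.mk'_surjective M₀), htop,
        Subgroup.index_top]
    have h2 := (Subgroup.zpowers x).card_mul_index
    rw [this, mul_one, Nat.card_zpowers, hx] at h2
    rw [Subgroup.index_eq_card, ← h2]
  refine ⟨M₀.map Q.subtype, ?_, Subgroup.map_subtype_le _, ?_, ?_⟩
  · rw [← Subgroup.map_subgroupOf_eq_of_le hS.le]
    exact Subgroup.map_mono hle
  · rintro q hq _ ⟨m, hm, rfl⟩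
    exact ⟨⟨q, hq⟩ * m * ⟨q, hq⟩⁻¹, hnorm.conj_mem m hm _, rfl⟩
  · rw [Subgroup.card_map_of_injective Q.subtype_injective, ← M₀.card_mul_index, hidx, mul_comm]

theorem domCongr_iterate_coeff (a : G) (i : ℕ) (x : k[G]) (g : G) :
    ((MonoidAlgebra.domCongr k k (MulAut.conj a))^[i] x).coeff g =
      x.coeff ((a ^ i)⁻¹ * g * a ^ i) := by
  induction i generalizing g with
  | zero => simp
  | succ i ih =>
    rw [Function.iterate_succ_apply', MonoidAlgebra.coeff_domCongr, ih]
    congr 1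
    show (a ^ i)⁻¹ * (a⁻¹ * g * a) * a ^ i = _
    rw [pow_succ', mul_inv_rev]
    simp only [mul_assoc]

/-- Green's step: a point killed by the Brauer map is induced from a maximal subgroup. -/
theorem exists_green {Q R : Subgroup G} (hQ : IsPGroup p Q) (hR : ¬ p ∣ Nat.card R)
    (hQR : ∀ q ∈ Q, ∀ r ∈ R, q * r = r * q) {e : k[G]} (he : IsPrim (invAlg k (Q ⊔ R)) e)
    (hbr : brK Q e = 0) :
    ∃ (M : Subgroup G) (a : G) (j : k[G]), M ≤ Q ∧ a ∈ Q ∧ a ∉ M ∧
      (∀ q ∈ Q, ∀ m ∈ M, q * m * q⁻¹ ∈ M) ∧ Nat.card Q = p * Nat.card M ∧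
      j ∈ invAlg k (M ⊔ R) ∧ IsIdempotentElem j ∧
      (∀ i < p, ∀ l < p, i ≠ l → (MonoidAlgebra.domCongr k k (MulAut.conj a))^[i] j *
        (MonoidAlgebra.domCongr k k (MulAut.conj a))^[l] j = 0) ∧
      ∑ i ∈ Finset.range p, (MonoidAlgebra.domCongr k k (MulAut.conj a))^[i] j = e := by
  classical
  set E := Q ⊔ R with hE
  have hEN : E ≤ Subgroup.normalizer (Q : Set G) := sup_le Subgroup.le_normalizer fun r hr =>
    Subgroup.centralizer_le_normalizer _ (Subgroup.mem_centralizer_iff.2 fun q hq => hQR q hq r hr)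
  have hzero : ∀ g ∈ C[Q], e.coeff g = 0 := fun g hg => by
    rw [← coeff_brK_of_mem e hg, hbr]; rfl
  -- an orbit sum with invertible image in the corner
  obtain ⟨g, hgC, hgu⟩ : ∃ g, g ∉ C[Q] ∧ ¬ IsNilpotent (e * indK k (orbK E g) * e) := by
    by_contra hno
    suffices key : ∀ (d : ℕ) (x : k[G]), x.coeff.support.card ≤ d → x ∈ invAlg k E →
        (∀ g ∈ C[Q], x.coeff g = 0) → IsNilpotent (e * x * e) by
      have h := key _ e le_rfl he.mem hzero
      rw [he.idem.eq, he.idem.eq] at h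
      exact he.not_isNilpotent h
    intro d
    induction d with
    | zero =>
      intro x hd _ _
      have : x = 0 := MonoidAlgebra.ext (Finsupp.support_eq_empty.1
        (Finset.card_eq_zero.1 (Nat.le_zero.1 hd)))
      rw [this, mul_zero, zero_mul]
      exact IsNilpotent.zero
    | succ d ih =>
      intro x hd hx hxz
      by_cases hx0 : x = 0
      · rw [hx0, mul_zero, zero_mul]; exact IsNilpotent.zero
      obtain ⟨g, hg⟩ : ∃ g, x.coeff g ≠ 0 := by
        by_contra h
        simp only [not_exists, not_not] at h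
        exact hx0 (MonoidAlgebra.ext (Finsupp.ext h))
      have hgC : g ∉ C[Q] := fun h => hg (hxz g h)
      have hval : ∀ y ∈ orbK E g, x.coeff y = x.coeff g := by
        rintro _ ⟨h, hh, rfl⟩
        exact mem_invAlg.1 hx h hh g
      set x' := x - x.coeff g • indK k (orbK E g) with hx'
      have hcoef : ∀ y, x'.coeff y = if y ∈ orbK E g then 0 else x.coeff y := by
        intro y
        simp only [x', MonoidAlgebra.coeff_sub, Finsupp.sub_apply, MonoidAlgebra.coeff_smul,
          Finsupp.smul_apply, coeff_indK, smul_eq_mul]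
        split_ifs with h
        · rw [hval y h, mul_one, sub_self]
        · rw [mul_zero, sub_zero]
      have hcard : x'.coeff.support.card ≤ d := by
        have hsub : x'.coeff.support ⊆ x.coeff.support.erase g := by
          intro y hy
          rw [Finsupp.mem_support_iff, hcoef] at hy
          split_ifs at hy with h
          · exact absurd rfl hy
          · exact Finset.mem_erase.2 ⟨fun hyg => h (hyg ▸ self_mem_orbK E g),
              Finsupp.mem_support_iff.2 hy⟩
        have := Finset.card_le_card hsub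
        rw [Finset.card_erase_of_mem (Finsupp.mem_support_iff.2 hg)] at this
        omega
      have hx'S : x' ∈ invAlg k E :=
        sub_mem hx (Subalgebra.smul_mem _ (indK_orbK_mem E g) _)
      have h1 := ih x' hcard hx'S fun y hy => by
        rw [hcoef]
        split_ifs
        · rfl
        · exact hxz y hy
      have h2 : IsNilpotent (e * indK k (orbK E g) * e) := by
        by_contra h; exact hno ⟨g, hgC, h⟩
      have e1 : e * x * e = e * x' * e + x.coeff g • (e * indK k (orbK E g) * e) := by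
        rw [← smul_mul_assoc, ← mul_smul_comm, ← add_mul, ← mul_add, sub_add_cancel]
      rw [e1]
      exact he.isNilpotent_add (mul_mem (mul_mem he.mem hx'S) he.mem) (InCorner.sandwich he.idem _)
        (Subalgebra.smul_mem _ (mul_mem (mul_mem he.mem (indK_orbK_mem E g)) he.mem) _)
        ((InCorner.sandwich he.idem _).smul _) h1 (h2.smul _)
  -- the maximal subgroup
  have hSQ : Q ⊓ Subgroup.centralizer ({g} : Set G) < Q := by
    refine lt_of_le_of_ne inf_le_left fun h => hgC (Subgroup.mem_centralizer_iff.2 fun q hq => ?_)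
    have : q ∈ Q ⊓ Subgroup.centralizer ({g} : Set G) := h.symm ▸ hq
    exact Subgroup.mem_centralizer_singleton_iff.1 this.2
  obtain ⟨M, hSM, hMQ, hMn, hcard⟩ := exists_index_prime_above hQ hSQ
  obtain ⟨a, haQ, haM⟩ : ∃ a ∈ Q, a ∉ M := by
    by_contra h
    simp only [not_exists, not_and, not_not] at h
    have := Subgroup.card_le_of_le (show Q ≤ M from h)
    rw [hcard] at this
    have h2 := Nat.card_pos (α := M)
    have h3 := (Fact.out : p.Prime).two_le
    nlinarith
  haveI hMQn : (M.subgroupOf Q).Normal := ⟨fun m hm q =>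
    Subgroup.mem_subgroupOf.2 (hMn q q.2 m (Subgroup.mem_subgroupOf.1 hm))⟩
  have hidx : Nat.card (Q ⧸ M.subgroupOf Q) = p := by
    have h1 := (M.subgroupOf Q).card_mul_index
    rw [Nat.card_congr (Subgroup.subgroupOfEquivOfLe hMQ).toEquiv, hcard, mul_comm p] at h1
    exact Nat.eq_of_mul_eq_mul_left Nat.card_pos h1
  have hapM : a ^ p ∈ M := by
    have h1 : ((⟨a, haQ⟩ : Q) : Q ⧸ M.subgroupOf Q) ^ p = 1 := by
      have := pow_card_eq_one' (x := ((⟨a, haQ⟩ : Q) : Q ⧸ M.subgroupOf Q))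
      rwa [hidx] at this
    rw [← QuotientGroup.mk_pow, QuotientGroup.eq_one_iff, Subgroup.mem_subgroupOf] at h1
    exact h1
  have hdecomp : ∀ q ∈ Q, ∃ i < p, ∃ m ∈ M, q = a ^ i * m := by
    intro q hq
    have hgen : Subgroup.zpowers ((⟨a, haQ⟩ : Q) : Q ⧸ M.subgroupOf Q) = ⊤ :=
      zpowers_eq_top_of_prime_card hidx (fun h => haM
        (Subgroup.mem_subgroupOf.1 ((QuotientGroup.eq_one_iff _).1 h)))
    have hmem : ((⟨q, hq⟩ : Q) : Q ⧸ M.subgroupOf Q) ∈
        Subgroup.zpowers ((⟨a, haQ⟩ : Q) : Q ⧸ M.subgroupOf Q) := hgen ▸ Subgroup.mem_top _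
    rw [← mem_powers_iff_mem_zpowers] at hmem
    obtain ⟨n, hn⟩ := hmem
    have hn' : ((⟨a, haQ⟩ : Q) : Q ⧸ M.subgroupOf Q) ^ (n % p) =
        ((⟨q, hq⟩ : Q) : Q ⧸ M.subgroupOf Q) := by
      rw [← pow_eq_pow_mod n (by rw [← hidx]; exact pow_card_eq_one')]
      exact hn
    rw [← QuotientGroup.mk_pow, QuotientGroup.eq, Subgroup.mem_subgroupOf] at hn'
    refine ⟨n % p, Nat.mod_lt _ (Fact.out : p.Prime).pos, _, hn', ?_⟩
    simp
  -- the automorphism
  set σ := MonoidAlgebra.domCongr k k (MulAut.conj a) with hσ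
  set y := indK k (orbK (M ⊔ R) g) with hy
  have hyS : y ∈ invAlg k (M ⊔ R) := indK_orbK_mem _ g
  have haR : ∀ r ∈ R, a * r = r * a := fun r hr => hQR a haQ r hr
  have hσS : ∀ x ∈ invAlg k (M ⊔ R), σ x ∈ invAlg k (M ⊔ R) := by
    intro x hx
    refine mem_invAlg_sup.2 ⟨mem_invAlg.2 fun m hm z => ?_, mem_invAlg.2 fun r hr z => ?_⟩
    · rw [hσ, MonoidAlgebra.coeff_domCongr, MonoidAlgebra.coeff_domCongr]
      have h1 : a⁻¹ * m * a⁻¹⁻¹ ∈ M := hMn _ (inv_mem haQ) m hm
      rw [inv_inv] at h1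
      rw [← mem_invAlg.1 hx (a⁻¹ * m * a) (Subgroup.mem_sup_left h1) ((MulAut.conj a).symm z)]
      congr 1
      show a⁻¹ * (m * z * m⁻¹) * a = _
      rw [show (MulAut.conj a).symm z = a⁻¹ * z * a from rfl]
      group
    · rw [hσ, MonoidAlgebra.coeff_domCongr, MonoidAlgebra.coeff_domCongr]
      rw [← mem_invAlg.1 hx r (Subgroup.mem_sup_right hr) ((MulAut.conj a).symm z)]
      congr 1
      show a⁻¹ * (r * z * r⁻¹) * a = r * (a⁻¹ * z * a) * r⁻¹
      have h1 : a⁻¹ * r = r * a⁻¹ := by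
        rw [eq_mul_inv_iff_mul_eq, mul_assoc, ← haR r hr, inv_mul_cancel_left]
      have h2 : r⁻¹ * a = a * r⁻¹ := by
        rw [inv_mul_eq_iff_eq_mul, ← mul_assoc, eq_mul_inv_iff_mul_eq, haR r hr]
      calc a⁻¹ * (r * z * r⁻¹) * a = (a⁻¹ * r) * z * (r⁻¹ * a) := by simp only [mul_assoc]
        _ = _ := by rw [h1, h2]; simp only [mul_assoc]
  have hσp : ∀ x ∈ invAlg k (M ⊔ R), σ^[p] x = x := fun x hx => by
    refine MonoidAlgebra.ext (Finsupp.ext fun z => ?_)
    rw [hσ, domCongr_iterate_coeff]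
    have := mem_invAlg.1 hx _ (Subgroup.mem_sup_left (inv_mem hapM)) z
    rwa [inv_inv] at this
  have hT : ∀ x, x ∈ invAlg k E ↔ x ∈ invAlg k (M ⊔ R) ∧ σ x = x := by
    intro x
    constructor
    · intro hx
      refine ⟨invAlg_anti (sup_le_sup_right hMQ R) hx, MonoidAlgebra.ext (Finsupp.ext fun z => ?_)⟩
      rw [hσ, MonoidAlgebra.coeff_domCongr]
      have := mem_invAlg.1 hx a⁻¹ (Subgroup.mem_sup_left (inv_mem haQ)) z
      rwa [inv_inv] at this
    · rintro ⟨h1, h2⟩
      refine mem_invAlg_sup.2 ⟨mem_invAlg.2 fun q hq z => ?_, (mem_invAlg_sup.1 h1).2⟩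
      have hit : ∀ i : ℕ, σ^[i] x = x := fun i => Function.iterate_fixed h2 i
      obtain ⟨i, -, m, hm, rfl⟩ := hdecomp q hq
      conv_lhs => rw [← hit i]
      rw [hσ, domCongr_iterate_coeff]
      rw [← mem_invAlg.1 h1 m (Subgroup.mem_sup_left hm) z]
      congr 1
      group
  -- the trace of the orbit sum
  have htr : ∑ i ∈ Finset.range p, σ^[i] y = indK k (orbK E g) := by
    refine MonoidAlgebra.ext (Finsupp.ext fun z => ?_)
    rw [MonoidAlgebra.coeff_sum, Finsupp.finset_sum_apply, coeff_indK]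
    simp only [hσ, domCongr_iterate_coeff, hy, coeff_indK]
    have hpart : ∀ h ∈ E, ∃ q ∈ Q, ∃ r ∈ R, h = q * r := by
      intro h hh
      rw [hE, ← SetLike.mem_coe, Subgroup.coe_mul_of_left_le_normalizer_right Q R] at hh
      · obtain ⟨q, hq, r, hr, rfl⟩ := Set.mem_mul.1 hh
        exact ⟨q, hq, r, hr, rfl⟩
      · intro q hq
        exact Subgroup.centralizer_le_normalizer _
          (Subgroup.mem_centralizer_iff.2 fun r hr => (hQR q hq r hr).symm)
    have hQgM : ∀ h ∈ E, h * g * h⁻¹ = g → ∃ m ∈ M ⊔ R, h = m := by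
      intro h hh hfix
      obtain ⟨q, hq, r, hr, rfl⟩ := hpart h hh
      refine ⟨_, Subgroup.mul_mem_sup ?_ hr, rfl⟩
      have hc : Commute q r := hQR q hq r hr
      have hcop : Nat.Coprime (orderOf q) (orderOf r) := by
        obtain ⟨n, hn⟩ := IsPGroup.iff_orderOf.1 hQ ⟨q, hq⟩
        rw [Subgroup.orderOf_mk] at hn
        rw [hn]
        refine Nat.Coprime.pow_left n ((Fact.out : p.Prime).coprime_iff_not_dvd.2 fun hd => hR ?_)
        exact hd.trans ((Subgroup.orderOf_mk r hr) ▸ orderOf_dvd_natCard (⟨r, hr⟩ : R))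
      obtain ⟨s, hs⟩ := exists_pow_eq_self_of_coprime hcop.symm
      have hfix' : q * r ∈ Subgroup.centralizer ({g} : Set G) :=
        Subgroup.mem_centralizer_singleton_iff.2 (mul_inv_eq_iff_eq_mul.1 hfix)
      have := pow_mem hfix' (orderOf r * s)
      rw [hc.mul_pow, pow_mul r, pow_orderOf_eq_one, one_pow, mul_one, pow_mul, hs] at this
      exact hSM ⟨hq, this⟩
    by_cases hz : z ∈ orbK E g
    · rw [if_pos hz]
      obtain ⟨h, hh, rfl⟩ := hz
      obtain ⟨q, hq, r, hr, rfl⟩ := hpart h hh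
      obtain ⟨i, hi, m, hm, rfl⟩ := hdecomp q hq
      rw [Finset.sum_eq_single_of_mem i (Finset.mem_range.2 hi)]
      · rw [if_pos ⟨m * r, Subgroup.mul_mem_sup hm hr, by group⟩]
      · intro l hl hli
        rw [if_neg]
        rintro ⟨m', hm', hml⟩
        rw [Finset.mem_range] at hl
        have hl' : a ^ l * m' ∈ E := mul_mem (Subgroup.mem_sup_left (pow_mem haQ l))
          (sup_le_sup_right hMQ R hm')
        have hh' : (a ^ l * m')⁻¹ * (a ^ i * m * r) ∈ E := mul_mem (inv_mem hl') hh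
        obtain ⟨m₂, hm₂, hm₂'⟩ := hQgM _ hh' (by
          have e1 : a ^ l * m' * g * (a ^ l * m')⁻¹ = a ^ i * m * r * g * (a ^ i * m * r)⁻¹ := by
            rw [show a ^ l * m' * g * (a ^ l * m')⁻¹ = a ^ l * (m' * g * m'⁻¹) * (a ^ l)⁻¹ by group,
              hml]
            group
          calc (a ^ l * m')⁻¹ * (a ^ i * m * r) * g * ((a ^ l * m')⁻¹ * (a ^ i * m * r))⁻¹
              = (a ^ l * m')⁻¹ * (a ^ i * m * r * g * (a ^ i * m * r)⁻¹) * (a ^ l * m') := by group
            _ = g := by rw [← e1]; group)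
        have hkey : (a ^ l)⁻¹ * a ^ i ∈ M ⊔ R := by
          have e2 : (a ^ l)⁻¹ * a ^ i = m' * ((a ^ l * m')⁻¹ * (a ^ i * m * r)) * (m * r)⁻¹ := by
            group
          rw [e2, hm₂']
          exact mul_mem (mul_mem hm' hm₂) (inv_mem (Subgroup.mul_mem_sup hm hr))
        have hkeyM : (a ^ l)⁻¹ * a ^ i ∈ M := by
          rw [← SetLike.mem_coe, Subgroup.coe_mul_of_left_le_normalizer_right M R] at hkey
          · obtain ⟨m₃, hm₃, r₃, hr₃, e3⟩ := Set.mem_mul.1 hkey
            have hrQ : r₃ ∈ Q := by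
              rw [show r₃ = m₃⁻¹ * ((a ^ l)⁻¹ * a ^ i) by rw [← e3, inv_mul_cancel_left]]
              exact mul_mem (inv_mem (hMQ hm₃))
                (mul_mem (inv_mem (pow_mem haQ l)) (pow_mem haQ i))
            have hr1 : r₃ = 1 := by
              obtain ⟨n, hn⟩ := IsPGroup.iff_orderOf.1 hQ ⟨r₃, hrQ⟩
              rw [Subgroup.orderOf_mk] at hn
              have hd := (Subgroup.orderOf_mk r₃ hr₃) ▸ orderOf_dvd_natCard (⟨r₃, hr₃⟩ : R)
              rcases Nat.eq_zero_or_pos n with rfl | hn0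
              · rwa [pow_zero, orderOf_eq_one_iff] at hn
              · exact absurd ((hn ▸ dvd_pow_self p hn0.ne').trans hd) hR
            rw [← e3, hr1, mul_one]
            exact hm₃
          · intro m hm
            exact Subgroup.centralizer_le_normalizer _
              (Subgroup.mem_centralizer_iff.2 fun r hr => (hQR m (hMQ hm) r hr).symm)
        -- distinct powers are in distinct cosets
        have h1 : ((⟨a, haQ⟩ : Q) : Q ⧸ M.subgroupOf Q) ^ l =
            ((⟨a, haQ⟩ : Q) : Q ⧸ M.subgroupOf Q) ^ i := by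
          rw [← QuotientGroup.mk_pow, ← QuotientGroup.mk_pow, QuotientGroup.eq,
            Subgroup.mem_subgroupOf]
          exact hkeyM
        have hord : orderOf ((⟨a, haQ⟩ : Q) : Q ⧸ M.subgroupOf Q) = p :=
          orderOf_eq_prime (by rw [← hidx]; exact pow_card_eq_one') fun h => haM
            (Subgroup.mem_subgroupOf.1 ((QuotientGroup.eq_one_iff _).1 h))
        exact hli (pow_injOn_Iio_orderOf (by rw [hord]; exact hl) (by rw [hord]; exact hi) h1)
    · rw [if_neg hz]
      refine Finset.sum_eq_zero fun i _ => ?_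
      rw [if_neg]
      rintro ⟨m, hm, hme⟩
      refine hz ⟨a ^ i * m, mul_mem (Subgroup.mem_sup_left (pow_mem haQ i))
        (sup_le_sup_right hMQ R hm), ?_⟩
      rw [show a ^ i * m * g * (a ^ i * m)⁻¹ = a ^ i * (m * g * m⁻¹) * (a ^ i)⁻¹ by group, hme]
      group
  set c := e * y * e with hc
  have hσe : σ e = e := ((hT e).1 he.mem).2
  have hunit : ¬ IsNilpotent (∑ i ∈ Finset.range p, σ^[i] c) := by
    have e1 : ∑ i ∈ Finset.range p, σ^[i] c = e * indK k (orbK E g) * e := by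
      rw [← htr, Finset.mul_sum, Finset.sum_mul]
      refine Finset.sum_congr rfl fun i _ => ?_
      rw [hc, iterate_algEquiv_mul, iterate_algEquiv_mul, Function.iterate_fixed hσe i]
    rwa [e1]
  have heS := ((hT e).1 he.mem).1
  obtain ⟨j, hjS, hji, hjo, hjs⟩ := exists_conjugate_idem p (S := invAlg k (M ⊔ R))
    (T := invAlg k E) σ hσS hσp hT he (mul_mem (mul_mem heS hyS) heS)
    (InCorner.sandwich he.idem y) hunit
  exact ⟨M, a, j, hMQ, haQ, haM, hMn, hcard, hjS, hji, hjo, hjs⟩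

/-- An idempotent of a smaller Brauer image vanishing above is zero below a local point. -/
theorem eq_zero_of_brK_vanish {Q R R' : Subgroup G} (hQ : IsPGroup p Q)
    (hQR : ∀ q ∈ Q, ∀ r ∈ R, q * r = r * q) (hlt : R' < Q) {e y : k[G]}
    (he : IsPrim (invAlg k (Q ⊔ R)) e) (hne : brK Q e ≠ 0)
    (hyT : y ∈ invAlg k (Q ⊓ Subgroup.normalizer (R' : Set G))) (hyR : y ∈ invAlg k R)
    (hyi : IsIdempotentElem y) (hyb : brK R' y = y) (hl : brK R' e * y = y)
    (hr : y * brK R' e = y)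
    (hvan : ∀ W : Subgroup G, R' < W → W ≤ Q ⊓ Subgroup.normalizer (R' : Set G) → brK W y = 0) :
    y = 0 := by
  classical
  have hsupp : ∀ h, y.coeff h ≠ 0 → h ∈ C[R'] := fun h hh => by
    by_contra hC
    exact hh (by rw [← hyb, coeff_brK_of_notMem y hC])
  have hstab : ∀ h, y.coeff h ≠ 0 → Q ⊓ Subgroup.centralizer ({h} : Set G) = R' := by
    intro h hh
    have hle : R' ≤ Q ⊓ Subgroup.centralizer ({h} : Set G) := le_inf hlt.le fun r hr =>
      Subgroup.mem_centralizer_singleton_iff.2 (Subgroup.mem_centralizer_iff.1 (hsupp h hh) r hr)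
    by_contra hne'
    have hlt' : R' < Q ⊓ Subgroup.centralizer ({h} : Set G) := lt_of_le_of_ne hle (Ne.symm hne')
    have hW := lt_inf_normalizer (hQ.to_le inf_le_left) hlt'
    refine hh ?_
    have h0 := hvan _ hW (inf_le_inf_right _ inf_le_left)
    have hhW : h ∈ C[(Q ⊓ Subgroup.centralizer ({h} : Set G)) ⊓ Subgroup.normalizer (R' : Set G)] :=
      Subgroup.mem_centralizer_iff.2 fun w hw => Subgroup.mem_centralizer_singleton_iff.1 hw.1.2
    rw [← coeff_brK_of_mem y hhW, h0]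
    rfl
  have hnorm : ∀ x ∈ Q, ∀ h, y.coeff h ≠ 0 → (∀ r ∈ R', x * r * x⁻¹ * h = h * (x * r * x⁻¹)) →
      x ∈ Q ⊓ Subgroup.normalizer (R' : Set G) := by
    intro x hx h hh hcom
    refine ⟨hx, ?_⟩
    have hle : R'.map (MulAut.conj x).toMonoidHom ≤ R' := by
      rintro _ ⟨r, hr, rfl⟩
      have : x * r * x⁻¹ ∈ Q ⊓ Subgroup.centralizer ({h} : Set G) :=
        ⟨Q.mul_mem (Q.mul_mem hx (hlt.le hr)) (Q.inv_mem hx),
          Subgroup.mem_centralizer_singleton_iff.2 (hcom r hr)⟩
      rw [hstab h hh] at this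
      exact this
    have heq := Subgroup.eq_of_le_of_card_ge hle
      (by rw [Subgroup.card_map_of_injective (MulAut.conj x).injective])
    refine Subgroup.mem_normalizer_iff.2 fun r => ⟨fun hr => hle ⟨r, hr, rfl⟩, fun hr => ?_⟩
    rw [← heq] at hr
    obtain ⟨r', hr', e'⟩ := hr
    have : r' = r := mul_left_cancel (mul_right_cancel (e' : x * r' * x⁻¹ = x * r * x⁻¹))
    exact this ▸ hr'
  let Zf : G → k := fun g =>
    if hg : ∃ x ∈ Q, y.coeff (x * g * x⁻¹) ≠ 0 then y.coeff (hg.choose * g * hg.choose⁻¹) else 0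
  have hkey : ∀ g, ∀ x ∈ Q, y.coeff (x * g * x⁻¹) ≠ 0 → Zf g = y.coeff (x * g * x⁻¹) := by
    intro g x hx hxg
    have hex : ∃ x ∈ Q, y.coeff (x * g * x⁻¹) ≠ 0 := ⟨x, hx, hxg⟩
    simp only [Zf]
    rw [dif_pos hex]
    obtain ⟨hcQ, hcne⟩ := hex.choose_spec
    set c := hex.choose
    have hq : c * x⁻¹ ∈ Q ⊓ Subgroup.normalizer (R' : Set G) := by
      refine hnorm _ (mul_mem hcQ (inv_mem hx)) (c * g * c⁻¹) hcne fun r hr => ?_
      have h1 := Subgroup.mem_centralizer_iff.1 (hsupp _ hxg) r hr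
      calc c * x⁻¹ * r * (c * x⁻¹)⁻¹ * (c * g * c⁻¹)
          = c * x⁻¹ * (r * (x * g * x⁻¹)) * (c * x⁻¹)⁻¹ := by group
        _ = c * x⁻¹ * ((x * g * x⁻¹) * r) * (c * x⁻¹)⁻¹ := by rw [h1]
        _ = _ := by group
    rw [← mem_invAlg.1 hyT _ hq (x * g * x⁻¹)]
    congr 1
    group
  have hkey0 : ∀ g, (∀ x ∈ Q, y.coeff (x * g * x⁻¹) = 0) → Zf g = 0 := by
    intro g hg
    simp only [Zf]
    rw [dif_neg]
    rintro ⟨x, hx, hxg⟩
    exact hxg (hg x hx)
  let Z : k[G] := MonoidAlgebra.ofCoeff (Finsupp.equivFunOnFinite.symm Zf)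
  have hZc : ∀ g, Z.coeff g = Zf g := fun g => rfl
  have hZQ : Z ∈ invAlg k Q := mem_invAlg.2 fun q hq g => by
    rw [hZc, hZc]
    by_cases hg : ∃ x ∈ Q, y.coeff (x * g * x⁻¹) ≠ 0
    · obtain ⟨x, hx, hxg⟩ := hg
      have e1 : x * q⁻¹ * (q * g * q⁻¹) * (x * q⁻¹)⁻¹ = x * g * x⁻¹ := by group
      rw [hkey (q * g * q⁻¹) (x * q⁻¹) (mul_mem hx (inv_mem hq)) (by rwa [e1]), e1,
        hkey g x hx hxg]
    · simp only [not_exists, not_and, not_not] at hg
      rw [hkey0 g hg, hkey0 (q * g * q⁻¹) fun x hx => by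
        have := hg (x * q) (mul_mem hx hq)
        rw [← this]; congr 1; group]
  have hZR : Z ∈ invAlg k R := mem_invAlg.2 fun r hr g => by
    rw [hZc, hZc]
    have hmove : ∀ x ∈ Q, y.coeff (x * (r * g * r⁻¹) * x⁻¹) = y.coeff (x * g * x⁻¹) := by
      intro x hx
      rw [← mem_invAlg.1 hyR r hr (x * g * x⁻¹)]
      congr 1
      have h1 := hQR x hx r hr
      have h2 : r⁻¹ * x⁻¹ = x⁻¹ * r⁻¹ := by rw [← mul_inv_rev, ← mul_inv_rev, h1]
      calc x * (r * g * r⁻¹) * x⁻¹ = (x * r) * g * (r⁻¹ * x⁻¹) := by simp only [mul_assoc]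
        _ = _ := by rw [h1, h2]; simp only [mul_assoc]
    by_cases hg : ∃ x ∈ Q, y.coeff (x * g * x⁻¹) ≠ 0
    · obtain ⟨x, hx, hxg⟩ := hg
      rw [hkey _ x hx (by rwa [hmove x hx]), hmove x hx, hkey g x hx hxg]
    · simp only [not_exists, not_and, not_not] at hg
      rw [hkey0 g hg, hkey0 _ fun x hx => by rw [hmove x hx, hg x hx]]
  have hbR : brK R' Z = y := by
    refine MonoidAlgebra.ext (Finsupp.ext fun g => ?_)
    by_cases hgC : g ∈ C[R']
    · rw [coeff_brK_of_mem Z hgC, hZc]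
      by_cases hg : ∃ x ∈ Q, y.coeff (x * g * x⁻¹) ≠ 0
      · obtain ⟨x, hx, hxg⟩ := hg
        rw [hkey g x hx hxg]
        refine mem_invAlg.1 hyT x (hnorm x hx _ hxg fun r hr => ?_) g
        have h1 := Subgroup.mem_centralizer_iff.1 hgC r hr
        calc x * r * x⁻¹ * (x * g * x⁻¹) = x * (r * g) * x⁻¹ := by group
          _ = x * (g * r) * x⁻¹ := by rw [h1]
          _ = _ := by group
      · simp only [not_exists, not_and, not_not] at hg
        rw [hkey0 g hg]
        have := hg 1 (one_mem Q)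
        simpa using this.symm
    · rw [coeff_brK_of_notMem Z hgC]
      exact (by_contra fun h => hgC (hsupp g (Ne.symm h)))
  have hbQ : brK Q Z = 0 := by
    refine MonoidAlgebra.ext (Finsupp.ext fun g => ?_)
    show (brK Q Z).coeff g = 0
    by_cases hgC : g ∈ C[Q]
    · rw [coeff_brK_of_mem Z hgC, hZc]
      refine hkey0 g fun x hx => ?_
      by_contra hxg
      refine hlt.ne (le_antisymm hlt.le ?_)
      rw [← hstab _ hxg]
      refine le_inf le_rfl fun q hq => Subgroup.mem_centralizer_singleton_iff.2 ?_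
      have h1 : x * g * x⁻¹ = g := by
        rw [Subgroup.mem_centralizer_iff.1 hgC x hx, mul_inv_cancel_right]
      rw [h1]
      exact Subgroup.mem_centralizer_iff.1 hgC q hq
    · rw [coeff_brK_of_notMem Z hgC]
  have hZE : Z ∈ invAlg k (Q ⊔ R) := mem_invAlg_sup.2 ⟨hZQ, hZR⟩
  have heQ := invAlg_anti (le_sup_left (b := R)) he.mem
  set X := e * Z * e with hX
  have hXS : X ∈ invAlg k (Q ⊔ R) := mul_mem (mul_mem he.mem hZE) he.mem
  obtain ⟨c, hc⟩ := he.exists_scalar hXS (InCorner.sandwich he.idem Z)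
  have hbX : brK Q X = 0 := by
    rw [hX, brK_mul hQ (mul_mem heQ hZQ) heQ, brK_mul hQ heQ hZQ, hbQ, mul_zero, zero_mul]
  have hc0 : c = 0 := by
    by_contra hc0
    have h1 := brK_isNilpotent hQ
      (sub_mem (invAlg_anti le_sup_left hXS) (Subalgebra.smul_mem _ heQ c)) hc
    rw [brK_sub, brK_smul, hbX, zero_sub] at h1
    obtain ⟨n, hn⟩ := h1
    rw [← neg_smul, smul_pow] at hn
    exact hne ((brK_isIdem hQ heQ he.idem).eq_zero_of_isNilpotent
      ⟨n, (smul_eq_zero.1 hn).resolve_left (pow_ne_zero _ (neg_ne_zero.2 hc0))⟩)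
  rw [hc0, zero_smul, sub_zero] at hc
  have heR' := invAlg_anti hlt.le heQ
  have hZR' := invAlg_anti hlt.le hZQ
  have h2 := brK_isNilpotent (hQ.to_le hlt.le)
    (mul_mem (mul_mem heR' hZR') heR') hc
  rw [brK_mul (hQ.to_le hlt.le) (mul_mem heR' hZR') heR', brK_mul (hQ.to_le hlt.le) heR' hZR', hbR,
    hl, hr] at h2
  exact hyi.eq_zero_of_isNilpotent h2

end Points

end Cfsg.Lib.Block
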