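import Cfsg.Agent.Lib.Block.CornerAlgebra
import Mathlib.Algebra.CharP.Lemmas
import Mathlib.FieldTheory.IsAlgClosed.Basic
import Mathlib.Data.ZMod.Basic

/-!
# The indecomposability step for idempotents

A primitive idempotent of the fixed algebra of an automorphism of order `p` which is a trace is the
sum of an orbit of pairwise orthogonal idempotents.
-/

set_option autoImplicit false
set_option linter.unusedSectionVars false

namespace Cfsg.Lib.Block

variable {k A : Type*} [Field k] [Ring A] [Algebra k A]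

/-- The morphisms between two idempotents inside a subalgebra. -/
def IsHom (S : Subalgebra k A) (a b x : A) : Prop := x ∈ S ∧ a * x = x ∧ x * b = x

theorem IsHom.inCorner {S : Subalgebra k A} {a x : A} (h : IsHom S a a x) : InCorner a x :=
  ⟨h.2.1, h.2.2⟩

theorem IsHom.mul {S : Subalgebra k A} {a b c x y : A} (hx : IsHom S a b x) (hy : IsHom S b c y) :
    IsHom S a c (x * y) :=
  ⟨mul_mem hx.1 hy.1, by rw [← mul_assoc, hx.2.1], by rw [mul_assoc, hy.2.2]⟩

theorem IsHom.map {S : Subalgebra k A} (σ : A ≃ₐ[k] A) (hσS : ∀ x ∈ S, σ x ∈ S) {a b x : A}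
    (hx : IsHom S a b x) (i : ℕ) : IsHom S (σ^[i] a) (σ^[i] b) (σ^[i] x) := by
  induction i with
  | zero => exact hx
  | succ i ih =>
    simp only [Function.iterate_succ_apply']
    exact ⟨hσS _ ih.1, by rw [← map_mul, ih.2.1], by rw [← map_mul, ih.2.2]⟩

theorem iterate_algEquiv_mul (σ : A ≃ₐ[k] A) (i : ℕ) (x y : A) :
    σ^[i] (x * y) = σ^[i] x * σ^[i] y := by
  induction i with
  | zero => rfl
  | succ i ih => simp only [Function.iterate_succ_apply', ih, map_mul]

theorem iterate_algEquiv_sub (σ : A ≃ₐ[k] A) (i : ℕ) (x y : A) :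
    σ^[i] (x - y) = σ^[i] x - σ^[i] y := by
  induction i with
  | zero => rfl
  | succ i ih => simp only [Function.iterate_succ_apply', ih, map_sub]

theorem iterate_algEquiv_smul (σ : A ≃ₐ[k] A) (i : ℕ) (c : k) (x : A) :
    σ^[i] (c • x) = c • σ^[i] x := by
  induction i with
  | zero => rfl
  | succ i ih => simp only [Function.iterate_succ_apply', ih, map_smul]

theorem iterate_algEquiv_zero (σ : A ≃ₐ[k] A) (i : ℕ) : σ^[i] (0 : A) = 0 := by
  induction i with
  | zero => rfl
  | succ i ih => simp only [Function.iterate_succ_apply', ih, map_zero]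

theorem iterate_algEquiv_nilpotent_iff (σ : A ≃ₐ[k] A) (i : ℕ) (x : A) :
    IsNilpotent (σ^[i] x) ↔ IsNilpotent x := by
  induction i with
  | zero => rfl
  | succ i ih =>
    rw [Function.iterate_succ_apply', ← ih]
    exact IsNilpotent.map_iff σ.injective

/-- A system of residue maps on the morphisms between a family of idempotents. -/
structure ResSystem (S : Subalgebra k A) {ι : Type*} (n : ι → A) where
  res : ι → ι → A → k
  res_add : ∀ {i l x y}, IsHom S (n i) (n l) x → IsHom S (n i) (n l) y →
    res i l (x + y) = res i l x + res i l y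
  res_mul : ∀ {i l m x y}, IsHom S (n i) (n l) x → IsHom S (n l) (n m) y →
    res i m (x * y) = res i l x * res l m y
  res_self : ∀ i, res i i (n i) = 1
  res_nilpotent : ∀ {i x}, IsHom S (n i) (n i) x → res i i x = 0 → IsNilpotent x

theorem IsHom.zero' (S : Subalgebra k A) (a b : A) : IsHom S a b 0 :=
  ⟨zero_mem S, mul_zero a, zero_mul b⟩

theorem IsHom.add' {S : Subalgebra k A} {a b x y : A} (hx : IsHom S a b x) (hy : IsHom S a b y) :
    IsHom S a b (x + y) :=
  ⟨add_mem hx.1 hy.1, by rw [mul_add, hx.2.1, hy.2.1], by rw [add_mul, hx.2.2, hy.2.2]⟩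

theorem IsHom.sub' {S : Subalgebra k A} {a b x y : A} (hx : IsHom S a b x) (hy : IsHom S a b y) :
    IsHom S a b (x - y) :=
  ⟨sub_mem hx.1 hy.1, by rw [mul_sub, hx.2.1, hy.2.1], by rw [sub_mul, hx.2.2, hy.2.2]⟩

variable {S : Subalgebra k A} {ι : Type*} {n : ι → A}

theorem ResSystem.res_zero (π : ResSystem S n) (i l : ι) : π.res i l (0 : A) = 0 := by
  have := π.res_add (IsHom.zero' S (n i) (n l)) (IsHom.zero' S (n i) (n l))
  rw [add_zero] at this
  exact left_eq_add.1 this

theorem ResSystem.res_sub (π : ResSystem S n) {i l : ι} {x y : A} (hx : IsHom S (n i) (n l) x)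
    (hy : IsHom S (n i) (n l) y) : π.res i l (x - y) = π.res i l x - π.res i l y := by
  have := π.res_add (hx.sub' hy) hy
  rw [sub_add_cancel] at this
  rw [this, add_sub_cancel_right]

theorem ResSystem.res_sum (π : ResSystem S n) {i l : ι} {κ : Type*} (s : Finset κ) (f : κ → A)
    (h : ∀ a ∈ s, IsHom S (n i) (n l) (f a)) :
    π.res i l (∑ a ∈ s, f a) = ∑ a ∈ s, π.res i l (f a) := by
  classical
  have key : ∀ t ⊆ s, IsHom S (n i) (n l) (∑ a ∈ t, f a) ∧
      π.res i l (∑ a ∈ t, f a) = ∑ a ∈ t, π.res i l (f a) := by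
    intro t
    induction t using Finset.induction_on with
    | empty => exact fun _ => ⟨by simpa using IsHom.zero' S (n i) (n l), by simp [π.res_zero]⟩
    | insert a t ha ih =>
      intro hts
      obtain ⟨h1, h2⟩ := ih fun b hb => hts (Finset.mem_insert_of_mem hb)
      have h3 := h a (hts (Finset.mem_insert_self a t))
      rw [Finset.sum_insert ha, Finset.sum_insert ha]
      exact ⟨h3.add' h1, by rw [π.res_add h3 h1, h2]⟩
  exact (key s subset_rfl).2

/-- A system of equations with coefficients in the radical has only the zero solution. -/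
theorem ResSystem.eq_zero_of_fixed [FiniteDimensional k A] [IsAlgClosed k] (π : ResSystem S n)
    (hn : ∀ i, IsPrim S (n i)) [DecidableEq ι] :
    ∀ (s : Finset ι) (E : ι → ι → A) (v : ι → A), (∀ i l, IsHom S (n i) (n l) (E i l)) →
      (∀ i l, π.res i l (E i l) = 0) → (∀ i, n i * v i = v i) →
      (∀ i ∈ s, v i = ∑ l ∈ s, E i l * v l) → ∀ i ∈ s, v i = 0 := by
  intro s
  induction s using Finset.induction_on with
  | empty => simp
  | insert a s ha ih =>
    intro E v hE hres hv heq
    have hcor : InCorner (n a) (n a - E a a) :=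
      (inCorner_self (hn a).idem).sub (hE a a).inCorner
    have hS : n a - E a a ∈ S := sub_mem (hn a).mem (hE a a).1
    obtain ⟨w, hwS, hwc, hw, -⟩ : ∃ w ∈ S, InCorner (n a) w ∧ w * (n a - E a a) = n a ∧
        (n a - E a a) * w = n a := by
      refine ((hn a).nilpotent_or_unit hS hcor).resolve_left fun hnil => ?_
      have h1 := (hn a).isNilpotent_add hS hcor (hE a a).1 (hE a a).inCorner hnil
        (π.res_nilpotent (hE a a) (hres a a))
      rw [sub_add_cancel] at h1
      exact (hn a).not_isNilpotent h1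
    have hwH : IsHom S (n a) (n a) w := ⟨hwS, hwc.1, hwc.2⟩
    have hva : v a = ∑ l ∈ s, w * E a l * v l := by
      have h1 := heq a (Finset.mem_insert_self a s)
      rw [Finset.sum_insert ha] at h1
      have h2 : (n a - E a a) * v a = ∑ l ∈ s, E a l * v l := by
        rw [sub_mul, hv a]
        conv_lhs => arg 1; rw [h1]
        abel
      calc v a = n a * v a := (hv a).symm
        _ = w * ((n a - E a a) * v a) := by rw [← mul_assoc, hw]
        _ = _ := by rw [h2, Finset.mul_sum]; simp only [mul_assoc]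
    set E' : ι → ι → A := fun i l => E i l + E i a * (w * E a l) with hE'
    have hs0 : ∀ i ∈ s, v i = 0 := by
      refine ih E' v (fun i l => (hE i l).add' ((hE i a).mul (hwH.mul (hE a l))))
        (fun i l => ?_) hv fun i hi => ?_
      · simp only [E']
        rw [π.res_add (hE i l) ((hE i a).mul (hwH.mul (hE a l))),
          π.res_mul (hE i a) (hwH.mul (hE a l)), hres, hres, zero_mul, add_zero]
      · have h1 := heq i (Finset.mem_insert_of_mem hi)
        rw [Finset.sum_insert ha] at h1
        conv_lhs => rw [h1, hva]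
        simp only [E', add_mul, Finset.sum_add_distrib, Finset.mul_sum, mul_assoc]
        rw [add_comm]
    intro i hi
    rcases Finset.mem_insert.1 hi with rfl | hi'
    · rw [hva]
      exact Finset.sum_eq_zero fun l hl => by rw [hs0 l hl, mul_zero]
    · exact hs0 i hi'

variable (p : ℕ) [Fact p.Prime]

/-- An idempotent of the group algebra of a cyclic `p`-group in characteristic `p` is trivial. -/
theorem circulant_idem [CharP k p] (f : ZMod p → k)
    (hf : ∀ m, f m = ∑ l, f l * f (m - l)) :
    (∀ m, m ≠ 0 → f m = 0) ∧ (f 0 = 0 ∨ f 0 = 1) := by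
  classical
  let F : AddMonoidAlgebra k (ZMod p) := ∑ d, AddMonoidAlgebra.single d (f d)
  have hcoeff : ∀ m, F.coeff m = f m := fun m => by
    simp [F, Finsupp.single_apply]
  have hidem : IsIdempotentElem F := by
    refine AddMonoidAlgebra.ext (Finsupp.ext fun m => ?_)
    rw [hcoeff, hf m]
    simp only [F, Finset.sum_mul_sum, AddMonoidAlgebra.single_mul_single, AddMonoidAlgebra.coeff_sum,
      Finsupp.finset_sum_apply, AddMonoidAlgebra.coeff_single, Finsupp.single_apply]
    refine Finset.sum_congr rfl fun l _ => ?_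
    rw [Finset.sum_eq_single (m - l)]
    · simp
    · intro x _ hx
      rw [if_neg fun h => hx (by rw [← h, add_sub_cancel_left])]
    · simp
  haveI : CharP (AddMonoidAlgebra k (ZMod p)) p :=
    charP_of_injective_algebraMap (R := k) (RingHom.injective _) p
  have hp : ∀ m : ZMod p, m ≠ 0 → f m = 0 := by
    intro m hm
    have h := sum_pow_char p (Finset.univ : Finset (ZMod p))
      (fun d => AddMonoidAlgebra.single d (f d))
    change F ^ p = _ at h
    obtain ⟨q, hq⟩ : ∃ q, p = q + 1 := ⟨p - 1, (Nat.sub_add_cancel (Fact.out : p.Prime).pos).symm⟩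
    have hFp : F ^ p = F := (congrArg (F ^ ·) hq).trans (hidem.pow_succ_eq q)
    rw [hFp] at h
    have hz : ∀ d : ZMod p, p • d = 0 := fun d => by simp
    simp only [AddMonoidAlgebra.single_pow, hz] at h
    rw [← hcoeff m, h]
    simp [Finsupp.single_eq_of_ne hm]
  refine ⟨hp, ?_⟩
  have h0 : f 0 = f 0 * f 0 := by
    conv_lhs => rw [hf 0]
    rw [Finset.sum_eq_single (0 : ZMod p)]
    · rw [sub_zero]
    · intro l _ hl
      rw [hp l hl, zero_mul]
    · simp
  rcases eq_or_ne (f 0) 0 with h | h
  · exact Or.inl h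
  · exact Or.inr ((mul_eq_left₀ h).1 h0.symm)

/-- The composite of the translates of an isomorphism. -/
def gPath (σ : A ≃ₐ[k] A) (n u : A) : ℕ → A
  | 0 => n
  | i + 1 => σ (gPath σ n u i) * u

/-- The composite of the translates of the inverse isomorphism. -/
def gCoPath (σ : A ≃ₐ[k] A) (n v : A) : ℕ → A
  | 0 => n
  | i + 1 => v * σ (gCoPath σ n v i)

theorem gPath_smul (σ : A ≃ₐ[k] A) (n u : A) (d : k) (i : ℕ) :
    gPath σ n (d • u) i = d ^ i • gPath σ n u i := by
  induction i with
  | zero => simp [gPath]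
  | succ i ih => simp only [gPath, ih, map_smul, smul_mul_assoc, mul_smul_comm, smul_smul, pow_succ']

theorem gPath_facts (σ : A ≃ₐ[k] A) (hσS : ∀ x ∈ S, σ x ∈ S) {n u v : A} (hn : n ∈ S)
    (hni : IsIdempotentElem n) (hu : IsHom S (σ n) n u) (hv : IsHom S n (σ n) v)
    (huv : u * v = σ n) (hvu : v * u = n) (i : ℕ) :
    IsHom S (σ^[i] n) n (gPath σ n u i) ∧ IsHom S n (σ^[i] n) (gCoPath σ n v i) ∧
      gCoPath σ n v i * gPath σ n u i = n ∧ gPath σ n u i * gCoPath σ n v i = σ^[i] n := by
  induction i with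
  | zero => exact ⟨⟨hn, hni.eq, hni.eq⟩, ⟨hn, hni.eq, hni.eq⟩, hni.eq, hni.eq⟩
  | succ i ih =>
    obtain ⟨hP, hQ, hQP, hPQ⟩ := ih
    simp only [Function.iterate_succ_apply', gPath, gCoPath]
    have hP' : IsHom S (σ (σ^[i] n)) (σ n) (σ (gPath σ _ u i)) :=
      ⟨hσS _ hP.1, by rw [← map_mul, hP.2.1], by rw [← map_mul, hP.2.2]⟩
    have hQ' : IsHom S (σ n) (σ (σ^[i] n)) (σ (gCoPath σ _ v i)) :=
      ⟨hσS _ hQ.1, by rw [← map_mul, hQ.2.1], by rw [← map_mul, hQ.2.2]⟩
    refine ⟨hP'.mul hu, hv.mul hQ', ?_, ?_⟩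
    · rw [mul_assoc, ← mul_assoc (σ (gCoPath σ _ v i)), ← map_mul, hQP, hu.2.1, hvu]
    · rw [mul_assoc, ← mul_assoc u, huv, hQ'.2.1, ← map_mul, hPQ]

/-- Being isomorphic idempotents. -/
def IdemIso (S : Subalgebra k A) (a b : A) : Prop :=
  ∃ x y, IsHom S a b x ∧ IsHom S b a y ∧ x * y = a ∧ y * x = b

theorem IdemIso.map (σ : A ≃ₐ[k] A) (hσS : ∀ x ∈ S, σ x ∈ S) {a b : A} (h : IdemIso S a b)
    (i : ℕ) : IdemIso S (σ^[i] a) (σ^[i] b) := by
  obtain ⟨x, y, hx, hy, hxy, hyx⟩ := h
  exact ⟨_, _, hx.map σ hσS i, hy.map σ hσS i, by rw [← iterate_algEquiv_mul, hxy],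
    by rw [← iterate_algEquiv_mul, hyx]⟩

theorem IdemIso.trans {a b c : A} (h : IdemIso S a b) (h' : IdemIso S b c) : IdemIso S a c := by
  obtain ⟨x, y, hx, hy, hxy, hyx⟩ := h
  obtain ⟨x', y', hx', hy', hxy', hyx'⟩ := h'
  refine ⟨x * x', y' * y, hx.mul hx', hy'.mul hy, ?_, ?_⟩
  · rw [mul_assoc, ← mul_assoc x', hxy', hy.2.1, hxy]
  · rw [mul_assoc, ← mul_assoc y, hyx, hx'.2.1, hyx']

variable [FiniteDimensional k A] [IsAlgClosed k] [CharP k p]

/-- A trace which is a primitive fixed idempotent splits as an orbit of orthogonal idempotents. -/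
theorem exists_conjugate_idem {S T : Subalgebra k A} (σ : A ≃ₐ[k] A)
    (hσS : ∀ x ∈ S, σ x ∈ S) (hσp : ∀ x ∈ S, σ^[p] x = x)
    (hT : ∀ x, x ∈ T ↔ x ∈ S ∧ σ x = x) {e : A} (he : IsPrim T e) {c : A} (hc : c ∈ S)
    (hcc : InCorner e c) (hunit : ¬ IsNilpotent (∑ i ∈ Finset.range p, σ^[i] c)) :
    ∃ j ∈ S, IsIdempotentElem j ∧
      (∀ i < p, ∀ l < p, i ≠ l → σ^[i] j * σ^[l] j = 0) ∧
      ∑ i ∈ Finset.range p, σ^[i] j = e := by
  classical
  have hpp : p.Prime := Fact.out
  have hσe : ∀ i, σ^[i] e = e := fun i => Function.iterate_fixed ((hT e).1 he.mem).2 i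
  have hmem : ∀ (i : ℕ) {x : A}, x ∈ S → σ^[i] x ∈ S := fun i x hx => by
    induction i with
    | zero => exact hx
    | succ i ih => rw [Function.iterate_succ_apply']; exact hσS _ ih
  have hmod : ∀ (m : ℕ) {x : A}, x ∈ S → σ^[m] x = σ^[m % p] x := fun m x hx => by
    conv_lhs => rw [← Nat.mod_add_div m p]
    rw [Function.iterate_add_apply, Function.iterate_mul, Function.iterate_fixed (hσp x hx)]
  let Tr : A → A := fun x => ∑ i ∈ Finset.range p, σ^[i] x
  have hTr : ∀ x ∈ S, InCorner e x → Tr x ∈ T ∧ InCorner e (Tr x) := by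
    intro x hx hxc
    refine ⟨(hT _).2 ⟨sum_mem fun i _ => hmem i hx, ?_⟩, ?_, ?_⟩
    · simp only [Tr, map_sum, ← Function.iterate_succ_apply' σ]
      have h1 := Finset.sum_range_succ' (fun i => σ^[i] x) p
      rw [Finset.sum_range_succ (fun i => σ^[i] x) p, hσp x hx, Function.iterate_zero_apply] at h1
      exact (add_right_cancel h1).symm
    · simp only [Tr, Finset.mul_sum]
      exact Finset.sum_congr rfl fun i _ => by
        conv_lhs => arg 1; rw [← hσe i]
        rw [← iterate_algEquiv_mul, hxc.1]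
    · simp only [Tr, Finset.sum_mul]
      exact Finset.sum_congr rfl fun i _ => by
        conv_lhs => arg 2; rw [← hσe i]
        rw [← iterate_algEquiv_mul, hxc.2]
  -- a primitive summand with invertible trace
  obtain ⟨n₀, hn₀, hn₀c, hn₀u⟩ : ∃ n₀, IsPrim S n₀ ∧ InCorner e n₀ ∧
      ¬ IsNilpotent (Tr (n₀ * c)) := by
    by_contra hno
    have key := idem_induction S (P := fun a : A => InCorner e a → IsNilpotent (Tr (a * c)))
      (fun _ => by simp [Tr, iterate_algEquiv_zero, IsNilpotent.zero])
      (fun a b ha hb hai hbi hab hba iha ihb hsum => by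
        have hac : InCorner e a :=
          ⟨by conv_lhs => arg 2; rw [show a = (a + b) * a by rw [add_mul, hai.eq, hba, add_zero]]
              rw [← mul_assoc, hsum.1, add_mul, hai.eq, hba, add_zero],
           by conv_lhs => arg 1; rw [show a = a * (a + b) by rw [mul_add, hai.eq, hab, add_zero]]
              rw [mul_assoc, hsum.2, mul_add, hai.eq, hab, add_zero]⟩
        have hbc : InCorner e b := by
          have := hsum.sub hac
          rwa [add_sub_cancel_left] at this
        have e1 : Tr ((a + b) * c) = Tr (a * c) + Tr (b * c) := by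
          simp only [Tr, ← Finset.sum_add_distrib]
          refine Finset.sum_congr rfl fun i _ => ?_
          rw [add_mul, iterate_map_add]
        rw [e1]
        obtain ⟨h1, h1'⟩ := hTr _ (mul_mem ha hc) (hac.mul hcc)
        obtain ⟨h2, h2'⟩ := hTr _ (mul_mem hb hc) (hbc.mul hcc)
        exact he.isNilpotent_add h1 h1' h2 h2' (iha hac) (ihb hbc))
      (fun a ha hac => by by_contra h; exact hno ⟨a, ha, hac, h⟩) ((hT e).1 he.mem).1 he.idem
      (inCorner_self he.idem)
    rw [hcc.1] at key
    exact hunit key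
  obtain ⟨hT1, hT2⟩ := hTr _ (mul_mem hn₀.mem hc) (hn₀c.mul hcc)
  obtain ⟨w, hwT, hwc, -, hw⟩ := (he.nilpotent_or_unit hT1 hT2).resolve_left hn₀u
  set a : A := n₀ * c * w with ha
  have hwS := ((hT w).1 hwT).1
  have haS : a ∈ S := mul_mem (mul_mem hn₀.mem hc) hwS
  have hna : n₀ * a = a := by rw [ha, ← mul_assoc, ← mul_assoc, hn₀.idem.eq]
  have hae : InCorner e a := (hn₀c.mul hcc).mul hwc
  have hTa : ∑ i ∈ Finset.range p, σ^[i] a = e := by
    rw [← hw]
    simp only [Tr, Finset.sum_mul]
    refine Finset.sum_congr rfl fun i _ => ?_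
    rw [ha, iterate_algEquiv_mul, Function.iterate_fixed ((hT w).1 hwT).2 i]
  -- the family of idempotents
  let N : ZMod p → A := fun i => σ^[i.val] n₀
  let a' : ZMod p → A := fun i => σ^[i.val] a
  have hnat : ∀ (m : ℕ) {x : A}, x ∈ S → σ^[(m : ZMod p).val] x = σ^[m] x := fun m x hx => by
    rw [ZMod.val_natCast, ← hmod m hx]
  have hshift : ∀ (i : ZMod p) (m : ℕ) {x : A}, x ∈ S →
      σ^[(i + (m : ZMod p)).val] x = σ^[m] (σ^[i.val] x) := fun i m x hx => by
    conv_lhs => rw [← ZMod.natCast_zmod_val i, ← Nat.cast_add, hnat _ hx, add_comm,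
      Function.iterate_add_apply]
  have hsucc : ∀ (i : ZMod p) {x : A}, x ∈ S → σ^[(i + 1).val] x = σ (σ^[i.val] x) :=
    fun i x hx => by
    have := hshift i 1 hx
    rwa [Nat.cast_one, Function.iterate_one] at this
  have hNi : ∀ i, IsIdempotentElem (N i) := fun i => by
    show σ^[i.val] n₀ * σ^[i.val] n₀ = _
    rw [← iterate_algEquiv_mul, hn₀.idem.eq]
  have hNp : ∀ i, IsPrim S (N i) := by
    intro i
    have hback : ∀ x ∈ S, σ^[p - i.val] (σ^[i.val] x) = x := fun x hx => by
      rw [← Function.iterate_add_apply, Nat.sub_add_cancel (ZMod.val_lt i).le, hσp x hx]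
    have hforth : ∀ x ∈ S, σ^[i.val] (σ^[p - i.val] x) = x := fun x hx => by
      rw [← Function.iterate_add_apply, Nat.add_sub_cancel' (ZMod.val_lt i).le, hσp x hx]
    refine ⟨hmem _ hn₀.mem, hNi i, fun h0 => hn₀.ne_zero ?_, fun f hf hfi hfc => ?_⟩
    · rw [← hback n₀ hn₀.mem, show σ^[i.val] n₀ = 0 from h0, iterate_algEquiv_zero]
    · have hfS := hmem (p - i.val) hf
      rcases hn₀.minimal _ hfS (by
          show σ^[p - i.val] f * σ^[p - i.val] f = _
          rw [← iterate_algEquiv_mul, hfi.eq])
        ⟨by conv_lhs => arg 1; rw [← hback n₀ hn₀.mem]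
            rw [← iterate_algEquiv_mul, hfc.1],
         by conv_lhs => arg 2; rw [← hback n₀ hn₀.mem]
            rw [← iterate_algEquiv_mul, hfc.2]⟩ with h | h
      · left; rw [← hforth f hf, h, iterate_algEquiv_zero]
      · right; rw [← hforth f hf, h]
  have hN0 : N 0 = n₀ := by simp [N]
  have hNsucc : ∀ i, N (i + 1) = σ (N i) := fun i => hsucc i hn₀.mem
  have ha'S : ∀ i, a' i ∈ S := fun i => hmem _ haS
  have ha'e : ∀ i, InCorner e (a' i) := fun i =>
    ⟨by show e * σ^[i.val] a = σ^[i.val] a
        conv_lhs => arg 1; rw [← hσe i.val]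
        rw [← iterate_algEquiv_mul, hae.1],
     by show σ^[i.val] a * e = σ^[i.val] a
        conv_lhs => arg 2; rw [← hσe i.val]
        rw [← iterate_algEquiv_mul, hae.2]⟩
  have ha'N : ∀ i, N i * a' i = a' i := fun i => by
    show σ^[i.val] n₀ * σ^[i.val] a = _
    rw [← iterate_algEquiv_mul, hna]
  have ha'sum : ∑ i, a' i = e := by
    rw [← hTa]
    refine Finset.sum_bij' (fun i _ => i.val) (fun l _ => (l : ZMod p)) (fun i _ =>
      Finset.mem_range.2 (ZMod.val_lt i)) (fun l _ => Finset.mem_univ _)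
      (fun i _ => ZMod.natCast_zmod_val i)
      (fun l hl => by rw [ZMod.val_natCast, Nat.mod_eq_of_lt (Finset.mem_range.1 hl)])
      (fun i _ => rfl)
  let E : ZMod p → ZMod p → A := fun i l => a' i * N l
  have hE : ∀ i l, IsHom S (N i) (N l) (E i l) := fun i l =>
    ⟨mul_mem (ha'S i) (hNp l).mem, by show N i * (a' i * N l) = _; rw [← mul_assoc, ha'N],
      by show a' i * N l * N l = _; rw [mul_assoc, (hNi l).eq]⟩
  have hEidem : ∀ i m, ∑ l, E i l * E l m = E i m := by
    intro i m
    calc ∑ l, E i l * E l m = ∑ l, a' i * a' l * N m := by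
          refine Finset.sum_congr rfl fun l _ => ?_
          show a' i * N l * (a' l * N m) = _
          rw [mul_assoc, ← mul_assoc (N l), ha'N, ← mul_assoc]
      _ = E i m := by rw [← Finset.sum_mul, ← Finset.mul_sum, ha'sum, (ha'e i).2]
  have hEσ : ∀ i l, E (i + 1) (l + 1) = σ (E i l) := fun i l => by
    show a' (i + 1) * N (l + 1) = σ (a' i * N l)
    rw [map_mul, hNsucc, show a' (i + 1) = σ (a' i) from hsucc i haS]
  -- the residue system
  obtain ⟨π, hπσ⟩ : ∃ π : ResSystem S N, ∀ i l, ∀ x, IsHom S (N i) (N l) x →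
      π.res (i + 1) (l + 1) (σ x) = π.res i l x := by
    by_cases hiso : ∃ l : ZMod p, l ≠ 0 ∧ ∃ x y, IsHom S (N 0) (N l) x ∧ IsHom S (N l) (N 0) y ∧
        ¬ IsNilpotent (x * y)
    · obtain ⟨l, hl, x, y, hx, hy, hxy⟩ := hiso
      have hH := hx.mul hy
      obtain ⟨z, hzS, hzc, hz, -⟩ :=
        ((hNp 0).nilpotent_or_unit hH.1 hH.inCorner).resolve_left hxy
      have hx' : IsHom S (N 0) (N l) (z * x) :=
        ⟨mul_mem hzS hx.1, by rw [← mul_assoc, hzc.1], by rw [mul_assoc, hx.2.2]⟩
      have hxy' : z * x * y = N 0 := by rw [mul_assoc, hz]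
      have hyx : y * (z * x) = N l := by
        have hH' := hy.mul hx'
        have hi' : IsIdempotentElem (y * (z * x)) := by
          show y * (z * x) * (y * (z * x)) = _
          rw [mul_assoc, ← mul_assoc (z * x) y, hxy', hx'.2.1]
        refine ((hNp l).minimal _ hH'.1 hi' hH'.inCorner).resolve_left fun h0 => (hNp 0).ne_zero ?_
        calc N 0 = z * x * y * (z * x * y) := by rw [hxy', (hNi 0).eq]
          _ = z * x * (y * (z * x)) * y := by simp only [mul_assoc]
          _ = 0 := by rw [h0, mul_zero, zero_mul]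
      have hbase : IdemIso S (N 0) (N l) := ⟨z * x, y, hx', hy, hxy', hyx⟩
      have hmul : ∀ j : ℕ, IdemIso S (N 0) (N ((j + 1 : ℕ) * l)) := by
        intro j
        induction j with
        | zero => simpa using hbase
        | succ j ih =>
          refine ih.trans ?_
          have h1 := hbase.map σ hσS (((j + 1 : ℕ) : ZMod p) * l).val
          have e1 : ∀ i : ZMod p, σ^[(((j + 1 : ℕ) : ZMod p) * l).val] (N i) =
              N (i + ((j + 1 : ℕ) : ZMod p) * l) := fun i => by
            have := hshift i (((j + 1 : ℕ) : ZMod p) * l).val hn₀.mem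
            rw [ZMod.natCast_zmod_val] at this
            exact this.symm
          rw [e1, e1, zero_add] at h1
          convert h1 using 2
          push_cast
          ring
      obtain ⟨v, u, hv, hu, hvu, huv⟩ : IdemIso S (N 0) (N 1) := by
        obtain ⟨j, hj⟩ : ∃ j, (l⁻¹).val = j + 1 := ⟨(l⁻¹).val - 1, by
          have : (l⁻¹).val ≠ 0 := fun h => inv_ne_zero hl ((ZMod.val_eq_zero _).1 h)
          omega⟩
        have h := hmul j
        rwa [← hj, ZMod.natCast_zmod_val, inv_mul_cancel₀ hl] at h
      have hN1 : N 1 = σ n₀ := by rw [← zero_add (1 : ZMod p), hNsucc, hN0]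
      rw [hN0] at hv hu hvu
      rw [hN1] at hv hu huv
      have hpp' : σ^[p] n₀ = n₀ := hσp _ hn₀.mem
      obtain ⟨hP, hQ, hQP, -⟩ := gPath_facts σ hσS hn₀.mem hn₀.idem hu hv huv hvu p
      rw [hpp'] at hP hQ
      have hc0 : cres k n₀ (gPath σ n₀ u p) ≠ (0 : k) := fun h0 => by
        have h1 := hn₀.cres_mul hQ.1 hQ.inCorner hP.1 hP.inCorner
        rw [hQP, hn₀.cres_self, h0, mul_zero] at h1
        exact one_ne_zero h1
      obtain ⟨d, hd⟩ := IsAlgClosed.exists_pow_nat_eq (cres k n₀ (gPath σ n₀ u p))⁻¹ hpp.pos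
      have hd0 : d ≠ 0 := fun h => inv_ne_zero hc0 (by rw [← hd, h, zero_pow hpp.ne_zero])
      have hu' : IsHom S (σ n₀) n₀ (d • u) :=
        ⟨S.smul_mem hu.1 d, by rw [mul_smul_comm, hu.2.1], by rw [smul_mul_assoc, hu.2.2]⟩
      have hv' : IsHom S n₀ (σ n₀) (d⁻¹ • v) :=
        ⟨S.smul_mem hv.1 _, by rw [mul_smul_comm, hv.2.1], by rw [smul_mul_assoc, hv.2.2]⟩
      have huv' : (d • u) * (d⁻¹ • v) = σ n₀ := by
        rw [smul_mul_smul_comm, mul_inv_cancel₀ hd0, huv, one_smul]
      have hvu' : (d⁻¹ • v) * (d • u) = n₀ := by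
        rw [smul_mul_smul_comm, inv_mul_cancel₀ hd0, hvu, one_smul]
      obtain ⟨u₁, hu₁⟩ : ∃ u₁, u₁ = d • u := ⟨_, rfl⟩
      obtain ⟨v₁, hv₁⟩ : ∃ v₁, v₁ = d⁻¹ • v := ⟨_, rfl⟩
      rw [← hu₁] at hu' huv' hvu'
      rw [← hv₁] at hv' huv' hvu'
      have hF := gPath_facts σ hσS hn₀.mem hn₀.idem hu' hv' huv' hvu'
      have hPp : cres k n₀ (gPath σ n₀ u₁ p) = (1 : k) := by
        rw [hu₁, gPath_smul, hn₀.cres_smul hP.1 hP.inCorner, hd, inv_mul_cancel₀ hc0]
      have hQp : cres k n₀ (gCoPath σ n₀ v₁ p) = (1 : k) := by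
        obtain ⟨h1, h2, h3, -⟩ := hF p
        rw [hpp'] at h1 h2
        have h4 := hn₀.cres_mul h2.1 h2.inCorner h1.1 h1.inCorner
        rw [h3, hn₀.cres_self, hPp, mul_one] at h4
        exact h4.symm
      have hsand : ∀ (i l : ℕ) {x : A}, IsHom S (σ^[i] n₀) (σ^[l] n₀) x →
          IsHom S n₀ n₀ (gCoPath σ n₀ v₁ i * x * gPath σ n₀ u₁ l) := fun i l x hx =>
        ((hF i).2.1.mul hx).mul (hF l).1
      refine ⟨
        { res := fun i l x => cres k n₀ (gCoPath σ n₀ v₁ i.val * x * gPath σ n₀ u₁ l.val)
          res_add := fun {i l x y} hx hy => by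
            rw [mul_add, add_mul]
            exact hn₀.cres_add (hsand _ _ hx).1 (hsand _ _ hx).inCorner (hsand _ _ hy).1
              (hsand _ _ hy).inCorner
          res_mul := fun {i l m x y} hx hy => by
            rw [← hn₀.cres_mul (hsand _ _ hx).1 (hsand _ _ hx).inCorner (hsand _ _ hy).1
              (hsand _ _ hy).inCorner]
            congr 1
            have e1 : gPath σ n₀ u₁ l.val * gCoPath σ n₀ v₁ l.val * y = y := by
              rw [(hF l.val).2.2.2]; exact hy.2.1
            calc gCoPath σ n₀ v₁ i.val * (x * y) * gPath σ n₀ u₁ m.val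
                = gCoPath σ n₀ v₁ i.val * (x * (gPath σ n₀ u₁ l.val * gCoPath σ n₀ v₁ l.val * y))
                    * gPath σ n₀ u₁ m.val := by rw [e1]
              _ = _ := by simp only [mul_assoc]
          res_self := fun i => by
            rw [mul_assoc, show N i * gPath σ n₀ u₁ i.val = gPath σ n₀ u₁ i.val from (hF i.val).1.2.1,
              (hF i.val).2.2.1, hn₀.cres_self]
          res_nilpotent := fun {i x} hx h0 => by
            obtain ⟨m, hm⟩ := (hn₀.cres_eq_zero_iff (hsand _ _ hx).1 (hsand _ _ hx).inCorner).1 h0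
            refine ⟨m + 1, ?_⟩
            set P := gPath σ n₀ u₁ i.val
            set Q := gCoPath σ n₀ v₁ i.val
            have hPQ : P * Q = σ^[i.val] n₀ := (hF i.val).2.2.2
            have h2 : ∀ j : ℕ, P * (Q * x * P) ^ (j + 1) * Q = x ^ (j + 1) := by
              intro j
              induction j with
              | zero =>
                rw [pow_one, pow_one, show P * (Q * x * P) * Q = P * Q * x * (P * Q) by
                  simp only [mul_assoc], hPQ, hx.2.1]
                exact hx.2.2
              | succ j ih =>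
                rw [pow_succ (Q * x * P) (j + 1), pow_succ x (j + 1), ← ih,
                  show P * ((Q * x * P) ^ (j + 1) * (Q * x * P)) * Q =
                    P * (Q * x * P) ^ (j + 1) * Q * (x * (P * Q)) by simp only [mul_assoc], hPQ]
                exact congrArg _ hx.2.2
            rw [← h2, pow_succ, hm, zero_mul, mul_zero, zero_mul] },
        fun i l x hx => ?_⟩
      show cres k n₀ (gCoPath σ n₀ v₁ (i + 1).val * σ x * gPath σ n₀ u₁ (l + 1).val) =
        cres k n₀ (gCoPath σ n₀ v₁ i.val * x * gPath σ n₀ u₁ l.val)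
      -- shift of natural indices
      have hnext : cres k n₀ (gCoPath σ n₀ v₁ (i.val + 1) * σ x * gPath σ n₀ u₁ (l.val + 1)) =
          cres k n₀ (gCoPath σ n₀ v₁ i.val * x * gPath σ n₀ u₁ l.val) := by
        set y := gCoPath σ n₀ v₁ i.val * x * gPath σ n₀ u₁ l.val with hy
        have hyH : IsHom S n₀ n₀ y := hsand _ _ hx
        obtain ⟨m, hm⟩ := hn₀.cres_spec hyH.1 hyH.inCorner
        have e1 : gCoPath σ n₀ v₁ (i.val + 1) * σ x * gPath σ n₀ u₁ (l.val + 1) =
            v₁ * σ y * u₁ := by
          simp only [gPath, gCoPath, hy, map_mul, mul_assoc]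
        rw [e1]
        have hyσ := hyH.map σ hσS 1
        simp only [Function.iterate_one] at hyσ
        refine hn₀.cres_eq ((hv'.mul hyσ).mul hu').1 ((hv'.mul hyσ).mul hu').inCorner ?_
        set z := y - cres k n₀ y • n₀ with hz
        have e2 : v₁ * σ y * u₁ - cres k n₀ y • n₀ = v₁ * σ z * u₁ := by
          rw [hz, map_sub, map_smul, mul_sub, sub_mul, mul_smul_comm, smul_mul_assoc, hv'.2.2, hvu']
        rw [e2]
        refine ⟨m + 1, ?_⟩
        have hzσ : σ z * σ n₀ = σ z := by
          rw [← map_mul, hz, sub_mul, smul_mul_assoc, hyH.2.2, hn₀.idem.eq]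
        have h2 : ∀ j : ℕ, (v₁ * σ z * u₁) ^ (j + 1) = v₁ * σ (z ^ (j + 1)) * u₁ := by
          intro j
          induction j with
          | zero => simp
          | succ j ih =>
            rw [pow_succ, ih, pow_succ z (j + 1), map_mul]
            rw [show v₁ * σ (z ^ (j + 1)) * u₁ * (v₁ * σ z * u₁) =
              v₁ * σ (z ^ (j + 1)) * (u₁ * v₁) * σ z * u₁ by simp only [mul_assoc], huv']
            congr 1
            rw [mul_assoc v₁, mul_assoc v₁ _ (σ z)]
            congr 1
            rw [pow_succ, map_mul, mul_assoc (σ (z ^ j)) (σ z) (σ n₀), hzσ]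
        rw [h2, pow_succ, hm, zero_mul, map_zero, mul_zero, zero_mul]
      rw [← hnext]
      have hiv : ∀ j : ZMod p, (j + 1).val = j.val + 1 ∨ (j.val + 1 = p ∧ (j + 1).val = 0) := by
        intro j
        have h1 := ZMod.val_lt j
        have h2 : (j + 1).val = (j.val + 1) % p := by rw [ZMod.val_add, ZMod.val_one]
        rcases eq_or_lt_of_le (show j.val + 1 ≤ p by omega) with h | h
        · exact Or.inr ⟨h, by rw [h2, h, Nat.mod_self]⟩
        · exact Or.inl (by rw [h2, Nat.mod_eq_of_lt h])
      have hσx := hx.map σ hσS 1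
      simp only [Function.iterate_one] at hσx
      have hσx' : IsHom S (σ^[i.val + 1] n₀) (σ^[l.val + 1] n₀) (σ x) := by
        simpa only [Function.iterate_succ_apply'] using hσx
      -- wrap around on the right
      have hR : cres k n₀ (gCoPath σ n₀ v₁ (i.val + 1) * σ x * gPath σ n₀ u₁ (l + 1).val) =
          cres k n₀ (gCoPath σ n₀ v₁ (i.val + 1) * σ x * gPath σ n₀ u₁ (l.val + 1)) := by
        rcases hiv l with h | ⟨h, h'⟩
        · rw [h]
        · obtain ⟨h1, -, -, -⟩ := hF p
          rw [hpp'] at h1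
          have hxr : IsHom S n₀ n₀ (gCoPath σ n₀ v₁ (i.val + 1) * σ x) := by
            have := (hF (i.val + 1)).2.1.mul hσx'
            rwa [h, hpp'] at this
          rw [h', h, hn₀.cres_mul hxr.1 hxr.inCorner h1.1 h1.inCorner, hPp, mul_one]
          show cres k n₀ (gCoPath σ n₀ v₁ (i.val + 1) * σ x * n₀) = _
          rw [hxr.2.2]
      rw [← hR]
      rcases hiv i with h | ⟨h, h'⟩
      · rw [h]
      · obtain ⟨-, h2, -, -⟩ := hF p
        rw [hpp'] at h2
        have hxl : IsHom S n₀ n₀ (σ x * gPath σ n₀ u₁ (l + 1).val) := by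
          rcases hiv l with hl' | ⟨hl', hl''⟩
          · rw [hl']
            have := hσx'.mul (hF (l.val + 1)).1
            rwa [h, hpp'] at this
          · rw [hl'']
            rw [h, hl', hpp'] at hσx'
            exact hσx'.mul (hF 0).1
        rw [h', h, mul_assoc, mul_assoc, hn₀.cres_mul h2.1 h2.inCorner hxl.1 hxl.inCorner, hQp,
          one_mul]
        show cres k n₀ (n₀ * (σ x * gPath σ n₀ u₁ (l + 1).val)) = _
        rw [hxl.2.1]
    · have hdiag : ∀ i l : ZMod p, i ≠ l → ∀ x y, IsHom S (N i) (N l) x → IsHom S (N l) (N i) y →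
          IsNilpotent (x * y) := by
        intro i l hil x y hx hy
        by_contra hnil
        refine hiso ⟨l - i, sub_ne_zero.2 (Ne.symm hil), σ^[(-i).val] x, σ^[(-i).val] y, ?_, ?_,
          fun h => hnil ?_⟩
        · have h := hx.map σ hσS (-i).val
          have e1 := hshift i (-i).val hn₀.mem
          have e2 := hshift l (-i).val hn₀.mem
          rw [ZMod.natCast_zmod_val] at e1 e2
          rw [← e1, ← e2, add_neg_cancel, ← sub_eq_add_neg] at h
          exact h
        · have h := hy.map σ hσS (-i).val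
          have e1 := hshift i (-i).val hn₀.mem
          have e2 := hshift l (-i).val hn₀.mem
          rw [ZMod.natCast_zmod_val] at e1 e2
          rw [← e1, ← e2, add_neg_cancel, ← sub_eq_add_neg] at h
          exact h
        · rw [← iterate_algEquiv_mul] at h
          exact (iterate_algEquiv_nilpotent_iff σ _ _).1 h
      refine ⟨
        { res := fun i l x => if i = l then cres k (N i) x else 0
          res_add := fun {i l x y} hx hy => by
            by_cases h : i = l
            · subst h
              simp only [if_pos]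
              exact (hNp i).cres_add hx.1 hx.inCorner hy.1 hy.inCorner
            · simp [if_neg h]
          res_mul := fun {i l m x y} hx hy => by
            by_cases h1 : i = l
            · subst h1
              by_cases h2 : i = m
              · subst h2
                simp only [if_pos]
                exact (hNp i).cres_mul hx.1 hx.inCorner hy.1 hy.inCorner
              · simp [if_neg h2]
            · simp only [if_neg h1, zero_mul]
              by_cases h2 : i = m
              · subst h2
                rw [if_pos rfl]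
                exact ((hNp i).cres_eq_zero_iff (hx.mul hy).1 (hx.mul hy).inCorner).2
                  (hdiag i l h1 x y hx hy)
              · rw [if_neg h2]
          res_self := fun i => by simp only [if_pos]; exact (hNp i).cres_self
          res_nilpotent := fun {i x} hx h0 => by
            simp only [if_pos] at h0
            exact ((hNp i).cres_eq_zero_iff hx.1 hx.inCorner).1 h0 }, fun i l x hx => ?_⟩
      show (if i + 1 = l + 1 then cres k (N (i + 1)) (σ x) else 0) =
        if i = l then cres k (N i) x else 0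
      by_cases h : i = l
      · subst h
        rw [if_pos rfl, if_pos rfl, hNsucc]
        have h1 := hx.map σ hσS 1
        simp only [Function.iterate_one] at h1
        rw [← hNsucc] at h1 ⊢
        refine (hNp (i + 1)).cres_eq h1.1 h1.inCorner ?_
        rw [hNsucc, ← map_smul, ← map_sub]
        exact ((hNp i).cres_spec hx.1 hx.inCorner).map σ
      · rw [if_neg h, if_neg fun h' => h (add_right_cancel h')]
  -- the residues form a circulant idempotent
  let f : ZMod p → k := fun m => π.res 0 m (E 0 m)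
  have hf : ∀ i m, π.res i m (E i m) = f (m - i) := by
    have key : ∀ (j : ℕ) m, π.res (j : ZMod p) m (E j m) = f (m - j) := by
      intro j
      induction j with
      | zero => intro m; simp [f]
      | succ j ih =>
        intro m
        have h1 := hπσ (j : ZMod p) (m - 1) _ (hE j (m - 1))
        rw [← hEσ, sub_add_cancel, ← Nat.cast_succ] at h1
        rw [h1, ih]
        congr 1
        push_cast
        ring
    intro i m
    have := key i.val m
    rwa [ZMod.natCast_zmod_val] at this
  have hcirc : ∀ m, f m = ∑ l, f l * f (m - l) := fun m => by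
    show π.res 0 m (E 0 m) = _
    rw [← hEidem 0 m, π.res_sum _ _ fun l _ => (hE 0 l).mul (hE l m)]
    refine Finset.sum_congr rfl fun l _ => ?_
    rw [π.res_mul (hE 0 l) (hE l m), hf l m]
  obtain ⟨hoff, h01⟩ := circulant_idem p f hcirc
  rcases h01 with h0 | h1
  · -- all residues vanish
    exfalso
    have hall : ∀ i m, π.res i m (E i m) = 0 := fun i m => by
      rw [hf]
      by_cases h : m - i = 0
      · rw [h, h0]
      · exact hoff _ h
    have hzero : ∀ i m, E i m = 0 := fun i m =>
      π.eq_zero_of_fixed hNp Finset.univ E (fun l => E l m) hE hall (fun l => (hE l m).2.1)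
        (fun l _ => (hEidem l m).symm) i (Finset.mem_univ i)
    have ha0 : ∀ i, a' i = 0 := fun i => by
      rw [← (ha'e i).2, ← ha'sum, Finset.mul_sum]
      refine Finset.sum_eq_zero fun l _ => ?_
      rw [← ha'N l, ← mul_assoc]
      show E i l * _ = 0
      rw [hzero, zero_mul]
    exact he.ne_zero (by rw [← ha'sum]; exact Finset.sum_eq_zero fun i _ => ha0 i)
  · -- the matrix is the identity
    let δ : ZMod p → ZMod p → A := fun i l => if i = l then N i else 0
    let E' : ZMod p → ZMod p → A := fun i l => δ i l - E i l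
    have hδ : ∀ i l, IsHom S (N i) (N l) (δ i l) := fun i l => by
      show IsHom S (N i) (N l) (if i = l then N i else 0)
      split_ifs with h
      · subst h; exact ⟨(hNp i).mem, (hNi i).eq, (hNi i).eq⟩
      · exact IsHom.zero' S _ _
    have hE' : ∀ i l, IsHom S (N i) (N l) (E' i l) := fun i l => (hδ i l).sub' (hE i l)
    have hall : ∀ i l, π.res i l (E' i l) = 0 := fun i l => by
      show π.res i l (δ i l - E i l) = 0
      rw [π.res_sub (hδ i l) (hE i l), hf]
      show π.res i l (if i = l then N i else 0) - f (l - i) = 0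
      by_cases h : i = l
      · subst h
        rw [if_pos rfl, π.res_self, sub_self, h1, sub_self]
      · rw [if_neg h, π.res_zero, hoff _ (sub_ne_zero.2 (Ne.symm h)), sub_zero]
    have hδl : ∀ (i : ZMod p) (X : ZMod p → A), N i * X i = X i →
        ∑ l, δ i l * X l = X i := fun i X hX => by
      rw [Finset.sum_eq_single i]
      · simpa [δ] using hX
      · intro l _ hl; simp [δ, Ne.symm hl]
      · simp
    have hδr : ∀ i m, ∑ l, E i l * δ l m = E i m := fun i m => by
      rw [Finset.sum_eq_single m]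
      · simpa [δ] using (hE i m).2.2
      · intro l _ hl; simp [δ, hl]
      · simp
    have hE'idem : ∀ i m, ∑ l, E' i l * E' l m = E' i m := fun i m => by
      simp only [E', sub_mul, mul_sub, Finset.sum_sub_distrib]
      rw [hδl i (fun l => δ l m) (hδ i m).2.1, hδl i (fun l => E l m) (hE i m).2.1, hδr,
        hEidem]
      abel
    have hzero : ∀ i m, E i m = δ i m := fun i m => by
      have := π.eq_zero_of_fixed hNp Finset.univ E' (fun l => E' l m) hE' hall
        (fun l => (hE' l m).2.1) (fun l _ => (hE'idem l m).symm) i (Finset.mem_univ i)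
      exact (sub_eq_zero.1 this).symm
    have hortho : ∀ i l, a' i * a' l = if i = l then a' i else 0 := fun i l => by
      conv_lhs => rw [← ha'N l, ← mul_assoc]
      show E i l * a' l = _
      rw [hzero]
      show (if i = l then N i else 0) * a' l = _
      split_ifs with h
      · rw [h, ha'N]
      · rw [zero_mul]
    refine ⟨a, haS, ?_, fun i hi l hl hil => ?_, hTa⟩
    · show a * a = a
      have := hortho 0 0
      simpa [a'] using this
    · have := hortho (i : ZMod p) (l : ZMod p)
      simp only [a', ZMod.val_natCast, Nat.mod_eq_of_lt hi, Nat.mod_eq_of_lt hl] at this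
      rw [this, if_neg]
      intro h
      have h' := congrArg ZMod.val h
      rw [ZMod.val_natCast, ZMod.val_natCast, Nat.mod_eq_of_lt hi, Nat.mod_eq_of_lt hl] at h'
      exact hil h'

end Cfsg.Lib.Block
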