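import Cfsg.Agent.Lib.Block.Correspondence
import Cfsg.Agent.Lib.Block.CoverApps
import Cfsg.Agent.Lib.Block.FongStableBlock

/-!
# The theorem of Harris and Knörr

For `Q` the defect group of a block `d` of the normal subgroup `N`, induction from `N_G(Q)` matches
the blocks covering the correspondent of `d` with the blocks of `G` covering `d`.
-/

set_option autoImplicit false
set_option linter.unusedSectionVars false
set_option maxHeartbeats 800000

namespace Cfsg.Lib.Block

open Cfsg
open scoped ComplexConjugate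

universe u

/-- A finite-type instance for the subgroups of a finite group, local to this development. -/
noncomputable local instance (priority := high) fintypeSubgroupHarris {G : Type u} [Group G]
    [Fintype G] (H : Subgroup G) : Fintype H := Fintype.ofFinite H

local notation "C[" Q "]" => Subgroup.centralizer (SetLike.coe Q)

variable {p : ℕ} [hp : Fact p.Prime] {M : Ideal AlgInt} {G : Type u} [Group G] [Fintype G]

section Local

variable {Q H : Subgroup G} {P' : Subgroup H}

include hp in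
/-- A pair of a block of `H` at a group above `Q` is a pair of the induced block. -/
theorem pair_up (hM : IsPModular p M) (hQ : IsPGroup p Q) (hQH : Q ≤ H)
    (hCQ : C[Q] ≤ H) (hHN : H ≤ Subgroup.normalizer (Q : Set G))
    (hP : IsPGroup p P') (hQP : Q ≤ P'.map H.subtype) (hC : C[P'.map H.subtype] ≤ H)
    {c : Set (IrrCharacter H)} {B : Set (IrrCharacter G)} (hind : IsInducedBlock M H c B)
    {f : Set (IrrCharacter C[P'.map H.subtype])} (hf : IsPBlock M f)
    (hcf : IsBrauerPairOf p M c P' (pullSet (cenUp P' hC) f)) :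
    IsBrauerPairOf p M B (P'.map H.subtype) f := by
  classical
  have hc := hind.1
  have hB := hind.2.1
  have hsel := (res_trV_eq_one_iff_mem hM hC hc hP hf).1 hcf
  set v := brVec Q H (indVec B) with hv
  have hvI : VInt hM v := vInt_brVec hM hHN (vInt_indVec hM hB)
  have hvid : VSmall M (v * v - v) := by
    have h := vSmall_brVec_mul hM hQ hCQ hHN (vInt_indVec hM hB) (vInt_indVec hM hB)
    rw [indVec_mul_indVec, Set.inter_self] at h
    have h2 := vSmall_sub hM (vSmall_zero hM) h
    rwa [zero_sub, neg_sub] at h2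
  have hext : ∀ g : G, extF H v g = if g ∈ C[Q] then blockCoeff B g else 0 := by
    intro g
    by_cases hg : g ∈ H
    · rw [extF_of_mem _ hg, hv, zc_brVec hHN]
      by_cases hgQ : g ∈ C[Q]
      · rw [if_pos hgQ, brF_of_mem (h := (⟨g, hg⟩ : H)) hgQ, zc_indVec]
      · rw [if_neg hgQ, brF_of_notMem (h := (⟨g, hg⟩ : H)) hgQ]
    · rw [extF_of_notMem _ hg, if_neg fun h => hg (hCQ h)]
  have hvi : InvOn (P'.map H.subtype) H v := fun x hx g => by
    rw [hext, hext, blockCoeff_conj_invariant]
    exact if_congr (centralizer_conj_mem_iff (hHN (Subgroup.map_subtype_le P' hx))) rfl rfl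
  have hbrU : trV C[P'.map H.subtype] H v = brU (P'.map H.subtype) B := by
    refine zc_injective fun x => ?_
    rw [zc_trV hC, ← extF_coe (brU (P'.map H.subtype) B), extF_brU, hext, if_pos x.2,
      if_pos (Subgroup.centralizer_le hQP x.2)]
  obtain ⟨ψ, hψ⟩ := nonempty_of_isPBlock hM hc
  obtain ⟨χ, hχ⟩ := nonempty_of_isPBlock hM hB
  have h1 : res hM (v ψ) = 1 := (brRel_iff_mem hM hQ hCQ hHN ψ hB hχ).1
    (brRel_of_isInducedBlock hM hQ hQH hCQ hHN hind hψ hχ)
  refine (isBrauerPairOf_iff_brU hM B _ f).2 ⟨⟨hP.map _, hf⟩, hB, fun ξ hξ => ?_⟩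
  rw [← hbrU, res_trV_eq_of_selected hM (hP.map _) rfl hC hvI hvid hvi hc
    (invOn_mono (Subgroup.map_subtype_le P') (invOn_self _)) (hsel ξ hξ) hψ, h1]

include hp in
/-- A block of `H` whose defect group has its normalizer in `H` induces a block with that defect
group and the same Brauer image. -/
theorem defect_agree_of_induced (hM : IsPModular p M) (hQ : IsPGroup p Q) (hQH : Q ≤ H)
    (hCQ : C[Q] ≤ H) (hHN : H ≤ Subgroup.normalizer (Q : Set G))
    (hQP : Q ≤ P'.map H.subtype) (hN : Subgroup.normalizer (P'.map H.subtype : Set G) ≤ H)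
    {c : Set (IrrCharacter H)} {B : Set (IrrCharacter G)} (hind : IsInducedBlock M H c B)
    (hD : IsDefectGroup p M c P') :
    IsDefectGroup p M B (P'.map H.subtype) ∧
      ∀ x : G, x ∈ C[P'.map H.subtype] →
        MemLocalIdeal M (blockCoeff B x - subgroupBlockCoeff H c x) := by
  have hP := isPGroup_defectGroup hM hD
  have hC : C[P'.map H.subtype] ≤ H := (Subgroup.centralizer_le_normalizer _).trans hN
  obtain ⟨B₁, ⟨hB₁, hD₁, hag⟩, -⟩ := (correspondence_over hM hN hP).2 c hind.1 hD
  obtain ⟨f', hmc⟩ := exists_pair_at_defect hM hind.1 hD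
  have hpull : pullSet (cenUp P' hC) (upBlock P' hC f') = f' :=
    pullSet_symm (cenUp P' hC).symm f'
  have hfb : IsPBlock M (upBlock P' hC f') := (isBrauerPair_upBlock hC hmc.1.1).2
  rw [← hpull] at hmc
  obtain rfl : B = B₁ := block_eq_of_pair hM
    (pair_up hM hQ hQH hCQ hHN hP hQP hC hind hfb hmc.1)
    ((pair_iff_of_agree hM hC hP hB₁ hind.1 hag hfb).2 hmc.1)
  exact ⟨hD₁, hag⟩

end Local

/-- Reindexing a central value along an isomorphism. -/
theorem vec_compIrr {A B : Type u} [Group A] [Group B] [Fintype A] [Fintype B] (e : A ≃* B)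
    (F : B → ℂ) (ξ : IrrCharacter B) : vec (fun a => F (e a)) (compIrr e ξ) = vec F ξ := by
  rw [vec, vec, compIrr_apply, map_one]
  congr 1
  exact Fintype.sum_equiv e.toEquiv _ _ fun a => by rw [compIrr_apply]; rfl

variable {N Q : Subgroup G} [hN : N.Normal]

theorem normalizer_subgroupOf_iff (hQN : Q ≤ N) (n : N) :
    n ∈ Subgroup.normalizer (Q.subgroupOf N : Set N) ↔
      (n : G) ∈ Subgroup.normalizer (Q : Set G) := by
  simp only [Subgroup.mem_normalizer_iff, Subgroup.mem_subgroupOf, Subgroup.coe_mul,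
    InvMemClass.coe_inv]
  constructor
  · intro h a
    constructor
    · exact fun ha => (h ⟨a, hQN ha⟩).1 ha
    · intro ha
      have haN : a ∈ N := by simpa [mul_assoc] using hN.conj_mem _ (hQN ha) (n : G)⁻¹
      exact (h ⟨a, haN⟩).2 ha
  · exact fun h a => h (a : G)

/-- The two forms of the normalizer of `Q` in `N`. -/
def normalizerIso (hQN : Q ≤ N) :
    Subgroup.normalizer (Q.subgroupOf N : Set N) ≃*
      N.subgroupOf (Subgroup.normalizer (Q : Set G)) where
  toFun x := ⟨⟨((x : N) : G), (normalizer_subgroupOf_iff hQN x).1 x.2⟩,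
    Subgroup.mem_subgroupOf.2 (x : N).2⟩
  invFun k := ⟨⟨((k : Subgroup.normalizer (Q : Set G)) : G), k.2⟩,
    (normalizer_subgroupOf_iff hQN _).2 (k : Subgroup.normalizer (Q : Set G)).2⟩
  left_inv _ := rfl
  right_inv _ := rfl
  map_mul' _ _ := rfl

local notation "NG" => Subgroup.normalizer (SetLike.coe Q)
local notation "NH" => N.subgroupOf (Subgroup.normalizer (SetLike.coe Q))

/-- The value at a function on `N` of a character of `N_N(Q)`. -/
noncomputable def locVal (f : N → ℂ) (ξ : IrrCharacter NH) : ℂ :=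
  vec (fun k : NH => f ⟨((k : NG) : G), Subgroup.mem_subgroupOf.1 k.2⟩) ξ

include hp in
theorem locVal_sub_mem (hM : IsPModular p M) (hQN : Q ≤ N) {e₁ : Set (IrrCharacter NH)}
    {d : Set (IrrCharacter N)}
    (hed : IsInducedBlock M (Subgroup.normalizer (Q.subgroupOf N : Set N))
      (pullSet (normalizerIso hQN) e₁) d) {ξ : IrrCharacter NH} (hξ : ξ ∈ e₁)
    {θ : IrrCharacter N} (hθ : θ ∈ d) {f : N → ℂ} (hf : IsClassFunction N f)
    (hfi : ∀ n, f n ∈ locRing hM) :
    MemLocalIdeal M (locVal f ξ - vec f θ) := by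
  have h := vec_restrict_sub_mem hM hed (mem_pullSet.2 hξ) hθ (vInt_vec (hM := hM) hf hfi)
  simp only [zc_vec hf] at h
  rw [locVal, ← vec_compIrr (normalizerIso hQN)]
  exact h

include hp in
/-- The block of `G` induced from `N_G(Q)` sees a function on `N` through a constituent. -/
theorem vec_sub_locVal_mem (hM : IsPModular p M) {c : Set (IrrCharacter NG)}
    {B : Set (IrrCharacter G)} (hind : IsInducedBlock M NG c B) {ψ : IrrCharacter NG} (hψ : ψ ∈ c)
    {χ : IrrCharacter G} (hχ : χ ∈ B) {F : G → ℂ} (hF : IsClassFunction G F)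
    (hFi : ∀ g, F g ∈ locRing hM) (hF0 : ∀ g, g ∉ N → F g = 0) {ξ : IrrCharacter NH}
    (hc : classInner (fun k : NH => (ψ : NG → ℂ) k) (ξ : NH → ℂ) ≠ 0) :
    MemLocalIdeal M (vec F χ - locVal (fun n : N => F n) ξ) := by
  haveI : (NH).Normal := hN.subgroupOf _
  have h := vec_restrict_sub_mem hM hind hψ hχ (vInt_vec (hM := hM) hF hFi)
  simp only [zc_vec hF] at h
  rw [vec_eq_vec_constituent (f := fun h : NG => F h) (fun a b => hF (a : G) (b : G))
    (fun g hg => hF0 _ fun h' => hg (Subgroup.mem_subgroupOf.2 h')) hc] at h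
  have := memLocalIdeal_neg hM h
  rwa [neg_sub] at this

include hp in
/-- The theorem of Harris and Knörr. -/
theorem harris_knorr (hM : IsPModular p M) (hQ : IsPGroup p Q) (hQN : Q ≤ N)
    {d : Set (IrrCharacter N)} (hd : IsPBlock M d)
    (hdQ : IsDefectGroup p M d (Q.subgroupOf N)) {e₁ : Set (IrrCharacter NH)}
    (he : IsPBlock M e₁)
    (heQ : IsDefectGroup p M e₁ ((Q.subgroupOf NG).subgroupOf NH))
    (hed : IsInducedBlock M (Subgroup.normalizer (Q.subgroupOf N : Set N))
      (pullSet (normalizerIso hQN) e₁) d) :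
    (∀ c : Set (IrrCharacter NG), IsPBlock M c →
      (∃ ψ ∈ c, ∃ ξ ∈ e₁, classInner (fun k : NH => (ψ : NG → ℂ) k) (ξ : NH → ℂ) ≠ 0) →
      ∃! B : Set (IrrCharacter G), IsInducedBlock M NG c B ∧
        ∃ χ ∈ B, ∃ θ ∈ d, classInner (fun n : N => (χ : G → ℂ) n) (θ : N → ℂ) ≠ 0) ∧
    (∀ B : Set (IrrCharacter G), IsPBlock M B →
      (∃ χ ∈ B, ∃ θ ∈ d, classInner (fun n : N => (χ : G → ℂ) n) (θ : N → ℂ) ≠ 0) →
      ∃! c : Set (IrrCharacter NG), (IsPBlock M c ∧
          ∃ ψ ∈ c, ∃ ξ ∈ e₁, classInner (fun k : NH => (ψ : NG → ℂ) k) (ξ : NH → ℂ) ≠ 0) ∧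
        IsInducedBlock M NG c B) := by
  classical
  haveI : (NH).Normal := hN.subgroupOf _
  have hQH : Q ≤ NG := Subgroup.le_normalizer
  have hCQ : C[Q] ≤ NG := Subgroup.centralizer_le_normalizer _
  -- the orbit of `d` and its idempotent
  set S := orbitSet N d with hS
  have hdS : d ⊆ S := self_subset_orbitSet N d
  have hclosed : ∀ η ∈ S, blockOf M (η : N → ℂ) ⊆ S := by
    rintro η ⟨g, hg⟩ η' hη'
    exact ⟨g, mem_of_sameBlock hM hd hg ((sameBlock_twistIrr N g η η').2 hη')⟩
  have hstS : IsStable S := by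
    rintro g η ⟨x, hx⟩
    refine ⟨g⁻¹ * x, ?_⟩
    rw [twistIrr_mul, twistIrr_inv]
    exact hx
  have hSi := vInt_indVec_closed hM hclosed
  have hFi : ∀ g, upCoeff S g ∈ locRing hM := fun g => by
    by_cases hg : g ∈ N
    · exact (upCoeff_coe (b := S) ⟨g, hg⟩).symm ▸ hSi ⟨g, hg⟩
    · rw [upCoeff_of_notMem hg]; exact Subring.zero_mem _
  have hFc := hstS.isClassFunction_upCoeff
  have hF0 : ∀ g, g ∉ N → upCoeff S g = 0 := fun g hg => upCoeff_of_notMem hg
  have hFN : (fun n : N => upCoeff S n) = zc (indVec S) := funext fun n => upCoeff_coe n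
  have hfc : IsClassFunction N (zc (indVec S)) := fun a b => zc_conj_invariant _ a b
  have hFval : ∀ (χ : IrrCharacter G) (η : IrrCharacter N),
      classInner (fun n : N => (χ : G → ℂ) n) (η : N → ℂ) ≠ 0 →
        vec (upCoeff S) χ = indVec S η := fun χ η h => by
    rw [vec_eq_vec_constituent hFc hF0 h, hFN, congrFun (vec_zc _) η]
  have hinner : ∀ (n : N) (θ : IrrCharacter N), twistIrr N (n : G) θ = θ := fun n θ =>
    Subtype.ext (funext fun k => θ.2.isClassFunction k n)
  -- defect groups in `N_G(Q)` of the relevant blocks meet `N` in `Q`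
  haveI : ((Q.subgroupOf NG).subgroupOf NH).Normal := by
    haveI : (Q.subgroupOf NG).Normal := Subgroup.normal_in_normalizer
    exact Subgroup.Normal.subgroupOf inferInstance _
  haveI : (Q.subgroupOf NG).Normal := Subgroup.normal_in_normalizer
  have hQNH : Q.subgroupOf NG ≤ NH := fun x hx => Subgroup.mem_subgroupOf.2 (hQN hx)
  have hmeet : ∀ c : Set (IrrCharacter NG), IsPBlock M c →
      (∃ ψ ∈ c, ∃ ξ ∈ e₁, classInner (fun k : NH => (ψ : NG → ℂ) k) (ξ : NH → ℂ) ≠ 0) →
      ∃ E : Subgroup NG, IsDefectGroup p M c E ∧ E.map (NG).subtype ⊓ N = Q := by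
    intro c hc hcov
    obtain ⟨E, hE, hEN⟩ := exists_defectGroup_above hM he hQNH heQ hc hcov
    refine ⟨E, hE, ?_⟩
    ext x
    constructor
    · rintro ⟨⟨y, hy, rfl⟩, hx⟩
      have : y ∈ E ⊓ NH := ⟨hy, Subgroup.mem_subgroupOf.2 hx⟩
      rw [hEN] at this
      exact this
    · intro hx
      have : (⟨x, hQH hx⟩ : NG) ∈ E ⊓ NH := hEN.symm ▸ Subgroup.mem_subgroupOf.2 hx
      exact ⟨⟨_, this.1, rfl⟩, hQN hx⟩
  have hnorm : ∀ D : Subgroup G, D ⊓ N = Q → Subgroup.normalizer (D : Set G) ≤ NG := by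
    intro D hD x hx
    refine Subgroup.mem_normalizer_iff.2 fun a => ?_
    rw [← hD]
    simp only [Subgroup.mem_inf]
    exact and_congr (Subgroup.mem_normalizer_iff.1 hx a)
      ⟨fun h => hN.conj_mem a h x, fun h => by simpa [mul_assoc] using hN.conj_mem _ h x⁻¹⟩
  constructor
  · intro c hc hcov
    obtain ⟨B, hind⟩ := exists_isInducedBlock hM hQ hQH hCQ le_rfl hc
    refine ⟨B, ⟨hind, ?_⟩, fun B' hB' => isInducedBlock_unique hM hB'.1 hind⟩
    obtain ⟨ψ, hψ, ξ, hξ, hcon⟩ := hcov
    obtain ⟨χ, hχ⟩ := nonempty_of_isPBlock hM hind.2.1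
    obtain ⟨θ, hθ⟩ := nonempty_of_isPBlock hM hd
    obtain ⟨η, hη⟩ := Char.exists_irr_constituent_res N χ.2
    have h1 := vec_sub_locVal_mem hM hind hψ hχ hFc hFi hF0 hcon
    rw [hFN] at h1
    have h2 := memLocalIdeal_add hM h1 (locVal_sub_mem hM hQN hed hξ hθ hfc hSi)
    rw [sub_add_sub_cancel, congrFun (vec_zc _) θ, hFval χ η hη, indVec, indVec,
      if_pos (hdS hθ)] at h2
    split_ifs at h2 with hmem
    · obtain ⟨g, hg⟩ := hmem
      exact ⟨χ, hχ, _, hg, by rwa [classInner_twistIrr]⟩
    · exact absurd (by simpa using memLocalIdeal_neg hM h2) (not_memLocalIdeal_one hM)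
  · intro B hB hcov
    obtain ⟨D, hD, hDN⟩ := exists_defectGroup_above hM hd hQN hdQ hB hcov
    have hnD := hnorm D hDN
    have hDH : D ≤ NG := Subgroup.le_normalizer.trans hnD
    set P' := D.subgroupOf NG with hP'
    have hmap : P'.map (NG).subtype = D := Subgroup.map_subgroupOf_eq_of_le hDH
    have hP'p : IsPGroup p P' := (isPGroup_defectGroup hM hD).comap_subtype
    obtain ⟨c, ⟨hc, hcD, hag⟩, hcu⟩ := (correspondence_over hM (hmap.symm ▸ hnD) hP'p).1 B hB
      (hmap.symm ▸ hD)
    have hind : IsInducedBlock M NG c B := by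
      obtain ⟨B₂, hind₂⟩ := exists_isInducedBlock hM hQ hQH hCQ le_rfl hc
      obtain ⟨hD₂, hag₂⟩ := defect_agree_of_induced hM hQ hQH hCQ le_rfl
        (by rw [hmap]; exact hDN ▸ inf_le_left) (hmap.symm ▸ hnD) hind₂ hcD
      obtain ⟨B₃, -, hu⟩ := (correspondence_over hM (hmap.symm ▸ hnD) hP'p).2 c hc hcD
      rwa [(hu B ⟨hB, hmap.symm ▸ hD, hag⟩).trans (hu B₂ ⟨hind₂.2.1, hD₂, hag₂⟩).symm]
    refine ⟨c, ⟨⟨hc, ?_⟩, hind⟩, ?_⟩
    · -- `c` covers `e₁`
      obtain ⟨χ, hχ, θ, hθ, hcθ⟩ := hcov
      obtain ⟨ψ, hψ⟩ := nonempty_of_isPBlock hM hc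
      -- every constituent gives a block with defect group `Q` inducing a block of `N`
      have hsub : ∀ ξ : IrrCharacter NH,
          classInner (fun k : NH => (ψ : NG → ℂ) k) (ξ : NH → ℂ) ≠ 0 →
          IsDefectGroup p M (pullSet (normalizerIso hQN) (blockOf M (ξ : NH → ℂ)))
              ((Q.subgroupOf N).subgroupOf (Subgroup.normalizer (Q.subgroupOf N : Set N))) ∧
            ∃ d₁ : Set (IrrCharacter N),
              IsInducedBlock M (Subgroup.normalizer (Q.subgroupOf N : Set N))
                (pullSet (normalizerIso hQN) (blockOf M (ξ : NH → ℂ))) d₁ ∧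
              IsDefectGroup p M d₁ (Q.subgroupOf N) := by
        intro ξ hξc
        obtain ⟨E, hE, hEd, -⟩ := exists_defectGroup_meet (N := NH) hM (isPBlock_blockOf ξ) hc
          ⟨ψ, hψ, ξ, self_mem_blockOf hM ξ, hξc⟩
        obtain ⟨x, hx⟩ := exists_conj_defectGroup hM hc hcD hE
        have hEQ : E ⊓ NH = Q.subgroupOf NG := by
          rw [← hx, map_conj_inf_normal]
          have h1 : P' ⊓ NH = Q.subgroupOf NG := by
            ext y
            rw [hP', Subgroup.mem_inf, Subgroup.mem_subgroupOf, Subgroup.mem_subgroupOf,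
              Subgroup.mem_subgroupOf, ← Subgroup.mem_inf, hDN]
          rw [h1]
          exact map_conj_eq_self ((Subgroup.normalizer_eq_top_iff.2 inferInstance).ge (Subgroup.mem_top _))
        rw [hEQ] at hEd
        have h := isDefectGroup_pullSet (normalizerIso hQN) hEd
        have heq : ((Q.subgroupOf NG).subgroupOf NH).map (normalizerIso hQN).symm.toMonoidHom =
            (Q.subgroupOf N).subgroupOf (Subgroup.normalizer (Q.subgroupOf N : Set N)) := by
          ext y
          constructor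
          · rintro ⟨z, hz, rfl⟩
            exact hz
          · intro hy
            exact ⟨normalizerIso hQN y, hy, (normalizerIso hQN).symm_apply_apply y⟩
        rw [heq] at h
        refine ⟨h, ?_⟩
        obtain ⟨d₁, hd₁⟩ := exists_isInducedBlock hM (hQ.comap_subtype (K := N))
          Subgroup.le_normalizer (Subgroup.centralizer_le_normalizer _) le_rfl
          (isPBlock_pullSet (normalizerIso hQN) (isPBlock_blockOf ξ))
        exact ⟨d₁, hd₁,
          isDefectGroup_of_normalizer_block hM (hQ.comap_subtype (K := N)) h hd₁⟩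
      obtain ⟨ξ, hξc⟩ := Char.exists_irr_constituent_res NH ψ.2
      obtain ⟨-, d₁, hd₁, hd₁Q⟩ := hsub ξ hξc
      obtain ⟨θ₁, hθ₁⟩ := nonempty_of_isPBlock hM hd₁.2.1
      have hθ₁S : θ₁ ∈ S := by
        by_contra hn
        have h1 := vec_sub_locVal_mem hM hind hψ hχ hFc hFi hF0 hξc
        rw [hFN] at h1
        have h2 := memLocalIdeal_add hM h1
          (locVal_sub_mem hM hQN hd₁ (self_mem_blockOf hM ξ) hθ₁ hfc hSi)
        rw [sub_add_sub_cancel, congrFun (vec_zc _) θ₁, hFval χ θ hcθ, indVec, indVec,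
          if_pos (hdS hθ), if_neg hn, sub_zero] at h2
        exact not_memLocalIdeal_one hM h2
      obtain ⟨g, hg⟩ := hθ₁S
      -- the conjugating element may be taken to normalise `Q`
      have hdd : d = pullSet (MulAut.conjNormal g : N ≃* N) d₁ :=
        isPBlock_eq_of_mem hM hd (isPBlock_pullSet _ hd₁.2.1) hg (mem_pullSet.2 hθ₁)
      obtain ⟨n, hn⟩ := exists_conj_defectGroup hM hd hdQ
        (hdd ▸ isDefectGroup_pullSet (MulAut.conjNormal g : N ≃* N) hd₁Q)
      have hh : g * (n : G) ∈ NG := by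
        refine Subgroup.mem_normalizer_iff.2 fun a => ?_
        have hmem : ∀ b : N, b ∈ (Q.subgroupOf N).map (MulAut.conj n).toMonoidHom ↔
            g * (b : G) * g⁻¹ ∈ Q := by
          intro b
          rw [hn, Subgroup.mem_map_equiv, MulEquiv.symm_symm, Subgroup.mem_subgroupOf,
            MulAut.conjNormal_apply]
        constructor
        · intro ha
          have h := (hmem (n * ⟨a, hQN ha⟩ * n⁻¹)).1
            ⟨⟨a, hQN ha⟩, ha, by simp⟩
          simpa [mul_assoc] using h
        · intro ha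
          have haN : a ∈ N := by
            simpa [mul_assoc] using hN.conj_mem _ (hQN ha) (g * (n : G))⁻¹
          have h : n * ⟨a, haN⟩ * n⁻¹ ∈ (Q.subgroupOf N).map (MulAut.conj n).toMonoidHom :=
            (hmem _).2 (by simpa [mul_assoc] using ha)
          obtain ⟨b, hb, hba⟩ := h
          have : b = ⟨a, haN⟩ := (MulAut.conj n).injective (hba.trans (by simp))
          rw [this] at hb
          exact hb
      set h : NG := ⟨g * (n : G), hh⟩ with hhdef
      have hgd : twistIrr N (h : G) θ₁ ∈ d := by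
        show twistIrr N (g * (n : G)) θ₁ ∈ d
        rw [twistIrr_mul, hinner]
        exact hg
      have hξ'c : classInner (fun k : NH => (ψ : NG → ℂ) k)
          (twistIrr NH h ξ : NH → ℂ) ≠ 0 := by rwa [classInner_twistIrr]
      obtain ⟨hQ', d₂, hd₂, -⟩ := hsub _ hξ'c
      obtain ⟨θ₂, hθ₂⟩ := nonempty_of_isPBlock hM hd₂.2.1
      -- the block induced from the conjugate is `d`
      have hd₂d : d₂ = d := by
        refine isPBlock_eq_of_mem hM hd₂.2.1 hd hθ₂ (by_contra fun hn => ?_)
        set f : N → ℂ := zc (indVec d)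
        have hfd : IsClassFunction N f := fun a b => zc_conj_invariant _ a b
        set f' : N → ℂ := fun k => f ((MulAut.conjNormal (h : G) : N ≃* N).symm k) with hf'
        have hf'c : IsClassFunction N f' := fun a b => by
          simp only [hf', map_mul, map_inv]
          exact hfd _ _
        have h1 := locVal_sub_mem hM hQN hd₂ (self_mem_blockOf hM _) hθ₂ hfd
          (vInt_indVec hM hd)
        have h2 := locVal_sub_mem hM hQN hd₁ (self_mem_blockOf hM ξ) hθ₁ hf'c
          (fun k => vInt_indVec hM hd _)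
        have e1 : vec f' θ₁ = indVec d (twistIrr N (h : G) θ₁) := by
          rw [← congrFun (vec_zc (indVec d)) (twistIrr N (h : G) θ₁), twistIrr,
            ← vec_compIrr (MulAut.conjNormal (h : G) : N ≃* N) f']
          simp [hf', f]
        have e2 : locVal f' ξ = locVal f (twistIrr NH h ξ) := by
          rw [locVal, locVal, twistIrr, ← vec_compIrr (MulAut.conjNormal h : NH ≃* NH)]
          congr 1
          funext k
          simp only [hf']
          congr 1
          rw [MulEquiv.symm_apply_eq]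
          exact Subtype.ext rfl
        rw [e1, e2, indVec, if_pos hgd] at h2
        rw [congrFun (vec_zc _) θ₂, indVec, if_neg hn] at h1
        have h3 := memLocalIdeal_sub hM h1 h2
        rw [sub_sub_sub_cancel_left, sub_zero] at h3
        exact not_memLocalIdeal_one hM h3
      rw [hd₂d] at hd₂
      have heq := normalizer_block_unique hM (hQ.comap_subtype (K := N)) hQ' hd₂ hed
      rw [pullSet_injective _ heq]
      exact ⟨ψ, hψ, twistIrr NH h ξ, self_mem_blockOf hM _, hξ'c⟩
    · rintro c' ⟨⟨hc', hcov'⟩, hind'⟩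
      obtain ⟨E, hE, hEN⟩ := hmeet c' hc' hcov'
      obtain ⟨hDE, -⟩ := defect_agree_of_induced hM hQ hQH hCQ le_rfl
        (hEN.symm.trans_le inf_le_left)
        (hnorm _ hEN) hind' hE
      obtain ⟨g, hg⟩ := exists_conj_defectGroup hM hB hDE hD
      have hgH : g ∈ NG := by
        refine Subgroup.mem_normalizer_iff.2 fun a => ?_
        have hQc : Q.map (MulAut.conj g).toMonoidHom = Q := by
          conv_lhs => rw [← hEN, ← map_conj_inf_normal, hg, hDN]
        constructor
        · intro ha; rw [← hQc]; exact ⟨a, ha, rfl⟩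
        · intro ha
          rw [← hQc] at ha
          obtain ⟨b, hb, hba⟩ := ha
          rwa [← (MulAut.conj g).injective hba]
      have hEP : E.map (MulAut.conj (⟨g, hgH⟩ : NG)).toMonoidHom = P' := by
        refine Subgroup.map_injective (Subgroup.subtype_injective NG) ?_
        rw [hmap, ← hg, Subgroup.map_map, Subgroup.map_map]
        congr 1
      have hc'D : IsDefectGroup p M c' P' := hEP ▸ isDefectGroup_conj hM hc' hE _
      exact hcu c' ⟨hc', hc'D, (defect_agree_of_induced hM hQ hQH hCQ le_rfl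
        (by rw [hmap]; exact hDN ▸ inf_le_left) (hmap.symm ▸ hnD) hind' hc'D).2⟩

end Cfsg.Lib.Block
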