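import Cfsg.Agent.Lib.Block.HarrisKnorr

/-!
# Harris–Knörr in terms of `N_G(Q) ⊓ N`
-/

set_option autoImplicit false
set_option linter.unusedSectionVars false

namespace Cfsg.Lib.Block

open Cfsg

universe u

variable {G : Type u} [Group G] {H N : Subgroup G}

/-- `N ⊓ H` seen in `H`. -/
def infIso (H N : Subgroup G) : N.subgroupOf H ≃* (H ⊓ N : Subgroup G) where
  toFun k := ⟨((k : H) : G), (k : H).2, Subgroup.mem_subgroupOf.1 k.2⟩
  invFun l := ⟨⟨(l : G), l.2.1⟩, Subgroup.mem_subgroupOf.2 l.2.2⟩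
  left_inv _ := rfl
  right_inv _ := rfl
  map_mul' _ _ := rfl

theorem classInner_infIso [Fintype G] [Fintype (N.subgroupOf H)] [Fintype (H ⊓ N : Subgroup G)]
    (ψ : IrrCharacter H) (ξ : IrrCharacter (H ⊓ N : Subgroup G)) :
    classInner (fun k : N.subgroupOf H => (ψ : H → ℂ) k)
        (compIrr (infIso H N) ξ : N.subgroupOf H → ℂ) =
      classInner (fun l : (H ⊓ N : Subgroup G) => (ψ : H → ℂ) (Subgroup.inclusion inf_le_left l))
        (ξ : (H ⊓ N : Subgroup G) → ℂ) := by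
  simp only [classInner, Nat.card_congr (infIso H N).toEquiv]
  congr 1
  refine Fintype.sum_equiv (infIso H N).toEquiv _ _ fun k => ?_
  rw [compIrr_apply]
  rfl

theorem cov_infIso_iff [Fintype G] [Fintype (N.subgroupOf H)] [Fintype (H ⊓ N : Subgroup G)]
    (c : Set (IrrCharacter H)) (e : Set (IrrCharacter (H ⊓ N : Subgroup G))) :
    (∃ ψ ∈ c, ∃ ξ ∈ pullSet (infIso H N) e,
        classInner (fun k : N.subgroupOf H => (ψ : H → ℂ) k) (ξ : N.subgroupOf H → ℂ) ≠ 0) ↔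
      ∃ ψ ∈ c, ∃ ξ ∈ e, classInner (fun l : (H ⊓ N : Subgroup G) =>
        (ψ : H → ℂ) (Subgroup.inclusion inf_le_left l)) (ξ : (H ⊓ N : Subgroup G) → ℂ) ≠ 0 := by
  constructor
  · rintro ⟨ψ, hψ, ξ, hξ, h⟩
    rw [← compIrr_compIrr_symm (infIso H N) ξ] at hξ h
    rw [classInner_infIso] at h
    exact ⟨ψ, hψ, _, mem_pullSet.1 hξ, h⟩
  · rintro ⟨ψ, hψ, ξ, hξ, h⟩
    exact ⟨ψ, hψ, _, mem_pullSet.2 hξ, by rwa [classInner_infIso]⟩

/-- Induction inside `N` and induction from the normalizer computed in `N`. -/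
theorem inducedCentralChar_normalizerIso [Fintype G] [hN : N.Normal] {Q : Subgroup G} (hQN : Q ≤ N)
    (ξ : IrrCharacter (Subgroup.normalizer (Q : Set G) ⊓ N : Subgroup G)) (n : N) :
    inducedCentralChar (Subgroup.normalizer (Q.subgroupOf N : Set N))
        (compIrr ((normalizerIso hQN).trans (infIso _ N)) ξ : _ → ℂ) n =
      inducedCentralCharIn N (Subgroup.normalizer (Q : Set G) ⊓ N)
        (ξ : (Subgroup.normalizer (Q : Set G) ⊓ N : Subgroup G) → ℂ) (n : G) := by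
  simp only [inducedCentralChar, inducedCentralCharIn]
  refine finsum_mem_eq_of_bijOn ((normalizerIso hQN).trans (infIso _ N))
    (MulEquiv.toEquiv _ |>.bijOn fun x => ?_) fun x _ => by rw [compIrr_apply, compIrr_apply, map_one]
  simp only [Set.mem_setOf_eq, MulEquiv.toEquiv_eq_coe, EquivLike.coe_coe]
  constructor
  · rintro ⟨y, hy⟩
    exact isConj_iff.2 ⟨y⁻¹, Subtype.ext (by
      show (y : G)⁻¹ * (n : G) * (y : G)⁻¹⁻¹ = ((x : N) : G)
      have hy' : (y : G) * ((x : N) : G) * (y : G)⁻¹ = (n : G) := hy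
      rw [← hy']; group)⟩
  · intro h
    obtain ⟨y, hy⟩ := isConj_iff.1 h
    refine ⟨y⁻¹, ?_⟩
    have hy' : (y : G) * (n : G) * (y : G)⁻¹ = ((x : N) : G) := congrArg Subtype.val hy
    show (y : G)⁻¹ * ((x : N) : G) * (y : G)⁻¹⁻¹ = (n : G)
    rw [← hy']; group

end Cfsg.Lib.Block
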