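import Cfsg.Agent.Lib.Block.ContrSum
import Cfsg.Agent.Lib.Block.ContrGalois
import Cfsg.Agent.Lib.Block.InducedFull

/-!
# Heights, the inertial index and the center of the defect group
-/

set_option autoImplicit false
set_option linter.unusedSectionVars false
set_option maxHeartbeats 1000000

namespace Cfsg.Lib.Block

open Cfsg
open scoped ComplexConjugate

universe u

noncomputable local instance (priority := high) fintypeSubgroupHeightInertial {A : Type u}
    [Group A] [Fintype A] (H : Subgroup A) : Fintype H := Fintype.ofFinite H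

local notation "C[" Q "]" => Subgroup.centralizer (SetLike.coe Q)

variable {p : ℕ} {M : Ideal AlgInt} {G : Type u} [Group G] [Fintype G] [Fact p.Prime]
  (hM : IsPModular p M)

theorem card_conj_image_le {T H : Subgroup G} (z : G) (hH : ∀ h ∈ H, h * z * h⁻¹ = z)
    [DecidableEq G] :
    ((Finset.univ : Finset T).image fun y : T => (y : G) * z * (y : G)⁻¹).card ≤ H.relIndex T := by
  classical
  haveI : Fintype (T ⧸ H.subgroupOf T) := Fintype.ofFinite _
  have hsub : ((Finset.univ : Finset T).image fun y : T => (y : G) * z * (y : G)⁻¹) ⊆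
      (Finset.univ : Finset (T ⧸ H.subgroupOf T)).image
        fun q => ((q.out : T) : G) * z * ((q.out : T) : G)⁻¹ := by
    intro v hv
    obtain ⟨y, -, rfl⟩ := Finset.mem_image.1 hv
    refine Finset.mem_image.2 ⟨QuotientGroup.mk y, Finset.mem_univ _, ?_⟩
    obtain ⟨h, hh⟩ := QuotientGroup.mk_out_eq_mul (H.subgroupOf T) y
    rw [hh, Subgroup.coe_mul]
    conv_rhs => rw [← hH _ (Subgroup.mem_subgroupOf.1 h.2)]
    group
  refine (Finset.card_le_card hsub).trans (Finset.card_image_le.trans (le_of_eq ?_))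
  rw [Finset.card_univ, ← Nat.card_eq_fintype_card]
  rfl

open Classical in
include hM in
/-- The contributions at the center of a defect group add up to at most `e * p ^ d`. -/
theorem sum_center_contr_le {B : Set (IrrCharacter G)} {D : Subgroup G}
    {c : Set (IrrCharacter C[D])} (hmax : IsMaximalBrauerPair p M B D c) {T H : Subgroup G}
    (hT : ∀ g : G, g ∈ T ↔ conjIdx g ⟨D, c⟩ = ⟨D, c⟩) (hH : H = D ⊔ C[D]) {ι : Type*} [Fintype ι]
    (zv : ι → G) (hinj : Function.Injective zv)
    (hz : ∀ i, zv i ∈ D ∧ ∀ x ∈ D, x * zv i = zv i * x)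
    (f : ∀ i, Set (IrrCharacter C[Subgroup.zpowers (zv i)]))
    (hf : ∀ i, SubpairLE p M (Subgroup.zpowers (zv i)) (f i) D c) (d : ℕ) (χ : IrrCharacter G) :
    ∑ i, (contr p d (zv i) (f i) χ χ).re ≤ (H.relIndex T : ℝ) * (p : ℝ) ^ d := by
  have hD := isDefectGroup_of_maximal hM hmax
  have hDp := isPGroup_defectGroup hM hD
  have hord : ∀ i, ∃ k : ℕ, orderOf (zv i) = p ^ k := fun i => by
    obtain ⟨k, hk⟩ := IsPGroup.iff_orderOf.1 hDp ⟨zv i, (hz i).1⟩
    exact ⟨k, by rwa [Subgroup.orderOf_mk] at hk⟩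
  have hDC : ∀ i, D ≤ C[Subgroup.zpowers (zv i)] := fun i x hx => by
    rw [← centralizer_singleton_eq]
    exact Subgroup.mem_centralizer_singleton_iff.2 ((hz i).2 x hx)
  let φ : ι × G → Σ x : G, Set (IrrCharacter C[Subgroup.zpowers x]) := fun q =>
    ⟨q.2 * zv q.1 * q.2⁻¹,
      conjSet (conjMaps_centralizer (conj_zpowers_map q.2 (zv q.1))) (f q.1)⟩
  let r : (Σ x : G, Set (IrrCharacter C[Subgroup.zpowers x])) → ℝ :=
    fun q => (contr p d q.1 q.2 χ χ).re
  set X := Finset.univ.filter (fun x : G => ∃ k : ℕ, orderOf x = p ^ k) with hX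
  set Pairs := X.sigma fun x => blocksOf M C[Subgroup.zpowers x] with hPairs
  have hφP : ∀ q ∈ (Finset.univ : Finset (ι × G)), φ q ∈ Pairs := by
    rintro ⟨i, g⟩ -
    refine Finset.mem_sigma.2 ⟨Finset.mem_filter.2 ⟨Finset.mem_univ _, ?_⟩, ?_⟩
    · obtain ⟨k, hk⟩ := hord i
      exact ⟨k, by rw [← hk]; exact (MulAut.conj g).orderOf_eq (zv i)⟩
    · exact (mem_blocksOf hM).2 (isPBlock_conjSet _
        (isBrauerPair_of_le (hf i) hmax.1.1).2)
  have hfib : ∀ q ∈ Pairs, ((Finset.univ : Finset (ι × G)).filter fun w => φ w = q).card ≤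
      H.relIndex T * Nat.card C[Subgroup.zpowers q.1] := by
    intro q _
    set S := (Finset.univ : Finset (ι × G)).filter fun w => φ w = q with hS
    rcases S.eq_empty_or_nonempty with h0 | ⟨⟨i₀, g₀⟩, h₀⟩
    · rw [h0, Finset.card_empty]; exact Nat.zero_le _
    have hq₀ : φ (i₀, g₀) = q := (Finset.mem_filter.1 h₀).2
    have himg : (S.image Prod.fst).image zv ⊆
        (Finset.univ : Finset T).image fun y : T => (y : G) * zv i₀ * (y : G)⁻¹ := by
      intro v hv
      obtain ⟨i, hi, rfl⟩ := Finset.mem_image.1 hv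
      obtain ⟨⟨i', g⟩, hw, rfl⟩ := Finset.mem_image.1 hi
      have hq : φ (i', g) = φ (i₀, g₀) := (Finset.mem_filter.1 hw).2.trans hq₀.symm
      have hx : g * zv i' * g⁻¹ = g₀ * zv i₀ * g₀⁻¹ := congrArg Sigma.fst hq
      have hpair : conjIdx g ⟨Subgroup.zpowers (zv i'), f i'⟩ =
          conjIdx g₀ ⟨Subgroup.zpowers (zv i₀), f i₀⟩ := by
        rw [conjIdx_eq (conj_zpowers_map g (zv i')), conjIdx_eq (conj_zpowers_map g₀ (zv i₀))]
        exact congrArg (fun w : Σ x : G, Set (IrrCharacter C[Subgroup.zpowers x]) =>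
          (⟨Subgroup.zpowers w.1, w.2⟩ : BrauerPairIdx G)) hq
      have hk : conjIdx (g⁻¹ * g₀) ⟨Subgroup.zpowers (zv i₀), f i₀⟩ =
          ⟨Subgroup.zpowers (zv i'), f i'⟩ := by
        rw [← conjIdx_mul, ← hpair, conjIdx_mul, inv_mul_cancel, conjIdx_one]
      obtain ⟨y, w, hy, hw', hyw⟩ :=
        exists_conj_factor_central hM hmax (hDC i₀) (hDC i') (hf i₀) (hf i') hk
      refine Finset.mem_image.2 ⟨⟨y, (hT y).2 hy⟩, Finset.mem_univ _, ?_⟩
      have hwz : w * zv i₀ * w⁻¹ = zv i₀ := by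
        rw [← Subgroup.mem_centralizer_iff.1 hw' (zv i₀) (Subgroup.mem_zpowers _),
          mul_inv_cancel_right]
      show y * zv i₀ * y⁻¹ = zv i'
      calc y * zv i₀ * y⁻¹ = y * (w * zv i₀ * w⁻¹) * y⁻¹ := by rw [hwz]
        _ = (g⁻¹ * g₀) * zv i₀ * (g⁻¹ * g₀)⁻¹ := by rw [hyw]; group
        _ = g⁻¹ * (g₀ * zv i₀ * g₀⁻¹) * g := by group
        _ = zv i' := by rw [← hx]; group
    have horb : (S.image Prod.fst).card ≤ H.relIndex T := by
      rw [← Finset.card_image_of_injective _ hinj]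
      refine (Finset.card_le_card himg).trans (card_conj_image_le _ fun h hh => ?_)
      have hle : H ≤ Subgroup.centralizer ({zv i₀} : Set G) := by
        rw [hH]
        refine sup_le (fun x hx => Subgroup.mem_centralizer_singleton_iff.2 ((hz i₀).2 x hx))
          fun x hx => Subgroup.mem_centralizer_singleton_iff.2
            (Subgroup.mem_centralizer_iff.1 hx (zv i₀) (hz i₀).1).symm
      rw [Subgroup.mem_centralizer_singleton_iff.1 (hle hh), mul_inv_cancel_right]
    rw [mul_comm]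
    refine (Finset.card_le_mul_card_image S (Nat.card C[Subgroup.zpowers q.1]) fun i _ => ?_).trans
      (Nat.mul_le_mul_left _ horb)
    rcases (S.filter fun w => w.1 = i).eq_empty_or_nonempty with h0 | ⟨⟨i₁, g₁⟩, h₁⟩
    · rw [h0, Finset.card_empty]; exact Nat.zero_le _
    obtain ⟨h₁S, h₁i⟩ := Finset.mem_filter.1 h₁
    have hx₁ : g₁ * zv i₁ * g₁⁻¹ = q.1 := congrArg Sigma.fst (Finset.mem_filter.1 h₁S).2
    rw [Nat.card_eq_fintype_card, ← Fintype.card_coe]
    have hmem : ∀ w : {x // x ∈ S.filter fun w => w.1 = i},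
        w.1.2 * g₁⁻¹ ∈ C[Subgroup.zpowers q.1] := by
      rintro ⟨⟨i', g⟩, hw⟩
      obtain ⟨hwS, hwi⟩ := Finset.mem_filter.1 hw
      simp only at hwi h₁i
      subst hwi
      subst h₁i
      have hx : g * zv i₁ * g⁻¹ = q.1 := congrArg Sigma.fst (Finset.mem_filter.1 hwS).2
      rw [← centralizer_singleton_eq, Subgroup.mem_centralizer_singleton_iff]
      calc g * g₁⁻¹ * q.1 = g * g₁⁻¹ * (g₁ * zv i₁ * g₁⁻¹) := by rw [hx₁]
        _ = g * zv i₁ * g⁻¹ * (g * g₁⁻¹) := by group
        _ = q.1 * (g * g₁⁻¹) := by rw [hx]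
    refine Fintype.card_le_of_injective (fun w => (⟨_, hmem w⟩ : C[Subgroup.zpowers q.1])) ?_
    rintro ⟨⟨i', g⟩, hw⟩ ⟨⟨i'', g'⟩, hw'⟩ he
    have h1 := (Finset.mem_filter.1 hw).2
    have h2 := (Finset.mem_filter.1 hw').2
    simp only at h1 h2
    have := mul_right_cancel (congrArg Subtype.val he)
    subst h1 h2
    simp only at this
    subst this
    rfl
  have hrφ : ∀ i g, r (φ (i, g)) = (contr p d (zv i) (f i) χ χ).re := fun i g => by
    simp only [r, φ, contr_conjSet]
  have hG : (0 : ℝ) < (Nat.card G : ℝ) := Nat.cast_pos.2 Nat.card_pos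
  refine le_of_mul_le_mul_left ?_ hG
  calc (Nat.card G : ℝ) * ∑ i, (contr p d (zv i) (f i) χ χ).re
      = ∑ w : ι × G, r (φ w) := by
        rw [Fintype.sum_prod_type, Finset.mul_sum]
        simp [hrφ, Nat.card_eq_fintype_card]
    _ = ∑ q ∈ Pairs,
          (((Finset.univ : Finset (ι × G)).filter fun w => φ w = q).card : ℝ) * r q := by
        rw [← Finset.sum_fiberwise_of_maps_to hφP]
        refine Finset.sum_congr rfl fun q _ => ?_
        rw [← nsmul_eq_mul, ← Finset.sum_const]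
        exact Finset.sum_congr rfl fun w hw => by rw [(Finset.mem_filter.1 hw).2]
    _ ≤ ∑ q ∈ Pairs, ((H.relIndex T * Nat.card C[Subgroup.zpowers q.1] : ℕ) : ℝ) * r q :=
        Finset.sum_le_sum fun q hq =>
          mul_le_mul_of_nonneg_right (Nat.cast_le.2 (hfib q hq)) (contr_self_re_nonneg _ _ _)
    _ = (H.relIndex T : ℝ) * (∑ x ∈ X, (Nat.card C[Subgroup.zpowers x] : ℂ) *
          ∑ b ∈ blocksOf M C[Subgroup.zpowers x], contr p d x b χ χ).re := by
        rw [hPairs, Finset.sum_sigma, Complex.re_sum, Finset.mul_sum]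
        refine Finset.sum_congr rfl fun x _ => ?_
        rw [← Complex.ofReal_natCast, Complex.re_ofReal_mul, Complex.re_sum, ← mul_assoc,
          Finset.mul_sum]
        simp [r]
    _ = (Nat.card G : ℝ) * ((H.relIndex T : ℝ) * (p : ℝ) ^ d) := by
        rw [hX, sum_contr_all hM d χ, ← Nat.cast_mul, Complex.natCast_re]
        push_cast
        ring

open Classical in
include hM in
/-- The height is bounded by the defect, the inertial index and the center of the defect group. -/
theorem height_add_center_le {B : Set (IrrCharacter G)} {D : Subgroup G}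
    {c : Set (IrrCharacter C[D])} (hmax : IsMaximalBrauerPair p M B D c) {d : ℕ}
    (hd : Nat.card D = p ^ d) {T H : Subgroup G}
    (hT : ∀ g : G, g ∈ T ↔ conjIdx g ⟨D, c⟩ = ⟨D, c⟩) (hH : H = D ⊔ C[D])
    {χ : IrrCharacter G} (hχ : χ ∈ B) :
    Nat.card (Subgroup.center D) * p ^ blockHeight p B (χ : G → ℂ) ≤ H.relIndex T * p ^ d := by
  have hp := (Fact.out : p.Prime)
  have hB := hmax.1.2.1
  have hD := isDefectGroup_of_maximal hM hmax
  have hBd : blockDefect p B = d :=
    Nat.pow_right_injective hp.two_le ((card_defectGroup hM hB hD).symm.trans hd)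
  obtain ⟨η, hη, hmin⟩ := exists_minVal (p := p) (nonempty_of_isPBlock hM hB)
  have hη0 := (blockHeight_eq_zero_iff hη).2 hmin
  let ι := {z : G // z ∈ D ∧ ∀ x ∈ D, x * z = z * x}
  have hι : Nat.card (Subgroup.center D) = Fintype.card ι := by
    rw [← Nat.card_eq_fintype_card]
    exact Nat.card_congr
      ⟨fun z => ⟨((z : D) : G), (z : D).2, fun x hx =>
          congrArg Subtype.val (Subgroup.mem_center_iff.1 z.2 ⟨x, hx⟩)⟩,
        fun z => ⟨⟨z.1, z.2.1⟩, Subgroup.mem_center_iff.2 fun x =>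
          Subtype.ext (z.2.2 x x.2)⟩,
        fun _ => rfl, fun _ => rfl⟩
  have hex : ∀ i : ι, ∃ f : Set (IrrCharacter C[Subgroup.zpowers (i : G)]),
      IsPBlock M f ∧ SubpairLE p M (Subgroup.zpowers (i : G)) f D c := fun i =>
    exists_subpair hM hmax.1.1 (Subgroup.zpowers_le.2 i.2.1)
  choose f _ hf using hex
  have hS : ∀ i : ι, ∃ (e : ℕ) (m : IrrCharacter C[Subgroup.zpowers (i : G)] →
      IrrCharacter C[Subgroup.zpowers (i : G)] → ℤ),
      MajorSetup (p := p) M e (i : G) (f i) B m := fun i =>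
    exists_majorSetup_central hM hmax i.2.1 i.2.2 (hf i)
  choose ei mi hS using hS
  have hbd : ∀ i, blockDefect p (f i) = d := fun i => (hS i).major.trans hBd
  haveI : NeZero (Nat.card G) := ⟨Nat.card_pos.ne'⟩
  choose w hw hwσ using fun i : ι => exists_cyc_contr (p := p) (hS i).comm d (f i) χ η
  have hrat : ∃ N : ℤ, ∏ i : ι, contr p d (i : G) (f i) χ η = (N : ℂ) := by
    have hwv : ((∏ i, w i : Char.cycField (Nat.card G)) : ℂ) =
        ∏ i : ι, contr p d (i : G) (f i) χ η :=
      (map_prod (Char.cycField (Nat.card G)).val _ _).trans (Finset.prod_congr rfl fun i _ => hw i)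
    obtain ⟨q, hq⟩ := Char.exists_rat_of_fixed (∏ i, w i) fun σ => by
      obtain ⟨k, hk, hσ⟩ := Char.exists_actsAsPow σ
      rw [hwv, map_prod]
      let π : ι → ι := fun i => ⟨(i : G) ^ k, pow_mem i.2.1 k, fun x hx =>
        (Commute.pow_right (i.2.2 x hx) k).eq⟩
      have hπ : Function.Bijective π := Finite.injective_iff_bijective.1 fun a b h =>
        Subtype.ext ((Char.powBij_of_coprime hk).1 (congrArg Subtype.val h))
      refine Fintype.prod_bijective π hπ _ _ fun i => ?_
      rw [hwσ i σ k hk hσ]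
      have hzp : Subgroup.zpowers (i : G) = Subgroup.zpowers ((i : G) ^ k) := by
        refine le_antisymm (Subgroup.zpowers_le.2 ?_)
          (Subgroup.zpowers_le.2 (pow_mem (Subgroup.mem_zpowers _) _))
        obtain ⟨n, hn⟩ := exists_pow_eq_self_of_coprime
          (hk.coprime_dvd_right (orderOf_dvd_natCard (i : G)))
        have h' := pow_mem (Subgroup.mem_zpowers ((i : G) ^ k)) n
        rwa [hn] at h'
      have key : ∀ (Q Q' : Subgroup G), Q = Q' → ∀ (a : Set (IrrCharacter C[Q]))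
          (a' : Set (IrrCharacter C[Q'])), SubpairLE p M Q a D c → SubpairLE p M Q' a' D c →
          ∀ v : G, contr p d v a χ η = contr p d v a' χ η := by
        intro Q Q' e a a' ha ha' v
        subst e
        rw [subpair_unique hM hmax.1.1 ha ha']
      exact key _ _ hzp _ _ (hf i) (hf (π i)) _
    obtain ⟨N, hN⟩ := Char.exists_int_of_isIntegral_rat (q := q)
      (hq ▸ hwv ▸ IsIntegral.prod _ fun i _ => hbd i ▸ (hS i).isIntegral_contr hM χ η)
    refine ⟨N, ?_⟩
    rw [← hwv, hq, hN]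
    simp
  obtain ⟨N, hN⟩ := hrat
  have hlow := card_mul_le_sum_norm hM (Finset.univ : Finset ι)
    (fun i => contr p d (i : G) (f i) χ η) (blockHeight p B (χ : G → ℂ)) hN
    fun i _ => hbd i ▸ (hS i).contr_scaled hM hχ hη hη0
  have hup : ∀ ψ : IrrCharacter G, ∑ i : ι, (contr p d (i : G) (f i) ψ ψ).re ≤
      (H.relIndex T : ℝ) * (p : ℝ) ^ d := fun ψ =>
    sum_center_contr_le hM hmax hT hH (fun i : ι => (i : G)) Subtype.val_injective
      (fun i => i.2) f hf d ψ
  have hmid : 2 * ∑ i : ι, ‖contr p d (i : G) (f i) χ η‖ ≤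
      (∑ i : ι, (contr p d (i : G) (f i) χ χ).re) + ∑ i : ι, (contr p d (i : G) (f i) η η).re := by
    rw [Finset.mul_sum, ← Finset.sum_add_distrib]
    exact Finset.sum_le_sum fun i _ => norm_contr_le _ _ _ _
  rw [Finset.card_univ, ← hι] at hlow
  have h1 := hup χ
  have h2 := hup η
  have hreal : ((Nat.card (Subgroup.center D) * p ^ blockHeight p B (χ : G → ℂ) : ℕ) : ℝ) ≤
      ((H.relIndex T * p ^ d : ℕ) : ℝ) := by
    push_cast
    linarith
  exact_mod_cast hreal

end Cfsg.Lib.Block
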