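import Cfsg.Agent.Lib.Block.DefectApps
import Cfsg.Agent.Lib.Char.Ito
import Cfsg.Agent.Lib.Char.Subconstituents
import Cfsg.Agent.Lib.Char.Linear

/-!
# Height zero characters over a central character

A height zero character is a unit at a defect class, so a linear character occurs in its
restriction to the defect group.
-/

set_option autoImplicit false
set_option linter.unusedSectionVars false

namespace Cfsg.Lib.Block

open Cfsg
open scoped ComplexConjugate

universe u

variable {p : ℕ} [hp : Fact p.Prime] {M : Ideal AlgInt} {G : Type u} [Group G] [Fintype G]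

include hp in
/-- A linear character of `Z` under a height zero character extends to the defect group. -/
theorem exists_extension_of_height_zero (hM : IsPModular p M) {B : Set (IrrCharacter G)}
    (hB : IsPBlock M B) {D : Subgroup G} (hD : IsDefectGroup p M B D) {Z : Subgroup G}
    (hZD : Z ≤ D) (lam : Z →* ℂˣ) {χ : IrrCharacter G} (hχ : χ ∈ B)
    (hover : ∀ z : Z, (χ : G → ℂ) z = (χ : G → ℂ) 1 * (lam z : ℂ))
    (h0 : blockHeight p B (χ : G → ℂ) = 0) :
    ∃ μ : D →* ℂˣ, ∀ z : Z, μ ⟨(z : G), hZD z.2⟩ = lam z := by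
  classical
  obtain ⟨g, hg, P, hP⟩ := isDefectGroup_iff.1 hD
  have hunit := charVal_defectClass_not_mem hM hB hg hχ h0
  have hDg : ∀ d ∈ D, d * g = g * d := fun d hd => by
    rw [hP] at hd
    exact (Subgroup.mem_centralizer_iff.1 (cenSyl_le g P hd) g rfl).symm
  set C : Subgroup G := D ⊔ Subgroup.zpowers g with hC
  haveI := Fintype.ofFinite C
  have hDC : D ≤ C := le_sup_left
  have hgC : g ∈ C := Subgroup.mem_sup_right (Subgroup.mem_zpowers g)
  have hCg : C ≤ Subgroup.centralizer ({g} : Set G) :=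
    sup_le (fun d hd => Subgroup.mem_centralizer_iff.2 fun x hx => by
        rw [Set.mem_singleton_iff] at hx; rw [hx]; exact (hDg d hd).symm)
      (Subgroup.zpowers_le.2 (Subgroup.mem_centralizer_iff.2 fun x hx => by
        rw [Set.mem_singleton_iff] at hx; rw [hx]))
  set gC : C := ⟨g, hgC⟩
  have hcen : ∀ c : C, gC * c = c * gC := fun c =>
    Subtype.ext (Subgroup.mem_centralizer_iff.1 (hCg c.2) g rfl)
  set A : Subgroup C := (Subgroup.zpowers g).subgroupOf C with hA
  have hAc : ∀ a ∈ A, ∀ c : C, a * c = c * a := by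
    rintro a ⟨n, hn⟩ c
    have ha : a = gC ^ n := Subtype.ext (by simpa using hn.symm)
    rw [ha]
    exact (Commute.zpow_left (hcen c) n).eq
  haveI : A.Normal := ⟨fun a ha c => by rwa [← hAc a ha c, mul_inv_cancel_right]⟩
  have hidx : A.index ∣ Nat.card D := by
    have htop : D.subgroupOf C ⊔ A = ⊤ := by
      rw [hA, ← Subgroup.subgroupOf_sup hDC (Subgroup.zpowers_le.2 hgC), ← hC, Subgroup.subgroupOf_self]
    rw [← Subgroup.relIndex_top_right, ← htop, Subgroup.relIndex_sup_right,
      ← Nat.card_congr (Subgroup.subgroupOfEquivOfLe hDC).toEquiv]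
    exact Subgroup.index_dvd_card _
  have hres : IsCharacter C (fun c : C => (χ : G → ℂ) c) := χ.2.isCharacter.comp C.subtype
  obtain ⟨ψ, hψc, hψp⟩ : ∃ ψ : IrrCharacter C,
      classInner (fun c : C => (χ : G → ℂ) c) (ψ : C → ℂ) ≠ 0 ∧
        ¬ p ∣ charDegree (ψ : C → ℂ) := by
    by_contra hcon
    push Not at hcon
    refine hunit ?_
    rw [show (χ : G → ℂ) g = (fun c : C => (χ : G → ℂ) c) gC from rfl,
      Char.eq_sum_classInner hres.isClassFunction, Finset.sum_apply]
    refine memLocalIdeal_sum hM _ _ fun ψ _ => ?_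
    rw [Pi.smul_apply, smul_eq_mul]
    by_cases h : classInner (fun c : C => (χ : G → ℂ) c) (ψ : C → ℂ) = 0
    · rw [h, zero_mul]; exact memLocalIdeal_zero hM
    obtain ⟨m, hm⟩ := hres.exists_nat_classInner ψ.2.isCharacter
    rw [hm]
    refine memLocalIdeal_mul_left hM (natCast_mem (locRing hM) m) ?_
    have hidx1 : (Subgroup.centralizer ({gC} : Set C)).index = 1 :=
      Subgroup.index_eq_one.2 (eq_top_iff.2 fun c _ => Subgroup.mem_centralizer_iff.2 fun x hx => by
        rw [Set.mem_singleton_iff] at hx; rw [hx]; exact hcen c)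
    rw [show (ψ : C → ℂ) gC = (charDegree (ψ : C → ℂ) : ℂ) * centralChar (ψ : C → ℂ) gC by
      rw [centralChar, hidx1, ← apply_one_eq_charDegree, Nat.cast_one, one_mul,
        mul_div_cancel₀ _ ψ.2.apply_one_ne_zero]]
    exact memLocalIdeal_mul_right hM ((memLocalIdeal_natCast_iff hM _).2 (hcon ψ h))
      (centralChar_mem_locRing hM ψ gC)
  have hdeg : charDegree (ψ : C → ℂ) = 1 := by
    have h1 : charDegree (ψ : C → ℂ) ∣ Nat.card D :=
      (Char.degree_dvd_index_of_comm A (fun a ha b _ => hAc a ha b) ψ.2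
        (apply_one_eq_charDegree ψ)).trans hidx
    rw [card_defectGroup hM hB hD] at h1
    obtain ⟨j, -, hj⟩ := (Nat.dvd_prime_pow hp.out).1 h1
    rcases Nat.eq_zero_or_pos j with rfl | hj0
    · simpa using hj
    · exact absurd (hj ▸ dvd_pow_self p hj0.ne') hψp
  obtain ⟨μ, hμ⟩ := Char.exists_hom_of_degree_one ψ.2.isCharacter
    (by rw [apply_one_eq_charDegree, hdeg, Nat.cast_one])
  refine ⟨μ.comp (Subgroup.inclusion hDC), ?_⟩
  haveI := Fintype.ofFinite (Z.subgroupOf C)
  set l : Z.subgroupOf C →* ℂˣ :=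
    lam.comp (Subgroup.subgroupOfEquivOfLe (hZD.trans hDC)).toMonoidHom with hl
  set m : Z.subgroupOf C →* ℂˣ := μ.comp (Z.subgroupOf C).subtype with hmdef
  have hlm : (fun x => (l x : ℂ)) = fun x => (m x : ℂ) := by
    by_contra hne
    have hpos := Char.classInner_res_le_of_constituent (H := Z.subgroupOf C) hres ψ.2 hψc
      (Char.isIrrCharacter_linear m).isCharacter
    have e1 : (fun x : Z.subgroupOf C => (ψ : C → ℂ) x) = fun x => (m x : ℂ) :=
      funext fun x => by rw [hμ]; rfl
    have e2 : (fun x : Z.subgroupOf C => (χ : G → ℂ) ((x : C) : G)) =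
        (χ : G → ℂ) 1 • fun x => (l x : ℂ) := funext fun x => by
      rw [Pi.smul_apply, smul_eq_mul]
      exact hover (Subgroup.subgroupOfEquivOfLe (hZD.trans hDC) x)
    rw [e1, e2, Char.classInner_irr_self (Char.isIrrCharacter_linear m),
      Char.classInner_smul_left,
      Char.classInner_irr_ne (Char.isIrrCharacter_linear l) (Char.isIrrCharacter_linear m) hne,
      mul_zero, Complex.zero_re, Complex.one_re] at hpos
    exact absurd hpos (by norm_num)
  intro z
  exact (Units.ext (congrFun hlm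
    (⟨⟨(z : G), hDC (hZD z.2)⟩, Subgroup.mem_subgroupOf.2 z.2⟩ : Z.subgroupOf C))).symm

end Cfsg.Lib.Block
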