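import Cfsg.Agent.Lib.Block.LocalMax

/-!
# Brauer pairs of a local block and the pairs of the whole group above the local pair
-/

set_option autoImplicit false
set_option linter.unusedSectionVars false
set_option maxHeartbeats 800000

namespace Cfsg.Lib.Block

open Cfsg
open scoped ComplexConjugate

universe u

variable {p : ℕ} {M : Ideal AlgInt} {G : Type u} [Group G] [Fintype G] [Fact p.Prime]

noncomputable local instance (priority := high) fintypeSubgroupLocalTransfer {A : Type u}
    [Group A] [Fintype A] (H : Subgroup A) : Fintype H := Fintype.ofFinite H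

local notation "C[" Q "]" => Subgroup.centralizer (SetLike.coe Q)

/-- The centralizer inside a subgroup containing the whole centralizer. -/
def cenUp {L : Subgroup G} (U' : Subgroup L) (h : C[U'.map L.subtype] ≤ L) :
    Subgroup.centralizer (U' : Set L) ≃* C[U'.map L.subtype] where
  toFun x := ⟨((x : L) : G), Subgroup.mem_centralizer_iff.2 (by
    rintro _ ⟨a, ha, rfl⟩
    exact congrArg Subtype.val (Subgroup.mem_centralizer_iff.1 x.2 a ha))⟩
  invFun y := ⟨⟨(y : G), h y.2⟩, Subgroup.mem_centralizer_iff.2 fun a ha =>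
    Subtype.ext (Subgroup.mem_centralizer_iff.1 y.2 (a : G) ⟨a, ha, rfl⟩)⟩
  left_inv _ := rfl
  right_inv _ := rfl
  map_mul' _ _ := rfl

/-- A set of characters of the inner centralizer, seen on the centralizer. -/
def upBlock {L : Subgroup G} (U' : Subgroup L) (h : C[U'.map L.subtype] ≤ L)
    (u' : Set (IrrCharacter (Subgroup.centralizer (U' : Set L)))) :
    Set (IrrCharacter C[U'.map L.subtype]) :=
  pullSet (cenUp U' h).symm u'

theorem mem_upBlock {L : Subgroup G} {U' : Subgroup L} (h : C[U'.map L.subtype] ≤ L)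
    (u' : Set (IrrCharacter (Subgroup.centralizer (U' : Set L))))
    {ξ : IrrCharacter C[U'.map L.subtype]} :
    ξ ∈ upBlock U' h u' ↔ compIrr (cenUp U' h) ξ ∈ u' := Iff.rfl

theorem subgroupBlockCoeff_upBlock {L : Subgroup G} {U' : Subgroup L}
    (h : C[U'.map L.subtype] ≤ L)
    (u' : Set (IrrCharacter (Subgroup.centralizer (U' : Set L)))) (x : L) :
    subgroupBlockCoeff C[U'.map L.subtype] (upBlock U' h u') (x : G) =
      subgroupBlockCoeff (Subgroup.centralizer (U' : Set L)) u' x := by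
  simp only [subgroupBlockCoeff]
  by_cases hx : x ∈ Subgroup.centralizer (U' : Set L)
  · rw [dif_pos hx, dif_pos (show (x : G) ∈ C[U'.map L.subtype] from ((cenUp U' h) ⟨x, hx⟩).2),
      upBlock, blockCoeff_pullSet]
    rfl
  · rw [dif_neg hx, dif_neg]
    exact fun hx' => hx ((cenUp U' h).symm ⟨x, hx'⟩).2

theorem brauerOmega_up {L : Subgroup G} {V' : Subgroup L} (h : C[V'.map L.subtype] ≤ L)
    {β' : L → ℂ} {β : G → ℂ} (hβ : ∀ x : L, β (x : G) = β' x)
    (ξ : IrrCharacter C[V'.map L.subtype]) :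
    brauerOmega V' β' (compIrr (cenUp V' h) ξ : _ → ℂ) =
      brauerOmega (V'.map L.subtype) β (ξ : C[V'.map L.subtype] → ℂ) := by
  simp only [brauerOmega]
  refine finsum_eq_of_bijective (cenUp V' h) (cenUp V' h).bijective fun x => ?_
  rw [compIrr_apply, compIrr_apply, map_one, ← hβ]
  rfl

theorem map_subtype_conj {L : Subgroup G} (U' : Subgroup L) (l : L) :
    (U'.map L.subtype).map (MulAut.conj (l : G)).toMonoidHom =
      (U'.map (MulAut.conj l).toMonoidHom).map L.subtype := by
  rw [Subgroup.map_map, Subgroup.map_map]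
  rfl

theorem conjIdx_upBlock {L : Subgroup G} (U' : Subgroup L) (l : L)
    (h : C[U'.map L.subtype] ≤ L)
    (h' : C[(U'.map (MulAut.conj l).toMonoidHom).map L.subtype] ≤ L)
    (u' : Set (IrrCharacter (Subgroup.centralizer (U' : Set L)))) :
    conjIdx (l : G) ⟨U'.map L.subtype, upBlock U' h u'⟩ =
      (⟨(U'.map (MulAut.conj l).toMonoidHom).map L.subtype,
        upBlock (U'.map (MulAut.conj l).toMonoidHom) h' (conjBlock U' l u')⟩ : BrauerPairIdx G) := by
  rw [conjIdx_eq (map_subtype_conj U' l)]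
  refine Sigma.ext rfl (heq_of_eq (eq_of_subgroupBlockCoeff_eq fun g => ?_))
  obtain ⟨k, rfl⟩ : ∃ k, (l : G) * k * (l : G)⁻¹ = g := ⟨(l : G)⁻¹ * g * l, by group⟩
  rw [subgroupBlockCoeff_conjSet]
  by_cases hk : k ∈ L
  · have e : (l : G) * k * (l : G)⁻¹ = ((l * ⟨k, hk⟩ * l⁻¹ : L) : G) := rfl
    rw [e, subgroupBlockCoeff_upBlock h', conjBlock_eq, subgroupBlockCoeff_conjSet,
      ← subgroupBlockCoeff_upBlock h u']
  · have e1 : k ∉ C[U'.map L.subtype] := fun hk' => hk (h hk')
    have e2 : (l : G) * k * (l : G)⁻¹ ∉ C[(U'.map (MulAut.conj l).toMonoidHom).map L.subtype] :=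
      fun hk' => hk (by simpa [mul_assoc] using mul_mem (mul_mem (inv_mem l.2) (h' hk')) l.2)
    rw [subgroupBlockCoeff, subgroupBlockCoeff, dif_neg e1, dif_neg e2]

variable (hM : IsPModular p M)
variable {Q L : Subgroup G} {f : Set (IrrCharacter C[Q])} {F : Set (IrrCharacter L)}

theorem IsLocalBlock.cen_up (hT : IsLocalBlock p M Q L f F) {U' : Subgroup L}
    (hU : Q ≤ U'.map L.subtype) : C[U'.map L.subtype] ≤ L :=
  (Subgroup.centralizer_le (SetLike.coe_subset_coe.2 hU)).trans hT.cen

theorem isBrauerPair_upBlock {U' : Subgroup L} (h : C[U'.map L.subtype] ≤ L)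
    {u' : Set (IrrCharacter (Subgroup.centralizer (U' : Set L)))}
    (hu : IsBrauerPair p M U' u') : IsBrauerPair p M (U'.map L.subtype) (upBlock U' h u') :=
  ⟨hu.1.map _, isPBlock_pullSet _ hu.2⟩

include hM in
/-- Pairs of the local block are the pairs above the local pair. -/
theorem isBrauerPairOf_local_iff (hT : IsLocalBlock p M Q L f F) (hQf : IsBrauerPair p M Q f)
    {U' : Subgroup L} (hU : Q ≤ U'.map L.subtype)
    (u' : Set (IrrCharacter (Subgroup.centralizer (U' : Set L)))) :
    IsBrauerPairOf p M F U' u' ↔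
      IsNormalSubpair p M Q f (U'.map L.subtype) (upBlock U' (hT.cen_up hU) u') := by
  have hco : ∀ x : L, subgroupBlockCoeff C[Q] f (x : G) = blockCoeff F x := fun x => by
    rw [← hT.coeff, subgroupBlockCoeff, dif_pos x.2]
  constructor
  · rintro ⟨hu, -, hs⟩
    refine ⟨hQf, isBrauerPair_upBlock _ hu, hU, (Subgroup.map_subtype_le U').trans hT.le,
      (invOn_indVec_iff fun x hx => mem_normalizer_centralizer
        (hT.le ((Subgroup.map_subtype_le U') hx))).1
        (invOn_mono (Subgroup.map_subtype_le U') hT.stab), fun ξ hξ => ?_⟩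
    have := hs _ ((mem_upBlock _ u').1 hξ)
    rwa [brauerOmega_up (hT.cen_up hU) hco] at this
  · rintro ⟨-, hu, -, -, -, hs⟩
    have hu' : IsBrauerPair p M U' u' := by
      refine ⟨hu.1.of_equiv (U'.equivMapOfInjective L.subtype L.subtype_injective).symm, ?_⟩
      rw [← pullSet_symm (cenUp U' (hT.cen_up hU)).symm u', MulEquiv.symm_symm]
      exact isPBlock_pullSet _ hu.2
    refine ⟨hu', hT.block, fun η hη => ?_⟩
    have hη' : compIrr (cenUp U' (hT.cen_up hU))
        (compIrr (cenUp U' (hT.cen_up hU)).symm η) = η := compIrr_compIrr_symm _ η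
    rw [← hη', brauerOmega_up (hT.cen_up hU) hco]
    exact hs _ ((mem_upBlock _ u').2 (by rwa [hη']))

include hM in
theorem normalSubpair_up (hT : IsLocalBlock p M Q L f F) {a b : BrauerPairIdx L}
    (h : NormalSubpairRel p M a b) (ha : Q ≤ a.1.map L.subtype) (hb : Q ≤ b.1.map L.subtype) :
    IsNormalSubpair p M (a.1.map L.subtype) (upBlock a.1 (hT.cen_up ha) a.2)
      (b.1.map L.subtype) (upBlock b.1 (hT.cen_up hb) b.2) := by
  obtain ⟨U', u'⟩ := a
  obtain ⟨V', v'⟩ := b
  obtain ⟨hu, hv, hle, hN, hst, hs⟩ := h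
  dsimp only at ha hb hu hv hle hN hst hs ⊢
  refine ⟨isBrauerPair_upBlock _ hu, isBrauerPair_upBlock _ hv, Subgroup.map_mono hle,
    ?_, ?_, fun ξ hξ => ?_⟩
  · exact (Subgroup.map_mono hN).trans (Subgroup.le_normalizer_map _)
  · intro y hy
    obtain ⟨x, hx, rfl⟩ := hy
    have hn : (x : G) ∈ Subgroup.normalizer (U'.map L.subtype : Set G) :=
      (Subgroup.le_normalizer_map L.subtype) ⟨x, hN hx, rfl⟩
    rw [show L.subtype x = (x : G) from rfl,
      stabilizesBlock_iff_coeff (mem_normalizer_centralizer hn)]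
    intro g
    by_cases hg : g ∈ L
    · have e : (x : G) * g * (x : G)⁻¹ = ((x * ⟨g, hg⟩ * x⁻¹ : L) : G) := rfl
      have e' : g = ((⟨g, hg⟩ : L) : G) := rfl
      conv_rhs => rw [e', subgroupBlockCoeff_upBlock]
      rw [e, subgroupBlockCoeff_upBlock]
      exact (stabilizesBlock_iff_coeff (mem_normalizer_centralizer (hN hx))).1 (hst x hx) _
    · have e1 : g ∉ C[U'.map L.subtype] := fun h' => hg (hT.cen_up ha h')
      have e2 : (x : G) * g * (x : G)⁻¹ ∉ C[U'.map L.subtype] := fun h' => hg (by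
        simpa [mul_assoc] using mul_mem (mul_mem (inv_mem x.2) (hT.cen_up ha h')) x.2)
      rw [subgroupBlockCoeff, subgroupBlockCoeff, dif_neg e1, dif_neg e2]
  · have := hs _ ((mem_upBlock _ v').1 hξ)
    rwa [brauerOmega_up (hT.cen_up hb) (β := subgroupBlockCoeff C[U'.map L.subtype]
      (upBlock U' (hT.cen_up ha) u')) (fun x => subgroupBlockCoeff_upBlock _ u' x)] at this

include hM in
theorem rel_up (hT : IsLocalBlock p M Q L f F) {a b : BrauerPairIdx L}
    (h : Relation.ReflTransGen (NormalSubpairRel p M) a b) :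
    ∀ (ha : Q ≤ a.1.map L.subtype) (hb : Q ≤ b.1.map L.subtype),
      Relation.ReflTransGen (NormalSubpairRel p M)
        (⟨a.1.map L.subtype, upBlock a.1 (hT.cen_up ha) a.2⟩ : BrauerPairIdx G)
        ⟨b.1.map L.subtype, upBlock b.1 (hT.cen_up hb) b.2⟩ := by
  induction h using Relation.ReflTransGen.head_induction_on with
  | refl => exact fun _ _ => Relation.ReflTransGen.refl
  | @head a c hac hcb ih =>
    intro ha hb
    have hc : Q ≤ c.1.map L.subtype :=
      ha.trans (Subgroup.map_mono (hac.2.2.1 : a.1 ≤ c.1))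
    exact Relation.ReflTransGen.head
      (b := (⟨c.1.map L.subtype, upBlock c.1 (hT.cen_up hc) c.2⟩ : BrauerPairIdx G))
      (normalSubpair_up hM hT hac ha hc) (ih hc hb)

include hM in
/-- A pair above a local pair moves below `(P, e)` by an element of the local group. -/
theorem exists_conj_in_local {B : Set (IrrCharacter G)} {P U : Subgroup G}
    {e : Set (IrrCharacter C[P])} {u : Set (IrrCharacter C[U])}
    (hmax : IsMaximalBrauerPair p M B P e) (hT : IsLocalBlock p M Q L f F) (hQL : Q ≤ L)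
    (hle : SubpairLE p M Q f P e) (hbig : p ^ blockDefect p F ≤ Nat.card ↥(P ⊓ L))
    (hn : IsNormalSubpair p M Q f U u) (hUL : U ≤ L) :
    ∃ l ∈ L, Relation.ReflTransGen (NormalSubpairRel p M) (conjIdx l ⟨U, u⟩) ⟨P, e⟩ := by
  have hPe := hmax.1.1
  have hQf : IsBrauerPair p M Q f := hn.1
  have hQN : Q ≤ P ⊓ L := le_inf (subpairLE_le hle) hQL
  obtain ⟨n, hnP, hQn⟩ := normalSubpair_below hM hPe hle hQN inf_le_left
    (inf_le_right.trans hT.le)
  obtain ⟨N', hN'⟩ : ∃ N' : Subgroup L, N'.map L.subtype = P ⊓ L :=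
    ⟨(P ⊓ L).subgroupOf L, Subgroup.map_subgroupOf_eq_of_le inf_le_right⟩
  obtain ⟨U', rfl⟩ : ∃ U' : Subgroup L, U'.map L.subtype = U :=
    ⟨U.subgroupOf L, Subgroup.map_subgroupOf_eq_of_le hUL⟩
  have hU : Q ≤ U'.map L.subtype := hn.2.2.1
  have hN : Q ≤ N'.map L.subtype := hN'.ge.trans' hQN
  revert n
  rw [← hN']
  intro n hnP hQn
  let u' := pullSet (cenUp U' (hT.cen_up hU)) u
  let n' := pullSet (cenUp N' (hT.cen_up hN)) n
  have eu : upBlock U' (hT.cen_up hU) u' = u := pullSet_symm _ _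
  have en : upBlock N' (hT.cen_up hN) n' = n := pullSet_symm _ _
  have hu' : IsBrauerPairOf p M F U' u' :=
    (isBrauerPairOf_local_iff hM hT hQf hU u').2 (by rw [eu]; exact hn)
  have hn' : IsBrauerPairOf p M F N' n' :=
    (isBrauerPairOf_local_iff hM hT hQf hN n').2 (by rw [en]; exact hQn)
  have hD : IsDefectGroup p M F N' := by
    have := (isDefectGroup_inf_iff hM hT hPe hle).2 hbig
    have e1 : (P ⊓ L).subgroupOf L = N' := by
      rw [← hN']
      exact Subgroup.comap_map_eq_self_of_injective L.subtype_injective N'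
    rwa [e1] at this
  obtain ⟨l, hl⟩ := exists_conj_le_maximal hM (maximal_of_defectGroup hM hn' hD) hu'
  have hc : Q ≤ (U'.map (MulAut.conj l).toMonoidHom).map L.subtype := by
    rw [← map_subtype_conj]
    intro q hq
    refine ⟨(l : G)⁻¹ * q * l, hU ((Subgroup.mem_normalizer_iff''.1 (hT.le l.2) q).1 hq), ?_⟩
    simp [mul_assoc]
  refine ⟨(l : G), l.2, ?_⟩
  rw [← eu, conjIdx_upBlock U' l (hT.cen_up hU) (hT.cen_up hc)]
  refine (rel_up hM hT (a := conjIdx l ⟨U', u'⟩) (b := ⟨N', n'⟩) hl hc hN).trans ?_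
  dsimp only
  rw [en]
  exact hnP

end Cfsg.Lib.Block
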