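import Cfsg.Agent.Lib.Block.MaxPairs
import Cfsg.Agent.Lib.Block.LocalTransfer
import Cfsg.Agent.Lib.Block.PairApps
import Cfsg.Agent.Lib.Block.CoverBasics
import Cfsg.Agent.Lib.Core.Cores
import Cfsg.Prelude.Def_CaseTheorems

/-!
# Brauer pairs and cores in the kernels of blocks

A block selected by a character of the centralizer of a normalizing `p`-subgroup contains a normal
`p'`-subgroup in its kernel exactly when the selected block contains the fixed points in its kernel.
-/

set_option autoImplicit false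
set_option linter.unusedSectionVars false
set_option maxHeartbeats 800000

namespace Cfsg.Lib.Block

open Cfsg
open scoped ComplexConjugate

universe u

local notation "C[" Q "]" => Subgroup.centralizer (SetLike.coe Q)

noncomputable local instance (priority := high) fintypeSubgroupPairKernel {G : Type u} [Group G]
    [Fintype G] (H : Subgroup G) : Fintype H := Fintype.ofFinite H

variable {p : ℕ} {M : Ideal AlgInt} {G : Type u} [Group G] [Fintype G]

/-- A set of characters of a subgroup has `K` in its kernel. -/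
def Kills {C : Subgroup G} (F : Set (IrrCharacter C)) (K : Subgroup G) : Prop :=
  ∀ χ ∈ F, ∀ c : C, (c : G) ∈ K → (χ : C → ℂ) c = (χ : C → ℂ) 1

theorem kills_mono {C : Subgroup G} {F : Set (IrrCharacter C)} {K K' : Subgroup G}
    (h : ∀ c : C, (c : G) ∈ K' → (c : G) ∈ K) (hK : Kills F K) : Kills F K' :=
  fun χ hχ c hc => hK χ hχ c (h c hc)

/-- An irreducible character is trivial on a normal subgroup or sums to zero over it. -/
theorem trivial_or_sum_eq_zero {A : Type u} [Group A] [Fintype A] (N : Subgroup A) [N.Normal] (χ : IrrCharacter A) :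
    (∀ n ∈ N, (χ : A → ℂ) n = (χ : A → ℂ) 1) ∨ ∑ n : N, (χ : A → ℂ) n = 0 := by
  refine or_iff_not_imp_right.2 fun hne => ?_
  have hc : classInner (fun n : N => (χ : A → ℂ) n) (trivChar N : N → ℂ) ≠ 0 := by
    rw [classInner, Finset.sum_congr rfl (g := fun n : N => (χ : A → ℂ) n) fun n _ => by
      rw [trivChar_coe]; simp]
    exact mul_ne_zero (inv_ne_zero Char.card_cast_ne_zero) hne
  have h1 := Char.clifford_res N χ.2 (trivChar N).2 hc
  have horb : ∀ φ ∈ Char.twistOrbit N (trivChar N : N → ℂ), φ = fun _ => 1 := by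
    intro φ hφ
    obtain ⟨g, rfl⟩ := (Char.mem_twistOrbit N).1 hφ
    funext m
    simp [Char.conjTwist_apply, trivChar_coe]
  intro n hn
  have e1 := congrFun h1 ⟨n, hn⟩
  have e2 := congrFun h1 1
  simp only [Pi.smul_apply, Finset.sum_apply, smul_eq_mul, OneMemClass.coe_one] at e1 e2
  rw [e1, e2]
  exact congrArg _ (Finset.sum_congr rfl fun φ hφ => by rw [horb φ hφ])

open Classical in
/-- The normalized sum of the elements of `K`. -/
noncomputable def kerFun (C K : Subgroup G) (c : C) : ℂ :=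
  if (c : G) ∈ K then (Nat.card K : ℂ)⁻¹ else 0

/-- The central element of the normalized sum of `K`. -/
noncomputable def kerVec (C K : Subgroup G) : IrrCharacter C → ℂ := vec (kerFun C K)

section

variable {C E K P : Subgroup G}

theorem isClassFunction_kerFun (hCK : C ≤ Subgroup.normalizer (K : Set G)) :
    IsClassFunction C (kerFun C K) := fun g k => by
  classical
  simp only [kerFun, Subgroup.coe_mul, InvMemClass.coe_inv]
  exact if_congr (Subgroup.mem_normalizer_iff.1 (hCK k.2) g).symm rfl rfl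

theorem zc_kerVec (hCK : C ≤ Subgroup.normalizer (K : Set G)) (c : C) :
    zc (kerVec C K) c = kerFun C K c := zc_vec (isClassFunction_kerFun hCK) c

open Classical in
theorem extF_kerVec (hKC : K ≤ C) (hCK : C ≤ Subgroup.normalizer (K : Set G)) (g : G) :
    extF C (kerVec C K) g = if g ∈ K then (Nat.card K : ℂ)⁻¹ else 0 := by
  by_cases hg : g ∈ C
  · rw [extF_of_mem _ hg, zc_kerVec hCK]
    rfl
  · rw [extF_of_notMem _ hg, if_neg fun h => hg (hKC h)]

theorem invOn_kerVec (hKC : K ≤ C) (hCK : C ≤ Subgroup.normalizer (K : Set G))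
    (hPK : P ≤ Subgroup.normalizer (K : Set G)) : InvOn P C (kerVec C K) := fun x hx g => by
  classical
  rw [extF_kerVec hKC hCK, extF_kerVec hKC hCK]
  exact if_congr (Subgroup.mem_normalizer_iff.1 (hPK hx) g).symm rfl rfl

open Classical in
/-- The normalized sum of `K` is the indicator of the characters trivial on `K`. -/
theorem kerVec_apply (hKC : K ≤ C) (hCK : C ≤ Subgroup.normalizer (K : Set G))
    (χ : IrrCharacter C) :
    kerVec C K χ =
      if ∀ c : C, (c : G) ∈ K → (χ : C → ℂ) c = (χ : C → ℂ) 1 then 1 else 0 := by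
  haveI hN : (K.subgroupOf C).Normal := (Subgroup.normal_subgroupOf_iff_le_normalizer hKC).2 hCK
  have hcard : Nat.card (K.subgroupOf C) = Nat.card K :=
    Nat.card_congr (Subgroup.subgroupOfEquivOfLe hKC).toEquiv
  have e : kerVec C K χ =
      (Nat.card K : ℂ)⁻¹ * (∑ n : K.subgroupOf C, (χ : C → ℂ) n) / (χ : C → ℂ) 1 := by
    rw [kerVec, vec, Finset.mul_sum]
    congr 1
    simp only [kerFun, ite_mul, zero_mul]
    rw [← Finset.sum_filter]
    exact Finset.sum_subtype _ (fun c => by simp [Subgroup.mem_subgroupOf]) _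
  rw [e]
  split_ifs with h
  · rw [Finset.sum_congr rfl fun (n : K.subgroupOf C) _ => h (n : C) (Subgroup.mem_subgroupOf.1 n.2), Finset.sum_const, Finset.card_univ,
      ← Nat.card_eq_fintype_card, hcard, nsmul_eq_mul]
    have h1 : (χ : C → ℂ) 1 ≠ 0 := χ.2.apply_one_ne_zero
    have h2 : (Nat.card K : ℂ) ≠ 0 := Char.card_cast_ne_zero
    field_simp
  · rw [(trivial_or_sum_eq_zero (K.subgroupOf C) χ).resolve_left fun h' => h fun c hc => h' c hc,
      mul_zero, zero_div]

theorem vInt_kerVec (hM : IsPModular p M) (hCK : C ≤ Subgroup.normalizer (K : Set G))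
    (hKp : ¬ p ∣ Nat.card K) : VInt hM (kerVec C K) := fun c => by
  rw [zc_kerVec hCK, kerFun]
  split_ifs
  · exact inv_natCast_mem_locRing hM hKp
  · exact zero_mem _

theorem vSmall_kerVec_idem (hM : IsPModular p M) (hKC : K ≤ C)
    (hCK : C ≤ Subgroup.normalizer (K : Set G)) :
    VSmall M (kerVec C K * kerVec C K - kerVec C K) := by
  have e : kerVec C K * kerVec C K - kerVec C K = 0 := funext fun χ => by
    rw [Pi.sub_apply, Pi.mul_apply, Pi.zero_apply, kerVec_apply hKC hCK]
    split_ifs <;> simp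
  rw [e]
  exact vSmall_zero hM

variable [Fact p.Prime]

/-- Being trivial on `K` is decided by one member of a block. -/
theorem kills_iff_kerVec (hM : IsPModular p M) (hKC : K ≤ C)
    (hCK : C ≤ Subgroup.normalizer (K : Set G)) (hKp : ¬ p ∣ Nat.card K)
    {F : Set (IrrCharacter C)} (hF : IsPBlock M F) {η : IrrCharacter C} (hη : η ∈ F) :
    Kills F K ↔ res hM (kerVec C K η) = 1 := by
  classical
  rw [kerVec_apply hKC hCK]
  constructor
  · intro h
    rw [if_pos (h η hη), res_one]
  · intro h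
    by_cases h1 : ∀ c : C, (c : G) ∈ K → (η : C → ℂ) c = (η : C → ℂ) 1
    · haveI hN : (K.subgroupOf C).Normal :=
        (Subgroup.normal_subgroupOf_iff_le_normalizer hKC).2 hCK
      have hNp : ¬ p ∣ Nat.card (K.subgroupOf C) := by
        rwa [Nat.card_congr (Subgroup.subgroupOfEquivOfLe hKC).toEquiv]
      intro ψ hψ c hc
      exact trivial_of_sameBlock (K.subgroupOf C) hM hNp (sameBlock_of_mem hM hF hη hψ)
        (fun n hn => h1 n hn) c hc
    · rw [if_neg h1, res_zero] at h
      exact absurd h zero_ne_one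

theorem le_normalizer_inf {E : Subgroup G} (hEK : E ≤ Subgroup.normalizer (K : Set G)) :
    E ≤ Subgroup.normalizer ((K ⊓ E : Subgroup G) : Set G) := fun x hx => by
  refine Subgroup.mem_normalizer_iff.2 fun g => ?_
  rw [Subgroup.mem_inf, Subgroup.mem_inf, Subgroup.mem_normalizer_iff.1 (hEK hx) g,
    Subgroup.mem_normalizer_iff.1 (Subgroup.le_normalizer hx) g]

theorem trV_smul (hE : E ≤ C) (c : ℂ) (v : IrrCharacter C → ℂ) :
    trV E C (c • v) = c • trV E C v := by
  refine zc_injective fun h => ?_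
  rw [zc_trV hE, zc_smul, zc_trV hE, extF_of_mem _ (hE h.2), zc_smul, extF_of_mem _ (hE h.2)]

theorem trV_kerVec (hE : E ≤ C) (hKC : K ≤ C) (hCK : C ≤ Subgroup.normalizer (K : Set G)) :
    trV E C (kerVec C K) =
      ((Nat.card (K ⊓ E : Subgroup G) : ℂ) * (Nat.card K : ℂ)⁻¹) • kerVec E (K ⊓ E) := by
  classical
  refine zc_injective fun h => ?_
  rw [zc_trV hE, zc_smul, zc_kerVec (le_normalizer_inf (hE.trans hCK)), extF_kerVec hKC hCK, kerFun]
  have h2 : (Nat.card (K ⊓ E : Subgroup G) : ℂ) ≠ 0 := Char.card_cast_ne_zero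
  by_cases hh : (h : G) ∈ K
  · rw [if_pos hh, if_pos (Subgroup.mem_inf.2 ⟨hh, h.2⟩)]
    field_simp
  · rw [if_neg hh, if_neg fun h' => hh (Subgroup.mem_inf.1 h').1, mul_zero]

/-- A selected block has `K` in its kernel exactly when the selecting block has. -/
theorem kills_iff_selected (hM : IsPModular p M) (hP : IsPGroup p P)
    (hEP : E = C[P]) (hE : E ≤ C) (hKC : K ≤ C)
    (hCK : C ≤ Subgroup.normalizer (K : Set G)) (hKp : ¬ p ∣ Nat.card K)
    (hPK : P ≤ Subgroup.normalizer (K : Set G))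
    {F : Set (IrrCharacter C)} (hF : IsPBlock M F) (hFi : InvOn P C (indVec F))
    {e : Set (IrrCharacter E)} (he : IsPBlock M e) {ξ : IrrCharacter E} (hξ : ξ ∈ e)
    (hsel : res hM (trV E C (indVec F) ξ) = 1) : Kills F K ↔ Kills e K := by
  classical
  obtain ⟨η, hη⟩ := nonempty_of_isPBlock hM hF
  have hEK' := le_normalizer_inf (hE.trans hCK)
  have hKp' : ¬ p ∣ Nat.card (K ⊓ E : Subgroup G) :=
    fun h => hKp (h.trans (Subgroup.card_dvd_of_le inf_le_left))
  have he' : Kills e K ↔ Kills e (K ⊓ E) :=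
    ⟨kills_mono fun c hc => (Subgroup.mem_inf.1 hc).1,
      kills_mono fun c hc => Subgroup.mem_inf.2 ⟨hc, c.2⟩⟩
  rw [he', kills_iff_kerVec hM hKC hCK hKp hF hη,
    kills_iff_kerVec hM inf_le_right hEK' hKp' he hξ]
  have hc : (Nat.card (K ⊓ E : Subgroup G) : ℂ) * (Nat.card K : ℂ)⁻¹ ∈ locRing hM :=
    mul_mem (natCast_mem_locRing hM _) (inv_natCast_mem_locRing hM hKp)
  have hcne : res hM ((Nat.card (K ⊓ E : Subgroup G) : ℂ) * (Nat.card K : ℂ)⁻¹) ≠ 0 := fun h0 => by
    have h1 := memLocalIdeal_mul_right hM ((res_eq_zero_iff hM hc).1 h0)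
      (natCast_mem_locRing hM (Nat.card K))
    rw [inv_mul_cancel_right₀ Char.card_cast_ne_zero] at h1
    exact hKp' ((memLocalIdeal_natCast_iff hM _).1 h1)
  have hv := vInt_kerVec hM hCK hKp
  have hw := vInt_kerVec hM hEK' hKp'
  have h := res_trV_eq_of_selected hM hP hEP hE hv (vSmall_kerVec_idem hM hKC hCK)
    (invOn_kerVec hKC hCK hPK) hF hFi hsel hη
  rw [trV_kerVec hE hKC hCK, Pi.smul_apply, smul_eq_mul,
    res_mul hM hc (apply_mem_locRing hM hw ξ)] at h
  have e1 := res_idem_eq hM hv (vSmall_kerVec_idem hM hKC hCK) η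
  have e2 := res_idem_eq hM hw (vSmall_kerVec_idem hM inf_le_right hEK') ξ
  constructor
  · intro h1
    refine e2.resolve_left fun h0 => ?_
    rw [h0, mul_zero, h1] at h
    exact zero_ne_one h
  · intro h1
    refine e1.resolve_left fun h0 => ?_
    rw [h1, mul_one, h0] at h
    exact hcne h

end

/-! ## Cores of subgroups -/

section

variable {π : Set ℕ} {C C' : Subgroup G}

theorem core_le (π : Set ℕ) (C : Subgroup G) : piCoreOf π C ≤ C := Subgroup.map_subtype_le _

theorem core_isPiSub (π : Set ℕ) (C : Subgroup G) : Core.IsPiSub π (piCoreOf π C) :=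
  (Core.piCore_isPiSub π C).map C.subtype

theorem coe_mem_core {c : C} : (c : G) ∈ piCoreOf π C ↔ c ∈ piCore π C :=
  ⟨fun ⟨d, hd, e⟩ => by rwa [← Subtype.ext e], fun h => ⟨c, h, rfl⟩⟩

theorem le_normalizer_core (π : Set ℕ) (C : Subgroup G) :
    C ≤ Subgroup.normalizer (piCoreOf π C : Set G) := by
  intro x hx
  refine Subgroup.mem_normalizer_iff.2 fun g => ?_
  have key : ∀ y ∈ C, ∀ h ∈ piCoreOf π C, y * h * y⁻¹ ∈ piCoreOf π C := by
    rintro y hy _ ⟨k, hk, rfl⟩
    exact ⟨⟨y, hy⟩ * k * ⟨y, hy⟩⁻¹, (piCore_normal π C).conj_mem k hk _, rfl⟩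
  refine ⟨key x hx g, fun h => ?_⟩
  have := key x⁻¹ (inv_mem hx) _ h
  rwa [show x⁻¹ * (x * g * x⁻¹) * x⁻¹⁻¹ = g by group] at this

theorem le_core {N : Subgroup G} (hN : N ≤ C) (hn : C ≤ Subgroup.normalizer (N : Set G))
    (hp : Core.IsPiSub π N) : N ≤ piCoreOf π C := by
  rw [← Subgroup.map_subgroupOf_eq_of_le hN]
  refine Subgroup.map_mono
    (Core.le_piCore' ((Subgroup.normal_subgroupOf_iff_le_normalizer hN).2 hn) ?_)
  intro r hr hd
  rw [Nat.card_congr (Subgroup.subgroupOfEquivOfLe hN).toEquiv] at hd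
  exact hp r hr hd

theorem core_inf_le (h : C' ≤ C) : piCoreOf π C ⊓ C' ≤ piCoreOf π C' :=
  le_core inf_le_right (le_normalizer_inf (h.trans (le_normalizer_core π C))) fun r hr hd =>
    core_isPiSub π C r hr (hd.trans (Subgroup.card_dvd_of_le inf_le_left))

theorem map_core_le {x : G} (h : ConjMaps x C C') :
    ∀ g ∈ piCoreOf π C, x * g * x⁻¹ ∈ piCoreOf π C' := by
  rintro _ ⟨k, hk, rfl⟩
  exact ⟨conjIso h k, (Core.map_piCore_equiv (conjIso h)).le ⟨k, hk, rfl⟩, rfl⟩

theorem normalizer_le_normalizer_core (C : Subgroup G) :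
    Subgroup.normalizer (C : Set G) ≤ Subgroup.normalizer (piCoreOf π C : Set G) := by
  intro x hx
  refine Subgroup.mem_normalizer_iff.2 fun g => ⟨map_core_le (conjMaps_normalizer hx) g, fun h => ?_⟩
  have := map_core_le (conjMaps_normalizer (inv_mem hx)) _ h
  rwa [show x⁻¹ * (x * g * x⁻¹) * x⁻¹⁻¹ = g by group] at this

theorem core_le_core (h : C' ≤ C) (hn : C ≤ Subgroup.normalizer (C' : Set G)) :
    piCoreOf π C' ≤ piCoreOf π C :=
  le_core ((core_le π C').trans h) (hn.trans (normalizer_le_normalizer_core C'))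
    (core_isPiSub π C')

theorem normalizer_le_normalizer_cenCore (Q : Subgroup G) :
    Subgroup.normalizer (Q : Set G) ≤ Subgroup.normalizer (piCoreOf π C[Q] : Set G) :=
  le_trans (fun _ hx => mem_normalizer_centralizer hx) (normalizer_le_normalizer_core _)

theorem mem_core_of_isPiSub_cyclic {x : G} (hx : x ∈ piCoreOf π C) :
    ∀ q : ℕ, q.Prime → q ∣ orderOf x → q ∈ π := fun q hq hd =>
  core_isPiSub π C q hq (hd.trans (by
    rw [← Nat.card_zpowers]; exact Subgroup.card_dvd_of_le (Subgroup.zpowers_le.2 hx)))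

end

/-! ## Pairs whose cores lie in their kernels -/

section

variable (π : Set ℕ)

/-- The block of the pair has the `π`-core of the centralizer in its kernel. -/
def GoodPair (a : BrauerPairIdx G) : Prop := Kills a.2 (piCoreOf π C[a.1])

/-- Every `π`-element of the centralizer lies in its `π`-core. -/
def FullCore (Q : Subgroup G) : Prop :=
  ∀ x ∈ C[Q], (∀ q : ℕ, q.Prime → q ∣ orderOf x → q ∈ π) → x ∈ piCoreOf π C[Q]

variable {π} [Fact p.Prime] (hM : IsPModular p M) (hπ : p ∉ π)

include hπ in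
theorem not_dvd_card_core (C : Subgroup G) : ¬ p ∣ Nat.card (piCoreOf π C) := fun h =>
  hπ (core_isPiSub π C p Fact.out h)

include hM hπ in
theorem kills_core_iff_normalSubpair {Q R : Subgroup G} {f : Set (IrrCharacter C[Q])}
    {e : Set (IrrCharacter C[R])} (h : IsNormalSubpair p M Q f R e) :
    Kills f (piCoreOf π C[Q]) ↔ Kills e (piCoreOf π C[Q]) := by
  obtain ⟨hQ, hR, hle, hRN, hi, hs⟩ := (isNormalSubpair_iff hM).1 h
  obtain ⟨ξ, hξ⟩ := nonempty_of_isPBlock hM hR.2
  exact kills_iff_selected hM hR.1 rfl (Subgroup.centralizer_le hle) (core_le π _)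
    (le_normalizer_core π _) (not_dvd_card_core hπ _)
    (hRN.trans (normalizer_le_normalizer_cenCore Q)) hQ.2 hi hR.2 hξ (hs ξ hξ)

include hM hπ in
theorem good_of_normalSubpair_above {a b : BrauerPairIdx G} (h : NormalSubpairRel p M a b)
    (hb : GoodPair π b) : GoodPair π a :=
  (kills_core_iff_normalSubpair hM hπ h).2
    (kills_mono (fun c hc => core_inf_le (Subgroup.centralizer_le h.2.2.1)
      (Subgroup.mem_inf.2 ⟨hc, c.2⟩)) hb)

include hM hπ in
theorem good_of_le {a b : BrauerPairIdx G}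
    (h : Relation.ReflTransGen (NormalSubpairRel p M) a b) (hb : GoodPair π b) : GoodPair π a := by
  induction h with
  | refl => exact hb
  | tail _ hbc ih => exact ih (good_of_normalSubpair_above hM hπ hbc hb)

theorem fullCore_mono {Q R : Subgroup G} (hle : Q ≤ R) (h : FullCore π Q) : FullCore π R :=
  fun _ hx hord => core_inf_le (Subgroup.centralizer_le hle)
    (Subgroup.mem_inf.2 ⟨h _ (Subgroup.centralizer_le hle hx) hord, hx⟩)

include hM hπ in
theorem good_of_ge {a b : BrauerPairIdx G}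
    (h : Relation.ReflTransGen (NormalSubpairRel p M) a b) (ha : FullCore π a.1)
    (hg : GoodPair π a) : FullCore π b.1 ∧ GoodPair π b := by
  induction h with
  | refl => exact ⟨ha, hg⟩
  | @tail m n _ hbc ih =>
    obtain ⟨hf, hm⟩ := ih
    refine ⟨fullCore_mono hbc.2.2.1 hf, kills_mono (fun c hc => ?_)
      ((kills_core_iff_normalSubpair hM hπ hbc).1 hm)⟩
    exact hf _ (Subgroup.centralizer_le hbc.2.2.1 c.2) (mem_core_of_isPiSub_cyclic hc)

theorem good_conjIdx {x : G} {a : BrauerPairIdx G} (h : GoodPair π a) :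
    GoodPair π (conjIdx x a) := by
  obtain ⟨Q, f⟩ := a
  rw [conjIdx_eq (rfl : Q.map (MulAut.conj x).toMonoidHom = _)]
  intro χ hχ c hc
  have hm := conjMaps_centralizer (rfl : Q.map (MulAut.conj x).toMonoidHom = _)
  have h1 : x⁻¹ * (c : G) * x ∈ piCoreOf π C[Q] := by
    simpa using map_core_le (conjMaps_inv hm) _ hc
  have h2 := h (compIrr (conjIso hm) χ) hχ ((conjIso hm).symm c) h1
  simpa only [compIrr_apply, MulEquiv.apply_symm_apply, map_one] using h2

theorem good_conjIdx_iff {x : G} {a : BrauerPairIdx G} :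
    GoodPair π (conjIdx x a) ↔ GoodPair π a :=
  ⟨fun h => by
    have h' := good_conjIdx (x := x⁻¹) h
    rwa [conjIdx_mul, inv_mul_cancel, conjIdx_one] at h', good_conjIdx⟩

include hM hπ in
theorem good_of_maximal {B : Set (IrrCharacter G)} {P : Subgroup G}
    {e : Set (IrrCharacter C[P])} (hmax : IsMaximalBrauerPair p M B P e)
    (hg : GoodPair π ⟨P, e⟩) {Q : Subgroup G} {f : Set (IrrCharacter C[Q])}
    (hQ : IsBrauerPairOf p M B Q f) : GoodPair π ⟨Q, f⟩ := by
  obtain ⟨x, hx⟩ := exists_conj_le_maximal hM hmax hQ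
  exact good_conjIdx_iff.1 (good_of_le hM hπ hx hg)

/-! ### Blocks of subgroups -/

variable {L P : Subgroup G}

include hM in
/-- A character of the centralizer selects a character of a subgroup containing the centralizer. -/
theorem exists_char_trV (hP : IsPGroup p P) (hCL : C[P] ≤ L) (hPL : P ≤ L)
    (ξ : IrrCharacter C[P]) : ∃ η : IrrCharacter L, ∀ v : IrrCharacter L → ℂ, VInt hM v →
      res hM (trV C[P] L v ξ) = res hM (v η) := by
  refine exists_char_of_hom hM (fun v => res hM (trV C[P] L v ξ)) ?_ ?_ ?_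
  · intro v w hv hw
    rw [trV_sub, Pi.sub_apply, res_sub hM (apply_mem_locRing hM (vInt_trV hM hCL hv) ξ)
      (apply_mem_locRing hM (vInt_trV hM hCL hw) ξ)]
  · intro v w hv hw
    exact res_trV_mul hM hP rfl hCL hv hw (invOn_mono hPL (invOn_self v))
      (invOn_mono hPL (invOn_self w)) ξ
  · intro c _
    simp only [trV_smul hCL, trV_one hCL, Pi.smul_apply, Pi.one_apply, smul_eq_mul, mul_one]

include hM in
/-- A block selected inside a block inducing `B` gives a pair of `B`. -/
theorem isBrauerPairOf_of_selected (hP : IsPGroup p P) (hCL : C[P] ≤ L) (hPL : P ≤ L)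
    {F : Set (IrrCharacter L)} {B : Set (IrrCharacter G)} (hind : IsInducedBlock M L F B)
    {e : Set (IrrCharacter C[P])} (he : IsPBlock M e) {ξ : IrrCharacter C[P]} (hξ : ξ ∈ e)
    (hsel : res hM (trV C[P] L (indVec F) ξ) = 1) : IsBrauerPairOf p M B P e := by
  classical
  obtain ⟨η, hη⟩ := exists_char_trV hM hP hCL hPL ξ
  have hηF : η ∈ F := by
    rw [hη _ (vInt_indVec hM hind.1)] at hsel
    by_contra h
    rw [indVec, if_neg h, res_zero] at hsel
    exact zero_ne_one hsel
  obtain ⟨χ, hχ⟩ := nonempty_of_isPBlock hM hind.2.1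
  have hI := vInt_indVec hM hind.2.1
  set w : IrrCharacter L → ℂ := vec fun h : L => zc (indVec B) (h : G) with hw
  have hzw : ∀ h : L, zc w h = blockCoeff B (h : G) := fun h => by
    rw [hw, zc_vec (f := fun h : L => zc (indVec B) (h : G)) (fun a b => zc_conj_invariant (indVec B) (a : G) (b : G)), zc_indVec]
  have hwI : VInt hM w := fun h => by
    rw [hzw, ← zc_indVec]; exact hI _
  have hwη : res hM (w η) = 1 := by
    rw [(res_eq_iff hM (apply_mem_locRing hM hwI η) (apply_mem_locRing hM hI χ)).2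
      (vec_restrict_sub_mem hM hind hηF hχ hI), indVec, if_pos hχ, res_one]
  have e1 : brU P B = trV C[P] L w := zc_injective fun c => by
    rw [zc_trV hCL, extF_of_mem _ (hCL c.2), hzw, ← extF_coe (brU P B) c, extF_brU, if_pos c.2]
  refine (isBrauerPairOf_iff_brU hM B P e).2 ⟨⟨hP, he⟩, hind.2.1, fun ζ hζ => ?_⟩
  rw [res_apply_eq hM (vInt_brU hM P hind.2.1) (sameBlock_of_mem hM he hζ hξ), e1, hη _ hwI, hwη]

include hM in
/-- A block has a selecting block at each of its defect groups. -/
theorem exists_selected {L : Subgroup G} {F : Set (IrrCharacter L)}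
    (hF : IsPBlock M F) {D₀ : Subgroup L} (hD₀ : IsDefectGroup p M F D₀)
    (hCL : C[D₀.map L.subtype] ≤ L) :
    ∃ (e : Set (IrrCharacter C[D₀.map L.subtype])) (ξ : IrrCharacter C[D₀.map L.subtype]),
      IsPBlock M e ∧ ξ ∈ e ∧ res hM (trV C[D₀.map L.subtype] L (indVec F) ξ) = 1 := by
  classical
  have hD₀p := isPGroup_defectGroup hM hD₀
  obtain ⟨e', he'⟩ := (exists_pair_iff hM hF hD₀ hD₀p).2 ⟨1, (map_conj_one D₀).le⟩
  have heb : IsPBlock M (upBlock D₀ hCL e') := (isBrauerPair_upBlock hCL he'.1).2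
  obtain ⟨ξ, hξ⟩ := nonempty_of_isPBlock hM heb
  refine ⟨_, ξ, heb, hξ, ?_⟩
  have h1 := he'.2.2 _ ((mem_upBlock hCL e').1 hξ)
  rw [brauerOmega_up hCL (β := subgroupBlockCoeff L F) (fun x => by simp [subgroupBlockCoeff])]
    at h1
  have e2 : brauerOmega (D₀.map L.subtype) (subgroupBlockCoeff L F)
      (ξ : C[D₀.map L.subtype] → ℂ) = trV C[D₀.map L.subtype] L (indVec F) ξ := by
    rw [brauerOmega, finsum_eq_sum_of_fintype, trV, vec, Finset.sum_div]
    exact Finset.sum_congr rfl fun x _ => by rw [extF_indVec]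
  rw [e2] at h1
  rw [← res_one hM, res_eq_iff hM
    (apply_mem_locRing hM (vInt_trV hM hCL (vInt_indVec hM hF)) ξ) (one_mem _)]
  exact h1

include hM hπ in
/-- The kernel of a block is read off from a pair at a defect group. -/
theorem exists_pair_kills {L : Subgroup G} {F : Set (IrrCharacter L)}
    {B : Set (IrrCharacter G)} (hind : IsInducedBlock M L F B) {D₀ : Subgroup L}
    (hD₀ : IsDefectGroup p M F D₀) (hCL : C[D₀.map L.subtype] ≤ L) :
    ∃ e : Set (IrrCharacter C[D₀.map L.subtype]),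
      IsBrauerPairOf p M B (D₀.map L.subtype) e ∧
      (Kills F (piCoreOf π L) ↔ Kills e (piCoreOf π L)) := by
  obtain ⟨e, ξ, he, hξ, hsel⟩ := exists_selected hM hind.1 hD₀ hCL
  have hP : IsPGroup p (D₀.map L.subtype) := (isPGroup_defectGroup hM hD₀).map _
  have hPL : D₀.map L.subtype ≤ L := Subgroup.map_subtype_le _
  exact ⟨e, isBrauerPairOf_of_selected hM hP hCL hPL hind he hξ hsel,
    kills_iff_selected hM hP rfl hCL (core_le π L) (le_normalizer_core π L)
      (not_dvd_card_core hπ L) (hPL.trans (le_normalizer_core π L)) hind.1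
      (invOn_mono hPL (invOn_self _)) he hξ hsel⟩

end

/-! ## The Brauer correspondent -/

section

variable {π : Set ℕ} [Fact p.Prime] (hM : IsPModular p M) (hπ : p ∉ π)
variable {B : Set (IrrCharacter G)} {D : Subgroup G}
variable {B₁ : Set (IrrCharacter (Subgroup.normalizer (D : Set G)))}

include hM hπ in
theorem exists_pair_normalizer
    (hB₁ : IsInducedBlock M (Subgroup.normalizer (D : Set G)) B₁ B)
    (hB₁D : IsDefectGroup p M B₁ (D.subgroupOf (Subgroup.normalizer (D : Set G)))) :
    ∃ e : Set (IrrCharacter C[D]), IsBrauerPairOf p M B D e ∧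
      (Kills B₁ (piCoreOf π (Subgroup.normalizer (D : Set G))) ↔ GoodPair π ⟨D, e⟩) := by
  have hmap : (D.subgroupOf (Subgroup.normalizer (D : Set G))).map
      (Subgroup.normalizer (D : Set G)).subtype = D :=
    Subgroup.map_subgroupOf_eq_of_le Subgroup.le_normalizer
  have hC : C[D] ≤ Subgroup.normalizer (D : Set G) := Subgroup.centralizer_le_normalizer _
  have key := exists_pair_kills hM hπ hB₁ hB₁D (by rw [hmap]; exact hC)
  rw [hmap] at key
  obtain ⟨e, hof, hiff⟩ := key
  refine ⟨e, hof, hiff.trans ⟨kills_mono fun c hc => ?_, kills_mono fun c hc => ?_⟩⟩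
  · exact core_le_core hC (fun _ hx => mem_normalizer_centralizer hx) hc
  · exact core_inf_le hC (Subgroup.mem_inf.2 ⟨hc, c.2⟩)

include hM hπ in
theorem good_of_correspondent (hBD : IsDefectGroup p M B D)
    (hB₁ : IsInducedBlock M (Subgroup.normalizer (D : Set G)) B₁ B)
    (hB₁D : IsDefectGroup p M B₁ (D.subgroupOf (Subgroup.normalizer (D : Set G))))
    (hker : Kills B₁ (piCoreOf π (Subgroup.normalizer (D : Set G))))
    {Q : Subgroup G} {f : Set (IrrCharacter C[Q])} (hQ : IsBrauerPairOf p M B Q f) :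
    GoodPair π ⟨Q, f⟩ := by
  obtain ⟨e, hof, hiff⟩ := exists_pair_normalizer hM hπ hB₁ hB₁D
  exact good_of_maximal hM hπ (maximal_of_defectGroup hM hof hBD) (hiff.1 hker) hQ

include hM hπ in
/-- The kernel condition descends to blocks of subgroups inducing `B`. -/
theorem kills_of_correspondent (hBD : IsDefectGroup p M B D)
    (hB₁ : IsInducedBlock M (Subgroup.normalizer (D : Set G)) B₁ B)
    (hB₁D : IsDefectGroup p M B₁ (D.subgroupOf (Subgroup.normalizer (D : Set G))))
    (hker : Kills B₁ (piCoreOf π (Subgroup.normalizer (D : Set G))))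
    {L : Subgroup G} {F : Set (IrrCharacter L)} (hind : IsInducedBlock M L F B)
    {D₀ : Subgroup L} (hD₀ : IsDefectGroup p M F D₀) (hCL : C[D₀.map L.subtype] ≤ L) :
    Kills F (piCoreOf π L) := by
  obtain ⟨e, hof, hiff⟩ := exists_pair_kills hM hπ hind hD₀ hCL
  exact hiff.2 (kills_mono (fun c hc => core_inf_le hCL (Subgroup.mem_inf.2 ⟨hc, c.2⟩))
    (good_of_correspondent hM hπ hBD hB₁ hB₁D hker hof))

include hM hπ in
/-- The kernel condition ascends from a local block. -/
theorem kills_correspondent_of_local (hBD : IsDefectGroup p M B D)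
    (hB₁ : IsInducedBlock M (Subgroup.normalizer (D : Set G)) B₁ B)
    (hB₁D : IsDefectGroup p M B₁ (D.subgroupOf (Subgroup.normalizer (D : Set G))))
    {P : Subgroup G} (hP : IsPGroup p P) {H : Subgroup G} (hH : H = P ⊔ C[P])
    {b : Set (IrrCharacter H)} (hb : IsInducedBlock M H b B) (hfull : FullCore π P)
    (hker : Kills b (piCoreOf π C[P])) :
    Kills B₁ (piCoreOf π (Subgroup.normalizer (D : Set G))) := by
  classical
  subst hH
  have hCL : C[P] ≤ P ⊔ C[P] := le_sup_right
  have hPL : P ≤ P ⊔ C[P] := le_sup_left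
  have hLN := sup_centralizer_le_normalizer P
  obtain ⟨f, hf, hcoeff⟩ :=
    exists_centralizer_block hM hP hCL hPL hLN (invOn_sup_centralizer P) hb.1
  have hof := (isBrauerPairOf_iff_induced hM hP hCL hPL hLN (invOn_sup_centralizer P) hf hb.1
    hcoeff hb.2.1).2 hb
  obtain ⟨ξ, hξ⟩ := nonempty_of_isPBlock hM hf
  have htr : trV C[P] (P ⊔ C[P]) (indVec b) = indVec f := zc_injective fun c => by
    rw [zc_trV hCL, extF_indVec, hcoeff, ← extF_indVec, extF_coe]
  have hgood : GoodPair π ⟨P, f⟩ := by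
    refine (kills_iff_selected hM hP rfl hCL ((core_le π _).trans hCL)
      (hLN.trans (normalizer_le_normalizer_cenCore P)) (not_dvd_card_core hπ _)
      (Subgroup.le_normalizer.trans (normalizer_le_normalizer_cenCore P)) hb.1
      (invOn_mono hPL (invOn_self _)) hf hξ ?_).1 hker
    rw [htr, indVec, if_pos hξ, res_one]
  obtain ⟨R, g, hle, hmax⟩ := exists_maximal_above hM hof
  have hR := (good_of_ge hM hπ hle hfull hgood).2
  obtain ⟨e, hof', hiff⟩ := exists_pair_normalizer hM hπ hB₁ hB₁D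
  exact hiff.2 (good_of_maximal hM hπ hmax hR hof')

include hM in
/-- A central `p`-element lies in every defect group. -/
theorem mem_defectGroup_of_central {A : Type u} [Group A] [Fintype A]
    {F : Set (IrrCharacter A)} (hF : IsPBlock M F) {D₀ : Subgroup A}
    (hD₀ : IsDefectGroup p M F D₀) {z : A} (hz : z ∈ Subgroup.center A)
    (hzp : ∃ k : ℕ, orderOf z = p ^ k) : z ∈ D₀ := by
  classical
  obtain ⟨k, hk⟩ := hzp
  have hQ : IsPGroup p (Subgroup.zpowers z) := IsPGroup.of_card (n := k) (by rw [Nat.card_zpowers, hk])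
  have hne : ∃ c : A, ¬ MemLocalIdeal M (blockCoeff F c) := by
    obtain ⟨ξ, hξ⟩ := nonempty_of_isPBlock hM hF
    by_contra h
    simp only [not_exists, not_not] at h
    have := apply_mem_ideal hM (v := indVec F)
      (fun c => by rw [zc_indVec]; exact h c) ξ
    rw [indVec, if_pos hξ] at this
    exact not_memLocalIdeal_one hM this
  obtain ⟨c, hc⟩ := hne
  obtain ⟨x, hx⟩ := (exists_coeff_iff_conj_le hM hF hD₀ hQ).1 ⟨c, Subgroup.mem_centralizer_iff.2
    fun w hw => by
      obtain ⟨n, rfl⟩ := hw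
      exact ((Subgroup.mem_center_iff.1 (zpow_mem hz n)) c).symm, hc⟩
  have := hx ⟨z, Subgroup.mem_zpowers z, rfl⟩
  rwa [MulEquiv.coe_toMonoidHom, MulAut.conj_apply, (Subgroup.mem_center_iff.1 hz x),
    mul_inv_cancel_right] at this

end

end Cfsg.Lib.Block
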