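import Cfsg.Agent.Lib.Block.InducedTrans
import Cfsg.Agent.Lib.Block.PairKernel
import Cfsg.Agent.Lib.Block.MaxPairs
import Cfsg.Agent.Lib.Block.DefectPairs
import Cfsg.Agent.Lib.Block.Correspondence
import Cfsg.Agent.Lib.Block.AbelianLocal

/-!
# Blocks of a subgroup containing the centralizer of a defect group
-/

set_option autoImplicit false
set_option linter.unusedSectionVars false
set_option maxHeartbeats 1000000

namespace Cfsg.Lib.Block

open Cfsg

universe u

noncomputable local instance (priority := high) fintypeSubgroupInducedCentralizer {A : Type u}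
    [Group A] [Fintype A] (H : Subgroup A) : Fintype H := Fintype.ofFinite H

local notation "C[" P "]" => Subgroup.centralizer (SetLike.coe P)

variable {p : ℕ} [Fact p.Prime] {M : Ideal AlgInt} {G : Type u} [Group G] [Fintype G]
  (hM : IsPModular p M)

/-- The centralizer inside a subgroup containing it is the centralizer. -/
theorem map_centralizer_eq {H : Subgroup G} {D₀ : Subgroup H} (hC : C[D₀.map H.subtype] ≤ H) :
    (C[D₀]).map H.subtype = C[D₀.map H.subtype] := by
  refine le_antisymm ?_ fun g hg => ⟨⟨g, hC hg⟩, fun z hz => Subtype.ext (hg (z : G) ⟨z, hz, rfl⟩), rfl⟩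
  rintro _ ⟨h, hh, rfl⟩ _ ⟨z, hz, rfl⟩
  exact congrArg Subtype.val (hh z hz)

include hM in
/-- A block of `H ≥ C(D)` with defect group `D` induces a block, whose defect groups are above `D`
with centre inside `D`. -/
theorem induced_of_centralizer_le {H : Subgroup G} {b : Set (IrrCharacter H)}
    (hb : IsPBlock M b) {D₀ : Subgroup H} (hD₀ : IsDefectGroup p M b D₀)
    (hC : C[D₀.map H.subtype] ≤ H) :
    InducedBlockDefined M H b ∧ ∀ B : Set (IrrCharacter G), IsInducedBlock M H b B →
      ∃ E : Subgroup G, IsDefectGroup p M B E ∧ D₀.map H.subtype ≤ E ∧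
        ∀ x ∈ E, (∀ w ∈ E, x * w = w * x) → x ∈ D₀.map H.subtype := by
  classical
  set D : Subgroup G := D₀.map H.subtype with hD
  have hDp : IsPGroup p D₀ := isPGroup_defectGroup hM hD₀
  have hDp' : IsPGroup p D := hDp.map _
  set L' : Subgroup H := D₀ ⊔ C[D₀] with hL'
  have hmap : L'.map H.subtype = D ⊔ C[D] := by
    rw [hL', Subgroup.map_sup, map_centralizer_eq hC]
  obtain ⟨f, hmax⟩ := exists_pair_at_defect hM hb hD₀
  have hCL' : C[D₀] ≤ L' := le_sup_right
  have hDL' : D₀ ≤ L' := le_sup_left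
  have hLN' : L' ≤ Subgroup.normalizer (D₀ : Set H) := sup_centralizer_le_normalizer D₀
  obtain ⟨F, hF, -, hcoeff⟩ := exists_stabilizer_block hM hDp hDL' hCL' hLN' hmax.1.1.2
    (invOn_sup_centralizer D₀ _)
  have hFb : IsInducedBlock M L' F b := (isBrauerPairOf_iff_induced hM hDp hCL' hDL' hLN'
    (invOn_sup_centralizer D₀) hmax.1.1.2 hF hcoeff hb).1 hmax.1
  have hFD : IsDefectGroup p M F (D₀.subgroupOf L') := isDefectGroup_local_of_maximal hM
    ⟨hF, hLN', hCL', hcoeff, invOn_sup_centralizer D₀ _⟩ hDL' hmax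
  let e : ↥(D ⊔ C[D]) ≃* L' :=
    ((L'.equivMapOfInjective H.subtype (Subgroup.subtype_injective H)).trans
      (MulEquiv.subgroupCongr hmap)).symm
  have he : ∀ k : ↥(D ⊔ C[D]), ((e k : H) : G) = k := fun k => by
    conv_rhs => rw [← e.symm_apply_apply k]
    rfl
  set F' := pullSet e F with hF'
  have hF'b : IsPBlock M F' := isPBlock_pullSet e hF
  have hF'D : IsDefectGroup p M F' (D.subgroupOf (D ⊔ C[D])) := by
    have h : (D₀.subgroupOf L').map e.symm.toMonoidHom = D.subgroupOf (D ⊔ C[D]) := by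
      ext k
      rw [Subgroup.mem_map_equiv, MulEquiv.symm_symm, Subgroup.mem_subgroupOf, Subgroup.mem_subgroupOf]
      constructor
      · exact fun hk => ⟨_, hk, he k⟩
      · rintro ⟨z, hz, hzk⟩
        rwa [show ((e k : L') : H) = z from Subtype.ext ((he k).trans hzk.symm)]
    exact h ▸ isDefectGroup_pullSet e hFD
  refine ⟨?_, fun B hB => ?_⟩
  · obtain ⟨B, hB⟩ := exists_isInducedBlock hM hDp' le_sup_left le_sup_right
      (sup_centralizer_le_normalizer D) hF'b
    exact ⟨B, isInducedBlock_of_trans hM e he hFb hB⟩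
  have hF'B : IsInducedBlock M (D ⊔ C[D]) F' B := isInducedBlock_trans hM e he hFb hB
  obtain ⟨fG, hfG, hcoeffG⟩ := exists_centralizer_block hM hDp' le_sup_right le_sup_left
    (sup_centralizer_le_normalizer D) (invOn_sup_centralizer D) hF'b
  have hof := (isBrauerPairOf_iff_induced hM hDp' le_sup_right le_sup_left
    (sup_centralizer_le_normalizer D) (invOn_sup_centralizer D) hfG hF'b hcoeffG hB.2.1).2 hF'B
  obtain ⟨E, g, hle, hmaxE⟩ := exists_maximal_above hM hof
  refine ⟨E, isDefectGroup_of_maximal hM hmaxE, subpairLE_le hle, fun x hx hxc => ?_⟩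
  obtain ⟨D', hD', hge⟩ := le_defectGroup_of_subpair hM
    (⟨hF'b, sup_centralizer_le_normalizer D, le_sup_right, hcoeffG, invOn_sup_centralizer D _⟩ :
      IsLocalBlock p M D (D ⊔ C[D]) fG F') hmaxE.1.1 hle
  obtain ⟨y, hy⟩ := exists_conj_defectGroup hM hF'b hF'D hD'
  have hxC : x ∈ C[D] := fun w hw => (hxc w (subpairLE_le hle hw)).symm
  have hxL : x ∈ D ⊔ C[D] := Subgroup.mem_sup_right hxC
  have hxD' : (⟨x, hxL⟩ : ↥(D ⊔ C[D])) ∈ D' := hge ⟨hx, hxL⟩
  rw [← hy] at hxD'
  obtain ⟨w, hw, hwx⟩ := hxD'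
  have hwx' : (y : G) * w * (y : G)⁻¹ = x := congrArg Subtype.val hwx
  rw [← hwx']
  exact (Subgroup.mem_normalizer_iff.1 (sup_centralizer_le_normalizer D y.2) _).1 hw

end Cfsg.Lib.Block
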