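import Cfsg.Agent.Lib.Block.ThirdMain

/-!
# Multiplicities in characters induced from a block of the same defect
-/

set_option autoImplicit false
set_option linter.unusedSectionVars false
set_option maxHeartbeats 800000

namespace Cfsg.Lib.Block

open Cfsg
open scoped ComplexConjugate

universe u

variable {p : ℕ} {M : Ideal AlgInt} {G : Type u} [Group G] [Fintype G] [Fact p.Prime]

theorem exists_height_zero_induced (hM : IsPModular p M) {H : Subgroup G} [Fintype H]
    {b : Set (IrrCharacter H)} {B : Set (IrrCharacter G)} (hind : IsInducedBlock M H b B)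
    (hdef : blockDefect p b = blockDefect p B) {ζ : IrrCharacter H} (hζ : ζ ∈ b)
    (hζ0 : blockHeight p b (ζ : H → ℂ) = 0) :
    ∃ χ ∈ B, blockHeight p B (χ : G → ℂ) = 0 ∧
      ∃ a : ℕ, classInner (indFun H (ζ : H → ℂ)) (χ : G → ℂ) = (a : ℂ) ∧ ¬ p ∣ a := by
  classical
  obtain ⟨χ₀, hχ₀, hmin⟩ := exists_minVal (p := p) (nonempty_of_isPBlock hM hind.2.1)
  have h0 : blockHeight p B (χ₀ : G → ℂ) = 0 := (blockHeight_eq_zero_iff hχ₀).2 hmin
  have hne := regVal_restrict_not_mem hM (restrictRel_of_induced hM hind hζ hχ₀) hind.2.1 hχ₀ hχ₀ h0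
  by_contra hcon
  simp only [not_exists, not_and, not_not] at hcon
  apply hne
  have hcharind : IsCharacter G (indFun H (ζ : H → ℂ)) :=
    Char.isCharacter_indFun H ζ.2.isCharacter
  have hres : IsCharacter H (fun h : H => (χ₀ : G → ℂ) h) := χ₀.2.isCharacter.comp H.subtype
  have e1 : regInner p (ζ : H → ℂ) (fun h : H => (χ₀ : G → ℂ) h) =
      regInner p (χ₀ : G → ℂ) (indFun H (ζ : H → ℂ)) := by
    rw [← regInner_char_symm hres ζ, regInner, regInner,
      Char.classInner_indFun_right H _ (isClassFunction_pRegularPart χ₀.2.isClassFunction)]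
    congr 1
    funext h
    by_cases hr : IsPRegular p h
    · rw [pRegularPart_of_reg hr, pRegularPart_of_reg (by rwa [IsPRegular, Subgroup.orderOf_coe])]
    · rw [pRegularPart_of_sing hr,
        pRegularPart_of_sing (by rwa [IsPRegular, Subgroup.orderOf_coe])]
  rw [regVal, e1, Char.eq_sum_classInner hcharind.isClassFunction, regInner_sum_right,
    Finset.mul_sum, Finset.sum_div]
  refine memLocalIdeal_sum hM _ _ fun η _ => ?_
  obtain ⟨n, hn⟩ := hcharind.exists_nat_classInner η.2.isCharacter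
  rw [hn, Complex.conj_natCast]
  by_cases hη : η ∈ B
  swap
  · rw [regInner_eq_zero hM (vInt_indVec hM hind.2.1) hχ₀ hη, mul_zero, mul_zero, zero_div]
    exact memLocalIdeal_zero hM
  set d := blockDefect p B with hd
  have hden : charDegree (ζ : H → ℂ) * p ^ blockDefect p b ≠ 0 :=
    Nat.mul_ne_zero (charDegree_pos ζ).ne' (pow_ne_zero _ hM.1.ne_zero)
  set r : ℂ := ((Nat.card H : ℕ) : ℂ) /
    (charDegree (ζ : H → ℂ) * p ^ blockDefect p b : ℕ) with hr
  have hrmem : r ∈ locRing hM := natCast_div_mem hM hden (Or.inr (by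
    rw [factorization_deg_pow]
    have := blockDefect_add_minVal (p := p) (nonempty_of_isPBlock hM hind.1)
    rw [(blockHeight_eq_zero_iff hζ).1 hζ0]
    omega))
  have e2 : (Nat.card H : ℂ) * ((n : ℂ) * regInner p (χ₀ : G → ℂ) (η : G → ℂ)) /
      (ζ : H → ℂ) 1 = r * ((n : ℂ) * regN p B χ₀ η) := by
    rw [hr, regN, apply_one_eq_charDegree ζ, hdef, ← hd]
    have d1 : (charDegree (ζ : H → ℂ) : ℂ) ≠ 0 := by exact_mod_cast (charDegree_pos ζ).ne'
    have d2 : (p : ℂ) ≠ 0 := by exact_mod_cast hM.1.ne_zero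
    push_cast
    field_simp
  rw [e2]
  refine memLocalIdeal_mul_left hM hrmem ?_
  by_cases hz : blockHeight p B (η : G → ℂ) = 0
  · refine memLocalIdeal_mul_right hM ((memLocalIdeal_natCast_iff hM n).2 (hcon η hη hz n hn)) ?_
    obtain ⟨m, hm, -⟩ := exists_int_regN hM hind.2.1 hχ₀ hη
    rw [hm]
    exact mul_mem (intCast_mem _ _) (natCast_mem _ _)
  · refine memLocalIdeal_mul_left hM (natCast_mem _ _) ?_
    obtain ⟨m, hm, hdvd, -⟩ := exists_int_regN hM hind.2.1 hη hχ₀
    rw [← regN_symm, hm, h0, pow_zero, Nat.cast_one, mul_one]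
    obtain ⟨c, hc⟩ := hdvd (Nat.pos_of_ne_zero hz)
    rw [hc, Int.cast_mul, Int.cast_natCast]
    exact memLocalIdeal_mul_right hM ((memLocalIdeal_natCast_iff hM p).2 dvd_rfl)
      (intCast_mem _ _)

end Cfsg.Lib.Block
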