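import Cfsg.Agent.Lib.Block.CentralQuotientForm
import Cfsg.Agent.Lib.Block.BrauerFeit

/-!
# The regular parts of a block and of the block below it
-/

set_option autoImplicit false
set_option linter.unusedSectionVars false
set_option maxHeartbeats 800000

namespace Cfsg.Lib.Block

open Cfsg
open scoped ComplexConjugate

universe u

variable {p : ℕ} [hp : Fact p.Prime] {M : Ideal AlgInt} {G : Type u} [Group G] [Fintype G]

include hp in
open Classical in
/-- The products of the rows of the form. -/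
theorem IsRegForm.sum_mul {B : Set (IrrCharacter G)} {m : IrrCharacter G → IrrCharacter G → ℤ}
    (hm : IsRegForm p B m) (hM : IsPModular p M) (hB : IsPBlock M B) {x y : IrrCharacter G}
    (hx : x ∈ B) (hy : y ∈ B) :
    ∑ w ∈ B.toFinset, m x w * m w y = (p : ℤ) ^ blockDefect p B * m x y := by
  apply Int.cast_injective (α := ℂ)
  have e1 := sum_regInner_mul hM (p := p) (vInt_indVec hM hB) (η := y) hx
  have e2 := hm.eq x hx y hy
  rw [regN] at e2
  push_cast
  rw [← e2, ← e1, Finset.mul_sum, Finset.mul_sum]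
  refine Finset.sum_congr rfl fun w hw => ?_
  rw [← hm.eq x hx w (Set.mem_toFinset.1 hw), ← hm.eq w (Set.mem_toFinset.1 hw) y hy, regN, regN]
  push_cast
  ring

variable {N : Subgroup G} [N.Normal] [Fintype (G ⧸ N)]

include hp in
/-- The regular pairing of inflations. -/
theorem regInner_infl (hN : IsPGroup p N) (hNc : N ≤ Subgroup.center G)
    (φ ψ : IrrCharacter (G ⧸ N)) :
    (Nat.card N : ℂ) * regInner p (infl N φ : G → ℂ) (infl N ψ : G → ℂ) =
      regInner p (φ : G ⧸ N → ℂ) (ψ : G ⧸ N → ℂ) := by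
  classical
  have hmk : ∀ g : G, IsPRegular p g → IsPRegular p (g : G ⧸ N) := fun g hg h =>
    hg (h.trans (orderOf_map_dvd (QuotientGroup.mk' N) g))
  have hsum : ∑ g : G, pRegularPart p (infl N φ : G → ℂ) g * conj ((infl N ψ : G → ℂ) g) =
      ∑ q : G ⧸ N, pRegularPart p (φ : G ⧸ N → ℂ) q * conj ((ψ : G ⧸ N → ℂ) q) := by
    rw [← Finset.sum_filter_add_sum_filter_not Finset.univ (fun g : G => IsPRegular p g),
      ← Finset.sum_filter_add_sum_filter_not Finset.univ (fun q : G ⧸ N => IsPRegular p q),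
      Finset.sum_eq_zero (s := Finset.filter (fun g : G => ¬ IsPRegular p g) _)
        (fun g hg => by rw [pRegularPart_of_sing (Finset.mem_filter.1 hg).2, zero_mul]),
      Finset.sum_eq_zero (s := Finset.filter (fun q : G ⧸ N => ¬ IsPRegular p q) _)
        (fun q hq => by rw [pRegularPart_of_sing (Finset.mem_filter.1 hq).2, zero_mul]),
      add_zero, add_zero]
    refine Finset.sum_bij (fun g _ => (g : G ⧸ N)) (fun g hg => ?_) (fun g hg g' hg' he => ?_)
      (fun q hq => ?_) fun g hg => ?_
    · exact Finset.mem_filter.2 ⟨Finset.mem_univ _, hmk g (Finset.mem_filter.1 hg).2⟩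
    · exact eq_of_regular_lift hN hNc (Finset.mem_filter.1 hg).2 (Finset.mem_filter.1 hg').2 he
    · obtain ⟨g, hg, rfl⟩ := exists_regular_lift N q (Finset.mem_filter.1 hq).2
      exact ⟨g, Finset.mem_filter.2 ⟨Finset.mem_univ _, hg⟩, rfl⟩
    · rw [pRegularPart_of_reg (Finset.mem_filter.1 hg).2,
        pRegularPart_of_reg (hmk g (Finset.mem_filter.1 hg).2), infl_coe, infl_coe,
        Function.comp_apply, Function.comp_apply]
  have hN0 : (Nat.card N : ℂ) ≠ 0 := Nat.cast_ne_zero.2 Nat.card_pos.ne'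
  simp only [regInner, classInner, hsum]
  rw [← mul_assoc, Subgroup.card_eq_card_quotient_mul_card_subgroup N, Nat.cast_mul, mul_inv,
    mul_comm ((Nat.card (G ⧸ N) : ℂ))⁻¹, ← mul_assoc, mul_inv_cancel₀ hN0, one_mul]

include hp in
theorem regN_infl (hN : IsPGroup p N) (hNc : N ≤ Subgroup.center G) {B : Set (IrrCharacter G)}
    (hd : p ^ blockDefect p (deflSet N B) * Nat.card N = p ^ blockDefect p B)
    (φ ψ : IrrCharacter (G ⧸ N)) :
    regN p B (infl N φ) (infl N ψ) = regN p (deflSet N B) φ ψ := by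
  rw [regN, regN, ← regInner_infl hN hNc, ← hd]
  push_cast
  ring

open Classical in
include hp in
/-- The regular part of a member is an integral combination of those of the inflations. -/
theorem regPart_deflSet_int (hM : IsPModular p M) (hN : IsPGroup p N)
    (hNc : N ≤ Subgroup.center G) {B : Set (IrrCharacter G)} (hB : IsPBlock M B)
    {χ : IrrCharacter G} (hχ : χ ∈ B) :
    ∃ c : IrrCharacter (G ⧸ N) → ℤ, pRegularPart p (χ : G → ℂ) =
      ∑ φ ∈ (deflSet N B).toFinset, (c φ : ℂ) • pRegularPart p (infl N φ : G → ℂ) := by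
  set Θ : G → ℂ := fun g => (χ : G → ℂ) (pReg p g) with hΘ
  have hΘN : ∀ (g : G) (n : G), n ∈ N → Θ (g * n) = Θ g := by
    intro g n hn
    refine congrArg (χ : G → ℂ) ?_
    obtain ⟨k, hk⟩ := exists_orderOf_pPt (p := p) g
    obtain ⟨j, hj⟩ := exists_orderOf_eq_pow_of_mem hN hn
    have hc : ∀ x : G, Commute x n := fun x => (Subgroup.mem_center_iff.1 (hNc hn) x)
    obtain ⟨i, hi⟩ : ∃ i : ℕ, orderOf (pPt p g * n) = p ^ i := by
      obtain ⟨i, -, hi⟩ := (Nat.dvd_prime_pow hp.out).1 (orderOf_dvd_of_pow_eq_one (x := pPt p g * n)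
        (n := p ^ (k + j)) (by
          rw [(hc _).mul_pow, pow_add, pow_mul, ← hk, pow_orderOf_eq_one, one_pow, one_mul,
            mul_comm, pow_mul, ← hj, pow_orderOf_eq_one, one_pow]))
      exact ⟨i, hi⟩
    refine (eq_pReg (x := pPt p g * n) ?_ ?_ hi (not_dvd_orderOf_pReg g)).symm
    · rw [mul_assoc, ← (hc _).eq, ← mul_assoc, pPt_mul_pReg]
    · exact (pPt_commute_pReg g).mul_left (hc _).symm
  set f : G ⧸ N → ℂ := fun q => Θ q.out with hf
  have hfmk : ∀ g : G, f (g : G ⧸ N) = Θ g := fun g => by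
    obtain ⟨n, hn⟩ := QuotientGroup.mk_out_eq_mul N g
    rw [hf]; simp only [hn]
    exact hΘN g n n.2
  have hΘgen : IsGeneralizedCharacter G Θ := isGeneralized_comp_pReg χ.2.isCharacter
  have hint : ∀ φ : IrrCharacter (G ⧸ N), ∃ n : ℤ, classInner f (φ : G ⧸ N → ℂ) = n := by
    intro φ
    obtain ⟨n, hn⟩ := (Char.isGeneralizedCharacter_iff.1 hΘgen).2 _ (infl N φ).2
    refine ⟨n, ?_⟩
    rw [← hn, ← classInner_comp_mk]
    congr 1
    funext g
    exact hfmk g
  choose c hc using hint
  refine ⟨c, ?_⟩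
  have hfc : IsClassFunction (G ⧸ N) f := by
    intro q r
    induction q using QuotientGroup.induction_on with
    | H x =>
      induction r using QuotientGroup.induction_on with
      | H y =>
        rw [← QuotientGroup.mk_inv, ← QuotientGroup.mk_mul, ← QuotientGroup.mk_mul, hfmk, hfmk]
        exact (Char.isGeneralizedCharacter_iff.1 hΘgen).1 x y
  have hF : pRegularPart p (χ : G → ℂ) = ∑ φ : IrrCharacter (G ⧸ N),
      (c φ : ℂ) • pRegularPart p (infl N φ : G → ℂ) := by
    funext g
    simp only [Finset.sum_apply, Pi.smul_apply, smul_eq_mul]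
    by_cases hg : IsPRegular p g
    · rw [pRegularPart_of_reg hg]
      have h1 : Θ g = (χ : G → ℂ) g := by
        refine congrArg (χ : G → ℂ) ?_
        conv_rhs => rw [← pPt_mul_pReg (p := p) g, (pPt_eq_one_iff g).2 hg, one_mul]
      rw [← h1, ← hfmk]
      conv_lhs => rw [Char.eq_sum_classInner hfc]
      simp only [Finset.sum_apply, Pi.smul_apply, smul_eq_mul, hc]
      exact Finset.sum_congr rfl fun φ _ => by
        rw [pRegularPart_of_reg hg, infl_coe, Function.comp_apply]
    · rw [pRegularPart_of_sing hg]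
      exact (Finset.sum_eq_zero fun φ _ => by rw [pRegularPart_of_sing hg, mul_zero]).symm
  have hI := vInt_indVec hM hB
  set X : G → ℂ := pRegularPart p (χ : G → ℂ) -
    ∑ φ ∈ (deflSet N B).toFinset, (c φ : ℂ) • pRegularPart p (infl N φ : G → ℂ) with hX
  have hX' : X = ∑ φ ∈ Finset.univ \ (deflSet N B).toFinset,
      (c φ : ℂ) • pRegularPart p (infl N φ : G → ℂ) := by
    rw [hX, hF, sub_eq_iff_eq_add, Finset.sum_sdiff (Finset.subset_univ _)]
  have hzero : ∀ ψ : IrrCharacter G, classInner X (ψ : G → ℂ) = 0 := by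
    intro ψ
    by_cases hψ : ψ ∈ B
    · rw [hX', Char.classInner_sum_left, Finset.sum_eq_zero]
      intro φ hφ
      have hφ' : infl N φ ∉ B := fun h =>
        (Finset.mem_sdiff.1 hφ).2 (Set.mem_toFinset.2 h)
      rw [Char.classInner_smul_left, ← regInner,
        regInner_eq_zero hM (vInt_indVec hM (isPBlock_blockOf (infl N φ)))
          (self_mem_blockOf hM (infl N φ))
          (fun h => hφ' ((isPBlock_eq_of_mem hM hB (isPBlock_blockOf (infl N φ)) hψ h).symm ▸
            self_mem_blockOf hM (infl N φ))), mul_zero]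
    · rw [hX, Char.classInner_sub_left, Char.classInner_sum_left, ← regInner,
        regInner_eq_zero hM hI hχ hψ, zero_sub, neg_eq_zero]
      refine Finset.sum_eq_zero fun φ hφ => ?_
      rw [Char.classInner_smul_left, ← regInner, regInner_eq_zero hM hI
        ((Set.mem_toFinset (s := deflSet N B)).1 hφ : infl N φ ∈ B) hψ, mul_zero]
  have hcl : IsClassFunction G X := fun g x => by
    simp only [hX', Finset.sum_apply, Pi.smul_apply, smul_eq_mul]
    exact Finset.sum_congr rfl fun φ _ => by
      rw [isClassFunction_pRegularPart (infl N φ).2.isClassFunction g x]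
  have hX0 : X = 0 := by
    rw [Char.eq_sum_classInner hcl]
    exact Finset.sum_eq_zero fun ψ _ => by rw [hzero, zero_smul]
  exact sub_eq_zero.1 hX0

end Cfsg.Lib.Block
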