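import Cfsg.Agent.Lib.Invol.BrauerFowler
import Mathlib.GroupTheory.SchurZassenhaus
import Mathlib.GroupTheory.PGroup
import Mathlib.GroupTheory.Sylow

/-!
# Groups without odd normal subgroups and with a small involution centralizer

A finite group without nontrivial normal subgroups of odd order, with a bounded Sylow 2-subgroup
and an involution with bounded centralizer, has bounded order (Brauer–Fowler).
-/

set_option autoImplicit false
set_option linter.unusedSectionVars false

namespace Cfsg.Lib.Block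

universe u

variable {G : Type u} [Group G] [Finite G]

/-- No nontrivial normal subgroup of odd order. -/
def OddCoreFree (G : Type u) [Group G] : Prop :=
  ∀ N : Subgroup G, N.Normal → Odd (Nat.card N) → N = ⊥

/-- Brauer–Fowler: some element outside the identity has a centralizer of bounded index. -/
theorem exists_small_class {t : G} (ht : orderOf t = 2)
    (hbig : 2 * Nat.card (Subgroup.centralizer ({t} : Set G)) ^ 2 < Nat.card G) :
    ∃ x : G, x ≠ 1 ∧ (Subgroup.centralizer ({x} : Set G)).index ≤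
      2 * Nat.card (Subgroup.centralizer ({t} : Set G)) ^ 2 := by
  classical
  haveI := Fintype.ofFinite G
  set c := Nat.card (Subgroup.centralizer ({t} : Set G))
  set N := Nat.card G with hN
  set T := Nat.card {y : G // IsConj t y}
  have hT : T * c = N := Invol.card_conj_mul_centralizer t
  by_contra hcon
  simp only [not_exists, not_and, not_le] at hcon
  let fib : G → ℕ := fun x => Nat.card {w : {y : G // IsConj t y} × {y : G // IsConj t y} //
    (w.1 : G) * (w.2 : G) = x}
  have hinvol : ∀ y : {y : G // IsConj t y}, (y : G)⁻¹ = (y : G) := fun y => by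
    obtain ⟨g, hg⟩ := isConj_iff.1 y.2
    rw [← hg, mul_inv_rev, mul_inv_rev, inv_inv, inv_eq_of_mul_eq_one_right
      (show t * t = 1 by rw [← pow_two, ← ht, pow_orderOf_eq_one]), mul_assoc]
  have hfib : ∀ x : G, fib x ≤ Nat.card (Subgroup.centralizer ({x} : Set G)) := fun x => by
    rcases isEmpty_or_nonempty {w : {y : G // IsConj t y} × {y : G // IsConj t y} //
      (w.1 : G) * (w.2 : G) = x} with he | ⟨⟨w₀⟩⟩
    · simp [fib, Nat.card_of_isEmpty]
    refine Nat.card_le_card_of_injective (fun w => ⟨(w₀.1.1 : G) * (w.1.1 : G), ?_⟩) ?_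
    · have key : ∀ a b : G, a⁻¹ = a → b⁻¹ = b → a * b = x →
          a * x = x⁻¹ * a ∧ a * x⁻¹ = x * a := fun a b ha hb h => by
        subst h
        rw [mul_inv_rev, ha, hb]
        refine ⟨?_, (mul_assoc a b a).symm⟩
        have haa : a * a = 1 := (congrArg (· * a) ha.symm).trans (inv_mul_cancel a)
        rw [← mul_assoc, haa, one_mul, mul_assoc, haa, mul_one]
      rw [Subgroup.mem_centralizer_singleton_iff]
      have hw := (key _ _ (hinvol w.1.1) (hinvol w.1.2) w.2).1
      have h0 := (key _ _ (hinvol w₀.1.1) (hinvol w₀.1.2) w₀.2).2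
      rw [mul_assoc, hw, ← mul_assoc, h0, mul_assoc]
    · intro a b hab
      have h : (a.1.1 : G) = (b.1.1 : G) := mul_left_cancel (congrArg Subtype.val hab)
      have h' : (a.1.2 : G) = (b.1.2 : G) := by
        have := a.2.trans b.2.symm
        rwa [h, mul_left_cancel_iff] at this
      exact Subtype.ext (Prod.ext (Subtype.ext h) (Subtype.ext h'))
  have hsum : T * T = ∑ x : G, fib x := by
    rw [← Nat.card_prod, ← Nat.card_sigma]
    exact Nat.card_congr ⟨fun w => ⟨(w.1 : G) * (w.2 : G), w, rfl⟩, fun q => q.2.1, fun w => rfl,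
      by rintro ⟨x, w, h⟩; subst h; rfl⟩
  have hone : fib 1 ≤ T := by
    refine Nat.card_le_card_of_injective (fun w => w.1.1) fun a b hab => ?_
    have hab' : (a.1.1 : G) = (b.1.1 : G) := congrArg Subtype.val hab
    have := a.2.trans b.2.symm
    rw [hab', mul_left_cancel_iff] at this
    exact Subtype.ext (Prod.ext hab (Subtype.ext this))
  have hrest : ∀ x ∈ (Finset.univ : Finset G).erase 1, fib x * (2 * c ^ 2) ≤ N := fun x hx => by
    have h1 := hcon x (Finset.ne_of_mem_erase hx)
    have h2 := Subgroup.card_mul_index (Subgroup.centralizer ({x} : Set G))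
    calc fib x * (2 * c ^ 2) ≤ Nat.card (Subgroup.centralizer ({x} : Set G)) *
          (Subgroup.centralizer ({x} : Set G)).index := Nat.mul_le_mul (hfib x) h1.le
      _ = N := h2
  have hb : T * T * (2 * c ^ 2) ≤ T * (2 * c ^ 2) + N * N := by
    rw [hsum, ← Finset.add_sum_erase _ _ (Finset.mem_univ (1 : G)), add_mul, Finset.sum_mul]
    refine Nat.add_le_add (Nat.mul_le_mul_right _ hone) ((Finset.sum_le_sum hrest).trans ?_)
    rw [Finset.sum_const, smul_eq_mul]
    exact Nat.mul_le_mul_right _ ((Finset.card_le_univ _).trans (by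
      rw [hN, Nat.card_eq_fintype_card]))
  have e1 : T * T * (2 * c ^ 2) = 2 * (N * N) := by rw [← hT]; ring
  have e2 : T * (2 * c ^ 2) = 2 * c * N := by rw [← hT]; ring
  have hNpos : 0 < N := Nat.card_pos
  have hNc : N ≤ 2 * c := by
    refine Nat.le_of_mul_le_mul_right ?_ hNpos
    omega
  have hc : 0 < c := Nat.card_pos
  nlinarith

theorem centralizer_normalClosure_index_le (x : G) :
    (Subgroup.centralizer ((Subgroup.normalClosure ({x} : Set G) : Subgroup G) : Set G)).index ≤
      (Subgroup.centralizer ({x} : Set G)).index.factorial := by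
  classical
  set H := Subgroup.centralizer ({x} : Set G) with hH
  have hle : H.normalCore ≤
      Subgroup.centralizer ((Subgroup.normalClosure ({x} : Set G) : Subgroup G) : Set G) := by
    intro y hy
    rw [Subgroup.mem_centralizer_iff]
    intro z hz
    induction hz using Subgroup.closure_induction with
    | mem w hw =>
      obtain ⟨a, ha, haw⟩ := Group.mem_conjugatesOfSet_iff.1 hw
      rw [Set.mem_singleton_iff] at ha
      subst ha
      obtain ⟨g, rfl⟩ := isConj_iff.1 haw
      have := Subgroup.mem_centralizer_singleton_iff.1 (hy g⁻¹)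
      rw [inv_inv] at this
      calc g * a * g⁻¹ * y = g * (a * (g⁻¹ * y * g)) * g⁻¹ := by group
        _ = y * (g * a * g⁻¹) := by rw [← this]; group
    | one => simp
    | mul a b _ _ ha hb => exact (Commute.mul_left (show Commute a y from ha) hb).eq
    | inv a _ ha => exact (Commute.inv_left (show Commute a y from ha)).eq
  have h1 : H.normalCore.index ≤ H.index.factorial := by
    rw [Subgroup.normalCore_eq_ker, Subgroup.index_ker]
    refine (Subgroup.card_le_card_group _).trans ?_
    rw [Nat.card_perm, Subgroup.index_eq_card]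
  exact (Nat.le_of_dvd (Nat.pos_of_ne_zero Subgroup.index_ne_zero_of_finite)
    (Subgroup.index_dvd_of_le hle)).trans h1

/-- An abelian normal subgroup is a 2-group when there are no odd normal subgroups. -/
theorem isPGroup_two_of_abelian (hO : OddCoreFree G) {A : Subgroup G} (hA : A.Normal)
    (hcomm : ∀ a ∈ A, ∀ b ∈ A, a * b = b * a) : IsPGroup 2 A := by
  let S : Subgroup G :=
    { carrier := {a | a ∈ A ∧ Odd (orderOf a)}
      one_mem' := ⟨one_mem _, by simp⟩
      mul_mem' := fun {a b} ha hb => ⟨mul_mem ha.1 hb.1, (ha.2.mul hb.2).of_dvd_nat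
        (Commute.orderOf_mul_dvd_mul_orderOf (hcomm a ha.1 b hb.1))⟩
      inv_mem' := fun {a} ha => ⟨inv_mem ha.1, by rw [orderOf_inv]; exact ha.2⟩ }
  have hSn : S.Normal := ⟨fun a ha g => ⟨hA.conj_mem a ha.1 g, by
    rw [show orderOf (g * a * g⁻¹) = orderOf a from orderOf_injective (MulAut.conj g).toMonoidHom
      (MulEquiv.injective _) a]
    exact ha.2⟩⟩
  have hSo : Odd (Nat.card S) := by
    rw [← Nat.not_even_iff_odd, even_iff_two_dvd]
    intro h
    haveI : Fact (Nat.Prime 2) := ⟨Nat.prime_two⟩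
    obtain ⟨s, hs⟩ := exists_prime_orderOf_dvd_card' 2 h
    have := s.2.2
    rw [Subgroup.orderOf_coe, hs] at this
    exact absurd this (by decide)
  have hbot := hO S hSn hSo
  intro a
  obtain ⟨k, m, hm, hord⟩ := Nat.exists_eq_two_pow_mul_odd (orderOf_pos (a : G)).ne'
  refine ⟨k, Subtype.ext ?_⟩
  have hmem : (a : G) ^ (2 ^ k) ∈ S := by
    refine ⟨pow_mem a.2 _, ?_⟩
    rw [orderOf_pow_of_dvd (by positivity) (Dvd.intro m hord.symm), hord,
      Nat.mul_div_cancel_left _ (by positivity)]
    exact hm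
  rw [hbot, Subgroup.mem_bot] at hmem
  rw [SubgroupClass.coe_pow, OneMemClass.coe_one, hmem]

theorem card_two_group_le {a : ℕ} (ha : (Nat.card G).factorization 2 ≤ a) {A : Subgroup G}
    (hA : IsPGroup 2 A) : Nat.card A ≤ 2 ^ a := by
  haveI : Fact (Nat.Prime 2) := ⟨Nat.prime_two⟩
  obtain ⟨k, hk⟩ := IsPGroup.iff_card.1 hA
  rw [hk]
  refine Nat.pow_le_pow_right (by norm_num) (le_trans ?_ ha)
  exact (Nat.prime_two.pow_dvd_iff_le_factorization Nat.card_pos.ne').1
    (hk ▸ Subgroup.card_subgroup_dvd_card A)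

/-- A bounded normal subgroup of even order with quotient free of odd normal subgroups. -/
theorem exists_small_normal (hO : OddCoreFree G) {a n : ℕ}
    (ha : (Nat.card G).factorization 2 ≤ a) {t : G} (ht : orderOf t = 2)
    (hc : Nat.card (Subgroup.centralizer ({t} : Set G)) ≤ n) (hbig : 2 * n ^ 2 < Nat.card G) :
    ∃ W : Subgroup G, ∃ _ : W.Normal, Even (Nat.card W) ∧
      Nat.card W ≤ 2 ^ a * (2 * n ^ 2).factorial ∧ OddCoreFree (G ⧸ W) := by
  classical
  have hn2 : 2 * Nat.card (Subgroup.centralizer ({t} : Set G)) ^ 2 ≤ 2 * n ^ 2 :=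
    Nat.mul_le_mul_left 2 (Nat.pow_le_pow_left hc 2)
  obtain ⟨x, hx1, hx⟩ := exists_small_class ht (lt_of_le_of_lt hn2 hbig)
  set Z := Subgroup.normalClosure ({x} : Set G) with hZ
  haveI hZn : Z.Normal := Subgroup.normalClosure_normal
  set CZ := Subgroup.centralizer (Z : Set G) with hCZ
  haveI hCn : CZ.Normal := inferInstance
  have hidx : CZ.index ≤ (2 * n ^ 2).factorial :=
    (centralizer_normalClosure_index_le x).trans (Nat.factorial_le (hx.trans hn2))
  set A := Z ⊓ CZ with hA
  have hAn : A.Normal := inferInstance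
  have hAcomm : ∀ a ∈ A, ∀ b ∈ A, a * b = b * a := fun a ha b hb =>
    Subgroup.mem_centralizer_iff.1 (Subgroup.mem_inf.1 hb).2 a (Subgroup.mem_inf.1 ha).1
  have hA2 := isPGroup_two_of_abelian hO hAn hAcomm
  have hAcard := card_two_group_le ha hA2
  obtain ⟨W, ⟨hWn, hZW, hWodd⟩, hWmax⟩ := Set.exists_max_image
    {W : Subgroup G | W.Normal ∧ Z ≤ W ∧ Odd (Z.relIndex W)} (fun W => Nat.card W) (Set.toFinite _)
    ⟨Z, hZn, le_rfl, by rw [Subgroup.relIndex_self]; exact odd_one⟩
  haveI := hWn
  have hZne : Z ≠ ⊥ := fun h => hx1 (by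
    have := Subgroup.subset_normalClosure (Set.mem_singleton x)
    rwa [← hZ, h, SetLike.mem_coe, Subgroup.mem_bot] at this)
  have hZeven : Even (Nat.card Z) := by
    rw [← Nat.not_odd_iff_even]
    exact fun h => hZne (hO Z hZn h)
  have hWeven : Even (Nat.card W) := hZeven.trans_dvd (Subgroup.card_dvd_of_le hZW)
  -- `W` meets the centralizer of `Z` in a 2-group
  set C := W ⊓ CZ with hC
  have hAC : A ≤ C := inf_le_inf_right _ hZW
  have hCcent : ∀ c ∈ C, ∀ a ∈ A, a * c = c * a := fun c hc a ha =>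
    Subgroup.mem_centralizer_iff.1 (Subgroup.mem_inf.1 hc).2 a (Subgroup.mem_inf.1 ha).1
  set A' := A.subgroupOf C with hA'
  have hA'odd : Odd A'.index := by
    change Odd (A.relIndex C)
    refine hWodd.of_dvd_nat ?_
    rw [show A = Z ⊓ C by
      rw [hC, hA, ← inf_assoc, inf_eq_left.2 hZW], Subgroup.inf_relIndex_right]
    rw [← Subgroup.relIndex_sup_left (K := Z) C, ← Subgroup.relIndex_mul_relIndex Z (Z ⊔ C) W
      le_sup_left (sup_le hZW inf_le_left)]
    exact Dvd.intro _ rfl
  haveI : Fact (Nat.Prime 2) := ⟨Nat.prime_two⟩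
  haveI : A'.Normal := hAn.subgroupOf C
  obtain ⟨k, hk⟩ := IsPGroup.iff_card.1 hA2
  have hA'card : Nat.card A' = 2 ^ k := by
    rw [Nat.card_congr (Subgroup.subgroupOfEquivOfLe hAC).toEquiv, hk]
  have hcop : Nat.Coprime (Nat.card A') A'.index := by
    rw [hA'card]
    exact Nat.Coprime.pow_left _ (Nat.coprime_two_left.2 hA'odd)
  obtain ⟨H, hH⟩ := Subgroup.exists_right_complement'_of_coprime hcop
  have hHcard : Nat.card H = A'.index := by
    have h1 := hH.card_mul
    have h2 := Subgroup.card_mul_index A'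
    exact Nat.eq_of_mul_eq_mul_left (Nat.card_pos (α := A')) (h1.trans h2.symm)
  have hHn : H.Normal := by
    refine ⟨fun h hh c => ?_⟩
    obtain ⟨⟨⟨a, haA⟩, ⟨b, hbH⟩⟩, rfl⟩ := hH.surjective c
    have hab : a * (b * h * b⁻¹) = (b * h * b⁻¹) * a :=
      Subtype.ext (hCcent _ (b * h * b⁻¹).2 _ (Subgroup.mem_subgroupOf.1 haA))
    show a * b * h * (a * b)⁻¹ ∈ H
    rw [show a * b * h * (a * b)⁻¹ = a * (b * h * b⁻¹) * a⁻¹ by group, hab, mul_inv_cancel_right]
    exact mul_mem (mul_mem hbH hh) (inv_mem hbH)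
  have hHodd : ∀ c : C, c ∈ H ↔ Odd (orderOf c) := fun c => by
    constructor
    · intro hc
      refine (hHcard ▸ hA'odd).of_dvd_nat ?_
      rw [show c = ((⟨c, hc⟩ : H) : C) from rfl, Subgroup.orderOf_coe]
      exact orderOf_dvd_natCard _
    · intro hc
      rw [← QuotientGroup.eq_one_iff]
      refine orderOf_eq_one_iff.1 (Nat.eq_one_of_dvd_coprimes ?_
        (orderOf_map_dvd (QuotientGroup.mk' H) c) (orderOf_dvd_natCard _))
      rw [← Subgroup.index_eq_card, hH.index_eq_card, hA'card]
      exact Nat.Coprime.pow_right _ (Nat.coprime_two_right.2 hc)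
  haveI hCnG : C.Normal := inferInstance
  have hHmap : (H.map C.subtype).Normal := by
    refine ⟨fun y hy g => ?_⟩
    obtain ⟨c, hc, rfl⟩ := hy
    refine ⟨⟨g * c * g⁻¹, hCnG.conj_mem c c.2 g⟩, (hHodd _).2 ?_, rfl⟩
    have h1 := (hHodd c).1 hc
    rw [← Subgroup.orderOf_coe] at h1 ⊢
    rwa [show orderOf ((⟨g * c * g⁻¹, hCnG.conj_mem c c.2 g⟩ : C) : G) = orderOf (c : G) from
      orderOf_injective (MulAut.conj g).toMonoidHom (MulEquiv.injective _) (c : G)]
  have hHbot := hO _ hHmap (by
    rw [Subgroup.card_map_of_injective (Subgroup.subtype_injective C), hHcard]; exact hA'odd)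
  have hidx1 : A'.index = 1 := by
    rw [← hHcard, ← Subgroup.card_map_of_injective (Subgroup.subtype_injective C) (K := H), hHbot,
      Subgroup.card_bot]
  have hCA : C = A := le_antisymm (Subgroup.relIndex_eq_one.1 hidx1) hAC
  refine ⟨W, hWn, hWeven, ?_, ?_⟩
  · have h1 := Subgroup.relIndex_mul_relIndex (⊥ : Subgroup G) C W bot_le inf_le_left
    rw [Subgroup.relIndex_bot_left, Subgroup.relIndex_bot_left] at h1
    rw [← h1]
    refine Nat.mul_le_mul (hCA ▸ hAcard) ?_
    rw [hC, Subgroup.inf_relIndex_left]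
    exact (Nat.le_of_dvd (Nat.pos_of_ne_zero Subgroup.index_ne_zero_of_finite)
      (Subgroup.relIndex_dvd_index_of_normal CZ W)).trans hidx
  · intro N hNn hNodd
    set V := N.comap (QuotientGroup.mk' W) with hV
    have hWV : W ≤ V := QuotientGroup.le_comap_mk' W N
    have hrel : W.relIndex V = Nat.card N := by
      have := Subgroup.relIndex_comap (f := QuotientGroup.mk' W) (⊥ : Subgroup (G ⧸ W)) V
      rw [MonoidHom.comap_bot, QuotientGroup.ker_mk', hV,
        Subgroup.map_comap_eq_self_of_surjective (QuotientGroup.mk'_surjective W),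
        Subgroup.relIndex_bot_left] at this
      exact this
    have hVodd : Odd (Z.relIndex V) := by
      rw [← Subgroup.relIndex_mul_relIndex Z W V hZW hWV, hrel]
      exact hWodd.mul hNodd
    have hle := hWmax V ⟨hNn.comap _, hZW.trans hWV, hVodd⟩
    have hVW : V = W := (Subgroup.eq_of_le_of_card_ge hWV hle).symm
    rw [← Subgroup.card_eq_one, ← hrel, hVW, Subgroup.relIndex_self]

/-- The centralizer of the image of an element is no larger. -/
theorem card_centralizer_image_le (W : Subgroup G) [W.Normal] (t : G) :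
    Nat.card (Subgroup.centralizer ({(t : G ⧸ W)} : Set (G ⧸ W))) ≤
      Nat.card (Subgroup.centralizer ({t} : Set G)) := by
  set T := Nat.card {y : G // IsConj t y}
  set T' := Nat.card {y : G ⧸ W // IsConj (t : G ⧸ W) y}
  have h1 : T * Nat.card (Subgroup.centralizer ({t} : Set G)) = Nat.card G :=
    Invol.card_conj_mul_centralizer t
  have h2 : T' * Nat.card (Subgroup.centralizer ({(t : G ⧸ W)} : Set (G ⧸ W))) = Nat.card (G ⧸ W) :=
    Invol.card_conj_mul_centralizer _
  have h3 : T ≤ T' * Nat.card W := by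
    rw [← Nat.card_prod]
    refine Nat.card_le_card_of_injective (fun y =>
      (⟨(y : G), (QuotientGroup.mk' W).map_isConj y.2⟩,
        ⟨((y : G) : G ⧸ W).out⁻¹ * (y : G),
          QuotientGroup.eq.1 (QuotientGroup.out_eq' ((y : G) : G ⧸ W))⟩)) ?_
    intro a b hab
    have e1 : ((a : G) : G ⧸ W) = ((b : G) : G ⧸ W) := congrArg (fun q => (q.1 : G ⧸ W)) hab
    have e2 := congrArg (fun q => (q.2 : G)) hab
    simp only [e1, mul_left_cancel_iff] at e2
    exact Subtype.ext e2
  have h4 := Subgroup.card_eq_card_quotient_mul_card_subgroup W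
  have hT' : 0 < T' := by
    haveI : Nonempty {y : G ⧸ W // IsConj (t : G ⧸ W) y} := ⟨⟨_, IsConj.refl _⟩⟩
    exact Nat.card_pos
  refine Nat.le_of_mul_le_mul_left ?_ (Nat.mul_pos hT' (Nat.card_pos (α := W)))
  calc T' * Nat.card W * Nat.card (Subgroup.centralizer ({(t : G ⧸ W)} : Set (G ⧸ W)))
      = Nat.card (G ⧸ W) * Nat.card W := by rw [← h2]; ring
    _ = T * Nat.card (Subgroup.centralizer ({t} : Set G)) := by rw [← h4, h1]
    _ ≤ _ := Nat.mul_le_mul_right _ h3

/-- Bounded Sylow 2-subgroups and a bounded involution centralizer bound the order. -/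
theorem exists_bound_of_involution (a n : ℕ) : ∃ N : ℕ, ∀ (G : Type u) [Group G] [Finite G] (t : G),
    OddCoreFree G → (Nat.card G).factorization 2 ≤ a → orderOf t = 2 →
      Nat.card (Subgroup.centralizer ({t} : Set G)) ≤ n → Nat.card G ≤ N := by
  induction a with
  | zero =>
    refine ⟨0, fun G _ _ t _ ha ht _ => ?_⟩
    have h := (Nat.prime_two.dvd_iff_one_le_factorization Nat.card_pos.ne').1
      (ht ▸ orderOf_dvd_natCard t)
    omega
  | succ a ih =>
    obtain ⟨N, hN⟩ := ih
    set B := 2 ^ (a + 1) * (2 * n ^ 2).factorial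
    refine ⟨2 * n ^ 2 + n * B + B * N, fun G _ _ t hO ha ht hc => ?_⟩
    by_cases hbig : 2 * n ^ 2 < Nat.card G
    swap
    · omega
    obtain ⟨W, hWn, hWeven, hWB, hWO⟩ := exists_small_normal hO ha ht hc hbig
    by_cases htW : t ∈ W
    · have h1 : Nat.card {y : G // IsConj t y} * Nat.card (Subgroup.centralizer ({t} : Set G)) =
          Nat.card G := Invol.card_conj_mul_centralizer t
      have h2 : Nat.card {y : G // IsConj t y} ≤ Nat.card W :=
        Nat.card_le_card_of_injective (fun y => ⟨(y : G), by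
          obtain ⟨g, hg⟩ := isConj_iff.1 y.2
          rw [← hg]
          exact hWn.conj_mem t htW g⟩) fun x y hxy => Subtype.ext (congrArg Subtype.val hxy :)
      have h3 : Nat.card G ≤ B * n := h1 ▸ Nat.mul_le_mul (h2.trans hWB) hc
      rw [mul_comm] at h3
      omega
    · have h4 := Subgroup.card_eq_card_quotient_mul_card_subgroup W
      have ht' : orderOf (t : G ⧸ W) = 2 := by
        have hd : orderOf (t : G ⧸ W) ∣ 2 := ht ▸ orderOf_map_dvd (QuotientGroup.mk' W) t
        exact ((Nat.dvd_prime Nat.prime_two).1 hd).resolve_left fun h =>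
          htW ((QuotientGroup.eq_one_iff t).1 (orderOf_eq_one_iff.1 h))
      have hfac : (Nat.card (G ⧸ W)).factorization 2 ≤ a := by
        have h5 := (Nat.prime_two.dvd_iff_one_le_factorization Nat.card_pos.ne').1
          (even_iff_two_dvd.1 hWeven)
        have h6 : (Nat.card (G ⧸ W) * Nat.card W).factorization 2 =
            (Nat.card (G ⧸ W)).factorization 2 + (Nat.card W).factorization 2 := by
          rw [Nat.factorization_mul Nat.card_pos.ne' Nat.card_pos.ne', Finsupp.add_apply]
        rw [← h4] at h6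
        omega
      have h7 := hN (G ⧸ W) (t : G ⧸ W) hWO hfac ht' ((card_centralizer_image_le W t).trans hc)
      have h8 : Nat.card G ≤ B * N := by
        rw [h4, mul_comm]
        exact Nat.mul_le_mul hWB h7
      omega

end Cfsg.Lib.Block
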