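import Cfsg.Agent.Lib.Block.DecompositionColumns
import Cfsg.Agent.Lib.Block.SubsectionApps
import Cfsg.Agent.Lib.Block.Principal
import Cfsg.Agent.Lib.Local.PLengthOne
import Cfsg.Agent.Lib.Local.PLengthChain

/-!
# Principal blocks restricting irreducibly to a Sylow normalizer

The principal block restricts irreducibly to a Sylow normalizer exactly when the `p`-length is at
most one.
-/

set_option autoImplicit false
set_option linter.unusedSectionVars false
set_option linter.style.haveILetI false

namespace Cfsg.Lib.Block.IrrRestriction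

open Cfsg
open scoped ComplexConjugate

universe u

noncomputable local instance (priority := high) fintypeSubgroupIrrRestriction {A : Type u}
    [Group A] [Fintype A] (H : Subgroup A) : Fintype H := Fintype.ofFinite H

variable {p : ℕ} [hp : Fact p.Prime] {M : Ideal AlgInt} {G : Type u} [Group G] [Fintype G]
  (hM : IsPModular p M) (P : Sylow p G)

include hM in
theorem irreducible_of_pLength (hlen : PLengthLE p 1 G) {χ : IrrCharacter G}
    (hχ : χ ∈ principalBlock M G) :
    IsIrrCharacter ↥(Subgroup.normalizer ((P : Subgroup G) : Set G))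
      (fun n : ↥(Subgroup.normalizer ((P : Subgroup G) : Set G)) => (χ : G → ℂ) n) := by
  set N := Subgroup.normalizer ((P : Subgroup G) : Set G) with hN
  haveI : (pPrimeCore p G).Normal := inferInstance
  obtain ⟨φ, hφ, hφχ⟩ := Char.exists_deflate_irr (pPrimeCore p G) χ.2
    (principal_trivial_on hM (Core.pPrimeCore_not_dvd p G) hχ)
  have hsurj : Function.Surjective ((QuotientGroup.mk' (pPrimeCore p G)).comp N.subtype) := by
    intro q
    obtain ⟨g, rfl⟩ := QuotientGroup.mk_surjective q
    have hg : g ∈ pPrimeCore p G ⊔ N :=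
      Local.pLengthOne_sup_normalizer hlen P ▸ Subgroup.mem_top g
    obtain ⟨o, ho, n, hn, rfl⟩ := Subgroup.mem_sup_of_normal_left.1 hg
    refine ⟨⟨n, hn⟩, ?_⟩
    show (n : G ⧸ pPrimeCore p G) = ((o * n : G) : G ⧸ pPrimeCore p G)
    rw [QuotientGroup.mk_mul, (QuotientGroup.eq_one_iff o).2 ho, one_mul]
  have h := hφ.comp_surjective _ hsurj
  have e : (fun n : N => (χ : G → ℂ) n) =
      fun n : N => φ ((QuotientGroup.mk' (pPrimeCore p G)).comp N.subtype n) :=
    funext fun n => (hφχ (n : G)).symm
  rw [e]
  exact h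

include hM in
theorem pLength_of_irreducible
    (hirr : ∀ χ ∈ principalBlock M G,
      IsIrrCharacter ↥(Subgroup.normalizer ((P : Subgroup G) : Set G))
        (fun n : ↥(Subgroup.normalizer ((P : Subgroup G) : Set G)) => (χ : G → ℂ) n)) :
    PLengthLE p 1 G := by
  classical
  set B := principalBlock M G with hB'
  have hB : IsPBlock M B := isPBlock_principal
  set K := Subgroup.normalClosure ((P : Subgroup G) : Set G) with hK
  haveI : K.Normal := Subgroup.normalClosure_normal
  have hPK : (P : Subgroup G) ≤ K := Subgroup.subset_normalClosure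
  set N := Subgroup.normalizer ((P : Subgroup G) : Set G) with hN
  -- characters with a fixed vector of `P` are trivial on `K`
  have hfix : ∀ χ ∈ B, ∑ x : (P : Subgroup G), (χ : G → ℂ) x ≠ 0 →
      ∀ k ∈ K, (χ : G → ℂ) k = (χ : G → ℂ) 1 := by
    intro χ hχ hne
    set Q := (P : Subgroup G).subgroupOf N with hQ
    haveI : Q.Normal := Subgroup.normal_in_normalizer
    have hi := hirr χ hχ
    let e := Subgroup.subgroupOfEquivOfLe (Subgroup.le_normalizer (H := (P : Subgroup G)))
    have hsum : ∑ᶠ q : Q, (fun n : N => (χ : G → ℂ) n) q ≠ 0 := by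
      rw [finsum_eq_sum_of_fintype]
      convert hne using 1
      exact Fintype.sum_equiv e.toEquiv _ _ fun q => rfl
    obtain ⟨ψ, hψ, hne'⟩ := exists_trivial_on_of_classInner_ne (Q := Q) hi.isClassFunction hsum
    have hres : (fun n : N => (χ : G → ℂ) n) = (ψ : N → ℂ) := by
      by_contra hcon
      exact hne' (Char.classInner_irr_ne hi ψ.2 hcon)
    haveI := Char.charKer_normal χ.2.isCharacter
    have hle : K ≤ Char.charKer χ.2.isCharacter := Subgroup.normalClosure_le_normal fun x hx => by
      refine (Char.mem_charKer _).2 ?_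
      have h := hψ ⟨x, Subgroup.le_normalizer hx⟩ (Subgroup.mem_subgroupOf.2 hx)
      rw [← hres] at h
      simpa using h
    exact fun k hk => (Char.mem_charKer _).1 (hle hk)
  -- regular elements of `K` are in the kernel of the block
  obtain ⟨ι, hι, d, hmult, hpos, hvan⟩ := exists_decomposition_columns hM hB
  have hcol : ∀ i, ∃ χ ∈ B, d i χ ≠ 0 ∧ ∀ k ∈ K, (χ : G → ℂ) k = (χ : G → ℂ) 1 := by
    intro i
    by_contra hcon
    push Not at hcon
    have hz : ∑ χ ∈ B.toFinset, (∑ x : (P : Subgroup G), (χ : G → ℂ) x) * (d i χ : ℂ) = 0 :=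
      Finset.sum_eq_zero fun χ hχ => by
        by_cases hd : d i χ = 0
        · rw [hd, Nat.cast_zero, mul_zero]
        · rw [mul_eq_zero]
          refine Or.inl (by_contra fun hne => ?_)
          obtain ⟨k, hk, hk'⟩ := hcon χ (Set.mem_toFinset.1 hχ) hd
          exact hk' (hfix χ (Set.mem_toFinset.1 hχ) hne k hk)
    simp only [Finset.sum_mul] at hz
    rw [Finset.sum_comm, Finset.sum_eq_single (1 : (P : Subgroup G)) (fun x _ hx => ?_) (by simp)]
      at hz
    · simp only [OneMemClass.coe_one, apply_one_eq_charDegree, ← Nat.cast_mul, ← Nat.cast_sum,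
        Nat.cast_eq_zero] at hz
      exact (hpos i).ne' hz
    · refine hvan i _ ?_
      obtain ⟨j, hj⟩ := IsPGroup.iff_orderOf.1 P.isPGroup' x
      rw [← orderOf_submonoid x] at hj
      rw [hj]
      refine dvd_pow_self p fun h0 => hx ?_
      rw [h0, pow_zero, orderOf_eq_one_iff] at hj
      exact Subtype.ext hj
  have hreg : ∀ s ∈ K, IsPRegular p s → ∀ χ ∈ B, (χ : G → ℂ) s = (χ : G → ℂ) 1 := by
    intro s hsK hs χ hχ
    set T := Subgroup.zpowers s with hT
    have hTp : ¬ p ∣ Nat.card T := by rw [hT, Nat.card_zpowers]; exact hs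
    have hTc : ∀ a b : T, a * b = b * a := fun a b => Subtype.ext (by
      obtain ⟨i, hi⟩ := a.2
      obtain ⟨j, hj⟩ := b.2
      rw [Subgroup.coe_mul, Subgroup.coe_mul, ← hi, ← hj]
      exact zpow_mul_comm s i j)
    have hcT : IsClassFunction T (fun t : T => (χ : G → ℂ) t) :=
      fun a b => χ.2.isClassFunction (a : G) (b : G)
    let triv : IrrCharacter T := ⟨_, Char.isIrrCharacter_one⟩
    have h := Char.eq_sum_classInner hcT
    rw [Finset.sum_eq_single triv (fun θ _ hθ => ?_) (by simp)] at h
    · have h1 := congrFun h ⟨s, Subgroup.mem_zpowers s⟩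
      have h2 := congrFun h 1
      simp only [Pi.smul_apply, OneMemClass.coe_one] at h1 h2
      exact h1.trans h2.symm
    · obtain ⟨lam, hlam⟩ := Char.exists_hom_of_degree_one θ.2.isCharacter
        (Char.degree_eq_one_of_comm hTc θ.2)
      obtain ⟨r, hr⟩ := hmult T hTp lam
      have hr0 : ∀ i, r i = 0 := fun i => by
        obtain ⟨τ, hτ, hd, hτK⟩ := hcol i
        have h0 := hr τ hτ
        rw [show (fun t : T => (τ : G → ℂ) t) = (τ : G → ℂ) 1 • (fun _ => (1 : ℂ)) from funext
            fun t => by
              have : (t : G) ∈ K := (Subgroup.zpowers_le.2 hsK) t.2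
              simp [hτK _ this],
          Char.classInner_smul_left, ← hlam,
          Char.classInner_irr_ne Char.isIrrCharacter_one θ.2 (fun e => hθ (Subtype.ext e.symm)),
          mul_zero] at h0
        have h1 : ∑ j, r j * d j τ = 0 := by exact_mod_cast h0.symm
        have h2 := (Finset.sum_eq_zero_iff.1 h1) i (Finset.mem_univ i)
        exact (Nat.mul_eq_zero.1 h2).resolve_right hd
      rw [hlam, hr χ hχ]
      simp [hr0]
  -- the kernel of the block
  let L : Subgroup G := ⨅ χ : B, Char.charKer (χ.1).2.isCharacter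
  have hL : ∀ g, g ∈ L ↔ ∀ χ ∈ B, (χ : G → ℂ) g = (χ : G → ℂ) 1 := fun g => by
    simp only [L, Subgroup.mem_iInf, Char.mem_charKer, Subtype.forall]
  haveI hLn : L.Normal := Subgroup.normal_iInf_normal fun χ => Char.charKer_normal _
  have hLp : ¬ p ∣ Nat.card L := fun h => by
    obtain ⟨x, hx⟩ := exists_prime_orderOf_dvd_card' p h
    rw [← orderOf_submonoid x] at hx
    have hne : ¬ IsConj (pPt p (1 : G)) (pPt p (x : G))⁻¹ := by
      rw [(pPt_eq_one_iff (1 : G)).2 (by simp [hp.out.ne_one]), isConj_one_right, inv_eq_one,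
        pPt_eq_one_iff, hx]
      exact fun h => h dvd_rfl
    have h0 := sum_block_mul_eq_zero hM (vInt_indVec hM hB) hne
    rw [finsum_mem_eq_toFinset_sum, Finset.sum_congr rfl fun χ hχ => by
      rw [(hL _).1 x.2 χ (Set.mem_toFinset.1 hχ), apply_one_eq_charDegree χ, ← Nat.cast_mul],
      ← Nat.cast_sum, Nat.cast_eq_zero, Finset.sum_eq_zero_iff] at h0
    have h1 := h0 (trivChar G) (Set.mem_toFinset.2 (trivChar_mem_principal hM))
    have h2 : charDegree ((trivChar G : IrrCharacter G) : G → ℂ) = 1 := by
      apply Nat.cast_injective (R := ℂ)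
      rw [← apply_one_eq_charDegree, trivChar_coe, Nat.cast_one]
    rw [h2] at h1
    exact absurd h1 (by norm_num)
  set O := pPrimeCore p G with hO
  have hLO : L ≤ O := Core.le_pPrimeCore' hLn (Core.coprime_iff_not_dvd'.2 hLp)
  -- the chain
  rw [Local.pLengthLE_iff]
  refine ⟨fun i => if i = 0 then ⊥ else if i = 1 then O else if i = 2 then O ⊔ K else ⊤,
    rfl, rfl, ?_, ?_, ?_, ?_⟩
  · refine monotone_nat_of_le_succ fun i => ?_
    rcases i with _ | _ | _ | i
    · exact bot_le
    · exact (le_sup_left : O ≤ O ⊔ K)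
    · exact le_top
    · exact le_top
  · intro i
    rcases i with _ | _ | _ | i
    · show (⊥ : Subgroup G).Normal
      infer_instance
    · show O.Normal
      infer_instance
    · show (O ⊔ K).Normal
      infer_instance
    · show (⊤ : Subgroup G).Normal
      infer_instance
  · intro i hi
    rcases i with _ | _ | _ | i
    · show ((⊥ : Subgroup G).relIndex O).Coprime p
      rw [Subgroup.relIndex_bot_left]
      exact Core.pPrimeCore_coprime p G
    · simp at hi
    · show ((O ⊔ K).relIndex ⊤).Coprime p
      rw [Subgroup.relIndex_top_right]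
      refine Core.coprime_iff_not_dvd'.2 fun h => P.not_dvd_index (h.trans ?_)
      exact Subgroup.index_dvd_of_le (hPK.trans le_sup_right)
    · show ((⊤ : Subgroup G).relIndex ⊤).Coprime p
      simp
  · intro i hi
    rcases i with _ | _ | _ | i
    · simp at hi
    · show ∃ e, O.relIndex (O ⊔ K) = p ^ e
      have hpg : IsPGroup p (K.map (QuotientGroup.mk' O)) := by
        rintro ⟨_, k, hk, rfl⟩
        obtain ⟨j, hj⟩ := exists_orderOf_pPt (p := p) k
        have hregk : pReg p k ∈ O := hLO ((hL _).2 (hreg _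
          (Subgroup.zpowers_le.2 hk (pReg_mem_zpowers k)) (not_dvd_orderOf_pReg k)))
        refine ⟨j, Subtype.ext ?_⟩
        show (QuotientGroup.mk' O k) ^ p ^ j = 1
        rw [← pPt_mul_pReg (p := p) k, map_mul, (QuotientGroup.eq_one_iff _).2 hregk |>
          fun e => show QuotientGroup.mk' O (pReg p k) = 1 from e, mul_one, ← map_pow, ← hj,
          pow_orderOf_eq_one, map_one]
      obtain ⟨e, he⟩ := hpg.exists_card_eq
      refine ⟨e, ?_⟩
      rw [← he, sup_comm, Subgroup.relIndex_sup_right]
      have h2 := Subgroup.relIndex_map_map (f := QuotientGroup.mk' O) (H := O) (K := K)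
      rw [QuotientGroup.ker_mk', sup_idem, (Subgroup.map_eq_bot_iff _).2 (le_of_eq
        (QuotientGroup.ker_mk' O).symm), Subgroup.relIndex_bot_left] at h2
      rw [h2, Subgroup.relIndex_sup_right]
    · simp at hi
    · refine ⟨0, ?_⟩
      show (⊤ : Subgroup G).relIndex ⊤ = p ^ 0
      simp

end Cfsg.Lib.Block.IrrRestriction
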