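import Cfsg.Agent.S4465
import Cfsg.Agent.S4470
import Cfsg.Agent.Lib.Char.Monomial
import Mathlib.NumberTheory.PrimeCounting
import Mathlib.Data.Nat.Factorial.BigOperators

/-!
# The bound for abelian normal subgroups of linear groups

A `p`-group with a faithful character of degree `n` has an abelian subgroup of index dividing `n!`;
with the short-arc subgroup and the abelian Hall subgroup for the large primes this bounds the
index of an abelian normal subgroup.
-/

set_option autoImplicit false
set_option linter.unusedSectionVars false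

namespace Cfsg.Lib.Block

open Cfsg
open scoped ComplexConjugate

universe u

variable {G : Type u} [Group G] [Finite G]

/-- The index of the core divides the factorial of the index. -/
theorem index_normalCore_dvd_factorial (H : Subgroup G) :
    H.normalCore.index ∣ Nat.factorial H.index := by
  rw [Subgroup.normalCore_eq_ker, Subgroup.index_ker, Subgroup.index, ← Nat.card_perm]
  exact Subgroup.card_subgroup_dvd_card _

/-- A `p`-group with a faithful character of degree `n` has an abelian subgroup of index dividing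
`n!`. -/
theorem exists_abelian_index_dvd_factorial {p : ℕ} [hp : Fact p.Prime] (hG : IsPGroup p G)
    {χ : G → ℂ} (hχ : IsCharacter G χ) (hfaith : ∀ g : G, χ g = χ 1 → g = 1) {n : ℕ}
    (hn : χ 1 = n) :
    ∃ B : Subgroup G, (∀ a ∈ B, ∀ b ∈ B, a * b = b * a) ∧ B.index ∣ Nat.factorial n := by
  classical
  haveI := Fintype.ofFinite G
  haveI := hG.isNilpotent
  let s : Finset (IrrCharacter G) := Finset.univ.filter fun φ => classInner χ (φ : G → ℂ) ≠ 0
  choose H lam hH using fun φ : IrrCharacter G => Char.exists_monomial_of_nilpotent _ rfl φ.2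
  have hdeg : ∀ φ : IrrCharacter G, (φ : G → ℂ) 1 = ((H φ).index : ℂ) := fun φ => by
    haveI := Fintype.ofFinite (H φ)
    rw [hH φ, Char.indFun_apply_one, map_one, Units.val_one, mul_one]
  have hsum : ∑ φ ∈ s, (H φ).index ≤ n := by
    choose m hm using fun φ : IrrCharacter G => hχ.exists_nat_classInner φ.2.isCharacter
    have e := congrFun (Char.eq_sum_classInner hχ.isClassFunction) 1
    simp only [Finset.sum_apply, Pi.smul_apply, smul_eq_mul, hm, hdeg, ← Nat.cast_mul,
      ← Nat.cast_sum, hn, Nat.cast_inj] at e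
    rw [e]
    refine le_trans (Finset.sum_le_sum fun φ hφ => ?_)
      (Finset.sum_le_sum_of_subset (Finset.subset_univ s))
    refine Nat.le_mul_of_pos_left _ (Nat.pos_of_ne_zero fun h0 => (Finset.mem_filter.1 hφ).2 ?_)
    rw [hm, h0, Nat.cast_zero]
  refine ⟨⨅ φ : s, (H φ.1).normalCore, fun a ha b hb => ?_, ?_⟩
  · simp only [Subgroup.mem_iInf] at ha hb
    have h1 : χ (a * b * a⁻¹ * b⁻¹) = χ 1 := by
      rw [Char.eq_sum_classInner hχ.isClassFunction]
      simp only [Finset.sum_apply, Pi.smul_apply, smul_eq_mul]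
      refine Finset.sum_congr rfl fun φ _ => ?_
      by_cases hφ : classInner χ (φ : G → ℂ) = 0
      · rw [hφ, zero_mul, zero_mul]
      congr 1
      have haH := ha ⟨φ, Finset.mem_filter.2 ⟨Finset.mem_univ _, hφ⟩⟩
      have hbH := hb ⟨φ, Finset.mem_filter.2 ⟨Finset.mem_univ _, hφ⟩⟩
      rw [hH φ]
      simp only [indFun]
      congr 1
      refine Finset.sum_congr rfl fun x _ => ?_
      have hca : x⁻¹ * a * x ∈ H φ := Subgroup.normalCore_le _ (by
        simpa using (Subgroup.normalCore_normal (H φ)).conj_mem a haH x⁻¹)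
      have hcb : x⁻¹ * b * x ∈ H φ := Subgroup.normalCore_le _ (by
        simpa using (Subgroup.normalCore_normal (H φ)).conj_mem b hbH x⁻¹)
      let a' : H φ := ⟨x⁻¹ * a * x, hca⟩
      let b' : H φ := ⟨x⁻¹ * b * x, hcb⟩
      have e : x⁻¹ * (a * b * a⁻¹ * b⁻¹) * x = ((a' * b' * a'⁻¹ * b'⁻¹ : H φ) : G) := by
        simp only [a', b', Subgroup.coe_mul, InvMemClass.coe_inv]
        group
      rw [e, Char.extendByZero_coe, show x⁻¹ * 1 * x = ((1 : H φ) : G) by simp,
        Char.extendByZero_coe]
      simp only [map_mul, map_inv, map_one, Units.val_one]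
      rw [mul_right_comm (lam φ a') (lam φ b'), mul_inv_cancel, one_mul, mul_inv_cancel,
        Units.val_one]
    have h := hfaith _ h1
    calc a * b = a * b * a⁻¹ * b⁻¹ * (b * a) := by group
      _ = b * a := by rw [h, one_mul]
  · have hpow : ∀ K : Subgroup G, ∃ k : ℕ, K.index = p ^ k := fun K => hG.index K
    choose k hk using fun φ : s => hpow (H φ.1).normalCore
    have hdvd : (∏ φ : s, (H φ.1).normalCore.index) ∣ Nat.factorial n := by
      refine (Finset.prod_dvd_prod_of_dvd _ _ fun φ _ => index_normalCore_dvd_factorial _).trans ?_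
      refine (Nat.prod_factorial_dvd_factorial_sum Finset.univ _).trans
        (Nat.factorial_dvd_factorial ?_)
      rw [Finset.sum_coe_sort s fun φ => (H φ).index]
      exact hsum
    obtain ⟨j, hj⟩ := hpow (⨅ φ : s, (H φ.1).normalCore)
    refine dvd_trans ?_ hdvd
    rw [Finset.prod_congr rfl fun φ _ => hk φ, Finset.prod_pow_eq_pow_sum, hj]
    refine pow_dvd_pow p ((Nat.pow_le_pow_iff_right hp.out.one_lt).1 ?_)
    rw [← Finset.prod_pow_eq_pow_sum, ← Finset.prod_congr rfl fun φ _ => hk φ, ← hj]
    exact Subgroup.index_iInf_le _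

/-- The product of prime-power parts divides. -/
theorem prod_ordProj_dvd (m : ℕ) (t : Finset ℕ) (ht : ∀ r ∈ t, r.Prime) :
    (∏ r ∈ t, r ^ m.factorization r) ∣ m := by
  classical
  induction t using Finset.induction_on with
  | empty => simp
  | insert a t ha ih =>
    rw [Finset.prod_insert ha]
    refine Nat.Coprime.mul_dvd_of_dvd_of_dvd (Nat.Coprime.prod_right fun r hr => ?_)
      (Nat.ordProj_dvd m a) (ih fun r hr => ht r (Finset.mem_insert_of_mem hr))
    exact Nat.Coprime.pow _ _ ((Nat.coprime_primes (ht a (Finset.mem_insert_self _ _))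
      (ht r (Finset.mem_insert_of_mem hr))).2 fun e => ha (e ▸ hr))

/-- The part of an index for a set of primes is controlled by a Hall subgroup. -/
theorem prod_mul_card_inf_le {A S : Subgroup G} [A.Normal] (t : Finset ℕ)
    (hsp : ∀ r ∈ t, r.Prime) (hS : (Nat.card S).Coprime S.index)
    (hSi : ∀ r ∈ t, ¬ r ∣ S.index) :
    (∏ r ∈ t, r ^ A.index.factorization r) * Nat.card (A ⊓ S : Subgroup G) ≤ Nat.card S := by
  refine Nat.le_of_dvd Nat.card_pos ?_
  have h1 : (∏ r ∈ t, r ^ A.index.factorization r) ∣ A.index := prod_ordProj_dvd _ t hsp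
  have h2 : (∏ r ∈ t, r ^ A.index.factorization r) * Nat.card (A ⊓ S : Subgroup G) ∣
      Nat.card S * S.index := by
    rw [Subgroup.card_mul_index, ← A.card_mul_index, mul_comm]
    exact Nat.mul_dvd_mul (Subgroup.card_dvd_of_le inf_le_left) h1
  refine Nat.Coprime.dvd_of_dvd_mul_right ?_ h2
  refine Nat.Coprime.mul_left (Nat.Coprime.prod_left fun r hr => ?_) ?_
  · exact Nat.Coprime.pow_left _ ((hsp r hr).coprime_iff_not_dvd.2 (hSi r hr))
  · exact hS.coprime_dvd_left (Subgroup.card_dvd_of_le inf_le_right)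

/-- The part of an index at a set of primes, bounded through an abelian subgroup. -/
theorem prod_le_index_mul {A S B : Subgroup G} [A.Normal] (t : Finset ℕ)
    (hsp : ∀ r ∈ t, r.Prime) (hS : (Nat.card S).Coprime S.index)
    (hSi : ∀ r ∈ t, ¬ r ∣ S.index) (hBS : B ≤ S) :
    (∏ r ∈ t, r ^ A.index.factorization r) ≤
      (B.subgroupOf S).index * (A.subgroupOf B).index := by
  have h := prod_mul_card_inf_le t hsp hS hSi (A := A)
  have e1 : (B.subgroupOf S).index * Nat.card B = Nat.card S := by
    rw [← Nat.card_congr (Subgroup.subgroupOfEquivOfLe hBS).toEquiv, mul_comm]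
    exact (B.subgroupOf S).card_mul_index
  have e2 : (A.subgroupOf B).index * Nat.card (A ⊓ B : Subgroup G) = Nat.card B := by
    have h3 : Nat.card (A.subgroupOf B) = Nat.card (A ⊓ B : Subgroup G) := by
      rw [← Subgroup.inf_subgroupOf_right]
      exact Nat.card_congr (Subgroup.subgroupOfEquivOfLe inf_le_right).toEquiv
    rw [← h3, mul_comm]
    exact (A.subgroupOf B).card_mul_index
  refine Nat.le_of_mul_le_mul_right (h.trans ?_)
    (Nat.card_pos (α := (A ⊓ S : Subgroup G)))
  rw [← e1, ← e2, ← mul_assoc]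
  exact Nat.mul_le_mul_left _ (Subgroup.card_le_of_le (inf_le_inf_left A hBS))

/-- The classical bound for finite linear groups. -/
theorem exists_abelian_normal_index_le {χ : G → ℂ} (hχ : IsCharacter G χ)
    (hfaith : ∀ g : G, χ g = χ 1 → g = 1) (n : ℕ) (hn : charDegree χ = n) :
    ∃ A : Subgroup G, A.Normal ∧ (∀ x ∈ A, ∀ y ∈ A, x * y = y * x) ∧
      A.index ≤ Nat.factorial n * 12 ^ (n * (Nat.primeCounting (n + 1) + 1)) := by
  classical
  haveI := Fintype.ofFinite G
  obtain ⟨A, hAn, hAab, hA⟩ := Cfsg.Agent.S4470.result χ hχ hfaith n hn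
  obtain ⟨H, hHab, hHp, hHi⟩ := Cfsg.Agent.S4465.result χ hχ hfaith n hn
  refine ⟨A, hAn, hAab, ?_⟩
  haveI := hAn
  obtain ⟨d, -, hd⟩ : ∃ d : ℕ, True ∧ χ 1 = d := by
    obtain ⟨d, hd⟩ := hχ.exists_degree
    exact ⟨d, trivial, hd⟩
  have hdn : d = n := by rw [← hn, charDegree_eq_of_apply_one hd]
  subst hdn
  set S₁ := A.index.primeFactors.filter fun r => r ≤ d + 1 with hS₁
  set S₂ := A.index.primeFactors.filter fun r => ¬ r ≤ d + 1 with hS₂
  have hidx : A.index =
      (∏ r ∈ S₁, r ^ A.index.factorization r) * ∏ r ∈ S₂, r ^ A.index.factorization r := by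
    rw [hS₁, hS₂, Finset.prod_filter_mul_prod_filter_not]
    conv_lhs => rw [← Nat.prod_factorization_pow_eq_self (Subgroup.index_ne_zero_of_finite (H := A))]
    rfl
  have hlarge : ∏ r ∈ S₂, r ^ A.index.factorization r ≤ 12 ^ d := by
    refine le_trans (prod_le_index_mul (A := A) (S := H) (B := H) S₂
      (fun r hr => Nat.prime_of_mem_primeFactors (Finset.mem_filter.1 hr).1)
      (Nat.coprime_of_dvd fun r hr hrH hri => ?_) (fun r hr hri => (Finset.mem_filter.1 hr).2
        (hHi r (Nat.prime_of_mem_primeFactors (Finset.mem_filter.1 hr).1) hri)) le_rfl) ?_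
    · have := hHp r hr hrH
      have := hHi r hr hri
      omega
    · rw [Subgroup.subgroupOf_self, Subgroup.index_top, one_mul]
      exact hA H hHab
  have hsmall : ∀ r ∈ S₁, r ^ A.index.factorization r ≤
      r ^ (Nat.factorial d).factorization r * 12 ^ d := by
    intro r hr
    have hrp := Nat.prime_of_mem_primeFactors (Finset.mem_filter.1 hr).1
    haveI : Fact r.Prime := ⟨hrp⟩
    obtain ⟨P⟩ := Sylow.nonempty (p := r) (G := G)
    obtain ⟨B, hBab, hBi⟩ := exists_abelian_index_dvd_factorial P.2
      (hχ.comp (P : Subgroup G).subtype)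
      (fun g h => Subtype.ext (hfaith g (by simpa using h))) (n := d) (by simpa using hd)
    have hmap : ((B.map (P : Subgroup G).subtype).subgroupOf (P : Subgroup G)).index = B.index := by
      rw [Subgroup.subgroupOf, Subgroup.comap_map_eq_self_of_injective
        (P : Subgroup G).subtype_injective]
    obtain ⟨k, hk⟩ := P.2.index B
    have hkle : k ≤ (Nat.factorial d).factorization r :=
      (hrp.pow_dvd_iff_le_factorization (Nat.factorial_pos d).ne').1 (hk ▸ hBi)
    have h := prod_le_index_mul (A := A) (S := (P : Subgroup G))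
      (B := B.map (P : Subgroup G).subtype) {r} (fun q hq => Finset.mem_singleton.1 hq ▸ hrp)
      P.card_coprime_index (fun q hq => Finset.mem_singleton.1 hq ▸ P.not_dvd_index)
      (Subgroup.map_subtype_le B)
    rw [Finset.prod_singleton, hmap, hk] at h
    refine h.trans (Nat.mul_le_mul (Nat.pow_le_pow_right hrp.pos hkle) (hA _ ?_))
    rintro _ ⟨a, ha, rfl⟩ _ ⟨b, hb, rfl⟩
    rw [← map_mul, ← map_mul, hBab a ha b hb]
  have hfac : ∏ r ∈ S₁, r ^ (Nat.factorial d).factorization r ≤ Nat.factorial d := by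
    exact Nat.le_of_dvd (Nat.factorial_pos d) (prod_ordProj_dvd _ S₁ fun r hr =>
      Nat.prime_of_mem_primeFactors (Finset.mem_filter.1 hr).1)
  have hcard : S₁.card ≤ Nat.primeCounting (d + 1) := by
    show S₁.card ≤ Nat.primeCounting' (d + 1 + 1)
    rw [← Nat.primesBelow_card_eq_primeCounting']
    refine Finset.card_le_card fun r hr => Nat.mem_primesBelow.2
      ⟨Nat.lt_succ_of_le (Finset.mem_filter.1 hr).2,
        Nat.prime_of_mem_primeFactors (Finset.mem_filter.1 hr).1⟩
  calc A.index ≤ (∏ r ∈ S₁, r ^ (Nat.factorial d).factorization r * 12 ^ d) * 12 ^ d := by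
        rw [hidx]; exact Nat.mul_le_mul (Finset.prod_le_prod' hsmall) hlarge
    _ ≤ Nat.factorial d * 12 ^ (d * S₁.card) * 12 ^ d := by
        rw [Finset.prod_mul_distrib, Finset.prod_const, ← pow_mul]
        exact Nat.mul_le_mul_right _ (Nat.mul_le_mul_right _ hfac)
    _ ≤ Nat.factorial d * 12 ^ (d * (Nat.primeCounting (d + 1) + 1)) := by
        rw [mul_assoc, ← pow_add]
        refine Nat.mul_le_mul_left _ (Nat.pow_le_pow_right (by norm_num) ?_)
        rw [Nat.mul_succ]
        exact Nat.add_le_add_right (Nat.mul_le_mul_left _ hcard) _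

end Cfsg.Lib.Block
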