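import Cfsg.Agent.Lib.Block.SubsectionApps
import Cfsg.Agent.Lib.Block.SectionCount
import Cfsg.Agent.Lib.Fusion.Abelian
import Cfsg.Agent.Lib.Invol.KleinFour
import Cfsg.Agent.Lib.Invol.SylowTools
import Cfsg.Agent.Lib.Char.Galois

/-!
# The principal 2-block for a four-group Sylow subgroup and one class of involutions
-/

set_option autoImplicit false
set_option linter.unusedSectionVars false
set_option maxHeartbeats 400000

namespace Cfsg.Lib.Block

open Cfsg
open scoped ComplexConjugate

universe u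

variable {G : Type u} [Group G] [Fintype G] {P : Sylow 2 G} {M : Ideal AlgInt}

/-- A four-group Sylow subgroup with all involutions conjugate. -/
structure KleinCond (P : Sylow 2 G) : Prop where
  card : Nat.card P = 4
  sq : ∀ x ∈ (P : Subgroup G), x * x = 1
  fuse : ∀ s t : G, orderOf s = 2 → orderOf t = 2 → IsConj s t

theorem KleinCond.isKleinFour (h : KleinCond P) : IsKleinFour (P : Subgroup G) where
  card_four := h.card
  exponent_two := by
    haveI : Finite (P : Subgroup G) := inferInstance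
    refine (Nat.dvd_prime Nat.prime_two).1 (Monoid.exponent_dvd_of_forall_pow_eq_one
      (G := (P : Subgroup G)) (n := 2) fun x => Subtype.ext ?_) |>.resolve_left ?_
    · rw [pow_two]; exact h.sq x x.2
    · intro he
      haveI := Monoid.exp_eq_one_iff.1 he
      have : Nat.card (P : Subgroup G) = 1 := Nat.card_unique
      rw [show Nat.card (P : Subgroup G) = 4 from h.card] at this
      omega

theorem orderOf_eq_two_of_sq {g : G} (h : g * g = 1) (h1 : g ≠ 1) : orderOf g = 2 :=
  orderOf_eq_prime (by rw [pow_two, h]) h1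

theorem KleinCond.sq_of_two_power (h : KleinCond P) {g : G} {k : ℕ} (hg : orderOf g = 2 ^ k) :
    g * g = 1 := by
  obtain ⟨x, hx⟩ := Invol.exists_conj_mem_sylow P
    (IsPGroup.of_card (n := k) (by rw [Nat.card_zpowers, hg]) : IsPGroup 2 (Subgroup.zpowers g))
  have := h.sq _ (hx g (Subgroup.mem_zpowers g))
  have e : x * (g * g) * x⁻¹ = 1 := by rw [← this]; group
  simpa using e

theorem KleinCond.orderOf_pPt (h : KleinCond P) {g : G} (hg : ¬ IsPRegular 2 g) :
    orderOf (pPt 2 g) = 2 := by
  haveI : Fact (Nat.Prime 2) := ⟨Nat.prime_two⟩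
  obtain ⟨k, hk⟩ := exists_orderOf_pPt (p := 2) g
  refine orderOf_eq_two_of_sq (h.sq_of_two_power hk) fun h1 => hg ?_
  exact (pPt_eq_one_iff g).1 h1

theorem KleinCond.singular_iff (h : KleinCond P) {z : G} (hz : orderOf z = 2) (g : G) :
    IsConj (pPt 2 g) z ↔ ¬ IsPRegular 2 g := by
  haveI : Fact (Nat.Prime 2) := ⟨Nat.prime_two⟩
  refine ⟨fun hc hr => ?_, fun hg => h.fuse _ _ (h.orderOf_pPt hg) hz⟩
  rw [(pPt_eq_one_iff g).2 hr, isConj_iff] at hc
  obtain ⟨c, hc⟩ := hc
  rw [mul_one, mul_inv_cancel] at hc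
  rw [← hc, orderOf_one] at hz
  omega

/-- The Sylow subgroup may be moved to contain a given involution. -/
theorem KleinCond.exists_sylow (h : KleinCond P) {z : G} (hz : orderOf z = 2) :
    ∃ Q : Sylow 2 G, z ∈ (Q : Subgroup G) ∧ KleinCond Q := by
  haveI : Fact (Nat.Prime 2) := ⟨Nat.prime_two⟩
  obtain ⟨Q, hQ⟩ := (IsPGroup.of_card (n := 1) (by rw [Nat.card_zpowers, hz, pow_one]) :
    IsPGroup 2 (Subgroup.zpowers z)).exists_le_sylow
  obtain ⟨g, hg⟩ := MulAction.exists_smul_eq G P Q
  refine ⟨Q, hQ (Subgroup.mem_zpowers z), ⟨?_, fun x hx => ?_, h.fuse⟩⟩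
  · rw [← h.card]
    exact Nat.card_congr (Q.equiv P).toEquiv
  · rw [← hg] at hx
    obtain ⟨y, hy, rfl⟩ := hx
    show MulAut.conj g y * MulAut.conj g y = 1
    rw [← map_mul, h.sq y hy, map_one]

/-- The centralizer of an involution has a normal 2-complement of index four. -/
theorem KleinCond.exists_complement (h : KleinCond P) {z : G} (hzP : z ∈ (P : Subgroup G))
    (hz : orderOf z = 2) :
    ∃ O : Subgroup (Subgroup.centralizer ({z} : Set G)), O.Normal ∧ ¬ 2 ∣ Nat.card O ∧
      O.index = 4 ∧ O.IsComplement' ((P : Subgroup G).subgroupOf _) := by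
  haveI : Fact (Nat.Prime 2) := ⟨Nat.prime_two⟩
  haveI := h.isKleinFour
  set C := Subgroup.centralizer ({z} : Set G) with hC
  have hcommP : ∀ x ∈ (P : Subgroup G), ∀ y ∈ (P : Subgroup G), x * y = y * x :=
    fun x hx y hy => Invol.klein_comm hx hy
  have hPC : (P : Subgroup G) ≤ C := fun x hx => Subgroup.mem_centralizer_singleton_iff.2
    (hcommP x hx z hzP)
  set S : Sylow 2 C := P.subtype hPC with hS
  have hScoe : (S : Subgroup C) = (P : Subgroup G).subgroupOf C := Sylow.coe_subtype P hPC
  have hnc : Subgroup.normalizer ((S : Subgroup C) : Set C) ≤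
      Subgroup.centralizer ((S : Subgroup C) : Set C) := by
    intro n hn
    refine Subgroup.mem_centralizer_iff.2 fun a ha => ?_
    rw [SetLike.mem_coe, hScoe, Subgroup.mem_subgroupOf] at ha
    by_contra hne
    have hnN : (n : G) ∈ Subgroup.normalizer ((P : Subgroup G) : Set G) := by
      refine Subgroup.mem_normalizer_iff.2 fun y => ⟨fun hy => ?_, fun hy => ?_⟩
      · have h1 := (Subgroup.mem_normalizer_iff.1 hn ⟨y, hPC hy⟩).1
          (by rw [hScoe]; exact Subgroup.mem_subgroupOf.2 hy)
        rw [hScoe] at h1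
        exact Subgroup.mem_subgroupOf.1 h1
      · have hyC : y ∈ C := by
          have h2 := C.mul_mem (C.mul_mem (C.inv_mem n.2) (hPC hy)) n.2
          simpa [mul_assoc] using h2
        have h1 := (Subgroup.mem_normalizer_iff.1 hn ⟨y, hyC⟩).2
          (by rw [hScoe]; exact Subgroup.mem_subgroupOf.2 hy)
        rw [hScoe] at h1
        exact Subgroup.mem_subgroupOf.1 h1
    have hz1 : z ≠ 1 := fun e => by rw [e, orderOf_one] at hz; omega
    have hfix : (n : G) * z * (n : G)⁻¹ = z := by
      rw [Subgroup.mem_centralizer_singleton_iff.1 n.2, mul_inv_cancel_right]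
    have hmove : (n : G) * (a : G) * (n : G)⁻¹ ≠ (a : G) := fun e => hne (Subtype.ext (by
      show (a : G) * (n : G) = (n : G) * (a : G)
      exact (mul_inv_eq_iff_eq_mul.1 e).symm))
    set b := (n : G) * (a : G) * (n : G)⁻¹ with hb
    have hbP : b ∈ (P : Subgroup G) := (Subgroup.mem_normalizer_iff.1 hnN a).1 ha
    have ha1 : (a : G) ≠ 1 := fun e => hmove (by rw [hb, e, mul_one, mul_inv_cancel])
    have hb1 : b ≠ 1 := fun e => ha1 (by simpa [hb] using e)
    have haz : (a : G) ≠ z := fun e => hmove (by rw [hb, e, hfix])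
    have hab : b = z * (a : G) := by
      rcases Invol.klein_mem_cases hzP ha hz1 ha1 (Ne.symm haz) hbP hb1 with e | e | e
      · exact absurd (mul_left_cancel (mul_right_cancel (hb.symm.trans (e.trans hfix.symm)))) haz
      · exact absurd e hmove
      · exact e
    have hstep : ∀ j : ℕ, (n : G) ^ j * (a : G) * ((n : G) ^ j)⁻¹ = z ^ j * (a : G) := by
      intro j
      induction j with
      | zero => simp
      | succ j ih =>
        have hcz : Commute (n : G) (z ^ j) :=
          Commute.pow_right (Subgroup.mem_centralizer_singleton_iff.1 n.2) j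
        calc (n : G) ^ (j + 1) * (a : G) * ((n : G) ^ (j + 1))⁻¹
            = (n : G) * ((n : G) ^ j * (a : G) * ((n : G) ^ j)⁻¹) * (n : G)⁻¹ := by
              rw [pow_succ']; group
          _ = ((n : G) * z ^ j) * (a : G) * (n : G)⁻¹ := by rw [ih, ← mul_assoc]
          _ = (z ^ j * (n : G)) * (a : G) * (n : G)⁻¹ := by rw [hcz.eq]
          _ = z ^ j * b := by rw [hb]; group
          _ = z ^ (j + 1) * (a : G) := by rw [hab, pow_succ, mul_assoc]
    obtain ⟨k, m, hm, hord⟩ := Nat.exists_eq_two_pow_mul_odd (orderOf_pos (n : G)).ne'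
    have hnm : (n : G) ^ m ∈ (P : Subgroup G) := by
      have h2 : IsPGroup 2 (Subgroup.zpowers ((n : G) ^ m)) := by
        refine IsPGroup.of_card (n := k) ?_
        rw [Nat.card_zpowers, orderOf_pow, hord, Nat.gcd_eq_right (dvd_mul_left m (2 ^ k)),
          Nat.mul_div_cancel _ hm.pos]
      have hs := Cfsg.Lib.Local.isPGroup_sup_of_le_normalizer h2 P.isPGroup'
        (Subgroup.zpowers_le.mpr (pow_mem hnN m))
      exact P.is_maximal' hs le_sup_right ▸ Subgroup.mem_sup_left (Subgroup.mem_zpowers _)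
    have e := hstep m
    rw [hcommP _ hnm _ ha, mul_inv_cancel_right] at e
    have hzm : z ^ m = 1 := mul_eq_right.mp e.symm
    have hdvd : 2 ∣ m := hz ▸ orderOf_dvd_of_pow_eq_one hzm
    exact (Nat.not_even_iff_odd.2 hm) (even_iff_two_dvd.2 hdvd)
  obtain ⟨O, hOn, hOc⟩ := (Fusion.hasNormalPComplement_iff_exists S).1
    (Fusion.hasNormalPComplement_of_normalizer_le_centralizer S hnc)
  rw [hScoe] at hOc
  have hcardS : Nat.card ((P : Subgroup G).subgroupOf C) = 4 := by
    rw [Nat.card_congr (Subgroup.subgroupOfEquivOfLe hPC).toEquiv]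
    exact h.card
  have hidx : O.index = 4 := by rw [hOc.symm.index_eq_card, hcardS]
  refine ⟨O, hOn, fun hd => ?_, hidx, hOc⟩
  have hni : ¬ 2 ∣ (S : Subgroup C).index := S.not_dvd_index
  rw [hScoe, hOc.index_eq_card] at hni
  exact hni hd

end Cfsg.Lib.Block
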