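import Cfsg.Agent.Lib.Block.KleinCount

/-!
# The order of a group from the degrees in its principal 2-block
-/

set_option autoImplicit false
set_option linter.unusedSectionVars false
set_option maxHeartbeats 800000

namespace Cfsg.Lib.Block

open Cfsg
open scoped ComplexConjugate

universe u

variable {G : Type u} [Group G] [Fintype G] {P : Sylow 2 G} {M : Ideal AlgInt}
  (hM : IsPModular 2 M) (hP : KleinCond P) {z : G} (hz : orderOf z = 2)

include hM hP hz in
open Classical in
theorem klein_order_eq (hzP : z ∈ (P : Subgroup G)) :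
    (Nat.card G : ℂ) *
        (∑ χ ∈ (principalBlock M G).toFinset, (χ : G → ℂ) z / (χ : G → ℂ) 1) *
        (Nat.card (Subgroup.centralizer ((P : Subgroup G) : Set G)) : ℂ) ^ 2 =
      8 * (Nat.card (Subgroup.centralizer ({z} : Set G)) : ℂ) ^ 3 := by
  haveI : Fact (Nat.Prime 2) := ⟨Nat.prime_two⟩
  set K := Char.classFinset z with hK
  set S := ∑ χ ∈ (principalBlock M G).toFinset, (χ : G → ℂ) z / (χ : G → ℂ) 1 with hS
  set c := (Nat.card (Subgroup.centralizer ({z} : Set G)) : ℂ) with hc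
  set N : G → ℂ := fun g => (K.card : ℂ) * K.card / (Nat.card G : ℂ) * ∑ χ : IrrCharacter G,
    (χ : G → ℂ) z * (χ : G → ℂ) z * conj ((χ : G → ℂ) g) / (χ : G → ℂ) 1 with hN
  have hG : (Nat.card G : ℂ) ≠ 0 := Char.card_cast_ne_zero
  have hKc : (K.card : ℂ) * c = (Nat.card G : ℂ) := by
    rw [hK, Char.card_classFinset, hc, ← Nat.cast_mul, Subgroup.index_mul_card]
  have hc0 : c ≠ 0 := Nat.cast_ne_zero.2 Nat.card_pos.ne'
  have hsing : 4 * ∑ g ∈ Finset.univ.filter (fun g : G => ¬ IsPRegular 2 g), N g =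
      (K.card : ℂ) * K.card * S := by
    have hterm : ∀ χ : IrrCharacter G, 4 * ∑ g ∈ Finset.univ.filter (fun g : G => ¬ IsPRegular 2 g),
        (χ : G → ℂ) z * (χ : G → ℂ) z * conj ((χ : G → ℂ) g) / (χ : G → ℂ) 1 =
        (Nat.card G : ℂ) *
          (if χ ∈ principalBlock M G then (χ : G → ℂ) z / (χ : G → ℂ) 1 else 0) := by
      intro χ
      obtain ⟨m, hm⟩ := int_value_involution χ hz
      have hs := congrArg conj (klein_sum_singular hM hP hz χ)
      rw [map_mul, map_mul, map_natCast, map_sum,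
        show conj (4 : ℂ) = 4 from Complex.conj_ofNat 4] at hs
      rw [← Finset.sum_div, ← Finset.mul_sum]
      split_ifs at hs ⊢ with hχ
      · obtain ⟨hsg, -⟩ := klein_signs hM hP hz
        rw [hm, map_intCast, ← hm] at hs
        have hsq : (χ : G → ℂ) z * (χ : G → ℂ) z = 1 := by
          rcases hsg χ hχ with e | e <;> rw [e] <;> norm_num
        rw [hsq, one_mul, ← mul_div_assoc, hs, mul_div_assoc]
      · rw [map_zero, mul_zero] at hs
        rw [(mul_eq_zero.1 hs).resolve_left (by norm_num)]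
        simp
    simp only [hN, ← Finset.mul_sum]
    rw [Finset.sum_comm, mul_left_comm, Finset.mul_sum]
    simp only [hterm]
    rw [← Finset.mul_sum, ← mul_assoc, div_mul_cancel₀ _ hG, hS, ← Finset.sum_filter]
    congr 1
    exact Finset.sum_congr (by ext; simp) fun _ _ => rfl
  have hNc : IsClassFunction G N := fun g x => by
    simp only [hN]
    congr 1
    exact Finset.sum_congr rfl fun χ _ => by rw [χ.2.isClassFunction g x]
  have hfil : (Finset.univ.filter fun g : G => IsConj (pPt 2 g) z) =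
      Finset.univ.filter fun g : G => ¬ IsPRegular 2 g :=
    Finset.filter_congr fun g _ => hP.singular_iff hz g
  have h1 := card_mul_sum_pPt_conj (p := 2) hNc z
  rw [hfil] at h1
  set T := ((K ×ˢ K).filter fun q => pPt 2 (q.1 * q.2) = z).card with hT
  have hpairs : ∑ g ∈ Finset.univ.filter (fun g : G => pPt 2 g = z), N g = (T : ℂ) := by
    rw [hT, Finset.card_eq_sum_card_fiberwise (f := fun q : G × G => q.1 * q.2)
      (t := Finset.univ.filter fun g : G => pPt 2 g = z) (fun q hq => by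
        simpa using (Finset.mem_filter.1 hq).2), Nat.cast_sum]
    refine Finset.sum_congr rfl fun g hg => ?_
    simp only [hN, hK]
    rw [← Char.card_class_product z z g]
    congr 2
    ext q
    simp only [Finset.mem_filter]
    constructor
    · rintro ⟨h, h'⟩
      exact ⟨⟨h, by rw [h']; exact (Finset.mem_filter.1 hg).2⟩, h'⟩
    · rintro ⟨⟨h, -⟩, h'⟩
      exact ⟨h, h'⟩
  rw [hpairs] at h1
  have hcnt : (T : ℂ) * (Nat.card (Subgroup.centralizer ((P : Subgroup G) : Set G)) : ℂ) ^ 2 =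
      2 * c ^ 2 := by
    rw [hc, hT, hK]
    exact_mod_cast klein_pair_count hP hz hzP
  have h2 : (K.card : ℂ) * S = 4 * (T : ℂ) := by
    have h4 : c * ((K.card : ℂ) * K.card * S) = 4 * ((Nat.card G : ℂ) * T) := by
      rw [← hsing]; linear_combination 4 * h1
    rw [← hKc] at h4
    apply mul_left_cancel₀ (mul_ne_zero hc0 (show (K.card : ℂ) ≠ 0 from fun h => hG (by
      rw [← hKc, h, zero_mul])))
    linear_combination h4
  rw [← hKc]
  linear_combination
    (c * (Nat.card (Subgroup.centralizer ((P : Subgroup G) : Set G)) : ℂ) ^ 2) * h2 + 4 * c * hcnt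

/-- The identity among the four degrees. -/
theorem klein_alpha {x₁ x₂ x₃ e₁ e₂ e₃ : ℚ} (h1 : x₁ ≠ 0) (h2 : x₂ ≠ 0) (h3 : x₃ ≠ 0)
    (he1 : e₁ * e₁ = 1) (he2 : e₂ * e₂ = 1) (he3 : e₃ * e₃ = 1)
    (hrel : 1 + e₁ * x₁ + e₂ * x₂ + e₃ * x₃ = 0) :
    (x₁ + e₁) * (x₂ + e₂) * (x₃ + e₃) =
      x₁ * x₂ * x₃ * (1 + e₁ / x₁ + e₂ / x₂ + e₃ / x₃) := by
  field_simp
  linear_combination e₁ * e₂ * e₃ * hrel - e₂ * e₃ * x₁ * he1 - e₁ * e₃ * x₂ * he2 -
    e₁ * e₂ * x₃ * he3

end Cfsg.Lib.Block
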