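import Cfsg.Agent.Lib.Block.FreeIsometry
import Cfsg.Agent.Lib.Block.AbelianKlein
import Cfsg.Agent.Lib.Block.InducedTrans
import Cfsg.Agent.Lib.Block.Correspondence
import Cfsg.Agent.Lib.Block.CyclicCorrespondent

/-!
# Perfect isometries between blocks with Klein four defect groups

At every involution of the defect group the four characters have sections one or minus one. With
inertial index three the three columns agree; with inertial index one they are, up to signs, the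
nontrivial characters of a four group.
-/

set_option autoImplicit false
set_option linter.unusedSectionVars false
set_option maxHeartbeats 800000

namespace Cfsg.Lib.Block

open Cfsg Cfsg.Lib.Char
open scoped ComplexConjugate

universe u

noncomputable local instance (priority := high) fintypeSubgroupKleinIsometry {A : Type u}
    [Group A] [Fintype A] (H : Subgroup A) : Fintype H := Fintype.ofFinite H

local notation "C[" Q "]" => Subgroup.centralizer (SetLike.coe Q)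

/-- The third column of a sign table with orthogonal columns of sum zero is the product of the
other two, and two columns separate the rows. -/
theorem sign_table {α : Type*} (s : Finset α) (x y z : α → ℤ)
    (hx : ∀ a ∈ s, x a = 1 ∨ x a = -1) (hy : ∀ a ∈ s, y a = 1 ∨ y a = -1)
    (hs : (s.card : ℤ) = 4) {a₀ : α} (ha₀ : a₀ ∈ s) (h₀ : x a₀ = 1 ∧ y a₀ = 1 ∧ z a₀ = 1)
    (sx : ∑ a ∈ s, x a = 0) (sy : ∑ a ∈ s, y a = 0) (sz : ∑ a ∈ s, z a = 0)
    (sxy : ∑ a ∈ s, x a * y a = 0) (sxz : ∑ a ∈ s, x a * z a = 0)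
    (syz : ∑ a ∈ s, y a * z a = 0) :
    Set.InjOn (fun a => (x a, y a)) s ∧ ∀ a ∈ s, z a = x a * y a := by
  classical
  obtain ⟨W, hW⟩ : ∃ W : α → α → ℤ, W = fun a b => (1 + x a * x b) * (1 + y a * y b) := ⟨_, rfl⟩
  have hexp : ∀ (w : α → ℤ) a, ∑ b ∈ s, W a b * w b = ∑ b ∈ s, w b + x a * ∑ b ∈ s, x b * w b +
      y a * ∑ b ∈ s, y b * w b + x a * y a * ∑ b ∈ s, x b * y b * w b := by
    intro w a
    simp only [hW, Finset.mul_sum, ← Finset.sum_add_distrib]
    exact Finset.sum_congr rfl fun b _ => by ring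
  have hnn : ∀ a ∈ s, ∀ b ∈ s, 0 ≤ W a b := fun a ha b hb => by
    rcases hx a ha with e1 | e1 <;> rcases hy a ha with e2 | e2 <;>
      rcases hx b hb with e3 | e3 <;> rcases hy b hb with e4 | e4 <;> simp [hW, e1, e2, e3, e4]
  have hself : ∀ a ∈ s, W a a = 4 := fun a ha => by
    rcases hx a ha with e1 | e1 <;> rcases hy a ha with e2 | e2 <;> simp [hW, e1, e2]
  have hzero : ∀ a ∈ s, ∀ b ∈ s, b ≠ a → W a b = 0 := by
    intro a ha
    have h := hexp (fun _ => 1) a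
    simp only [mul_one, Finset.sum_const, nsmul_eq_mul, hs, sx, sy, sxy, mul_zero, add_zero] at h
    rw [← Finset.add_sum_erase _ _ ha, hself a ha] at h
    have h0 : ∑ b ∈ s.erase a, W a b = 0 := by linarith
    exact fun b hb hne => (Finset.sum_eq_zero_iff_of_nonneg fun c hc => hnn a ha c
      (Finset.mem_of_mem_erase hc)).1 h0 b (Finset.mem_erase.2 ⟨hne, hb⟩)
  refine ⟨fun a ha b hb e => ?_, ?_⟩
  · by_contra hne
    have h := hzero a ha b hb (Ne.symm hne)
    have e1 : x a = x b := congrArg Prod.fst e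
    have e2 : y a = y b := congrArg Prod.snd e
    have h4 := hself a ha
    simp only [hW] at h h4
    rw [← e1, ← e2] at h
    omega
  have hz : ∀ a ∈ s, 4 * z a = x a * y a * ∑ b ∈ s, x b * y b * z b := by
    intro a ha
    have h := hexp z a
    rw [Finset.sum_eq_single a (fun b hb hne => by rw [hzero a ha b hb hne, zero_mul])
      (fun h => absurd ha h), hself a ha, sz, sxz, syz] at h
    linear_combination h
  intro a ha
  have h := hz a ha
  have e := hz a₀ ha₀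
  rw [h₀.1, h₀.2.1, h₀.2.2] at e
  have e' : ∑ b ∈ s, x b * y b * z b = 4 := by linarith
  rw [e'] at h
  linarith

/-- Bijections of subtypes give bijections on sets. -/
theorem exists_bijOn_of_equiv {α β : Type*} {s : Set α} {t : Set β} (E : s ≃ t) (b : β) :
    ∃ I : α → β, Set.BijOn I s t ∧ ∀ a (ha : a ∈ s), I a = E ⟨a, ha⟩ := by
  classical
  refine ⟨fun a => if h : a ∈ s then (E ⟨a, h⟩ : β) else b, ?_, fun a ha => dif_pos ha⟩
  refine ⟨fun a ha => ?_, fun a ha a' ha' e => ?_, fun c hc => ?_⟩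
  · beta_reduce
    rw [dif_pos ha]
    exact (E _).2
  · beta_reduce at e
    rw [dif_pos ha, dif_pos ha'] at e
    exact congrArg Subtype.val (E.injective (Subtype.ext e))
  · refine ⟨E.symm ⟨c, hc⟩, (E.symm _).2, ?_⟩
    beta_reduce
    rw [dif_pos (E.symm _).2, Subtype.coe_eta, E.apply_symm_apply]

/-- A nontrivial element of a four group is one of two given ones or their product. -/
theorem klein_cases {G : Type u} [Group G] {P : Subgroup G} (hV : IsKleinFour P) {x y v : G}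
    (hx : x ∈ P) (hx1 : x ≠ 1) (hy : y ∈ P) (hy1 : y ≠ 1) (hxy : x ≠ y) (hv : v ∈ P) (hv1 : v ≠ 1) :
    v = x ∨ v = y ∨ v = x * y := by
  haveI := hV
  by_cases h1 : v = x
  · exact Or.inl h1
  by_cases h2 : v = y
  · exact Or.inr (Or.inl h2)
  refine Or.inr (Or.inr ?_)
  exact congrArg Subtype.val (IsKleinFour.eq_mul_of_ne_all (x := (⟨x, hx⟩ : P)) (y := ⟨y, hy⟩)
    (z := ⟨v, hv⟩) (fun h => hx1 (congrArg Subtype.val h)) (fun h => hy1 (congrArg Subtype.val h))
    (fun h => hxy (congrArg Subtype.val h)) (fun h => hv1 (congrArg Subtype.val h))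
    (fun h => h1 (congrArg Subtype.val h)) (fun h => h2 (congrArg Subtype.val h)))

/-- A four group has two different nontrivial elements whose product is a third one. -/
theorem klein_basis {G : Type u} [Group G] {P : Subgroup G} (hV : IsKleinFour P) :
    ∃ x y : G, x ∈ P ∧ x ≠ 1 ∧ y ∈ P ∧ y ≠ 1 ∧ x ≠ y ∧
      x * y ∈ P ∧ x * y ≠ 1 ∧ x ≠ x * y ∧ y ≠ x * y := by
  haveI := hV
  obtain ⟨a, b, c, hab, hac, hbc⟩ : ∃ a b c : P, a ≠ b ∧ a ≠ c ∧ b ≠ c := by
    haveI : Finite P := Nat.finite_of_card_ne_zero (by rw [IsKleinFour.card_four]; norm_num)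
    letI := Fintype.ofFinite P
    exact Fintype.two_lt_card_iff.1 (by rw [← Nat.card_eq_fintype_card, IsKleinFour.card_four]; norm_num)
  have hone : ∃ u v : P, u ≠ 1 ∧ v ≠ 1 ∧ u ≠ v := by
    by_cases ha : a = 1
    · exact ⟨b, c, ha ▸ hab.symm, ha ▸ hac.symm, hbc⟩
    by_cases hb : b = 1
    · exact ⟨a, c, ha, hb ▸ hbc.symm, hac⟩
    exact ⟨a, b, ha, hb, hab⟩
  obtain ⟨u, v, hu, hv, huv⟩ := hone
  refine ⟨u, v, u.2, fun h => hu (Subtype.ext h), v.2, fun h => hv (Subtype.ext h),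
    fun h => huv (Subtype.ext h), mul_mem u.2 v.2, fun h => huv ?_, fun h => hv ?_, fun h => hu ?_⟩
  · have h' : u * v = 1 := Subtype.ext h
    rw [← IsKleinFour.inv_eq_self v]
    exact eq_inv_of_mul_eq_one_left h'
  · exact Subtype.ext (left_eq_mul.1 h)
  · exact Subtype.ext (right_eq_mul.1 h)

namespace FreeSetup

variable [Fact (Nat.Prime 2)] {M : Ideal AlgInt} {G : Type u} [Group G] [Fintype G]
  {B : Set (IrrCharacter G)} {P : Subgroup G} {c : Set (IrrCharacter C[P])} {T : Subgroup G}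
  (S : FreeSetup 2 M B P c T)

local notation "D[" R "]" => secVal 2 M P c R

include S

/-- Sections at involutions are integers. -/
theorem secVal_int {v : G} (hv : orderOf v = 2) (χ : IrrCharacter G) :
    ∃ a : ℤ, D[Subgroup.zpowers v] (χ : G → ℂ) v = (a : ℂ) := by
  classical
  have hvC : v ∈ C[Subgroup.zpowers v] :=
    centralizer_singleton_le v (Subgroup.mem_centralizer_singleton_iff.2 rfl)
  have hci : ∀ ξ : IrrCharacter C[Subgroup.zpowers v], ∃ a : ℤ,
      classInner (secFn v C[Subgroup.zpowers v] (χ : G → ℂ)) (ξ : C[Subgroup.zpowers v] → ℂ) =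
        (a : ℂ) := by
    intro ξ
    obtain ⟨z, hz, hzχ⟩ := classInner_secFn hvC (commute_mem_cen v) χ ξ
    obtain ⟨n, hn⟩ :=
      (χ.2.isCharacter.comp (C[Subgroup.zpowers v]).subtype).exists_nat_classInner ξ.2.isCharacter
    have hn' : classInner (fun h : C[Subgroup.zpowers v] => (χ : G → ℂ) h)
        (ξ : C[Subgroup.zpowers v] → ℂ) = n := hn
    rw [hn'] at hzχ
    rw [hv, sq_eq_one_iff] at hz
    rcases hz with rfl | rfl
    · exact ⟨n, by rw [hzχ]; push_cast; ring⟩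
    · exact ⟨-n, by rw [hzχ]; push_cast; ring⟩
  choose a ha using hci
  refine ⟨∑ ξ ∈ (subBlock 2 M P c (Subgroup.zpowers v)).toFinset, a ξ, ?_⟩
  rw [secVal, finsum_mem_eq_toFinset_sum, Int.cast_sum]
  exact Finset.sum_congr rfl fun ξ _ => ha ξ

open Classical in
/-- The sections of a block with four characters and Klein four defect group are signs. -/
theorem klein_signs (hV : IsKleinFour P) (hk : Nat.card B = 4) :
    ∃ a : G → IrrCharacter G → ℤ,
      (∀ v ∈ P, v ≠ 1 → ∀ χ : IrrCharacter G, D[Subgroup.zpowers v] (χ : G → ℂ) v = (a v χ : ℂ)) ∧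
      ∀ v ∈ P, v ≠ 1 → ∀ χ ∈ B, a v χ = 1 ∨ a v χ = -1 := by
  have h : ∀ v : G, ∀ χ : IrrCharacter G, ∃ n : ℤ, v ∈ P → v ≠ 1 →
      D[Subgroup.zpowers v] (χ : G → ℂ) v = (n : ℂ) := by
    intro v χ
    by_cases hv : v ∈ P ∧ v ≠ 1
    · obtain ⟨n, hn⟩ := S.secVal_int (v := v) (orderOf_eq_prime (by
        haveI := hV
        rw [pow_two]
        exact congrArg Subtype.val (IsKleinFour.mul_self (⟨v, hv.1⟩ : P))) hv.2) χ
      exact ⟨n, fun _ _ => hn⟩
    · exact ⟨0, fun h1 h2 => absurd ⟨h1, h2⟩ hv⟩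
  choose a ha using h
  refine ⟨a, fun v hv hv1 χ => ha v χ hv hv1, fun v hv hv1 χ hχ => ?_⟩
  have hsq : ∑ η ∈ B.toFinset, a v η * a v η = 4 := by
    have h := S.sum_secVal_top hv hv1
    rw [(hV.card_four : Nat.card P = 4)] at h
    apply Int.cast_injective (α := ℂ)
    push_cast at h ⊢
    rw [← h]
    exact Finset.sum_congr rfl fun η _ => by rw [ha v η hv hv1, map_intCast]
  have hdeg : ∑ η ∈ B.toFinset, a v η * (charDegree (η : G → ℂ) : ℤ) = 0 := by
    have h := S.sum_secVal_mul_reg hv hv1 (g := 1) isPRegular_one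
    apply Int.cast_injective (α := ℂ)
    push_cast
    rw [← h]
    exact Finset.sum_congr rfl fun η _ => by rw [ha v η hv hv1, apply_one_eq_charDegree]
  have hb : ∀ η ∈ B.toFinset, a v η * a v η ≤ 1 := by
    intro η hη
    by_contra hlt
    have h4 : 4 ≤ a v η * a v η := by
      by_contra h4
      obtain ⟨x, hx⟩ : ∃ x, a v η = x := ⟨_, rfl⟩
      rw [hx] at hlt h4
      have hb : -1 ≤ x ∧ x ≤ 1 := ⟨by nlinarith, by nlinarith⟩
      rcases (by omega : x = -1 ∨ x = 0 ∨ x = 1) with rfl | rfl | rfl <;> omega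
    rw [← Finset.add_sum_erase _ _ hη] at hsq hdeg
    have h0 : ∑ ξ ∈ B.toFinset.erase η, a v ξ * a v ξ = 0 :=
      le_antisymm (by linarith) (Finset.sum_nonneg fun ξ _ => mul_self_nonneg _)
    have h1 := (Finset.sum_eq_zero_iff_of_nonneg fun ξ _ => mul_self_nonneg (a v ξ)).1 h0
    rw [Finset.sum_eq_zero fun ξ hξ => by rw [mul_self_eq_zero.1 (h1 ξ hξ), zero_mul], add_zero]
      at hdeg
    rcases mul_eq_zero.1 hdeg with h | h
    · rw [h] at h4; omega
    · exact (charDegree_pos η).ne' (by exact_mod_cast h)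
  have hone : ∀ η ∈ B.toFinset, a v η * a v η = 1 := (Finset.sum_eq_sum_iff_of_le hb).1 (by
    rw [hsq, Finset.sum_const, ← Nat.card_eq_card_toFinset, hk]; rfl)
  exact mul_self_eq_one_iff.1 (hone χ (Set.mem_toFinset.2 hχ))

/-- With three cosets the stabilizer is transitive on the involutions. -/
theorem klein_transitive (hV : IsKleinFour P) (h3 : (C[P]).relIndex T = 3) {u v : G} (hu : u ∈ P)
    (hu1 : u ≠ 1) (hv : v ∈ P) (hv1 : v ≠ 1) : ∃ t ∈ T, t * u * t⁻¹ = v := by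
  classical
  let f : T ⧸ (C[P]).subgroupOf T → {w : P // w ≠ 1} := fun q =>
    ⟨S.twist q.out ⟨u, hu⟩, fun h =>
      hu1 (congrArg Subtype.val ((S.twist q.out).injective (h.trans (map_one _).symm)))⟩
  have hinj : Function.Injective f := by
    intro q q' h
    have h' : (q.out : G) * u * (q.out : G)⁻¹ = (q'.out : G) * u * (q'.out : G)⁻¹ :=
      congrArg (fun w : {w : P // w ≠ 1} => ((w : P) : G)) h
    rw [← QuotientGroup.out_eq' q, ← QuotientGroup.out_eq' q', QuotientGroup.eq]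
    refine Subgroup.mem_subgroupOf.2 (S.free _ (q.out⁻¹ * q'.out).2 u hu hu1 ?_)
    push_cast
    calc (q.out : G)⁻¹ * (q'.out : G) * u * ((q.out : G)⁻¹ * (q'.out : G))⁻¹
        = (q.out : G)⁻¹ * ((q'.out : G) * u * (q'.out : G)⁻¹) * (q.out : G) := by group
      _ = u := by rw [← h']; group
  have hcard : Nat.card (T ⧸ (C[P]).subgroupOf T) = Nat.card {w : P // w ≠ 1} := by
    change (C[P]).relIndex T = _
    rw [h3, Nat.card_eq_fintype_card, Fintype.card_subtype_compl, Fintype.card_subtype_eq,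
      ← Nat.card_eq_fintype_card, hV.card_four]
  obtain ⟨q, hq⟩ := ((Nat.bijective_iff_injective_and_card f).2 ⟨hinj, hcard⟩).2
    ⟨⟨v, hv⟩, fun h => hv1 (congrArg Subtype.val h)⟩
  exact ⟨_, q.out.2, congrArg (fun w : {w : P // w ≠ 1} => ((w : P) : G)) hq⟩

open Classical in
/-- The sign table of a block with Klein four defect group and inertial index one. -/
theorem klein_table (hV : IsKleinFour P) (hk : Nat.card B = 4) (hl : blockRank 2 B = 1)
    (h1 : (C[P]).relIndex T = 1) {x y : G} (hx : x ∈ P) (hx1 : x ≠ 1) (hy : y ∈ P) (hy1 : y ≠ 1)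
    (hxy : x ≠ y) (hz : x * y ∈ P) (hz1 : x * y ≠ 1) (hxz : x ≠ x * y) (hyz : y ≠ x * y) :
    ∃ (σ : G → ℤ) (κ : B ≃ Bool × Bool), (∀ v, σ v = 1 ∨ σ v = -1) ∧ ∀ χ : B,
      D[Subgroup.zpowers x] ((χ : IrrCharacter G) : G → ℂ) x =
          (σ x : ℂ) * (if (κ χ).1 then 1 else -1) ∧
        D[Subgroup.zpowers y] ((χ : IrrCharacter G) : G → ℂ) y =
          (σ y : ℂ) * (if (κ χ).2 then 1 else -1) ∧
        D[Subgroup.zpowers (x * y)] ((χ : IrrCharacter G) : G → ℂ) (x * y) =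
          (σ (x * y) : ℂ) * ((if (κ χ).1 then 1 else -1) * (if (κ χ).2 then 1 else -1)) := by
  obtain ⟨a, ha, hsgn⟩ := S.klein_signs hV hk
  obtain ⟨χ₀, hχ₀⟩ := nonempty_of_isPBlock S.modular S.block
  have hBd : Nat.card B = 2 ^ blockDefect 2 B := by
    rw [hk, ← card_defectGroup S.modular S.block S.defect, hV.card_four]
  have hsum : ∀ v ∈ P, v ≠ 1 → ∑ χ ∈ B.toFinset, a v χ = 0 := by
    intro v hv hv1
    have h := S.sum_secVal_mul_reg hv hv1 (g := 1) isPRegular_one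
    rw [Finset.sum_congr rfl fun χ hχ => by
      rw [reg_eq_of_rank_one S.modular S.block hl hBd (Set.mem_toFinset.1 hχ) hχ₀
        (x := (1 : G)) isPRegular_one, ha v hv hv1], ← Finset.sum_mul, ← Int.cast_sum] at h
    exact_mod_cast (mul_eq_zero.1 h).resolve_right χ₀.2.apply_one_ne_zero
  have horth : ∀ v ∈ P, v ≠ 1 → ∀ w ∈ P, w ≠ 1 → v ≠ w →
      ∑ χ ∈ B.toFinset, a v χ * a w χ = 0 := by
    intro v hv hv1 w hw hw1 hne
    have h := S.sum_secVal_ne hv hv1 hw hw1 fun t ht e => hne (by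
      rw [← e, ← Subgroup.mem_centralizer_iff.1 (Subgroup.relIndex_eq_one.1 h1 ht) v hv,
        mul_inv_cancel_right])
    rw [Finset.sum_congr rfl fun χ _ => by rw [ha v hv hv1, ha w hw hw1, map_intCast, ← Int.cast_mul],
      ← Int.cast_sum] at h
    exact_mod_cast h
  obtain ⟨σ, hσ⟩ : ∃ σ : G → ℤ, σ = fun v => if a v χ₀ = 1 then 1 else -1 := ⟨_, rfl⟩
  have hσ1 : ∀ v, σ v = 1 ∨ σ v = -1 := fun v => by rw [hσ]; by_cases h : a v χ₀ = 1 <;> simp [h]
  have hσ2 : ∀ v, σ v * σ v = 1 := fun v => by rcases hσ1 v with h | h <;> simp [h]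
  obtain ⟨n, hn⟩ : ∃ n : G → IrrCharacter G → ℤ, n = fun v χ => σ v * a v χ := ⟨_, rfl⟩
  have hn0 : ∀ v ∈ P, v ≠ 1 → n v χ₀ = 1 := fun v hv hv1 => by
    rcases hsgn v hv hv1 χ₀ hχ₀ with h | h <;> simp [hn, hσ, h]
  have hns : ∀ v ∈ P, v ≠ 1 → ∀ χ ∈ B, n v χ = 1 ∨ n v χ = -1 := fun v hv hv1 χ hχ => by
    rcases hsgn v hv hv1 χ hχ with h | h <;> rcases hσ1 v with e | e <;> simp [hn, h, e]
  have hnsum : ∀ v ∈ P, v ≠ 1 → ∑ χ ∈ B.toFinset, n v χ = 0 := fun v hv hv1 => by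
    simp only [hn]
    rw [← Finset.mul_sum, hsum v hv hv1, mul_zero]
  have hnorth : ∀ v ∈ P, v ≠ 1 → ∀ w ∈ P, w ≠ 1 → v ≠ w →
      ∑ χ ∈ B.toFinset, n v χ * n w χ = 0 := fun v hv hv1 w hw hw1 hne => by
    simp only [hn]
    rw [Finset.sum_congr rfl fun χ _ => mul_mul_mul_comm _ _ _ _, ← Finset.mul_sum,
      horth v hv hv1 w hw hw1 hne, mul_zero]
  obtain ⟨hinj, hprod⟩ := sign_table B.toFinset (n x) (n y) (n (x * y))
    (fun χ hχ => hns x hx hx1 χ (Set.mem_toFinset.1 hχ))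
    (fun χ hχ => hns y hy hy1 χ (Set.mem_toFinset.1 hχ))
    (by rw [← Nat.card_eq_card_toFinset, hk]; rfl) (Set.mem_toFinset.2 hχ₀)
    ⟨hn0 x hx hx1, hn0 y hy hy1, hn0 _ hz hz1⟩ (hnsum x hx hx1) (hnsum y hy hy1) (hnsum _ hz hz1)
    (hnorth x hx hx1 y hy hy1 hxy) (hnorth x hx hx1 _ hz hz1 hxz)
    (hnorth y hy hy1 _ hz hz1 hyz)
  let f : B → Bool × Bool := fun χ => (decide (n x χ = 1), decide (n y χ = 1))
  have hval : ∀ v ∈ P, v ≠ 1 → ∀ χ ∈ B, (n v χ : ℂ) = if decide (n v χ = 1) then 1 else -1 :=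
    fun v hv hv1 χ hχ => by rcases hns v hv hv1 χ hχ with h | h <;> simp [h]
  have hfi : Function.Injective f := by
    intro χ χ' e
    have e1 : decide (n x χ = 1) = decide (n x χ' = 1) := congrArg Prod.fst e
    have e2 : decide (n y χ = 1) = decide (n y χ' = 1) := congrArg Prod.snd e
    refine Subtype.ext (hinj (Set.mem_toFinset.2 χ.2) (Set.mem_toFinset.2 χ'.2) (Prod.ext ?_ ?_))
    · have h := hval x hx hx1 χ χ.2
      rw [e1, ← hval x hx hx1 χ' χ'.2] at h
      exact_mod_cast h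
    · have h := hval y hy hy1 χ χ.2
      rw [e2, ← hval y hy hy1 χ' χ'.2] at h
      exact_mod_cast h
  have hfb : Function.Bijective f := (Nat.bijective_iff_injective_and_card f).2
    ⟨hfi, by rw [hk, Nat.card_eq_fintype_card]; rfl⟩
  have hrec : ∀ v ∈ P, v ≠ 1 → ∀ χ : IrrCharacter G,
      D[Subgroup.zpowers v] (χ : G → ℂ) v = (σ v : ℂ) * (n v χ : ℂ) := fun v hv hv1 χ => by
    rw [ha v hv hv1, ← Int.cast_mul]
    simp only [hn]
    rw [← mul_assoc, hσ2, one_mul]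
  refine ⟨σ, Equiv.ofBijective f hfb, hσ1, fun χ => ⟨?_, ?_, ?_⟩⟩
  · rw [hrec x hx hx1, hval x hx hx1 χ χ.2]; rfl
  · rw [hrec y hy hy1, hval y hy hy1 χ χ.2]; rfl
  · rw [hrec _ hz hz1, hprod χ (Set.mem_toFinset.2 χ.2), Int.cast_mul, hval x hx hx1 χ χ.2,
      hval y hy hy1 χ χ.2]
    rfl

section Isometry

variable {H : Type u} [Group H] [Fintype H] {B' : Set (IrrCharacter H)} {P' : Subgroup H}
  {c' : Set (IrrCharacter C[P'])} {T' : Subgroup H} (S' : FreeSetup 2 M B' P' c' T')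

include S'

/-- Blocks with Klein four defect groups and the same inertial index are perfectly isometric. -/
theorem klein_isometry (hV : IsKleinFour P) (hV' : IsKleinFour P') (hk : Nat.card B = 4)
    (hk' : Nat.card B' = 4) (he : (C[P']).relIndex T' = (C[P]).relIndex T)
    (hcases : ((C[P]).relIndex T = 3) ∨
      ((C[P]).relIndex T = 1 ∧ blockRank 2 B = 1 ∧ blockRank 2 B' = 1)) :
    ∃ (I : IrrCharacter H → IrrCharacter G) (ε : IrrCharacter H → ℤ),
      IsPerfectIsometry 2 M B' B I ε := by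
  classical
  have hq : Nat.card P' = Nat.card P := by rw [hV'.card_four, hV.card_four]
  obtain ⟨χ₁, -⟩ := nonempty_of_isPBlock S.modular S.block
  rcases hcases with h3 | ⟨h1, hl, hl'⟩
  · obtain ⟨a, ha, hsgn⟩ := S.klein_signs hV hk
    obtain ⟨a', ha', hsgn'⟩ := S'.klein_signs hV' hk'
    obtain ⟨x, -, hx, hx1, -⟩ := klein_basis hV
    obtain ⟨x', -, hx', hx'1, -⟩ := klein_basis hV'
    obtain ⟨E⟩ : Nonempty (B' ≃ B) := Finite.card_eq.1 (by rw [hk, hk'])
    obtain ⟨I, hI, -⟩ := exists_bijOn_of_equiv E χ₁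
    have hall : ∀ v ∈ P, v ≠ 1 → ∀ χ : IrrCharacter G,
        secVal 2 M P c (Subgroup.zpowers v) (χ : G → ℂ) v = (a x χ : ℂ) := by
      intro v hv hv1 χ
      obtain ⟨t, ht, e⟩ := S.klein_transitive hV h3 hx hx1 hv hv1
      rw [← e, S.secVal_orbit hx ht χ, ha x hx hx1]
    have hall' : ∀ v ∈ P', v ≠ 1 → ∀ χ : IrrCharacter H,
        secVal 2 M P' c' (Subgroup.zpowers v) (χ : H → ℂ) v = (a' x' χ : ℂ) := by
      intro v hv hv1 χ
      obtain ⟨t, ht, e⟩ := S'.klein_transitive hV' (he.trans h3) hx' hx'1 hv hv1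
      rw [← e, S'.secVal_orbit hx' ht χ, ha' x' hx' hx'1]
    have hε : ∀ η ∈ B', a x (I η) * a' x' η = 1 ∨ a x (I η) * a' x' η = -1 := fun η hη => by
      rcases hsgn x hx hx1 _ (hI.1 hη) with e | e <;> rcases hsgn' x' hx' hx'1 η hη with e' | e' <;>
        simp [e, e']
    refine ⟨I, fun η => a x (I η) * a' x' η, S.perfect_of_sections S' hq I _ hI hε ?_ ?_⟩
    · intro v hv hv1
      refine ⟨x', hx', hx'1, 1, one_mem _, fun η hη => ?_⟩
      rw [hall v hv hv1, hall' x' hx' hx'1, map_intCast, one_mul]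
      rcases hsgn x hx hx1 _ (hI.1 hη) with e | e <;> simp [e]
    · intro v hv hv1
      refine ⟨x, hx, hx1, 1, one_mem _, fun η hη => ?_⟩
      rw [hall x hx hx1, hall' v hv hv1, map_intCast, one_mul]
      rcases hsgn' x' hx' hx'1 η hη with e | e <;> simp [e]
  obtain ⟨x, y, hx, hx1, hy, hy1, hxy, hz, hz1, hxz, hyz⟩ := klein_basis hV
  obtain ⟨x', y', hx', hx'1, hy', hy'1, hxy', hz', hz'1, hxz', hyz'⟩ := klein_basis hV'
  obtain ⟨σ, κ, hσ, hD⟩ := S.klein_table hV hk hl h1 hx hx1 hy hy1 hxy hz hz1 hxz hyz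
  obtain ⟨σ', κ', hσ', hD'⟩ := S'.klein_table hV' hk' hl' (he.trans h1) hx' hx'1 hy' hy'1 hxy'
    hz' hz'1 hxz' hyz'
  obtain ⟨I, hI, hIE⟩ := exists_bijOn_of_equiv (κ'.trans κ.symm) χ₁
  have hκ : ∀ η (hη : η ∈ B'), ∃ χ : B, (χ : IrrCharacter G) = I η ∧ κ χ = κ' ⟨η, hη⟩ :=
    fun η hη => ⟨(κ'.trans κ.symm) ⟨η, hη⟩, (hIE η hη).symm, κ.apply_symm_apply _⟩
  have hs : ∀ v v', (σ v : ℂ) * (σ' v' : ℂ) ∈ locRing S.modular := fun v v' =>
    mul_mem (intCast_mem _ _) (intCast_mem _ _)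
  have hσC : ∀ v, (σ v : ℂ) * (σ v : ℂ) = 1 := fun v => by rcases hσ v with e | e <;> simp [e]
  have hσC' : ∀ v, (σ' v : ℂ) * (σ' v : ℂ) = 1 := fun v => by rcases hσ' v with e | e <;> simp [e]
  have hb : ∀ b : Bool, conj (if b then (1 : ℂ) else -1) = if b then (1 : ℂ) else -1 := fun b => by
    cases b <;> simp
  refine ⟨I, fun _ => 1, S.perfect_of_sections S' hq I _ hI (fun _ _ => Or.inl rfl) ?_ ?_⟩
  · intro v hv hv1
    rcases klein_cases hV hx hx1 hy hy1 hxy hv hv1 with rfl | rfl | rfl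
    · refine ⟨x', hx', hx'1, _, hs v x', fun η hη => ?_⟩
      obtain ⟨χ, e, eκ⟩ := hκ η hη
      rw [← e, (hD χ).1, (hD' ⟨η, hη⟩).1, eκ, map_mul, map_intCast, hb, Int.cast_one, one_mul]
      linear_combination -(σ v : ℂ) * (if (κ' ⟨η, hη⟩).1 then (1 : ℂ) else -1) * hσC' x'
    · refine ⟨y', hy', hy'1, _, hs v y', fun η hη => ?_⟩
      obtain ⟨χ, e, eκ⟩ := hκ η hη
      rw [← e, (hD χ).2.1, (hD' ⟨η, hη⟩).2.1, eκ, map_mul, map_intCast, hb, Int.cast_one, one_mul]
      linear_combination -(σ v : ℂ) * (if (κ' ⟨η, hη⟩).2 then (1 : ℂ) else -1) * hσC' y'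
    · refine ⟨x' * y', hz', hz'1, _, hs (x * y) (x' * y'), fun η hη => ?_⟩
      obtain ⟨χ, e, eκ⟩ := hκ η hη
      rw [← e, (hD χ).2.2, (hD' ⟨η, hη⟩).2.2, eκ, map_mul, map_mul, map_intCast, hb, hb,
        Int.cast_one, one_mul]
      linear_combination -(σ (x * y) : ℂ) * ((if (κ' ⟨η, hη⟩).1 then (1 : ℂ) else -1) *
        (if (κ' ⟨η, hη⟩).2 then (1 : ℂ) else -1)) * hσC' (x' * y')
  · intro v hv hv1
    rcases klein_cases hV' hx' hx'1 hy' hy'1 hxy' hv hv1 with rfl | rfl | rfl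
    · refine ⟨x, hx, hx1, _, hs x v, fun η hη => ?_⟩
      obtain ⟨χ, e, eκ⟩ := hκ η hη
      rw [← e, (hD χ).1, (hD' ⟨η, hη⟩).1, eκ, map_mul, map_intCast, hb, Int.cast_one, one_mul]
      linear_combination -(σ' v : ℂ) * (if (κ' ⟨η, hη⟩).1 then (1 : ℂ) else -1) * hσC x
    · refine ⟨y, hy, hy1, _, hs y v, fun η hη => ?_⟩
      obtain ⟨χ, e, eκ⟩ := hκ η hη
      rw [← e, (hD χ).2.1, (hD' ⟨η, hη⟩).2.1, eκ, map_mul, map_intCast, hb, Int.cast_one, one_mul]
      linear_combination -(σ' v : ℂ) * (if (κ' ⟨η, hη⟩).2 then (1 : ℂ) else -1) * hσC y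
    · refine ⟨x * y, hz, hz1, _, hs (x * y) (x' * y'), fun η hη => ?_⟩
      obtain ⟨χ, e, eκ⟩ := hκ η hη
      rw [← e, (hD χ).2.2, (hD' ⟨η, hη⟩).2.2, eκ, map_mul, map_mul, map_intCast, hb, hb,
        Int.cast_one, one_mul]
      linear_combination -(σ' (x' * y') : ℂ) * ((if (κ' ⟨η, hη⟩).1 then (1 : ℂ) else -1) *
        (if (κ' ⟨η, hη⟩).2 then (1 : ℂ) else -1)) * hσC (x * y)

end Isometry

end FreeSetup

/-- A block with Klein four defect group is perfectly isometric to its Brauer correspondent. -/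
theorem klein_correspondent_isometry {M : Ideal AlgInt} [Fact (Nat.Prime 2)] {G : Type u} [Group G]
    [Fintype G] (hM : IsPModular 2 M) {B : Set (IrrCharacter G)} (hB : IsPBlock M B)
    {P H : Subgroup G} (hD : IsDefectGroup 2 M B P) (hV : IsKleinFour P)
    (hNH : Subgroup.normalizer (P : Set G) ≤ H) {c : Set (IrrCharacter H)}
    (hcD : IsDefectGroup 2 M c (P.subgroupOf H)) (hc : IsInducedBlock M H c B) :
    ∃ (I : IrrCharacter H → IrrCharacter G) (ε : IrrCharacter H → ℤ),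
      IsPerfectIsometry 2 M c B I ε := by
  classical
  haveI := hV
  have hPH : P ≤ H := Subgroup.le_normalizer.trans hNH
  obtain ⟨P', hP'⟩ : ∃ P', P' = P.subgroupOf H := ⟨_, rfl⟩
  rw [← hP'] at hcD
  have hV' : IsKleinFour P' := by
    rw [hP']
    exact
      { card_four := (Nat.card_congr (Subgroup.subgroupOfEquivOfLe hPH).toEquiv).trans
          IsKleinFour.card_four
        exponent_two := (Monoid.exponent_eq_of_mulEquiv (Subgroup.subgroupOfEquivOfLe hPH)).trans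
          IsKleinFour.exponent_two }
  have hcomm : ∀ {A : Type u} [Group A] {Q : Subgroup A}, IsKleinFour Q →
      ∀ x ∈ Q, ∀ y ∈ Q, x * y = y * x := fun {A} _ {Q} hQ x hx y hy =>
    congrArg Subtype.val (mul_comm_of_exponent_two hQ.exponent_two (⟨x, hx⟩ : Q) ⟨y, hy⟩)
  obtain ⟨c₁, hmax⟩ := exists_pair_at_defect hM hc.1 hcD
  have hc₁ : IsInducedBlock M C[P'] c₁ c :=
    isInducedBlock_of_isBrauerPairOf hM (le_centralizer_of_abelian (hcomm hV') le_rfl) hmax.1
  have hCH : C[P] ≤ H := (Subgroup.centralizer_le_normalizer _).trans hNH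
  have hmemC : ∀ h : H, h ∈ C[P'] ↔ (h : G) ∈ C[P] := by
    intro h
    rw [hP']
    constructor
    · intro hh z hz
      exact congrArg Subtype.val (hh ⟨z, hPH hz⟩ hz)
    · intro hh z hz
      exact Subtype.ext (hh (z : G) hz)
  let e : C[P] ≃* C[P'] :=
    { toFun := fun k => ⟨⟨(k : G), hCH k.2⟩, (hmemC _).2 k.2⟩
      invFun := fun k => ⟨((k : H) : G), (hmemC _).1 k.2⟩
      left_inv := fun _ => rfl
      right_inv := fun _ => rfl
      map_mul' := fun _ _ => rfl }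
  have he : ∀ k : C[P], ((e k : H) : G) = k := fun k => rfl
  obtain ⟨c₀, hc₀⟩ : ∃ c₀, c₀ = pullSet e c₁ := ⟨_, rfl⟩
  have hc₀B : IsInducedBlock M C[P] c₀ B := hc₀ ▸ isInducedBlock_trans hM e he hc₁ hc
  let T : Subgroup G := Subgroup.normalizer (P : Set G) ⊓ invStab (indVec c₀)
  have hT : ∀ y : G, y ∈ T ↔ y ∈ Subgroup.normalizer (P : Set G) ∧ StabilizesBlock C[P] c₀ y :=
    fun y => by
    refine and_congr_right fun hy => ?_
    rw [stabilizesBlock_iff_coeff (mem_normalizer_centralizer hy), ← extF_indVec]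
    rfl
  have hnorm : ∀ h : H, h ∈ Subgroup.normalizer (P' : Set H) ↔
      (h : G) ∈ Subgroup.normalizer (P : Set G) := by
    intro h
    rw [hP', Subgroup.mem_normalizer_iff, Subgroup.mem_normalizer_iff]
    constructor
    · intro hh z
      refine ⟨fun hz => (hh ⟨z, hPH hz⟩).1 hz, fun hz => ?_⟩
      have hzH : z ∈ H := by
        have h1 := H.mul_mem (H.mul_mem (H.inv_mem h.2) (hPH hz)) h.2
        have h2 : (h : G)⁻¹ * ((h : G) * z * (h : G)⁻¹) * (h : G) = z := by group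
        rwa [h2] at h1
      exact (hh ⟨z, hzH⟩).2 hz
    · exact fun hh z => hh (z : G)
  have hT' : ∀ y : H, y ∈ T.subgroupOf H ↔
      y ∈ Subgroup.normalizer (P' : Set H) ∧ StabilizesBlock C[P'] c₁ y := by
    intro y
    rw [Subgroup.mem_subgroupOf, hT, hnorm, hc₀]
    refine and_congr_right fun hy => ?_
    exact stabilizesBlock_inside e he c₁ (mem_normalizer_centralizer hy)
      (mem_normalizer_centralizer ((hnorm y).2 hy))
  have hrel : (C[P']).relIndex (T.subgroupOf H) = (C[P]).relIndex T := by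
    have hTH : T ≤ H := inf_le_left.trans hNH
    rw [show C[P'] = (C[P]).subgroupOf H from Subgroup.ext fun h => hmemC h,
      Subgroup.relIndex_subgroupOf hTH]
  obtain ⟨hcase, hk, hl⟩ := klein_block_invariants hM hB hD hV hc₀B hT
  obtain ⟨-, hk', hl'⟩ := klein_block_invariants hM hc.1 hcD hV' hc₁ hT'
  have S : FreeSetup 2 M B P c₀ T :=
    ⟨hM, hB, hD, hcomm hV, hc₀B, hT, klein_free hM hB hD hV hc₀B hT⟩
  have S' : FreeSetup 2 M c P' c₁ (T.subgroupOf H) :=
    ⟨hM, hc.1, hcD, hcomm hV', hc₁, hT', klein_free hM hc.1 hcD hV' hc₁ hT'⟩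
  refine S.klein_isometry S' hV hV' hk hk' hrel ?_
  rw [hl, hl', hrel]
  rcases hcase with h | h
  · exact Or.inr ⟨h, h, h⟩
  · exact Or.inl h

end Cfsg.Lib.Block
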