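import Cfsg.Agent.Lib.Block.RegInt
import Cfsg.Agent.Lib.Block.Vanish
import Cfsg.Agent.Lib.Block.Cartan
import Cfsg.Agent.Lib.Block.BrauerHom

/-!
# Külshammer's formula for the principal block idempotent
-/

set_option autoImplicit false
set_option linter.unusedSectionVars false
set_option maxHeartbeats 800000

namespace Cfsg.Lib.Block

open Cfsg
open scoped ComplexConjugate

universe u

variable {p : ℕ} {M : Ideal AlgInt} {G : Type u} [Group G] [Fintype G]

open Classical in
/-- The indicator of the elements of `p`-power order. -/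
noncomputable def pElInd (p : ℕ) (G : Type u) [Group G] : G → ℂ :=
  fun x => if ∃ k : ℕ, orderOf x = p ^ k then 1 else 0

open Classical in
/-- The indicator of the `p`-regular elements. -/
noncomputable def pRegInd (p : ℕ) (G : Type u) [Group G] : G → ℂ :=
  fun x => if ¬ p ∣ orderOf x then 1 else 0

theorem pElInd_class : IsClassFunction G (pElInd p G) := fun g x => by
  simp only [pElInd]
  rw [show orderOf (x * g * x⁻¹) = orderOf g from (MulAut.conj x).orderOf_eq g]

theorem pRegInd_class : IsClassFunction G (pRegInd p G) := fun g x => by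
  simp only [pRegInd]
  rw [show orderOf (x * g * x⁻¹) = orderOf g from (MulAut.conj x).orderOf_eq g]

theorem pReg_eq_one_iff [Fact p.Prime] (x : G) :
    pReg p x = 1 ↔ ∃ k : ℕ, orderOf x = p ^ k := by
  constructor
  · intro h
    have h2 := pPt_mul_pReg (p := p) x
    rw [h, mul_one] at h2
    obtain ⟨k, hk⟩ := exists_orderOf_pPt (p := p) x
    exact ⟨k, by rw [← h2, hk]⟩
  · rintro ⟨k, hk⟩
    have h1 : ¬ p ∣ orderOf (1 : G) := by
      rw [orderOf_one]; exact (Fact.out : p.Prime).not_dvd_one
    have h := eq_pPt (p := p) (x := x) (y := 1) (mul_one x) (Commute.one_right x) hk h1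
    have h2 := pPt_mul_pReg (p := p) x
    rw [← h] at h2
    exact mul_eq_left.1 h2

/-- The mean of a character over the elements of `p`-power order is `p`-integral. -/
theorem pEl_mean_mem [Fact p.Prime] (hM : IsPModular p M) (χ : IrrCharacter G) :
    (Nat.card G : ℂ)⁻¹ * ∑ x, pElInd p G x * (χ : G → ℂ) x ∈ locRing hM := by
  classical
  have h1 : ¬ p ∣ orderOf (1 : G) := by
    rw [orderOf_one]; exact (Fact.out : p.Prime).not_dvd_one
  have hV := vChar_section (G := G) hM (1 : G) h1
  have e : (fun g : G => if IsConj (pReg p g) 1 then (1 : ℂ) else 0) = pElInd p G := by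
    funext x
    simp only [pElInd]
    rw [isConj_one_left.trans (pReg_eq_one_iff x)]
  rw [e] at hV
  have h := hV.classInner_char hM χ.2.isCharacter
  rw [classInner] at h
  convert h using 1
  congr 1
  refine Fintype.sum_equiv (Equiv.inv G) _ _ fun x => ?_
  simp only [Equiv.inv_apply]
  rw [← χ.2.isCharacter.apply_inv, inv_inv]
  congr 1
  simp only [pElInd, orderOf_inv]

/-- The number of factorisations of `g` as a `p`-element times a `p`-regular element. -/
theorem card_factor_eq_zc (g : G) :
    (Nat.card {xy : G × G // (∃ k : ℕ, orderOf xy.1 = p ^ k) ∧ ¬ p ∣ orderOf xy.2 ∧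
      xy.1 * xy.2 = g} : ℂ) = zc (vec (pElInd p G) * vec (pRegInd p G)) g := by
  classical
  rw [zc_mul]
  simp only [zc_vec pElInd_class, zc_vec pRegInd_class]
  let e : {xy : G × G // (∃ k : ℕ, orderOf xy.1 = p ^ k) ∧ ¬ p ∣ orderOf xy.2 ∧
      xy.1 * xy.2 = g} ≃ {x : G // (∃ k : ℕ, orderOf x = p ^ k) ∧ ¬ p ∣ orderOf (x⁻¹ * g)} :=
    { toFun := fun z => ⟨z.1.1, z.2.1, by
        have h := z.2.2.1
        rwa [← inv_mul_eq_iff_eq_mul.2 z.2.2.2.symm] at h⟩
      invFun := fun x => ⟨(x.1, x.1⁻¹ * g), x.2.1, x.2.2, mul_inv_cancel_left _ _⟩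
      left_inv := fun z => Subtype.ext (Prod.ext rfl (by
        show z.1.1⁻¹ * g = z.1.2
        exact inv_mul_eq_iff_eq_mul.2 z.2.2.2.symm))
      right_inv := fun x => rfl }
  rw [Nat.card_congr e, Nat.card_eq_fintype_card, Fintype.card_subtype, Finset.card_filter,
    Nat.cast_sum]
  refine Finset.sum_congr rfl fun x _ => ?_
  simp only [pElInd, pRegInd, Nat.cast_ite, Nat.cast_one, Nat.cast_zero]
  split_ifs <;> simp_all

variable [Fact p.Prime]

/-- The sum over the `p`-regular elements of a character outside the principal block vanishes. -/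
theorem regSum_eq_zero (hM : IsPModular p M) {χ : IrrCharacter G}
    (hχ : χ ∉ principalBlock M G) : ∑ x, pRegInd p G x * (χ : G → ℂ) x = 0 := by
  have h := regInner_eq_zero hM (vInt_indVec hM (isPBlock_principal (M := M) (G := G)))
    (trivChar_mem_principal hM) hχ
  rw [regInner, classInner, mul_eq_zero] at h
  have h0 := h.resolve_left (inv_ne_zero Char.card_cast_ne_zero)
  rw [← h0]
  refine Fintype.sum_equiv (Equiv.inv G) _ _ fun x => ?_
  simp only [Equiv.inv_apply, ← χ.2.isCharacter.apply_inv, inv_inv]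
  congr 1
  by_cases hx : p ∣ orderOf x
  · rw [pRegularPart_of_sing (by rw [IsPRegular, orderOf_inv, not_not]; exact hx)]
    simp [pRegInd, hx]
  · rw [pRegularPart_of_reg (by rw [IsPRegular, orderOf_inv]; exact hx)]
    simp [pRegInd, hx, trivChar_coe]

/-- At a `p`-regular element, multiplying by the sum of the `p`-elements does not change the
principal block idempotent. -/
theorem indVec_mul_pEl (hM : IsPModular p M) {g : G} (hg : ¬ p ∣ orderOf g) :
    zc (indVec (principalBlock M G) * vec (pElInd p G)) g =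
      zc (indVec (principalBlock M G)) g := by
  classical
  have hB := vInt_indVec hM (isPBlock_principal (M := M) (G := G))
  simp only [zc]
  congr 1
  have e : ∀ χ : IrrCharacter G, (indVec (principalBlock M G) * vec (pElInd p G)) χ *
      (χ : G → ℂ) 1 * (χ : G → ℂ) g⁻¹ = ∑ u, pElInd p G u *
        (indVec (principalBlock M G) χ * ((χ : G → ℂ) u * conj ((χ : G → ℂ) g))) := fun χ => by
    rw [Pi.mul_apply, vec, mul_assoc (indVec (principalBlock M G) χ),
      div_mul_cancel₀ _ χ.2.apply_one_ne_zero, Finset.mul_sum, Finset.sum_mul,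
      χ.2.isCharacter.apply_inv]
    exact Finset.sum_congr rfl fun u _ => by ring
  rw [Finset.sum_congr rfl fun χ _ => e χ, Finset.sum_comm, Finset.sum_eq_single 1]
  · refine Finset.sum_congr rfl fun χ _ => ?_
    have : pElInd p G 1 = 1 := if_pos ⟨0, by simp⟩
    rw [this, χ.2.isCharacter.apply_inv]
    ring
  · intro u _ hu
    simp only [pElInd]
    split_ifs with hk
    · rw [← Finset.mul_sum, one_mul]
      have hdvd : p ∣ orderOf u := by
        obtain ⟨k, hk⟩ := hk
        rw [hk]
        refine dvd_pow_self p fun h => hu ?_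
        rw [h, pow_zero] at hk
        exact orderOf_eq_one_iff.1 hk
      have := sum_block_mul_conj_eq_zero hM hB (g := u) (h := g)
        fun h => not_isConj_pPt_of_dvd hg hdvd h.symm
      rw [finsum_mem_eq_finite_toFinset_sum _ (Set.toFinite _)] at this
      refine Eq.trans ?_ this
      rw [← Finset.sum_filter_add_sum_filter_not Finset.univ (· ∈ principalBlock M G),
        Finset.sum_eq_zero (fun χ hχ => ?_ : ∀ χ ∈ Finset.univ.filter (fun χ => ¬ χ ∈ principalBlock M G),
          indVec (principalBlock M G) χ * ((χ : G → ℂ) u * conj ((χ : G → ℂ) g)) = 0), add_zero]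
      · refine Finset.sum_congr (by ext χ; simp) fun χ hχ => ?_
        rw [indVec, if_pos ((Set.Finite.mem_toFinset _).1 hχ), one_mul]
      · rw [indVec, if_neg (Finset.mem_filter.1 hχ).2, zero_mul]
    · simp
  · simp

/-- The difference between the factorisation count and `R` times the idempotent coefficient. -/
theorem factor_sub_mem (hM : IsPModular p M) {g : G} (hg : ¬ p ∣ orderOf g) :
    MemLocalIdeal M (zc (vec (pElInd p G) * vec (pRegInd p G)) g -
      (∑ x, pRegInd p G x) * blockCoeff (principalBlock M G) g) := by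
  classical
  set B := principalBlock M G with hB
  set R := ∑ x, pRegInd p G x with hR
  have hint : ∀ x, pRegInd p G x ∈ locRing hM := fun x => by
    simp only [pRegInd]; split_ifs
    exacts [(locRing hM).zero_mem, (locRing hM).one_mem]
  have hw := vInt_vec (hM := hM) pRegInd_class hint
  have e : zc (vec (pElInd p G) * vec (pRegInd p G)) g - R * blockCoeff B g =
      zc (indVec B * vec (pElInd p G) * (vec (pRegInd p G) - R • 1)) g := by
    have h2 : vec (pElInd p G) * vec (pRegInd p G) =
        indVec B * vec (pElInd p G) * vec (pRegInd p G) := by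
      funext χ
      simp only [Pi.mul_apply, indVec]
      split_ifs with hχ
      · rw [one_mul]
      · rw [show vec (pRegInd p G) χ = 0 by rw [vec, regSum_eq_zero hM hχ, zero_div], mul_zero,
          mul_zero]
    rw [h2, ← zc_indVec, ← indVec_mul_pEl hM hg, ← zc_smul, ← zc_sub]
    congr 1
    funext χ
    simp only [Pi.mul_apply, Pi.sub_apply, Pi.smul_apply, smul_eq_mul, Pi.one_apply]
    ring
  rw [e, zc, Finset.mul_sum]
  refine memLocalIdeal_sum hM _ _ fun χ _ => ?_
  simp only [Pi.mul_apply, Pi.sub_apply, Pi.smul_apply, Pi.one_apply, smul_eq_mul, mul_one, indVec]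
  split_ifs with hχ
  · have hR' : vec (pRegInd p G) (trivChar G) = R := by
      simp [vec, hR, trivChar_coe]
    have hid := apply_sub_apply_mem hM hw (χ := χ) (ψ := trivChar G)
      (sameBlock_of_mem hM isPBlock_principal hχ (trivChar_mem_principal hM))
    rw [hR'] at hid
    have hX := pEl_mean_mem hM χ
    have := memLocalIdeal_mul_left hM (mul_mem hX (charVal_mem_locRing hM χ g⁻¹)) hid
    convert this using 1
    rw [vec]
    field_simp [χ.2.apply_one_ne_zero]
  · simpa using memLocalIdeal_zero hM

theorem regCount_eq : ∑ x, pRegInd p G x = (Nat.card {y : G // ¬ p ∣ orderOf y} : ℂ) := by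
  classical
  rw [Nat.card_eq_fintype_card, Fintype.card_subtype, Finset.card_filter, Nat.cast_sum]
  exact Finset.sum_congr rfl fun x _ => by simp [pRegInd]

/-- Külshammer: the principal block idempotent at a `p`-regular element counts factorisations. -/
theorem kulshammer (hM : IsPModular p M) {g : G} (hg : ¬ p ∣ orderOf g) :
    MemLocalIdeal M (blockCoeff (principalBlock M G) g -
      (Nat.card {xy : G × G // (∃ k : ℕ, orderOf xy.1 = p ^ k) ∧ ¬ p ∣ orderOf xy.2 ∧
        xy.1 * xy.2 = g} : ℂ) / (Nat.card {y : G // ¬ p ∣ orderOf y} : ℂ)) := by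
  have hB := vInt_indVec hM (isPBlock_principal (M := M) (G := G))
  have key : ∀ {a : G}, ¬ p ∣ orderOf a → MemLocalIdeal M
      ((Nat.card {xy : G × G // (∃ k : ℕ, orderOf xy.1 = p ^ k) ∧ ¬ p ∣ orderOf xy.2 ∧
        xy.1 * xy.2 = a} : ℂ) - (Nat.card {y : G // ¬ p ∣ orderOf y} : ℂ) *
          blockCoeff (principalBlock M G) a) := fun ha => by
    rw [card_factor_eq_zc, ← regCount_eq]
    exact factor_sub_mem hM ha
  set R := Nat.card {y : G // ¬ p ∣ orderOf y} with hR
  have hf : blockCoeff (principalBlock M G) g ∈ locRing hM := zc_indVec (principalBlock M G) g ▸ hB g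
  have hRnot : ¬ MemLocalIdeal M (R : ℂ) := by
    intro h
    have h1 : ¬ p ∣ orderOf (1 : G) := by
      rw [orderOf_one]; exact (Fact.out : p.Prime).not_dvd_one
    have hone : Nat.card {xy : G × G // (∃ k : ℕ, orderOf xy.1 = p ^ k) ∧ ¬ p ∣ orderOf xy.2 ∧
        xy.1 * xy.2 = 1} = 1 := by
      rw [Nat.card_eq_one_iff_unique]
      refine ⟨⟨fun a b => ?_⟩, ⟨⟨(1, 1), ⟨0, by simp⟩, h1, one_mul 1⟩⟩⟩
      have : ∀ c : {xy : G × G // (∃ k : ℕ, orderOf xy.1 = p ^ k) ∧ ¬ p ∣ orderOf xy.2 ∧
          xy.1 * xy.2 = 1}, c.1 = (1, 1) := by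
        rintro ⟨⟨x, y⟩, ⟨k, hk⟩, hy, hxy⟩
        obtain rfl : x = y⁻¹ := eq_inv_of_mul_eq_one_left hxy
        rw [orderOf_inv] at hk
        have : k = 0 := by
          by_contra hk0
          exact hy (hk ▸ dvd_pow_self p hk0)
        rw [this, pow_zero, orderOf_eq_one_iff] at hk
        simp [hk]
      exact Subtype.ext ((this a).trans (this b).symm)
    have hk := key h1
    rw [hone, Nat.cast_one] at hk
    refine not_memLocalIdeal_one hM ?_
    have := memLocalIdeal_add hM hk (memLocalIdeal_mul_right hM h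
      (zc_indVec (principalBlock M G) 1 ▸ hB 1))
    simpa using this
  have hR0 : (R : ℂ) ≠ 0 := ne_zero_of_not_ideal hRnot hM
  have := memLocalIdeal_mul_left hM
    (neg_mem (inv_mem_locRing_of_not_ideal hM (natCast_mem_locRing hM R) hRnot)) (key hg)
  convert this using 1
  field_simp
  ring

end Cfsg.Lib.Block
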