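import Cfsg.Agent.Lib.Block.Basic
import Mathlib.GroupTheory.GroupAction.Quotient

/-!
# Bounding the order of a group by its class number
-/

set_option autoImplicit false
set_option linter.unusedSectionVars false

namespace Cfsg.Lib.Block

universe u

theorem exists_bound_unit_fractions (k : ℕ) :
    ∀ r : ℚ, ∃ N : ℕ, ∀ (ι : Type u) [Fintype ι] (f : ι → ℕ), Fintype.card ι = k →
      (∀ i, 0 < f i) → ∑ i, (1 : ℚ) / f i = r → ∀ i, f i ≤ N := by
  induction k with
  | zero =>
    refine fun r => ⟨0, fun ι _ f hk _ _ i => ?_⟩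
    exact (Fintype.card_eq_zero_iff.1 hk).elim i
  | succ k ih =>
    intro r
    choose N hN using ih
    refine ⟨⌊((k : ℚ) + 1) / r⌋₊ + (Finset.range (⌊((k : ℚ) + 1) / r⌋₊ + 1)).sup
      (fun m => N (r - 1 / m)), fun ι _ f hk hpos hsum i => ?_⟩
    classical
    haveI : Nonempty ι := ⟨i⟩
    obtain ⟨i₀, -, hmin⟩ := Finset.exists_min_image Finset.univ f Finset.univ_nonempty
    have hterm : ∀ j ∈ Finset.univ, (1 : ℚ) / f j ≤ 1 / f i₀ := fun j hj => by
      apply one_div_le_one_div_of_le (by exact_mod_cast hpos i₀)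
      exact_mod_cast hmin j hj
    have hle : r ≤ ((k : ℚ) + 1) / f i₀ := by
      rw [← hsum]
      refine (Finset.sum_le_sum hterm).trans ?_
      rw [Finset.sum_const, Finset.card_univ, hk, nsmul_eq_mul, Nat.cast_succ, mul_one_div]
    have hr : 0 < r := hsum ▸ Finset.sum_pos (fun j _ => by
      have : (0 : ℚ) < f j := by exact_mod_cast hpos j
      positivity) Finset.univ_nonempty
    have hi₀ : f i₀ ≤ ⌊((k : ℚ) + 1) / r⌋₊ := Nat.le_floor (by
      have : (0 : ℚ) < f i₀ := by exact_mod_cast hpos i₀
      rw [le_div_iff₀ hr, mul_comm]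
      exact (le_div_iff₀ this).1 hle)
    by_cases hi : i = i₀
    · subst hi; omega
    · have hcard : Fintype.card {j : ι // j ≠ i₀} = k := by
        rw [Fintype.card_subtype_compl, Fintype.card_subtype_eq, hk]; rfl
      have hsum' : ∑ j : {j : ι // j ≠ i₀}, (1 : ℚ) / f j = r - 1 / f i₀ := by
        rw [← hsum, ← Finset.sum_erase_eq_sub (Finset.mem_univ i₀)]
        exact (Finset.sum_subtype _ (fun j => by simp) fun j => (1 : ℚ) / f j).symm
      have := hN (r - 1 / f i₀) {j : ι // j ≠ i₀} (fun j => f j) hcard (fun j => hpos j) hsum' ⟨i, hi⟩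
      have h2 : N (r - 1 / f i₀) ≤ (Finset.range (⌊((k : ℚ) + 1) / r⌋₊ + 1)).sup
          (fun m => N (r - 1 / m)) :=
        Finset.le_sup (f := fun m : ℕ => N (r - 1 / m)) (Finset.mem_range.2 (by omega))
      simp only at this
      omega

theorem centralizer_one_card (G : Type u) [Group G] :
    Nat.card (Subgroup.centralizer ({(1 : G)} : Set G)) = Nat.card G :=
  Nat.card_congr (Equiv.subtypeUnivEquiv fun x => by simp [Subgroup.mem_centralizer_iff])

/-- Boundedness of the group order in terms of the class number. -/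
theorem exists_card_bound (K : ℕ) : ∃ N : ℕ, ∀ (G : Type u) [Group G] [Finite G],
    Nat.card (ConjClasses G) ≤ K → Nat.card G ≤ N := by
  choose N hN using fun k => exists_bound_unit_fractions.{u} k 1
  refine ⟨(Finset.range (K + 1)).sup N, fun G _ _ hK => ?_⟩
  classical
  haveI := Fintype.ofFinite G
  haveI : Finite (ConjClasses G) := Quotient.finite _
  haveI := Fintype.ofFinite (ConjClasses G)
  set f : ConjClasses G → ℕ := fun C => Nat.card (Subgroup.centralizer ({C.out} : Set G)) with hf
  have hsize : ∀ C : ConjClasses G, (Finset.univ.filter fun x => ConjClasses.mk x = C).card =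
      (Subgroup.centralizer ({C.out} : Set G)).index := fun C => by
    rw [← Char.card_classFinset C.out]
    congr 1
    ext x
    rw [Finset.mem_filter, Char.mem_classFinset]
    conv_lhs => rw [← Quotient.out_eq C]
    exact ⟨fun h => (ConjClasses.mk_eq_mk_iff_isConj.1 h.2).symm,
      fun h => ⟨Finset.mem_univ _, ConjClasses.mk_eq_mk_iff_isConj.2 h.symm⟩⟩
  have hsum : ∑ C, (1 : ℚ) / f C = 1 := by
    have hG : (Nat.card G : ℚ) ≠ 0 := by exact_mod_cast Nat.card_pos.ne'
    have h1 : ∀ C, (1 : ℚ) / f C =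
        ((Subgroup.centralizer ({C.out} : Set G)).index : ℚ) / Nat.card G := fun C => by
      have h2 : (Nat.card G : ℚ) =
          ((Subgroup.centralizer ({C.out} : Set G)).index : ℚ) * f C := by
        exact_mod_cast (Subgroup.index_mul_card _).symm
      rw [div_eq_div_iff (by exact_mod_cast Nat.card_pos.ne') hG, one_mul, h2]
    rw [Finset.sum_congr rfl fun C _ => h1 C, ← Finset.sum_div, div_eq_one_iff_eq hG]
    have := Finset.card_eq_sum_card_fiberwise
      (f := ConjClasses.mk) (s := (Finset.univ : Finset G)) (t := Finset.univ) (fun x _ => Finset.mem_univ _)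
    rw [Finset.card_univ, ← Nat.card_eq_fintype_card] at this
    rw [this, Nat.cast_sum]
    exact Finset.sum_congr rfl fun C _ => by rw [hsize]
  have h := hN (Nat.card (ConjClasses G)) (ConjClasses G) f Nat.card_eq_fintype_card.symm
    (fun C => Nat.card_pos) hsum (ConjClasses.mk (1 : G))
  have h1 : (ConjClasses.mk (1 : G)).out = 1 :=
    isConj_one_left.1 (ConjClasses.mk_eq_mk_iff_isConj.1 (Quotient.out_eq (ConjClasses.mk (1 : G))))
  rw [hf] at h
  simp only [h1, centralizer_one_card] at h
  exact h.trans (Finset.le_sup (f := N) (Finset.mem_range.2 (by omega)))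

end Cfsg.Lib.Block
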