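import Cfsg.Agent.Lib.Block.DefectApps
import Cfsg.Agent.Lib.Block.CentralDefect
import Cfsg.Agent.Lib.Block.Cartan
import Cfsg.Agent.Lib.Block.Induced
import Cfsg.Agent.Lib.Core.Cores
import Cfsg.Agent.S0912
import Cfsg.Agent.S0924

/-!
# Characters of full defect relative to a central `p`-subgroup
-/

set_option autoImplicit false
set_option linter.unusedSectionVars false
set_option maxHeartbeats 800000

namespace Cfsg.Lib.Block

open Cfsg
open scoped ComplexConjugate

universe u

variable {p : ℕ} {M : Ideal AlgInt} {G : Type u} [Group G] [Fintype G] [Fact p.Prime]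

theorem regInner_self_filter (χ : IrrCharacter G) [DecidablePred fun g : G => IsPRegular p g] :
    regInner p (χ : G → ℂ) (χ : G → ℂ) =
      (((Nat.card G : ℝ)⁻¹ * ∑ g ∈ Finset.univ.filter (fun g : G => IsPRegular p g),
        Complex.normSq ((χ : G → ℂ) g) : ℝ) : ℂ) := by
  rw [regInner, classInner]
  push_cast
  congr 1
  rw [Finset.sum_filter]
  refine Finset.sum_congr rfl fun g _ => ?_
  by_cases h : IsPRegular p g
  · rw [pRegularPart_of_reg h, if_pos h, Complex.mul_conj]
  · rw [pRegularPart_of_sing h, if_neg h, zero_mul]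

theorem sum_normSq_irr (χ : IrrCharacter G) :
    ∑ g, Complex.normSq ((χ : G → ℂ) g) = (Nat.card G : ℝ) := by
  have h := Char.classInner_irr_self χ.2
  rw [classInner, inv_mul_eq_iff_eq_mul₀ Char.card_cast_ne_zero, mul_one] at h
  simp only [Complex.mul_conj] at h
  exact_mod_cast h

/-- A character of full degree relative to a central `p`-subgroup `D` has defect group `D`. -/
theorem central_defect (hM : IsPModular p M) {D : Subgroup G} (hD : IsPGroup p D)
    (hDZ : D ≤ Subgroup.center G) (χ : IrrCharacter G)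
    (hdeg : (charDegree (χ : G → ℂ)).factorization p = D.index.factorization p) :
    IsDefectGroup p M (blockOf M (χ : G → ℂ)) D := by
  classical
  set B := blockOf M (χ : G → ℂ) with hBdef
  have hB : IsPBlock M B := isPBlock_blockOf χ
  have hχ : χ ∈ B := self_mem_blockOf hM χ
  obtain ⟨Δ, hΔ⟩ := exists_defectGroup hM (p := p) hB
  have hpc : pCore p G ≤ Δ := Cfsg.Agent.S0912.result p M hM B hB Δ hΔ
  haveI : D.Normal := ⟨fun a ha b => by
    rw [Subgroup.mem_center_iff.1 (hDZ ha) b, mul_inv_cancel_right]; exact ha⟩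
  have hDΔ : D ≤ Δ := (Cfsg.Lib.Core.le_pCore hD).trans hpc
  obtain ⟨a, ha⟩ := IsPGroup.iff_card.1 hD
  set d := blockDefect p B with hd
  have hne := nonempty_of_isPBlock hM hB
  have hadd : d + minVal p B = (Nat.card G).factorization p :=
    blockDefect_add_minVal (p := p) hne
  have hmin : minVal p B ≤ (charDegree (χ : G → ℂ)).factorization p := minVal_le hχ
  have hG : (Nat.card G).factorization p = a + D.index.factorization p := by
    rw [← D.card_mul_index, Nat.factorization_mul Nat.card_pos.ne' D.index_ne_zero_of_finite,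
      Finsupp.add_apply, ha, Nat.Prime.factorization_pow (Fact.out : p.Prime),
      Finsupp.single_eq_same]
  have hh : blockHeight p B (χ : G → ℂ) + minVal p B =
      (charDegree (χ : G → ℂ)).factorization p := by
    rw [blockHeight_eq]; omega
  have had : a = d := by
    rcases Nat.eq_zero_or_pos (blockHeight p B (χ : G → ℂ)) with h0 | hpos
    · omega
    exfalso
    obtain ⟨n, hn, hdvd, -⟩ := exists_int_regN hM hB hχ hχ
    set T := Finset.univ.filter fun g : G => IsPRegular p g with hT
    set S : ℝ := ∑ g ∈ T, Complex.normSq ((χ : G → ℂ) g) with hS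
    have hSpos : 0 < S := Finset.sum_pos' (fun g _ => Complex.normSq_nonneg _)
      ⟨1, Finset.mem_filter.2 ⟨Finset.mem_univ _, by
        rw [IsPRegular, orderOf_one]; exact (Fact.out : p.Prime).not_dvd_one⟩,
        Complex.normSq_pos.2 χ.2.apply_one_ne_zero⟩
    have hSle : (Nat.card D : ℝ) * S ≤ (Nat.card G : ℝ) := by
      rw [← sum_normSq_irr χ]
      have hval : ∀ (e : D) (y : G), Complex.normSq ((χ : G → ℂ) ((e : G) * y)) =
          Complex.normSq ((χ : G → ℂ) y) := fun e y => by
        obtain ⟨c, hc, hc'⟩ := exists_central_scalar χ (hDZ e.2)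
        have h1 := conj_mul_self_of_pow_eq_one (orderOf_pos (e : G)).ne' hc
        rw [Complex.mul_conj] at h1
        rw [hc', Complex.normSq_mul, show Complex.normSq c = 1 by exact_mod_cast h1, one_mul]
      have hsum : ∑ x ∈ (Finset.univ : Finset D) ×ˢ T,
          Complex.normSq ((χ : G → ℂ) ((x.1 : G) * x.2)) = (Nat.card D : ℝ) * S := by
        rw [Finset.sum_product]
        simp only [hval]
        rw [Finset.sum_const, Finset.card_univ, ← Nat.card_eq_fintype_card, nsmul_eq_mul]
      rw [← hsum]
      have hinj : Set.InjOn (fun x : D × G => (x.1 : G) * x.2)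
          ((Finset.univ : Finset D) ×ˢ T : Finset (D × G)) := by
        intro x hx y hy hxy
        rw [Finset.mem_coe, Finset.mem_product] at hx hy
        have hxr := (Finset.mem_filter.1 hx.2).2
        have hyr := (Finset.mem_filter.1 hy.2).2
        obtain ⟨i, hi⟩ := IsPGroup.iff_orderOf.1 hD x.1
        obtain ⟨j, hj⟩ := IsPGroup.iff_orderOf.1 hD y.1
        rw [← Subgroup.orderOf_coe] at hi hj
        have e1 := eq_pPt (p := p) hxy
          ((Subgroup.mem_center_iff.1 (hDZ x.1.2) x.2).symm : Commute (x.1 : G) x.2) hi hxr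
        have e2 := eq_pPt (p := p) (rfl : (y.1 : G) * y.2 = (y.1 : G) * y.2)
          ((Subgroup.mem_center_iff.1 (hDZ y.1.2) y.2).symm : Commute (y.1 : G) y.2) hj hyr
        have e3 : x.1 = y.1 := Subtype.ext (e1.trans e2.symm)
        refine Prod.ext e3 ?_
        simp only [e3] at hxy
        exact mul_left_cancel hxy
      rw [← Finset.sum_image (f := fun g => Complex.normSq ((χ : G → ℂ) g)) hinj]
      exact Finset.sum_le_sum_of_subset_of_nonneg (Finset.subset_univ _)
        fun g _ _ => Complex.normSq_nonneg _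
    have hp0 : (0 : ℝ) < p := by exact_mod_cast (Fact.out : p.Prime).pos
    have hG0 : (0 : ℝ) < Nat.card G := by exact_mod_cast Nat.card_pos
    have hreal : (p : ℝ) ^ d * ((Nat.card G : ℝ)⁻¹ * S) =
        (n : ℝ) * (p : ℝ) ^ blockHeight p B (χ : G → ℂ) := by
      have h := hn
      rw [regN, regInner_self_filter, ← hd, ← hT, ← hS] at h
      apply Complex.ofReal_injective
      simpa using h
    rw [ha, Nat.cast_pow] at hSle
    have hda : d = a + blockHeight p B (χ : G → ℂ) := by omega
    rw [hda, pow_add] at hreal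
    have hn1 : (n : ℝ) = (p : ℝ) ^ a * S / (Nat.card G : ℝ) := by
      have hk : (p : ℝ) ^ blockHeight p B (χ : G → ℂ) ≠ 0 := pow_ne_zero _ hp0.ne'
      field_simp at hreal ⊢
      linear_combination -hreal
    have hnle : (n : ℝ) ≤ 1 := by
      rw [hn1, div_le_one hG0]; exact hSle
    have hnpos : (0 : ℝ) < n := by
      rw [hn1]; positivity
    have h1 : n = 1 := le_antisymm (by exact_mod_cast hnle) (by exact_mod_cast hnpos)
    have h2 := hdvd hpos
    rw [h1] at h2
    exact (Fact.out : p.Prime).not_dvd_one (by exact_mod_cast h2)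
  have heq : D = Δ := Subgroup.eq_of_le_of_card_ge hDΔ
    (by rw [card_defectGroup hM hB hΔ, ha, had])
  exact heq ▸ hΔ

theorem central_defect_vanish (hM : IsPModular p M) {D : Subgroup G} (hD : IsPGroup p D)
    (hDZ : D ≤ Subgroup.center G) (χ : IrrCharacter G)
    (hdeg : (charDegree (χ : G → ℂ)).factorization p = D.index.factorization p) {g x : G}
    (hx : IsPPart p g x) (hxD : x ∉ D) : (χ : G → ℂ) g = 0 := by
  refine Cfsg.Agent.S0924.result p M hM χ g x hx fun D' hD' hxD' => hxD ?_
  obtain ⟨c, hc⟩ := exists_conj_defectGroup hM (isPBlock_blockOf χ)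
    (central_defect hM hD hDZ χ hdeg) hD'
  rw [← hc] at hxD'
  obtain ⟨e, he, hee⟩ := hxD'
  rw [← hee]
  show c * e * c⁻¹ ∈ D
  rw [Subgroup.mem_center_iff.1 (hDZ he) c, mul_inv_cancel_right]
  exact he

end Cfsg.Lib.Block
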