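import Cfsg.Agent.Lib.Block.GaloisTwist
import Cfsg.Agent.Lib.Block.CentralDefect
import Cfsg.Agent.Lib.Char.Constituents
import Cfsg.Agent.Lib.Char.Formulas
import Cfsg.Agent.Lib.Char.Extension

/-!
# The abelian Hall subgroup of a linear group for the large primes

A group with a faithful character of degree `n` has an abelian Hall subgroup for the primes greater
than `n + 1`. If two such primes divide the order then some element has order divisible by both,
since otherwise every irreducible constituent would be rational at one of the primes.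
-/

set_option autoImplicit false
set_option linter.unusedSectionVars false

namespace Cfsg.Lib.Block

open Cfsg
open scoped ComplexConjugate

universe u

/-- A constant integral value at the nonidentity elements of a group of order `p`. -/
theorem int_value_eq {p d m : ℕ} {c : ℤ} (hd : d + 1 < p) (hc : -(d : ℤ) ≤ c) (hc' : c ≤ (d : ℤ))
    (h : (d : ℤ) + ((p : ℤ) - 1) * c = p * m) : c = d := by
  have hdvd : (p : ℤ) ∣ (d : ℤ) - c := ⟨(m : ℤ) - c, by linear_combination h⟩
  by_contra hne
  rcases lt_trichotomy ((d : ℤ) - c) 0 with hlt | heq | hgt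
  · omega
  · omega
  · obtain ⟨j, hj⟩ := hdvd
    have hj1 : 1 ≤ j := by
      by_contra hj'
      push Not at hj'
      have : (p : ℤ) * j ≤ 0 := mul_nonpos_of_nonneg_of_nonpos (by positivity) (by omega)
      omega
    have hpj : (p : ℤ) * 1 ≤ p * j := mul_le_mul_of_nonneg_left hj1 (by positivity)
    nlinarith

variable {G : Type u} [Group G]

open Classical in
/-- A small character fixed by the twists fixing the regular elements kills the elements of
order `p`. -/
theorem apply_eq_one_of_twist_fixed [Finite G] {p : ℕ} [hp : Fact p.Prime] {φ : G → ℂ}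
    (hφ : IsCharacter G φ) {d : ℕ} (hd : φ 1 = d) (hdp : d + 1 < p) {x : G} (hx : orderOf x = p)
    (hfix : ∀ k : ℕ, k.Coprime (Nat.card G) →
      k ≡ 1 [MOD Nat.card G / p ^ (Nat.card G).factorization p] → φ (x ^ k) = φ x) :
    φ x = φ 1 := by
  have hN : Nat.card G ≠ 0 := Nat.card_pos.ne'
  have hpN : p ∣ Nat.card G := hx ▸ orderOf_dvd_natCard x
  have hco : (p ^ (Nat.card G).factorization p).Coprime
      (Nat.card G / p ^ (Nat.card G).factorization p) :=
    Nat.Coprime.pow_left _ (hp.out.coprime_iff_not_dvd.2 (Nat.not_dvd_ordCompl hp.out hN))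
  have hpow : ∀ j : ℕ, ¬ p ∣ j → φ (x ^ j) = φ x := by
    intro j hj
    obtain ⟨k, hk1, hk2⟩ := Nat.chineseRemainder hco j 1
    have hkj : k ≡ j [MOD p] :=
      hk1.of_dvd (dvd_pow_self p (hp.out.factorization_pos_of_dvd hN hpN).ne')
    have hkN : k.Coprime (Nat.card G) := by
      rw [← Nat.ordProj_mul_ordCompl_eq_self (Nat.card G) p]
      refine Nat.Coprime.mul_right (Nat.Coprime.pow_right _ ?_) ?_
      · refine (hp.out.coprime_iff_not_dvd.2 fun h => hj ?_).symm
        exact Nat.modEq_zero_iff_dvd.1 (hkj.symm.trans (Nat.modEq_zero_iff_dvd.2 h))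
      · rw [Nat.Coprime, Nat.ModEq.gcd_eq hk2]
        exact Nat.gcd_one_left _
    rw [← hfix k hkN hk2]
    congr 1
    rw [pow_eq_pow_iff_modEq, hx]
    exact hkj.symm
  haveI := Fintype.ofFinite G
  haveI : Fintype (Subgroup.zpowers x) := Fintype.ofFinite _
  obtain ⟨m, hm⟩ := (hφ.comp (Subgroup.zpowers x).subtype).exists_nat_classInner
    (Char.isIrrCharacter_one (G := Subgroup.zpowers x)).isCharacter
  have hsum : ∑ z : Subgroup.zpowers x, φ z = (p : ℂ) * m := by
    have h : classInner (fun z : Subgroup.zpowers x => φ z) (fun _ => 1) = (m : ℂ) := by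
      rw [← hm]; rfl
    rw [Char.classInner_one_right, Nat.card_zpowers, hx] at h
    rw [← h, ← mul_assoc, mul_inv_cancel₀ (Nat.cast_ne_zero.2 hp.out.ne_zero), one_mul]
  have hval : ∀ z ∈ Finset.univ.erase (1 : Subgroup.zpowers x), φ z = φ x := by
    intro z hz
    obtain ⟨j, hj⟩ := (isOfFinOrder_of_finite x).mem_powers_iff_mem_zpowers.2 z.2
    rw [← show x ^ j = z from hj]
    refine hpow j fun hdvd => Finset.ne_of_mem_erase hz (Subtype.ext ?_)
    rw [← show x ^ j = z from hj, OneMemClass.coe_one]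
    exact orderOf_dvd_iff_pow_eq_one.1 (hx.symm ▸ hdvd)
  rw [← Finset.add_sum_erase _ _ (Finset.mem_univ (1 : Subgroup.zpowers x)),
    Finset.sum_congr rfl hval, Finset.sum_const, Finset.card_erase_of_mem (Finset.mem_univ _),
    Finset.card_univ, ← Nat.card_eq_fintype_card, Nat.card_zpowers, hx, OneMemClass.coe_one, hd,
    nsmul_eq_mul, Nat.cast_sub hp.out.one_le, Nat.cast_one] at hsum
  have hp1 : ((p : ℂ) - 1) ≠ 0 := by
    rw [← Nat.cast_one, ← Nat.cast_sub hp.out.one_le, Nat.cast_ne_zero]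
    have := hp.out.two_le
    omega
  have hrat : φ x = ((((p : ℚ) * m - d) / ((p : ℚ) - 1) : ℚ) : ℂ) := by
    push_cast
    rw [eq_div_iff hp1]
    linear_combination hsum
  obtain ⟨c, hc⟩ := Char.exists_int_of_isIntegral_rat
    (q := ((p : ℚ) * m - d) / ((p : ℚ) - 1)) (hrat ▸ hφ.isIntegral x)
  have hxc : φ x = (c : ℂ) := by rw [hrat, hc]; simp
  rw [hxc] at hsum
  have hbound : -(d : ℤ) ≤ c := by
    have h := hφ.norm_le x
    rw [hd, hxc, Complex.natCast_re, Complex.norm_intCast] at h
    exact_mod_cast (neg_le_neg h).trans (neg_abs_le _)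
  have hbound' : c ≤ (d : ℤ) := by
    have h := hφ.norm_le x
    rw [hd, hxc, Complex.natCast_re, Complex.norm_intCast] at h
    exact_mod_cast (le_abs_self _).trans h
  have hint : (d : ℤ) + ((p : ℤ) - 1) * c = p * m := by exact_mod_cast hsum
  rw [hxc, hd, int_value_eq hdp hbound hbound' hint]
  simp

variable [Fintype G]

open Classical in
/-- An irreducible character vanishing jointly is rational at one of the primes. -/
theorem twist_fixed_or {p q : ℕ} [Fact p.Prime] [Fact q.Prime]
    (hno : ∀ g : G, ¬ p ∣ orderOf g ∨ ¬ q ∣ orderOf g) (φ : IrrCharacter G) :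
    (∀ k : ℕ, k.Coprime (Nat.card G) →
        k ≡ 1 [MOD Nat.card G / p ^ (Nat.card G).factorization p] →
        ∀ g, (φ : G → ℂ) (g ^ k) = (φ : G → ℂ) g) ∨
      ∀ l : ℕ, l.Coprime (Nat.card G) →
        l ≡ 1 [MOD Nat.card G / q ^ (Nat.card G).factorization q] →
        ∀ g, (φ : G → ℂ) (g ^ l) = (φ : G → ℂ) g := by
  by_contra hcon
  push Not at hcon
  obtain ⟨⟨k, hk, hk1, g₁, hg₁⟩, l, hl, hl1, g₂, hg₂⟩ := hcon
  have hkl : (k * l).Coprime (Nat.card G) := hk.mul_left hl
  have hid : (fun g => (powTwist (k * l) hkl φ : G → ℂ) g + (φ : G → ℂ) g) =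
      fun g => (powTwist k hk φ : G → ℂ) g + (powTwist l hl φ : G → ℂ) g := by
    funext g
    simp only [powTwist_apply]
    rcases hno g with h | h
    · rw [pow_mul, pow_eq_self_of_regular hk1 h, add_comm]
    · rw [mul_comm k l, pow_mul, pow_eq_self_of_regular hl1 h]
  have hne : ∀ {j : ℕ} (hj : j.Coprime (Nat.card G)) {g : G},
      (φ : G → ℂ) (g ^ j) ≠ (φ : G → ℂ) g → (powTwist j hj φ : G → ℂ) ≠ (φ : G → ℂ) :=
    fun hj _ h he => h (congrFun he _)
  have h := congrArg (fun f => classInner f (φ : G → ℂ)) hid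
  rw [show (fun g => (powTwist (k * l) hkl φ : G → ℂ) g + (φ : G → ℂ) g) =
      (powTwist (k * l) hkl φ : G → ℂ) + (φ : G → ℂ) from rfl,
    show (fun g => (powTwist k hk φ : G → ℂ) g + (powTwist l hl φ : G → ℂ) g) =
      (powTwist k hk φ : G → ℂ) + (powTwist l hl φ : G → ℂ) from rfl,
    Char.classInner_add_left, Char.classInner_add_left, Char.classInner_irr_self φ.2,
    Char.classInner_irr_ne (powTwist k hk φ).2 φ.2 (hne hk hg₁),
    Char.classInner_irr_ne (powTwist l hl φ).2 φ.2 (hne hl hg₂)] at h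
  by_cases he : (powTwist (k * l) hkl φ : G → ℂ) = (φ : G → ℂ)
  · rw [he, Char.classInner_irr_self φ.2] at h
    norm_num at h
  · rw [Char.classInner_irr_ne (powTwist (k * l) hkl φ).2 φ.2 he] at h
    norm_num at h

variable {χ : G → ℂ} (hχ : IsCharacter G χ) (hfaith : ∀ g : G, χ g = χ 1 → g = 1)
  {n : ℕ} (hn : χ 1 = n)

include hχ hfaith hn

/-- A subgroup all of whose prime divisors exceed the degree is abelian. -/
theorem comm_of_large_primes (A : Subgroup G)
    (hA : ∀ q : ℕ, q.Prime → q ∣ Nat.card A → n + 1 < q) :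
    ∀ a ∈ A, ∀ b ∈ A, a * b = b * a := by
  have hχA : IsCharacter A (fun a : A => χ a) := hχ.comp A.subtype
  have hlin : ∀ φ : IrrCharacter A, (φ : A → ℂ) 1 = 1 ∨
      ∀ [Fintype A], classInner (fun a : A => χ a) (φ : A → ℂ) = 0 := by
    intro φ
    refine or_iff_not_imp_left.2 fun h1 => ?_
    intro hF
    by_contra hne
    obtain ⟨d, hd0, hd⟩ := φ.2.exists_degree
    have hle : d ≤ n := by
      have h := Char.degree_le_of_constituent φ.2 hχA hne
      simp only [OneMemClass.coe_one, hn, hd, Complex.natCast_re] at h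
      exact_mod_cast h
    have hd1 : d ≠ 1 := fun h => h1 (by rw [hd, h, Nat.cast_one])
    have hdvd : d ∣ Nat.card A := by
      have h := Char.charDegree_dvd_card φ.2
      rwa [charDegree_eq_of_apply_one hd] at h
    have hq := hA d.minFac (Nat.minFac_prime hd1) ((Nat.minFac_dvd d).trans hdvd)
    have := Nat.minFac_le hd0
    omega
  intro a ha b hb
  have h := hfaith _ (hχA.commutator_mem_ker hlin ⟨a, ha⟩ ⟨b, hb⟩)
  simp only [Subgroup.coe_mul, InvMemClass.coe_inv] at h
  calc a * b = a * b * a⁻¹ * b⁻¹ * (b * a) := by group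
    _ = b * a := by rw [h, one_mul]

open Classical in
/-- Two large primes dividing the order divide the order of a single element. -/
theorem exists_orderOf_mul_dvd {p q : ℕ} [Fact p.Prime] [Fact q.Prime] (hpq : p ≠ q)
    (hp : n + 1 < p) (hq : n + 1 < q) (hpd : p ∣ Nat.card G) (hqd : q ∣ Nat.card G) :
    ∃ w : G, p * q ∣ orderOf w := by
  by_contra hcon
  push Not at hcon
  have hco : p.Coprime q := (Nat.coprime_primes Fact.out Fact.out).2 hpq
  have hno : ∀ g : G, ¬ p ∣ orderOf g ∨ ¬ q ∣ orderOf g := fun g => not_and_or.1 fun h =>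
    hcon g (hco.mul_dvd_of_dvd_of_dvd h.1 h.2)
  obtain ⟨x, hx⟩ := exists_prime_orderOf_dvd_card' p hpd
  obtain ⟨y, hy⟩ := exists_prime_orderOf_dvd_card' q hqd
  refine hcon (x * y) ?_
  have hcomm : Commute x y := by
    have h := hfaith (x * y * x⁻¹ * y⁻¹) ?_
    · calc x * y = x * y * x⁻¹ * y⁻¹ * (y * x) := by group
        _ = y * x := by rw [h, one_mul]
    rw [Char.eq_sum_classInner hχ.isClassFunction]
    simp only [Finset.sum_apply, Pi.smul_apply, smul_eq_mul]
    refine Finset.sum_congr rfl fun φ _ => ?_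
    rcases eq_or_ne (classInner χ (φ : G → ℂ)) 0 with h0 | h0
    · rw [h0, zero_mul, zero_mul]
    congr 1
    obtain ⟨d, hd0, hd⟩ := φ.2.exists_degree
    have hle : d ≤ n := by
      have h := Char.degree_le_of_constituent φ.2 hχ h0
      rw [hn, hd, Complex.natCast_re, Complex.natCast_re] at h
      exact_mod_cast h
    have hφ := φ.2.isCharacter
    have hinv : ∀ z : G, (φ : G → ℂ) z = (φ : G → ℂ) 1 → (φ : G → ℂ) z⁻¹ = (φ : G → ℂ) 1 := by
      intro z hz
      rw [hφ.apply_inv, hz, hd, Complex.conj_natCast]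
    rcases twist_fixed_or hno φ with h | h
    · have hx1 := apply_eq_one_of_twist_fixed hφ hd (by omega) hx fun k hk hk1 => h k hk hk1 x
      rw [show x * y * x⁻¹ * y⁻¹ = x * (y * x⁻¹ * y⁻¹) by group, hφ.apply_mul_of_mem_ker hx1,
        hφ.conj_invariant, hinv x hx1]
    · have hy1 := apply_eq_one_of_twist_fixed hφ hd (by omega) hy fun k hk hk1 => h k hk hk1 y
      rw [hφ.apply_mul_of_mem_ker ((hφ.conj_invariant y x).trans hy1), hinv y hy1]
  rw [hcomm.orderOf_mul_eq_mul_orderOf_of_coprime (by rw [hx, hy]; exact hco), hx, hy]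

omit hχ hfaith hn in
/-- A subgroup of index prime to `p` contains a conjugate of every `p`-element. -/
theorem exists_conj_mem_of_index {p : ℕ} [Fact p.Prime] {H : Subgroup G} (hH : ¬ p ∣ H.index)
    {x : G} (hx : ∃ k : ℕ, orderOf x = p ^ k) : ∃ g : G, g * x * g⁻¹ ∈ H := by
  obtain ⟨k, hk⟩ := hx
  have hPx : IsPGroup p (Subgroup.zpowers x) := IsPGroup.of_card (by rw [Nat.card_zpowers, hk])
  obtain ⟨T, hT⟩ := hPx.exists_le_sylow
  obtain ⟨S⟩ := Sylow.nonempty (p := p) (G := H)
  have hcard : Nat.card ((S : Subgroup H).map H.subtype) = p ^ (Nat.card G).factorization p := by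
    rw [Subgroup.card_map_of_injective H.subtype_injective, S.card_eq_multiplicity]
    congr 1
    rw [← H.card_mul_index, Nat.factorization_mul Nat.card_pos.ne' Subgroup.index_ne_zero_of_finite,
      Finsupp.add_apply, Nat.factorization_eq_zero_of_not_dvd hH, add_zero]
  obtain ⟨g, hg⟩ := MulAction.exists_smul_eq G T (Sylow.ofCard _ hcard)
  refine ⟨g, ?_⟩
  have hmem : g * x * g⁻¹ ∈ ((g • T : Sylow p G) : Subgroup G) := by
    rw [Sylow.coe_subgroup_smul]
    exact ⟨x, hT (Subgroup.mem_zpowers x), rfl⟩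
  rw [hg] at hmem
  obtain ⟨h, -, he⟩ := hmem
  exact he ▸ h.2

omit hfaith in
/-- A central element of large prime order is separated from a normal subgroup of `p`-power
index. -/
theorem exists_normal_of_central {p : ℕ} [hp : Fact p.Prime] (hpn : n + 1 < p)
    (hfaith : ∀ g : G, χ g = χ 1 → g = 1) {z : G} (hz : z ∈ Subgroup.center G)
    (hzp : orderOf z = p) :
    ∃ M : Subgroup G, M.Normal ∧ z ∉ M ∧ ∀ g : G, ¬ p ∣ orderOf g → g ∈ M := by
  classical
  have hex : ∃ φ : IrrCharacter G, classInner χ (φ : G → ℂ) ≠ 0 ∧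
      (φ : G → ℂ) z ≠ (φ : G → ℂ) 1 := by
    by_contra hc
    push Not at hc
    have hz1 : z = 1 := hfaith z (by
      rw [Char.eq_sum_classInner hχ.isClassFunction]
      simp only [Finset.sum_apply, Pi.smul_apply, smul_eq_mul]
      refine Finset.sum_congr rfl fun φ _ => ?_
      rcases eq_or_ne (classInner χ (φ : G → ℂ)) 0 with h0 | h0
      · rw [h0, zero_mul, zero_mul]
      · rw [hc φ h0])
    exact hp.out.ne_one (by rw [← hzp, hz1, orderOf_one])
  obtain ⟨φ, hφ0, hφz⟩ := hex
  obtain ⟨d, hd0, hd⟩ := φ.2.exists_degree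
  have hle : d ≤ n := by
    have h := Char.degree_le_of_constituent φ.2 hχ hφ0
    rw [hn, hd, Complex.natCast_re, Complex.natCast_re] at h
    exact_mod_cast h
  obtain ⟨c, hc, hcg⟩ := exists_central_scalar φ hz
  obtain ⟨m, ρ, hirr, hρ⟩ := φ.2
  have hm : m = d := by
    have h := congrFun hρ 1
    rw [hd, Representation.char_one, Module.finrank_fin_fun] at h
    exact_mod_cast h
  obtain ⟨e, he⟩ : ∃ e : ℂ, ρ z = e • LinearMap.id := by
    refine (Char.norm_character_eq_iff ρ z).1 ?_
    have h := hcg 1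
    rw [mul_one, hd] at h
    rw [hρ, h, norm_mul, Complex.norm_eq_one_of_pow_eq_one hc (orderOf_pos z).ne', one_mul,
      Complex.norm_natCast, Module.finrank_fin_fun, hm]
  have hdet : (Char.detHom ρ z : ℂ) = e ^ m := by
    rw [Char.detHom_apply, he, LinearMap.det_smul, LinearMap.det_id, mul_one,
      Module.finrank_fin_fun]
  have hne : Char.detHom ρ z ≠ 1 := by
    intro h1
    rw [h1, Units.val_one] at hdet
    have hep : e ^ p = 1 := by
      have h2 : ρ (z ^ p) = 1 := by rw [← hzp, pow_orderOf_eq_one, map_one]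
      rw [map_pow, he, ← Module.End.one_eq_id, smul_pow, one_pow] at h2
      have h3 := congrArg (fun f : Module.End ℂ (Fin m → ℂ) => f (fun _ => 1) ⟨0, by omega⟩) h2
      simpa using h3
    have hg : e ^ Nat.gcd m p = 1 := pow_gcd_eq_one.2 ⟨hdet.symm, hep⟩
    rw [((hp.out.coprime_iff_not_dvd).2 fun h => absurd (Nat.le_of_dvd (by omega) h)
      (by omega)).symm.gcd_eq_one, pow_one] at hg
    refine hφz ?_
    rw [← hρ, Representation.character, Representation.character, he, hg, one_smul, map_one,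
      Module.End.one_eq_id]
  set m' := Nat.card G / p ^ (Nat.card G).factorization p with hm'
  set μ : G →* ℂˣ := (powMonoidHom m').comp (Char.detHom ρ) with hμ
  have hμg : ∀ g, μ g = Char.detHom ρ g ^ m' := fun g => rfl
  refine ⟨μ.ker, inferInstance, fun h => hne ?_, fun g hg => ?_⟩
  · rw [MonoidHom.mem_ker, hμg] at h
    have h2 : Char.detHom ρ z ^ p = 1 := by rw [← map_pow, ← hzp, pow_orderOf_eq_one, map_one]
    have h3 := pow_gcd_eq_one.2 ⟨h2, h⟩
    rwa [(hp.out.coprime_iff_not_dvd.2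
      (Nat.not_dvd_ordCompl hp.out Nat.card_pos.ne')).gcd_eq_one, pow_one] at h3
  · rw [MonoidHom.mem_ker, hμg, ← map_pow]
    have hdvd : orderOf g ∣ m' := by
      refine Nat.Coprime.dvd_of_dvd_mul_right
        (n := p ^ (Nat.card G).factorization p) ?_ ?_
      · exact Nat.Coprime.pow_right _ ((hp.out.coprime_iff_not_dvd.2 hg).symm)
      · rw [hm', Nat.div_mul_cancel (Nat.ordProj_dvd _ _)]
        exact orderOf_dvd_natCard g
    rw [orderOf_dvd_iff_pow_eq_one.1 hdvd, map_one]

end Cfsg.Lib.Block
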