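import Mathlib.LinearAlgebra.Matrix.SchurComplement
import Mathlib.LinearAlgebra.Matrix.NonsingularInverse
import Mathlib.LinearAlgebra.FreeModule.PID
import Mathlib.LinearAlgebra.Dimension.Constructions
import Mathlib.Data.Matrix.ColumnRowPartitioned
import Mathlib.LinearAlgebra.Matrix.ToLinearEquiv
import Mathlib.Tactic

/-!
# The minimum of a scaled integral projection

An integral symmetric matrix `N` with `N² = p N` and rank one modulo the prime `p` has
`trace N / p` as a lower bound for its nonzero values at integral vectors.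
-/

set_option autoImplicit false
set_option linter.unusedSectionVars false

namespace Cfsg.Lib.Block

open Matrix

universe u v

variable {ι : Type u} {κ : Type v} [Fintype κ] [DecidableEq κ]

/-- The Gram matrix of the columns of `A` on a set of rows. -/
def rowGram (A : Matrix ι κ ℤ) (s : Finset ι) : Matrix κ κ ℤ :=
  fun a b => ∑ i ∈ s, A i a * A i b

theorem rowGram_quad (A : Matrix ι κ ℤ) (s : Finset ι) (x : κ → ℚ) :
    x ⬝ᵥ ((rowGram A s).map (Int.castRingHom ℚ)) *ᵥ x = ∑ i ∈ s, (∑ a, (A i a : ℚ) * x a) ^ 2 := by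
  simp only [dotProduct, Matrix.mulVec, Matrix.map_apply, rowGram, map_sum, map_mul, eq_intCast,
    Finset.sum_mul, Finset.mul_sum, sq]
  rw [Finset.sum_comm]
  rw [Finset.sum_comm (s := s)]
  refine Finset.sum_congr rfl fun b _ => ?_
  rw [Finset.sum_comm (s := s)]
  exact Finset.sum_congr rfl fun a _ => Finset.sum_congr rfl fun i _ => by ring

theorem card_sub_lt_det_rowGram [DecidableEq ι] (A : Matrix ι κ ℤ) :
    ∀ (n : ℕ) (s : Finset ι), s.card = n →
      (∀ x : κ → ℚ, (∀ i ∈ s, ∑ a, (A i a : ℚ) * x a = 0) → x = 0) →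
      (∀ i ∈ s, ∃ a, A i a ≠ 0) →
      (s.card : ℤ) - (Fintype.card κ : ℤ) + 1 ≤ (rowGram A s).det ∧ 0 < (rowGram A s).det := by
  intro n
  induction n using Nat.strong_induction_on with
  | _ n ih =>
  intro s hs hfull hrow
  have hle : Fintype.card κ ≤ s.card := by
    have hinj : Function.Injective (Matrix.mulVecLin
        (fun (i : s) a => (A i a : ℚ) : Matrix s κ ℚ)) := by
      rw [← LinearMap.ker_eq_bot, LinearMap.ker_eq_bot']
      intro x hx
      exact hfull x fun i hi => congrFun hx ⟨i, hi⟩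
    have := LinearMap.finrank_le_finrank_of_injective hinj
    simpa using this
  rcases hle.eq_or_lt with heq | hlt
  · obtain ⟨e⟩ : Nonempty (κ ≃ s) :=
      ⟨Fintype.equivOfCardEq (by rw [heq, Fintype.card_coe])⟩
    set S : Matrix κ κ ℤ := fun a b => A (e a) b with hS
    have hG : rowGram A s = Sᵀ * S := by
      funext a b
      simp only [rowGram, Matrix.mul_apply, Matrix.transpose_apply, hS]
      rw [← Finset.sum_coe_sort s]
      exact (e.sum_comp fun i : s => A i a * A i b).symm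
    have hdet : S.det ≠ 0 := by
      intro h
      have hQ : (S.map (Int.castRingHom ℚ)).det = 0 := by
        rw [← RingHom.mapMatrix_apply, ← RingHom.map_det, h, map_zero]
      obtain ⟨x, hx0, hx⟩ := Matrix.exists_mulVec_eq_zero_iff.2 hQ
      refine hx0 (hfull x fun i hi => ?_)
      have := congrFun hx (e.symm ⟨i, hi⟩)
      simpa [Matrix.mulVec, dotProduct, hS, Matrix.map, Matrix.of_apply] using this
    rw [hG, Matrix.det_mul, Matrix.det_transpose]
    have : (1 : ℤ) ≤ S.det * S.det := by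
      have := mul_self_pos.2 hdet
      omega
    rw [heq]
    omega
  · -- some row is redundant
    have hdep : ¬ LinearIndependent ℚ (fun (i : s) => fun a => (A i a : ℚ)) := fun h => by
      have := h.fintype_card_le_finrank
      rw [Module.finrank_fintype_fun_eq_card, Fintype.card_coe] at this
      omega
    obtain ⟨g, hg, i₀, hi₀⟩ := Fintype.not_linearIndependent_iff.1 hdep
    have hfull' : ∀ x : κ → ℚ, (∀ i ∈ s.erase i₀, ∑ a, (A i a : ℚ) * x a = 0) → x = 0 := by
      intro x hx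
      refine hfull x fun i hi => ?_
      by_cases hii : i = i₀
      · subst hii
        have h1 : ∑ a, (∑ j : s, g j • fun a => (A j a : ℚ)) a * x a = 0 := by
          rw [hg]; simp
        simp only [Finset.sum_apply, Pi.smul_apply, smul_eq_mul, Finset.sum_mul] at h1
        rw [Finset.sum_comm, Finset.sum_eq_single i₀ (fun j _ hj => ?_)
          (fun h => absurd (Finset.mem_univ _) h)] at h1
        · simp only [mul_assoc, ← Finset.mul_sum] at h1
          exact (mul_eq_zero.1 h1).resolve_left hi₀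
        · have := hx (j : ι) (Finset.mem_erase.2 ⟨fun e => hj (Subtype.ext e), j.2⟩)
          simp only [mul_assoc, ← Finset.mul_sum, this, mul_zero]
      · exact hx i (Finset.mem_erase.2 ⟨hii, hi⟩)
    obtain ⟨hIH, hIHpos⟩ := ih _ (by rw [← hs]; exact Finset.card_erase_lt_of_mem i₀.2)
      (s.erase i₀) rfl hfull' fun i hi => hrow i (Finset.mem_of_mem_erase hi)
    set X := rowGram A (s.erase i₀) with hX
    set w : κ → ℤ := fun a => A i₀ a with hw
    have hsplit : rowGram A s = X + replicateCol Unit w * replicateRow Unit w := by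
      funext a b
      simp only [rowGram, hX, Matrix.add_apply, Matrix.mul_apply, Matrix.replicateCol_apply,
        Matrix.replicateRow_apply, Finset.univ_unique, Finset.sum_singleton, hw]
      rw [← Finset.sum_erase_add _ _ i₀.2]
    have hcastdet : ∀ Y : Matrix κ κ ℤ, ((Y.det : ℤ) : ℚ) = (Y.map (Int.castRingHom ℚ)).det := by
      intro Y
      exact RingHom.map_det (Int.castRingHom ℚ) Y
    set Xq := X.map (Int.castRingHom ℚ) with hXq
    set wq : κ → ℚ := fun a => (w a : ℚ) with hwq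
    have hu : IsUnit Xq.det := by
      rw [hXq, ← hcastdet, isUnit_iff_ne_zero]
      exact_mod_cast hIHpos.ne'
    have hadd : (((rowGram A s).det : ℤ) : ℚ) =
        (X.det : ℚ) * (1 + wq ⬝ᵥ Xq⁻¹ *ᵥ wq) := by
      rw [hcastdet, hsplit, hcastdet, ← hXq]
      have e : (X + replicateCol Unit w * replicateRow Unit w).map (Int.castRingHom ℚ) =
          Xq + replicateCol Unit wq * replicateRow Unit wq := by
        funext a b
        simp [hXq, hwq, Matrix.mul_apply]
      rw [e, Matrix.det_add_replicateCol_mul_replicateRow hu]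
      congr 1
      rw [Matrix.det_unique]
      simp [Matrix.mul_apply, Matrix.mulVec, dotProduct, Finset.mul_sum, Finset.sum_mul]
      rw [Finset.sum_comm]
      exact Finset.sum_congr rfl fun a _ => Finset.sum_congr rfl fun b _ => by ring
    set y := Xq⁻¹ *ᵥ wq with hy
    have hXy : Xq *ᵥ y = wq := by
      rw [hy, Matrix.mulVec_mulVec, Matrix.mul_nonsing_inv _ hu, Matrix.one_mulVec]
    have hpos : 0 < wq ⬝ᵥ y := by
      have h2 : y ⬝ᵥ Xq *ᵥ y = ∑ i ∈ s.erase i₀, (∑ a, (A i a : ℚ) * y a) ^ 2 :=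
        rowGram_quad A _ y
      rw [hXy, dotProduct_comm] at h2
      rw [h2]
      refine lt_of_le_of_ne (Finset.sum_nonneg fun i _ => sq_nonneg _) fun h => ?_
      have hzero := (Finset.sum_eq_zero_iff_of_nonneg fun i _ => sq_nonneg _).1 h.symm
      have hy0 : y = 0 := hfull' y fun i hi => sq_eq_zero_iff.1 (hzero i hi)
      obtain ⟨a, ha⟩ := hrow i₀ i₀.2
      rw [hy0, Matrix.mulVec_zero] at hXy
      have h0 := congrFun hXy a
      simp only [hwq, hw, Pi.zero_apply] at h0
      exact ha (by exact_mod_cast h0.symm)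
    have hlt2 : X.det < (rowGram A s).det := by
      have : (X.det : ℚ) < ((rowGram A s).det : ℚ) := by
        rw [hadd]
        have : (0 : ℚ) < X.det := by exact_mod_cast hIHpos
        nlinarith
      exact_mod_cast this
    have hc := Finset.card_erase_add_one i₀.2
    constructor
    · push_cast [← hc]
      omega
    · omega

theorem exists_det_smul_add (p : ℤ) (X : Matrix κ κ ℤ) (a c : κ → ℤ) :
    ∃ t : ℤ, (p • X + vecMulVec a c).det * p = p ^ Fintype.card κ * t := by
  set F₁ : Matrix (Unit ⊕ κ) (Unit ⊕ κ) ℤ :=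
    fromBlocks 1 (replicateRow Unit c) (replicateCol Unit (-a)) (p • X) with hF₁
  set F₂ : Matrix (Unit ⊕ κ) (Unit ⊕ κ) ℤ :=
    fromBlocks (p • 1) (replicateRow Unit c) (replicateCol Unit (-a)) X with hF₂
  refine ⟨F₂.det, ?_⟩
  have h1 : F₁.det = (p • X + vecMulVec a c).det := by
    rw [hF₁, Matrix.det_fromBlocks_one₁₁]
    congr 1
    funext i j
    simp [Matrix.mul_apply, vecMulVec_apply]
  have h2 : F₁ * fromBlocks (p • 1) 0 0 1 = fromBlocks 1 0 0 (p • 1) * F₂ := by
    rw [hF₁, hF₂, Matrix.fromBlocks_multiply, Matrix.fromBlocks_multiply]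
    simp only [Matrix.mul_zero, Matrix.zero_mul, add_zero, zero_add, smul_zero, Matrix.one_mul,
      Matrix.mul_one, Matrix.mul_smul, Matrix.smul_mul]
  have h3 := congrArg Matrix.det h2
  rw [Matrix.det_mul, Matrix.det_mul, h1, Matrix.det_fromBlocks_zero₁₂,
    Matrix.det_fromBlocks_zero₁₂, Matrix.det_smul, Matrix.det_smul, Matrix.det_one,
    Matrix.det_one, Fintype.card_unit] at h3
  simpa using h3

variable {n : Type u} [Fintype n] [DecidableEq n]

/-- The kernel of `N` in the integral lattice is a direct summand with a finite basis. -/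
theorem exists_kernel_split (p : ℕ) (N : Matrix n n ℤ) (hsymm : Nᵀ = N)
    (hsq : N * N = (p : ℤ) • N) :
    ∃ (m : ℕ) (A : Matrix n (Fin m) ℤ) (Ai : Matrix (Fin m) n ℤ), Ai * A = 1 ∧ N * A = 0 ∧
      A * (Ai * ((p : ℤ) • 1 - N)) = (p : ℤ) • 1 - N := by
  classical
  set f := N.mulVecLin with hf
  haveI : Module.Free ℤ (LinearMap.range f) := inferInstance
  obtain ⟨σ, hσ⟩ := Module.projective_lifting_property (P := LinearMap.range f) f.rangeRestrict
    LinearMap.id (LinearMap.surjective_rangeRestrict f)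
  let π : (n → ℤ) →ₗ[ℤ] LinearMap.ker f :=
    (LinearMap.id - σ ∘ₗ f.rangeRestrict).codRestrict _ fun x => by
      have h := congrArg Subtype.val (LinearMap.congr_fun hσ (f.rangeRestrict x))
      simp only [LinearMap.coe_comp, Function.comp_apply, LinearMap.id_coe, id_eq] at h
      rw [LinearMap.mem_ker, LinearMap.sub_apply, map_sub, LinearMap.id_apply, sub_eq_zero,
        LinearMap.comp_apply]
      exact h.symm
  have hπ : ∀ x : LinearMap.ker f, π (x : n → ℤ) = x := by
    intro x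
    apply Subtype.ext
    have : f.rangeRestrict (x : n → ℤ) = 0 := Subtype.ext (LinearMap.mem_ker.1 x.2)
    simp [π, this]
  let bas := Module.finBasis ℤ (LinearMap.ker f)
  set A : Matrix n (Fin (Module.finrank ℤ (LinearMap.ker f))) ℤ := fun i a => (bas a : n → ℤ) i with hA
  set Ai : Matrix (Fin (Module.finrank ℤ (LinearMap.ker f))) n ℤ := LinearMap.toMatrix' (bas.equivFun.toLinearMap ∘ₗ π) with hAi
  have hAix : ∀ x, Ai *ᵥ x = bas.equivFun (π x) := fun x => by
    rw [hAi, LinearMap.toMatrix'_mulVec]; rfl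
  have hAx : ∀ v : (Fin (Module.finrank ℤ (LinearMap.ker f))) → ℤ, A *ᵥ v = ((bas.equivFun.symm v : LinearMap.ker f) : n → ℤ) := by
    intro v
    funext i
    simp [Module.Basis.equivFun_symm_apply, hA, Matrix.mulVec, dotProduct, mul_comm]
  have hNA : ∀ v, N *ᵥ (A *ᵥ v) = 0 := fun v => by
    rw [hAx]; exact LinearMap.mem_ker.1 (bas.equivFun.symm v).2
  have hAiA : Ai * A = 1 := by
    refine Matrix.ext_of_mulVec_single fun a => ?_
    rw [← Matrix.mulVec_mulVec, Matrix.one_mulVec, hAix, hAx, hπ, LinearEquiv.apply_symm_apply]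
  have hAAi : ∀ x, N *ᵥ x = 0 → A *ᵥ (Ai *ᵥ x) = x := fun x hx => by
    rw [hAix, hAx, LinearEquiv.symm_apply_apply]
    exact congrArg Subtype.val (hπ ⟨x, LinearMap.mem_ker.2 hx⟩)
  set X : Matrix n n ℤ := (p : ℤ) • 1 - N with hX
  have hNX : N * X = 0 := by
    rw [hX, Matrix.mul_sub, hsq, Matrix.mul_smul, Matrix.mul_one, sub_self]
  have hXX : A * (Ai * X) = X := by
    refine Matrix.ext_of_mulVec_single fun j => ?_
    rw [← Matrix.mulVec_mulVec, ← Matrix.mulVec_mulVec]
    exact hAAi _ (by rw [Matrix.mulVec_mulVec, hNX, Matrix.zero_mulVec])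
  have hNA' : N * A = 0 := Matrix.ext_of_mulVec_single fun a => by
    rw [← Matrix.mulVec_mulVec, hNA, Matrix.zero_mulVec]
  exact ⟨_, A, Ai, hAiA, hNA', hX ▸ hXX⟩

/-- The Gram determinant of the kernel divides the prime. -/
theorem det_gram_le (p : ℕ) (hp : p.Prime) (N : Matrix n n ℤ) (i₀ : n)
    (hunit : ¬ (p : ℤ) ∣ N i₀ i₀)
    (hrank : ∀ i j, (p : ℤ) ∣ N i j * N i₀ i₀ - N i i₀ * N j i₀) {m : ℕ}
    (Ai : Matrix (Fin m) n ℤ) (G R : Matrix (Fin m) (Fin m) ℤ)
    (hR : R = Ai * ((p : ℤ) • 1 - N) * Aiᵀ) (hGR : G * R = (p : ℤ) • 1) :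
    G.det ≤ p := by
  obtain ⟨c, E, hE⟩ : ∃ (c : ℤ) (E : Matrix n n ℤ),
      N = (p : ℤ) • E + c • vecMulVec (fun i => N i i₀) (fun i => N i i₀) := by
    obtain ⟨c, d, hc⟩ : ∃ c d : ℤ, c * N i₀ i₀ + d * p = 1 := by
      obtain ⟨c, d, h⟩ := (Int.isCoprime_iff_gcd_eq_one.2 (by
        rw [Int.gcd_comm]
        exact (Nat.Prime.coprime_iff_not_dvd hp).2 fun h => hunit (Int.natCast_dvd.2 h)) :
          IsCoprime (N i₀ i₀) (p : ℤ))
      exact ⟨c, d, h⟩
    choose q hq using hrank
    refine ⟨c, fun i j => c * q i j + d * N i j, funext fun i => funext fun j => ?_⟩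
    show N i j = (p : ℤ) * (c * q i j + d * N i j) + c * (N i i₀ * N j i₀)
    linear_combination c * hq i j - N i j * hc
  have hR' : R = (p : ℤ) • (Ai * (1 - E) * Aiᵀ) +
      vecMulVec ((-c) • (Ai *ᵥ fun i => N i i₀)) (Ai *ᵥ fun i => N i i₀) := by
    rw [hR]
    conv_lhs => rw [hE]
    rw [Matrix.mul_sub, Matrix.sub_mul, Matrix.mul_add, Matrix.add_mul, Matrix.mul_sub Ai 1 E,
      Matrix.sub_mul, smul_sub]
    simp only [Matrix.mul_smul, Matrix.smul_mul, Matrix.mul_one, Matrix.mul_vecMulVec,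
      Matrix.vecMulVec_mul, Matrix.vecMul_transpose, smul_vecMulVec, neg_smul,
      Matrix.neg_vecMulVec]
    abel
  obtain ⟨t, ht⟩ := exists_det_smul_add (p : ℤ) (Ai * (1 - E) * Aiᵀ)
    ((-c) • (Ai *ᵥ fun i => N i i₀)) (Ai *ᵥ fun i => N i i₀)
  rw [← hR'] at ht
  have h2 : G.det * R.det = (p : ℤ) ^ Fintype.card (Fin m) := by
    rw [← Matrix.det_mul, hGR, Matrix.det_smul, Matrix.det_one, mul_one]
  have hp0 : (p : ℤ) ≠ 0 := by exact_mod_cast hp.ne_zero
  have h3 : G.det * t = p := by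
    refine mul_left_cancel₀ (pow_ne_zero (Fintype.card (Fin m)) hp0) ?_
    calc (p : ℤ) ^ Fintype.card (Fin m) * (G.det * t) = G.det * ((p : ℤ) ^ Fintype.card (Fin m) * t) := by
          ring
      _ = (G.det * R.det) * p := by rw [← ht, mul_assoc]
      _ = _ := by rw [h2]
  exact Int.le_of_dvd (by exact_mod_cast hp.pos) ⟨t, h3.symm⟩

/-- Nonzero values of the scaled projection at integral vectors. -/
theorem trace_le_quad (p : ℕ) (hp : p.Prime) (N : Matrix n n ℤ) (hsymm : Nᵀ = N)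
    (hsq : N * N = (p : ℤ) • N) (i₀ : n) (hunit : ¬ (p : ℤ) ∣ N i₀ i₀)
    (hrank : ∀ i j, (p : ℤ) ∣ N i j * N i₀ i₀ - N i i₀ * N j i₀)
    (hdiag : ∀ i, N i i ≠ p) (y : n → ℤ) (hy : N *ᵥ y ≠ 0) :
    N.trace ≤ (p : ℤ) * (y ⬝ᵥ N *ᵥ y) := by
  classical
  obtain ⟨m, A, Ai, hAiA, hNA', hXX⟩ := exists_kernel_split p N hsymm hsq
  set X : Matrix n n ℤ := (p : ℤ) • 1 - N with hX
  have hXA : X * A = (p : ℤ) • A := by
    rw [hX, Matrix.sub_mul, hNA', sub_zero, Matrix.smul_mul, Matrix.one_mul]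
  have hXt : Xᵀ = X := by
    rw [hX, Matrix.transpose_sub, Matrix.transpose_smul, Matrix.transpose_one, hsymm]
  obtain ⟨R, hR⟩ : ∃ R : Matrix (Fin m) (Fin m) ℤ, R = Ai * X * Aiᵀ := ⟨_, rfl⟩
  obtain ⟨G, hG⟩ : ∃ G : Matrix (Fin m) (Fin m) ℤ, G = Aᵀ * A := ⟨_, rfl⟩
  have hGR : G * R = (p : ℤ) • 1 := by
    calc G * R = Aᵀ * (A * (Ai * X)) * Aiᵀ := by rw [hG, hR]; simp only [Matrix.mul_assoc]
      _ = (X * A)ᵀ * Aiᵀ := by rw [hXX, Matrix.transpose_mul, hXt]
      _ = (p : ℤ) • (Ai * A)ᵀ := by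
        rw [hXA, Matrix.transpose_smul, Matrix.smul_mul, Matrix.transpose_mul]
      _ = _ := by rw [hAiA, Matrix.transpose_one]
  have hARA : A * R * Aᵀ = X := by
    calc A * R * Aᵀ = A * (Ai * X) * (A * Ai)ᵀ := by
          rw [hR, Matrix.transpose_mul]; simp only [Matrix.mul_assoc]
      _ = ((A * Ai) * X)ᵀ := by rw [hXX, Matrix.transpose_mul (A * Ai) X, hXt]
      _ = X := by rw [Matrix.mul_assoc, hXX, hXt]
  -- the rows of `A` are nonzero
  have hrowA : ∀ i, ∃ a, A i a ≠ 0 := by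
    intro i
    by_contra hcon
    simp only [not_exists, not_not] at hcon
    have h1 : X i i = 0 := by
      rw [← hXX, Matrix.mul_apply]; simp [hcon]
    rw [hX] at h1
    simp only [Matrix.sub_apply, Matrix.smul_apply, Matrix.one_apply_eq, smul_eq_mul, mul_one,
      sub_eq_zero] at h1
    exact hdiag i h1.symm
  have hfull : ∀ x : (Fin m) → ℚ, (∀ i, ∑ a, (A i a : ℚ) * x a = 0) → x = 0 := by
    intro x hx
    have h1 : (A.map (Int.castRingHom ℚ)) *ᵥ x = 0 := by
      funext i; simpa [Matrix.mulVec, dotProduct] using hx i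
    have h2 := congrArg ((Ai.map (Int.castRingHom ℚ)) *ᵥ ·) h1
    simp only [Matrix.mulVec_mulVec, Matrix.mulVec_zero, ← Matrix.map_mul, hAiA] at h2
    simpa using h2
  -- the determinant of the Gram matrix
  have hGram : rowGram A Finset.univ = G := by
    funext a b; simp [rowGram, hG, Matrix.mul_apply]
  obtain ⟨-, hGpos⟩ := card_sub_lt_det_rowGram A _ Finset.univ rfl
    (fun x hx => hfull x fun i => hx i (Finset.mem_univ _)) fun i _ => hrowA i
  rw [hGram] at hGpos
  have hGp : G.det ≤ p := det_gram_le p hp N i₀ hunit hrank Ai G R hR hGR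
  -- the bordered Gram matrix
  set M' : Matrix n ((Fin m) ⊕ Unit) ℤ := Matrix.fromCols A (Matrix.replicateCol Unit y) with hM'
  have hfull' : ∀ x : (Fin m) ⊕ Unit → ℚ, (∀ i ∈ (Finset.univ : Finset n),
      ∑ a, (M' i a : ℚ) * x a = 0) → x = 0 := by
    intro x hx
    have h1 : ∀ i, (∑ a, (A i a : ℚ) * x (Sum.inl a)) + (y i : ℚ) * x (Sum.inr ()) = 0 := fun i => by
      simpa [hM', Fintype.sum_sum_type] using hx i (Finset.mem_univ i)
    have h0 : x (Sum.inr ()) = 0 := by
      by_contra hne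
      refine hy (funext fun k => ?_)
      have h2 : ∑ i, (N k i : ℚ) * ((∑ a, (A i a : ℚ) * x (Sum.inl a)) +
          (y i : ℚ) * x (Sum.inr ())) = 0 := Finset.sum_eq_zero fun i _ => by rw [h1, mul_zero]
      simp only [mul_add, Finset.sum_add_distrib, Finset.mul_sum] at h2
      rw [Finset.sum_comm] at h2
      have e1 : ∀ a, ∑ i, (N k i : ℚ) * ((A i a : ℚ) * x (Sum.inl a)) =
          (((N * A) k a : ℤ) : ℚ) * x (Sum.inl a) := fun a => by
        rw [Matrix.mul_apply]; push_cast; rw [Finset.sum_mul]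
        exact Finset.sum_congr rfl fun i _ => by ring
      rw [Finset.sum_congr rfl fun a _ => e1 a] at h2
      simp only [hNA', Matrix.zero_apply, Int.cast_zero, zero_mul, Finset.sum_const_zero,
        zero_add, ← mul_assoc, ← Finset.sum_mul] at h2
      have h3 := (mul_eq_zero.1 h2).resolve_right hne
      show (N *ᵥ y) k = 0
      simp only [Matrix.mulVec, dotProduct]
      exact_mod_cast h3
    have h2 := hfull (fun a => x (Sum.inl a)) fun i => by simpa [h0] using h1 i
    funext a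
    rcases a with a | ⟨⟩
    · exact congrFun h2 a
    · exact h0
  obtain ⟨hD, hDpos⟩ := card_sub_lt_det_rowGram M' _ Finset.univ rfl hfull' fun i _ => by
    obtain ⟨a, ha⟩ := hrowA i
    exact ⟨Sum.inl a, by simpa [hM'] using ha⟩
  set g := Aᵀ *ᵥ y with hg
  set H := rowGram M' Finset.univ with hH
  have hHb : H = fromBlocks G (replicateCol Unit g) (replicateRow Unit g)
      (Matrix.of fun _ _ => y ⬝ᵥ y) := by
    funext a b
    rcases a with a | ⟨⟩ <;> rcases b with b | ⟨⟩ <;>
      simp [hH, rowGram, hM', hG, hg, Matrix.mul_apply, Matrix.mulVec, dotProduct, mul_comm]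
  have hprod : H * fromBlocks 1 (replicateCol Unit (-(R *ᵥ g))) 0
      (Matrix.of fun _ _ => (p : ℤ)) =
      fromBlocks G 0 (replicateRow Unit g) (Matrix.of fun _ _ => y ⬝ᵥ N *ᵥ y) := by
    rw [hHb, Matrix.fromBlocks_multiply]
    congr 1
    · simp
    · funext a b
      have h1 : (G *ᵥ (R *ᵥ g)) a = (p : ℤ) * g a := by
        rw [Matrix.mulVec_mulVec, hGR, Matrix.smul_mulVec, Matrix.one_mulVec]
        simp
      simp only [Matrix.add_apply, Matrix.zero_apply]
      rw [show (G * replicateCol Unit (-(R *ᵥ g))) a b = (G *ᵥ (-(R *ᵥ g))) a from rfl,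
        Matrix.mulVec_neg, Pi.neg_apply, h1]
      simp [Matrix.mul_apply, mul_comm]
    · simp
    · funext a b
      have h1 : g ⬝ᵥ (R *ᵥ g) = y ⬝ᵥ X *ᵥ y := by
        rw [← hARA, hg, ← Matrix.mulVec_mulVec, ← Matrix.mulVec_mulVec,
          Matrix.dotProduct_mulVec y A, ← Matrix.mulVec_transpose]
      rw [hX, Matrix.sub_mulVec, dotProduct_sub, Matrix.smul_mulVec, Matrix.one_mulVec,
        dotProduct_smul, smul_eq_mul] at h1
      simp only [Matrix.add_apply, Matrix.of_apply]
      rw [show (replicateRow Unit g * replicateCol Unit (-(R *ᵥ g))) a b = g ⬝ᵥ (-(R *ᵥ g)) from rfl,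
        dotProduct_neg, h1]
      simp [Matrix.mul_apply]
      ring
  have hdetH := congrArg Matrix.det hprod
  rw [Matrix.det_mul, Matrix.det_fromBlocks_zero₂₁, Matrix.det_fromBlocks_zero₁₂,
    Matrix.det_one, Matrix.det_unique (n := Unit), Matrix.det_unique (n := Unit)] at hdetH
  simp at hdetH
  -- traces
  have htr : N.trace = (p : ℤ) * ((Fintype.card n : ℤ) - Fintype.card (Fin m)) := by
    have h1 : X.trace = (p : ℤ) * Fintype.card (Fin m) := by
      rw [← hXX, Matrix.trace_mul_comm, Matrix.mul_assoc, hXA, Matrix.mul_smul, hAiA,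
        Matrix.trace_smul, Matrix.trace_one, Fintype.card_fin]
      simp
    rw [hX, Matrix.trace_sub, Matrix.trace_smul, Matrix.trace_one, smul_eq_mul,
      Fintype.card_fin] at *
    linarith
  have hcard : (Fintype.card ((Fin m) ⊕ Unit) : ℤ) = Fintype.card (Fin m) + 1 := by simp
  rw [hcard, Finset.card_univ] at hD
  have hquad : H.det ≤ y ⬝ᵥ N *ᵥ y := by
    have hp0 : (0 : ℤ) < p := by exact_mod_cast hp.pos
    have hqpos : 0 < y ⬝ᵥ N *ᵥ y := by
      by_contra hle
      have h1 : 0 < G.det * (y ⬝ᵥ N *ᵥ y) := hdetH ▸ mul_pos hDpos hp0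
      have h2 := mul_nonpos_of_nonneg_of_nonpos hGpos.le (not_lt.1 hle)
      omega
    refine le_of_mul_le_mul_right ?_ hp0
    rw [hdetH, mul_comm (y ⬝ᵥ N *ᵥ y)]
    exact mul_le_mul_of_nonneg_right hGp hqpos.le
  rw [htr]
  exact mul_le_mul_of_nonneg_left (by omega) (Nat.cast_nonneg _)


/-- The same bound for the images. -/
theorem trace_le_norm_sq (p : ℕ) (hp : p.Prime) (N : Matrix n n ℤ) (hsymm : Nᵀ = N)
    (hsq : N * N = (p : ℤ) • N) (i₀ : n) (hunit : ¬ (p : ℤ) ∣ N i₀ i₀)
    (hrank : ∀ i j, (p : ℤ) ∣ N i j * N i₀ i₀ - N i i₀ * N j i₀)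
    (hdiag : ∀ i, N i i ≠ p) (z : n → ℤ) (hNz : N *ᵥ z = (p : ℤ) • z)
    (hcong : ∀ j, (p : ℤ) ∣ z j * N i₀ i₀ - z i₀ * N j i₀) (hz : z ≠ 0) :
    N.trace ≤ z ⬝ᵥ z := by
  obtain ⟨c, d, hc⟩ := (Int.isCoprime_iff_gcd_eq_one.2 (by
      rw [Int.gcd_comm]
      exact (Nat.Prime.coprime_iff_not_dvd hp).2 fun h => hunit (Int.natCast_dvd.2 h)) :
        IsCoprime (N i₀ i₀) (p : ℤ))
  choose q hq using hcong
  set e : n → ℤ := fun j => if j = i₀ then c * z i₀ else 0 with he
  set w : n → ℤ := fun j => c * q j + d * z j with hw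
  have hzw : z = N *ᵥ e + (p : ℤ) • w := by
    funext j
    simp [he, hw, Matrix.mulVec, dotProduct]
    linear_combination c * hq j - z j * hc
  have hNw : N *ᵥ w = (p : ℤ) • w := by
    have hp0 : (p : ℤ) ≠ 0 := by exact_mod_cast hp.ne_zero
    have h := hNz
    rw [hzw, Matrix.mulVec_add, Matrix.mulVec_mulVec, hsq, Matrix.smul_mulVec,
      Matrix.mulVec_smul, smul_add] at h
    exact smul_right_injective _ hp0 (add_left_cancel h)
  have hy : N *ᵥ (e + w) = z := by rw [Matrix.mulVec_add, hNw, ← hzw]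
  have h := trace_le_quad p hp N hsymm hsq i₀ hunit hrank hdiag (e + w) (by rw [hy]; exact hz)
  refine h.trans_eq ?_
  rw [hy]
  calc (p : ℤ) * ((e + w) ⬝ᵥ z) = (e + w) ⬝ᵥ ((p : ℤ) • z) := by
        rw [dotProduct_smul, smul_eq_mul]
    _ = (e + w) ⬝ᵥ N *ᵥ z := by rw [hNz]
    _ = z ⬝ᵥ z := by rw [Matrix.dotProduct_mulVec, ← Matrix.mulVec_transpose, hsymm, hy]

end Cfsg.Lib.Block
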