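import Cfsg.Agent.Lib.Char.Indicator
import Mathlib.LinearAlgebra.Matrix.PosDef
import Mathlib.LinearAlgebra.PID
import Mathlib.LinearAlgebra.Complex.Module
import Mathlib.RingTheory.AlgebraTower

/-!
# Real forms of irreducible representations

An irreducible representation with Frobenius–Schur indicator `1` is realised over the reals, and
conversely.
-/

set_option autoImplicit false
set_option linter.unusedSectionVars false
set_option maxHeartbeats 800000

namespace Cfsg.Lib.Block

open Cfsg Cfsg.Lib.Char Module Matrix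
open scoped ComplexConjugate ComplexOrder

universe u

variable {G : Type u} [Group G] [Fintype G] {n : ℕ}

/-- Invariant bilinear forms of an irreducible representation with real character. -/
theorem exists_invariant_form (ρ : Representation ℂ G (Fin n → ℂ)) [ρ.IsIrreducible]
    (hreal : ∀ g, (ρ.character g).im = 0) :
    ∃ B : Matrix (Fin n) (Fin n) ℂ, B ≠ 0 ∧ (∀ g, (repMat ρ g)ᵀ * B * repMat ρ g = B) ∧
      ∀ M : Matrix (Fin n) (Fin n) ℂ, (∀ g, (repMat ρ g)ᵀ * M * repMat ρ g = M) →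
        Mᵀ = ((Nat.card G : ℂ)⁻¹ * ∑ s, ρ.character (s * s)) • M := by
  classical
  have hirr := isIrrCharacter_character ρ
  have hdim : finrank ℂ (Representation.IntertwiningMap ρ ρ.dual) = 1 := by
    have hd : ρ.dual.character = fun g => conj (ρ.character g) := funext fun g => by
      rw [Representation.char_dual, character_inv]
    have h := classInner_character ρ ρ.dual
    rw [hd, classInner_irr (isIrrCharacter_conjFn hirr) hirr,
      if_pos (funext fun g => Complex.conj_eq_iff_im.2 (hreal g))] at h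
    exact_mod_cast h.symm
  obtain ⟨f₀, hf₀⟩ : ∃ f : Representation.IntertwiningMap ρ ρ.dual, f ≠ 0 := by
    have : Nontrivial (Representation.IntertwiningMap ρ ρ.dual) :=
      Module.nontrivial_of_finrank_pos (R := ℂ) (by omega)
    exact exists_ne 0
  set B := LinearMap.toMatrix₂' ℂ f₀.toLinearMap with hB
  have hspan : ∀ (M : Matrix (Fin n) (Fin n) ℂ),
      (∀ g, (repMat ρ g)ᵀ * M * repMat ρ g = M) → ∃ c : ℂ, M = c • B := by
    intro M hM
    obtain ⟨c, hc⟩ := (finrank_eq_one_iff_of_nonzero' f₀ hf₀).mp hdim (formMap ρ hM)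
    refine ⟨c, ?_⟩
    have h1 := congrArg (fun f : Representation.IntertwiningMap ρ ρ.dual =>
      LinearMap.toMatrix₂' ℂ f.toLinearMap) hc
    simp only [Representation.IntertwiningMap.toLinearMap_smul, map_smul] at h1
    rw [hB, h1]
    exact (LinearMap.toMatrix'_toLinearMap₂' M).symm
  have hB0 : B ≠ 0 := by
    rw [hB, Ne, LinearEquiv.map_eq_zero_iff]
    exact fun h => hf₀ (Representation.IntertwiningMap.toLinearMap_injective _ _ h)
  have hBinv : ∀ g, (repMat ρ g)ᵀ * B * repMat ρ g = B := by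
    intro g
    rw [hB, repMat, ← LinearMap.toMatrix₂'_compl₁₂]
    refine congrArg _ (LinearMap.ext fun x => LinearMap.ext fun y => ?_)
    show f₀.toLinearMap (ρ g x) (ρ g y) = f₀.toLinearMap x y
    have h := LinearMap.congr_fun (LinearMap.congr_fun (f₀.isIntertwining' g) x) (ρ g y)
    simp only [LinearMap.comp_apply] at h
    rw [h]
    show f₀.toLinearMap x (ρ g⁻¹ (ρ g y)) = _
    rw [Representation.inv_self_apply]
  refine ⟨B, hB0, hBinv, fun M hM => ?_⟩
  obtain ⟨ε, hε⟩ := hspan Bᵀ (fun g => by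
    have h := congrArg Matrix.transpose (hBinv g)
    simpa [Matrix.transpose_mul, Matrix.mul_assoc] using h)
  choose c hc using fun i j => hspan (formAvg ρ (Matrix.single i j (1 : ℂ)))
    (formAvg_invariant ρ _)
  have hsum : ∑ i, ∑ j, B i j * c i j = (Nat.card G : ℂ) := by
    have h1 : formAvg ρ B = ∑ i, ∑ j, B i j • formAvg ρ (Matrix.single i j (1 : ℂ)) := by
      conv_lhs => rw [Matrix.matrix_eq_sum_single B]
      simp only [formAvg, Finset.mul_sum, Finset.sum_mul, Finset.smul_sum]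
      rw [Finset.sum_comm]
      refine Finset.sum_congr rfl fun i _ => ?_
      rw [Finset.sum_comm]
      refine Finset.sum_congr rfl fun j _ => Finset.sum_congr rfl fun s _ => ?_
      rw [← Matrix.smul_mul, ← Matrix.mul_smul, Matrix.smul_single, smul_eq_mul, mul_one]
    rw [formAvg_of_invariant ρ hBinv] at h1
    simp only [hc, smul_smul, ← Finset.sum_smul] at h1
    have h' : ((Nat.card G : ℂ) - ∑ i, ∑ j, B i j * c i j) • B = 0 := by
      rw [sub_smul, h1, sub_self]
    exact (sub_eq_zero.mp ((smul_eq_zero.mp h').resolve_right hB0)).symm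
  have hS : ∑ s, ρ.character (s * s) = ε * (Nat.card G : ℂ) := by
    rw [sum_char_sq_eq, ← hsum, Finset.mul_sum]
    refine Finset.sum_congr rfl fun i _ => ?_
    rw [Finset.mul_sum]
    refine Finset.sum_congr rfl fun j _ => ?_
    rw [hc i j, Matrix.smul_apply, smul_eq_mul,
      show B j i = ε * B i j from by
        have := congrFun (congrFun hε i) j
        simpa using this]
    ring
  rw [hS, mul_comm ε, inv_mul_cancel_left₀ (Cfsg.Lib.Char.card_cast_ne_zero (G := G))]
  obtain ⟨a, rfl⟩ := hspan M hM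
  rw [Matrix.transpose_smul, hε, smul_comm]

/-- The real trace of a complex matrix. -/
theorem trace_restrictScalars_toLin' (A : Matrix (Fin n) (Fin n) ℂ) :
    LinearMap.trace ℝ (Fin n → ℂ) ((Matrix.toLin' A).restrictScalars ℝ) = 2 * A.trace.re := by
  classical
  rw [LinearMap.trace_eq_matrix_trace ℝ (Complex.basisOneI.smulTower (Pi.basisFun ℂ (Fin n)))]
  simp only [Matrix.trace, Matrix.diag, Fintype.sum_prod_type, LinearMap.toMatrix_apply,
    Module.Basis.smulTower_repr, Module.Basis.smulTower_apply, Fin.sum_univ_two]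
  simp [Complex.re_sum, Finset.sum_add_distrib, two_mul]

/-- The real trace of a conjugate-linear map is zero. -/
theorem trace_antilinear_eq_zero (T : (Fin n → ℂ) →ₗ[ℝ] (Fin n → ℂ))
    (h : ∀ x, T (Complex.I • x) = -(Complex.I • T x)) : LinearMap.trace ℝ (Fin n → ℂ) T = 0 := by
  let J : (Fin n → ℂ) →ₗ[ℝ] (Fin n → ℂ) :=
    ((Complex.I • LinearMap.id : (Fin n → ℂ) →ₗ[ℂ] (Fin n → ℂ))).restrictScalars ℝ
  have eII : ∀ x : Fin n → ℂ, Complex.I • Complex.I • x = -x := fun x => by
    rw [smul_smul, Complex.I_mul_I, neg_smul, one_smul]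
  have h1 : LinearMap.trace ℝ (Fin n → ℂ) ((T * J) * J) =
      LinearMap.trace ℝ (Fin n → ℂ) (J * (T * J)) := LinearMap.trace_mul_comm ℝ _ _
  have e1 : (T * J) * J = -T := LinearMap.ext fun x => by
    show T (Complex.I • Complex.I • x) = -(T x)
    rw [eII, map_neg]
  have e2 : J * (T * J) = T := LinearMap.ext fun x => by
    show Complex.I • T (Complex.I • x) = T x
    rw [h, smul_neg, eII, neg_neg]
  rw [e1, e2, map_neg] at h1
  linarith

theorem exists_real_rep (ρ : Representation ℂ G (Fin n → ℂ)) [hirr : ρ.IsIrreducible]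
    (hν : (Nat.card G : ℂ)⁻¹ * ∑ s, ρ.character (s * s) = 1) :
    ∃ (m : ℕ) (σ : Representation ℝ G (Fin m → ℝ)), ∀ g,
      ((LinearMap.trace ℝ (Fin m → ℝ) (σ g) : ℝ) : ℂ) = ρ.character g := by
  classical
  have hG0 := Cfsg.Lib.Char.card_cast_ne_zero (G := G)
  have hreal : ∀ g, (ρ.character g).im = 0 := by
    rcases indicator_cases (isIrrCharacter_character ρ) with ⟨-, h⟩ | ⟨h, -⟩
    · rw [h, mul_zero] at hν; exact absurd hν zero_ne_one
    · exact h
  obtain ⟨B, hB0, hBinv, hBt⟩ := exists_invariant_form ρ hreal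
  have hsymm : Bᵀ = B := by rw [hBt B hBinv, hν, one_smul]
  have hAinv : ∀ g, repMat ρ g * repMat ρ g⁻¹ = 1 := fun g => by
    rw [← repMat_mul, mul_inv_cancel, repMat_one]
  let Ab : G → Matrix (Fin n) (Fin n) ℂ := fun g => (repMat ρ g).map conj
  have hAbmul : ∀ g h, Ab (g * h) = Ab g * Ab h := fun g h => by
    simp only [Ab, repMat_mul]; exact Matrix.map_mul
  have hAbH : ∀ g, (Ab g)ᴴ = (repMat ρ g)ᵀ := fun g => by
    ext i j; simp [Ab, Matrix.conjTranspose_apply]
  obtain ⟨K, hKdef⟩ : ∃ K : Matrix (Fin n) (Fin n) ℂ, K = ∑ g, (Ab g)ᴴ * Ab g := ⟨_, rfl⟩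
  have hKpos : K.PosDef := by
    rw [hKdef]
    refine Matrix.posDef_sum Finset.univ_nonempty fun g _ => ?_
    refine Matrix.PosDef.conjTranspose_mul_self _ ?_
    have h1 : Ab g⁻¹ * Ab g = 1 := by
      rw [← hAbmul, inv_mul_cancel]; simp [Ab, repMat_one]
    intro x y h
    have := congrArg (fun v => Ab g⁻¹ *ᵥ v) h
    simpa [mulVec_mulVec, h1] using this
  have hKinv : ∀ g, (repMat ρ g)ᵀ * K * Ab g = K := by
    intro g
    rw [hKdef, Finset.mul_sum, Finset.sum_mul]
    refine Fintype.sum_equiv (Equiv.mulRight g) _ _ fun s => ?_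
    simp [hAbmul, ← hAbH, Matrix.mul_assoc]
  have hKu : IsUnit K.det := (Matrix.isUnit_iff_isUnit_det K).1 hKpos.isUnit
  obtain ⟨S, hSdef⟩ : ∃ S : Matrix (Fin n) (Fin n) ℂ, S = K⁻¹ * B := ⟨_, rfl⟩
  have hSA : ∀ g, S * repMat ρ g = Ab g * S := by
    intro g
    have h1 : B * repMat ρ g = (repMat ρ g⁻¹)ᵀ * B := by
      calc B * repMat ρ g
          = (repMat ρ g⁻¹)ᵀ * ((repMat ρ g)ᵀ * B * repMat ρ g) := by
            rw [← Matrix.mul_assoc, ← Matrix.mul_assoc, ← Matrix.transpose_mul, hAinv,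
              Matrix.transpose_one, one_mul]
        _ = _ := by rw [hBinv]
    have h2 : K * Ab g = (repMat ρ g⁻¹)ᵀ * K := by
      calc K * Ab g
          = (repMat ρ g⁻¹)ᵀ * ((repMat ρ g)ᵀ * K * Ab g) := by
            rw [← Matrix.mul_assoc, ← Matrix.mul_assoc, ← Matrix.transpose_mul, hAinv,
              Matrix.transpose_one, one_mul]
        _ = _ := by rw [hKinv]
    have h3 : Ab g * K⁻¹ = K⁻¹ * (repMat ρ g⁻¹)ᵀ := by
      calc Ab g * K⁻¹ = K⁻¹ * (K * Ab g) * K⁻¹ := by
            rw [← Matrix.mul_assoc, Matrix.nonsing_inv_mul K hKu, one_mul]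
        _ = K⁻¹ * (repMat ρ g⁻¹)ᵀ := by
            rw [h2, Matrix.mul_assoc, Matrix.mul_assoc, Matrix.mul_nonsing_inv K hKu, mul_one]
    rw [hSdef, Matrix.mul_assoc, h1, ← Matrix.mul_assoc, ← h3, Matrix.mul_assoc]
  -- the scalar square of the antilinear map
  let Sb : Matrix (Fin n) (Fin n) ℂ := S.map conj
  have hSbA : ∀ g, Sb * Ab g = repMat ρ g * Sb := by
    intro g
    have h := congrArg (fun M : Matrix (Fin n) (Fin n) ℂ => M.map conj) (hSA g)
    simp only [Matrix.map_mul, Ab, Matrix.map_map] at h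
    have e : (repMat ρ g).map (conj ∘ conj) = repMat ρ g := by ext i j; simp
    rw [e] at h
    exact h
  obtain ⟨lam, hlam⟩ : ∃ c : ℂ, Sb * S = c • (1 : Matrix (Fin n) (Fin n) ℂ) := by
    let T : Representation.IntertwiningMap ρ ρ := ⟨Matrix.toLin' (Sb * S), fun g => by
      refine LinearMap.ext fun x => ?_
      show Matrix.toLin' (Sb * S) (ρ g x) = ρ g (Matrix.toLin' (Sb * S) x)
      rw [show ρ g x = repMat ρ g *ᵥ x from (LinearMap.toMatrix'_mulVec (ρ g) x).symm,
        show ρ g (Matrix.toLin' (Sb * S) x) = repMat ρ g *ᵥ (Matrix.toLin' (Sb * S) x) from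
          (LinearMap.toMatrix'_mulVec (ρ g) _).symm,
        Matrix.toLin'_apply, Matrix.toLin'_apply, mulVec_mulVec, mulVec_mulVec]
      congr 1
      rw [Matrix.mul_assoc, hSA, ← Matrix.mul_assoc, hSbA, Matrix.mul_assoc]⟩
    obtain ⟨c, hc⟩ :=
      (Representation.IsIrreducible.algebraMap_intertwiningMap_bijective_of_isAlgClosed
        (ρ := ρ)).2 T
    refine ⟨c, ?_⟩
    have h1 : Matrix.toLin' (Sb * S) = c • LinearMap.id :=
      (congrArg Representation.IntertwiningMap.toLinearMap hc).symm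
    apply Matrix.toLin'.injective
    rw [h1, map_smul, Matrix.toLin'_one]
  obtain ⟨v, hv⟩ : ∃ v, B *ᵥ v ≠ 0 := by
    by_contra hcon
    push_neg at hcon
    exact hB0 (Matrix.toLin'.injective (LinearMap.ext fun x => by simpa using hcon x))
  have hlampos : ∃ t : ℝ, 0 < t ∧ lam = (t : ℂ) := by
    set Kb : Matrix (Fin n) (Fin n) ℂ := K.map conj
    have hKbS : Kb * Sb = B.map conj := by
      simp only [Kb, Sb, ← Matrix.map_mul, hSdef, ← Matrix.mul_assoc,
        Matrix.mul_nonsing_inv K hKu, one_mul]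
    have hBH : Bᴴ = B.map conj := by
      ext i j
      simp only [Matrix.conjTranspose_apply, Matrix.map_apply]
      exact congrArg conj (congrFun (congrFun hsymm i) j)
    have h1 : Bᴴ * K⁻¹ * B = lam • Kb := by
      calc Bᴴ * K⁻¹ * B = Kb * (Sb * S) := by
            rw [hBH, ← hKbS, hSdef]; simp [Matrix.mul_assoc]
        _ = lam • Kb := by rw [hlam, mul_smul_comm, mul_one]
    have hv0 : v ≠ 0 := fun h => hv (by rw [h, mulVec_zero])
    have hp1 : 0 < star (B *ᵥ v) ⬝ᵥ (K⁻¹ *ᵥ (B *ᵥ v)) := hKpos.inv.dotProduct_mulVec_pos hv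
    have hp2 : 0 < star v ⬝ᵥ (Kb *ᵥ v) := by
      have h : 0 < star (star v) ⬝ᵥ (K *ᵥ star v) :=
        hKpos.dotProduct_mulVec_pos (star_ne_zero.2 hv0)
      have e : star v ⬝ᵥ (Kb *ᵥ v) = star (star (star v) ⬝ᵥ (K *ᵥ star v)) := by
        simp only [dotProduct, Matrix.mulVec, Kb, Matrix.map_apply, Pi.star_apply, star_sum,
          star_mul', star_star]
        rfl
      rw [e]
      exact star_pos_iff.2 h
    have h2 : star (B *ᵥ v) ⬝ᵥ (K⁻¹ *ᵥ (B *ᵥ v)) = lam * (star v ⬝ᵥ (Kb *ᵥ v)) := by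
      rw [star_mulVec, ← dotProduct_mulVec, mulVec_mulVec, mulVec_mulVec, h1,
        smul_mulVec, dotProduct_smul, smul_eq_mul]
    rw [h2] at hp1
    have hl : 0 < lam := by
      have h3 := mul_pos hp1 (inv_pos.2 hp2 : 0 < (star v ⬝ᵥ (Kb *ᵥ v))⁻¹)
      rwa [mul_assoc, mul_inv_cancel₀ hp2.ne', mul_one] at h3
    obtain ⟨hre, him⟩ := Complex.pos_iff.1 hl
    exact ⟨lam.re, hre, Complex.ext rfl (by simpa using him.symm)⟩
  obtain ⟨t, ht, rfl⟩ := hlampos
  let r : ℝ := (Real.sqrt t)⁻¹
  let J : (Fin n → ℂ) →ₗ[ℝ] (Fin n → ℂ) :=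
    { toFun := fun x => r • star (S *ᵥ x)
      map_add' := fun x y => by rw [mulVec_add, star_add, smul_add]
      map_smul' := fun a x => by
        rw [mulVec_smul, star_smul, star_trivial, smul_comm, RingHom.id_apply] }
  have hstar : ∀ (M : Matrix (Fin n) (Fin n) ℂ) (x : Fin n → ℂ),
      star (M *ᵥ x) = (M.map conj) *ᵥ star x := by
    intro M x
    funext i
    simp [mulVec, dotProduct, map_sum]
  have hJJ : ∀ x, J (J x) = x := by
    intro x
    show r • star (S *ᵥ (r • star (S *ᵥ x))) = x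
    rw [mulVec_smul, star_smul, star_trivial, smul_smul, hstar, star_star, mulVec_mulVec,
      show S.map conj * S = Sb * S from rfl, hlam, smul_mulVec, one_mulVec]
    funext i
    have hr : r * r * t = 1 := by
      simp only [r, ← mul_inv, Real.mul_self_sqrt ht.le]
      exact inv_mul_cancel₀ ht.ne'
    simp only [Pi.smul_apply, Complex.real_smul, smul_eq_mul, ← mul_assoc, ← Complex.ofReal_mul, hr,
      Complex.ofReal_one, one_mul]
  have hJg : ∀ g x, J (ρ g x) = ρ g (J x) := by
    intro g x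
    show r • star (S *ᵥ (ρ g x)) = ρ g (r • star (S *ᵥ x))
    rw [show ρ g x = repMat ρ g *ᵥ x from (LinearMap.toMatrix'_mulVec (ρ g) x).symm,
      show ρ g (r • star (S *ᵥ x)) = repMat ρ g *ᵥ (r • star (S *ᵥ x)) from
        (LinearMap.toMatrix'_mulVec (ρ g) _).symm,
      mulVec_mulVec, hSA, ← mulVec_mulVec, hstar (Ab g), mulVec_smul]
    congr 2
    ext i j; simp [Ab]
  let R : G → ((Fin n → ℂ) →ₗ[ℝ] (Fin n → ℂ)) := fun g => (ρ g).restrictScalars ℝ
  let W : Submodule ℝ (Fin n → ℂ) := LinearMap.ker (J - LinearMap.id)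
  have hW : ∀ x, x ∈ W ↔ J x = x := fun x => by
    simp [W, LinearMap.mem_ker, sub_eq_zero]
  have hWinv : ∀ g, ∀ x ∈ W, R g x ∈ W := fun g x hx => by
    rw [hW] at hx ⊢
    show J (ρ g x) = ρ g x
    rw [hJg, hx]
  let σ : Representation ℝ G W :=
    { toFun := fun g => (R g).restrict (hWinv g)
      map_one' := LinearMap.ext fun x => Subtype.ext (by simp [R])
      map_mul' := fun a b => LinearMap.ext fun x => Subtype.ext (by simp [R]) }
  let e := (Module.finBasis ℝ W).equivFun
  refine ⟨finrank ℝ W,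
    { toFun := fun g => e.conj (σ g)
      map_one' := by rw [map_one]; exact LinearEquiv.conj_id e
      map_mul' := fun a b => by
        rw [map_mul]
        exact LinearEquiv.conj_comp e (σ b) (σ a) }, fun g => ?_⟩
  show ((LinearMap.trace ℝ _ (e.conj (σ g)) : ℝ) : ℂ) = _
  rw [LinearMap.trace_conj']
  let f : (Fin n → ℂ) →ₗ[ℝ] (Fin n → ℂ) := (1 / 2 : ℝ) • (R g + R g * J)
  have hf : ∀ x, f x ∈ W := fun x => by
    rw [hW]
    show J ((1 / 2 : ℝ) • (ρ g x + ρ g (J x))) = (1 / 2 : ℝ) • (ρ g x + ρ g (J x))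
    rw [map_smul, map_add, hJg, hJg, hJJ, add_comm]
  have hfres : σ g = f.restrict (p := W) (q := W) (fun x _ => hf x) := by
    refine LinearMap.ext fun x => Subtype.ext ?_
    show ρ g (x : Fin n → ℂ) = (1 / 2 : ℝ) • (ρ g (x : Fin n → ℂ) + ρ g (J (x : Fin n → ℂ)))
    rw [(hW _).1 x.2, ← two_smul ℝ, smul_smul, one_div_mul_cancel two_ne_zero, one_smul]
  rw [hfres, LinearMap.trace_restrict_eq_of_forall_mem W f hf]
  show ((LinearMap.trace ℝ (Fin n → ℂ) ((1 / 2 : ℝ) • (R g + R g * J)) : ℝ) : ℂ) = _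
  rw [map_smul, map_add, trace_antilinear_eq_zero (R g * J) (fun x => by
    show ρ g (r • star (S *ᵥ (Complex.I • x))) = -(Complex.I • ρ g (r • star (S *ᵥ x)))
    rw [mulVec_smul, star_smul, Complex.star_def, Complex.conj_I, neg_smul, smul_neg, map_neg,
      smul_comm, map_smul])]
  rw [show R g = (Matrix.toLin' (repMat ρ g)).restrictScalars ℝ from by
    rw [repMat, Matrix.toLin'_toMatrix'], trace_restrictScalars_toLin', add_zero, smul_eq_mul,
    ← mul_assoc, one_div_mul_cancel two_ne_zero, one_mul, ← character_eq_trace]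
  exact Complex.ext rfl (by simpa using (hreal g).symm)

/-- A character afforded by a real representation has indicator `1`. -/
theorem indicator_of_real_rep {χ : G → ℂ} (hχ : IsIrrCharacter G χ)
    (σ : Representation ℝ G (Fin n → ℝ))
    (h : ∀ g, ((LinearMap.trace ℝ (Fin n → ℝ) (σ g) : ℝ) : ℂ) = χ g) :
    (Nat.card G : ℂ)⁻¹ * ∑ s, χ (s * s) = 1 := by
  classical
  let A : G → Matrix (Fin n) (Fin n) ℝ := fun g => LinearMap.toMatrix' (σ g)
  have hAmul : ∀ a b, A (a * b) = A a * A b := fun a b => by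
    simp only [A, map_mul]; exact LinearMap.toMatrix'_mul _ _
  have hA1 : A 1 = 1 := by simp only [A, map_one]; exact LinearMap.toMatrix'_one
  let cast : Matrix (Fin n) (Fin n) ℝ →+* Matrix (Fin n) (Fin n) ℂ := Complex.ofRealHom.mapMatrix
  let ρ : Representation ℂ G (Fin n → ℂ) :=
    { toFun := fun g => Matrix.toLin' (cast (A g))
      map_one' := by rw [hA1, map_one]; exact Matrix.toLin'_one
      map_mul' := fun a b => by rw [hAmul, map_mul]; exact Matrix.toLin'_mul _ _ }
  have hrep : ∀ g, repMat ρ g = cast (A g) := fun g => LinearMap.toMatrix'_toLin' _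
  have hchar : ρ.character = χ := funext fun g => by
    rw [character_eq_trace, hrep, ← h g, LinearMap.trace_eq_matrix_trace ℝ (Pi.basisFun ℝ (Fin n))]
    simp [cast, Matrix.trace, A, LinearMap.toMatrix_eq_toMatrix']
  haveI : ρ.IsIrreducible := (isIrreducible_iff_isIrrCharacter ρ).2 (hchar ▸ hχ)
  obtain ⟨m, hm0, hm⟩ := hχ.exists_degree
  have hn : n = m := by
    rw [← hchar, Representation.char_one, Module.finrank_fin_fun] at hm
    exact_mod_cast hm
  subst hn
  obtain ⟨B, hB0, hBinv, hBt⟩ := exists_invariant_form ρ (fun g => by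
    rw [hchar, ← h g]; exact Complex.ofReal_im _)
  let M : Matrix (Fin n) (Fin n) ℝ := ∑ g, (A g)ᵀ * A g
  have hMinv : ∀ g, (A g)ᵀ * M * A g = M := by
    intro g
    simp only [M, Finset.mul_sum, Finset.sum_mul]
    refine Fintype.sum_equiv (Equiv.mulRight g) _ _ fun s => ?_
    simp [hAmul, Matrix.transpose_mul, Matrix.mul_assoc]
  have hMsymm : (cast M)ᵀ = cast M := by
    have e : Mᵀ = M := by simp [M, Matrix.transpose_sum, Matrix.transpose_mul]
    conv_rhs => rw [← e]
    exact (Matrix.transpose_map).symm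
  have hM0 : cast M ≠ 0 := by
    intro h0
    let i : Fin n := ⟨0, hm0⟩
    have h1 : (1 : ℝ) ≤ M i i := by
      simp only [M, Matrix.sum_apply]
      refine le_trans ?_ (Finset.single_le_sum
        (f := fun g => ((A g)ᵀ * A g) i i) (fun g _ => ?_) (Finset.mem_univ 1))
      · simp [hA1]
      · simp only [Matrix.mul_apply, Matrix.transpose_apply]
        exact Finset.sum_nonneg fun k _ => mul_self_nonneg _
    have h2 : ((M i i : ℝ) : ℂ) = 0 := by
      have := congrFun (congrFun h0 i) i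
      simpa [cast] using this
    rw [Complex.ofReal_eq_zero] at h2
    linarith
  have h1 := hBt (cast M) fun g => by
    rw [hrep, show (cast (A g))ᵀ = cast (A g)ᵀ from (Matrix.transpose_map).symm,
      ← map_mul, ← map_mul, hMinv]
  rw [hMsymm, hchar] at h1
  by_contra hne
  have h2 : (1 - (Nat.card G : ℂ)⁻¹ * ∑ s, χ (s * s)) • cast M = 0 := by
    rw [sub_smul, one_smul, ← h1, sub_self]
  exact (smul_eq_zero.1 h2).elim (fun h3 => hne (sub_eq_zero.1 h3).symm) hM0

end Cfsg.Lib.Block
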