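import Cfsg.Agent.Lib.Char.Clifford2
import Cfsg.Agent.Lib.Char.Linear
import Cfsg.Agent.Lib.Char.Formulas
import Cfsg.Agent.Lib.Block.RealForm

/-!
# Linear twists of an extendible character, and indicators of induced characters
-/

set_option autoImplicit false
set_option linter.unusedSectionVars false
set_option linter.style.haveILetI false

namespace Cfsg.Lib.Block

open Cfsg Cfsg.Lib.Char Matrix
open scoped commutatorElement

universe u

variable {G : Type u} [Group G] [Fintype G]

/-- A nonabelian minimal normal subgroup lies in the kernel of every linear character. -/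
theorem hom_eq_one_of_minimal {N : Subgroup G} (hN : N.Normal)
    (hmin : ∀ M : Subgroup G, M.Normal → M ≤ N → M = ⊥ ∨ M = N) (hna : ¬ IsMulCommutative ↥N)
    (μ : G →* ℂˣ) {n : G} (hn : n ∈ N) : μ n = 1 := by
  haveI := hN
  have hle : ⁅N, N⁆ ≤ N := Subgroup.commutator_le_self N
  rcases hmin ⁅N, N⁆ inferInstance hle with h | h
  · refine absurd ⟨⟨fun a b => ?_⟩⟩ hna
    have hab : ⁅(a : G), (b : G)⁆ ∈ ⁅N, N⁆ := Subgroup.commutator_mem_commutator a.2 b.2
    rw [h, Subgroup.mem_bot, commutatorElement_eq_one_iff_mul_comm] at hab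
    exact Subtype.ext hab
  · rw [← h] at hn
    have h2 : ⁅N, N⁆ ≤ μ.ker := Subgroup.commutator_le.mpr fun a _ b _ => by
      rw [MonoidHom.mem_ker, map_commutatorElement, commutatorElement_eq_one_iff_mul_comm]
      exact mul_comm _ _
    exact MonoidHom.mem_ker.mp (h2 hn)

/-- At most `[G : I]` linear characters are trivial on `I`. -/
theorem card_hom_trivial_le (I : Subgroup G) :
    Nat.card {μ : G →* ℂˣ // ∀ x ∈ I, μ x = 1} ≤ I.index := by
  classical
  set K : Subgroup G := I ⊔ commutator G with hK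
  haveI : K.Normal := Subgroup.Normal.of_commutator_le _ le_sup_right
  haveI : Finite (G ⧸ K →* ℂˣ) := Nat.finite_of_card_ne_zero
    (by rw [card_linear_eq_index]; exact Subgroup.index_ne_zero_of_finite)
  have hle : ∀ μ : {μ : G →* ℂˣ // ∀ x ∈ I, μ x = 1}, K ≤ μ.1.ker := fun μ =>
    sup_le (fun x hx => MonoidHom.mem_ker.mpr (μ.2 x hx)) (Abelianization.commutator_subset_ker μ.1)
  refine le_trans (Nat.card_le_card_of_injective
    (fun μ : {μ : G →* ℂˣ // ∀ x ∈ I, μ x = 1} => QuotientGroup.lift K μ.1 (hle μ))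
    (fun μ ν h => Subtype.ext (MonoidHom.ext fun x => DFunLike.congr_fun h (x : G ⧸ K)))) ?_
  rw [card_linear_eq_index]
  calc (commutator (G ⧸ K)).index ≤ Nat.card (G ⧸ K) :=
        Nat.le_of_dvd Nat.card_pos (commutator (G ⧸ K)).index_dvd_card
    _ = K.index := (Subgroup.index_eq_card K).symm
    _ ≤ I.index := Subgroup.index_antitone le_sup_left

variable {N I : Subgroup G} [hN : N.Normal] [Fintype N] [Fintype I]
  {φ : N → ℂ} {ψ : I → ℂ}

/-- A twist of an extension by a linear character equal to it has trivial restriction. -/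
theorem hom_eq_one_of_twist_eq (hNI : N ≤ I) (hφ : IsIrrCharacter N φ) (hψ : IsIrrCharacter I ψ)
    (hres : ∀ n : N, ψ (Subgroup.inclusion hNI n) = φ n) (μ : I →* ℂˣ)
    (hμN : ∀ x : I, (x : G) ∈ N → μ x = 1) (h : ∀ x : I, (μ x : ℂ) * ψ x = ψ x) :
    ∀ x : I, μ x = 1 := by
  classical
  intro x
  by_contra hx
  haveI := Fintype.ofFinite μ.ker
  obtain ⟨n, ρ, hρ, rfl⟩ := hψ
  let ρK : Representation ℂ μ.ker (Fin n → ℂ) := ρ.comp μ.ker.subtype
  have hirr : ρK.IsIrreducible := by
    let ρN : Representation ℂ N (Fin n → ℂ) := ρ.comp (Subgroup.inclusion hNI)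
    have hρN : ρN.IsIrreducible := by
      rw [isIrreducible_iff_isIrrCharacter]
      convert hφ using 1
      funext a
      exact hres a
    rw [isIrreducible_iff_submodule] at hρN ⊢
    refine ⟨hρN.1, fun q hq => hρN.2 q fun a v hv => ?_⟩
    exact hq ⟨Subgroup.inclusion hNI a, MonoidHom.mem_ker.mpr (hμN _ a.2)⟩ v hv
  haveI := hirr
  have h1 := classInner_irreducible_self ρK
  haveI := hρ
  have h2 := classInner_irreducible_self ρ
  rw [classInner, inv_mul_eq_one₀ card_cast_ne_zero] at h1 h2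
  have hz : ∀ y : I, y ∉ μ.ker → ρ.character y = 0 := by
    intro y hy
    by_contra h0
    exact hy (MonoidHom.mem_ker.mpr (Units.ext ((mul_eq_right₀ h0).mp (h y))))
  rw [← Finset.sum_filter_add_sum_filter_not Finset.univ (fun y => y ∈ μ.ker),
    Finset.sum_eq_zero (s := Finset.univ.filter fun y => y ∉ μ.ker) (fun y hy => by
      rw [hz y (Finset.mem_filter.mp hy).2, zero_mul]), add_zero,
    Finset.sum_subtype (p := fun y => y ∈ μ.ker) (F := inferInstanceAs (Fintype μ.ker)) _
      (fun y => by simp) fun y => ρ.character y * (starRingEnd ℂ) (ρ.character y)] at h2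
  have hcard : Nat.card μ.ker = Nat.card I := by exact_mod_cast h1.trans h2.symm
  exact hx (MonoidHom.mem_ker.mp ((Subgroup.eq_top_of_card_eq _ hcard).symm ▸ Subgroup.mem_top x))

/-- A twist of an extension induces irreducibly, and the induced character determines the twist. -/
theorem twist_induce (hNI : N ≤ I) (hI : I = inertia N φ) (hφ : IsIrrCharacter N φ)
    (hψ : IsIrrCharacter I ψ) (hres : ∀ n : N, ψ (Subgroup.inclusion hNI n) = φ n)
    {μ ν : G →* ℂˣ} (hμ : ∀ n ∈ N, μ n = 1) (hν : ∀ n ∈ N, ν n = 1) :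
    IsIrrCharacter G (indFun I (ψ * fun x : I => (μ x : ℂ))) ∧
      indFun I (ψ * fun x : I => (μ x : ℂ)) 1 = φ 1 * (I.index : ℂ) ∧
      classInner (fun n : N => indFun I (ψ * fun x : I => (μ x : ℂ)) n) φ = 1 ∧
      (indFun I (ψ * fun x : I => (μ x : ℂ)) = indFun I (ψ * fun x : I => (ν x : ℂ)) →
        ∀ x ∈ I, μ x = ν x) := by
  classical
  have hirr : ∀ κ : G →* ℂˣ, IsIrrCharacter I (ψ * fun x : I => (κ x : ℂ)) :=
    fun κ => isIrrCharacter_mul_linear hψ (κ.comp I.subtype)
  have hcN : ∀ κ : G →* ℂˣ, (∀ n ∈ N, κ n = 1) →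
      classInner (fun h : N => (ψ * fun x : I => (κ x : ℂ)) ⟨h, hNI h.2⟩) φ = 1 := by
    intro κ hκ
    rw [show (fun h : N => (ψ * fun x : I => (κ x : ℂ)) ⟨h, hNI h.2⟩) = φ from funext fun h => by
      show ψ (Subgroup.inclusion hNI h) * (κ (h : G) : ℂ) = φ h
      rw [hκ _ h.2, Units.val_one, mul_one, hres], classInner_irr_self hφ]
  obtain ⟨h1, h2⟩ := clifford_induce N hφ hNI hI (hirr μ) (by rw [hcN μ hμ]; exact one_ne_zero)
  refine ⟨h1, ?_, h2.trans (hcN μ hμ), fun he => ?_⟩
  · rw [indFun_apply_one, Pi.mul_apply, OneMemClass.coe_one, map_one, Units.val_one, mul_one,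
      mul_comm, ← hres 1, map_one]
  · have he' := clifford_injective N hφ hNI hI (hirr μ) (hirr ν)
      (by rw [hcN μ hμ]; exact one_ne_zero) (by rw [hcN ν hν]; exact one_ne_zero) he
    have hd := hom_eq_one_of_twist_eq hNI hφ hψ hres ((μ * ν⁻¹).comp I.subtype)
      (fun x hx => by simp [hμ _ hx, hν _ hx]) (fun x => by
        have h3 := congrFun he' x
        simp only [Pi.mul_apply] at h3
        have hu : (ν (x : G) : ℂ) ≠ 0 := (ν (x : G)).ne_zero
        simp only [MonoidHom.coe_comp, Function.comp_apply, Subgroup.coe_subtype,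
          MonoidHom.mul_apply, MonoidHom.inv_apply, Units.val_mul, Units.val_inv_eq_inv_val]
        field_simp
        linear_combination h3)
    intro x hx
    simpa [mul_inv_eq_one] using hd ⟨x, hx⟩

/-- Counting induced twists. -/
theorem card_hom_le_mul (hNI : N ≤ I) (hI : I = inertia N φ) (hφ : IsIrrCharacter N φ)
    (hψ : IsIrrCharacter I ψ) (hres : ∀ n : N, ψ (Subgroup.inclusion hNI n) = φ n)
    (hker : ∀ μ : G →* ℂˣ, ∀ n ∈ N, μ n = 1) {P : (G →* ℂˣ) → Prop}
    {Q : IrrCharacter G → Prop}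
    (hQ : ∀ μ, P μ → ∀ h : IsIrrCharacter G (indFun I (ψ * fun x : I => (μ x : ℂ))), Q ⟨_, h⟩) :
    Nat.card {μ // P μ} ≤ I.index * Nat.card {χ // Q χ} := by
  classical
  haveI : Finite (G →* ℂˣ) := Nat.finite_of_card_ne_zero
    (by rw [card_linear_eq_index]; exact Subgroup.index_ne_zero_of_finite)
  haveI := Fintype.ofFinite {μ // P μ}
  haveI := Fintype.ofFinite {χ : IrrCharacter G // Q χ}
  let F : {μ // P μ} → {χ : IrrCharacter G // Q χ} := fun μ =>
    ⟨⟨_, (twist_induce hNI hI hφ hψ hres (hker μ.1) (hker μ.1)).1⟩,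
      hQ _ μ.2 (twist_induce hNI hI hφ hψ hres (hker μ.1) (hker μ.1)).1⟩
  rw [Nat.card_eq_fintype_card, ← Finset.card_univ,
    Finset.card_eq_sum_card_fiberwise (f := F) (t := Finset.univ) (fun _ _ => Finset.mem_univ _)]
  refine (Finset.sum_le_card_nsmul _ _ I.index fun c _ => ?_).trans ?_
  · rcases (Finset.univ.filter fun μ => F μ = c).eq_empty_or_nonempty with h | ⟨μ₀, hμ₀⟩
    · rw [h]; simp
    refine le_trans ?_ (card_hom_trivial_le I)
    rw [← Nat.card_eq_finsetCard]
    have hI' : ∀ μ : ↥(Finset.univ.filter fun μ => F μ = c), ∀ x ∈ I,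
        (μ.1.1 * μ₀.1⁻¹) x = 1 := by
      intro μ x hx
      have he : indFun I (ψ * fun x : I => (μ.1.1 x : ℂ)) = indFun I (ψ * fun x : I => (μ₀.1 x : ℂ)) :=
        congrArg (fun t : {χ : IrrCharacter G // Q χ} => (t.1 : G → ℂ))
          ((Finset.mem_filter.mp μ.2).2.trans (Finset.mem_filter.mp hμ₀).2.symm)
      have := (twist_induce hNI hI hφ hψ hres (hker μ.1.1) (hker μ₀.1)).2.2.2 he x hx
      simp [this]
    refine Nat.card_le_card_of_injective
      (fun μ => (⟨μ.1.1 * μ₀.1⁻¹, hI' μ⟩ : {μ : G →* ℂˣ // ∀ x ∈ I, μ x = 1})) fun a b hab => ?_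
    exact Subtype.ext (Subtype.ext (mul_right_cancel (congrArg Subtype.val hab)))
  · rw [smul_eq_mul, Finset.card_univ, ← Nat.card_eq_fintype_card, mul_comm]

/-- An irreducible induced character inherits indicator `1`. -/
theorem indicator_induced (hNI : N ≤ I) (hI : I = inertia N φ) (hφ : IsIrrCharacter N φ)
    (hψ : IsIrrCharacter I ψ) (hres : ∀ n : N, ψ (Subgroup.inclusion hNI n) = φ n)
    (hν : (Nat.card I : ℂ)⁻¹ * ∑ x : I, ψ (x * x) = 1) {χ : G → ℂ} (hχ : IsIrrCharacter G χ)
    (hc : classInner (fun x : I => χ x) ψ ≠ 0) :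
    (Nat.card G : ℂ)⁻¹ * ∑ g : G, χ (g * g) = 1 := by
  classical
  obtain ⟨m, σ, hσ, rfl⟩ := hψ
  obtain ⟨n, ρ, hρ, rfl⟩ := hχ
  haveI := hσ
  haveI := hρ
  have hrealσ : ∀ x, (σ.character x).im = 0 := by
    rcases indicator_cases (isIrrCharacter_character σ) with ⟨-, h⟩ | ⟨h, -⟩
    · rw [h, mul_zero] at hν
      exact absurd hν zero_ne_one
    · exact h
  obtain ⟨B₀, hB0, hBinv, hBt⟩ := exists_invariant_form σ hrealσ
  have hBsymm : B₀ᵀ = B₀ := by rw [hBt B₀ hBinv, hν, one_smul]
  -- embedding and projection commuting with `I`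
  let ρI : Representation ℂ I (Fin n → ℂ) := ρ.comp I.subtype
  obtain ⟨j, hj⟩ : ∃ j : Representation.IntertwiningMap σ ρI, j ≠ 0 := by
    have h := classInner_character σ ρI
    rw [show ρI.character = fun x : I => ρ.character x from rfl] at h
    have : Nontrivial (Representation.IntertwiningMap σ ρI) :=
      Module.nontrivial_of_finrank_pos (R := ℂ) (Nat.pos_of_ne_zero fun h0 => hc (by
        rw [h, h0, Nat.cast_zero]))
    exact exists_ne 0
  have hcomm : ∀ (x : I) (v : Fin m → ℂ), j.toLinearMap (σ x v) = ρ (x : G) (j.toLinearMap v) :=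
    fun x v => LinearMap.congr_fun (j.isIntertwining' x) v
  have hinj : LinearMap.ker j.toLinearMap = ⊥ := by
    rcases ((isIrreducible_iff_submodule σ).mp hσ).2 (LinearMap.ker j.toLinearMap) (fun x v hv => by
      rw [LinearMap.mem_ker] at hv ⊢
      rw [hcomm, hv, map_zero]) with h | h
    · exact h
    · exact absurd (Representation.IntertwiningMap.toLinearMap_injective _ _
        (LinearMap.ker_eq_top.mp h)) hj
  obtain ⟨s, hs⟩ := j.toLinearMap.exists_leftInverse_of_injective hinj
  let J : Matrix (Fin n) (Fin m) ℂ := LinearMap.toMatrix' j.toLinearMap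
  let S : Matrix (Fin m) (Fin n) ℂ := LinearMap.toMatrix' s
  have hJ : ∀ x : I, J * repMat σ x = repMat ρ (x : G) * J := by
    intro x
    rw [repMat, repMat, ← LinearMap.toMatrix'_comp, ← LinearMap.toMatrix'_comp]
    exact congrArg _ (LinearMap.ext (hcomm x))
  have hSJ : S * J = 1 := by
    rw [← LinearMap.toMatrix'_comp, hs, LinearMap.toMatrix'_id]
  let π : Matrix (Fin m) (Fin n) ℂ :=
    (Nat.card I : ℂ)⁻¹ • ∑ x : I, repMat σ x * S * repMat ρ (x : G)⁻¹
  have hπ : ∀ y : I, π * repMat ρ (y : G) = repMat σ y * π := by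
    intro y
    simp only [π, Matrix.smul_mul, Matrix.mul_smul, Matrix.sum_mul, Matrix.mul_sum]
    congr 1
    refine Fintype.sum_equiv (Equiv.mulLeft y⁻¹) _ _ fun x => ?_
    simp only [Equiv.coe_mulLeft, Matrix.mul_assoc, ← repMat_mul, Subgroup.coe_mul,
      InvMemClass.coe_inv, _root_.mul_inv_rev, inv_inv]
    rw [← Matrix.mul_assoc (repMat σ y), ← repMat_mul, mul_inv_cancel_left]
  have hπJ : π * J = 1 := by
    simp only [π, Matrix.smul_mul, Matrix.sum_mul]
    have hterm : ∀ x : I, repMat σ x * S * repMat ρ (x : G)⁻¹ * J = 1 := by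
      intro x
      rw [Matrix.mul_assoc _ _ J, show (x : G)⁻¹ = ((x⁻¹ : I) : G) from rfl, ← hJ,
        ← Matrix.mul_assoc, Matrix.mul_assoc (repMat σ x) S J, hSJ, Matrix.mul_one, ← repMat_mul,
        mul_inv_cancel, repMat_one]
    simp only [hterm, Finset.sum_const, Finset.card_univ, ← Nat.card_eq_fintype_card]
    rw [← Nat.cast_smul_eq_nsmul ℂ, smul_smul, inv_mul_cancel₀ card_cast_ne_zero, one_smul]
  -- the off-diagonal parts vanish
  have hoff : ∀ g : G, g ∉ I → π * repMat ρ g * J = 0 := by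
    intro g hg
    set T := π * repMat ρ g * J with hT
    let σN : Representation ℂ N (Fin m → ℂ) := σ.comp (Subgroup.inclusion hNI)
    have hσN : σN.IsIrreducible := by
      rw [isIrreducible_iff_isIrrCharacter]
      convert hφ using 1
      funext a
      exact hres a
    have hTn : ∀ a : N, T * repMat σ (Subgroup.inclusion hNI a) =
        repMat σ (Subgroup.inclusion hNI ⟨g * a * g⁻¹, hN.conj_mem a a.2 g⟩) * T := by
      intro a
      simp only [hT, Matrix.mul_assoc]
      rw [hJ, ← Matrix.mul_assoc (repMat ρ g), ← repMat_mul,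
        ← Matrix.mul_assoc (repMat σ _) π, ← hπ, Matrix.mul_assoc π,
        ← Matrix.mul_assoc (repMat ρ _) (repMat ρ g) J, ← repMat_mul]
      simp
    by_contra hT0
    have hT0' : Matrix.toLin' T ≠ 0 := fun h => hT0 (by simpa using h)
    have hker : LinearMap.ker (Matrix.toLin' T) = ⊥ := by
      rcases ((isIrreducible_iff_submodule σN).mp hσN).2 (LinearMap.ker (Matrix.toLin' T))
        (fun a v hv => by
          simp only [LinearMap.mem_ker, Matrix.toLin'_apply] at hv ⊢
          rw [show σN a v = repMat σ (Subgroup.inclusion hNI a) *ᵥ v from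
            (LinearMap.toMatrix'_mulVec _ v).symm, mulVec_mulVec, hTn, ← mulVec_mulVec, hv,
            mulVec_zero]) with h | h
      · exact h
      · exact absurd (LinearMap.ker_eq_top.mp h) hT0'
    have hdet : IsUnit T.det := by
      rw [isUnit_iff_ne_zero]
      intro h0
      obtain ⟨v, hv, hTv⟩ := Matrix.exists_mulVec_eq_zero_iff.mpr h0
      have : v ∈ LinearMap.ker (Matrix.toLin' T) := by simpa using hTv
      rw [hker, Submodule.mem_bot] at this
      exact hv this
    apply hg
    rw [hI]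
    refine (mem_inertia_iff N).mpr fun a => ?_
    rw [← hres, ← hres, character_eq_trace, character_eq_trace]
    have h4 : repMat σ (Subgroup.inclusion hNI ⟨g * a * g⁻¹, hN.conj_mem a a.2 g⟩)
        = T * repMat σ (Subgroup.inclusion hNI a) * T⁻¹ := by
      rw [hTn, Matrix.mul_assoc, Matrix.mul_nonsing_inv _ hdet, Matrix.mul_one]
    rw [h4, Matrix.trace_mul_comm, ← Matrix.mul_assoc, Matrix.nonsing_inv_mul _ hdet,
      Matrix.one_mul]
  -- the averaged form
  let M : Matrix (Fin n) (Fin n) ℂ := formAvg ρ (πᵀ * B₀ * π)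
  have hMt : Mᵀ = M := by
    simp only [M]
    rw [formAvg_transpose]
    simp [Matrix.transpose_mul, hBsymm, Matrix.mul_assoc]
  have hterm : ∀ g : G, Jᵀ * ((repMat ρ g)ᵀ * (πᵀ * B₀ * π) * repMat ρ g) * J =
      if g ∈ I then B₀ else 0 := by
    intro g
    rw [show Jᵀ * ((repMat ρ g)ᵀ * (πᵀ * B₀ * π) * repMat ρ g) * J
      = (π * repMat ρ g * J)ᵀ * B₀ * (π * repMat ρ g * J) by
        simp only [Matrix.transpose_mul, Matrix.mul_assoc]]
    split_ifs with hg
    · rw [show repMat ρ g = repMat ρ ((⟨g, hg⟩ : I) : G) from rfl, hπ, Matrix.mul_assoc _ π J,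
        hπJ, Matrix.mul_one, hBinv]
    · rw [hoff g hg]; simp
  have hMne : M ≠ 0 := by
    intro h0
    have h1 : Jᵀ * M * J = (Nat.card I : ℂ) • B₀ := by
      simp only [M, formAvg, Matrix.mul_sum, Matrix.sum_mul, hterm, ← Finset.sum_filter,
        Finset.sum_const, ← Fintype.card_subtype, ← Nat.card_eq_fintype_card, Nat.cast_smul_eq_nsmul]
    rw [h0, Matrix.mul_zero, Matrix.zero_mul] at h1
    exact hB0 ((smul_eq_zero.mp h1.symm).resolve_left card_cast_ne_zero)
  have hrealρ : ∀ g, (ρ.character g).im = 0 := by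
    rcases indicator_cases (isIrrCharacter_character ρ) with ⟨hnr, -⟩ | ⟨h, -⟩
    · exfalso
      -- without invariant forms the average would vanish
      apply hMne
      have hd : ρ.dual.character = fun g => (starRingEnd ℂ) (ρ.character g) := funext fun g => by
        rw [Representation.char_dual, character_inv]
      have h1 := classInner_character ρ ρ.dual
      rw [hd, classInner_irr (isIrrCharacter_conjFn (isIrrCharacter_character ρ))
        (isIrrCharacter_character ρ), if_neg (fun e => hnr fun g =>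
          Complex.conj_eq_iff_im.mp (congrFun e g))] at h1
      have h2 : Module.finrank ℂ (Representation.IntertwiningMap ρ ρ.dual) = 0 := by
        exact_mod_cast h1.symm
      haveI := Module.finrank_zero_iff.mp h2
      have h := congrArg (fun f : Representation.IntertwiningMap ρ ρ.dual =>
        LinearMap.toMatrix₂' ℂ f.toLinearMap)
        (Subsingleton.elim (formMap ρ (formAvg_invariant ρ (πᵀ * B₀ * π))) 0)
      exact ((LinearMap.toMatrix'_toLinearMap₂' _).symm.trans h).trans (map_zero _)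
    · exact h
  obtain ⟨B, -, -, hform⟩ := exists_invariant_form ρ hrealρ
  have h1 := hform M (formAvg_invariant ρ _)
  rw [hMt] at h1
  by_contra hne
  have h2 : (1 - (Nat.card G : ℂ)⁻¹ * ∑ g, ρ.character (g * g)) • M = 0 := by
    rw [sub_smul, one_smul, ← h1, sub_self]
  exact (smul_eq_zero.mp h2).elim (fun h3 => hne (sub_eq_zero.mp h3).symm) hMne

end Cfsg.Lib.Block
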