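import Cfsg.Agent.Lib.Block.FullyNormal
import Cfsg.Agent.Lib.Block.PairApps
import Cfsg.Agent.Lib.Transit.Main

/-!
# Local structure at a maximal pair
-/

set_option autoImplicit false
set_option linter.unusedSectionVars false
set_option maxHeartbeats 800000

namespace Cfsg.Lib.Block

open Cfsg
open scoped ComplexConjugate

universe u

variable {p : ℕ} {M : Ideal AlgInt} {G : Type u} [Group G] [Fintype G] [Fact p.Prime]

noncomputable local instance (priority := high) fintypeSubgroupLocalMax (H : Subgroup G) :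
    Fintype H := Fintype.ofFinite H

local notation "C[" Q "]" => Subgroup.centralizer (SetLike.coe Q)

theorem card_sup_centralizer_mul (P : Subgroup G) :
    Nat.card ↥(P ⊔ C[P]) * Nat.card ↥(P ⊓ C[P]) = Nat.card P * Nat.card C[P] := by
  have hn : P ≤ Subgroup.normalizer (C[P] : Set G) := fun x hx =>
    Subgroup.mem_normalizer_iff.2 fun g =>
      mem_normalizer_centralizer (Subgroup.le_normalizer hx) g
  have h1 := Subgroup.card_mul_index (C[P].subgroupOf (P ⊔ C[P]))
  have h2 := Subgroup.card_mul_index ((C[P] ⊓ P).subgroupOf P)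
  rw [Nat.card_congr (Subgroup.subgroupOfEquivOfLe (le_sup_right : C[P] ≤ P ⊔ C[P])).toEquiv] at h1
  rw [Nat.card_congr (Subgroup.subgroupOfEquivOfLe (inf_le_right : C[P] ⊓ P ≤ P)).toEquiv] at h2
  have h3 : C[P].relIndex (P ⊔ C[P]) = (C[P] ⊓ P).relIndex P := by
    rw [sup_comm, Transit.relIndex_sup_normalized hn, Subgroup.inf_relIndex_right]
  rw [← h1, ← h2, inf_comm P]
  change Nat.card C[P] * C[P].relIndex (P ⊔ C[P]) * Nat.card ↥(C[P] ⊓ P) =
    Nat.card ↥(C[P] ⊓ P) * (C[P] ⊓ P).relIndex P * Nat.card C[P]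
  rw [h3]
  ring

variable (hM : IsPModular p M)

include hM in
/-- Every Brauer pair belongs to a block. -/
theorem exists_block_of_pair {Q : Subgroup G} {e : Set (IrrCharacter C[Q])}
    (he : IsBrauerPair p M Q e) : ∃ B : Set (IrrCharacter G), IsBrauerPairOf p M B Q e := by
  obtain ⟨ξ, hξ⟩ := nonempty_of_isPBlock hM he.2
  obtain ⟨χ, hχ⟩ := exists_char_brauer hM he.1 le_rfl (Subgroup.centralizer_le_normalizer _) ξ
  refine ⟨blockOf M (χ : G → ℂ), (isBrauerPairOf_iff_brU hM _ Q e).2
    ⟨he, isPBlock_blockOf χ, fun η hη => ?_⟩⟩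
  rw [res_apply_eq hM (vInt_brU hM Q (isPBlock_blockOf χ)) (sameBlock_of_mem hM he.2 hη hξ),
    brU, hχ _ (vInt_indVec hM (isPBlock_blockOf χ)), indVec, if_pos (self_mem_blockOf hM χ),
    res_one]

include hM in
/-- The block of the centralizer in a maximal pair has the centre as defect group. -/
theorem defect_centralizer_of_maximal {B : Set (IrrCharacter G)} {P : Subgroup G}
    {e : Set (IrrCharacter C[P])} (hmax : IsMaximalBrauerPair p M B P e) :
    Nat.card ↥(P ⊓ C[P]) = p ^ blockDefect p e := by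
  obtain ⟨x, hx, hcard⟩ := exists_card_inf_eq_defect hM (isLocalBlock_centralizer hM hmax.1.1.2)
    hmax (Relation.ReflTransGen.refl : SubpairLE p M P e P e)
  have hxP : P.map (MulAut.conj x).toMonoidHom = P :=
    Subgroup.eq_of_le_of_card_ge (subpairLE_le hx)
      (by rw [Subgroup.card_map_of_injective (MulAut.conj x).injective])
  rwa [map_centralizer_conj, hxP] at hcard

include hM in
/-- The stabilizer of a maximal pair has index prime to `p` over `P · C(P)`. -/
theorem not_dvd_relIndex_of_maximal {B : Set (IrrCharacter G)} {P T : Subgroup G}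
    {e : Set (IrrCharacter C[P])} (hmax : IsMaximalBrauerPair p M B P e)
    (hT : ∀ y : G, y ∈ T ↔ y ∈ Subgroup.normalizer (P : Set G) ∧ StabilizesBlock C[P] e y) :
    ¬ p ∣ (P ⊔ C[P]).relIndex T := by
  classical
  have hp : p.Prime := Fact.out
  obtain ⟨hPT, F, hloc, hcoeff⟩ := exists_isLocalBlock hM hmax.1.1.1 hmax.1.1.2 hT
  have hPCT : P ⊔ C[P] ≤ T := sup_le hPT hloc.cen
  have hdF : p ^ blockDefect p F = Nat.card P := by
    rw [← card_defectGroup hM hloc.block (isDefectGroup_local_of_maximal hM hloc hPT hmax),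
      Nat.card_congr (Subgroup.subgroupOfEquivOfLe hPT).toEquiv]
  have hde := defect_centralizer_of_maximal hM hmax
  -- the idempotents agree at the identity
  set SF := ∑ χ ∈ F.toFinset, charDegree (χ : T → ℂ) ^ 2 with hSF
  set Se := ∑ χ ∈ e.toFinset, charDegree (χ : C[P] → ℂ) ^ 2 with hSe
  have h1 : blockCoeff F 1 = blockCoeff e 1 := by
    rw [hcoeff 1, OneMemClass.coe_one, subgroupBlockCoeff, dif_pos (one_mem _)]
    rfl
  have hbc : ∀ {A : Type u} [Group A] [Fintype A] (b : Set (IrrCharacter A)),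
      blockCoeff b 1 = (Nat.card A : ℂ)⁻¹ *
        ((∑ χ ∈ b.toFinset, charDegree (χ : A → ℂ) ^ 2 : ℕ) : ℂ) := by
    intro A _ _ b
    rw [blockCoeff, finsum_mem_eq_toFinset_sum, Nat.cast_sum]
    congr 1
    exact Finset.sum_congr rfl fun χ _ => by
      rw [conj_apply_one, apply_one_eq_charDegree, Nat.cast_pow, pow_two]
  rw [hbc, hbc, ← hSF, ← hSe] at h1
  have hC0 : (Nat.card C[P] : ℂ) ≠ 0 := Char.card_cast_ne_zero
  have hT0 : (Nat.card T : ℂ) ≠ 0 := Char.card_cast_ne_zero
  have heq : SF * Nat.card C[P] = Se * Nat.card T := by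
    have : (SF : ℂ) * (Nat.card C[P] : ℂ) = (Se : ℂ) * (Nat.card T : ℂ) := by
      field_simp at h1
      linear_combination h1
    exact_mod_cast this
  obtain ⟨χ₁, hχ₁⟩ := nonempty_of_isPBlock hM hloc.block
  obtain ⟨χ₂, hχ₂⟩ := nonempty_of_isPBlock hM hmax.1.1.2
  have hSF0 : SF ≠ 0 := fun h => (charDegree_pos χ₁).ne'
    (by simpa using Finset.sum_eq_zero_iff.1 h χ₁ (Set.mem_toFinset.2 hχ₁))
  have hSe0 : Se ≠ 0 := fun h => (charDegree_pos χ₂).ne'
    (by simpa using Finset.sum_eq_zero_iff.1 h χ₂ (Set.mem_toFinset.2 hχ₂))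
  have hval := congrArg (fun n => n.factorization p) heq
  simp only [Nat.factorization_mul hSF0 Nat.card_pos.ne',
    Nat.factorization_mul hSe0 Nat.card_pos.ne', Finsupp.add_apply] at hval
  rw [hSF, hSe, factorization_sum_sq hM hloc.block, factorization_sum_sq hM hmax.1.1.2] at hval
  have hcard := card_sup_centralizer_mul P
  have hmul : Nat.card ↥(P ⊔ C[P]) * (P ⊔ C[P]).relIndex T = Nat.card T := by
    rw [← (((P ⊔ C[P]).subgroupOf T).card_mul_index),
      Nat.card_congr (Subgroup.subgroupOfEquivOfLe hPCT).toEquiv]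
    rfl
  intro hdvd
  have hr0 : (P ⊔ C[P]).relIndex T ≠ 0 := fun h => by
    rw [h, mul_zero] at hmul
    exact Nat.card_pos.ne' hmul.symm
  have f1 := congrArg (fun n => n.factorization p) hcard
  have f2 := congrArg (fun n => n.factorization p) hmul
  simp only [Nat.factorization_mul Nat.card_pos.ne' Nat.card_pos.ne',
    Nat.factorization_mul Nat.card_pos.ne' hr0, Finsupp.add_apply] at f1 f2
  rw [hde, ← hdF, hp.factorization_pow, hp.factorization_pow, Finsupp.single_eq_same,
    Finsupp.single_eq_same] at f1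
  have hpos := hp.factorization_pos_of_dvd hr0 hdvd
  have d1 := blockDefect_add_minVal (p := p) (nonempty_of_isPBlock hM hloc.block)
  have d2 := blockDefect_add_minVal (p := p) (nonempty_of_isPBlock hM hmax.1.1.2)
  omega

end Cfsg.Lib.Block
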