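import Cfsg.Prelude.Def_Blocks
import Mathlib.RingTheory.Ideal.Quotient.Basic
import Mathlib.RingTheory.Ideal.Quotient.Operations
import Mathlib.RingTheory.RootsOfUnity.Complex
import Mathlib.RingTheory.IntegralClosure.IntegrallyClosed
import Mathlib.Algebra.CharP.Basic
import Mathlib.Tactic

/-!
# The local ring at a maximal ideal of the algebraic integers

`locRing hM` is the subring of `ℂ` of numbers `a / b` with `b ∉ M`, `locIdeal hM` its maximal
ideal, `resMap hM` the reduction map to the residue field `resField hM`.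
-/

set_option autoImplicit false

namespace Cfsg.Lib.Block

open Cfsg

variable {p : ℕ} {M : Ideal AlgInt}

theorem not_mem_one (hM : IsPModular p M) : (1 : AlgInt) ∉ M :=
  fun h => hM.2.1.ne_top ((Ideal.eq_top_iff_one M).2 h)

theorem mul_not_mem (hM : IsPModular p M) {a b : AlgInt} (ha : a ∉ M) (hb : b ∉ M) :
    a * b ∉ M := fun h => (hM.2.1.isPrime.mem_or_mem h).elim ha hb

theorem ne_zero_of_not_mem {a : AlgInt} (ha : a ∉ M) : (a : ℂ) ≠ 0 := by
  intro h
  apply ha
  have : a = 0 := Subtype.ext h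
  simp [this]

/-- The subring of `ℂ` of local integers at `M`. -/
def locRing (hM : IsPModular p M) : Subring ℂ where
  carrier := {z | MemLocalRing M z}
  one_mem' := ⟨1, 1, not_mem_one hM, by simp⟩
  zero_mem' := ⟨0, 1, not_mem_one hM, by simp⟩
  mul_mem' := by
    rintro x y ⟨a, b, hb, rfl⟩ ⟨c, d, hd, rfl⟩
    exact ⟨a * c, b * d, mul_not_mem hM hb hd, by push_cast; rw [div_mul_div_comm]⟩
  add_mem' := by
    rintro x y ⟨a, b, hb, rfl⟩ ⟨c, d, hd, rfl⟩
    refine ⟨a * d + b * c, b * d, mul_not_mem hM hb hd, ?_⟩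
    have := ne_zero_of_not_mem hb
    have := ne_zero_of_not_mem hd
    push_cast
    field_simp
  neg_mem' := by
    rintro x ⟨a, b, hb, rfl⟩
    exact ⟨-a, b, hb, by push_cast; rw [neg_div]⟩

theorem mem_locRing (hM : IsPModular p M) {z : ℂ} : z ∈ locRing hM ↔ MemLocalRing M z := Iff.rfl

theorem algInt_mem_locRing (hM : IsPModular p M) (a : AlgInt) : (a : ℂ) ∈ locRing hM :=
  ⟨a, 1, not_mem_one hM, by simp⟩

theorem isIntegral_mem_locRing (hM : IsPModular p M) {z : ℂ} (hz : IsIntegral ℤ z) :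
    z ∈ locRing hM :=
  algInt_mem_locRing hM ⟨z, hz⟩

/-- The maximal ideal of `locRing`. -/
def locIdeal (hM : IsPModular p M) : Ideal (locRing hM) where
  carrier := {z | MemLocalIdeal M (z : ℂ)}
  zero_mem' := ⟨0, 1, M.zero_mem, not_mem_one hM, by simp⟩
  add_mem' := by
    rintro x y ⟨a, b, ha, hb, hx⟩ ⟨c, d, hc, hd, hy⟩
    refine ⟨a * d + b * c, b * d, M.add_mem (M.mul_mem_right _ ha) (M.mul_mem_left _ hc),
      mul_not_mem hM hb hd, ?_⟩
    have := ne_zero_of_not_mem hb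
    have := ne_zero_of_not_mem hd
    push_cast
    rw [← hx, ← hy]
    field_simp
  smul_mem' := by
    rintro ⟨r, a, b, hb, rfl⟩ y ⟨c, d, hc, hd, hy⟩
    exact ⟨a * c, b * d, M.mul_mem_left _ hc, mul_not_mem hM hb hd,
      by simp [← hy, div_mul_div_comm]⟩

theorem mem_locIdeal (hM : IsPModular p M) {z : locRing hM} :
    z ∈ locIdeal hM ↔ MemLocalIdeal M (z : ℂ) := Iff.rfl

theorem memLocalRing_of_ideal {z : ℂ} (h : MemLocalIdeal M z) : MemLocalRing M z := by
  obtain ⟨a, b, -, hb, h⟩ := h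
  exact ⟨a, b, hb, h⟩

theorem memLocalIdeal_algInt_iff (hM : IsPModular p M) (a : AlgInt) :
    MemLocalIdeal M (a : ℂ) ↔ a ∈ M := by
  constructor
  · rintro ⟨c, d, hc, hd, h⟩
    have hd0 := ne_zero_of_not_mem hd
    have he : c = a * d := by
      apply Subtype.ext
      push_cast
      rw [← h]
      field_simp
    exact (hM.2.1.isPrime.mem_or_mem (he ▸ hc : a * d ∈ M)).resolve_right hd
  · exact fun h => ⟨a, 1, h, not_mem_one hM, by simp⟩

theorem inv_mem_locRing (hM : IsPModular p M) {z : ℂ} (hz : z ∈ locRing hM)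
    (hz' : ¬ MemLocalIdeal M z) : z⁻¹ ∈ locRing hM := by
  obtain ⟨a, b, hb, rfl⟩ := hz
  have ha : a ∉ M := fun ha => hz' ⟨a, b, ha, hb, rfl⟩
  exact ⟨b, a, ha, by rw [inv_div]⟩

theorem locIdeal_ne_top (hM : IsPModular p M) : locIdeal hM ≠ ⊤ := by
  intro h
  have h1 : MemLocalIdeal M ((1 : AlgInt) : ℂ) := by
    have := (mem_locIdeal hM).1 (h ▸ Submodule.mem_top : (1 : locRing hM) ∈ locIdeal hM)
    simpa using this
  exact not_mem_one hM ((memLocalIdeal_algInt_iff hM 1).1 h1)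

theorem ne_zero_of_not_memLocalIdeal (hM : IsPModular p M) {z : ℂ} (hz : ¬ MemLocalIdeal M z) :
    z ≠ 0 := fun h => hz (h ▸ ((locIdeal hM).zero_mem : (0 : locRing hM) ∈ locIdeal hM))

theorem isUnit_of_not_mem_locIdeal (hM : IsPModular p M) {z : locRing hM} (hz : z ∉ locIdeal hM) :
    IsUnit z := by
  have h0 : (z : ℂ) ≠ 0 := ne_zero_of_not_memLocalIdeal hM hz
  exact IsUnit.of_mul_eq_one (⟨(z : ℂ)⁻¹, inv_mem_locRing hM z.2 hz⟩ : locRing hM)
    (Subtype.ext (mul_inv_cancel₀ h0))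

instance locIdeal_isMaximal (hM : IsPModular p M) : (locIdeal hM).IsMaximal := by
  rw [Ideal.isMaximal_iff]
  refine ⟨fun h => locIdeal_ne_top hM ((Ideal.eq_top_iff_one _).2 h), fun J x hJ hx hxJ => ?_⟩
  obtain ⟨u, rfl⟩ := isUnit_of_not_mem_locIdeal hM hx
  have := J.mul_mem_left (↑u⁻¹) hxJ
  simpa using this

/-- The residue field at `M`. -/
abbrev resField (hM : IsPModular p M) : Type := (locRing hM) ⧸ locIdeal hM

noncomputable instance resFieldField (hM : IsPModular p M) : Field (resField hM) :=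
  Ideal.Quotient.field (locIdeal hM)

/-- Reduction modulo the maximal ideal. -/
noncomputable def resMap (hM : IsPModular p M) : locRing hM →+* resField hM :=
  Ideal.Quotient.mk (locIdeal hM)

theorem resMap_eq_zero_iff (hM : IsPModular p M) {z : locRing hM} :
    resMap hM z = 0 ↔ MemLocalIdeal M (z : ℂ) :=
  Ideal.Quotient.eq_zero_iff_mem

theorem resMap_eq_iff (hM : IsPModular p M) {y z : locRing hM} :
    resMap hM y = resMap hM z ↔ MemLocalIdeal M ((y : ℂ) - z) := by
  rw [← sub_eq_zero, ← map_sub, resMap_eq_zero_iff]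
  rfl

theorem natCast_mem_ideal_iff (hM : IsPModular p M) (n : ℕ) : (n : AlgInt) ∈ M ↔ p ∣ n := by
  constructor
  · intro hn
    by_contra hd
    have hc : Nat.Coprime p n := (hM.1.coprime_iff_not_dvd).2 hd
    have hb : (p : AlgInt) * (Nat.gcdA p n : AlgInt) + (n : AlgInt) * (Nat.gcdB p n : AlgInt) = 1 := by
      have := congrArg (fun z : ℤ => (z : AlgInt)) (Nat.gcd_eq_gcd_ab p n)
      simpa [hc.gcd_eq_one] using this.symm
    exact not_mem_one hM (hb ▸ M.add_mem (M.mul_mem_right _ hM.2.2) (M.mul_mem_right _ hn))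
  · rintro ⟨c, rfl⟩
    push_cast
    exact M.mul_mem_right _ hM.2.2

theorem memLocalIdeal_natCast_iff (hM : IsPModular p M) (n : ℕ) :
    MemLocalIdeal M (n : ℂ) ↔ p ∣ n := by
  rw [← natCast_mem_ideal_iff hM, ← memLocalIdeal_algInt_iff hM]
  rfl

theorem natCast_mem_locRing (hM : IsPModular p M) (n : ℕ) : (n : ℂ) ∈ locRing hM :=
  natCast_mem (locRing hM) n

theorem inv_natCast_mem_locRing (hM : IsPModular p M) {n : ℕ} (hn : ¬ p ∣ n) :
    (n : ℂ)⁻¹ ∈ locRing hM :=
  inv_mem_locRing hM (natCast_mem_locRing hM n) (mt (memLocalIdeal_natCast_iff hM n).1 hn)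

instance resField_charP (hM : IsPModular p M) : CharP (resField hM) p := by
  refine ⟨fun n => ?_⟩
  rw [← memLocalIdeal_natCast_iff hM, ← map_natCast (resMap hM), resMap_eq_zero_iff]
  simp

theorem memLocalIdeal_zero (hM : IsPModular p M) : MemLocalIdeal M 0 :=
  (locIdeal hM).zero_mem

theorem memLocalIdeal_add (hM : IsPModular p M) {x y : ℂ} (hx : MemLocalIdeal M x)
    (hy : MemLocalIdeal M y) : MemLocalIdeal M (x + y) :=
  (locIdeal hM).add_mem (a := ⟨x, memLocalRing_of_ideal hx⟩)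
    (b := ⟨y, memLocalRing_of_ideal hy⟩) hx hy

theorem memLocalIdeal_mul_left (hM : IsPModular p M) {x y : ℂ} (hx : x ∈ locRing hM)
    (hy : MemLocalIdeal M y) : MemLocalIdeal M (x * y) :=
  (locIdeal hM).mul_mem_left ⟨x, hx⟩ (b := ⟨y, memLocalRing_of_ideal hy⟩) hy

theorem memLocalIdeal_mul_right (hM : IsPModular p M) {x y : ℂ} (hx : MemLocalIdeal M x)
    (hy : y ∈ locRing hM) : MemLocalIdeal M (x * y) :=
  mul_comm y x ▸ memLocalIdeal_mul_left hM hy hx

theorem memLocalIdeal_neg (hM : IsPModular p M) {x : ℂ} (hx : MemLocalIdeal M x) :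
    MemLocalIdeal M (-x) :=
  (locIdeal hM).neg_mem (x := ⟨x, memLocalRing_of_ideal hx⟩) hx

theorem memLocalIdeal_sub (hM : IsPModular p M) {x y : ℂ} (hx : MemLocalIdeal M x)
    (hy : MemLocalIdeal M y) : MemLocalIdeal M (x - y) :=
  sub_eq_add_neg x y ▸ memLocalIdeal_add hM hx (memLocalIdeal_neg hM hy)

theorem memLocalIdeal_sum (hM : IsPModular p M) {ι : Type*} (s : Finset ι) (f : ι → ℂ)
    (h : ∀ i ∈ s, MemLocalIdeal M (f i)) : MemLocalIdeal M (∑ i ∈ s, f i) :=
  Finset.sum_induction f (MemLocalIdeal M) (fun _ _ => memLocalIdeal_add hM)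
    (memLocalIdeal_zero hM) h

theorem memLocalIdeal_mul_iff (hM : IsPModular p M) {x y : ℂ} (hx : x ∈ locRing hM)
    (hy : y ∈ locRing hM) :
    MemLocalIdeal M (x * y) ↔ MemLocalIdeal M x ∨ MemLocalIdeal M y := by
  refine ⟨fun h => ?_, fun h => h.elim (fun h => memLocalIdeal_mul_right hM h hy)
    (fun h => memLocalIdeal_mul_left hM hx h)⟩
  have h1 : resMap hM ⟨x, hx⟩ * resMap hM ⟨y, hy⟩ = 0 := by
    rw [← map_mul, resMap_eq_zero_iff]; exact h
  rcases mul_eq_zero.1 h1 with h2 | h2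
  · exact Or.inl ((resMap_eq_zero_iff hM).1 h2)
  · exact Or.inr ((resMap_eq_zero_iff hM).1 h2)

theorem not_memLocalIdeal_one (hM : IsPModular p M) : ¬ MemLocalIdeal M (1 : ℂ) := by
  intro h
  have := (memLocalIdeal_natCast_iff hM 1).1 (by simpa using h)
  exact hM.1.one_lt.ne' (Nat.dvd_one.1 this)

theorem memLocalIdeal_of_pow (hM : IsPModular p M) {z : ℂ} (hz : z ∈ locRing hM) {n : ℕ}
    (h : MemLocalIdeal M (z ^ n)) : MemLocalIdeal M z := by
  induction n with
  | zero => exact absurd (by simpa using h) (not_memLocalIdeal_one hM)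
  | succ n ih =>
    rw [pow_succ, memLocalIdeal_mul_iff hM (pow_mem hz n) hz] at h
    exact h.elim ih id

theorem root_of_unity_mem_locRing (hM : IsPModular p M) {z : ℂ} {n : ℕ} (hn : 0 < n)
    (hz : z ^ n = 1) : z ∈ locRing hM := by
  refine isIntegral_mem_locRing hM ?_
  refine IsIntegral.of_pow hn ?_
  rw [hz]; exact isIntegral_one

/-- A root of unity of `p`-power order is congruent to `1`. -/
theorem memLocalIdeal_sub_one_of_pow_prime_pow (hM : IsPModular p M) {z : ℂ} {k : ℕ}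
    (hz : z ^ p ^ k = 1) : MemLocalIdeal M (z - 1) := by
  have := Fact.mk hM.1
  have hz' := root_of_unity_mem_locRing hM (pow_pos hM.1.pos k) hz
  set w : resField hM := resMap hM ⟨z, hz'⟩ with hw
  have h1 : w ^ p ^ k = 1 := by
    rw [hw, ← map_pow, ← map_one (resMap hM)]
    congr 1
    exact Subtype.ext (by simpa using hz)
  have h2 : (w - 1) ^ p ^ k = 0 := by rw [sub_pow_char_pow, h1, one_pow, sub_self]
  have h3 : w = resMap hM 1 := by rw [map_one]; exact sub_eq_zero.1 (eq_zero_of_pow_eq_zero h2)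
  simpa using (resMap_eq_iff hM).1 h3

/-- Roots of unity of order prime to `p` are separated by reduction. -/
theorem eq_one_of_memLocalIdeal_sub_one (hM : IsPModular p M) {z : ℂ} {m : ℕ} (hm : ¬ p ∣ m)
    (hz : z ^ m = 1) (h : MemLocalIdeal M (z - 1)) : z = 1 := by
  by_contra hne
  have hm0 : 0 < m := Nat.pos_of_ne_zero fun h0 => hm (h0 ▸ dvd_zero p)
  have hz' := root_of_unity_mem_locRing hM hm0 hz
  have hsum : ∑ i ∈ Finset.range m, z ^ i = 0 := by
    have := geom_sum_mul z m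
    rw [hz, sub_self, mul_eq_zero] at this
    exact this.resolve_right (sub_ne_zero.2 hne)
  have hz1 : resMap hM ⟨z, hz'⟩ = 1 := by
    rw [← map_one (resMap hM), resMap_eq_iff]; simpa using h
  have hs : resMap hM (∑ i ∈ Finset.range m, (⟨z, hz'⟩ : locRing hM) ^ i) = (m : resField hM) := by
    rw [map_sum]
    simp only [map_pow, hz1, one_pow, Finset.sum_const, Finset.card_range, nsmul_eq_mul, mul_one]
  have hs0 : (∑ i ∈ Finset.range m, (⟨z, hz'⟩ : locRing hM) ^ i) = 0 :=
    Subtype.ext (by simpa using hsum)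
  rw [hs0, map_zero] at hs
  exact hm ((CharP.cast_eq_zero_iff (resField hM) p m).1 hs.symm)

end Cfsg.Lib.Block
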