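import Cfsg.Agent.Lib.Block.SectionPair
import Cfsg.Agent.Lib.Block.CycDvd
import Cfsg.Agent.Lib.Block.CycForm

/-!
# Bounds from an integral vector at a major subsection

Either some integral vector has value one under the form of the block of the centralizer, and
then the weighted number of characters is at most `p ^ d`; or every diagonal contribution has
average at least two.
-/

set_option autoImplicit false
set_option linter.unusedSectionVars false
set_option maxHeartbeats 800000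

namespace Cfsg.Lib.Block

open Cfsg Matrix
open scoped ComplexConjugate

universe u

variable {p : ℕ} {M : Ideal AlgInt} {G : Type u} [Group G] [Fintype G] [Fact p.Prime]
  (hM : IsPModular p M) {H : Subgroup G} [Fintype H] {u : G}
  {b : Set (IrrCharacter H)} {B : Set (IrrCharacter G)}

open Classical in
/-- The integer matrix of regular inner products. -/
noncomputable def formMat (b : Set (IrrCharacter H)) (m : IrrCharacter H → IrrCharacter H → ℤ) :
    Matrix b.toFinset b.toFinset ℤ := fun ξ η => m ξ η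

open Classical in
theorem formMat_symm {m : IrrCharacter H → IrrCharacter H → ℤ} (hm : IsRegForm p b m) :
    (formMat b m)ᵀ = formMat b m := by
  funext ξ η
  exact hm.symm ξ (Set.mem_toFinset.1 ξ.2) η (Set.mem_toFinset.1 η.2)

open Classical in
include hM in
theorem formMat_sq (hb : IsPBlock M b) {m : IrrCharacter H → IrrCharacter H → ℤ}
    (hm : IsRegForm p b m) :
    formMat b m * formMat b m = ((p : ℤ) ^ blockDefect p b) • formMat b m := by
  funext ξ η
  have hξ := Set.mem_toFinset.1 ξ.2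
  have hη := Set.mem_toFinset.1 η.2
  apply Int.cast_injective (α := ℂ)
  simp only [Matrix.mul_apply, Matrix.smul_apply, smul_eq_mul, formMat]
  push_cast
  rw [← hm.eq ξ hξ η hη]
  have hK : ((Nat.card H : ℕ) : ℂ) ≠ 0 := Char.card_cast_ne_zero
  calc ∑ ψ : b.toFinset, (m ξ ψ : ℂ) * (m ψ η : ℂ)
      = ∑ ψ ∈ b.toFinset, regN p b ξ ψ * regN p b ψ η := by
        rw [← Finset.sum_coe_sort b.toFinset]
        exact Finset.sum_congr rfl fun ψ _ => by
          rw [hm.eq ξ hξ ψ (Set.mem_toFinset.1 ψ.2), hm.eq ψ (Set.mem_toFinset.1 ψ.2) η hη]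
    _ = _ := by
        simp only [regN, regInner]
        have hexp : pRegularPart p ((ξ : IrrCharacter H) : H → ℂ) =
            ∑ ψ ∈ b.toFinset, classInner (pRegularPart p ((ξ : IrrCharacter H) : H → ℂ))
              (ψ : H → ℂ) • (ψ : H → ℂ) := regPart_expand hM (vInt_indVec hM hb) hξ
        have key : ∑ ψ ∈ b.toFinset, classInner (pRegularPart p ((ξ : IrrCharacter H) : H → ℂ))
            (ψ : H → ℂ) * classInner (pRegularPart p (ψ : H → ℂ)) ((η : IrrCharacter H) : H → ℂ) =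
            classInner (pRegularPart p ((ξ : IrrCharacter H) : H → ℂ)) ((η : IrrCharacter H) : H → ℂ) := by
          have e : pRegularPart p ((ξ : IrrCharacter H) : H → ℂ) =
              ∑ ψ ∈ b.toFinset, classInner (pRegularPart p ((ξ : IrrCharacter H) : H → ℂ))
                (ψ : H → ℂ) • pRegularPart p (ψ : H → ℂ) := by
            funext c
            simp only [Finset.sum_apply, Pi.smul_apply, smul_eq_mul]
            by_cases hc : IsPRegular p c
            · have := congrFun hexp c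
              simp only [Finset.sum_apply, Pi.smul_apply, smul_eq_mul] at this
              simp only [pRegularPart_of_reg hc] at this ⊢
              exact this
            · simp [pRegularPart_of_sing hc]
          conv_rhs => rw [e, Char.classInner_sum_left]
          exact Finset.sum_congr rfl fun ψ _ => (Char.classInner_smul_left _ _ _).symm
        rw [← key, Finset.mul_sum, Finset.mul_sum]
        push_cast
        exact Finset.sum_congr rfl fun ψ _ => by ring

open Classical in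
/-- The data of the coefficient vectors of the sections. -/
structure SecData (p e : ℕ) (u : G) (b : Set (IrrCharacter H)) (ζ : ℂ) where
  /-- the integral coefficient vectors -/
  t : IrrCharacter G → Fin (p ^ e) × Fin p → b.toFinset → ℤ
  spec : ∀ (χ : IrrCharacter G) (ξ : b.toFinset),
    classInner (secFn u H (χ : G → ℂ)) ((ξ : IrrCharacter H) : H → ℂ) =
      ∑ a, (t χ a ξ : ℂ) * ζ ^ pos a

open Classical in
theorem exists_secData {e : ℕ} {ζ : ℂ} (hζ : IsPrimitiveRoot ζ (p ^ (e + 1)))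
    (hu : u ^ p ^ (e + 1) = 1) (huH : u ∈ H) (hHu : ∀ h : H, Commute u (h : G)) :
    Nonempty (SecData (H := H) p e u b ζ) := by
  haveI : NeZero (p ^ (e + 1)) := ⟨pow_ne_zero _ (Fact.out : p.Prime).ne_zero⟩
  have h : ∀ (χ : IrrCharacter G) (ξ : b.toFinset), ∃ (a : Fin (p ^ e) × Fin p) (n : ℕ),
      classInner (secFn u H (χ : G → ℂ)) ((ξ : IrrCharacter H) : H → ℂ) = (n : ℂ) * ζ ^ pos a := by
    intro χ ξ
    obtain ⟨c, hc, hcχ⟩ := classInner_secFn huH hHu χ (ξ : IrrCharacter H)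
    obtain ⟨n, hn⟩ :=
      (χ.2.isCharacter.comp H.subtype).exists_nat_classInner (ξ : IrrCharacter H).2.isCharacter
    have hc' : c ^ p ^ (e + 1) = 1 := by
      obtain ⟨k, hk⟩ := orderOf_dvd_of_pow_eq_one hu
      rw [hk, pow_mul, hc, one_pow]
    obtain ⟨i, hi, rfl⟩ := hζ.eq_pow_of_pow_eq_one hc'
    obtain ⟨a, ha⟩ := exists_pos_eq hi
    refine ⟨a, n, ?_⟩
    rw [hcχ, show classInner (fun h : H => (χ : G → ℂ) h) ((ξ : IrrCharacter H) : H → ℂ) = n from hn,
      ha, mul_comm]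
  choose a n hn using h
  refine ⟨⟨fun χ j ξ => if a χ ξ = j then (n χ ξ : ℤ) else 0, fun χ ξ => ?_⟩⟩
  rw [hn, Finset.sum_eq_single (a χ ξ)]
  · simp
  · intro j _ hj
    simp [Ne.symm hj]
  · simp

open Classical in
theorem conj_zeta_pow {e : ℕ} {ζ : ℂ} (hζ : IsPrimitiveRoot ζ (p ^ (e + 1))) (j : ℕ) :
    conj (ζ ^ j) = ζ ^ ((p ^ (e + 1) - 1) * j) := by
  have hq : 0 < p ^ (e + 1) := pow_pos (Fact.out : p.Prime).pos _
  have h1 : ζ ^ j * conj (ζ ^ j) = 1 :=
    conj_mul_self_of_pow_eq_one hq.ne'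
      (by rw [← pow_mul, mul_comm, pow_mul, hζ.pow_eq_one, one_pow])
  have h2 : ζ ^ j * ζ ^ ((p ^ (e + 1) - 1) * j) = 1 := by
    rw [← pow_add, show j + (p ^ (e + 1) - 1) * j = p ^ (e + 1) * j by
      rw [Nat.sub_mul, one_mul, Nat.add_sub_cancel' (Nat.le_mul_of_pos_left j hq)],
      pow_mul, hζ.pow_eq_one, one_pow]
  exact mul_left_cancel₀ (pow_ne_zero j (hζ.ne_zero hq.ne')) (h1.trans h2.symm)

section Main

variable {e : ℕ} {ζ : ℂ} {m : IrrCharacter H → IrrCharacter H → ℤ}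

open Classical in
include hM in
theorem secT_eq_vec (S : SecData (H := H) p e u b ζ) (hHu : ∀ h : H, Commute u (h : G))
    (hb : IsPBlock M b) (hm : IsRegForm p b m) (χ : IrrCharacter G) (φ : b.toFinset) :
    secT p (blockDefect p b) u χ (φ : IrrCharacter H) =
      ∑ a, ((formMat b m *ᵥ S.t χ a) φ : ℂ) * ζ ^ pos a := by
  have hφ := Set.mem_toFinset.1 φ.2
  rw [secT_eq_sum hM hHu hb rfl χ hφ, ← Finset.sum_coe_sort b.toFinset]
  simp only [S.spec, Matrix.mulVec, dotProduct, formMat, Int.cast_sum, Int.cast_mul,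
    Finset.sum_mul]
  rw [Finset.sum_comm]
  refine Finset.sum_congr rfl fun a _ => Finset.sum_congr rfl fun ξ _ => ?_
  rw [hm.eq ξ (Set.mem_toFinset.1 ξ.2) φ hφ,
    hm.symm φ hφ ξ (Set.mem_toFinset.1 ξ.2)]
  ring

open Classical in
include hM in
theorem contr_eq_cycForm (S : SecData (H := H) p e u b ζ) (hb : IsPBlock M b)
    (hζ : IsPrimitiveRoot ζ (p ^ (e + 1))) (hm : IsRegForm p b m) (χ : IrrCharacter G) :
    contr p (blockDefect p b) u b χ χ =
      cycForm ζ (fun a a' => S.t χ a ⬝ᵥ formMat b m *ᵥ S.t χ a') 1 := by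
  rw [contr_eq_sum hM hb _ rfl, ← Finset.sum_coe_sort b.toFinset]
  simp only [← Finset.sum_coe_sort b.toFinset, S.spec, map_sum, map_mul, map_intCast,
    conj_zeta_pow hζ, cycForm, one_mul, dotProduct, Matrix.mulVec, formMat, Int.cast_sum,
    Int.cast_mul, Finset.mul_sum, Finset.sum_mul]
  rw [Finset.sum_comm]
  conv_rhs =>
    arg 2; ext a
    rw [Finset.sum_comm]
  conv_rhs => rw [Finset.sum_comm]
  rw [Finset.sum_comm]
  refine Finset.sum_congr rfl fun ξ _ => ?_
  conv_rhs =>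
    arg 2; ext a
    rw [Finset.sum_comm]
  conv_rhs => rw [Finset.sum_comm]
  refine Finset.sum_congr rfl fun η _ => ?_
  refine Finset.sum_congr rfl fun a _ => Finset.sum_congr rfl fun a' _ => ?_
  rw [hm.eq ξ (Set.mem_toFinset.1 ξ.2) η (Set.mem_toFinset.1 η.2)]
  ring

open Classical in
theorem formMat_quad (hsq : formMat b m * formMat b m =
      ((p : ℤ) ^ blockDefect p b) • formMat b m)
    (hsymm : (formMat b m)ᵀ = formMat b m) (w : b.toFinset → ℤ) :
    ((p : ℤ) ^ blockDefect p b) * (w ⬝ᵥ formMat b m *ᵥ w) =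
      (formMat b m *ᵥ w) ⬝ᵥ (formMat b m *ᵥ w) := by
  conv_rhs => rw [Matrix.dotProduct_mulVec, ← Matrix.mulVec_transpose, hsymm, Matrix.mulVec_mulVec,
    hsq, Matrix.smul_mulVec, smul_dotProduct, smul_eq_mul, dotProduct_comm]

open Classical in
theorem formMat_quad_pos (hsq : formMat b m * formMat b m =
      ((p : ℤ) ^ blockDefect p b) • formMat b m)
    (hsymm : (formMat b m)ᵀ = formMat b m) (w : b.toFinset → ℤ) :
    0 ≤ w ⬝ᵥ formMat b m *ᵥ w ∧
      (w ⬝ᵥ formMat b m *ᵥ w = 0 → formMat b m *ᵥ w = 0) := by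
  have h := formMat_quad hsq hsymm w
  have h2 : (0 : ℤ) ≤ (formMat b m *ᵥ w) ⬝ᵥ (formMat b m *ᵥ w) :=
    Finset.sum_nonneg fun i _ => mul_self_nonneg _
  have hpos : (0 : ℤ) < (p : ℤ) ^ blockDefect p b :=
    pow_pos (by exact_mod_cast (Fact.out : p.Prime).pos) _
  refine ⟨?_, fun h0 => ?_⟩
  · by_contra hneg
    have := mul_neg_of_pos_of_neg hpos (not_le.1 hneg)
    omega
  · rw [h0, mul_zero] at h
    exact dotProduct_self_eq_zero.1 h.symm

theorem form_diff {n : Type*} [Fintype n] (N : Matrix n n ℤ) (x y : n → ℤ) :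
    x ⬝ᵥ N *ᵥ x + y ⬝ᵥ N *ᵥ y - x ⬝ᵥ N *ᵥ y - y ⬝ᵥ N *ᵥ x = (x - y) ⬝ᵥ N *ᵥ (x - y) := by
  rw [Matrix.mulVec_sub, sub_dotProduct, dotProduct_sub, dotProduct_sub]
  ring

/-- Reduction to the integral basis. -/
theorem sum_pos_eq_sum_range {p e : ℕ} (hp : 1 < p) {ζ : ℂ} (hζ : IsPrimitiveRoot ζ (p ^ (e + 1)))
    (f : Fin (p ^ e) × Fin p → ℤ) :
    ∃ c : ℕ → ℤ, ∑ a, (f a : ℂ) * ζ ^ pos a =
        ∑ j ∈ Finset.range (p ^ e * (p - 1)), (c j : ℂ) * ζ ^ j ∧
      ∀ (r : Fin (p ^ e)) (i : Fin p), (i : ℕ) < p - 1 →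
        c (pos (r, i)) = f (r, i) - f (r, ⟨p - 1, by omega⟩) := by
  classical
  set last : Fin p := ⟨p - 1, by omega⟩ with hlast
  let g : Fin (p ^ e) × Fin p → ℤ := fun a => f a - f (a.1, last)
  have hq : 0 < p ^ e := pow_pos (by omega) e
  let c : ℕ → ℤ := fun j => if h : j < p ^ (e + 1) then g (exists_pos_eq h).choose else 0
  have hc : ∀ a, c (pos a) = g a := fun a => by
    simp only [c, dif_pos (pos_lt a)]
    rw [eq_of_pos_eq (exists_pos_eq (pos_lt a)).choose_spec]
  refine ⟨c, ?_, fun r i _ => hc (r, i)⟩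
  have hω : ∑ i : Fin p, (ζ ^ (p ^ e)) ^ (i : ℕ) = 0 := by
    have h := (hζ.pow (pow_pos (by omega) _) (show p ^ (e + 1) = p ^ e * p from pow_succ _ _))
    rw [Fin.sum_univ_eq_sum_range fun i => (ζ ^ (p ^ e)) ^ i]
    exact h.geom_sum_eq_zero hp
  have e1 : ∑ a, (f a : ℂ) * ζ ^ pos a = ∑ a, (g a : ℂ) * ζ ^ pos a := by
    simp only [g, Int.cast_sub, sub_mul, Finset.sum_sub_distrib]
    rw [eq_comm, sub_eq_self, Fintype.sum_prod_type]
    refine Finset.sum_eq_zero fun r _ => ?_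
    have : ∀ i : Fin p, (f (r, last) : ℂ) * ζ ^ pos (r, i) =
        (f (r, last) : ℂ) * ζ ^ (r : ℕ) * (ζ ^ (p ^ e)) ^ (i : ℕ) := fun i => by
      rw [pos, pow_add, mul_comm (i : ℕ), pow_mul]; ring
    rw [Finset.sum_congr rfl fun i _ => this i, ← Finset.mul_sum, hω, mul_zero]
  rw [e1, ← Finset.sum_filter_add_sum_filter_not Finset.univ fun a : Fin (p ^ e) × Fin p =>
    (a.2 : ℕ) < p - 1,
    Finset.sum_eq_zero (s := Finset.univ.filter fun a : Fin (p ^ e) × Fin p =>
      ¬ (a.2 : ℕ) < p - 1), add_zero]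
  · refine Finset.sum_bij (fun a _ => pos a) ?_ (fun a _ a' _ h => eq_of_pos_eq h) ?_
      fun a _ => by rw [hc]
    · intro a ha
      have h1 := (Finset.mem_filter.1 ha).2
      have h2 : ((a.2 : ℕ) + 1) * p ^ e ≤ (p - 1) * p ^ e := Nat.mul_le_mul_right _ h1
      have h3 := a.1.is_lt
      rw [Finset.mem_range, pos, mul_comm (p ^ e)]
      linarith
    · intro j hj
      rw [Finset.mem_range] at hj
      have hj' : j < p ^ (e + 1) := by
        have : p ^ e * (p - 1) ≤ p ^ e * p := Nat.mul_le_mul_left _ (Nat.sub_le _ _)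
        rw [pow_succ]; omega
      obtain ⟨a, ha⟩ := exists_pos_eq hj'
      refine ⟨a, Finset.mem_filter.2 ⟨Finset.mem_univ _, ?_⟩, ha⟩
      by_contra hge
      have : (p - 1) * p ^ e ≤ (a.2 : ℕ) * p ^ e := Nat.mul_le_mul_right _ (not_lt.1 hge)
      rw [mul_comm (p ^ e)] at hj
      rw [pos] at ha
      omega
  · intro a ha
    have h1 := (Finset.mem_filter.1 ha).2
    have : a.2 = last := Fin.ext (by
      show (a.2 : ℕ) = p - 1
      have := a.2.is_lt
      omega)
    simp [g, ← this]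

include hM in
/-- The differences of coefficients inherit the local divisibility of a combination. -/
theorem diff_dvd_of_local (hζ : IsPrimitiveRoot ζ (p ^ (e + 1))) (h : ℕ)
    (f : Fin (p ^ e) × Fin p → ℤ)
    (hf : (∑ a, (f a : ℂ) * ζ ^ pos a) / (p : ℂ) ^ h ∈ locRing hM) (r : Fin (p ^ e)) (i j : Fin p) :
    (p : ℤ) ^ h ∣ f (r, i) - f (r, j) := by
  have hp := (Fact.out : p.Prime)
  obtain ⟨c, hc1, hc2⟩ := sum_pos_eq_sum_range hp.one_lt hζ f
  rw [hc1] at hf
  have hd := pow_dvd_coeff hM hζ h c hf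
  have key : ∀ i : Fin p, (p : ℤ) ^ h ∣ f (r, i) - f (r, ⟨p - 1, Nat.sub_lt hp.pos one_pos⟩) := by
    intro i
    by_cases hi : (i : ℕ) < p - 1
    · rw [← hc2 r i hi]
      refine hd _ ?_
      have h2 : ((i : ℕ) + 1) * p ^ e ≤ (p - 1) * p ^ e := Nat.mul_le_mul_right _ hi
      have h3 := r.is_lt
      rw [pos, mul_comm (p ^ e)]
      simp only
      linarith
    · have : i = ⟨p - 1, Nat.sub_lt hp.pos one_pos⟩ := Fin.ext (by
        show (i : ℕ) = p - 1
        have := i.is_lt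
        omega)
      rw [this, sub_self]
      exact dvd_zero _
  have := dvd_sub (key i) (key j)
  rwa [sub_sub_sub_cancel_right] at this

theorem eq_zero_of_const {p e : ℕ} (hp : 1 < p) {ζ : ℂ} (hζ : IsPrimitiveRoot ζ (p ^ (e + 1)))
    (f : Fin (p ^ e) × Fin p → ℤ) (hconst : ∀ r i j, f (r, i) = f (r, j)) :
    ∑ a, (f a : ℂ) * ζ ^ pos a = 0 := by
  obtain ⟨c, hc1, hc2⟩ := sum_pos_eq_sum_range hp hζ f
  rw [hc1]
  refine Finset.sum_eq_zero fun j hj => ?_
  rw [Finset.mem_range] at hj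
  have hj' : j < p ^ (e + 1) := by
    have : p ^ e * (p - 1) ≤ p ^ e * p := Nat.mul_le_mul_left _ (Nat.sub_le _ _)
    rw [pow_succ]; omega
  obtain ⟨⟨r, i⟩, rfl⟩ := exists_pos_eq hj'
  have hi : (i : ℕ) < p - 1 := by
    by_contra hge
    have : (p - 1) * p ^ e ≤ (i : ℕ) * p ^ e := Nat.mul_le_mul_right _ (not_lt.1 hge)
    simp only [pos] at hj
    rw [mul_comm (p ^ e)] at hj
    omega
  rw [hc2 r i hi, hconst r i ⟨p - 1, by omega⟩, sub_self, Int.cast_zero, zero_mul]

end Main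

end Cfsg.Lib.Block
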