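import Cfsg.Agent.Lib.Block.MajorBound

/-!
# Contributions bounded below by the minimum of the form

If every nonzero value of the form of a block of a centralizer is at least `L`, each nonzero
diagonal contribution has average at least `L`, so `L` times the number of such characters is at
most the trace of the contribution matrix.
-/

set_option autoImplicit false
set_option linter.unusedSectionVars false
set_option maxHeartbeats 800000

namespace Cfsg.Lib.Block

open Cfsg Matrix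
open scoped ComplexConjugate

universe u

variable {p : ℕ} {M : Ideal AlgInt} {G : Type u} [Group G] [Fintype G] [Fact p.Prime]
  (hM : IsPModular p M) {H : Subgroup G} [Fintype H] {u : G}
  {b : Set (IrrCharacter H)} {B : Set (IrrCharacter G)} {e : ℕ}
  {m : IrrCharacter H → IrrCharacter H → ℤ}

open Classical in
include hM in
/-- Characters with a nonzero pairing, counted with a lower bound of the form. -/
theorem mul_card_le_of_ne (hpow : u ^ p ^ (e + 1) = 1) (hHu : ∀ h : H, Commute u (h : G))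
    (hCH : Subgroup.centralizer ({u} : Set G) ≤ H) (hind : IsInducedBlock M H b B)
    (hm : IsRegForm p b m) (L : ℤ) (hL : 0 ≤ L)
    (hmin : ∀ w : b.toFinset → ℤ, formMat b m *ᵥ w ≠ 0 → L ≤ w ⬝ᵥ formMat b m *ᵥ w)
    (φ : b.toFinset) (s : Finset (IrrCharacter G)) (hsB : ∀ χ ∈ s, χ ∈ B)
    (hne : ∀ χ ∈ s, secT p (blockDefect p b) u χ (φ : IrrCharacter H) ≠ 0) :
    L * (s.card : ℤ) ≤ (p : ℤ) ^ blockDefect p b * (blockRank p b : ℤ) := by
  have hp := (Fact.out : p.Prime)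
  have hu : ∃ k : ℕ, orderOf u = p ^ k := by
    obtain ⟨k, -, hk⟩ :=
      (Nat.dvd_prime_pow hp).1 (orderOf_dvd_of_pow_eq_one hpow)
    exact ⟨k, hk⟩
  have huH : u ∈ H :=
    hCH (Subgroup.mem_centralizer_iff.2 fun z hz => by rw [Set.mem_singleton_iff] at hz; rw [hz])
  set ζ : ℂ := Complex.exp (2 * Real.pi * Complex.I / ((p ^ (e + 1) : ℕ) : ℂ)) with hζdef
  have hζ : IsPrimitiveRoot ζ (p ^ (e + 1)) :=
    Complex.isPrimitiveRoot_exp _ (pow_ne_zero _ hp.ne_zero)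
  obtain ⟨S⟩ := exists_secData (b := b) hζ hpow huH hHu
  set N := formMat b m with hN
  have hsq := formMat_sq hM hind.1 hm
  have hsymm := formMat_symm hm
  have hsum1 : ∑ χ ∈ B.toFinset, cycForm ζ (fun a a' => S.t χ a ⬝ᵥ N *ᵥ S.t χ a') 1 =
      (((p : ℤ) ^ blockDefect p b * (blockRank p b : ℤ) : ℤ) : ℂ) := by
    rw [hN, Finset.sum_congr rfl fun χ _ => (contr_eq_cycForm hM S hind.1 hζ hm χ).symm,
      sum_contr_diag hM hu hHu hCH hind]
    push_cast
    rfl
  have htot := sum_avgForm_eq B.toFinset (fun χ a a' => S.t χ a ⬝ᵥ N *ᵥ S.t χ a') _ hζdef hsum1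
  have hnn : ∀ χ : IrrCharacter G,
      0 ≤ avgForm (fun a a' => S.t χ a ⬝ᵥ N *ᵥ S.t χ a') := by
    intro χ
    refine mul_nonneg (by positivity) (Finset.sum_nonneg fun r _ => ?_)
    set D : Fin p → Fin p → ℤ := fun i j =>
      S.t χ (r, i) ⬝ᵥ N *ᵥ S.t χ (r, i) + S.t χ (r, j) ⬝ᵥ N *ᵥ S.t χ (r, j) -
        S.t χ (r, i) ⬝ᵥ N *ᵥ S.t χ (r, j) - S.t χ (r, j) ⬝ᵥ N *ᵥ S.t χ (r, i) with hD
    have h7 : 0 ≤ ∑ i, ∑ j, D i j := Finset.sum_nonneg fun i _ => Finset.sum_nonneg fun j _ => by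
      simp only [hD]; rw [form_diff]; exact (formMat_quad_pos hsq hsymm _).1
    have h2 : ∑ i, ∑ j, D i j = 2 * ((p : ℤ) * ∑ i : Fin p, S.t χ (r, i) ⬝ᵥ N *ᵥ S.t χ (r, i) -
        ∑ i : Fin p, ∑ j : Fin p, S.t χ (r, i) ⬝ᵥ N *ᵥ S.t χ (r, j)) := by
      simp only [hD, Finset.sum_sub_distrib, Finset.sum_add_distrib, Finset.sum_const,
        Finset.card_univ, Fintype.card_fin, nsmul_eq_mul]
      rw [Finset.sum_comm (f := fun i j => S.t χ (r, j) ⬝ᵥ N *ᵥ S.t χ (r, i)), ← Finset.mul_sum]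
      ring
    linarith
  have hlow : ∀ χ ∈ s, (p ^ e : ℤ) * (((p : ℤ) - 1) * L) ≤
      avgForm (fun a a' => S.t χ a ⬝ᵥ N *ᵥ S.t χ a') := by
    intro χ hχ
    refine le_avgForm hp.pos (fun a => N *ᵥ S.t χ a) _ _ hL (fun r i j => ?_)
      (fun r i j hij => ?_) ?_
    · rw [form_diff]; exact (formMat_quad_pos hsq hsymm _).1
    · rw [form_diff]
      exact hmin _ (by rw [Matrix.mulVec_sub]; exact sub_ne_zero.2 hij)
    · by_contra hall
      simp only [not_exists, not_not] at hall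
      refine hne χ hχ ?_
      rw [secT_eq_vec hM S hHu hind.1 hm, eq_zero_of_const hp.one_lt hζ _
          (fun r i j => congrFun (hall r i j) _)]
  have hsub : s ⊆ B.toFinset := fun χ hχ => Set.mem_toFinset.2 (hsB χ hχ)
  have h := (Finset.sum_le_sum hlow).trans
    (Finset.sum_le_sum_of_subset_of_nonneg hsub fun χ _ _ => hnn χ)
  rw [htot, Finset.sum_const, nsmul_eq_mul] at h
  have hpos : (0 : ℤ) < (p : ℤ) ^ e * ((p : ℤ) - 1) :=
    mul_pos (pow_pos (by exact_mod_cast hp.pos) _) (sub_pos.2 (by exact_mod_cast hp.one_lt))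
  refine le_of_mul_le_mul_left ?_ hpos
  rw [pow_succ] at h
  linarith

open Classical in
include hM in
/-- At a major subsection all characters of the block count. -/
theorem MajorSetup.mul_card_le (hS : MajorSetup (p := p) M e u b B m) (L : ℤ) (hL : 0 ≤ L)
    (hmin : ∀ w : b.toFinset → ℤ, formMat b m *ᵥ w ≠ 0 → L ≤ w ⬝ᵥ formMat b m *ᵥ w) :
    L * (Nat.card B : ℤ) ≤ (p : ℤ) ^ blockDefect p B * (blockRank p b : ℤ) := by
  obtain ⟨φ₀, hφ₀, h00, -, -⟩ := hS.exists_height_zero hM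
  rw [← hS.major, Nat.card_eq_card_toFinset]
  refine mul_card_le_of_ne hM hS.pow_eq hS.comm hS.cen hS.ind hS.form L hL hmin
    ⟨φ₀, Set.mem_toFinset.2 hφ₀⟩ _ (fun χ hχ => Set.mem_toFinset.1 hχ) fun χ hχ h0 => ?_
  refine (hS.secT_scaled hM (Set.mem_toFinset.1 hχ) φ₀).2 ⟨hφ₀, h00⟩ ?_
  change secT p (blockDefect p b) u χ φ₀ = 0 at h0
  rw [h0, zero_div]
  exact memLocalIdeal_zero hM

open Classical in
include hM in
/-- At any subsection the characters of height zero count. -/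
theorem mul_card_height_zero_le (hpow : u ^ p ^ (e + 1) = 1) (hHu : ∀ h : H, Commute u (h : G))
    (hCH : Subgroup.centralizer ({u} : Set G) ≤ H) (hind : IsInducedBlock M H b B)
    (hm : IsRegForm p b m) (L : ℤ) (hL : 0 ≤ L)
    (hmin : ∀ w : b.toFinset → ℤ, formMat b m *ᵥ w ≠ 0 → L ≤ w ⬝ᵥ formMat b m *ᵥ w) :
    L * (Nat.card {χ : IrrCharacter G // χ ∈ B ∧ blockHeight p B (χ : G → ℂ) = 0} : ℤ) ≤
      (p : ℤ) ^ blockDefect p b * (blockRank p b : ℤ) := by
  obtain ⟨φ₀, hφ₀, hmv⟩ := exists_minVal (p := p) (nonempty_of_isPBlock hM hind.1)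
  have h00 := (blockHeight_eq_zero_iff hφ₀).2 hmv
  have hu : ∃ k : ℕ, orderOf u = p ^ k := by
    obtain ⟨k, -, hk⟩ :=
      (Nat.dvd_prime_pow (Fact.out : p.Prime)).1 (orderOf_dvd_of_pow_eq_one hpow)
    exact ⟨k, hk⟩
  rw [Nat.card_eq_fintype_card, Fintype.card_subtype]
  refine mul_card_le_of_ne hM hpow hHu hCH hind hm L hL hmin
    ⟨φ₀, Set.mem_toFinset.2 hφ₀⟩ _ (fun χ hχ => (Finset.mem_filter.1 hχ).2.1) fun χ hχ h0 => ?_
  refine secT_not_mem hM hu hHu hCH hind rfl (Finset.mem_filter.1 hχ).2.1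
    (Finset.mem_filter.1 hχ).2.2 hφ₀ h00 ?_
  change secT p (blockDefect p b) u χ φ₀ = 0 at h0
  rw [h0]
  exact memLocalIdeal_zero hM

end Cfsg.Lib.Block
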