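import Cfsg.Agent.Lib.Block.InvolutionDefectApps
import Cfsg.Agent.Lib.ZStar.Main
import Cfsg.Agent.Lib.Core.PSolvable
import Cfsg.Agent.Lib.Core.Cores
import Cfsg.Agent.Lib.Local.AutomizerQ.Reduce
import Cfsg.Agent.Lib.Char.Clifford
import Cfsg.Agent.S0205

/-!
# Transitive groups of prime power degree without characters of defect zero

Without elements of order `2 p` and without characters of `p`-defect zero, the product of two
involutions with different fixed points has no fixed point.  Hence every point is fixed by exactly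
one involution, which is then isolated, and the Sylow `p`-subgroup is normal.
-/

set_option autoImplicit false
set_option linter.unusedSectionVars false

namespace Cfsg.Lib.Block

open Cfsg Subgroup
open scoped ComplexConjugate

universe u v

variable {p : ℕ} [hp : Fact p.Prime] {G : Type u} [Group G] [Fintype G]

include hp in
/-- Without characters of defect zero, products from a class with centralizer of order prime to `p`
have each value a multiple of `p` times. -/
theorem dvd_class_square (hnd : ¬ HasDefectZero p G) {x : G}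
    (hC : ¬ p ∣ Nat.card (Subgroup.centralizer ({x} : Set G))) (z : G) :
    p ∣ Nat.card {ab : G × G // IsConj x ab.1 ∧ IsConj x ab.2 ∧ ab.1 * ab.2 = z} := by
  classical
  obtain ⟨M, hM⟩ := exists_isPModular hp.out
  set c := Nat.card (Subgroup.centralizer ({x} : Set G)) with hc
  have hidx : ((Char.classFinset x).card : ℂ) * (c : ℂ) = (Nat.card G : ℂ) := by
    rw [Char.card_classFinset]
    exact_mod_cast Subgroup.index_mul_card (Subgroup.centralizer ({x} : Set G))
  have hcount : Nat.card {ab : G × G // IsConj x ab.1 ∧ IsConj x ab.2 ∧ ab.1 * ab.2 = z} =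
      ((Char.classFinset x ×ˢ Char.classFinset x).filter fun ab => ab.1 * ab.2 = z).card := by
    rw [← Nat.card_eq_finsetCard]
    exact Nat.card_congr (Equiv.subtypeEquivRight fun ab => by
      simp [Char.mem_classFinset, and_assoc])
  set a := ((Char.classFinset x ×ˢ Char.classFinset x).filter fun ab => ab.1 * ab.2 = z).card
  have key : ((a * c ^ 2 : ℕ) : ℂ) = ∑ χ : IrrCharacter G,
      (((Nat.card G / charDegree (χ : G → ℂ) : ℕ)) : ℂ) *
        ((χ : G → ℂ) x * (χ : G → ℂ) x * conj ((χ : G → ℂ) z)) := by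
    have h := Char.card_class_product x x z
    push_cast
    rw [h, Finset.mul_sum, Finset.sum_mul]
    refine Finset.sum_congr rfl fun χ _ => ?_
    have hd : ((charDegree (χ : G → ℂ) : ℕ) : ℂ) ≠ 0 := by exact_mod_cast (charDegree_pos χ).ne'
    rw [Nat.cast_div (charDegree_dvd_card χ) hd, apply_one_eq_charDegree χ]
    have hG : (Nat.card G : ℂ) ≠ 0 := Char.card_cast_ne_zero
    rw [← hidx] at hG ⊢
    field_simp
  have hterm : ∀ χ : IrrCharacter G, MemLocalIdeal M
      ((((Nat.card G / charDegree (χ : G → ℂ) : ℕ)) : ℂ) *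
        ((χ : G → ℂ) x * (χ : G → ℂ) x * conj ((χ : G → ℂ) z))) := by
    intro χ
    refine memLocalIdeal_mul_right hM ((memLocalIdeal_natCast_iff hM _).2 ?_) ?_
    · obtain ⟨k, hk⟩ := charDegree_dvd_card χ
      rw [hk, Nat.mul_div_cancel_left _ (charDegree_pos χ)]
      by_contra hpk
      refine hnd ⟨χ, ?_⟩
      have hk0 : k ≠ 0 := fun h => Nat.card_pos.ne' (by rw [hk, h, mul_zero] : Nat.card G = 0)
      rw [hk, Nat.factorization_mul (charDegree_pos χ).ne' hk0, Finsupp.add_apply,
        Nat.factorization_eq_zero_of_not_dvd hpk, add_zero]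
    · rw [← χ.2.isCharacter.apply_inv]
      exact Subring.mul_mem _ (Subring.mul_mem _ (charVal_mem_locRing hM χ x)
        (charVal_mem_locRing hM χ x)) (charVal_mem_locRing hM χ _)
  have h1 : p ∣ a * c ^ 2 := by
    rw [← memLocalIdeal_natCast_iff hM, key]
    exact memLocalIdeal_sum hM _ _ fun χ _ => hterm χ
  rw [hcount]
  exact (hp.out.dvd_mul.1 h1).resolve_right fun h => hC (hp.out.dvd_of_dvd_pow h)

/-- An involutive map without fixed points has a domain of even order. -/
theorem even_card_of_involutive {α : Type*} [Fintype α] {f : α → α} (hf : Function.Involutive f)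
    (h : ∀ a, f a ≠ a) : Even (Nat.card α) := by
  classical
  haveI : Fact (Nat.Prime 2) := ⟨Nat.prime_two⟩
  by_contra hodd
  obtain ⟨a, ha⟩ := Equiv.Perm.exists_fixed_point_of_prime (p := 2) (n := 1) (σ := hf.toPerm f)
    (by rw [← Nat.card_eq_fintype_card]; exact fun hd => hodd (even_iff_two_dvd.2 hd))
    (Equiv.ext fun R => by simpa [pow_succ, pow_zero] using hf R)
  exact h a ha

/-- An involutive map with exactly one fixed point has a domain of odd order. -/
theorem odd_card_of_involutive {α : Type*} [Fintype α] {f : α → α} (hf : Function.Involutive f)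
    {a₀ : α} (h : ∀ a, f a = a ↔ a = a₀) : Odd (Nat.card α) := by
  classical
  have hf0 : ∀ b : {a : α // a ≠ a₀}, f b.1 ≠ a₀ := fun b hb => b.2 (by
    rw [← hf b.1, hb, (h a₀).2 rfl])
  have h1 : Even (Nat.card {a : α // a ≠ a₀}) :=
    even_card_of_involutive (f := fun b => ⟨f b.1, hf0 b⟩) (fun b => Subtype.ext (hf b.1))
      fun b hb => b.2 ((h b.1).1 (congrArg Subtype.val hb))
  have h2 : Nat.card α = Nat.card {a : α // a ≠ a₀} + 1 := by
    rw [Nat.card_eq_fintype_card, Nat.card_eq_fintype_card, Fintype.card_subtype_compl,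
      Fintype.card_subtype_eq, Nat.sub_add_cancel (Fintype.card_pos_iff.2 ⟨a₀⟩)]
  rw [h2]
  exact h1.add_one

/-- The order of a product with a normalized disjoint subgroup. -/
theorem card_sup_of_disjoint {A B : Subgroup G} (hd : Disjoint A B)
    (hn : A ≤ normalizer (B : Set G)) :
    Nat.card (A ⊔ B : Subgroup G) = Nat.card A * Nat.card B := by
  rw [← Nat.card_prod]
  refine (Nat.card_eq_of_bijective (fun ab : A × B => (⟨(ab.1 : G) * ab.2,
    mul_mem (mem_sup_left ab.1.2) (mem_sup_right ab.2.2)⟩ : (A ⊔ B : Subgroup G))) ⟨?_, ?_⟩).symm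
  · intro ab cd h
    exact Subgroup.mul_injective_of_disjoint hd (congrArg Subtype.val h)
  · rintro ⟨x, hx⟩
    have hx' : x ∈ ((A ⊔ B : Subgroup G) : Set G) := hx
    rw [coe_mul_of_left_le_normalizer_right A B hn] at hx'
    obtain ⟨a, ha, b, hb, rfl⟩ := hx'
    exact ⟨(⟨a, ha⟩, ⟨b, hb⟩), rfl⟩

variable {Ω : Type v} [Fintype Ω] [MulAction G Ω] [FaithfulSMul G Ω] [MulAction.IsPretransitive G Ω]
  {r : ℕ}

include hp in
/-- A Sylow subgroup is transitive on a set of prime power order. -/
theorem sylow_pretransitive (hΩ : Fintype.card Ω = p ^ r) (P : Sylow p G) (α β : Ω) :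
    ∃ s ∈ P, s • α = β := by
  classical
  set A : Subgroup G := MulAction.stabilizer G α with hA
  have hAi : A.index = p ^ r := by
    rw [hA, ← hΩ, MulAction.index_stabilizer_of_transitive, Nat.card_eq_fintype_card]
  set A' : Subgroup ↥(P : Subgroup G) := MulAction.stabilizer ↥(P : Subgroup G) α with hA'
  have hmap : A'.map (P : Subgroup G).subtype ≤ A := by
    rintro _ ⟨s, hs, rfl⟩
    exact MulAction.mem_stabilizer_iff.2 (MulAction.mem_stabilizer_iff.1 hs)
  obtain ⟨j, hj⟩ := (P.2.to_subgroup A').exists_card_eq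
  have hjA : j ≤ (Nat.card A).factorization p := by
    refine (hp.out.pow_dvd_iff_le_factorization Nat.card_pos.ne').1 ?_
    rw [← hj, ← Subgroup.card_map_of_injective (Subgroup.subtype_injective _)]
    exact Subgroup.card_dvd_of_le hmap
  have hGv : (Nat.card G).factorization p = (Nat.card A).factorization p + r := by
    rw [← Subgroup.card_mul_index A, hAi, Nat.factorization_mul Nat.card_pos.ne'
      (pow_ne_zero _ hp.out.ne_zero), Finsupp.add_apply, hp.out.factorization_pow,
      Finsupp.single_eq_same]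
  have horb : p ^ r ≤ Nat.card (MulAction.orbit ↥(P : Subgroup G) α) := by
    have h : Nat.card A' * A'.index = p ^ ((Nat.card A).factorization p + r) := by
      rw [Subgroup.card_mul_index, ← hGv]
      exact P.card_eq_multiplicity
    rw [Nat.card_congr (MulAction.orbitEquivQuotientStabilizer _ α), ← Subgroup.index_eq_card]
    rw [hj] at h
    have h2 : p ^ j * p ^ r ≤ p ^ j * A'.index := by
      rw [h, ← pow_add]
      exact Nat.pow_le_pow_right hp.out.pos (by omega)
    exact Nat.le_of_mul_le_mul_left h2 (pow_pos hp.out.pos j)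
  have htop : MulAction.orbit ↥(P : Subgroup G) α = Set.univ := by
    refine Set.eq_of_subset_of_ncard_le (Set.subset_univ _) ?_ Set.finite_univ
    rw [Set.ncard_univ, Nat.card_eq_fintype_card, hΩ, ← Nat.card_coe_set_eq]
    exact horb
  obtain ⟨s, hs⟩ := (htop ▸ Set.mem_univ β : β ∈ MulAction.orbit ↥(P : Subgroup G) α)
  exact ⟨s, s.2, hs⟩

include hp in
/-- An abelian Sylow subgroup is regular. -/
theorem sylow_regular (hΩ : Fintype.card Ω = p ^ r) (P : Sylow p G)
    (hcomm : IsMulCommutative ↥(P : Subgroup G)) {s : G} (hs : s ∈ P) {α : Ω} (h : s • α = α) :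
    s = 1 := by
  refine FaithfulSMul.eq_of_smul_eq_smul fun β : Ω => ?_
  obtain ⟨t, ht, rfl⟩ := sylow_pretransitive hΩ P α β
  have hc : (⟨s, hs⟩ : (P : Subgroup G)) * ⟨t, ht⟩ = ⟨t, ht⟩ * ⟨s, hs⟩ := hcomm.is_comm.comm _ _
  rw [one_smul, smul_smul, show s * t = t * s from congrArg Subtype.val hc, mul_smul, h]

include hp in
/-- An abelian transitive Sylow subgroup is self-centralizing. -/
theorem sylow_self_centralizing (hΩ : Fintype.card Ω = p ^ r) (P : Sylow p G) {c : G}
    (hc : c ∈ centralizer ((P : Subgroup G) : Set G))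
    (hcomm : IsMulCommutative ↥(P : Subgroup G)) : c ∈ P := by
  rcases isEmpty_or_nonempty Ω with hE | ⟨⟨α⟩⟩
  · rw [show c = 1 from FaithfulSMul.eq_of_smul_eq_smul fun a : Ω => (hE.false a).elim]
    exact one_mem (P : Subgroup G)
  obtain ⟨s, hs, hsα⟩ := sylow_pretransitive hΩ P α (c • α)
  have h1 : s⁻¹ * c = 1 := by
    refine FaithfulSMul.eq_of_smul_eq_smul fun β : Ω => ?_
    obtain ⟨t, ht, rfl⟩ := sylow_pretransitive hΩ P α β
    have hcs : s⁻¹ * t = t * s⁻¹ := congrArg Subtype.val
      (hcomm.is_comm.comm (⟨s⁻¹, inv_mem hs⟩ : (P : Subgroup G)) ⟨t, ht⟩)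
    rw [one_smul, smul_smul, mul_assoc, ← mem_centralizer_iff.1 hc t ht, ← mul_assoc, hcs,
      mul_smul, mul_smul, ← hsα, inv_smul_smul]
  rw [← inv_mul_eq_one.1 h1]
  exact hs

include hp in
/-- In a subgroup of odd order containing an abelian transitive Sylow subgroup, that subgroup
contains every `p`-subgroup. -/
theorem pgroup_le_sylow (hΩ : Fintype.card Ω = p ^ r) (P : Sylow p G)
    (hcomm : IsMulCommutative ↥(P : Subgroup G)) {K : Subgroup G} (hK : Odd (Nat.card K))
    (hPK : (P : Subgroup G) ≤ K) {Q : Subgroup G} (hQ : IsPGroup p Q) (hQK : Q ≤ K) :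
    Q ≤ (P : Subgroup G) := by
  classical
  haveI : Group.IsSolvable K := Cfsg.Agent.S0205.result hK
  set L : Subgroup G := (pPrimeCore p K).map K.subtype with hL
  have hLK : L ≤ K := map_subtype_le _
  have hLnorm : ∀ k ∈ K, ∀ l ∈ L, k * l * k⁻¹ ∈ L := by
    rintro k hk _ ⟨l, hl, rfl⟩
    exact ⟨⟨k, hk⟩ * l * ⟨k, hk⟩⁻¹,
      (inferInstance : (pPrimeCore p K).Normal).conj_mem l hl ⟨k, hk⟩, rfl⟩
  have hLcop : (Nat.card L).Coprime p := by
    rw [hL, card_map_of_injective K.subtype_injective]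
    exact Cfsg.Lib.Core.pPrimeCore_coprime p K
  have hLbot : L = ⊥ := by
    rcases isEmpty_or_nonempty Ω with hE | hne
    · exact eq_bot_iff.2 fun l _ => mem_bot.2
        (FaithfulSMul.eq_of_smul_eq_smul fun a : Ω => (hE.false a).elim)
    have hPn : (P : Subgroup G) ≤ normalizer (L : Set G) := fun s hs =>
      mem_normalizer_iff.2 fun l => ⟨fun hl => hLnorm s (hPK hs) l hl, fun hl => by
        simpa [mul_assoc] using hLnorm s⁻¹ (inv_mem (hPK hs)) _ hl⟩
    refine eq_bot_iff.2 fun l hl => mem_bot.2 (FaithfulSMul.eq_of_smul_eq_smul fun α : Ω => ?_)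
    set S : Subgroup G := (P : Subgroup G) ⊔ L with hS
    set L' : Subgroup S := L.subgroupOf S with hL'
    haveI : L'.Normal := normal_subgroupOf_of_le_normalizer (sup_le hPn le_normalizer)
    have hdisj : Disjoint (P : Subgroup G) L := by
      obtain ⟨k, hk⟩ := P.2.exists_card_eq
      refine disjoint_iff.2 (inf_eq_bot_of_coprime ?_)
      rw [hk]; exact hLcop.symm.pow_left k
    have hPS : (P : Subgroup G) ≤ S := le_sup_left
    have hindex : L'.index = Nat.card (P : Subgroup G) := by
      have h := L'.card_mul_index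
      rw [hL', Nat.card_congr (subgroupOfEquivOfLe (le_sup_right : L ≤ S)).toEquiv, hS,
        card_sup_of_disjoint hdisj hPn, mul_comm (Nat.card (P : Subgroup G))] at h
      exact Nat.eq_of_mul_eq_mul_left Nat.card_pos h
    have hPcard : Nat.card (P : Subgroup G) = p ^ r := by
      rw [← hΩ, ← Nat.card_eq_fintype_card]
      obtain ⟨β⟩ := hne
      refine Nat.card_eq_of_bijective (fun s : (P : Subgroup G) => (s : G) • β) ⟨fun a b hab => ?_,
        fun γ => ?_⟩
      · exact Subtype.ext (inv_mul_eq_one.1 (sylow_regular hΩ P hcomm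
          (mul_mem (inv_mem b.2) a.2) (α := β) (by
            rw [mul_smul, show (a : G) • β = (b : G) • β from hab, inv_smul_smul]))).symm
      · obtain ⟨s, hs, h⟩ := sylow_pretransitive hΩ P β γ
        exact ⟨⟨s, hs⟩, h⟩
    set St : Subgroup S := MulAction.stabilizer S α with hSt
    haveI : MulAction.IsPretransitive S Ω := ⟨fun β γ => by
      obtain ⟨s, hs, h⟩ := sylow_pretransitive hΩ P β γ
      exact ⟨⟨s, hPS hs⟩, h⟩⟩
    have hSti : St.index = L'.index := by
      rw [hSt, MulAction.index_stabilizer_of_transitive, Nat.card_eq_fintype_card, hΩ, hindex,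
        hPcard]
    have hcardeq : Nat.card St = Nat.card L' := by
      have h1 := St.card_mul_index
      rw [hSti, ← L'.card_mul_index] at h1
      exact Nat.eq_of_mul_eq_mul_right (Nat.pos_of_ne_zero index_ne_zero_of_finite) h1
    have hle : St ≤ L' := by
      intro x hx
      have h1 : orderOf (QuotientGroup.mk' L' x) ∣ L'.index := by
        rw [index_eq_card]; exact orderOf_dvd_natCard _
      have h2 : orderOf (QuotientGroup.mk' L' x) ∣ Nat.card L' := by
        rw [← hcardeq]
        exact (orderOf_map_dvd _ x).trans (orderOf_dvd_natCard St hx)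
      have h3 : (Nat.card L').Coprime L'.index := by
        rw [hindex, hPcard, Nat.card_congr (subgroupOfEquivOfLe (le_sup_right : L ≤ S)).toEquiv]
        exact hLcop.pow_right r
      exact (QuotientGroup.eq_one_iff x).1
        (orderOf_eq_one_iff.1 (Nat.eq_one_of_dvd_coprimes h3 h2 h1))
    have heq : St = L' := eq_of_le_of_card_ge hle hcardeq.ge
    have hlS : l ∈ S := (le_sup_right : L ≤ S) hl
    have : (⟨l, hlS⟩ : S) ∈ St := heq ▸ mem_subgroupOf.2 hl
    rw [one_smul]
    exact MulAction.mem_stabilizer_iff.1 this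
  have hO : pPrimeCore p K = ⊥ := by
    rwa [hL, map_eq_bot_iff_of_injective _ K.subtype_injective] at hLbot
  set F : Subgroup G := (pCore p K).map K.subtype with hF
  have hPF : (P : Subgroup G) ≤ F := by
    have hFp : IsPGroup p F := (Cfsg.Lib.Core.pCore_isPGroup p K).map _
    have hFP : F ≤ (P : Subgroup G) := by
      have h1 : (pCore p K) ≤ (P.subtype hPK : Subgroup K) :=
        (Cfsg.Lib.Core.pCore_isPGroup p K).le_sylow_of_normal _
      rintro _ ⟨f, hf, rfl⟩
      exact h1 hf
    intro s hs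
    refine ⟨⟨s, hPK hs⟩, Cfsg.Lib.Core.centralizer_pCore_le_of_isPSolvable
      Cfsg.Lib.Core.isPSolvable_of_isSolvable hO (mem_centralizer_iff.2 fun f hf => ?_), rfl⟩
    have hfP : (f : G) ∈ (P : Subgroup G) := hFP ⟨f, hf, rfl⟩
    have hcs := hcomm.is_comm.comm (⟨(f : G), hfP⟩ : (P : Subgroup G)) ⟨s, hs⟩
    refine Subtype.ext ?_
    have hcs' := congrArg Subtype.val hcs
    exact hcs' 
  have hPn : Q ≤ normalizer ((P : Subgroup G) : Set G) := by
    have hFP : F = (P : Subgroup G) :=
      (P.is_maximal' ((Cfsg.Lib.Core.pCore_isPGroup p K).map _) hPF)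
    intro q hq
    rw [← hFP]
    refine mem_normalizer_iff.2 fun f => ⟨?_, ?_⟩
    · rintro ⟨f, hf, rfl⟩
      exact ⟨⟨q, hQK hq⟩ * f * ⟨q, hQK hq⟩⁻¹,
        (inferInstance : (pCore p K).Normal).conj_mem f hf _, rfl⟩
    · rintro ⟨f', hf', he⟩
      refine ⟨⟨q, hQK hq⟩⁻¹ * f' * ⟨q, hQK hq⟩, by
        simpa using (inferInstance : (pCore p K).Normal).conj_mem f' hf' ⟨q, hQK hq⟩⁻¹, ?_⟩
      simp only [coe_subtype] at he
      simp [he, mul_assoc]
  have hsup : IsPGroup p ((P : Subgroup G) ⊔ Q : Subgroup G) :=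
    P.2.to_sup_of_normal_left' hQ hPn
  rw [← P.is_maximal' hsup le_sup_left]
  exact le_sup_right

variable (hp2 : p ≠ 2) (h2p : ∀ g : G, orderOf g ≠ 2 * p) (hnd : ¬ HasDefectZero p G)
  (hΩ : Fintype.card Ω = p ^ r)

include hp hp2 h2p hnd in
/-- Every Sylow subgroup is abelian as soon as there is an involution. -/
theorem midpoint_sylow_comm {x : G} (hx : orderOf x = 2) (P : Sylow p G) :
    IsMulCommutative ↥(P : Subgroup G) :=
  ((abelian_sylow_one_class hp2 h2p hnd hx).1 P).1

include hp hp2 h2p hnd hΩ in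
/-- An involution fixes exactly one point. -/
theorem existsUnique_fixed {x : G} (hx : orderOf x = 2) : ∃! α : Ω, x • α = α := by
  classical
  obtain ⟨P, -, hP⟩ := exists_sylow_inverted_of_no_defectZero hp2 h2p hnd hx
  have hcomm := midpoint_sylow_comm hp2 h2p hnd hx P
  have hinv : Function.Involutive fun a : Ω => x • a := fun a => by
    show x • x • a = a
    rw [smul_smul, ← sq, ← hx, pow_orderOf_eq_one, one_smul]
  have hodd : ¬ Even (Nat.card Ω) := by
    rw [Nat.card_eq_fintype_card, hΩ, Nat.not_even_iff_odd]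
    exact (hp.out.odd_of_ne_two hp2).pow
  obtain ⟨α, hα⟩ : ∃ α : Ω, x • α = α := by
    by_contra h
    push Not at h
    exact hodd (even_card_of_involutive hinv h)
  refine ⟨α, hα, fun β hβ => ?_⟩
  obtain ⟨s, hs, rfl⟩ := sylow_pretransitive hΩ P α β
  have h1 : s⁻¹ • α = s • α := by
    rw [← hP s hs, mul_smul, mul_smul, inv_eq_self_of_orderOf_two hx, hα, hβ]
  have h2 : s * s = 1 := sylow_regular hΩ P hcomm (mul_mem hs hs) (α := α) (by
    rw [mul_smul, ← h1, smul_inv_smul])
  have h3 : orderOf s ∣ 2 := orderOf_dvd_of_pow_eq_one (by rw [sq]; exact h2)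
  obtain ⟨k, hk⟩ := exists_orderOf_eq_pow_of_mem P.2 hs
  have h4 : orderOf s = 1 := by
    refine (Nat.dvd_prime Nat.prime_two).1 h3 |>.resolve_right fun h => ?_
    have : Odd (p ^ k) := (hp.out.odd_of_ne_two hp2).pow
    rw [← hk, h] at this
    exact absurd this (by decide)
  rw [orderOf_eq_one_iff.1 h4, one_smul]

include hp hp2 h2p hnd hΩ in
/-- Two involutions with different fixed points agree nowhere. -/
theorem smul_ne_smul_of_fixed_ne {i j : G} (hi : orderOf i = 2) (hj : orderOf j = 2) {α β : Ω}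
    (hα : i • α = α) (hβ : j • β = β) (hne : α ≠ β) (γ : Ω) : i • γ ≠ j • γ := by
  classical
  intro hγ
  have hii : i * i = 1 := by rw [← sq, ← hi, pow_orderOf_eq_one]
  have hjj : j * j = 1 := by rw [← sq, ← hj, pow_orderOf_eq_one]
  have hi' := inv_eq_self_of_orderOf_two hi
  have hj' := inv_eq_self_of_orderOf_two hj
  set z := i * j with hz
  have hzinv : i * z * i⁻¹ = z⁻¹ := by
    rw [hz, mul_inv_rev, hi', hj', ← mul_assoc i i j, hii, one_mul]
  have hzγ : z • γ = γ := by rw [hz, mul_smul, ← hγ, smul_smul, hii, one_smul]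
  have hz1 : z ≠ 1 := fun h => hne (by
    have hij : i = j := by rw [← hj', eq_inv_iff_mul_eq_one]; exact h
    exact (existsUnique_fixed hp2 h2p hnd hΩ hj).unique (hij ▸ hα) hβ)
  set C := centralizer ({z} : Set G) with hC
  have hmemC : ∀ {w : G}, w ∈ C ↔ z * w = w * z := fun {w} => by
    rw [hC, mem_centralizer_iff]; simp
  -- the centralizer has odd order
  have hCodd : Odd (Nat.card C) := by
    rw [← Nat.not_even_iff_odd, even_iff_two_dvd]
    intro hd
    obtain ⟨w, hw⟩ := exists_prime_orderOf_dvd_card' 2 hd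
    have hw2 : orderOf (w : G) = 2 := by rw [Subgroup.orderOf_coe, hw]
    have hwz := hmemC.1 w.2
    obtain ⟨δ, hδ, hδu⟩ := existsUnique_fixed hp2 h2p hnd hΩ hw2
    have hzδ : z • δ = δ := hδu _ (by show (w : G) • z • δ = z • δ
                                      rw [smul_smul, ← hwz, mul_smul, hδ])
    have hzw : ∀ a : Ω, z • a = a → z • (w : G) • a = (w : G) • a := fun a ha => by
      rw [smul_smul, hwz, mul_smul, ha]
    have hzi : ∀ a : Ω, z • a = a → z • i • a = i • a := fun a ha => by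
      have : z * i = i * z⁻¹ := by
        rw [← hzinv, hi', ← mul_assoc, ← mul_assoc, hii, one_mul]
      rw [smul_smul, this, mul_smul, inv_smul_eq_iff.2 ha.symm]
    have hoddΦ : Odd (Nat.card {a : Ω // z • a = a}) :=
      odd_card_of_involutive (f := fun a => ⟨(w : G) • a.1, hzw a.1 a.2⟩)
        (fun a => Subtype.ext (by
          show (w : G) • (w : G) • a.1 = a.1
          rw [smul_smul, ← sq, ← hw2, pow_orderOf_eq_one, one_smul])) (a₀ := ⟨δ, hzδ⟩)
        fun a => ⟨fun h => Subtype.ext (hδu _ (congrArg Subtype.val h)),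
          fun h => by rw [h]; exact Subtype.ext hδ⟩
    refine Nat.not_even_iff_odd.2 hoddΦ (even_card_of_involutive
      (f := fun a : {a : Ω // z • a = a} => ⟨i • a.1, hzi a.1 a.2⟩) (fun a => Subtype.ext (by
        show i • i • a.1 = a.1
        rw [smul_smul, hii, one_smul])) fun a h => hne ?_)
    have ha : a.1 = α := (existsUnique_fixed hp2 h2p hnd hΩ hi).unique (congrArg Subtype.val h) hα
    have h2 := a.2
    rw [ha, hz, mul_smul, ← eq_inv_smul_iff, hi', hα] at h2
    exact (existsUnique_fixed hp2 h2p hnd hΩ hj).unique h2 hβ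
  obtain ⟨hCi, hCt⟩ := centralizers_of_no_two_p hp2 h2p
  by_cases hpC : p ∣ Nat.card C
  · have hiC : ∀ c ∈ C, i * c * i⁻¹ ∈ C := fun c hc => hmemC.2 (by
      have h := hmemC.1 hc
      have h' : z⁻¹ * c = c * z⁻¹ := ((show Commute z c from h).inv_left).eq
      calc z * (i * c * i⁻¹) = i * ((i⁻¹ * z * i) * c) * i⁻¹ := by group
        _ = i * (c * (i⁻¹ * z * i)) * i⁻¹ := by
          rw [show i⁻¹ * z * i = z⁻¹ by rw [← hzinv, hi'], h']
        _ = i * c * i⁻¹ * z := by group)
    haveI : Fintype (Sylow p C) := Fintype.ofFinite _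
    let φ : MulAut C :=
      { toFun := fun c => ⟨i * c * i⁻¹, hiC c c.2⟩
        invFun := fun c => ⟨i * c * i⁻¹, hiC c c.2⟩
        left_inv := fun c => Subtype.ext (by
          show i * (i * (c : G) * i⁻¹) * i⁻¹ = c
          calc i * (i * (c : G) * i⁻¹) * i⁻¹ = (i * i) * c * (i * i)⁻¹ := by group
            _ = c := by rw [hii, one_mul, inv_one, mul_one])
        right_inv := fun c => Subtype.ext (by
          show i * (i * (c : G) * i⁻¹) * i⁻¹ = c
          calc i * (i * (c : G) * i⁻¹) * i⁻¹ = (i * i) * c * (i * i)⁻¹ := by group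
            _ = c := by rw [hii, one_mul, inv_one, mul_one])
        map_mul' := fun a b => Subtype.ext (by
          show i * ((a : G) * b) * i⁻¹ = (i * a * i⁻¹) * (i * b * i⁻¹)
          group) }
    have hφ : φ * φ = 1 := by
      ext c
      show i * (i * (c : G) * i⁻¹) * i⁻¹ = c
      calc i * (i * (c : G) * i⁻¹) * i⁻¹ = (i * i) * c * (i * i)⁻¹ := by group
        _ = c := by rw [hii, one_mul, inv_one, mul_one]
    obtain ⟨S₀, hS₀⟩ : ∃ S₀ : Sylow p C, φ • S₀ = S₀ := by
      by_contra h
      push Not at h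
      obtain ⟨S₁⟩ : Nonempty (Sylow p C) := inferInstance
      have h1 : Odd (Nat.card (Sylow p C)) := hCodd.of_dvd_nat
        ((Sylow.card_dvd_index S₁).trans (Subgroup.index_dvd_card _))
      exact Nat.not_even_iff_odd.2 h1 (even_card_of_involutive (f := fun S : Sylow p C => φ • S)
        (fun S => by show φ • φ • S = S; rw [smul_smul, hφ, one_smul]) h)
    set R : Subgroup G := (S₀ : Subgroup C).map C.subtype with hR
    have hRp : IsPGroup p R := S₀.2.map _
    have hRi : ∀ a ∈ R, i * a * i⁻¹ ∈ R := by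
      rintro _ ⟨a, ha, rfl⟩
      refine ⟨φ a, ?_, rfl⟩
      have : φ a ∈ ((φ • S₀ : Sylow p C) : Subgroup C) :=
        Subgroup.smul_mem_pointwise_smul a φ _ ha
      rwa [hS₀] at this
    have hfix : ∀ {R' : Subgroup G}, IsPGroup p R' → ∀ a ∈ R', i * a * i⁻¹ = a → a = 1 := by
      intro R' hR' a ha hfa
      by_contra hane
      obtain ⟨k, hk⟩ := exists_orderOf_eq_pow_of_mem hR' ha
      refine hCi i hi ((dvd_pow_self p (?_ : k ≠ 0)).trans (hk ▸ Subgroup.orderOf_dvd_natCard _
        (mem_centralizer_iff.2 fun y hy => by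
          rw [Set.mem_singleton_iff] at hy
          rw [hy]; exact mul_inv_eq_iff_eq_mul.1 hfa)))
      intro h
      exact hane (orderOf_eq_one_iff.1 (by rw [hk, h, pow_zero]))
    have hRinv := inverted_of_fixedPointFree hi hRi (hfix hRp)
    have hRne : R ≠ ⊥ := by
      rw [hR, Ne, map_eq_bot_iff_of_injective _ C.subtype_injective]
      exact S₀.ne_bot_of_dvd_card hpC
    obtain ⟨g, hg, hg1⟩ := R.bot_or_exists_ne_one.resolve_left hRne
    set K := centralizer ({g} : Set G) with hK
    have hKodd : Odd (Nat.card K) := hCt g hg1 (exists_orderOf_eq_pow_of_mem hRp hg)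
    obtain ⟨P, hP⟩ := (hRp.to_le (zpowers_le.2 hg)).exists_le_sylow
    have hgP : g ∈ (P : Subgroup G) := hP (mem_zpowers g)
    have hcomm := midpoint_sylow_comm hp2 h2p hnd hi P
    have hPK : (P : Subgroup G) ≤ K := fun s hs => mem_centralizer_iff.2 fun y hy => by
      rw [Set.mem_singleton_iff] at hy
      rw [hy]
      exact congrArg Subtype.val (hcomm.is_comm.comm (⟨g, hgP⟩ : (P : Subgroup G)) ⟨s, hs⟩)
    have hzK : z ∈ K := mem_centralizer_iff.2 fun y hy => by
      rw [Set.mem_singleton_iff] at hy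
      obtain ⟨c, -, hc⟩ := hg
      rw [hy, ← hc]
      exact (hmemC.1 c.2).symm
    have hiK : ∀ c ∈ K, i * c * i⁻¹ ∈ K := fun c hc => mem_centralizer_iff.2 fun y hy => by
      rw [Set.mem_singleton_iff] at hy
      rw [hy]
      have h : g⁻¹ * c = c * g⁻¹ :=
        ((show Commute g c from mem_centralizer_iff.1 hc g rfl).inv_left).eq
      have hg' : i⁻¹ * g * i = g⁻¹ := by rw [← hRinv g hg, hi']
      calc g * (i * c * i⁻¹) = i * ((i⁻¹ * g * i) * c) * i⁻¹ := by group
        _ = i * (c * (i⁻¹ * g * i)) * i⁻¹ := by rw [hg', h]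
        _ = i * c * i⁻¹ * g := by group
    have hconj : ∀ a : G, (∀ c ∈ K, a * c * a⁻¹ ∈ K) →
        ∀ s ∈ (P : Subgroup G), a * s * a⁻¹ ∈ (P : Subgroup G) := fun a ha s hs =>
      pgroup_le_sylow hΩ P hcomm hKodd hPK (P.2.map (MulAut.conj a).toMonoidHom)
        (by rintro _ ⟨t, ht, rfl⟩; exact ha t (hPK ht)) ⟨s, hs, rfl⟩
    have hiP := hconj i hiK
    have hzP := hconj z fun c hc => mul_mem (mul_mem hzK hc) (inv_mem hzK)
    have hPinv := inverted_of_fixedPointFree hi hiP (hfix P.2)
    have hzz : z * z ∈ (P : Subgroup G) := sylow_self_centralizing hΩ P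
      (mem_centralizer_iff.2 fun s hs => by
        have hs' : z * s * z⁻¹ ∈ (P : Subgroup G) := hzP s hs
        have h1 : z⁻¹ * s * z = z * s * z⁻¹ := by
          calc z⁻¹ * s * z = z⁻¹ * (i * s⁻¹ * i⁻¹) * z := by rw [hPinv _ (inv_mem hs), inv_inv]
            _ = (i * z * i⁻¹) * (i * s⁻¹ * i⁻¹) * (i * z * i⁻¹)⁻¹ := by rw [hzinv, inv_inv]
            _ = i * (z * s⁻¹ * z⁻¹) * i⁻¹ := by group
            _ = (z * s⁻¹ * z⁻¹)⁻¹ := hPinv _ (by
              simpa [mul_assoc] using inv_mem hs')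
            _ = z * s * z⁻¹ := by group
        calc s * (z * z) = z * (z⁻¹ * s * z) * z := by group
          _ = z * (z * s * z⁻¹) * z := by rw [h1]
          _ = z * z * s := by group) hcomm
    have hzodd : Odd (orderOf z) := by
      have hzC : z ∈ C := hmemC.2 rfl
      exact hCodd.of_dvd_nat (orderOf_dvd_natCard C hzC)
    have hzmem : z ∈ (P : Subgroup G) := by
      obtain ⟨m, hm⟩ := hzodd
      have : (z * z) ^ (m + 1) = z := by
        rw [← sq, ← pow_mul, show 2 * (m + 1) = orderOf z + 1 by omega, pow_succ,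
          pow_orderOf_eq_one, one_mul]
      rw [← this]
      exact pow_mem hzz _
    exact hz1 (sylow_regular hΩ P hcomm hzmem hzγ)
  · -- one class of inverting involutions
    refine hpC ?_
    have hone := (abelian_sylow_one_class hp2 h2p hnd hi).2
    have hdvd := dvd_class_square hnd (hCi i hi) z
    set D := C ⊓ centralizer ({i} : Set G) with hD
    let T := {ab : G × G // IsConj i ab.1 ∧ IsConj i ab.2 ∧ ab.1 * ab.2 = z}
    have hcard : Nat.card T = D.relIndex C := by
      rw [relIndex, index_eq_card]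
      refine (Nat.card_eq_of_bijective (α := C ⧸ D.subgroupOf C) (Quotient.lift (fun c : C =>
        (⟨((c : G) * i * (c : G)⁻¹, (c : G) * j * (c : G)⁻¹), isConj_iff.2 ⟨c, rfl⟩,
          (hone i j hi hj).trans (isConj_iff.2 ⟨c, rfl⟩), by
            show (c : G) * i * (c : G)⁻¹ * ((c : G) * j * (c : G)⁻¹) = z
            calc (c : G) * i * (c : G)⁻¹ * ((c : G) * j * (c : G)⁻¹)
                = (c : G) * z * (c : G)⁻¹ := by rw [hz]; group
              _ = z := by rw [← hmemC.1 c.2, mul_inv_cancel_right]⟩ : T)) ?_) ⟨?_, ?_⟩).symm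
      · intro a b hab
        have h1 : (a : G)⁻¹ * b ∈ D := (QuotientGroup.leftRel_apply (s := D.subgroupOf C)).1 hab
        have h2 := mem_centralizer_iff.1 h1.2 i rfl
        have h3 : j = i * z := by rw [hz, ← mul_assoc, hii, one_mul]
        have h4 : ((a : G)⁻¹ * b) * i * ((a : G)⁻¹ * b)⁻¹ = i := by
          rw [← h2]; group
        have h5 : ((a : G)⁻¹ * b) * z * ((a : G)⁻¹ * b)⁻¹ = z := by
          rw [← hmemC.1 h1.1]; group
        refine Subtype.ext (Prod.ext ?_ ?_)
        · show (a : G) * i * (a : G)⁻¹ = (b : G) * i * (b : G)⁻¹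
          conv_lhs => rw [← h4]
          group
        · show (a : G) * j * (a : G)⁻¹ = (b : G) * j * (b : G)⁻¹
          rw [h3]
          conv_lhs => rw [← h4, ← h5]
          group
      · intro x y
        induction x using QuotientGroup.induction_on with | _ a => ?_
        induction y using QuotientGroup.induction_on with | _ b => ?_
        intro h
        have h1 : (a : G) * i * (a : G)⁻¹ = (b : G) * i * (b : G)⁻¹ :=
          congrArg (fun t : T => t.1.1) h
        refine QuotientGroup.eq.2 ⟨(a⁻¹ * b : C).2, mem_centralizer_iff.2 fun y hy => ?_⟩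
        rw [Set.mem_singleton_iff] at hy
        rw [hy]
        show i * ((a : G)⁻¹ * b) = (a : G)⁻¹ * b * i
        calc i * ((a : G)⁻¹ * b) = (a : G)⁻¹ * ((a : G) * i * (a : G)⁻¹) * b := by group
          _ = (a : G)⁻¹ * b * i := by rw [h1]; group
      · rintro ⟨⟨a, b⟩, ha, hb, hab⟩
        have ho : ∀ {w : G}, IsConj i w → orderOf w = 2 := fun {w} hw => by
          obtain ⟨t, rfl⟩ := isConj_iff.1 hw
          rw [← hi]; exact MulEquiv.orderOf_eq (MulAut.conj t) i
        have hab' : a * b = z := hab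
        have haa := inv_eq_self_of_orderOf_two (ho ha)
        have hbb := inv_eq_self_of_orderOf_two (ho hb)
        have hainv : a * z * a⁻¹ = z⁻¹ := by
          rw [← hab', mul_inv_rev, haa, hbb, ← mul_assoc a a b,
            show a * a = 1 by rw [← sq, ← ho ha, pow_orderOf_eq_one], one_mul]
        have hia : i * a ∈ C := hmemC.2 (by
          calc z * (i * a) = i * ((i⁻¹ * z * i) * a) := by group
            _ = i * (z⁻¹ * a) := by rw [show i⁻¹ * z * i = z⁻¹ by rw [← hzinv, hi']]
            _ = i * a * z := by rw [← hainv]; group)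
        obtain ⟨d, hd, hdi⟩ := exists_conj_of_coset hCodd hi (ho ha) hia
        refine ⟨((⟨d, hd⟩ : C) : C ⧸ D.subgroupOf C), Subtype.ext (Prod.ext hdi ?_)⟩
        show d * j * d⁻¹ = b
        calc d * j * d⁻¹ = (d * i * d⁻¹)⁻¹ * (d * z * d⁻¹) := by rw [hz]; group
          _ = a⁻¹ * z := by rw [hdi, ← hmemC.1 hd, mul_inv_cancel_right]
          _ = b := by rw [← hab', inv_mul_cancel_left]
    rw [show Nat.card T = D.relIndex C from hcard] at hdvd
    exact hdvd.trans (relIndex_dvd_card _ _)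

include hp hp2 h2p hnd hΩ in
/-- Two involutions with the same fixed point are equal. -/
theorem eq_of_fixed_eq {i j : G} (hi : orderOf i = 2) (hj : orderOf j = 2) {β : Ω}
    (hiβ : i • β = β) (hjβ : j • β = β) : i = j := by
  classical
  refine FaithfulSMul.eq_of_smul_eq_smul fun γ : Ω => ?_
  by_cases hβγ : γ = β
  · rw [hβγ, hiβ, hjβ]
  have hex : ∀ δ : Ω, ∃ e : G, orderOf e = 2 ∧ e • δ = δ := fun δ => by
    obtain ⟨g, hg⟩ := MulAction.exists_smul_eq G β δ
    exact ⟨g * i * g⁻¹, by rw [← hi]; exact MulEquiv.orderOf_eq (MulAut.conj g) i, by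
      rw [← hg, mul_smul, mul_smul, inv_smul_smul, hiβ]⟩
  choose e he hef using hex
  have hmove : ∀ {x : G} {δ : Ω}, orderOf x = 2 → x • δ = δ → δ ≠ γ → x • γ ≠ γ :=
    fun {x δ} hx hxδ hne h => hne ((existsUnique_fixed hp2 h2p hnd hΩ hx).unique hxδ h)
  let f : {δ : Ω // δ ≠ γ} → {δ : Ω // δ ≠ γ} := fun δ =>
    ⟨e δ.1 • γ, hmove (he δ.1) (hef δ.1) δ.2⟩
  have hfinj : Function.Injective f := fun a b hab => by
    by_contra hne
    exact smul_ne_smul_of_fixed_ne hp2 h2p hnd hΩ (he a.1) (he b.1) (hef a.1) (hef b.1)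
      (fun h => hne (Subtype.ext h)) γ (congrArg Subtype.val hab)
  have key : ∀ {x : G}, orderOf x = 2 → x • β = β → x • γ = e β • γ := fun {x} hx hxβ => by
    obtain ⟨δ, hδ⟩ := (Finite.injective_iff_surjective.1 hfinj)
      ⟨x • γ, hmove hx hxβ (Ne.symm hβγ)⟩
    have hδ' : e δ.1 • γ = x • γ := congrArg Subtype.val hδ
    by_cases h : δ.1 = β
    · rw [← h, hδ']
    · exact absurd hδ' (smul_ne_smul_of_fixed_ne hp2 h2p hnd hΩ (he δ.1) hx (hef δ.1) hxβ h γ)
  rw [key hi hiβ, key hj hjβ]

include hp hp2 h2p hnd hΩ in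
/-- The Sylow subgroup is normal. -/
theorem sylow_normal (hpG : p ∣ Nat.card G) {i : G} (hi : orderOf i = 2) (P : Sylow p G) :
    (P : Subgroup G).Normal := by
  classical
  have hfix := fun {x : G} (hx : orderOf x = 2) => existsUnique_fixed hp2 h2p hnd hΩ hx
  obtain ⟨α, hα, hαu⟩ := hfix hi
  have hiso : IsIsolatedInvolution i := ⟨hi, fun g hg => by
    have hk : orderOf (g * i * g⁻¹) = 2 := by
      rw [← hi]; exact MulEquiv.orderOf_eq (MulAut.conj g) i
    have hkα : (g * i * g⁻¹) • α = α := hαu _ (by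
      show i • (g * i * g⁻¹) • α = (g * i * g⁻¹) • α
      rw [smul_smul, hg.eq, mul_smul, hα])
    exact eq_of_fixed_eq hp2 h2p hnd hΩ hk hi hkα hα⟩
  have hcomm := midpoint_sylow_comm hp2 h2p hnd hi P
  have hPne : (P : Subgroup G) ≠ ⊥ := P.ne_bot_of_dvd_card hpG
  set O := oddCore G with hO
  have hOne : O ≠ ⊥ := by
    intro h
    have hc := Subgroup.mem_center_iff.1 (Cfsg.Lib.ZStar.mem_center_of_isolated h hiso)
    obtain ⟨s, hs, hs1⟩ := (P : Subgroup G).bot_or_exists_ne_one.resolve_left hPne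
    refine hs1 (sylow_regular hΩ P hcomm hs (α := α) (hαu _ ?_))
    show i • s • α = s • α
    rw [smul_smul, ← hc s, mul_smul, hα]
  haveI hOn : O.Normal := by rw [hO]; infer_instance
  have hOodd : Odd (Nat.card O) := Cfsg.Lib.ZStar.odd_card_oddCore
  set K : Subgroup G := (P : Subgroup G) ⊔ O with hK
  have hKodd : Odd (Nat.card K) := by
    obtain ⟨k, hk⟩ := P.2.exists_card_eq
    have h : Nat.card K = Nat.card O * O.relIndex K := by
      rw [← relIndex_bot_left, ← relIndex_bot_left, relIndex_mul_relIndex _ _ _ bot_le le_sup_right]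
    rw [h, hK, relIndex_sup_right]
    refine hOodd.mul (Odd.of_dvd_nat ?_ (relIndex_dvd_card _ _))
    rw [hk]
    exact (hp.out.odd_of_ne_two hp2).pow
  have hPK : (P : Subgroup G) ≤ K := le_sup_left
  set A := O ⊓ (P : Subgroup G) with hA
  have hAn : A.Normal := ⟨fun a ha g => by
    have hmemO : g * a * g⁻¹ ∈ O := hOn.conj_mem a ha.1 g
    refine ⟨hmemO, pgroup_le_sylow hΩ P hcomm hKodd hPK
      ((P.2.to_le (inf_le_right : A ≤ P)).map (MulAut.conj g).toMonoidHom) ?_ ⟨a, ha, rfl⟩⟩
    rintro _ ⟨t, ht, rfl⟩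
    exact (le_sup_right : O ≤ K) (hOn.conj_mem t ht.1 g)⟩
  have hAne : A ≠ ⊥ := by
    intro h
    apply hOne
    have hOP : ∀ x ∈ O, ∀ s ∈ (P : Subgroup G), s * x = x * s := by
      intro x hx s hs
      have hsx : s * x * s⁻¹ * x⁻¹ ∈ O := mul_mem (hOn.conj_mem x hx s) (inv_mem hx)
      have hsx' : s * x * s⁻¹ * x⁻¹ ∈ (P : Subgroup G) := by
        have : x * s⁻¹ * x⁻¹ ∈ (P : Subgroup G) :=
          pgroup_le_sylow hΩ P hcomm hKodd hPK (P.2.map (MulAut.conj x).toMonoidHom)
            (by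
              rintro _ ⟨t, ht, rfl⟩
              exact mul_mem (mul_mem ((le_sup_right : O ≤ K) hx) (hPK ht))
                (inv_mem ((le_sup_right : O ≤ K) hx)))
            ⟨s⁻¹, inv_mem hs, rfl⟩
        simpa [mul_assoc] using mul_mem hs this
      have hmem : s * x * s⁻¹ * x⁻¹ ∈ A := ⟨hsx, hsx'⟩
      rw [h, mem_bot, mul_inv_eq_one, mul_inv_eq_iff_eq_mul] at hmem
      exact hmem
    refine eq_bot_iff.2 fun x hx => mem_bot.2 ?_
    have hxP : x ∈ (P : Subgroup G) := sylow_self_centralizing hΩ P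
      (mem_centralizer_iff.2 fun s hs => hOP x hx s hs) hcomm
    exact mem_bot.1 (h ▸ (⟨hx, hxP⟩ : x ∈ A))
  obtain ⟨a, ha, ha1⟩ := A.bot_or_exists_ne_one.resolve_left hAne
  set C := centralizer (A : Set G) with hC
  haveI hCn : C.Normal := inferInstance
  have hCodd : Odd (Nat.card C) :=
    ((centralizers_of_no_two_p hp2 h2p).2 a ha1 (exists_orderOf_eq_pow_of_mem P.2 ha.2)).of_dvd_nat
      (card_dvd_of_le (centralizer_le (Set.singleton_subset_iff.2 ha)))
  have hPC : (P : Subgroup G) ≤ C := fun s hs => mem_centralizer_iff.2 fun t ht =>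
    congrArg Subtype.val (hcomm.is_comm.comm (⟨t, ht.2⟩ : (P : Subgroup G)) ⟨s, hs⟩)
  exact ⟨fun s hs g => pgroup_le_sylow hΩ P hcomm hCodd hPC
    (P.2.map (MulAut.conj g).toMonoidHom)
    (by rintro _ ⟨t, ht, rfl⟩; exact hCn.conj_mem t (hPC ht) g) ⟨s, hs, rfl⟩⟩

include hp hp2 h2p hnd hΩ in
/-- There is a character of `2`-defect zero. -/
theorem hasDefectZero_two_of_normal (hpG : p ∣ Nat.card G) {i : G} (hi : orderOf i = 2)
    (P : Sylow p G) : HasDefectZero 2 G := by
  classical
  haveI hPn := sylow_normal hp2 h2p hnd hΩ hpG hi P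
  haveI : Fintype (P : Subgroup G) := Fintype.ofFinite _
  have hcomm := midpoint_sylow_comm hp2 h2p hnd hi P
  set H : Subgroup G := (P : Subgroup G) with hH
  obtain ⟨s, hs, hs1⟩ := H.bot_or_exists_ne_one.resolve_left (P.ne_bot_of_dvd_card hpG)
  obtain ⟨θ, hθs⟩ : ∃ θ : IrrCharacter H, (θ : H → ℂ) ⟨s, hs⟩ ≠ (θ : H → ℂ) 1 := by
    by_contra hcon
    push Not at hcon
    have h1 := Char.sum_degree_mul (G := H) ⟨s, hs⟩
    rw [if_neg (fun h => hs1 (congrArg Subtype.val h))] at h1
    have h2 := Char.sum_degree_mul (G := H) 1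
    rw [if_pos rfl] at h2
    simp only [hcon] at h1
    exact Char.card_cast_ne_zero (G := H) (h2.symm.trans h1)
  have hlin : (θ : H → ℂ) 1 = 1 :=
    Char.degree_eq_one_of_comm (fun a b => hcomm.is_comm.comm a b) θ.2
  obtain ⟨l, hl⟩ := Char.exists_hom_of_degree_one θ.2.isCharacter hlin
  have hI : Odd (Nat.card (Char.inertia H (θ : H → ℂ))) := by
    rw [← Nat.not_even_iff_odd, even_iff_two_dvd]
    intro hd
    obtain ⟨w, hw⟩ := exists_prime_orderOf_dvd_card' 2 hd
    have hw2 : orderOf (w : G) = 2 := by rw [Subgroup.orderOf_coe, hw]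
    have hwm := (Char.mem_inertia_iff H).1 w.2
    have hinv : ∀ h : H, (w : G) * h * (w : G)⁻¹ = (h : G)⁻¹ := by
      obtain ⟨Q, -, hQ⟩ := exists_sylow_inverted_of_no_defectZero hp2 h2p hnd hw2
      intro h
      refine hQ h ?_
      haveI : Subsingleton (Sylow p G) := (Sylow.unique_of_normal P hPn).instSubsingleton
      rw [Subsingleton.elim Q P]
      exact h.2
    have key : ∀ h : H, (θ : H → ℂ) h⁻¹ = (θ : H → ℂ) h := fun h => by
      have := hwm h
      convert this using 2
      apply Subtype.ext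
      simp only [coe_inv]
      first
        | exact (hinv h).symm
        | (rw [← hinv h, inv_eq_self_of_orderOf_two hw2])
    apply hθs
    have h1 := key ⟨s, hs⟩
    rw [hl] at h1
    replace h1 : ((l ⟨s, hs⟩⁻¹ : ℂˣ) : ℂ) = (l ⟨s, hs⟩ : ℂ) := h1
    rw [map_inv] at h1
    have h2 : l ⟨s, hs⟩ * l ⟨s, hs⟩ = 1 :=
      mul_eq_one_iff_eq_inv.2 (Units.ext h1).symm
    have h3 : Odd (orderOf (⟨s, hs⟩ : H)) := by
      obtain ⟨k, hk⟩ := exists_orderOf_eq_pow_of_mem P.2 hs
      rw [Subgroup.orderOf_mk, hk]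
      exact (hp.out.odd_of_ne_two hp2).pow
    obtain ⟨m, hm⟩ := h3
    have h4 : l ⟨s, hs⟩ = 1 := by
      have h5 : l ⟨s, hs⟩ ^ (2 * m + 1) = 1 := by
        rw [← map_pow, ← hm, pow_orderOf_eq_one, map_one]
      rwa [pow_succ, pow_mul, sq, h2, one_pow, one_mul] at h5
    rw [hl]
    show (l ⟨s, hs⟩ : ℂ) = (l 1 : ℂ)
    rw [h4, map_one]
  obtain ⟨χ, hχ⟩ := Char.exists_constituent (Char.isCharacter_indFun H θ.2.isCharacter)
    (by rw [Char.indFun_apply_one, hlin, mul_one]; exact_mod_cast index_ne_zero_of_finite)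
  have hres : classInner (fun x : H => (χ : G → ℂ) x) (θ : H → ℂ) ≠ 0 := by
    rw [Char.classInner_indFun H _ χ.2.isClassFunction] at hχ
    intro h
    apply hχ
    rw [← Char.classInner_conj_symm, h, map_zero]
  obtain ⟨n, hn⟩ := (χ.2.isCharacter.comp H.subtype).exists_nat_classInner θ.2.isCharacter
  have hdeg := Char.clifford_degree H χ.2 θ.2 hres
  rw [hlin, mul_one, show classInner (fun x : H => (χ : G → ℂ) x) (θ : H → ℂ) = n from hn,
    apply_one_eq_charDegree χ] at hdeg
  have hdeg' : charDegree (χ : G → ℂ) = n * (Char.inertia H (θ : H → ℂ)).index := by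
    exact_mod_cast hdeg
  refine ⟨χ, le_antisymm ((Nat.factorization_le_iff_dvd (charDegree_pos χ).ne'
    Nat.card_pos.ne').2 (charDegree_dvd_card χ) 2) ?_⟩
  have hn0 : n ≠ 0 := fun h => (charDegree_pos χ).ne' (by rw [hdeg', h, zero_mul])
  rw [hdeg', ← Subgroup.card_mul_index (Char.inertia H (θ : H → ℂ)),
    Nat.factorization_mul hn0 index_ne_zero_of_finite,
    Nat.factorization_mul Nat.card_pos.ne' index_ne_zero_of_finite, Finsupp.add_apply,
    Finsupp.add_apply, Nat.factorization_eq_zero_of_not_dvd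
      (fun h => Nat.not_even_iff_odd.2 hI (even_iff_two_dvd.2 h)), zero_add]
  exact Nat.le_add_left _ _

end Cfsg.Lib.Block
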