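import Cfsg.Agent.Lib.Block.BlockModules
import Cfsg.Agent.Lib.Block.BlockSimpleDegree
import Cfsg.Agent.Lib.Block.BlockDimension
import Cfsg.Agent.Lib.Block.GreenPoints
import Cfsg.Agent.Lib.Block.BrauerPairs
import Cfsg.Agent.Lib.Local.Isolated.PrimePowerIndex

/-!
# Blocks of smallest possible dimension

Let `S` be a Sylow subgroup.  If the dimension of a block is the smallest possible, then as a
module for `S × S` the block is the permutation module on one double coset of `S`.  It follows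
that elements of `S` which are conjugate in `G` and lie in subpairs of the block are conjugate in
`S`, so an element of order prime to `p` normalizing such a subgroup centralizes it.
-/

set_option autoImplicit false
set_option linter.unusedSectionVars false
set_option maxHeartbeats 1000000

namespace Cfsg.Lib.Block

open Cfsg Module
open scoped MonoidAlgebra

universe u

variable {p : ℕ} [Fact p.Prime] {M : Ideal AlgInt} {G : Type u} [Group G] [Fintype G]
  (hM : IsPModular p M) {B : Set (IrrCharacter G)}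

/-- A double coset of a subgroup. -/
def dcSet (S : Subgroup G) (g : G) : Set G := {y | ∃ s ∈ S, ∃ t ∈ S, s * g * t = y}

theorem self_mem_dcSet (S : Subgroup G) (g : G) : g ∈ dcSet S g :=
  ⟨1, one_mem S, 1, one_mem S, by simp⟩

theorem dcSet_mul_iff {S : Subgroup G} {s t : G} (hs : s ∈ S) (ht : t ∈ S) (g y : G) :
    s * y * t ∈ dcSet S g ↔ y ∈ dcSet S g := by
  constructor
  · rintro ⟨a, ha, c, hc, e⟩
    refine ⟨s⁻¹ * a, mul_mem (inv_mem hs) ha, c * t⁻¹, mul_mem hc (inv_mem ht), ?_⟩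
    calc s⁻¹ * a * g * (c * t⁻¹) = s⁻¹ * (a * g * c) * t⁻¹ := by group
      _ = y := by rw [e]; group
  · rintro ⟨a, ha, c, hc, rfl⟩
    exact ⟨s * a, mul_mem hs ha, c * t, mul_mem hc ht, by group⟩

theorem dcSet_eq_of_mem {S : Subgroup G} {g y : G} (hy : y ∈ dcSet S g) :
    dcSet S y = dcSet S g := by
  obtain ⟨s, hs, t, ht, rfl⟩ := hy
  ext z
  constructor
  · rintro ⟨a, ha, c, hc, rfl⟩
    exact (dcSet_mul_iff ha hc g _).2 ((dcSet_mul_iff hs ht g g).2 (self_mem_dcSet S g))
  · rintro ⟨a, ha, c, hc, rfl⟩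
    exact ⟨a * s⁻¹, mul_mem ha (inv_mem hs), t⁻¹ * c, mul_mem (inv_mem ht) hc, by group⟩

/-- The elements of `S` moved into `S` by `g`. -/
def dcStab (S : Subgroup G) (g : G) : Subgroup G := S ⊓ S.comap (MulAut.conj g).toMonoidHom

theorem mem_dcStab {S : Subgroup G} {g t : G} : t ∈ dcStab S g ↔ t ∈ S ∧ g * t * g⁻¹ ∈ S := by
  simp [dcStab]

theorem card_dcSet_mul (S : Subgroup G) (g : G) :
    Nat.card (dcSet S g) * Nat.card (dcStab S g) = Nat.card S * Nat.card S := by
  classical
  rw [← Nat.card_prod, ← Nat.card_prod]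
  have hch : ∀ y : dcSet S g, ∃ st : S × S, (st.1 : G) * g * st.2 = y := fun y => by
    obtain ⟨s, hs, t, ht, e⟩ := y.2
    exact ⟨(⟨s, hs⟩, ⟨t, ht⟩), e⟩
  choose st hst using hch
  refine Nat.card_congr (Equiv.ofBijective
    (fun yr : dcSet S g × dcStab S g =>
      ((⟨((st yr.1).1 : G) * (g * (yr.2 : G) * g⁻¹),
          mul_mem (st yr.1).1.2 (mem_dcStab.1 yr.2.2).2⟩ : S),
        (⟨(yr.2 : G)⁻¹ * ((st yr.1).2 : G),
          mul_mem (inv_mem (mem_dcStab.1 yr.2.2).1) (st yr.1).2.2⟩ : S))) ⟨?_, ?_⟩)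
  · rintro ⟨y, r⟩ ⟨y', r'⟩ h
    simp only [Prod.mk.injEq, Subtype.mk.injEq] at h
    obtain ⟨h1, h2⟩ := h
    have hy : y = y' := Subtype.ext (by
      rw [← hst y, ← hst y']
      calc ((st y).1 : G) * g * (st y).2
          = ((st y).1 : G) * (g * (r : G) * g⁻¹) * g * ((r : G)⁻¹ * (st y).2) := by group
        _ = ((st y').1 : G) * (g * (r' : G) * g⁻¹) * g * ((r' : G)⁻¹ * (st y').2) := by rw [h1, h2]
        _ = _ := by group)
    subst hy
    exact Prod.ext rfl (Subtype.ext (inv_injective (mul_right_cancel h2)))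
  · rintro ⟨s, t⟩
    obtain ⟨y, hy⟩ : ∃ y : dcSet S g, (s : G) * g * t = y :=
      ⟨⟨_, ⟨s, s.2, t, t.2, rfl⟩⟩, rfl⟩
    have e := hst y
    rw [← hy] at e
    obtain ⟨s', hs'⟩ : ∃ s' : S, (st y).1 = s' := ⟨_, rfl⟩
    obtain ⟨t', ht'⟩ : ∃ t' : S, (st y).2 = t' := ⟨_, rfl⟩
    rw [hs', ht'] at e
    have e' : g * ((t' : G) * (t : G)⁻¹) * g⁻¹ = (s' : G)⁻¹ * s := by
      calc g * ((t' : G) * (t : G)⁻¹) * g⁻¹
          = (s' : G)⁻¹ * ((s' : G) * g * t') * (t : G)⁻¹ * g⁻¹ := by group
        _ = _ := by rw [e]; group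
    refine ⟨(y, ⟨(t' : G) * (t : G)⁻¹,
      mem_dcStab.2 ⟨mul_mem t'.2 (inv_mem t.2), e' ▸ mul_mem (inv_mem s'.2) s.2⟩⟩),
      Prod.ext (Subtype.ext ?_) (Subtype.ext ?_)⟩
    · show ((st y).1 : G) * (g * ((t' : G) * (t : G)⁻¹) * g⁻¹) = s
      rw [hs', e', mul_inv_cancel_left]
    · show ((t' : G) * (t : G)⁻¹)⁻¹ * ((st y).2 : G) = t
      rw [ht']
      group

/-- The twisted two-sided action. -/
@[reducible] def twistAct (Q : Subgroup G) (x : G) : MulAction Q G where
  smul q y := x * (q : G) * x⁻¹ * y * (q : G)⁻¹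
  one_smul y := by
    show x * ((1 : Q) : G) * x⁻¹ * y * ((1 : Q) : G)⁻¹ = y
    simp
  mul_smul q r y := by
    show x * ((q * r : Q) : G) * x⁻¹ * y * ((q * r : Q) : G)⁻¹ =
      x * (q : G) * x⁻¹ * (x * (r : G) * x⁻¹ * y * (r : G)⁻¹) * (q : G)⁻¹
    rw [Subgroup.coe_mul]
    group

theorem twist_fixed_iff {x q y : G} : x * q * x⁻¹ * y * q⁻¹ = y ↔ Commute (x⁻¹ * y) q := by
  rw [commute_iff_eq, mul_inv_eq_iff_eq_mul]
  constructor <;> intro h
  · calc x⁻¹ * y * q = x⁻¹ * (y * q) := by group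
      _ = x⁻¹ * (x * q * x⁻¹ * y) := by rw [h]
      _ = _ := by group
  · calc x * q * x⁻¹ * y = x * (q * (x⁻¹ * y)) := by group
      _ = x * (x⁻¹ * y * q) := by rw [h]
      _ = _ := by group

include hM in
/-- A subgroup centralized by an element with nonzero idempotent coefficient is small. -/
theorem card_le_of_coeff (hB : IsPBlock M B) {D : Subgroup G} (hD : IsDefectGroup p M B D)
    {R : Subgroup G} (hR : IsPGroup p R) {c : G} (hc : ∀ r ∈ R, Commute c r)
    (hcB : (blkA hM B).coeff c ≠ 0) : Nat.card R ≤ p ^ blockDefect p B := by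
  classical
  have hco : ¬ MemLocalIdeal M (blockCoeff B c) := fun h => hcB (by
    rw [blkA, coeff_cV, zc_indVec, res_eq_zero_iff hM (blockCoeff_mem_locRing hM hB c)]
    exact h)
  obtain ⟨x, hx⟩ := (exists_coeff_iff_conj_le hM hB hD hR).1
    ⟨c, Subgroup.mem_centralizer_iff.2 fun r hr => (hc r hr).eq.symm, hco⟩
  have h := Nat.le_of_dvd Nat.card_pos (Subgroup.card_dvd_of_le hx)
  rwa [Subgroup.card_map_of_injective (MulAut.conj x).injective, card_defectGroup hM hB hD] at h

theorem coeff_blkA_conj (B : Set (IrrCharacter G)) (g x : G) :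
    (blkA hM B).coeff (x * g * x⁻¹) = (blkA hM B).coeff g := by
  rw [blkA, coeff_cV, coeff_cV, zc_conj_invariant]

/-- Vectors supported on a set. -/
noncomputable def suppOn (hM : IsPModular p M) (O : Set G) :
    Submodule (resField hM) (KGA hM G) where
  carrier := {x | ∀ y, y ∉ O → x.coeff y = 0}
  zero_mem' := fun y _ => by simp
  add_mem' := fun {a b} ha hb y hy => by
    rw [MonoidAlgebra.coeff_add, Finsupp.add_apply, ha y hy, hb y hy, add_zero]
  smul_mem' := fun c a ha y hy => by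
    rw [MonoidAlgebra.coeff_smul, Finsupp.smul_apply, ha y hy, smul_zero]

theorem mem_suppOn {O : Set G} {x : KGA hM G} :
    x ∈ suppOn hM O ↔ ∀ y, y ∉ O → x.coeff y = 0 := Iff.rfl

theorem card_le_finrank_suppOn (O : Set G) :
    Nat.card O ≤ finrank (resField hM) (suppOn hM O) := by
  classical
  haveI := Fintype.ofFinite O
  have hlin : LinearIndependent (resField hM) (fun y : O =>
      (⟨MonoidAlgebra.single (y : G) 1, fun z hz => by
        show (MonoidAlgebra.single (y : G) (1 : resField hM)).coeff z = 0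
        rw [MonoidAlgebra.coeff_single, Finsupp.single_eq_of_ne (fun h => hz (by simp [h]))]⟩ :
          suppOn hM O)) := by
    rw [Fintype.linearIndependent_iff]
    intro c hc y
    have h := congrArg (fun v : suppOn hM O => (v : KGA hM G).coeff (y : G)) hc
    simp only [AddSubmonoidClass.coe_finset_sum, SetLike.val_smul, ZeroMemClass.coe_zero,
      MonoidAlgebra.coeff_sum, Finsupp.finset_sum_apply, MonoidAlgebra.coeff_smul,
      Finsupp.smul_apply, MonoidAlgebra.coeff_single, MonoidAlgebra.coeff_zero,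
      Finsupp.coe_zero, Pi.zero_apply] at h
    rw [Finset.sum_eq_single y (fun z _ hz => by
      rw [Finsupp.single_eq_of_ne fun e => hz (Subtype.ext e.symm), smul_zero]) (by simp)] at h
    simpa using h
  rw [Nat.card_eq_fintype_card]
  exact hlin.fintype_card_le_finrank

/-- An invariant nonzero subspace has a nonzero vector with bi-invariant coefficients. -/
theorem exists_biinvariant {S : Subgroup G} (hS : IsPGroup p S)
    (W : Submodule (resField hM) (KGA hM G)) (hW : W ≠ ⊥)
    (hinv : ∀ s ∈ S, ∀ t ∈ S, ∀ x ∈ W,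
      MonoidAlgebra.single s 1 * x * MonoidAlgebra.single t 1 ∈ W) :
    ∃ v ∈ W, v ≠ 0 ∧ ∀ s ∈ S, ∀ t ∈ S, ∀ y, v.coeff (s * y * t) = v.coeff y := by
  classical
  haveI : Nontrivial W := Submodule.nontrivial_iff_ne_bot.2 hW
  let ρ : ↥S × ↥S →* Module.End (resField hM) W :=
    { toFun := fun st =>
        { toFun := fun x => ⟨MonoidAlgebra.single (st.1 : G) 1 * (x : KGA hM G) *
            MonoidAlgebra.single (st.2 : G)⁻¹ 1,
            hinv _ st.1.2 _ (inv_mem st.2.2) x x.2⟩
          map_add' := fun x y => Subtype.ext (by simp [mul_add, add_mul])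
          map_smul' := fun c x => Subtype.ext (by simp) }
      map_one' := LinearMap.ext fun x => Subtype.ext (by
        simp [← MonoidAlgebra.one_def])
      map_mul' := fun a b => LinearMap.ext fun x => Subtype.ext (by
        show MonoidAlgebra.single ((a * b).1 : G) 1 * (x : KGA hM G) *
          MonoidAlgebra.single ((a * b).2 : G)⁻¹ 1 = MonoidAlgebra.single (a.1 : G) 1 *
            (MonoidAlgebra.single (b.1 : G) 1 * (x : KGA hM G) *
              MonoidAlgebra.single (b.2 : G)⁻¹ 1) * MonoidAlgebra.single (a.2 : G)⁻¹ 1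
        rw [Prod.fst_mul, Prod.snd_mul, Subgroup.coe_mul, Subgroup.coe_mul, mul_inv_rev]
        simp only [← mul_assoc, MonoidAlgebra.single_mul_single, mul_one]
        rw [mul_assoc _ (MonoidAlgebra.single (b.2 : G)⁻¹ 1), MonoidAlgebra.single_mul_single,
          mul_one]) }
  obtain ⟨v, hv0, hv⟩ := Cfsg.Lib.Local.Isolated.exists_ne_zero_fixed (t := p) ρ
    (T := (⊤ : Subgroup (↥S × ↥S))) (by
      obtain ⟨n, hn⟩ := IsPGroup.iff_card.1 hS
      exact IsPGroup.of_card (n := n + n) (by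
        rw [Subgroup.card_top, Nat.card_prod, hn, pow_add]))
  refine ⟨v, v.2, fun h => hv0 (Subtype.ext h), fun s hs t ht y => ?_⟩
  have h := congrArg (fun w : W => (w : KGA hM G).coeff (s * y * t))
    (hv (⟨s, hs⟩, ⟨t⁻¹, inv_mem ht⟩) trivial)
  refine Eq.trans h.symm ?_
  show (MonoidAlgebra.single s 1 * (v : KGA hM G) * MonoidAlgebra.single (t⁻¹)⁻¹ 1).coeff
    (s * y * t) = _
  rw [inv_inv, coeff_mul_single', coeff_single_mul']
  congr 1
  group

/-- A two-sided invariant sum only sees the fixed points. -/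
theorem exists_fixed_term {Q : Subgroup G} (hQ : IsPGroup p Q) {x z : G} {f : G → resField hM}
    (hf : ∀ q ∈ Q, ∀ y, f (x * q * x⁻¹ * y * q⁻¹) = f y)
    (hz : ∀ q ∈ Q, Commute (x⁻¹ * z) q)
    (h : ∑ y, f y * (blkA hM B).coeff (y⁻¹ * z) ≠ 0) :
    ∃ y, f y * (blkA hM B).coeff (y⁻¹ * z) ≠ 0 ∧ ∀ q ∈ Q, Commute (x⁻¹ * y) q := by
  classical
  letI : MulAction Q G := twistAct Q x
  have hsm : ∀ (q : Q) (y : G), q • y = x * (q : G) * x⁻¹ * y * (q : G)⁻¹ := fun _ _ => rfl
  rw [sum_eq_sum_fixed_of_pgroup hQ _ fun q y => ?_] at h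
  · obtain ⟨y, hy, hne⟩ := Finset.exists_ne_zero_of_sum_ne_zero h
    refine ⟨y, hne, fun q hq => twist_fixed_iff.1 ?_⟩
    have := (Finset.mem_filter.1 hy).2 ⟨q, hq⟩
    rwa [hsm] at this
  · rw [hsm, hf q q.2 y]
    congr 1
    have e : x * (q : G) * x⁻¹ * z * (q : G)⁻¹ = z := twist_fixed_iff.2 (hz q q.2)
    have e2 : (x * (q : G) * x⁻¹ * y * (q : G)⁻¹)⁻¹ * z = (q : G) * (y⁻¹ * z) * (q : G)⁻¹ := by
      calc (x * (q : G) * x⁻¹ * y * (q : G)⁻¹)⁻¹ * z
          = (x * (q : G) * x⁻¹ * y * (q : G)⁻¹)⁻¹ * (x * (q : G) * x⁻¹ * z * (q : G)⁻¹) := by rw [e]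
        _ = _ := by group
    rw [e2, coeff_blkA_conj]

variable {S : Subgroup G}

include hM in
open Classical in
/-- A nonzero entry between two double cosets with equally large stabilizers. -/
theorem exists_entry (hB : IsPBlock M B) (hS : IsPGroup p S) :
    ∃ y₀ y₁ : G, (∑ y, (if y ∈ dcSet S y₁ then (1 : resField hM) else 0) *
        (blkA hM B).coeff (y⁻¹ * y₀)) ≠ 0 ∧
      (∀ r ∈ dcStab S y₀, Commute (y₀⁻¹ * y₁) r) ∧
      (blkA hM B).coeff (y₁⁻¹ * y₀) ≠ 0 ∧
      Nat.card (dcSet S y₁) = Nat.card (dcSet S y₀) := by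
  have hcomm : ∀ w, Commute (blkA hM B) w := fun w => cV_commute hM (indVec B) w
  have hne : blkPart hM (B := B) ≠ ⊥ := fun h => blkA_ne_zero hM hB (by
    have := (mem_blkPart hM hB).2 (blkA_idem hM hB).eq
    rwa [h, Submodule.mem_bot] at this)
  obtain ⟨v, hvB, hv0, hv⟩ := exists_biinvariant hM hS _ hne fun s _ t _ x hx => by
    rw [mem_blkPart hM hB] at hx ⊢
    rw [← mul_assoc, ← mul_assoc, (hcomm _).eq, mul_assoc _ (blkA hM B), hx]
  have hexp : ∀ z, v.coeff z = ∑ y, v.coeff y * (blkA hM B).coeff (y⁻¹ * z) := by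
    intro z
    rw [← coeff_mul_sum, ← (hcomm v).eq, (mem_blkPart hM hB).1 hvB]
  obtain ⟨y₀, hy₀, hmin⟩ := Finset.exists_min_image (Finset.univ.filter fun y => v.coeff y ≠ 0)
    (fun y => Nat.card (dcSet S y)) (by
      by_contra h
      refine hv0 (MonoidAlgebra.ext (Finsupp.ext fun y => ?_))
      rw [Finset.not_nonempty_iff_eq_empty, Finset.filter_eq_empty_iff] at h
      simpa using h (Finset.mem_univ y))
  have hsum := hexp y₀
  rw [← Finset.sum_fiberwise Finset.univ (fun y => dcSet S y)] at hsum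
  obtain ⟨O, -, hO⟩ := Finset.exists_ne_zero_of_sum_ne_zero
    (hsum ▸ (Finset.mem_filter.1 hy₀).2)
  obtain ⟨w, hw, hw0⟩ := Finset.exists_ne_zero_of_sum_ne_zero hO
  have hwO : dcSet S w = O := (Finset.mem_filter.1 hw).2
  set F : G → resField hM := fun y => if y ∈ dcSet S w then 1 else 0 with hF
  have hε : ∑ y, F y * (blkA hM B).coeff (y⁻¹ * y₀) ≠ 0 := by
    intro h
    refine hO ?_
    have e : ∀ y ∈ Finset.univ.filter (fun y => dcSet S y = O),
        v.coeff y * (blkA hM B).coeff (y⁻¹ * y₀) =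
          v.coeff w * (F y * (blkA hM B).coeff (y⁻¹ * y₀)) := by
      intro y hy
      have hyw : y ∈ dcSet S w := by
        rw [hwO, ← (Finset.mem_filter.1 hy).2]
        exact self_mem_dcSet S y
      obtain ⟨s, hs, t, ht, rfl⟩ := hyw
      rw [hv s hs t ht, hF]
      simp only [if_pos ((dcSet_mul_iff hs ht w w).2 (self_mem_dcSet S w)), one_mul]
    rw [Finset.sum_congr rfl e, ← Finset.mul_sum, Finset.sum_filter]
    have e2 : (∑ y, if dcSet S y = O then F y * (blkA hM B).coeff (y⁻¹ * y₀) else 0) =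
        ∑ y, F y * (blkA hM B).coeff (y⁻¹ * y₀) := Finset.sum_congr rfl fun y _ => by
      split_ifs with hy
      · rfl
      · rw [hF]
        simp only [if_neg fun h' => hy ((dcSet_eq_of_mem h').trans hwO), zero_mul]
    rw [e2, h, mul_zero]
  obtain ⟨y₁, hy₁, hfix⟩ := exists_fixed_term hM (hS.to_le inf_le_left) (x := y₀) (z := y₀)
    (Q := dcStab S y₀) (f := F) (fun q hq y => by
      rw [hF]
      simp only [dcSet_mul_iff (mem_dcStab.1 hq).2 (inv_mem (mem_dcStab.1 hq).1)])
    (fun q _ => by rw [inv_mul_cancel]; exact Commute.one_left q) hε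
  have hmem : y₁ ∈ dcSet S w := by
    by_contra h
    exact hy₁ (by rw [hF]; simp only [if_neg h, zero_mul])
  have hset : dcSet S y₁ = dcSet S w := dcSet_eq_of_mem hmem
  refine ⟨y₀, y₁, ?_, hfix, right_ne_zero_of_mul hy₁, le_antisymm ?_ ?_⟩
  · simpa only [hF, ← hset] using hε
  · have hle : dcStab S y₀ ≤ dcStab S y₁ := fun r hr => by
      refine mem_dcStab.2 ⟨(mem_dcStab.1 hr).1, ?_⟩
      have := twist_fixed_iff.2 (hfix r hr)
      rw [mul_inv_eq_iff_eq_mul] at this
      rw [← this, mul_inv_cancel_right]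
      exact (mem_dcStab.1 hr).2
    have h1 := card_dcSet_mul S y₀
    have h2 := card_dcSet_mul S y₁
    have h3 : Nat.card (dcStab S y₀) ≤ Nat.card (dcStab S y₁) :=
      Nat.le_of_dvd Nat.card_pos (Subgroup.card_dvd_of_le hle)
    refine Nat.le_of_mul_le_mul_right (c := Nat.card (dcStab S y₁)) ?_ Nat.card_pos
    calc Nat.card (dcSet S y₁) * Nat.card (dcStab S y₁)
        = Nat.card (dcSet S y₀) * Nat.card (dcStab S y₀) := h2.trans h1.symm
      _ ≤ _ := Nat.mul_le_mul_left _ h3
  · refine hmin y₁ (Finset.mem_filter.2 ⟨Finset.mem_univ _, ?_⟩)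
    obtain ⟨s, hs, t, ht, e⟩ := hmem
    rw [← e, hv s hs t ht]
    exact left_ne_zero_of_mul hw0

include hM in
open Classical in
/-- A block of smallest dimension is spanned freely by the translates over one double coset. -/
theorem exists_coset_basis (hB : IsPBlock M B) {D : Subgroup G} (hD : IsDefectGroup p M B D)
    (hS : IsPGroup p S) (hScard : Nat.card S = p ^ (Nat.card G).factorization p)
    (hdim : finrank (resField hM) (blkPart hM (B := B)) =
      p ^ (2 * (Nat.card G).factorization p - blockDefect p B)) :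
    ∃ g : G, p ^ (2 * (Nat.card G).factorization p - blockDefect p B) ≤ Nat.card (dcSet S g) ∧
      (∀ x ∈ suppOn hM (dcSet S g), x * blkA hM B = 0 → x = 0) ∧
      ∀ x, blkA hM B * x = x → ∃ u ∈ suppOn hM (dcSet S g), u * blkA hM B = x := by
  obtain ⟨y₀, y₁, hε, hfix, hco, hcard⟩ := exists_entry hM hB hS
  have hR : Nat.card (dcStab S y₀) ≤ p ^ blockDefect p B := by
    refine card_le_of_coeff hM hB hD (hS.to_le inf_le_left) (c := y₁⁻¹ * y₀) (fun r hr => ?_) hco
    have := (hfix r hr).inv_left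
    rwa [mul_inv_rev, inv_inv] at this
  have hlarge : p ^ (2 * (Nat.card G).factorization p - blockDefect p B) ≤
      Nat.card (dcSet S y₁) := by
    have h1 := card_dcSet_mul S y₀
    rw [hScard, ← hcard, ← pow_add] at h1
    have hd : blockDefect p B ≤ (Nat.card G).factorization p := by
      rw [blockDefect_eq]; omega
    refine Nat.le_of_mul_le_mul_right (c := p ^ blockDefect p B) ?_
      (pow_pos (Fact.out : p.Prime).pos _)
    rw [← pow_add, show 2 * (Nat.card G).factorization p - blockDefect p B + blockDefect p B =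
      (Nat.card G).factorization p + (Nat.card G).factorization p by omega, ← h1]
    exact Nat.mul_le_mul_left _ hR
  have hcomm : ∀ w, Commute (blkA hM B) w := fun w => cV_commute hM (indVec B) w
  set O := dcSet S y₁ with hO
  set W := suppOn hM O with hW
  have hinj : ∀ x ∈ W, x * blkA hM B = 0 → x = 0 := by
    by_contra h
    push Not at h
    obtain ⟨x, hxW, hx, hx0⟩ := h
    set K := W ⊓ LinearMap.ker (LinearMap.mulRight (resField hM) (blkA hM B)) with hK
    have hKne : K ≠ ⊥ := fun e => hx0 (by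
      have : x ∈ K := ⟨hxW, hx⟩
      rwa [e, Submodule.mem_bot] at this)
    obtain ⟨v, hvK, hv0, hv⟩ := exists_biinvariant hM hS K hKne fun s hs t ht z hz => by
      refine ⟨fun y hy => ?_, ?_⟩
      · rw [coeff_mul_single', coeff_single_mul']
        refine hz.1 _ fun h => hy ?_
        have := (dcSet_mul_iff hs ht y₁ _).2 h
        rwa [show s * (s⁻¹ * (y * t⁻¹)) * t = y by group] at this
      · have hz2 : z * blkA hM B = 0 := hz.2
        show MonoidAlgebra.single s 1 * z * MonoidAlgebra.single t 1 * blkA hM B = 0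
        rw [mul_assoc, ← (hcomm _).eq, ← mul_assoc, mul_assoc (MonoidAlgebra.single s 1), hz2,
          mul_zero, zero_mul]
    have hc : v.coeff y₁ ≠ 0 := by
      intro h0
      refine hv0 (MonoidAlgebra.ext (Finsupp.ext fun y => ?_))
      by_cases hy : y ∈ O
      · obtain ⟨s, hs, t, ht, rfl⟩ := hy
        rw [hv s hs t ht, h0]
        simp
      · rw [hvK.1 y hy]
        simp
    refine hε ((mul_eq_zero.1 ?_).resolve_left hc)
    have h0 : (v * blkA hM B).coeff y₀ = 0 := by
      rw [show v * blkA hM B = 0 from hvK.2]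
      simp
    rw [coeff_mul_sum] at h0
    refine Eq.trans ?_ h0
    rw [Finset.mul_sum]
    refine Finset.sum_congr rfl fun y _ => ?_
    by_cases hy : y ∈ O
    · obtain ⟨s, hs, t, ht, rfl⟩ := hy
      rw [if_pos ((dcSet_mul_iff hs ht y₁ y₁).2 (self_mem_dcSet S y₁)), hv s hs t ht, one_mul]
    · rw [if_neg hy, hvK.1 y hy]
      simp
  refine ⟨y₁, hlarge, hinj, fun x hx => ?_⟩
  let f : W →ₗ[resField hM] blkPart hM (B := B) :=
    LinearMap.codRestrict _ (LinearMap.mulRight (resField hM) (blkA hM B) ∘ₗ W.subtype) fun w =>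
      (mem_blkPart hM hB).2 (by
        show blkA hM B * ((w : KGA hM G) * blkA hM B) = _
        rw [← mul_assoc, (hcomm _).eq, mul_assoc, (blkA_idem hM hB).eq]
        rfl)
  have hfinj : Function.Injective f := by
    rw [← LinearMap.ker_eq_bot, Submodule.eq_bot_iff]
    intro w hw
    refine Subtype.ext (hinj w w.2 ?_)
    exact congrArg Subtype.val hw
  have hfsurj : Function.Surjective f := by
    rw [← LinearMap.range_eq_top]
    refine Submodule.eq_top_of_finrank_eq (le_antisymm (Submodule.finrank_le _) ?_)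
    rw [LinearMap.finrank_range_of_inj hfinj, hdim]
    exact hlarge.trans (card_le_finrank_suppOn hM O)
  obtain ⟨u, hu⟩ := hfsurj ⟨x, (mem_blkPart hM hB).2 hx⟩
  exact ⟨u, u.2, congrArg Subtype.val hu⟩

include hM in
open Classical in
/-- A nonzero coefficient at a twisted fixed point gives a twisted fixed point of the coset. -/
theorem exists_fixed_in_coset (hB : IsPBlock M B) {g : G}
    (hinj : ∀ x ∈ suppOn hM (dcSet S g), x * blkA hM B = 0 → x = 0)
    (hsurj : ∀ x, blkA hM B * x = x → ∃ u ∈ suppOn hM (dcSet S g), u * blkA hM B = x)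
    {Q : Subgroup G} (hQ : IsPGroup p Q) (hQS : Q ≤ S) {x : G}
    (hxQ : ∀ q ∈ Q, x * q * x⁻¹ ∈ S) {c : G} (hc : ∀ q ∈ Q, Commute c q)
    (hcB : (blkA hM B).coeff c ≠ 0) :
    ∃ y ∈ dcSet S g, ∀ q ∈ Q, Commute (x⁻¹ * y) q := by
  have hcomm : ∀ w, Commute (blkA hM B) w := fun w => cV_commute hM (indVec B) w
  obtain ⟨u, huW, hu⟩ := hsurj (MonoidAlgebra.single x 1 * blkA hM B) (by
    rw [← mul_assoc, (hcomm _).eq, mul_assoc, (blkA_idem hM hB).eq])
  have hfix : ∀ q ∈ Q, ∀ y, u.coeff (x * q * x⁻¹ * y * q⁻¹) = u.coeff y := by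
    intro q hq y
    set w := MonoidAlgebra.single (x * q * x⁻¹)⁻¹ 1 * u * MonoidAlgebra.single q 1 - u with hw
    have hwz : ∀ z, w.coeff z = u.coeff (x * q * x⁻¹ * (z * q⁻¹)) - u.coeff z := by
      intro z
      rw [hw, MonoidAlgebra.coeff_sub, Finsupp.sub_apply, coeff_mul_single',
        coeff_single_mul', inv_inv]
    have hw0 : w = 0 := by
      refine hinj w (fun z hz => ?_) ?_
      · rw [hwz, huW z hz, sub_zero]
        refine huW _ fun h => hz ?_
        rw [← mul_assoc, dcSet_mul_iff (hxQ q hq) (inv_mem (hQS hq))] at h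
        exact h
      · rw [hw, sub_mul, hu, mul_assoc, ← (hcomm _).eq, ← mul_assoc,
          mul_assoc (MonoidAlgebra.single (x * q * x⁻¹)⁻¹ 1), hu, sub_eq_zero]
        simp only [mul_assoc]
        rw [(hcomm _).eq]
        simp only [← mul_assoc, MonoidAlgebra.single_mul_single, mul_one]
        rw [show (x * q * x⁻¹)⁻¹ * x * q = x by group]
    have := hwz y
    rw [hw0, ← mul_assoc] at this
    simpa [sub_eq_zero] using this.symm
  have hval : ∑ y, u.coeff y * (blkA hM B).coeff (y⁻¹ * (x * c)) ≠ 0 := by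
    rw [← coeff_mul_sum, hu, coeff_single_mul', inv_mul_cancel_left]
    exact hcB
  obtain ⟨y, hy, hyfix⟩ := exists_fixed_term hM hQ hfix
    (fun q hq => by rw [inv_mul_cancel_left]; exact hc q hq) hval
  refine ⟨y, ?_, hyfix⟩
  by_contra h
  exact hy (by rw [huW y h, zero_mul])

include hM in
/-- The dimension of a block. -/
theorem finrank_blkPart_eq (hB : IsPBlock M B) :
    finrank (resField hM) (blkPart hM (B := B)) = ∑ᶠ χ ∈ B, charDegree (χ : G → ℂ) ^ 2 := by
  classical
  rw [finsum_mem_eq_toFinset_sum]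
  apply Nat.cast_injective (R := ℂ)
  have hv := vInt_indVec hM hB
  rw [blkPart, blkA, ← red_oV hM hv, finrank_range_block hM hB
    (a := oV hM (indVec B)) ?_ ?_, Nat.cast_sum]
  · refine Finset.sum_congr rfl fun χ hχ => ?_
    rw [hatC_oV hM hB χ (Set.mem_toFinset.1 hχ), Nat.cast_pow, sq, apply_one_eq_charDegree]
  · rw [IsIdempotentElem, ← oV_mul hM hv hv, indVec_mul_indVec, Set.inter_self]
  · rw [← oV_mul hM hv hv, indVec_mul_indVec, Set.inter_self]

omit [Fintype G] in
/-- An automorphism of order prime to `p` moving each element inside its class in a `p`-group is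
trivial. -/
theorem commute_of_class_preserving [Finite G] (hS : IsPGroup p S) {Q : Subgroup G} (hQS : Q ≤ S)
    {x : G} (hx : x ∈ Subgroup.normalizer (Q : Set G)) (hreg : ¬ p ∣ orderOf x)
    (hcl : ∀ q ∈ Q, ∃ s ∈ S, x * q * x⁻¹ = s * q * s⁻¹) : ∀ q ∈ Q, Commute x q := by
  haveI : Group.IsNilpotent S := hS.isNilpotent
  have key : ∀ i : ℕ, ∀ q : S, (q : G) ∈ Q → q ∈ Subgroup.upperCentralSeries S i →
      Commute x (q : G) := by
    intro i
    induction i with
    | zero =>
      intro q _ hq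
      rw [Subgroup.upperCentralSeries_zero, Subgroup.mem_bot] at hq
      rw [hq]
      exact Commute.one_right x
    | succ i ih =>
      intro q hqQ hq
      obtain ⟨s, hs, e⟩ := hcl q hqQ
      set δ : S := q⁻¹ * ⟨s, hs⟩ * q * (⟨s, hs⟩ : S)⁻¹ with hδ
      have hδi : δ ∈ Subgroup.upperCentralSeries S i := by
        have := Subgroup.mem_upperCentralSeries_succ_iff.1 (inv_mem hq) ⟨s, hs⟩
        simpa [commutatorElement_def, hδ] using this
      have hδG : (δ : G) = (q : G)⁻¹ * (x * (q : G) * x⁻¹) := by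
        rw [e, hδ]
        simp [mul_assoc]
      have hδQ : (δ : G) ∈ Q := by
        rw [hδG]
        exact mul_mem (inv_mem hqQ) ((Subgroup.mem_normalizer_iff.1 hx _).1 hqQ)
      have hc := ih δ hδQ hδi
      have hpow : ∀ j : ℕ, x ^ j * (q : G) * (x ^ j)⁻¹ = (q : G) * (δ : G) ^ j := by
        intro j
        induction j with
        | zero => simp
        | succ j ihj =>
          have e1 : x ^ (j + 1) * (q : G) * (x ^ (j + 1))⁻¹ =
              x * (x ^ j * (q : G) * (x ^ j)⁻¹) * x⁻¹ := by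
            rw [pow_succ']; group
          rw [e1, ihj, show x * ((q : G) * (δ : G) ^ j) * x⁻¹ =
            (x * (q : G) * x⁻¹) * (x * (δ : G) ^ j * x⁻¹) by group,
            (hc.pow_right j).eq, mul_inv_cancel_right, pow_succ',
            show x * (q : G) * x⁻¹ = (q : G) * (δ : G) by rw [hδG]; group]
          group
      have hm := hpow (orderOf x)
      rw [pow_orderOf_eq_one, one_mul, inv_one, mul_one, left_eq_mul] at hm
      obtain ⟨k, hk⟩ := hS δ
      have hk' : (δ : G) ^ p ^ k = 1 := by rw [← Subgroup.coe_pow, hk, Subgroup.coe_one]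
      have h1 : (δ : G) = 1 := orderOf_eq_one_iff.1 (Nat.eq_one_of_dvd_coprimes
        (Nat.Coprime.pow_left k ((Fact.out : p.Prime).coprime_iff_not_dvd.2 hreg))
        (orderOf_dvd_of_pow_eq_one hk') (orderOf_dvd_of_pow_eq_one hm))
      rw [hδG, inv_mul_eq_one, eq_mul_inv_iff_mul_eq] at h1
      exact h1.symm
  intro q hq
  obtain ⟨n, hn⟩ := Group.IsNilpotent.nilpotent ↥S
  exact key n ⟨q, hQS hq⟩ hq (hn ▸ Subgroup.mem_top _)

include hM in
/-- A block of smallest dimension is nilpotent. -/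
theorem nilpotent_of_min_dim (hB : IsPBlock M B) {D : Subgroup G} (hD : IsDefectGroup p M B D)
    (hdim : finrank (resField hM) (blkPart hM (B := B)) =
      p ^ (2 * (Nat.card G).factorization p - blockDefect p B)) :
    IsNilpotentBlock p M B := by
  classical
  refine ⟨hB, fun Q e he x hxN _ hreg => ?_⟩
  have hQp : IsPGroup p Q := he.1.1
  obtain ⟨P, hQP⟩ := hQp.exists_le_sylow
  set S := (P : Subgroup G)
  obtain ⟨g, hbig, hinj, hsurj⟩ :=
    exists_coset_basis hM hB hD P.isPGroup' P.card_eq_multiplicity hdim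
  -- a defect group inside the Sylow subgroup
  have hDp : IsPGroup p D := IsPGroup.of_card (card_defectGroup hM hB hD)
  obtain ⟨P', hDP'⟩ := hDp.exists_le_sylow
  obtain ⟨a, ha⟩ := MulAction.exists_smul_eq G P' P
  set D' := D.map (MulAut.conj a).toMonoidHom with hD'
  have hD'S : D' ≤ S := by
    rintro _ ⟨d, hd, rfl⟩
    show MulAut.conj a d ∈ (P : Subgroup G)
    rw [← ha, Sylow.coe_subgroup_smul]
    exact Subgroup.smul_mem_pointwise_smul _ _ _ (hDP' hd)
  have hcoeff : ∀ {c : G}, ¬ MemLocalIdeal M (blockCoeff B c) → (blkA hM B).coeff c ≠ 0 := by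
    intro c hc h
    rw [blkA, coeff_cV, zc_indVec, res_eq_zero_iff hM (blockCoeff_mem_locRing hM hB c)] at h
    exact hc h
  obtain ⟨c, hc, hcB⟩ := (exists_coeff_iff_conj_le hM hB hD (hDp.map (MulAut.conj a).toMonoidHom)).2
    ⟨a⁻¹, by
      rintro _ ⟨_, ⟨d, hd, rfl⟩, rfl⟩
      simpa [mul_assoc] using hd⟩
  obtain ⟨y₀, hy₀, hfix₀⟩ := exists_fixed_in_coset hM hB hinj hsurj
    (hDp.map (MulAut.conj a).toMonoidHom) hD'S (x := 1) (fun q hq => by simpa using hD'S hq)
    (fun q hq => ((Subgroup.mem_centralizer_iff.1 hc q hq).symm : c * q = q * c)) (hcoeff hcB)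
  simp only [inv_one, one_mul] at hfix₀
  have hstab : D' = dcStab S y₀ := by
    refine Subgroup.eq_of_le_of_card_ge (fun d hd => mem_dcStab.2 ⟨hD'S hd, ?_⟩) ?_
    · rw [(hfix₀ d hd).eq, mul_inv_cancel_right]
      exact hD'S hd
    · rw [hD', Subgroup.card_map_of_injective (MulAut.conj a).injective, card_defectGroup hM hB hD]
      have h1 := card_dcSet_mul S y₀
      rw [dcSet_eq_of_mem hy₀, P.card_eq_multiplicity, ← pow_add] at h1
      have hd : blockDefect p B ≤ (Nat.card G).factorization p := by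
        rw [blockDefect_eq]; omega
      refine Nat.le_of_mul_le_mul_left
        (?_ : Nat.card (dcSet S g) * Nat.card (dcStab S y₀) ≤
          Nat.card (dcSet S g) * p ^ blockDefect p B)
        (lt_of_lt_of_le (pow_pos (Fact.out : p.Prime).pos _) hbig)
      refine le_trans ?_ (Nat.mul_le_mul_right _ hbig)
      rw [h1, ← pow_add]
      exact Nat.pow_le_pow_right (Fact.out : p.Prime).pos (by omega)
  -- the element centralizes
  obtain ⟨c', hc', hcB'⟩ := (exists_coeff_iff_conj_le hM hB hD hQp).2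
    ((exists_pair_iff hM hB hD hQp).1 ⟨e, he⟩)
  have hxQ : ∀ q ∈ Q, x * q * x⁻¹ ∈ Q := fun q hq => (Subgroup.mem_normalizer_iff.1 hxN q).1 hq
  obtain ⟨y, hy, hfix⟩ := exists_fixed_in_coset hM hB hinj hsurj hQp hQP (x := x)
    (fun q hq => hQP (hxQ q hq))
    (fun q hq => ((Subgroup.mem_centralizer_iff.1 hc' q hq).symm : c' * q = q * c')) (hcoeff hcB')
  rw [← dcSet_eq_of_mem hy₀] at hy
  obtain ⟨α, hα, β, hβ, rfl⟩ := hy
  have hcomm := commute_of_class_preserving (S := S) P.isPGroup' hQP hxN hreg fun q hq => by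
    have e1 : x * q * x⁻¹ = α * (y₀ * (β * q * β⁻¹) * y₀⁻¹) * α⁻¹ := by
      have := twist_fixed_iff.2 (hfix q hq)
      rw [mul_inv_eq_iff_eq_mul] at this
      calc x * q * x⁻¹ = x * q * x⁻¹ * (α * y₀ * β) * (α * y₀ * β)⁻¹ := by group
        _ = _ := by rw [this]; group
    have hmem : β * q * β⁻¹ ∈ D' := by
      rw [hstab, mem_dcStab]
      refine ⟨mul_mem (mul_mem hβ (hQP hq)) (inv_mem hβ), ?_⟩
      have h2 := mul_mem (mul_mem (inv_mem hα) (hQP (hxQ q hq))) hα
      rw [e1] at h2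
      convert h2 using 1
      group
    refine ⟨α * β, mul_mem hα hβ, ?_⟩
    rw [e1, ((hfix₀ _ hmem).eq), mul_inv_cancel_right]
    group
  exact Subgroup.mem_centralizer_iff.2 fun q hq => (hcomm q hq).eq.symm

end Cfsg.Lib.Block
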