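import Cfsg.Agent.Lib.Block.BlockSimpleDegree

/-!
# Lifting functions of the regular part to generalized characters

A class function whose multiplicities at the linear characters of the subgroups of order prime to
`p` are integers gives, composed with the regular part, a generalized character.
-/

set_option autoImplicit false
set_option linter.unusedSectionVars false
set_option maxHeartbeats 1000000

namespace Cfsg.Lib.Block

open Cfsg
open scoped ComplexConjugate

universe u

noncomputable local instance (priority := high) fintypeSubgroupModularLift {A : Type u}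
    [Group A] [Fintype A] (H : Subgroup A) : Fintype H := Fintype.ofFinite H

variable {p : ℕ} [Fact p.Prime] {A : Type u} [Group A] [Fintype A]

/-- Brauer's characterization applied to a function of the regular part. -/
theorem isGeneralized_comp_pReg_of_mult {F : A → ℂ} (hF : IsClassFunction A F)
    (hmult : ∀ S : Subgroup A, ¬ p ∣ Nat.card S → ∀ lam : S →* ℂˣ, ∃ r : ℤ,
      classInner (fun s : S => F s) (fun s : S => (lam s : ℂ)) = (r : ℂ)) :
    IsGeneralizedCharacter A (fun g => F (pReg p g)) := by
  classical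
  have hγc : IsClassFunction A (fun g => F (pReg p g)) := fun x y => by
    show F (pReg p (y * x * y⁻¹)) = F (pReg p x)
    rw [pReg_conj, hF]
  refine Char.isGeneralizedCharacter_of_elementary hγc fun E l hl hE => ?_
  obtain ⟨Q, R', hQ, hR, hQR, hsup⟩ := exists_split_elementary (p := p) hl hE
  have hsplit : ∀ g : E, ∃ r ∈ R', pReg p (g : A) = r ∧ pPt p (g : A) ∈ Q := by
    intro g
    obtain ⟨x, hx, r, hr, he⟩ := exists_mul_of_mem_sup hQR (g := (g : A)) (by rw [hsup]; exact g.2)
    refine ⟨r, hr, ?_, ?_⟩
    · have h1 := pPt_mul_of_sup hQ hR hQR hx hr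
      have h2 := pPt_mul_pReg (p := p) (x * r)
      rw [h1] at h2
      rw [← he]
      exact mul_left_cancel h2
    · rw [← he, pPt_mul_of_sup hQ hR hQR hx hr]; exact hx
  choose π hπR hπ hπQ using hsplit
  let f : E →* R' := MonoidHom.mk' (fun g => ⟨π g, hπR g⟩) fun g h => Subtype.ext (by
    show π (g * h) = π g * π h
    rw [← hπ, ← hπ, ← hπ, Subgroup.coe_mul]
    have hg : (g : A) ∈ Q ⊔ R' := hsup.symm ▸ g.2
    have hh : (h : A) ∈ Q ⊔ R' := hsup.symm ▸ h.2
    have h1 := pPt_mul_mul hQ hR hQR hg hh
    have h2 := pPt_mul_pReg (p := p) ((g : A) * h)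
    rw [h1] at h2
    have h3 : Commute (pReg p (g : A)) (pPt p (h : A)) := by
      rw [hπ g]
      exact (hQR _ (hπQ h) _ (hπR g)).symm
    refine mul_left_cancel (a := pPt p (g : A) * pPt p (h : A)) ?_
    rw [h2]
    calc (g : A) * h = pPt p (g : A) * pReg p (g : A) * (pPt p (h : A) * pReg p (h : A)) := by
          rw [pPt_mul_pReg, pPt_mul_pReg]
      _ = pPt p (g : A) * (pReg p (g : A) * pPt p (h : A)) * pReg p (h : A) := by group
      _ = _ := by rw [h3.eq]; group)
  have hgen : IsGeneralizedCharacter R' (fun r : R' => F r) := by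
    haveI : Group.IsNilpotent E := isNilpotent_of_isElementary hl hE
    have hRE : R' ≤ E := hsup ▸ le_sup_right
    haveI : Group.IsNilpotent R' :=
      Group.nilpotent_of_mulEquiv (Subgroup.subgroupOfEquivOfLe hRE)
    have hc : IsClassFunction R' (fun r : R' => F r) := fun x y => hF (x : A) (y : A)
    refine Char.isGeneralizedCharacter_iff.2 ⟨hc, fun θ hθ => ?_⟩
    obtain ⟨H, lam, rfl⟩ := Char.exists_monomial_of_nilpotent _ rfl hθ
    obtain ⟨ι, hι⟩ : ∃ ι : H ≃* H.map R'.subtype, ∀ h : H, ((ι h : _) : A) = ((h : R') : A) :=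
      ⟨H.equivMapOfInjective _ R'.subtype_injective, fun h => rfl⟩
    have hHp : ¬ p ∣ Nat.card (H.map R'.subtype) := fun h =>
      hR (h.trans (Subgroup.card_dvd_of_le (Subgroup.map_subtype_le H)))
    obtain ⟨r, hr⟩ := hmult _ hHp (lam.comp ι.symm.toMonoidHom)
    refine ⟨r, ?_⟩
    rw [← Char.classInner_conj_symm, Char.classInner_indFun H _ hc, Char.classInner_conj_symm]
    rw [← hr]
    simp only [classInner]
    rw [Nat.card_congr ι.toEquiv]
    congr 1
    refine Fintype.sum_equiv ι.toEquiv _ _ fun h => ?_
    simp only [MulEquiv.toEquiv_eq_coe, MulEquiv.coe_toEquiv, MonoidHom.comp_apply,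
      MulEquiv.coe_toMonoidHom, MulEquiv.symm_apply_apply, hι]
  have hcomp := hgen.comp f
  convert hcomp using 1
  funext g
  show F (pReg p (g : A)) = _
  rw [hπ g]
  rfl

end Cfsg.Lib.Block
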