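import Cfsg.Agent.Lib.Block.PrincipalFree
import Cfsg.Agent.Lib.Block.KleinBlock
import Cfsg.Agent.Lib.Block.SubsectionApps
import Cfsg.Agent.Lib.Char.Ito
import Cfsg.Agent.Lib.Char.Quotient
import Cfsg.Agent.Lib.AbTwo.Basic

/-!
# The column of an involution on a principal block of odd degrees

If the centralizer of an involution `u` of an abelian Sylow two-subgroup has a normal
two-complement and all characters in the principal block have odd degree, the column at `u`
consists of odd integers whose squares sum to the order of the Sylow subgroup.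
-/

set_option autoImplicit false
set_option linter.unusedSectionVars false
set_option linter.style.haveILetI false

namespace Cfsg.Lib.Block.OddColumn

open Cfsg Cfsg.Lib Cfsg.Lib.Block
open scoped ComplexConjugate Classical

universe u

variable {G : Type u} [Group G] [Fintype G]

/-- The value at an involution is congruent to the degree modulo two. -/
theorem parity_involution (χ : IrrCharacter G) {z : G} (hz : orderOf z = 2) {d : ℕ}
    (hd : (χ : G → ℂ) 1 = (d : ℂ)) {m : ℤ} (hm : (χ : G → ℂ) z = (m : ℂ)) : (2 : ℤ) ∣ m + d := by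
  have hcard : Fintype.card (Subgroup.zpowers z) = 2 := by
    rw [← Nat.card_eq_fintype_card, Nat.card_zpowers, hz]
  have hz1 : (⟨z, Subgroup.mem_zpowers z⟩ : Subgroup.zpowers z) ≠ 1 := by
    intro h
    have h1 : z = 1 := congrArg Subtype.val h
    rw [h1, orderOf_one] at hz
    omega
  have huniv : (Finset.univ : Finset (Subgroup.zpowers z)) =
      {1, ⟨z, Subgroup.mem_zpowers z⟩} :=
    (Finset.eq_univ_of_card _ (by rw [Finset.card_pair hz1.symm, hcard])).symm
  obtain ⟨n, hn⟩ := (χ.2.isCharacter.comp (Subgroup.zpowers z).subtype).exists_nat_classInner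
    (trivChar (Subgroup.zpowers z)).2.isCharacter
  refine ⟨(n : ℤ), ?_⟩
  rw [trivChar_coe, Char.classInner_one_right, Nat.card_eq_fintype_card, hcard, huniv,
    Finset.sum_pair hz1.symm] at hn
  have h : (χ : G → ℂ) 1 + (χ : G → ℂ) z = 2 * (n : ℂ) := by
    rw [← hn]
    simp
  rw [hd, hm] at h
  have h' : ((m + d : ℤ) : ℂ) = ((2 * (n : ℤ) : ℤ) : ℂ) := by
    push_cast
    rw [← h]
    ring
  exact_mod_cast h'

/-- Squares of odd integers with sum eight or sixteen. -/
theorem card_of_sum {α : Type*} (s : Finset α) (f : α → ℤ) (hf : ∀ a ∈ s, Odd (f a)) {n : ℤ}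
    (hn : ∑ a ∈ s, f a * f a = n) :
    (n = 8 → s.card = 8) ∧ (n = 16 → s.card = 8 ∨ s.card = 16) := by
  have h1 : ∀ a ∈ s, ∃ c : ℕ, f a * f a = 1 + 8 * (c : ℤ) := fun a ha => by
    obtain ⟨j, hj⟩ := hf a ha
    obtain ⟨i, hi⟩ := Int.even_mul_succ_self j
    have h0 : 0 ≤ i := by
      rcases le_or_gt 0 j with h | h <;> nlinarith
    exact ⟨i.toNat, by rw [Int.toNat_of_nonneg h0, hj]; linarith⟩
  choose! c hc using h1
  have h2 : n = (s.card : ℤ) + 8 * ((∑ a ∈ s, c a : ℕ) : ℤ) := by
    rw [← hn, Finset.sum_congr rfl hc, Finset.sum_add_distrib, ← Finset.mul_sum]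
    simp
  have h3 : 0 < n → s.Nonempty := fun hp => Finset.nonempty_iff_ne_empty.2 fun he => by
    rw [← hn, he, Finset.sum_empty] at hp; exact lt_irrefl _ hp
  constructor
  · intro h8
    have := (h3 (by omega)).card_pos
    omega
  · intro h16
    have := (h3 (by omega)).card_pos
    omega

variable {M : Ideal AlgInt} (hM : IsPModular 2 M) (P : Sylow 2 G)
include hM

/-- The column at an element with a two-nilpotent centralizer containing the Sylow subgroup. -/
theorem column_eq {u : G} (hu : ∃ k : ℕ, orderOf u = 2 ^ k)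
    (hle : (P : Subgroup G) ≤ Subgroup.centralizer ({u} : Set G))
    (hl : blockRank 2 (principalBlock M (Subgroup.centralizer ({u} : Set G))) = 1) :
    ∑ χ ∈ (principalBlock M G).toFinset, (χ : G → ℂ) u * conj ((χ : G → ℂ) u) =
      (Nat.card (P : Subgroup G) : ℂ) := by
  haveI : Fact (Nat.Prime 2) := ⟨Nat.prime_two⟩
  set H := Subgroup.centralizer ({u} : Set G) with hH
  have hB : IsPBlock M (principalBlock M H) := isPBlock_principal
  have h := sum_sq_rank_one hM hB hl
  have hg : ((principalBlock M H).toFinset.gcd fun χ => charDegree (χ : H → ℂ)) = 1 := by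
    refine Nat.dvd_one.1 ?_
    have h1 : charDegree ((trivChar H : IrrCharacter H) : H → ℂ) = 1 :=
      charDegree_eq_of_apply_one (by rw [trivChar_coe, Nat.cast_one])
    exact h1 ▸ Finset.gcd_dvd (Set.mem_toFinset.2 (trivChar_mem_principal hM))
  rw [hg, one_pow, mul_one, ← card_defectGroup hM hB
    (isDefectGroup_principal_sylow hM (P.subtype hle)),
    Sylow.coe_subtype, Nat.card_congr (Subgroup.subgroupOfEquivOfLe hle).toEquiv] at h
  rw [← finsum_mem_eq_toFinset_sum, principal_column hM hu hu, if_pos (IsConj.refl u),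
    principalDegSq, finsum_mem_eq_toFinset_sum, ← h, Nat.cast_sum]
  exact Finset.sum_congr (by ext; simp only [Set.mem_toFinset]; exact Iff.rfl) fun χ _ => by rw [Nat.cast_pow]

/-- Odd degrees in the principal block determine its size up to two values. -/
theorem count_of_odd {u : G} (hu : orderOf u = 2)
    (hle : (P : Subgroup G) ≤ Subgroup.centralizer ({u} : Set G))
    (hl : blockRank 2 (principalBlock M (Subgroup.centralizer ({u} : Set G))) = 1)
    (hodd : ∀ χ ∈ principalBlock M G, Odd (charDegree (χ : G → ℂ))) :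
    (Nat.card (P : Subgroup G) = 8 → Nat.card (principalBlock M G) = 8) ∧
      (Nat.card (P : Subgroup G) = 16 →
        Nat.card (principalBlock M G) = 8 ∨ Nat.card (principalBlock M G) = 16) := by
  have hcol := column_eq hM P ⟨1, by rw [hu, pow_one]⟩ hle hl
  choose m hm using fun χ : IrrCharacter G => int_value_involution χ hu
  have hmodd : ∀ χ ∈ (principalBlock M G).toFinset, Odd (m χ) := fun χ hχ => by
    have h2 := parity_involution χ hu (apply_one_eq_charDegree χ) (hm χ)
    obtain ⟨a, ha⟩ := hodd χ (Set.mem_toFinset.1 hχ)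
    rw [ha] at h2
    obtain ⟨b, hb⟩ := h2
    exact ⟨b - a - 1, by push_cast at hb; omega⟩
  have hsum : ∑ χ ∈ (principalBlock M G).toFinset, m χ * m χ =
      ((Nat.card (P : Subgroup G) : ℕ) : ℤ) := by
    have h : ((∑ χ ∈ (principalBlock M G).toFinset, m χ * m χ : ℤ) : ℂ) =
        (((Nat.card (P : Subgroup G) : ℕ) : ℤ) : ℂ) := by
      rw [Int.cast_natCast, ← hcol, Int.cast_sum]
      refine Finset.sum_congr rfl fun χ _ => ?_
      rw [hm χ, Int.cast_mul, map_intCast]
    exact_mod_cast h
  obtain ⟨h8, h16⟩ := card_of_sum _ m hmodd hsum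
  have hcard : Nat.card (principalBlock M G) = (principalBlock M G).toFinset.card := by
    rw [Nat.card_eq_fintype_card, Set.toFinset_card]
  rw [hcard]
  exact ⟨fun h => h8 (by exact_mod_cast h), fun h => h16 (by exact_mod_cast h)⟩

/-- The principal block of a solvable group with an abelian Sylow two-subgroup has odd degrees. -/
theorem odd_of_solvable [Group.IsSolvable G] (hab : IsMulCommutative (P : Subgroup G))
    {χ : IrrCharacter G} (hχ : χ ∈ principalBlock M G) : Odd (charDegree (χ : G → ℂ)) := by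
  haveI : Fact (Nat.Prime 2) := ⟨Nat.prime_two⟩
  have hO : ¬ 2 ∣ Nat.card (Cfsg.oddCore G) := AbTwo.not_dvd_of_odd AbTwo.odd_oddCore
  obtain ⟨ψ, hψ, hval⟩ := Char.exists_deflate_irr (Cfsg.oddCore G) χ.2
    (principal_trivial_on hM hO hχ)
  set π := QuotientGroup.mk' (Cfsg.oddCore G) with hπ
  haveI hn : ((P : Subgroup G).map π).Normal := (AbTwo.sylow_image P hab).1
  haveI := Fintype.ofFinite (G ⧸ Cfsg.oddCore G)
  have hd : ψ 1 = (charDegree (χ : G → ℂ) : ℂ) := by
    rw [← QuotientGroup.mk_one, hval, apply_one_eq_charDegree χ]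
  have hdvd := Char.degree_dvd_index_of_comm ((P : Subgroup G).map π)
    (by
      rintro _ ⟨a, ha, rfl⟩ _ ⟨b, hb, rfl⟩
      rw [← map_mul, ← map_mul, AbTwo.comm_of_mem hab ha hb]) hψ hd
  have h2 : ¬ 2 ∣ ((P : Subgroup G).map π).index := fun h =>
    P.not_dvd_index (h.trans (Subgroup.index_map_dvd _ (QuotientGroup.mk'_surjective _)))
  exact Nat.odd_iff.2 (Nat.two_dvd_ne_zero.1 fun h => h2 (h.trans hdvd))

end Cfsg.Lib.Block.OddColumn
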