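import Mathlib.GroupTheory.IndexNormal
import Cfsg.Agent.Lib.Char.Extension
import Cfsg.Agent.Lib.Char.Galois
import Cfsg.Agent.Lib.Char.Gallagher
import Cfsg.Agent.Lib.Char.Central
import Cfsg.Agent.Lib.Char.Correspondence
import Cfsg.Agent.Lib.Char.Ramification

/-!
# Characters fixed by a power map inverting elements of odd order, over a layer of odd index
-/

set_option autoImplicit false
set_option linter.style.haveILetI false
set_option linter.unusedSectionVars false

namespace Cfsg.Lib.Block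

open Cfsg Cfsg.Lib
open scoped ComplexConjugate

universe u

variable {G : Type u} [Group G] [Fintype G] (N : Subgroup G) [hN : N.Normal] [Fintype N] {k : ℕ}

/-- The power map inverts the quotient, which has odd order. -/
theorem powInv_quotient (hidx : Odd N.index) (hk₂ : ∀ g : G, Odd (orderOf g) → g ^ k = g⁻¹)
    (g : G) : (g : G ⧸ N) ^ k = (g : G ⧸ N)⁻¹ := by
  have hG : Nat.card G ≠ 0 := Nat.card_pos.ne'
  let a := (Nat.card G).factorization 2
  have hcop : Nat.Coprime (2 ^ a) (Nat.card (G ⧸ N)) := by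
    rw [← Subgroup.index_eq_card]
    exact Nat.Coprime.pow_left _ (Nat.coprime_two_left.mpr hidx)
  obtain ⟨q, hq⟩ := (powCoprime hcop.symm).surjective (g : G ⧸ N)
  obtain ⟨x, rfl⟩ := QuotientGroup.mk_surjective q
  have hxg : (g : G ⧸ N) = ((x ^ 2 ^ a : G) : G ⧸ N) := by
    rw [QuotientGroup.mk_pow]; exact hq.symm
  have hodd : Odd (orderOf (x ^ 2 ^ a)) := by
    have hd : orderOf (x ^ 2 ^ a) ∣ ordCompl[2] (Nat.card G) := by
      refine orderOf_dvd_of_pow_eq_one ?_
      rw [← pow_mul, show 2 ^ a * ordCompl[2] (Nat.card G) = Nat.card G from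
        Nat.ordProj_mul_ordCompl_eq_self _ 2, pow_card_eq_one']
    refine Odd.of_dvd_nat ?_ hd
    rw [← Nat.not_even_iff_odd, even_iff_two_dvd]
    exact Nat.not_dvd_ordCompl Nat.prime_two hG
  rw [hxg, ← QuotientGroup.mk_pow, hk₂ _ hodd, QuotientGroup.mk_inv]

/-- Parity of the inner product of two restrictions of fixed characters. -/
theorem parity_of_fixed (hidx : Odd N.index) (hk : Nat.Coprime k (Nat.card G))
    (hk₂ : ∀ g : G, Odd (orderOf g) → g ^ k = g⁻¹) {χ χ' : G → ℂ} (hχ : IsIrrCharacter G χ)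
    (hχ' : IsIrrCharacter G χ') (hfix : ∀ g, χ (g ^ k) = χ g) (hfix' : ∀ g, χ' (g ^ k) = χ' g)
    {m : ℕ} (hm : classInner (fun n : N => χ n) (fun n : N => χ' n) = m) :
    (χ = χ' → Odd m) ∧ (χ ≠ χ' → Even m) := by
  classical
  let ψ : G → ℂ := fun g => χ g * conj (χ' g)
  have hψfix : ∀ g, ψ (g ^ k) = ψ g := fun g => by simp only [ψ, hfix, hfix']
  have hψc : IsCharacter G ψ := hχ.isCharacter.mul hχ'.isCharacter.conjFn
  let F : G → ℂ := fun g => (Nat.card N : ℂ)⁻¹ * ∑ n : N, ψ ((n : G) * g)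
  have hN0 : (Nat.card N : ℂ) ≠ 0 := Nat.cast_ne_zero.mpr Nat.card_pos.ne'
  -- the averaged function is integral
  have hFint : ∀ g, IsIntegral ℤ (F g) := by
    intro g
    choose c hc using fun γ : IrrCharacter G => hψc.exists_nat_classInner γ.2.isCharacter
    have hexp : ∀ x, ψ x = ∑ γ : IrrCharacter G, (c γ : ℂ) * (γ : G → ℂ) x := fun x => by
      conv_lhs => rw [Char.eq_sum_classInner hψc.isClassFunction]
      simp only [Finset.sum_apply, Pi.smul_apply, smul_eq_mul, hc]
    show IsIntegral ℤ ((Nat.card N : ℂ)⁻¹ * ∑ n : N, ψ ((n : G) * g))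
    simp only [hexp]
    rw [Finset.sum_comm, Finset.mul_sum]
    refine IsIntegral.sum _ fun γ _ => ?_
    rw [← Finset.mul_sum]
    rcases Char.sum_coset_char_cases N γ.2 with h | ⟨-, -, h⟩
    · rw [h g]; simp [isIntegral_zero]
    · rw [h g, show (Nat.card N : ℂ)⁻¹ * ((c γ : ℂ) * ((Nat.card N : ℂ) * (γ : G → ℂ) g)) =
        (c γ : ℂ) * (γ : G → ℂ) g by field_simp]
      exact ((isIntegral_algebraMap (R := ℤ) (A := ℂ) (x := (c γ : ℤ)))).mul
        (γ.2.isCharacter.isIntegral g)
  have hcoset : ∀ {x y : G}, (x : G ⧸ N) = y → F x = F y := by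
    intro x y hxy
    have hmem : y * x⁻¹ ∈ N := by
      have h1 := (QuotientGroup.eq.mp hxy)
      have h2 := hN.conj_mem _ h1 x
      rwa [show x * (x⁻¹ * y) * x⁻¹ = y * x⁻¹ by group] at h2
    show _ * _ = _ * _
    congr 1
    refine (Fintype.sum_equiv (Equiv.mulRight (⟨_, hmem⟩ : N)) _ _ fun n => ?_).symm
    show ψ ((n : G) * y) = ψ ((n : G) * (y * x⁻¹) * x)
    congr 1
    group
  have hpow : ∀ g, F (g ^ k) = F g := by
    intro g
    show _ * _ = _ * _
    congr 1
    have hmem : ∀ n : N, ((n : G) * g) ^ k * (g ^ k)⁻¹ ∈ N := fun n => by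
      rw [← QuotientGroup.eq_one_iff, QuotientGroup.mk_mul, QuotientGroup.mk_pow,
        QuotientGroup.mk_mul, (QuotientGroup.eq_one_iff (n : G)).mpr n.2, one_mul,
        QuotientGroup.mk_inv, QuotientGroup.mk_pow, mul_inv_cancel]
    let τ : N → N := fun n => ⟨_, hmem n⟩
    have hτ : Function.Bijective τ := Finite.injective_iff_bijective.mp fun a b hab => by
      have h1 : ((a : G) * g) ^ k = ((b : G) * g) ^ k :=
        mul_right_cancel (congrArg (Subtype.val : N → G) hab)
      exact Subtype.ext (mul_right_cancel ((Char.powBij_of_coprime hk).1 h1))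
    refine (Fintype.sum_equiv (Equiv.ofBijective τ hτ) _ _ fun n => ?_).symm
    show ψ ((n : G) * g) = ψ (((n : G) * g) ^ k * (g ^ k)⁻¹ * g ^ k)
    rw [inv_mul_cancel_right, hψfix]
  have hsym : ∀ g, F g⁻¹ = F g := fun g => by
    rw [← hpow g]
    exact hcoset (by rw [QuotientGroup.mk_inv, QuotientGroup.mk_pow, powInv_quotient N hidx hk₂])
  -- the values at the identity and the total
  have hF1 : F 1 = m := by
    rw [← hm]
    show _ * _ = _ * _
    simp only [mul_one]
    rfl
  have htot : ∑ q : G ⧸ N, F q.out = (N.index : ℂ) * classInner χ χ' := by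
    have h1 : (Nat.card N : ℂ) * ∑ q : G ⧸ N, F q.out = ∑ g : G, ψ g := by
      rw [← Finset.sum_fiberwise Finset.univ (fun g : G => (g : G ⧸ N)) ψ, Finset.mul_sum]
      refine Finset.sum_congr rfl fun q _ => ?_
      show (Nat.card N : ℂ) * ((Nat.card N : ℂ)⁻¹ * _) = _
      rw [← mul_assoc, mul_inv_cancel₀ hN0, one_mul]
      refine Finset.sum_bij (fun n _ => (n : G) * q.out) (fun n _ => ?_) (fun a _ b _ hab => ?_)
        (fun g hg => ?_) fun n _ => rfl
      · refine Finset.mem_filter.mpr ⟨Finset.mem_univ _, ?_⟩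
        rw [QuotientGroup.mk_mul, (QuotientGroup.eq_one_iff (n : G)).mpr n.2, one_mul,
          QuotientGroup.out_eq']
      · exact Subtype.ext (mul_right_cancel hab)
      · have hgq : (g : G ⧸ N) = q := (Finset.mem_filter.mp hg).2
        refine ⟨⟨g * q.out⁻¹, ?_⟩, Finset.mem_univ _, inv_mul_cancel_right _ _⟩
        rw [← QuotientGroup.eq_one_iff, QuotientGroup.mk_mul, QuotientGroup.mk_inv,
          QuotientGroup.out_eq', hgq, mul_inv_cancel]
    apply mul_left_cancel₀ hN0
    rw [h1, ← mul_assoc, ← Nat.cast_mul, mul_comm (Nat.card N), Subgroup.index_mul_card]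
    show _ = (Nat.card G : ℂ) * ((Nat.card G : ℂ)⁻¹ * ∑ g : G, ψ g)
    rw [← mul_assoc, mul_inv_cancel₀ (Nat.cast_ne_zero.mpr Nat.card_pos.ne'), one_mul]
  -- pairing
  let R := integralClosure ℤ ℂ
  let f : G ⧸ N → R := fun q => ⟨F q.out, hFint _⟩
  let I : Ideal R := Ideal.span {(2 : R)}
  have hpair : ∑ q : G ⧸ N, Ideal.Quotient.mk I (f q) = Ideal.Quotient.mk I (f 1) := by
    rw [← Finset.add_sum_erase _ _ (Finset.mem_univ (1 : G ⧸ N))]
    suffices h : ∑ q ∈ Finset.univ.erase (1 : G ⧸ N), Ideal.Quotient.mk I (f q) = 0 by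
      rw [h, add_zero]
    refine Finset.sum_involution (fun q _ => q⁻¹) (fun q _ => ?_) (fun q hq _ heq => ?_)
      (fun q hq => ?_) fun q _ => inv_inv q
    · have hf : f q⁻¹ = f q := Subtype.ext ((hcoset (x := (q⁻¹).out) (y := q.out⁻¹)
        (by rw [QuotientGroup.mk_inv, QuotientGroup.out_eq', QuotientGroup.out_eq'])).trans
        (hsym q.out))
      rw [hf, ← map_add, ← two_mul, Ideal.Quotient.eq_zero_iff_mem]
      exact Ideal.mul_mem_right _ _ (Ideal.subset_span rfl)
    · have h2 : q ^ 2 = 1 := by rw [pow_two]; nth_rewrite 1 [← heq]; exact inv_mul_cancel q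
      have h3 : orderOf q ∣ N.index := by rw [Subgroup.index_eq_card]; exact orderOf_dvd_natCard q
      have h4 : orderOf q ∣ 1 := by
        have := Nat.dvd_gcd h3 (orderOf_dvd_of_pow_eq_one h2)
        rwa [(Nat.coprime_two_right.mpr hidx).gcd_eq_one] at this
      exact (Finset.mem_erase.mp hq).1 (orderOf_eq_one_iff.mp (Nat.dvd_one.mp h4))
    · simpa using (Finset.mem_erase.mp hq).1
  rw [← map_sum, Ideal.Quotient.eq, Ideal.mem_span_singleton] at hpair
  obtain ⟨r, hr⟩ := hpair
  have hr' := congrArg (Subtype.val : R → ℂ) hr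
  push_cast at hr'
  change ∑ q : G ⧸ N, F q.out - F (1 : G ⧸ N).out = ((2 : R) : ℂ) * (r : ℂ) at hr'
  rw [htot, hcoset (x := (1 : G ⧸ N).out) (y := 1) (by simp), hF1,
    Char.classInner_irr hχ hχ'] at hr'
  have hint : ∀ z : ℤ, (z : ℂ) = 2 * (r : ℂ) → Even z := by
    intro z hz
    have hi : IsIntegral ℤ (((z : ℚ) / 2 : ℚ) : ℂ) := by
      rw [show (((z : ℚ) / 2 : ℚ) : ℂ) = (r : ℂ) by push_cast; rw [hz]; ring]
      exact r.2
    obtain ⟨w, hw⟩ := Char.exists_int_of_isIntegral_rat hi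
    refine ⟨w, ?_⟩
    have : (z : ℚ) = ((w + w : ℤ) : ℚ) := by push_cast; linarith
    exact_mod_cast this
  have h2 : ((2 : R) : ℂ) = 2 := rfl
  rw [h2] at hr'
  constructor
  · intro h
    rw [if_pos h, mul_one] at hr'
    have h3 := hint ((N.index : ℤ) - m) (by push_cast; exact hr')
    rw [← Int.odd_coe_nat]
    rw [Int.even_sub] at h3
    rw [← Int.not_even_iff_odd, ← h3, Int.even_coe_nat, Nat.not_even_iff_odd]
    exact hidx
  · intro h
    rw [if_neg h, mul_zero, zero_sub] at hr'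
    have h3 := hint (-(m : ℤ)) (by push_cast; exact hr')
    rwa [even_neg, Int.even_coe_nat] at h3

/-- Inner products are unchanged by a bijective reindexing. -/
theorem classInner_comp_pow_map {H : Type u} [Group H] [Fintype H] (hk : Nat.Coprime k (Nat.card H))
    (φ ψ : H → ℂ) :
    classInner (fun h => φ (h ^ k)) (fun h => ψ (h ^ k)) = classInner φ ψ := by
  unfold classInner
  congr 1
  exact Fintype.sum_equiv (Equiv.ofBijective _ (Char.powBij_of_coprime hk)) _ _ fun _ => rfl

/-- A fixed character over a fixed `θ` exists and is unique. -/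
theorem exists_fixed_odd_layer (hidx : Odd N.index) (e : ℕ) (hk : Nat.Coprime k (Nat.card G))
    (hke : k ^ (2 ^ e) ≡ 1 [MOD Nat.card G])
    (hk₂ : ∀ g : G, Odd (orderOf g) → g ^ k = g⁻¹) {θ : N → ℂ} (hθ : IsIrrCharacter N θ)
    (hθfix : ∀ n : N, θ (n ^ k) = θ n) :
    ∃ χ : G → ℂ, IsIrrCharacter G χ ∧ classInner (fun n : N => χ n) θ ≠ 0 ∧
      (∀ g, χ (g ^ k) = χ g) ∧
      ∀ χ' : G → ℂ, IsIrrCharacter G χ' → classInner (fun n : N => χ' n) θ ≠ 0 →
        (∀ g, χ' (g ^ k) = χ' g) → χ' = χ := by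
  classical
  haveI : Fact (Nat.Prime 2) := ⟨Nat.prime_two⟩
  choose c hc using fun χ : IrrCharacter G =>
    (χ.2.isCharacter.comp N.subtype).exists_nat_classInner hθ.isCharacter
  replace hc : ∀ χ : IrrCharacter G, classInner (fun n : N => (χ : G → ℂ) n) θ = (c χ : ℂ) := hc
  -- the weights
  have hΦc := Char.isCharacter_indFun N hθ.isCharacter
  have hcoef : ∀ χ : IrrCharacter G, classInner (indFun N θ) (χ : G → ℂ) = (c χ : ℂ) := by
    intro χ
    rw [Char.classInner_indFun N θ χ.2.isClassFunction, ← Char.classInner_conj_symm, hc,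
      Complex.conj_natCast]
  have hweight : ((∑ χ, c χ * c χ : ℕ) : ℂ) * (Nat.card N : ℂ) =
      (Nat.card (Char.inertia N θ) : ℂ) := by
    rw [← Char.classInner_indFun_self N hθ, mul_comm]
    congr 1
    conv_rhs => arg 1; rw [Char.eq_sum_classInner hΦc.isClassFunction]
    rw [Char.classInner_sum_left]
    push_cast
    refine Finset.sum_congr rfl fun χ _ => ?_
    have h : classInner (χ : G → ℂ) (indFun N θ) = (c χ : ℂ) := by
      rw [← Char.classInner_conj_symm, hcoef, Complex.conj_natCast]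
    simp only [hcoef, Char.classInner_smul_left, h, Complex.conj_natCast]
  have hodd : Odd (∑ χ, c χ * c χ) := by
    have h1 : (∑ χ, c χ * c χ) * Nat.card N = Nat.card (Char.inertia N θ) := by
      exact_mod_cast hweight
    have hle := Char.le_inertia N hθ.isClassFunction
    have h2 := Subgroup.card_mul_index (N.subgroupOf (Char.inertia N θ))
    rw [Nat.card_congr (Subgroup.subgroupOfEquivOfLe hle).toEquiv, ← h1, mul_comm] at h2
    have h3 : (N.subgroupOf (Char.inertia N θ)).index = ∑ χ, c χ * c χ :=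
      Nat.eq_of_mul_eq_mul_right Nat.card_pos h2
    rw [← h3]
    exact hidx.of_dvd_nat (Subgroup.relIndex_dvd_index_of_normal N (Char.inertia N θ))
  -- the permutation
  let f : IrrCharacter G → IrrCharacter G := fun χ =>
    ⟨fun g => (χ : G → ℂ) (g ^ k), Char.isIrrCharacter_comp_pow hk χ.2⟩
  have hf : Function.Bijective f := Finite.injective_iff_bijective.mp fun a b hab =>
    Subtype.ext (funext fun g => by
      obtain ⟨x, rfl⟩ := (Char.powBij_of_coprime hk).2 g
      exact congrFun (congrArg Subtype.val hab) x)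
  let π : Equiv.Perm (IrrCharacter G) := Equiv.ofBijective f hf
  have hpow : ∀ (j : ℕ) (χ : IrrCharacter G) (g : G),
      (((π ^ j) χ : IrrCharacter G) : G → ℂ) g = (χ : G → ℂ) (g ^ k ^ j) := by
    intro j
    induction j with
    | zero => intro χ g; simp
    | succ j ih =>
      intro χ g
      rw [pow_succ', Equiv.Perm.mul_apply]
      show ((((π ^ j) χ) : IrrCharacter G) : G → ℂ) (g ^ k) = _
      rw [ih, ← pow_mul, pow_succ']
  have hπ : π ^ 2 ^ e = 1 := Equiv.ext fun χ => Subtype.ext (funext fun g => by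
    rw [hpow, Equiv.Perm.one_apply]
    rw [show g ^ k ^ 2 ^ e = g ^ 1 from
      pow_eq_pow_iff_modEq.mpr (hke.of_dvd (orderOf_dvd_natCard g)), pow_one])
  let S := Subgroup.zpowers π
  have hS : IsPGroup 2 S := by
    rintro ⟨x, hx⟩
    obtain ⟨i, rfl⟩ := Subgroup.mem_zpowers_iff.mp hx
    refine ⟨e, Subtype.ext ?_⟩
    show (π ^ i) ^ 2 ^ e = 1
    rw [← zpow_natCast, ← zpow_mul, mul_comm, zpow_mul, zpow_natCast, hπ, one_zpow]
  have hcπ : ∀ χ, c (π χ) = c χ := by
    intro χ
    have h1 : (c (π χ) : ℂ) = c χ := by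
      rw [← hc, ← hc]
      conv_lhs => arg 2; rw [show θ = fun n : N => θ (n ^ k) from funext fun n => (hθfix n).symm]
      have hkN : Nat.Coprime k (Nat.card N) :=
        hk.coprime_dvd_right (Subgroup.card_subgroup_dvd_card N)
      rw [← classInner_comp_pow_map hkN (fun n : N => (χ : G → ℂ) n) θ]
      rfl
    exact_mod_cast h1
  have hF : ∀ (a : S) χ, c (a • χ) * c (a • χ) = c χ * c χ := by
    rintro ⟨x, hx⟩ χ
    have key : ∀ χ, c (x χ) = c χ := by
      have hstab : π ∈ ({ carrier := {y | ∀ χ, c (y χ) = c χ}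
                          one_mem' := fun _ => rfl
                          mul_mem' := fun {a b} ha hb χ => by
                            rw [Equiv.Perm.mul_apply, ha, hb]
                          inv_mem' := fun {a} ha χ => by
                            conv_rhs => rw [← (Equiv.apply_symm_apply a χ), ha]
                            rfl } : Subgroup (Equiv.Perm (IrrCharacter G))) := hcπ
      exact (Subgroup.zpowers_le.mpr hstab) hx
    show c (x χ) * c (x χ) = _
    rw [key]
  have hsum := Char.sum_modEq_sum_fixed hS (fun χ => c χ * c χ) hF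
  have hex : ∃ χ : IrrCharacter G, (∀ a : S, a • χ = χ) ∧ c χ ≠ 0 := by
    by_contra hno
    push_neg at hno
    have h0 : ∑ χ ∈ Finset.univ.filter (fun χ => ∀ a : S, a • χ = χ), c χ * c χ = 0 :=
      Finset.sum_eq_zero fun χ hχ => by rw [hno χ (Finset.mem_filter.mp hχ).2, zero_mul]
    rw [h0, Nat.modEq_zero_iff_dvd] at hsum
    exact Nat.not_even_iff_odd.mpr hodd (even_iff_two_dvd.mpr hsum)
  obtain ⟨χ, hfixS, hc0⟩ := hex
  have hfix : ∀ g, (χ : G → ℂ) (g ^ k) = (χ : G → ℂ) g := fun g => by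
    have h := congrFun (congrArg Subtype.val (hfixS ⟨π, Subgroup.mem_zpowers π⟩)) g
    exact h
  refine ⟨χ, χ.2, by rw [hc]; exact Nat.cast_ne_zero.mpr hc0, hfix, fun χ' hχ' h' hfix' => ?_⟩
  by_contra hne
  obtain ⟨m, hm⟩ := (χ.2.isCharacter.comp N.subtype).exists_nat_classInner
    (hχ'.isCharacter.comp N.subtype)
  have heven := (parity_of_fixed N hidx hk hk₂ χ.2 hχ' hfix hfix' hm).2 (Ne.symm hne)
  -- two restrictions with the same orbit
  let t := (Char.twistOrbit N θ).card
  have hres : ∀ {φ : G → ℂ}, IsIrrCharacter G φ → classInner (fun n : N => φ n) θ ≠ 0 →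
      (fun n : N => φ n) = classInner (fun n : N => φ n) θ • ∑ η ∈ Char.twistOrbit N θ, η :=
    fun hφ h => Char.clifford_res N hφ hθ h
  have horb : classInner (∑ η ∈ Char.twistOrbit N θ, η) (∑ η ∈ Char.twistOrbit N θ, η) = (t : ℂ) := by
    rw [Char.classInner_sum_left]
    rw [Finset.sum_congr rfl (g := fun _ => (1 : ℂ)) fun a ha => ?_]
    · simp [t]
    · rw [Char.classInner_sum_right, Finset.sum_eq_single a]
      · exact Char.classInner_irr_self (Char.isIrrCharacter_of_mem_twistOrbit N hθ ha)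
      · exact fun b hb hba => Char.classInner_irr_ne
          (Char.isIrrCharacter_of_mem_twistOrbit N hθ ha)
          (Char.isIrrCharacter_of_mem_twistOrbit N hθ hb) (Ne.symm hba)
      · exact fun h => absurd ha h
  have hprod : ∀ {φ φ' : G → ℂ} (_ : IsIrrCharacter G φ) (_ : IsIrrCharacter G φ') (a b r : ℕ),
      classInner (fun n : N => φ n) θ = a → classInner (fun n : N => φ' n) θ = b → a ≠ 0 → b ≠ 0 →
      classInner (fun n : N => φ n) (fun n : N => φ' n) = r → r = a * b * t := by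
    intro φ φ' hφ hφ' a b r ha hb ha0 hb0 hr
    rw [hres hφ (by rw [ha]; exact Nat.cast_ne_zero.mpr ha0),
      hres hφ' (by rw [hb]; exact Nat.cast_ne_zero.mpr hb0), Char.classInner_smul_left,
      Char.classInner_smul_right, horb, ha, hb, Complex.conj_natCast] at hr
    have : ((r : ℕ) : ℂ) = ((a * b * t : ℕ) : ℂ) := by rw [← hr]; push_cast; ring
    exact_mod_cast this
  obtain ⟨b, hb⟩ := (hχ'.isCharacter.comp N.subtype).exists_nat_classInner hθ.isCharacter
  have hb0 : b ≠ 0 := fun h => h' (hb.trans (by rw [h, Nat.cast_zero]))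
  obtain ⟨r, hr⟩ := (χ.2.isCharacter.comp N.subtype).exists_nat_classInner
    (χ.2.isCharacter.comp N.subtype)
  obtain ⟨r', hr'⟩ := (hχ'.isCharacter.comp N.subtype).exists_nat_classInner
    (hχ'.isCharacter.comp N.subtype)
  have hoa := (parity_of_fixed N hidx hk hk₂ χ.2 χ.2 hfix hfix hr).1 rfl
  have hob := (parity_of_fixed N hidx hk hk₂ hχ' hχ' hfix' hfix' hr').1 rfl
  rw [hprod χ.2 χ.2 _ _ r (hc χ) (hc χ) hc0 hc0 hr, Nat.odd_mul, Nat.odd_mul] at hoa
  rw [hprod hχ' hχ' _ _ r' hb hb hb0 hb0 hr', Nat.odd_mul, Nat.odd_mul] at hob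
  rw [hprod χ.2 hχ' _ _ m (hc χ) hb hc0 hb0 hm, ← Nat.not_odd_iff_even, Nat.odd_mul,
    Nat.odd_mul] at heven
  exact heven ⟨⟨hoa.1.1, hob.1.1⟩, hoa.2⟩

/-- For an invariant character the fixed character is an extension. -/
theorem exists_fixed_extension (hidx : Odd N.index) (hk : Nat.Coprime k (Nat.card G))
    (hk₂ : ∀ g : G, Odd (orderOf g) → g ^ k = g⁻¹) {m : ℕ}
    (σ : Representation ℂ N (Fin m → ℂ)) [σ.IsIrreducible]
    (hfix : ∀ n : N, σ.character (n ^ k) = σ.character n)
    (ρ : Representation ℂ G (Fin m → ℂ)) (hρ : ∀ n : N, ρ (n : G) = σ n) :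
    ∃ χ : G → ℂ, IsIrrCharacter G χ ∧ (∀ n : N, χ n = σ.character n) ∧
      ∀ g, χ (g ^ k) = χ g := by
  haveI := Char.isIrreducible_of_extension hρ
  have hρres : ∀ n : N, ρ.character (n : G) = σ.character n := fun n => by
    show LinearMap.trace ℂ _ (ρ (n : G)) = LinearMap.trace ℂ _ (σ n)
    rw [hρ]
  have hchar : IsCharacter G (fun g => ρ.character (g ^ k)) :=
    Char.isCharacter_comp_pow hk (Char.isCharacter_character ρ)
  obtain ⟨ρ', hρ', hρ'c⟩ := Char.exists_rep_of_res_eq N.subtype σ hchar (fun n => by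
    show ρ.character ((n : G) ^ k) = _
    rw [← Subgroup.coe_pow, hρres, hfix])
  obtain ⟨lam, hlamN, hlam⟩ := Char.exists_hom_of_two_extensions hρ hρ'
  obtain ⟨h, hh⟩ := hidx
  let μ : G →* ℂˣ := lam ^ (h + 1)
  have hμN : ∀ n ∈ N, μ n = 1 := fun n hn => by
    rw [MonoidHom.pow_apply, hlamN n hn, one_pow]
  have hμ2 : ∀ g, μ g ^ 2 = lam g := fun g => by
    rw [MonoidHom.pow_apply, ← pow_mul, show (h + 1) * 2 = N.index + 1 by omega, pow_succ,
      Char.pow_index_eq_one_of_trivial lam hlamN g, one_mul]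
  have hμk : ∀ g, μ (g ^ k) = (μ g)⁻¹ := fun g => by
    have h1 : g * g ^ k ∈ N := by
      rw [← QuotientGroup.eq_one_iff, QuotientGroup.mk_mul, QuotientGroup.mk_pow,
        powInv_quotient N ⟨h, hh⟩ hk₂, mul_inv_cancel]
    have h2 := hμN _ h1
    rw [map_mul] at h2
    exact eq_inv_of_mul_eq_one_right h2
  let ρμ : Representation ℂ G (Fin m → ℂ) :=
    { toFun := fun g => (μ g : ℂ) • ρ g
      map_one' := by simp
      map_mul' := fun x y => by
        simp only [map_mul, Units.val_mul]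
        rw [smul_mul_smul_comm] }
  have hext : ∀ n : N, ρμ (n : G) = σ n := fun n => by
    show (μ n : ℂ) • ρ (n : G) = σ n
    rw [hμN _ n.2, Units.val_one, one_smul, hρ]
  haveI := Char.isIrreducible_of_extension hext
  have hval : ∀ g, ρμ.character g = (μ g : ℂ) * ρ.character g := fun g => by
    show LinearMap.trace ℂ _ ((μ g : ℂ) • ρ g) = _
    rw [map_smul, smul_eq_mul]
    rfl
  refine ⟨ρμ.character, Char.isIrrCharacter_character ρμ, fun n => ?_, fun g => ?_⟩
  · rw [hval, hμN _ n.2, Units.val_one, one_mul, hρres]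
  · have h1 : ρ.character (g ^ k) = (lam g : ℂ) * ρ.character g := by
      rw [← congrFun hρ'c g]
      show LinearMap.trace ℂ _ (ρ' g) = _
      rw [hlam, map_smul, smul_eq_mul]
      rfl
    rw [hval, hval, h1, hμk, ← hμ2 g, Units.val_pow_eq_pow_val, Units.val_inv_eq_inv_val]
    field_simp

/-- The restriction of the powering hypotheses to a subgroup. -/
theorem powInv_subgroup (L : Subgroup G) {e : ℕ} (hk : Nat.Coprime k (Nat.card G))
    (hke : k ^ (2 ^ e) ≡ 1 [MOD Nat.card G]) (hk₂ : ∀ g : G, Odd (orderOf g) → g ^ k = g⁻¹) :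
    Nat.Coprime k (Nat.card L) ∧ k ^ (2 ^ e) ≡ 1 [MOD Nat.card L] ∧
      ∀ g : L, Odd (orderOf g) → g ^ k = g⁻¹ :=
  ⟨hk.coprime_dvd_right (Subgroup.card_subgroup_dvd_card L),
    hke.of_dvd (Subgroup.card_subgroup_dvd_card L), fun g hg => Subtype.ext (by
      rw [Subgroup.coe_pow, Subgroup.coe_inv]
      exact hk₂ _ (by rwa [Subgroup.orderOf_coe]))⟩

omit [Fintype G] in
/-- Extension along a quotient of prime power order. -/
theorem exists_extension_primePower (q : ℕ) [Fact q.Prime] (e : ℕ) (a : ℕ) :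
    ∀ (P : Type u) [Group P] [Fintype P] (N : Subgroup P) [N.Normal] [Fintype N],
      N.index = q ^ a → Odd N.index → Nat.Coprime k (Nat.card P) →
      k ^ (2 ^ e) ≡ 1 [MOD Nat.card P] → (∀ g : P, Odd (orderOf g) → g ^ k = g⁻¹) →
      ∀ θ : N → ℂ, IsIrrCharacter N θ → (∀ n : N, θ (n ^ k) = θ n) →
      (∀ g : P, Char.conjTwist N θ g = θ) →
      ∃ η : P → ℂ, IsCharacter P η ∧ ∀ n : N, η n = θ n := by
  classical
  induction a with
  | zero =>
    intro P _ _ N _ _ hidx _ _ _ _ θ hθ _ _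
    rw [pow_zero, Subgroup.index_eq_one] at hidx
    subst hidx
    exact ⟨fun g => θ ⟨g, Subgroup.mem_top g⟩,
      hθ.isCharacter.comp Subgroup.topEquiv.symm.toMonoidHom, fun n => rfl⟩
  | succ a ih =>
    intro P _ _ N _ _ hidx hodd hk hke hk₂ θ hθ hfix hinv
    have hcard : Nat.card (P ⧸ N) = q ^ (a + 1) := by rw [← Subgroup.index_eq_card, hidx]
    obtain ⟨Lb, hLb⟩ := Sylow.exists_subgroup_card_pow_prime q (G := P ⧸ N) (n := a)
      (hcard ▸ pow_dvd_pow q (Nat.le_succ a))
    have hLbidx : Lb.index = q := by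
      have h := Subgroup.card_mul_index Lb
      rw [hLb, hcard, pow_succ] at h
      exact Nat.eq_of_mul_eq_mul_left (pow_pos (Fact.out : q.Prime).pos a) h
    haveI : Lb.Normal := Subgroup.normal_of_index_eq_minFac_card (by
      rw [hLbidx, hcard, (Fact.out : q.Prime).pow_minFac (Nat.succ_ne_zero a)])
    let L : Subgroup P := Lb.comap (QuotientGroup.mk' N)
    haveI : L.Normal := Subgroup.Normal.comap inferInstance _
    have hNL : N ≤ L := fun x hx => by
      show ((x : P ⧸ N)) ∈ Lb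
      rw [(QuotientGroup.eq_one_iff x).mpr hx]
      exact one_mem _
    have hLidx : L.index = q := by
      rw [Subgroup.index_comap_of_surjective _ (QuotientGroup.mk'_surjective N), hLbidx]
    have hNLidx : (N.subgroupOf L).index = q ^ a := by
      have h := Subgroup.relIndex_mul_index hNL
      rw [hLidx, hidx, pow_succ] at h
      exact Nat.eq_of_mul_eq_mul_right (Fact.out : q.Prime).pos h
    haveI := Fintype.ofFinite L
    haveI : (N.subgroupOf L).Normal := Subgroup.Normal.subgroupOf ‹N.Normal› L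
    haveI := Fintype.ofFinite (N.subgroupOf L)
    obtain ⟨hkL, hkeL, hk₂L⟩ := powInv_subgroup L hk hke hk₂
    have hoddL : Odd (N.subgroupOf L).index := hodd.of_dvd_nat (by
      rw [hNLidx, hidx]; exact pow_dvd_pow q (Nat.le_succ a))
    let eN := Subgroup.subgroupOfEquivOfLe hNL
    let θ' : N.subgroupOf L → ℂ := fun x => θ (eN x)
    have hθ' : IsIrrCharacter (N.subgroupOf L) θ' := Char.isIrrCharacter_comp_equiv eN hθ
    have hfix' : ∀ x, θ' (x ^ k) = θ' x := fun x => by
      show θ (eN (x ^ k)) = _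
      rw [map_pow]
      exact hfix _
    obtain ⟨η, hη, hηθ⟩ := ih L (N.subgroupOf L) hNLidx hoddL hkL hkeL hk₂L θ' hθ' hfix'
      (fun g => funext fun x => (congrFun (hinv (g : P)) (eN x)))
    obtain ⟨m, σ, hσ, hσθ⟩ := hθ'
    haveI := hσ
    obtain ⟨ρ, hρ, -⟩ := Char.exists_rep_of_res_eq (N.subgroupOf L).subtype σ hη
      (fun n => (hηθ n).trans (congrFun hσθ n).symm)
    obtain ⟨φ, hφ, hφθ, hφfix⟩ := exists_fixed_extension (N.subgroupOf L) hoddL hkL hk₂L σ
      (fun n => by rw [congrFun hσθ, congrFun hσθ]; exact hfix' n) ρ hρ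
    replace hφθ : ∀ n : N.subgroupOf L, φ n = θ' n := fun n => (hφθ n).trans (congrFun hσθ n)
    have hθ'' : IsIrrCharacter (N.subgroupOf L) θ' := ⟨m, σ, hσ, hσθ⟩
    obtain ⟨χ, -, -, -, huniq⟩ := exists_fixed_odd_layer (N.subgroupOf L) hoddL e hkL hkeL hk₂L
      hθ'' hfix'
    have hover : ∀ φ' : L → ℂ, (∀ n : N.subgroupOf L, φ' n = θ' n) →
        classInner (fun n : N.subgroupOf L => φ' n) θ' ≠ 0 := fun φ' h => by
      rw [show (fun n : N.subgroupOf L => φ' n) = θ' from funext h,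
        Char.classInner_irr_self hθ'']
      exact one_ne_zero
    have hφχ : φ = χ := huniq φ hφ (hover φ hφθ) hφfix
    have hφinv : ∀ g : P, Char.conjTwist L φ g = φ := fun g => by
      refine (huniq _ (Char.isIrrCharacter_conjTwist L hφ g) (hover _ fun n => ?_) fun x => ?_).trans
        hφχ.symm
      · show φ ⟨g * ((n : L) : P) * g⁻¹, _⟩ = θ (eN n)
        rw [← congrFun (hinv g) (eN n)]
        exact hφθ ⟨⟨g * ((n : L) : P) * g⁻¹, _⟩, ‹N.Normal›.conj_mem _ n.2 g⟩
      · show φ ⟨g * ((x ^ k : L) : P) * g⁻¹, _⟩ = φ ⟨g * (x : P) * g⁻¹, _⟩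
        rw [← hφfix ⟨g * (x : P) * g⁻¹, _⟩]
        exact congrArg φ (Subtype.ext (by push_cast; rw [conj_pow]))
    obtain ⟨m', σ', hσ', hσφ⟩ := hφ
    haveI := hσ'
    haveI : Fact (Nat.Prime q) := inferInstance
    have hcyc : IsCyclic (P ⧸ L) := isCyclic_of_prime_card (p := q) (by
      rw [← Subgroup.index_eq_card, hLidx])
    obtain ⟨ρ', hρ'⟩ := Char.exists_extension_of_cyclic σ'
      (fun g n => by rw [congrFun hσφ, congrFun hσφ]; exact congrFun (hφinv g) n) hcyc
    refine ⟨ρ'.character, Char.isCharacter_character ρ', fun n => ?_⟩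
    have h1 : ρ'.character (n : P) = σ'.character ⟨n, hNL n.2⟩ := by
      show LinearMap.trace ℂ _ (ρ' ((⟨(n : P), hNL n.2⟩ : L) : P)) = _
      rw [hρ']
      rfl
    rw [h1, congrFun hσφ]
    exact hφθ ⟨⟨n, hNL n.2⟩, n.2⟩

/-- A fixed invariant character of a layer of odd index is the restriction of a fixed one. -/
theorem exists_fixed_extension_of_invariant (hidx : Odd N.index) (e : ℕ)
    (hk : Nat.Coprime k (Nat.card G)) (hke : k ^ (2 ^ e) ≡ 1 [MOD Nat.card G])
    (hk₂ : ∀ g : G, Odd (orderOf g) → g ^ k = g⁻¹) {θ : N → ℂ} (hθ : IsIrrCharacter N θ)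
    (hθfix : ∀ n : N, θ (n ^ k) = θ n) (hinv : ∀ g : G, Char.conjTwist N θ g = θ) :
    ∃ χ : G → ℂ, IsIrrCharacter G χ ∧ (∀ n : N, χ n = θ n) ∧ ∀ g, χ (g ^ k) = χ g := by
  classical
  obtain ⟨m, σ, hσ, rfl⟩ := hθ
  haveI := hσ
  obtain ⟨ρ, hρ⟩ := Char.exists_extension_of_local σ
    (fun g n => congrFun (hinv g) n) (fun q hq => by
    haveI : Fact q.Prime := ⟨hq⟩
    obtain ⟨Q⟩ : Nonempty (Sylow q (G ⧸ N)) := inferInstance
    let P : Subgroup G := (Q : Subgroup (G ⧸ N)).comap (QuotientGroup.mk' N)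
    have hNP : N ≤ P := fun x hx => by
      show ((x : G ⧸ N)) ∈ (Q : Subgroup (G ⧸ N))
      rw [(QuotientGroup.eq_one_iff x).mpr hx]
      exact one_mem _
    have hPidx : P.index = (Q : Subgroup (G ⧸ N)).index :=
      Subgroup.index_comap_of_surjective _ (QuotientGroup.mk'_surjective N)
    have hrel : (N.subgroupOf P).index = Nat.card Q := by
      have h := Subgroup.relIndex_mul_index hNP
      rw [hPidx, Subgroup.index_eq_card N, ← Subgroup.card_mul_index (Q : Subgroup (G ⧸ N))] at h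
      exact Nat.eq_of_mul_eq_mul_right (Nat.pos_of_ne_zero Subgroup.index_ne_zero_of_finite) h
    haveI := Fintype.ofFinite P
    haveI : (N.subgroupOf P).Normal := hN.subgroupOf P
    haveI := Fintype.ofFinite (N.subgroupOf P)
    obtain ⟨a, ha⟩ := Q.2.exists_card_eq
    obtain ⟨hkP, hkeP, hk₂P⟩ := powInv_subgroup P hk hke hk₂
    let eN := Subgroup.subgroupOfEquivOfLe hNP
    have hσθ : IsIrrCharacter N σ.character := ⟨m, σ, hσ, rfl⟩
    obtain ⟨η, hη, hηθ⟩ := exists_extension_primePower (k := k) q e a P (N.subgroupOf P)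
      (hrel.trans ha) (hidx.of_dvd_nat (Subgroup.relIndex_dvd_index_of_normal N P)) hkP hkeP hk₂P
      (fun x => σ.character (eN x)) (Char.isIrrCharacter_comp_equiv eN hσθ)
      (fun x => by rw [map_pow]; exact hθfix _)
      (fun g => funext fun x => congrFun (hinv (g : G)) (eN x))
    refine ⟨P, hNP, η, ?_, hη, fun n => hηθ ⟨⟨n, hNP n.2⟩, n.2⟩⟩
    rw [hPidx, Nat.coprime_comm, hq.coprime_iff_not_dvd]
    exact Q.not_dvd_index)
  exact exists_fixed_extension N hidx hk hk₂ σ hθfix ρ hρ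

end Cfsg.Lib.Block
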