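import Cfsg.Agent.Lib.Block.CyclotomicBound
import Cfsg.Agent.S2904
import Mathlib.LinearAlgebra.Charpoly.Basic
import Mathlib.LinearAlgebra.Matrix.GeneralLinearGroup.Card
import Mathlib.GroupTheory.Sylow
import Mathlib.RingTheory.IntegralDomain

/-!
# Transitive linear groups with one class of elements having a cyclic centralizer

If a finite group of order prime to `p`, acting faithfully on a space over the field with `p`
elements and transitively on the nonzero vectors, has order a sum of two squares equal to
`q - 1` up to a rational square, and all its nontrivial elements with cyclic centralizer are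
conjugate, then `q ≤ 3`.
-/

set_option autoImplicit false
set_option linter.unusedSectionVars false
set_option maxHeartbeats 1000000

namespace Cfsg.Lib.Block

open Cfsg

universe u v

variable {p : ℕ} [hp : Fact p.Prime] {V : Type v} [AddCommGroup V] [Module (ZMod p) V]

/-- No proper nonzero invariant subspace. -/
def IrredEnd (x : Module.End (ZMod p) V) : Prop :=
  ∀ W : Submodule (ZMod p) V, (∀ w ∈ W, x w ∈ W) → W = ⊥ ∨ W = ⊤

theorem eq_zero_or_injective_of_commute {x f : Module.End (ZMod p) V} (hx : IrredEnd x)
    (hf : f * x = x * f) : f = 0 ∨ Function.Injective f := by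
  rcases hx (LinearMap.ker f) (fun w hw => by
    have h := LinearMap.congr_fun hf w
    simp only [Module.End.mul_apply] at h
    rw [LinearMap.mem_ker] at hw ⊢
    rw [h, hw, map_zero]) with h | h
  · exact Or.inr (LinearMap.ker_eq_bot.1 h)
  · exact Or.inl (LinearMap.ker_eq_top.1 h)

theorem commute_of_irredEnd {x f g : Module.End (ZMod p) V} (hx : IrredEnd x)
    (hf : f * x = x * f) (hg : g * x = x * g) : f * g = g * f := by
  refine LinearMap.ext fun v => ?_
  by_cases hv : v = 0
  · simp [hv]
  set A := Algebra.adjoin (ZMod p) ({x} : Set (Module.End (ZMod p) V))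
  set W := (Subalgebra.toSubmodule A).map
    (LinearMap.applyₗ v : Module.End (ZMod p) V →ₗ[ZMod p] V) with hW
  have htop : W = ⊤ := by
    refine (hx W fun w hw => ?_).resolve_left fun h => hv ?_
    · obtain ⟨P, hP, rfl⟩ := hw
      exact ⟨x * P, A.mul_mem (Algebra.subset_adjoin rfl) hP, rfl⟩
    · have : v ∈ W := ⟨1, A.one_mem, rfl⟩
      rw [h, Submodule.mem_bot] at this
      exact this
  have key : ∀ f : Module.End (ZMod p) V, f * x = x * f → ∀ P ∈ A, f * P = P * f :=
    fun f hf P hP => Algebra.commute_of_mem_adjoin_singleton_of_commute hP hf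
  obtain ⟨P, hP, hPv⟩ : g v ∈ W := htop ▸ Submodule.mem_top
  obtain ⟨Q, hQ, hQv⟩ : f v ∈ W := htop ▸ Submodule.mem_top
  change P v = g v at hPv
  change Q v = f v at hQv
  have e1 : f (g v) = P (f v) := by rw [← hPv]; exact LinearMap.congr_fun (key f hf P hP) v
  have e2 : g (f v) = Q (g v) := by rw [← hQv]; exact LinearMap.congr_fun (key g hg Q hQ) v
  have hc : P * Q = Q * P := key P (key x rfl P hP).symm Q hQ
  show f (g v) = g (f v)
  rw [e1, e2, ← hQv, ← hPv]
  exact LinearMap.congr_fun hc v

variable {E : Type u} [Group E] [Finite E] {φ : E →* Module.End (ZMod p) V}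

theorem isCyclic_centralizer_of_irred [Nontrivial V] (hφ : Function.Injective φ) {y : E}
    (hy : IrredEnd (φ y)) : IsCyclic (Subgroup.centralizer ({y} : Set E)) := by
  set R := Subalgebra.centralizer (ZMod p) ({φ y} : Set (Module.End (ZMod p) V)) with hR
  have hmem : ∀ f : R, (f : Module.End (ZMod p) V) * φ y = φ y * f := fun f =>
    ((Subalgebra.mem_centralizer_iff (R := ZMod p)).1 f.2 _ rfl).symm
  letI : CommRing R := { (inferInstance : Ring R) with
    mul_comm := fun f g => Subtype.ext (commute_of_irredEnd hy (hmem f) (hmem g)) }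
  haveI : Nontrivial R := ⟨⟨0, 1, fun h => zero_ne_one (α := Module.End (ZMod p) V)
    (congrArg Subtype.val h)⟩⟩
  haveI : NoZeroDivisors R := ⟨fun {f g} h => by
    rcases eq_zero_or_injective_of_commute hy (hmem f) with hf | hf
    · exact Or.inl (Subtype.ext hf)
    · refine Or.inr (Subtype.ext (LinearMap.ext fun v => hf ?_))
      have := LinearMap.congr_fun (congrArg Subtype.val h) v
      simpa using this⟩
  haveI : IsDomain R := NoZeroDivisors.to_isDomain R
  let F : Subgroup.centralizer ({y} : Set E) →* R :=
    { toFun := fun u => ⟨φ u, by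
        rw [hR, Subalgebra.mem_centralizer_iff]
        rintro _ rfl
        rw [← map_mul, ← map_mul]
        exact congrArg φ (Subgroup.mem_centralizer_iff.1 u.2 y rfl)⟩
      map_one' := Subtype.ext (map_one φ)
      map_mul' := fun a b => Subtype.ext (map_mul φ _ _) }
  exact isCyclic_of_subgroup_isDomain F fun a b h => Subtype.ext (hφ (congrArg Subtype.val h))

variable [Finite V]

open Classical in
/-- An element of primitive prime order has no proper invariant subspace. -/
theorem irred_of_primitive {x : Module.End (ZMod p) V} {s : ℕ} (hs : s.Prime) (hx1 : x ≠ 1)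
    (hxs : x ^ s = 1) (hsp : s ≠ p)
    (hprim : ∀ k : ℕ, 0 < k → k < Module.finrank (ZMod p) V → ¬ s ∣ p ^ k - 1) : IrredEnd x := by
  letI := Fintype.ofFinite V
  haveI : FiniteDimensional (ZMod p) V := Module.Finite.of_finite
  haveI := Fact.mk hs
  set n := Module.finrank (ZMod p) V
  have hcard : ∀ W : Submodule (ZMod p) V, Nat.card W = p ^ Module.finrank (ZMod p) W := fun W => by
    rw [Module.natCard_eq_pow_finrank (K := ZMod p), Nat.card_zmod]
  have hsplit : ∀ a b : ℕ, a ≤ b → p ^ a ≡ p ^ b [MOD s] → a = b ∨ n ≤ b - a := by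
    intro a b hab h
    by_contra hne
    push Not at hne
    refine hprim (b - a) (by omega) hne.2 ?_
    have h1 : s ∣ p ^ a * (p ^ (b - a) - 1) := by
      rw [Nat.mul_sub, mul_one, ← pow_add, Nat.add_sub_cancel' hab]
      exact (Nat.modEq_iff_dvd' (Nat.pow_le_pow_right hp.out.pos hab)).1 h
    refine ((hs.dvd_mul).1 h1).resolve_left fun h2 => hsp ?_
    exact (Nat.prime_dvd_prime_iff_eq hs hp.out).1 (hs.dvd_of_dvd_pow h2)
  set F := LinearMap.ker (x - 1) with hF
  have hFmem : ∀ v, v ∈ F ↔ x v = v := fun v => by
    simp [hF, LinearMap.mem_ker, sub_eq_zero]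
  have hfix : ∀ W : Submodule (ZMod p) V, (∀ w ∈ W, x w ∈ W) →
      p ^ Module.finrank (ZMod p) (W ⊓ F : Submodule (ZMod p) V) ≡
        p ^ Module.finrank (ZMod p) W [MOD s] := by
    intro W hW
    have hpow : ∀ j : ℕ, ∀ w ∈ W, (x ^ j) w ∈ W := fun j => by
      induction j with
      | zero => intro w hw; simpa using hw
      | succ j ih =>
        intro w hw
        rw [pow_succ', Module.End.mul_apply]
        exact hW _ (ih w hw)
    have hinv : ∀ v, (x ^ (s - 1)) (x v) = v := fun v => by
      rw [← Module.End.mul_apply, ← pow_succ, Nat.sub_add_cancel hs.one_le, hxs]; rfl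
    let σ : Equiv.Perm W :=
      { toFun := fun w => ⟨x w, hW w w.2⟩
        invFun := fun w => ⟨(x ^ (s - 1)) w, hpow _ w w.2⟩
        left_inv := fun w => Subtype.ext (hinv w)
        right_inv := fun w => Subtype.ext (by
          show x ((x ^ (s - 1)) w) = _
          rw [← Module.End.mul_apply, ← pow_succ', Nat.sub_add_cancel hs.one_le, hxs]; rfl) }
    have hσpow : ∀ (j : ℕ) (w : W), ((σ ^ j) w : V) = (x ^ j) w := fun j => by
      induction j with
      | zero => intro w; rfl
      | succ j ih =>
        intro w
        rw [pow_succ', Equiv.Perm.mul_apply, pow_succ', Module.End.mul_apply, ← ih]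
        rfl
    have hσ : σ ^ s ^ 1 = 1 := by
      ext w
      rw [pow_one, hσpow, hxs]
      rfl
    have h := Equiv.Perm.card_compl_support_modEq hσ
    rw [← hcard, ← hcard]
    rw [← Nat.card_eq_fintype_card] at h
    convert h using 1
    rw [← Nat.card_eq_finsetCard]
    refine Nat.card_congr
      { toFun := fun v => ⟨⟨v, v.2.1⟩, by
          simp only [Finset.mem_compl, Equiv.Perm.mem_support, not_not]
          exact Subtype.ext ((hFmem v).1 v.2.2)⟩
        invFun := fun w => ⟨(w.1 : V), w.1.2, (hFmem _).2 (by
          have := w.2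
          simp only [Finset.mem_compl, Equiv.Perm.mem_support, not_not] at this
          exact congrArg Subtype.val this)⟩
        left_inv := fun v => rfl
        right_inv := fun w => rfl }
  have hF0 : F = ⊥ := by
    have h := hfix ⊤ fun _ _ => Submodule.mem_top
    rw [top_inf_eq, finrank_top] at h
    rcases hsplit _ _ (Submodule.finrank_le F) h with h1 | h1
    · exfalso
      refine hx1 (LinearMap.ext fun v => (hFmem v).1 ?_)
      rw [Submodule.eq_top_of_finrank_eq h1]
      exact Submodule.mem_top
    · have hle : Module.finrank (ZMod p) F ≤ n := Submodule.finrank_le F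
      have : Module.finrank (ZMod p) F = 0 := by omega
      exact Submodule.finrank_eq_zero.1 this
  intro W hW
  have h := hfix W hW
  rw [hF0, inf_bot_eq, finrank_bot] at h
  rcases hsplit 0 _ (Nat.zero_le _) h with h1 | h1
  · exact Or.inl (Submodule.finrank_eq_zero.1 h1.symm)
  · right
    refine Submodule.eq_top_of_finrank_eq (le_antisymm (Submodule.finrank_le W) ?_)
    rwa [Nat.sub_zero] at h1

omit [Finite E] [Finite V] in
open Classical in
/-- An element whose powers are conjugate has at most as many of them as the dimension. -/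
theorem conj_powers_le [FiniteDimensional (ZMod p) V] [Nontrivial V] (hφ : Function.Injective φ)
    {y : E} (hy : IrredEnd (φ y)) (s : Finset E)
    (hs : ∀ z ∈ s, z * y = y * z ∧ IsConj y z) : s.card ≤ Module.finrank (ZMod p) V := by
  set R := Subalgebra.centralizer (ZMod p) ({φ y} : Set (Module.End (ZMod p) V)) with hR
  have hmem : ∀ f : R, (f : Module.End (ZMod p) V) * φ y = φ y * f := fun f =>
    ((Subalgebra.mem_centralizer_iff (R := ZMod p)).1 f.2 _ rfl).symm
  letI : CommRing R := { (inferInstance : Ring R) with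
    mul_comm := fun f g => Subtype.ext (commute_of_irredEnd hy (hmem f) (hmem g)) }
  haveI : Nontrivial R := ⟨⟨0, 1, fun h => zero_ne_one (α := Module.End (ZMod p) V)
    (congrArg Subtype.val h)⟩⟩
  haveI : NoZeroDivisors R := ⟨fun {f g} h => by
    rcases eq_zero_or_injective_of_commute hy (hmem f) with hf | hf
    · exact Or.inl (Subtype.ext hf)
    · refine Or.inr (Subtype.ext (LinearMap.ext fun v => hf ?_))
      have := LinearMap.congr_fun (congrArg Subtype.val h) v
      simpa using this⟩
  haveI : IsDomain R := NoZeroDivisors.to_isDomain R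
  letI : Algebra (ZMod p) R := Subalgebra.algebra R
  set P := LinearMap.charpoly (φ y) with hP
  have hdeg : P.natDegree = Module.finrank (ZMod p) V := LinearMap.charpoly_natDegree _
  have hne : P.map (algebraMap (ZMod p) R) ≠ 0 :=
    (LinearMap.charpoly_monic _).map _ |>.ne_zero
  let f : {z // z ∈ s} → R := fun z => ⟨φ z.1, by
    rw [hR, Subalgebra.mem_centralizer_iff]
    rintro _ rfl
    rw [← map_mul, ← map_mul]
    exact congrArg φ (hs _ z.2).1.symm⟩
  have hinj : Function.Injective f := fun a b h => Subtype.ext (hφ (congrArg Subtype.val h))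
  have hroot : ∀ z, f z ∈ (P.map (algebraMap (ZMod p) R)).roots.toFinset := by
    intro z
    obtain ⟨g, hg⟩ := isConj_iff.1 (hs _ z.2).2
    rw [Multiset.mem_toFinset, Polynomial.mem_roots hne, Polynomial.IsRoot,
      Polynomial.eval_map_algebraMap]
    apply Subtype.ext
    rw [ZeroMemClass.coe_zero, show ((Polynomial.aeval (f z) P : R) : Module.End (ZMod p) V) =
      Polynomial.aeval (φ z.1) P from (Polynomial.aeval_algHom_apply R.val (f z) P).symm]
    have hcomm : SemiconjBy (φ g) (Polynomial.aeval (φ y) P) (Polynomial.aeval (φ z.1) P) := by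
      induction P using Polynomial.induction_on' with
      | add a b ha hb => rw [map_add, map_add]; exact ha.add_right hb
      | monomial k c =>
        rw [Polynomial.aeval_monomial, Polynomial.aeval_monomial]
        have h1 : SemiconjBy (φ g) (φ y) (φ z.1) := by
          rw [SemiconjBy, ← map_mul, ← map_mul, ← hg, inv_mul_cancel_right]
        exact SemiconjBy.mul_right (Algebra.commutes c (φ g)).symm (h1.pow_right k)
    have h0 : Polynomial.aeval (φ z.1) P * φ g = 0 := by
      rw [← hcomm.eq, hP, LinearMap.aeval_self_charpoly, mul_zero]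
    calc Polynomial.aeval (φ z.1) P = Polynomial.aeval (φ z.1) P * φ g * φ g⁻¹ := by
          rw [mul_assoc, ← map_mul, mul_inv_cancel, map_one, mul_one]
      _ = 0 := by rw [h0, zero_mul]
  calc s.card = (Finset.univ.image f).card := by
        rw [Finset.card_image_of_injective _ hinj, Finset.card_univ, Fintype.card_coe]
    _ ≤ (P.map (algebraMap (ZMod p) R)).roots.toFinset.card :=
        Finset.card_le_card (by
          intro a ha
          obtain ⟨z, -, rfl⟩ := Finset.mem_image.1 ha
          exact hroot z)
    _ ≤ Multiset.card (P.map (algebraMap (ZMod p) R)).roots := Multiset.toFinset_card_le _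
    _ ≤ (P.map (algebraMap (ZMod p) R)).natDegree := Polynomial.card_roots' _
    _ = P.natDegree := (LinearMap.charpoly_monic _).natDegree_map _
    _ = _ := hdeg

/-- Common eigen vectors of involutive maps. -/
def signVecs (S : Set (Module.End (ZMod p) V)) : Set V :=
  {v | ∀ a ∈ S, a v = v ∨ a v = -v}

omit [Finite V] in
open Classical in
theorem span_signVecs (h2 : (2 : ZMod p) ≠ 0) (s : Finset (Module.End (ZMod p) V))
    (hinv : ∀ a ∈ s, a * a = 1) (hcomm : ∀ a ∈ s, ∀ b ∈ s, a * b = b * a) :
    Submodule.span (ZMod p) (signVecs (s : Set (Module.End (ZMod p) V))) = ⊤ := by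
  induction s using Finset.induction_on with
  | empty =>
    rw [show signVecs ((∅ : Finset (Module.End (ZMod p) V)) : Set (Module.End (ZMod p) V)) =
      Set.univ from Set.eq_univ_of_forall fun v a ha => by simp at ha]
    exact Submodule.span_univ
  | insert a s ha ih =>
    rw [eq_top_iff, ← ih (fun b hb => hinv b (Finset.mem_insert_of_mem hb))
      fun b hb c hc => hcomm b (Finset.mem_insert_of_mem hb) c (Finset.mem_insert_of_mem hc),
      Submodule.span_le]
    intro v hv
    have haa : a (a v) = v := LinearMap.congr_fun (hinv a (Finset.mem_insert_self _ _)) v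
    have hmem : ∀ w : V, (w = v + a v ∨ w = v - a v) →
        w ∈ signVecs (↑(insert a s) : Set (Module.End (ZMod p) V)) := by
      intro w hw b hb
      rcases Finset.mem_insert.1 hb with rfl | hb'
      · rcases hw with rfl | rfl
        · left; rw [map_add, haa, add_comm]
        · right; rw [map_sub, haa, neg_sub]
      · have hba : b (a v) = a (b v) := LinearMap.congr_fun
          (hcomm b (Finset.mem_insert_of_mem hb') a (Finset.mem_insert_self _ _)) v
        rcases hv b hb' with h | h
        · left
          rcases hw with rfl | rfl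
          · rw [map_add, hba, h]
          · rw [map_sub, hba, h]
        · right
          rcases hw with rfl | rfl
          · rw [map_add, hba, h, map_neg, neg_add]
          · rw [map_sub, hba, h, map_neg]; abel
    have e : v = (2 : ZMod p)⁻¹ • ((v + a v) + (v - a v)) := by
      rw [show (v + a v) + (v - a v) = (2 : ZMod p) • v by rw [two_smul]; abel, smul_smul,
        inv_mul_cancel₀ h2, one_smul]
    rw [SetLike.mem_coe, e]
    exact Submodule.smul_mem _ _ (Submodule.add_mem _ (Submodule.subset_span (hmem _ (Or.inl rfl)))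
      (Submodule.subset_span (hmem _ (Or.inr rfl))))

open Classical in
/-- Signs: an elementary abelian group of involutive maps has a basis of sign vectors. -/
theorem exists_sign_basis (h2 : (2 : ZMod p) ≠ 0) {U : Subgroup E}
    (hU : ∀ a ∈ U, a * a = 1) (hUc : ∀ a ∈ U, ∀ b ∈ U, a * b = b * a) :
    ∃ b : Module.Basis (Fin (Module.finrank (ZMod p) V)) (ZMod p) V,
      ∀ a ∈ U, ∀ i, φ a (b i) = b i ∨ φ a (b i) = -b i := by
  haveI : FiniteDimensional (ZMod p) V := Module.Finite.of_finite
  letI := Fintype.ofFinite E
  set s : Finset (Module.End (ZMod p) V) := (Finset.univ.filter (· ∈ U)).image φ with hs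
  have hspan := span_signVecs h2 s
    (fun x hx => by
      obtain ⟨a, ha, rfl⟩ := Finset.mem_image.1 hx
      rw [← map_mul, hU a (Finset.mem_filter.1 ha).2, map_one])
    (fun x hx y hy => by
      obtain ⟨a, ha, rfl⟩ := Finset.mem_image.1 hx
      obtain ⟨b, hb, rfl⟩ := Finset.mem_image.1 hy
      rw [← map_mul, ← map_mul, hUc a (Finset.mem_filter.1 ha).2 b (Finset.mem_filter.1 hb).2])
  obtain ⟨t, hts, htspan, htli⟩ := exists_linearIndependent (ZMod p) (signVecs
    (s : Set (Module.End (ZMod p) V)))
  let b₀ : Module.Basis t (ZMod p) V := Module.Basis.mk htli (by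
    rw [Subtype.range_coe_subtype, Set.setOf_mem_eq, htspan, hspan])
  haveI : Fintype t := FiniteDimensional.fintypeBasisIndex b₀
  refine ⟨b₀.reindex (Fintype.equivFinOfCardEq (Module.finrank_eq_card_basis b₀).symm),
    fun a ha i => ?_⟩
  simp only [Module.Basis.coe_reindex, Function.comp_apply, b₀, Module.Basis.coe_mk]
  exact hts ((Fintype.equivFinOfCardEq (Module.finrank_eq_card_basis b₀).symm).symm i).2 (φ a)
    (Finset.mem_image_of_mem φ (Finset.mem_filter.2 ⟨Finset.mem_univ _, ha⟩))

open Classical in
theorem card_elementary_le (hφ : Function.Injective φ) (h2 : (2 : ZMod p) ≠ 0) {U : Subgroup E}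
    (hU : ∀ a ∈ U, a * a = 1) (hUc : ∀ a ∈ U, ∀ b ∈ U, a * b = b * a) :
    Nat.card U ≤ 2 ^ Module.finrank (ZMod p) V := by
  obtain ⟨b, hb⟩ := exists_sign_basis (φ := φ) (V := V) h2 hU hUc
  have hinj : Function.Injective fun a : U => fun i => decide (φ a (b i) = b i) := by
    intro a a' h
    refine Subtype.ext (hφ (b.ext fun i => ?_))
    have hi : (φ a (b i) = b i) ↔ (φ a' (b i) = b i) := by simpa using congrFun h i
    rcases hb a a.2 i with h1 | h1 <;> rcases hb a' a'.2 i with h2 | h2
    · rw [h1, h2]
    · rw [h1, hi.1 h1]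
    · rw [h2, hi.2 h2]
    · rw [h1, h2]
  refine (Nat.card_le_card_of_injective _ hinj).trans ?_
  simp

theorem two_squares_parity {e c x y : ℕ} (he : e ≠ 0) (hc : c ≠ 0) (hx : x ≠ 0) (hy : y ≠ 0)
    (h : e * x ^ 2 = c * y ^ 2) (s : ℕ) :
    e.factorization s % 2 = c.factorization s % 2 := by
  have := congrArg (fun z : ℕ => z.factorization s) h
  simp only [Nat.factorization_mul he (pow_ne_zero _ hx),
    Nat.factorization_mul hc (pow_ne_zero _ hy), Nat.factorization_pow, Finsupp.add_apply,
    Finsupp.smul_apply, smul_eq_mul] at this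
  omega

theorem even_factorization_of_sum_sq {e s : ℕ} (he : e ≠ 0) (hs : s.Prime)
    (h : ∃ a b, e = a ^ 2 + b ^ 2) (h4 : s % 4 = 3) : Even (e.factorization s) := by
  by_cases hd : s ∣ e
  · have := Nat.eq_sq_add_sq_iff.1 h s (Nat.mem_primeFactors.2 ⟨hs, hd, he⟩) h4
    rwa [← Nat.factorization_def e hs] at this
  · rw [Nat.factorization_eq_zero_of_not_dvd hd]
    exact Even.zero

omit [Finite V] in
/-- Transitivity makes the number of nonzero vectors a divisor of the order. -/
theorem card_sub_one_dvd [Nontrivial V]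
    (htrans : ∀ v w : V, v ≠ 0 → w ≠ 0 → ∃ g : E, φ g v = w) : Nat.card V - 1 ∣ Nat.card E := by
  classical
  haveI : Finite V := by
    obtain ⟨v₀, hv₀⟩ := exists_ne (0 : V)
    refine Finite.of_surjective (fun o : Option E => o.elim 0 fun g => φ g v₀) fun w => ?_
    by_cases hw : w = 0
    · exact ⟨none, hw.symm⟩
    · obtain ⟨g, hg⟩ := htrans v₀ w hv₀ hw
      exact ⟨some g, hg⟩
  obtain ⟨v₀, hv₀⟩ := exists_ne (0 : V)
  letI : MulAction E V :=
    { smul := fun g v => φ g v
      one_smul := fun v => by show φ 1 v = v; rw [map_one]; rfl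
      mul_smul := fun g h v => by show φ (g * h) v = φ g (φ h v); rw [map_mul]; rfl }
  have horb : MulAction.orbit E v₀ = {v : V | v ≠ 0} := by
    ext w
    constructor
    · rintro ⟨g, rfl⟩ h
      apply hv₀
      have h1 : φ g⁻¹ (φ g v₀) = v₀ := by
        rw [← Module.End.mul_apply, ← map_mul, inv_mul_cancel, map_one]; rfl
      rw [← h1, show φ g v₀ = 0 from h, map_zero]
    · intro hw
      exact htrans v₀ w hv₀ hw
  have h1 := Nat.card_congr (MulAction.orbitEquivQuotientStabilizer E v₀)
  rw [horb] at h1
  have h2 : Nat.card {v : V | v ≠ 0} = Nat.card V - 1 := by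
    letI := Fintype.ofFinite V
    rw [Nat.card_eq_fintype_card, Nat.card_eq_fintype_card]
    simp [Finset.filter_ne', Finset.card_erase_of_mem]
  rw [← h2, h1]
  exact Subgroup.index_dvd_card _

theorem order_eq_of_good (hgood : ∀ y y' : E, y ≠ 1 → y' ≠ 1 →
      IsCyclic (Subgroup.centralizer ({y} : Set E)) →
      IsCyclic (Subgroup.centralizer ({y'} : Set E)) → IsConj y y')
    {y : E} (hy1 : y ≠ 1) (hcyc : IsCyclic (Subgroup.centralizer ({y} : Set E))) :
    Nat.card (Subgroup.centralizer ({y} : Set E)) = orderOf y := by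
  obtain ⟨u, hu⟩ := IsCyclic.exists_generator (α := Subgroup.centralizer ({y} : Set E))
  have hy : y ∈ Subgroup.centralizer ({y} : Set E) := Subgroup.mem_centralizer_iff.2 fun z hz => by
    rw [Set.mem_singleton_iff.1 hz]
  have hgen : Nat.card (Subgroup.centralizer ({y} : Set E)) = orderOf (u : E) := by
    rw [orderOf_submonoid u, ← Nat.card_zpowers u,
      (Subgroup.eq_top_iff' _).2 hu, Subgroup.card_top]
  obtain ⟨k, hk⟩ := Subgroup.mem_zpowers_iff.1 (hu ⟨y, hy⟩)
  have hk' : (u : E) ^ k = y := congrArg Subtype.val hk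
  have hu1 : (u : E) ≠ 1 := fun h => hy1 (by rw [← hk', h, one_zpow])
  have hle : Subgroup.centralizer ({(u : E)} : Set E) ≤ Subgroup.centralizer ({y} : Set E) := by
    intro z hz
    rw [Subgroup.mem_centralizer_iff] at hz ⊢
    intro w hw
    rw [Set.mem_singleton_iff.1 hw, ← hk']
    exact ((show Commute (u : E) z from hz u rfl).zpow_left k).eq
  have hucyc : IsCyclic (Subgroup.centralizer ({(u : E)} : Set E)) :=
    isCyclic_of_injective (Subgroup.inclusion hle) (Subgroup.inclusion_injective hle)
  obtain ⟨g, hg⟩ := isConj_iff.1 (hgood y u hy1 hu1 hcyc hucyc)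
  rw [hgen, ← hg]
  exact ((MulAut.conj g).orderOf_eq y)

end Cfsg.Lib.Block
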