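import Cfsg.Agent.Lib.Block.OneClassCyclic

/-!
# The case division for transitive groups with one class of elements with cyclic centralizer
-/

set_option autoImplicit false
set_option linter.unusedSectionVars false
set_option maxHeartbeats 1000000

namespace Cfsg.Lib.Block

open Cfsg

universe u v

variable {p : ℕ} [hp : Fact p.Prime] {V : Type v} [AddCommGroup V] [Module (ZMod p) V] [Finite V]
  {E : Type u} [Group E] [Finite E] {φ : E →* Module.End (ZMod p) V}

/-- The hypotheses. -/
structure OneClassData (φ : E →* Module.End (ZMod p) V) : Prop where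
  inj : Function.Injective φ
  trans : ∀ v w : V, v ≠ 0 → w ≠ 0 → ∃ g : E, φ g v = w
  coprime : ¬ p ∣ Nat.card E
  squares : ∃ a b, Nat.card E = a ^ 2 + b ^ 2
  ratio : ∃ x y : ℕ, x ≠ 0 ∧ y ≠ 0 ∧ Nat.card E * x ^ 2 = (Nat.card V - 1) * y ^ 2
  good : ∀ y y' : E, y ≠ 1 → y' ≠ 1 → IsCyclic (Subgroup.centralizer ({y} : Set E)) →
      IsCyclic (Subgroup.centralizer ({y'} : Set E)) → IsConj y y'

variable (D : OneClassData φ) {n : ℕ} (hn : Module.finrank (ZMod p) V = n)

include hn in
theorem card_vec : Nat.card V = p ^ n := by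
  rw [Module.natCard_eq_pow_finrank (K := ZMod p), Nat.card_zmod, hn]

include D hn in
theorem parity (h1 : 1 ≤ n) (s : ℕ) :
    (Nat.card E).factorization s % 2 = (p ^ n - 1).factorization s % 2 := by
  obtain ⟨x, y, hx, hy, h⟩ := D.ratio
  rw [card_vec hn] at h
  have : 1 < p ^ n := Nat.one_lt_pow (by omega) hp.out.one_lt
  exact two_squares_parity Nat.card_pos.ne' (by omega) hx hy h s

include D hn in
theorem dvd_order (h1 : 1 ≤ n) : p ^ n - 1 ∣ Nat.card E := by
  haveI : Nontrivial V := Module.nontrivial_of_finrank_pos (R := ZMod p) (by omega)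
  rw [← card_vec hn]
  exact card_sub_one_dvd D.trans

include D hn in
/-- Dimension one. -/
theorem case_one (h1 : n = 1) : p ≤ 3 := by
  haveI : Nontrivial V := Module.nontrivial_of_finrank_pos (R := ZMod p) (by omega)
  haveI : FiniteDimensional (ZMod p) V := Module.Finite.of_finite
  have hirr : ∀ g : E, IrredEnd (φ g) := fun g W _ => by
    rcases Nat.eq_zero_or_pos (Module.finrank (ZMod p) W) with h | h
    · exact Or.inl (Submodule.finrank_eq_zero.1 h)
    · exact Or.inr (Submodule.eq_top_of_finrank_eq (le_antisymm (Submodule.finrank_le W) (by omega)))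
  have hab : ∀ a b : E, a * b = b * a := fun a b => by
    refine D.inj ?_
    rw [map_mul, map_mul]
    exact commute_of_irredEnd (hirr 1) (by rw [map_one, one_mul, mul_one])
      (by rw [map_one, one_mul, mul_one])
  have hdvd := dvd_order D hn (by omega)
  rw [h1, pow_one] at hdvd
  have hle : Nat.card E ≤ 2 := by
    by_contra h3
    letI := Fintype.ofFinite E
    classical
    have : ∃ a b : E, a ≠ 1 ∧ b ≠ 1 ∧ a ≠ b := by
      rw [Nat.card_eq_fintype_card] at h3
      have h4 : 2 ≤ (Finset.univ.erase (1 : E)).card := by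
        rw [Finset.card_erase_of_mem (Finset.mem_univ _), Finset.card_univ]; omega
      obtain ⟨a, ha, b, hb, hne⟩ := Finset.one_lt_card.1 h4
      exact ⟨a, b, (Finset.mem_erase.1 ha).1, (Finset.mem_erase.1 hb).1, hne⟩
    obtain ⟨a, b, ha, hb, hne⟩ := this
    obtain ⟨g, hg⟩ := isConj_iff.1 (D.good a b ha hb
      (isCyclic_centralizer_of_irred D.inj (hirr a)) (isCyclic_centralizer_of_irred D.inj (hirr b)))
    exact hne (by rw [← hg, hab g a, mul_inv_cancel_right])
  have := Nat.le_of_dvd Nat.card_pos hdvd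
  omega

include D hn in
/-- Characteristic two. -/
theorem case_two (h1 : 2 ≤ n) : p ≠ 2 := by
  rintro rfl
  have hpos : 2 ^ 2 ≤ 2 ^ n := Nat.pow_le_pow_right two_pos h1
  have h4 : (2 ^ n - 1) % 4 = 3 := by
    obtain ⟨j, rfl⟩ : ∃ j, n = j + 2 := ⟨n - 2, by omega⟩
    rw [pow_add] at hpos ⊢
    omega
  have hns : ¬ ∃ a b, 2 ^ n - 1 = a ^ 2 + b ^ 2 := by
    rintro ⟨a, b, h⟩
    have key : ∀ x y : ZMod 4, x ^ 2 + y ^ 2 ≠ 3 := by decide
    refine key a b ?_
    have h5 := congrArg (Nat.cast (R := ZMod 4)) h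
    push_cast at h5
    rw [← h5, ← ZMod.natCast_mod, h4]
    rfl
  rw [Nat.eq_sq_add_sq_iff] at hns
  push Not at hns
  obtain ⟨s, hs, hs4, hodd⟩ := hns
  have hsp := Nat.prime_of_mem_primeFactors hs
  rw [← Nat.factorization_def _ hsp] at hodd
  have he := even_factorization_of_sum_sq Nat.card_pos.ne' hsp D.squares hs4
  have := parity D hn (by omega) s
  rw [Nat.even_iff] at he
  exact hodd (Nat.even_iff.2 (by omega))

include D hn in
open Classical in
/-- A primitive prime divisor is `n + 1`, congruent to one modulo four, and occurs once. -/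
theorem primitive_facts (h2 : 2 ≤ n) {s : ℕ} (hs : s.Prime) (hdvd : s ∣ p ^ n - 1)
    (hprim : ∀ k : ℕ, 0 < k → k < n → ¬ s ∣ p ^ k - 1) :
    s = n + 1 ∧ 4 ∣ n ∧ ¬ s ^ 2 ∣ Nat.card E ∧
      ∃ y : E, orderOf y = s ∧ Nat.card (Subgroup.centralizer ({y} : Set E)) = s ∧
        IsCyclic (Subgroup.centralizer ({y} : Set E)) := by
  haveI := Fact.mk hs
  haveI : FiniteDimensional (ZMod p) V := Module.Finite.of_finite
  haveI : Nontrivial V := Module.nontrivial_of_finrank_pos (R := ZMod p) (by omega)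
  letI := Fintype.ofFinite E
  have hpn : 1 ≤ p ^ n := Nat.one_le_pow _ _ hp.out.pos
  have hsp : s ≠ p := by
    rintro rfl
    have h1 : s ∣ s ^ n := dvd_pow_self s (by omega)
    have h2 := Nat.dvd_sub h1 hdvd
    rw [Nat.sub_sub_self hpn] at h2
    exact hs.ne_one (Nat.dvd_one.1 h2)
  -- the order of `p` modulo `s`
  have hp0 : (p : ZMod s) ≠ 0 := fun h =>
    hsp ((Nat.prime_dvd_prime_iff_eq hs hp.out).1 ((ZMod.natCast_eq_zero_iff _ _).1 h))
  have hordn : orderOf (p : ZMod s) = n := by
    have hpow : ∀ k, (p : ZMod s) ^ k = 1 ↔ s ∣ p ^ k - 1 := fun k => by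
      rw [← ZMod.natCast_eq_zero_iff, Nat.cast_sub (Nat.one_le_pow _ _ hp.out.pos), sub_eq_zero,
        Nat.cast_pow, Nat.cast_one]
    refine (orderOf_eq_iff (by omega)).2 ⟨(hpow n).2 hdvd, fun k hk hk0 h => ?_⟩
    exact hprim k hk0 hk ((hpow k).1 h)
  have hns : n ≤ s - 1 := Nat.le_of_dvd (by have := hs.two_le; omega)
    (hordn ▸ ZMod.orderOf_dvd_card_sub_one hp0)
  obtain ⟨y, hy⟩ := exists_prime_orderOf_dvd_card' (G := E) s (hdvd.trans (dvd_order D hn (by omega)))
  have hy1 : y ≠ 1 := fun h => hs.ne_one (by rw [← hy, h, orderOf_one])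
  have hirr : ∀ z : E, orderOf z = s → IrredEnd (φ z) := fun z hz => by
    refine irred_of_primitive hs (fun h => hs.ne_one ?_) (by rw [← map_pow, ← hz, pow_orderOf_eq_one,
      map_one]) hsp (hn ▸ hprim)
    rw [← hz, show z = 1 from D.inj (h.trans (map_one φ).symm), orderOf_one]
  have hcyc := isCyclic_centralizer_of_irred D.inj (hirr y hy)
  have hcard := order_eq_of_good D.good hy1 hcyc
  rw [hy] at hcard
  -- the powers are conjugate
  have hbound := conj_powers_le D.inj (hirr y hy)
    ((Finset.range (s - 1)).image fun j => y ^ (j + 1)) (fun z hz => by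
      obtain ⟨j, hj, rfl⟩ := Finset.mem_image.1 hz
      rw [Finset.mem_range] at hj
      refine ⟨((Commute.refl y).pow_left _).eq, ?_⟩
      have hz : orderOf (y ^ (j + 1)) = s := by
        rw [← hy]
        refine Nat.Coprime.orderOf_pow ?_
        rw [hy, hs.coprime_iff_not_dvd]
        exact fun h => by have := Nat.le_of_dvd (by omega) h; omega
      exact D.good y _ hy1 (fun h => hs.ne_one (by rw [← hz, h, orderOf_one])) hcyc
        (isCyclic_centralizer_of_irred D.inj (hirr _ hz)))
  rw [Finset.card_image_of_injOn, Finset.card_range, hn] at hbound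
  swap
  · intro i hi j hj h
    simp only [Finset.coe_range, Set.mem_Iio] at hi hj
    have := pow_injOn_Iio_orderOf (x := y) (by simp [hy]; omega) (by simp [hy]; omega)
      (show y ^ (i + 1) = y ^ (j + 1) from h)
    omega
  have hsn : s = n + 1 := by omega
  have hsq : ¬ s ^ 2 ∣ Nat.card E := by
    intro hd
    obtain ⟨P, hP⟩ := (IsPGroup.of_card (n := 1)
      (by rw [Nat.card_zpowers, hy, pow_one] : Nat.card (Subgroup.zpowers y) = s ^ 1)).exists_le_sylow
    have hPd : s ^ 2 ∣ Nat.card (P : Subgroup E) := by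
      rw [Sylow.card_eq_multiplicity]
      exact pow_dvd_pow s ((hs.pow_dvd_iff_le_factorization Nat.card_pos.ne').1 hd)
    haveI : Nontrivial (P : Subgroup E) := by
      refine Finite.one_lt_card_iff_nontrivial.1 (lt_of_lt_of_le ?_ (Nat.le_of_dvd Nat.card_pos hPd))
      exact Nat.one_lt_pow (by norm_num) hs.one_lt
    haveI := P.2.center_nontrivial
    obtain ⟨z, hz⟩ := exists_ne (1 : Subgroup.center (P : Subgroup E))
    set C := Subgroup.centralizer ({y} : Set E)
    have hyP : y ∈ (P : Subgroup E) := hP (Subgroup.mem_zpowers y)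
    have hzc : ∀ x : (P : Subgroup E), Commute ((z : (P : Subgroup E)) : E) (x : E) := fun x =>
      congrArg Subtype.val (Subgroup.mem_center_iff.1 z.2 x).symm
    have hzC : ((z : (P : Subgroup E)) : E) ∈ C := Subgroup.mem_centralizer_iff.2 fun w hw => by
      rw [Set.mem_singleton_iff.1 hw]
      exact (hzc ⟨y, hyP⟩).eq.symm
    have hyC : y ∈ C := Subgroup.mem_centralizer_iff.2 fun w hw => by
      rw [Set.mem_singleton_iff.1 hw]
    have htop : Subgroup.zpowers (⟨((z : (P : Subgroup E)) : E), hzC⟩ : C) = ⊤ :=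
      zpowers_eq_top_of_prime_card hcard fun h => hz (Subtype.ext (Subtype.ext
        (congrArg (Subtype.val : C → E) h)))
    obtain ⟨k, hk⟩ := Subgroup.mem_zpowers_iff.1
      (htop ▸ Subgroup.mem_top (⟨y, hyC⟩ : C))
    have hk' : ((z : (P : Subgroup E)) : E) ^ k = y := congrArg Subtype.val hk
    have hle : (P : Subgroup E) ≤ C := fun x hx => Subgroup.mem_centralizer_iff.2 fun w hw => by
      rw [Set.mem_singleton_iff.1 hw, ← hk']
      exact ((hzc ⟨x, hx⟩).zpow_left k).eq
    have := Nat.le_of_dvd Nat.card_pos hPd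
    have h3 := (Subgroup.card_le_of_le hle).trans_eq hcard
    nlinarith [hs.two_le]
  refine ⟨hsn, ?_, hsq, y, hy, hcard, hcyc⟩
  have hv : (Nat.card E).factorization s = 1 := by
    refine le_antisymm ?_ ?_
    · by_contra h
      exact hsq ((hs.pow_dvd_iff_le_factorization Nat.card_pos.ne').2 (by omega))
    · refine (hs.pow_dvd_iff_le_factorization Nat.card_pos.ne').1 ?_
      rw [pow_one]
      exact hdvd.trans (dvd_order D hn (by omega))
  have h3 : s % 4 ≠ 3 := fun h => by
    have := even_factorization_of_sum_sq Nat.card_pos.ne' hs D.squares h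
    rw [hv] at this
    exact absurd this (by decide)
  have hodd : Odd s := hs.odd_of_ne_two (by omega)
  obtain ⟨i, hi⟩ := hodd
  exact Nat.dvd_of_mod_eq_zero (by omega)

include D hn in
open Classical in
/-- The exceptional power `3 ^ 4` does not occur. -/
theorem case_eightyone (hp3 : p = 3) (h4 : n = 4) : False := by
  subst hp3
  haveI : FiniteDimensional (ZMod 3) V := Module.Finite.of_finite
  haveI : Nontrivial V := Module.nontrivial_of_finrank_pos (R := ZMod 3) (by omega)
  letI := Fintype.ofFinite E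
  haveI h5 : Fact (Nat.Prime 5) := ⟨Nat.prime_five⟩
  have hprim : ∀ k : ℕ, 0 < k → k < n → ¬ 5 ∣ 3 ^ k - 1 := by
    intro k hk0 hk
    rw [h4] at hk
    interval_cases k <;> norm_num
  obtain ⟨-, -, hsq, y, hy, hcard, hcyc⟩ :=
    primitive_facts D hn (by omega) Nat.prime_five (by rw [h4]; norm_num) hprim
  have hy1 : y ≠ 1 := fun h => by rw [h, orderOf_one] at hy; omega
  -- the order divides that of the general linear group
  let b : Module.Basis (Fin 4) (ZMod 3) V :=
    Module.finBasisOfFinrankEq (ZMod 3) V (by rw [hn, h4])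
  let F : E →* Matrix.GeneralLinearGroup (Fin 4) (ZMod 3) :=
    ((LinearMap.toMatrixAlgEquiv b).toAlgHom.toMonoidHom.comp φ).toHomUnits
  have hF : Function.Injective F := fun a c h => D.inj
    ((LinearMap.toMatrixAlgEquiv b).injective (congrArg Units.val h))
  have hdGL : Nat.card E ∣ 2 ^ 9 * 3 ^ 6 * (5 * 13) := by
    have h := Subgroup.card_dvd_of_injective F hF
    rw [Matrix.card_GL_field] at h
    refine h.trans (dvd_of_eq ?_)
    simp [Fin.prod_univ_four, ZMod.card]
  have hd : Nat.card E ∣ 2 ^ 9 * (5 * 13) := by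
    refine Nat.Coprime.dvd_of_dvd_mul_right (n := 3 ^ 6) ?_ (hdGL.trans (dvd_of_eq (by norm_num)))
    exact (Nat.Coprime.pow_left 6 ((Nat.prime_three.coprime_iff_not_dvd).2 D.coprime)).symm
  have h80 : 80 ∣ Nat.card E := by
    have := dvd_order D hn (by omega)
    rwa [h4] at this
  have h13 : ¬ 13 ∣ Nat.card E := by
    intro h
    have hle : (Nat.card E).factorization 13 ≤ 1 := by
      refine ((Nat.factorization_le_iff_dvd Nat.card_pos.ne' (by norm_num)).2 hd 13).trans
        (le_of_eq ?_)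
      rw [Nat.factorization_mul (by norm_num) (by norm_num), Nat.factorization_mul (by norm_num)
        (by norm_num), Nat.Prime.factorization_pow Nat.prime_two, Nat.prime_five.factorization,
        (by norm_num : Nat.Prime 13).factorization]
      simp
    have hpos := (by norm_num : Nat.Prime 13).factorization_pos_of_dvd Nat.card_pos.ne' h
    have hpar := parity D hn (by omega) 13
    rw [h4, Nat.factorization_eq_zero_of_not_dvd (by norm_num : ¬ 13 ∣ 3 ^ 4 - 1)] at hpar
    omega
  obtain ⟨i, hi, hE⟩ : ∃ i, i ≤ 9 ∧ Nat.card E = 5 * 2 ^ i := by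
    have h1 : Nat.card E ∣ 5 * 2 ^ 9 := by
      refine Nat.Coprime.dvd_of_dvd_mul_right (n := 13) ?_ (hd.trans (dvd_of_eq (by norm_num)))
      exact ((by norm_num : Nat.Prime 13).coprime_iff_not_dvd.2 h13).symm
    obtain ⟨t, ht⟩ := (Dvd.dvd.trans (by norm_num : 5 ∣ 80) h80)
    rw [ht] at h1
    obtain ⟨i, hi, rfl⟩ := (Nat.dvd_prime_pow Nat.prime_two).1
      (Nat.dvd_of_mul_dvd_mul_left (by norm_num) h1)
    exact ⟨i, hi, ht⟩
  -- the class of `y` modulo five
  have hcentral : Nat.card E = 5 * Nat.card {z : E // IsConj y z} := by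
    rw [← hcard]
    letI : MulAction (ConjAct E) E := inferInstance
    have h := Subgroup.card_mul_index (Subgroup.centralizer ({y} : Set E))
    rw [← h]
    congr 1
    rw [Subgroup.index]
    refine Nat.card_congr ?_
    refine Equiv.ofBijective (fun q => Quotient.liftOn' q (fun g => (⟨g * y * g⁻¹,
      isConj_iff.2 ⟨g, rfl⟩⟩ : {z : E // IsConj y z})) fun a c hac => ?_) ⟨?_, ?_⟩
    · rw [QuotientGroup.leftRel_apply] at hac
      have hc := Subgroup.mem_centralizer_iff.1 hac y rfl
      refine Subtype.ext ?_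
      calc a * y * a⁻¹ = a * (y * (a⁻¹ * c)) * c⁻¹ := by group
        _ = c * y * c⁻¹ := by rw [hc]; group
    · intro q q' h
      induction q using Quotient.inductionOn' with | _ a => ?_
      induction q' using Quotient.inductionOn' with | _ c => ?_
      refine Quotient.sound' ?_
      rw [QuotientGroup.leftRel_apply, Subgroup.mem_centralizer_iff]
      intro w hw
      rw [Set.mem_singleton_iff.1 hw]
      have h' : a * y * a⁻¹ = c * y * c⁻¹ := congrArg Subtype.val h
      calc y * (a⁻¹ * c) = a⁻¹ * (a * y * a⁻¹) * c := by group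
        _ = a⁻¹ * c * y := by rw [h']; group
    · rintro ⟨z, hz⟩
      obtain ⟨g, hg⟩ := isConj_iff.1 hz
      exact ⟨Quotient.mk'' g, Subtype.ext hg⟩
  have hKcard : Nat.card {z : E // IsConj y z} = 2 ^ i := by omega
  have hmod : 2 ^ i % 5 = 4 := by
    let σ : Equiv.Perm {z : E // IsConj y z} :=
      (MulAut.conj y).toEquiv.subtypeEquiv fun z => by
        simp only [MulEquiv.toEquiv_eq_coe, MulEquiv.coe_toEquiv, MulAut.conj_apply]
        exact ⟨fun h => h.trans (isConj_iff.2 ⟨y, rfl⟩), fun h => h.trans (isConj_iff.2 ⟨y, rfl⟩).symm⟩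
    have hσpow : ∀ (j : ℕ) z, ((σ ^ j) z : E) = y ^ j * z * (y ^ j)⁻¹ := fun j => by
      induction j with
      | zero => intro z; simp
      | succ j ih =>
        intro z
        rw [pow_succ' σ, Equiv.Perm.mul_apply]
        show y * ((σ ^ j) z : E) * y⁻¹ = _
        rw [ih, pow_succ' y]
        group
    have hσ : σ ^ 5 ^ 1 = 1 := by
      refine Equiv.ext fun z => Subtype.ext ?_
      rw [pow_one, hσpow, ← hy, pow_orderOf_eq_one]
      simp
    have h := Equiv.Perm.card_compl_support_modEq hσ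
    have hfix : σ.supportᶜ.card = 4 := by
      have hyC : y ∈ Subgroup.centralizer ({y} : Set E) :=
        Subgroup.mem_centralizer_iff.2 fun w hw => by rw [Set.mem_singleton_iff.1 hw]
      have e : σ.supportᶜ.card = Nat.card {z : Subgroup.centralizer ({y} : Set E) // z ≠ 1} := by
        rw [← Nat.card_eq_finsetCard]
        refine Nat.card_congr
          { toFun := fun w => ⟨⟨(w.1 : E), Subgroup.mem_centralizer_iff.2 fun x hx => by
                rw [Set.mem_singleton_iff.1 hx]
                have hw := w.2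
                simp only [Finset.mem_compl, Equiv.Perm.mem_support, not_not] at hw
                exact mul_inv_eq_iff_eq_mul.1 (congrArg Subtype.val hw)⟩, fun h => hy1 ?_⟩
            invFun := fun z => ⟨⟨(z.1 : E), ?_⟩, ?_⟩
            left_inv := fun w => rfl
            right_inv := fun z => rfl }
        · have h1 : (w.1 : E) = 1 := congrArg Subtype.val h
          obtain ⟨g, hg⟩ := isConj_iff.1 w.1.2
          rw [h1] at hg
          exact conj_eq_one_iff.1 hg
        · have hz1 : (z.1 : E) ≠ 1 := fun h => z.2 (Subtype.ext h)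
          refine D.good y _ hy1 hz1 hcyc (isCyclic_centralizer_of_irred D.inj ?_)
          have hord : orderOf (z.1 : E) = 5 := by
            rw [Subgroup.orderOf_coe]
            exact orderOf_eq_prime (by
              rw [← hcard]; exact pow_card_eq_one') z.2
          refine irred_of_primitive Nat.prime_five (fun h => hz1 (D.inj (h.trans (map_one φ).symm)))
            (by rw [← map_pow, ← hord, pow_orderOf_eq_one, map_one]) (by norm_num) (hn ▸ hprim)
        · simp only [Finset.mem_compl, Equiv.Perm.mem_support, not_not]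
          refine Subtype.ext (mul_inv_eq_iff_eq_mul.2 ?_)
          exact Subgroup.mem_centralizer_iff.1 z.1.2 y rfl
      rw [e, Nat.card_eq_fintype_card, Fintype.card_subtype_compl, Fintype.card_subtype_eq,
        ← Nat.card_eq_fintype_card, hcard]
    rw [hfix, ← Nat.card_eq_fintype_card, hKcard] at h
    exact h.symm
  have hi6 : i = 6 ∨ i = 2 := by interval_cases i <;> simp_all
  have hi' : i = 6 := by
    rcases hi6 with h | rfl
    · exact h
    · rw [hE] at h80; norm_num at h80
  subst hi'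
  -- a normal two-subgroup
  haveI : Fact (Nat.Prime 2) := ⟨Nat.prime_two⟩
  obtain ⟨Q⟩ : Nonempty (Sylow 2 E) := inferInstance
  have hQ : Nat.card (Q : Subgroup E) = 2 ^ 6 := by
    rw [Sylow.card_eq_multiplicity, hE, Nat.factorization_mul (by norm_num) (by norm_num),
      Nat.prime_five.factorization, Nat.Prime.factorization_pow Nat.prime_two]
    simp
  set U := (Q : Subgroup E).normalCore with hU
  have hUne : U ≠ ⊥ := by
    intro h0
    have h1 := Subgroup.card_dvd_of_injective (MulAction.toPermHom E (E ⧸ (Q : Subgroup E)))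
      ((MonoidHom.ker_eq_bot_iff _).1 (by rw [← Subgroup.normalCore_eq_ker]; exact h0))
    have h2 : Nat.card (E ⧸ (Q : Subgroup E)) = 5 := by
      have := Subgroup.card_mul_index (Q : Subgroup E)
      rw [Subgroup.index, hQ, hE] at this
      omega
    rw [Nat.card_perm, h2, hE] at h1
    norm_num [Nat.factorial] at h1
  have hUp : IsPGroup 2 U := Q.2.to_le (Subgroup.normalCore_le _)
  haveI : Nontrivial U := (Subgroup.nontrivial_iff_ne_bot U).2 hUne
  haveI := hUp.center_nontrivial
  obtain ⟨u₀, hu₀⟩ := exists_prime_orderOf_dvd_card' (G := Subgroup.center U) 2 (by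
    obtain ⟨j, hj⟩ := IsPGroup.iff_card.1 (hUp.to_subgroup (Subgroup.center U))
    rw [hj]
    refine dvd_pow_self 2 fun h0 => ?_
    have := Finite.one_lt_card (α := Subgroup.center U)
    rw [hj, h0] at this
    simp at this)
  let U₁ : Subgroup E :=
    { carrier := {a | a ∈ U ∧ a * a = 1 ∧ ∀ w ∈ U, a * w = w * a}
      one_mem' := ⟨U.one_mem, one_mul 1, fun w _ => by rw [one_mul, mul_one]⟩
      mul_mem' := fun {a c} ha hc => ⟨U.mul_mem ha.1 hc.1, by
        rw [mul_assoc, ← mul_assoc c a c, ← ha.2.2 c hc.1, mul_assoc, hc.2.1, mul_one, ha.2.1],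
        fun w hw => by rw [mul_assoc, hc.2.2 w hw, ← mul_assoc, ha.2.2 w hw, mul_assoc]⟩
      inv_mem' := fun {a} ha => by
        rw [inv_eq_of_mul_eq_one_right ha.2.1]; exact ha }
  have hu₁ : ((u₀ : U) : E) ∈ U₁ ∧ ((u₀ : U) : E) ≠ 1 := by
    refine ⟨⟨(u₀ : U).2, ?_, fun w hw => ?_⟩, fun h => ?_⟩
    · have := pow_orderOf_eq_one u₀
      rw [hu₀, sq] at this
      exact congrArg (fun z : Subgroup.center U => ((z : U) : E)) this
    · exact congrArg Subtype.val (Subgroup.mem_center_iff.1 u₀.2 ⟨w, hw⟩).symm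
    · have : u₀ = 1 := Subtype.ext (Subtype.ext h)
      rw [this, orderOf_one] at hu₀
      omega
  have hnorm : ∀ g : E, ∀ a ∈ U₁, g * a * g⁻¹ ∈ U₁ := by
    intro g a ha
    refine ⟨(Subgroup.normalCore_normal _).conj_mem _ ha.1 g, ?_, fun w hw => ?_⟩
    · calc g * a * g⁻¹ * (g * a * g⁻¹) = g * (a * a) * g⁻¹ := by group
        _ = 1 := by rw [ha.2.1]; group
    · have hw' : g⁻¹ * w * g ∈ U := by
        simpa using (Subgroup.normalCore_normal _).conj_mem _ hw g⁻¹
      calc g * a * g⁻¹ * w = g * (a * (g⁻¹ * w * g)) * g⁻¹ := by group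
        _ = w * (g * a * g⁻¹) := by rw [ha.2.2 _ hw']; group
  have hfpf : ∀ a ∈ U₁, y * a * y⁻¹ = a → a = 1 := by
    intro a ha h
    have hmem : a ∈ Subgroup.centralizer ({y} : Set E) :=
      Subgroup.mem_centralizer_iff.2 fun w hw => by
        rw [Set.mem_singleton_iff.1 hw]; exact mul_inv_eq_iff_eq_mul.1 h
    have h1 : (⟨a, hmem⟩ : Subgroup.centralizer ({y} : Set E)) ^ 5 = 1 := by
      rw [← hcard]; exact pow_card_eq_one'
    have h2 : a ^ 5 = 1 := congrArg Subtype.val h1
    calc a = a ^ 5 * (a * a)⁻¹ * (a * a)⁻¹ := by group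
      _ = 1 := by rw [h2, ha.2.1]; group
  have h2ne : (2 : ZMod 3) ≠ 0 := fun h =>
    absurd ((ZMod.natCast_eq_zero_iff 2 3).1 (by exact_mod_cast h)) (by norm_num)
  obtain ⟨bs, hbs⟩ := exists_sign_basis (φ := φ) (V := V) h2ne
    (U := U₁) (fun a ha => ha.2.1) fun a ha c hc => ha.2.2 c hc.1
  -- a basis vector moved by the subgroup
  obtain ⟨i₀, hi₀⟩ : ∃ i₀, ∃ a ∈ U₁, φ a (bs i₀) = -bs i₀ := by
    by_contra hno
    push Not at hno
    refine hu₁.2 (D.inj (bs.ext fun i => ?_))
    rw [map_one]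
    exact (hbs _ hu₁.1 i).resolve_right (hno i _ hu₁.1)
  -- the five characters
  let sgn : V → U₁ → Bool := fun v a => decide (φ a v = v)
  let v : Fin 5 → V := fun j => φ (y ^ (j : ℕ)) (bs i₀)
  have hneg : ∀ w : V, w ≠ 0 → -w ≠ w := fun w hw h => hw (by
    have h2 : (2 : ZMod 3) • w = 0 := by rw [two_smul]; nth_rw 1 [← h]; abel
    exact (smul_eq_zero.1 h2).resolve_left h2ne)
  have hneg' : ∀ t : ZMod 3, t ≠ 0 → t ≠ -t := fun t ht h => ht (by
    have h2 : (2 : ZMod 3) * t = 0 := by rw [two_mul]; nth_rw 1 [h]; rw [neg_add_cancel]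
    exact (mul_eq_zero.1 h2).resolve_left h2ne)
  have hb0 : ∀ i, bs i ≠ 0 := fun i => bs.ne_zero i
  have hv0 : ∀ j, v j ≠ 0 := fun j h => hb0 i₀ (by
    have h1 : φ (y ^ (j : ℕ))⁻¹ (v j) = bs i₀ := by
      show (φ (y ^ (j : ℕ))⁻¹ * φ (y ^ (j : ℕ))) (bs i₀) = _
      rw [← map_mul, inv_mul_cancel, map_one]; rfl
    rw [← h1, h, map_zero])
  have hvact : ∀ (j : Fin 5) (a : E),
      φ a (v j) = φ (y ^ (j : ℕ)) (φ ((y ^ (j : ℕ))⁻¹ * a * y ^ (j : ℕ)) (bs i₀)) := fun j a => by
    show (φ a * φ (y ^ (j : ℕ))) (bs i₀) = (φ (y ^ (j : ℕ)) * φ _) (bs i₀)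
    rw [← map_mul, ← map_mul]
    congr 2
    group
  have hsign : ∀ (j : Fin 5) (a : U₁), φ a (v j) = v j ∨ φ a (v j) = -v j := by
    intro j a
    rw [hvact]
    have hm : (y ^ (j : ℕ))⁻¹ * a * y ^ (j : ℕ) ∈ U₁ := by
      simpa using hnorm (y ^ (j : ℕ))⁻¹ a a.2
    rcases hbs _ hm i₀ with h | h
    · left; rw [h]
    · right; rw [h, map_neg]
  have hinjχ : Function.Injective fun j => sgn (v j) := by
    intro j j' h
    by_contra hne
    wlog hlt : (j : ℕ) < j' generalizing j j'
    · exact this h.symm (Ne.symm hne)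
        (lt_of_le_of_ne (not_lt.1 hlt) fun e => hne (Fin.ext e.symm))
    have hiff : ∀ a : E, a ∈ U₁ → (φ a (v j) = v j ↔ φ a (v j') = v j') := fun a ha => by
      simpa [sgn] using congrFun h ⟨a, ha⟩
    have hpow : ∀ a ∈ U₁, ∀ t : ℕ, y ^ t * a * (y ^ t)⁻¹ ∈ U₁ := fun a ha t => hnorm _ _ ha
    have hconv : ∀ (t : Fin 5) (a : E),
        φ (y ^ (t : ℕ) * a * (y ^ (t : ℕ))⁻¹) (v t) = v t ↔ φ a (bs i₀) = bs i₀ := fun t a => by
      rw [hvact, show (y ^ (t : ℕ))⁻¹ * (y ^ (t : ℕ) * a * (y ^ (t : ℕ))⁻¹) * y ^ (t : ℕ) = a by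
        group]
      refine ⟨fun e => ?_, fun e => by rw [e]⟩
      have hinj : Function.Injective (φ (y ^ (t : ℕ))) := fun w w' hw => by
        have := congrArg (φ (y ^ (t : ℕ))⁻¹) hw
        rwa [← Module.End.mul_apply, ← Module.End.mul_apply, ← map_mul, inv_mul_cancel,
          map_one] at this
      exact hinj e
    set d := (j' : ℕ) - j with hd
    have hstep : ∀ a ∈ U₁, φ a (bs i₀) = bs i₀ ↔
        φ (y ^ d * a * (y ^ d)⁻¹) (bs i₀) = bs i₀ := by
      intro a ha
      rw [← hconv j (y ^ d * a * (y ^ d)⁻¹), hiff _ (hpow _ (hpow a ha d) _),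
        show y ^ (j : ℕ) * (y ^ d * a * (y ^ d)⁻¹) * (y ^ (j : ℕ))⁻¹ =
          y ^ (j' : ℕ) * a * (y ^ (j' : ℕ))⁻¹ by
          rw [show (j' : ℕ) = j + d by omega, pow_add]; group, hconv]
    have hgen : ∀ a ∈ U₁, φ a (bs i₀) = bs i₀ ↔ φ (y * a * y⁻¹) (bs i₀) = bs i₀ := by
      intro a ha
      obtain ⟨c, hc⟩ : ∃ c, y = (y ^ d) ^ c := by
        obtain ⟨c, hc⟩ := exists_pow_eq_self_of_coprime (x := y) (n := d) (by
          rw [hy]
          refine (Nat.Coprime.symm ((Nat.prime_five.coprime_iff_not_dvd).2 fun h => ?_))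
          have := Nat.le_of_dvd (by omega) h
          omega)
        exact ⟨c, hc.symm⟩
      rw [hc]
      clear hc
      induction c with
      | zero => simp
      | succ c ih =>
        rw [ih, hstep _ (by rw [← pow_mul]; exact hpow a ha _)]
        congr! 3
        rw [pow_succ']
        group
    -- commutators with `y` cover the subgroup
    let c : U₁ → U₁ := fun a => ⟨y * a * y⁻¹ * (a : E)⁻¹,
      U₁.mul_mem (hnorm y a a.2) (U₁.inv_mem a.2)⟩
    have hc : Function.Surjective c := by
      refine Finite.injective_iff_surjective.1 fun a a' haa => Subtype.ext ?_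
      have h' : y * (a : E) * y⁻¹ * (a : E)⁻¹ = y * a' * y⁻¹ * (a' : E)⁻¹ := congrArg Subtype.val haa
      have h1 : (a' : E)⁻¹ * a = 1 := by
        refine hfpf _ (U₁.mul_mem (U₁.inv_mem a'.2) a.2) ?_
        have hcomm : ∀ s t : E, s ∈ U₁ → t ∈ U₁ → s * t = t * s := fun s t hs ht => hs.2.2 t ht.1
        calc y * ((a' : E)⁻¹ * a) * y⁻¹
            = (y * (a' : E) * y⁻¹)⁻¹ * (y * a * y⁻¹ * (a : E)⁻¹) * a := by group
          _ = (y * (a' : E) * y⁻¹)⁻¹ * (y * a' * y⁻¹ * (a' : E)⁻¹) * a := by rw [h']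
          _ = (a' : E)⁻¹ * a := by group
      exact (inv_mul_eq_one.1 h1).symm
    obtain ⟨a₀, ha₀, hneg₀⟩ := hi₀
    obtain ⟨a, ha⟩ := hc ⟨a₀, ha₀⟩
    have he : y * (a : E) * y⁻¹ * (a : E)⁻¹ = a₀ := congrArg Subtype.val ha
    refine hneg _ (hb0 i₀) ?_
    rw [← hneg₀, ← he, map_mul]
    have hai : (a : E)⁻¹ = a := inv_eq_of_mul_eq_one_right a.2.2.1
    rw [hai, Module.End.mul_apply]
    rcases hbs _ a.2 i₀ with e1 | e1
    · rw [e1, (hgen a a.2).1 e1]
    · rcases hbs _ (hnorm y a a.2) i₀ with e2 | e2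
      · exfalso
        rw [(hgen a a.2).2 e2] at e1
        exact hneg _ (hb0 i₀) e1.symm
      · rw [e1, map_neg, e2, neg_neg]
  have hbasis : ∀ j, ∃ i, sgn (bs i) = sgn (v j) := by
    intro j
    obtain ⟨i, hi⟩ : ∃ i, bs.repr (v j) i ≠ 0 := by
      by_contra hno
      push Not at hno
      exact hv0 j (bs.repr.map_eq_zero_iff.1 (Finsupp.ext hno))
    refine ⟨i, funext fun a => ?_⟩
    -- compare the coordinate at `i`
    have hco : bs.repr (φ a (v j)) i = (if φ a (bs i) = bs i then (1 : ZMod 3) else -1) *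
        bs.repr (v j) i := by
      conv_lhs => rw [← bs.sum_repr (v j), map_sum]
      simp only [map_smul, map_sum, Finsupp.coe_finset_sum, Finset.sum_apply]
      rw [Finset.sum_eq_single i]
      · rcases hbs _ a.2 i with e | e
        · rw [if_pos e, e]; simp
        · rw [if_neg (fun h => hneg _ (hb0 i) (e.symm.trans h)), e]; simp
      · intro t _ ht
        rcases hbs _ a.2 t with e | e <;> rw [e] <;> simp [ht]
      · simp
    simp only [sgn]
    rcases hsign j a with e | e
    · rw [e] at hco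
      rcases hbs _ a.2 i with e' | e'
      · simp [e, e']
      · rw [if_neg (fun h => hneg _ (hb0 i) (e'.symm.trans h)), neg_one_mul] at hco
        exact absurd hco (hneg' _ hi)
    · rw [e, map_neg, Finsupp.neg_apply] at hco
      rcases hbs _ a.2 i with e' | e'
      · rw [if_pos e', one_mul] at hco
        exact absurd hco.symm (hneg' _ hi)
      · have h1 : ¬ φ a (bs i) = bs i := fun h => hneg _ (hb0 i) (e'.symm.trans h)
        have h2 : ¬ φ a (v j) = v j := fun h => hneg _ (hv0 j) (e.symm.trans h)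
        simp [h1, h2]
  choose f hf using hbasis
  have := Fintype.card_le_of_injective f fun j j' h => hinjχ ((hf j).symm.trans (h ▸ hf j'))
  simp [hn, h4] at this

include D hn in
open Classical in
/-- Dimension two with `p + 1` a power of two. -/
theorem case_mersenne (h2 : n = 2) {a : ℕ} (ha : p + 1 = 2 ^ a) (hodd : p ≠ 2) : False := by
  haveI : FiniteDimensional (ZMod p) V := Module.Finite.of_finite
  haveI : Nontrivial V := Module.nontrivial_of_finrank_pos (R := ZMod p) (by omega)
  haveI : Fact (Nat.Prime 2) := ⟨Nat.prime_two⟩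
  letI := Fintype.ofFinite E
  have hp3 : 3 ≤ p := by have := hp.out.two_le; omega
  obtain ⟨c, rfl⟩ : ∃ c, a = c + 2 := by
    rcases a with _ | _ | c
    · omega
    · omega
    · exact ⟨c, rfl⟩
  have h4 : 4 ∣ p + 1 := ⟨2 ^ c, by rw [ha, pow_add]; ring⟩
  have h2ne : (2 : ZMod p) ≠ 0 := by
    intro h
    have : p ∣ 2 := (ZMod.natCast_eq_zero_iff 2 p).1 (by exact_mod_cast h)
    have := Nat.le_of_dvd two_pos this
    omega
  have hsqone : ∀ (d : ZMod p) (i : ℕ), d ^ 2 ^ i = 1 → d ^ 2 = 1 := by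
    intro d i h
    have hd : d ≠ 0 := fun h0 => by
      rw [h0, zero_pow (pow_ne_zero _ two_ne_zero)] at h
      exact zero_ne_one h
    obtain ⟨j, -, hj⟩ := (Nat.dvd_prime_pow Nat.prime_two).1 (orderOf_dvd_of_pow_eq_one h)
    have h1 : orderOf d ∣ p - 1 := ZMod.orderOf_dvd_card_sub_one hd
    refine orderOf_dvd_iff_pow_eq_one.1 ?_
    rw [hj] at h1 ⊢
    rcases j with _ | _ | j
    · simp
    · simp
    · exfalso
      have : 4 ∣ p - 1 := (pow_dvd_pow 2 (by omega : 2 ≤ j + 2)).trans h1
      omega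
  -- two-elements with nontrivial square are irreducible
  have hirr : ∀ (x : E), (∃ i : ℕ, x ^ 2 ^ i = 1) → x * x ≠ 1 → IrredEnd (φ x) := by
    rintro x ⟨i, hi⟩ hx2 W hW
    by_contra hne
    rw [not_or] at hne
    have hW1 : Module.finrank (ZMod p) W = 1 := by
      have hlt : Module.finrank (ZMod p) W < 2 := by
        rw [← h2, ← hn]; exact Submodule.finrank_lt hne.2
      have : Module.finrank (ZMod p) W ≠ 0 := fun h => hne.1 (Submodule.finrank_eq_zero.1 h)
      omega
    obtain ⟨⟨v, hvW⟩, hv0, hv⟩ := finrank_eq_one_iff'.1 hW1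
    have hv0' : v ≠ 0 := fun h => hv0 (Subtype.ext h)
    obtain ⟨w, hw⟩ : ∃ w, w ∉ W := by
      by_contra h
      push Not at h
      exact hne.2 (Submodule.eq_top_iff'.2 h)
    obtain ⟨α, hα⟩ := hv ⟨φ x v, hW v hvW⟩
    have hxv : φ x v = α • v := (congrArg Subtype.val hα).symm
    obtain ⟨β, δ, hxw⟩ : ∃ β δ : ZMod p, φ x w = β • v + δ • w := by
      have hli : LinearIndependent (ZMod p) ![v, w] := by
        rw [LinearIndependent.pair_iff' hv0']
        exact fun r hr => hw (hr ▸ W.smul_mem r hvW)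
      have htop : Submodule.span (ZMod p) (Set.range ![v, w]) = ⊤ :=
        hli.span_eq_top_of_card_eq_finrank (by rw [hn, h2]; rfl)
      rw [Matrix.range_cons, Matrix.range_cons, Matrix.range_empty, Set.union_empty,
        Set.singleton_union] at htop
      obtain ⟨β, δ, h⟩ := Submodule.mem_span_pair.1
        (htop ▸ Submodule.mem_top : φ x w ∈ Submodule.span (ZMod p) ({v, w} : Set V))
      exact ⟨β, δ, h.symm⟩
    have hpow : ∀ k : ℕ, φ (x ^ k) v = α ^ k • v ∧
        ∃ r : ZMod p, φ (x ^ k) w = r • v + δ ^ k • w := by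
      intro k
      induction k with
      | zero => exact ⟨by simp, 0, by simp⟩
      | succ k ih =>
        obtain ⟨ih1, r, ih2⟩ := ih
        refine ⟨?_, r * α + δ ^ k * β, ?_⟩
        · rw [pow_succ', map_mul, Module.End.mul_apply, ih1, map_smul, hxv, smul_smul, pow_succ]
        · rw [pow_succ', map_mul, Module.End.mul_apply, ih2, map_add, map_smul, map_smul, hxv,
            hxw, pow_succ]
          module
    obtain ⟨h1, r, h2'⟩ := hpow (2 ^ i)
    rw [hi, map_one, Module.End.one_apply] at h1 h2'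
    have hα2 : α ^ 2 = 1 := hsqone α i (by
      have : (α ^ 2 ^ i - 1) • v = 0 := by rw [sub_smul, one_smul, ← h1, sub_self]
      exact sub_eq_zero.1 ((smul_eq_zero.1 this).resolve_right hv0'))
    have hδ2 : δ ^ 2 = 1 := hsqone δ i (by
      by_contra hne'
      have h0 : (1 - δ ^ 2 ^ i) • w = r • v := by
        rw [sub_smul, one_smul]
        nth_rw 1 [h2']
        abel
      refine hw ?_
      have h5 : w = ((1 - δ ^ 2 ^ i)⁻¹ * r) • v := by
        rw [← smul_smul, ← h0, smul_smul, inv_mul_cancel₀ (sub_ne_zero.2 (Ne.symm hne')), one_smul]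
      rw [h5]
      exact W.smul_mem _ hvW)
    obtain ⟨e1, r2, e2⟩ := hpow 2
    rw [hα2, one_smul] at e1
    rw [hδ2, one_smul] at e2
    have hiter : ∀ k : ℕ, φ ((x ^ 2) ^ k) w = w + ((k : ZMod p) * r2) • v := by
      intro k
      induction k with
      | zero => simp
      | succ k ih =>
        rw [pow_succ', map_mul, Module.End.mul_apply, ih, map_add, e2, map_smul, e1]
        push_cast
        module
    have hr2 : r2 = 0 := by
      have h := hiter (2 ^ i)
      rw [← pow_mul, mul_comm, pow_mul, hi, one_pow, map_one, Module.End.one_apply] at h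
      have h' : (((2 ^ i : ℕ) : ZMod p) * r2) • v = 0 := by
        have := congrArg (fun z => z - w) h
        simpa using this.symm
      rcases smul_eq_zero.1 h' with h'' | h''
      · push_cast at h''
        exact (mul_eq_zero.1 h'').resolve_left (pow_ne_zero _ h2ne)
      · exact absurd h'' hv0'
    rw [hr2, zero_smul, zero_add] at e2
    refine hx2 (D.inj ?_)
    rw [map_one, ← sq]
    have htop : ∀ z : V, ∃ s t : ZMod p, z = s • v + t • w := by
      intro z
      have hli : LinearIndependent (ZMod p) ![v, w] := by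
        rw [LinearIndependent.pair_iff' hv0']
        exact fun r hr => hw (hr ▸ W.smul_mem r hvW)
      have htop : Submodule.span (ZMod p) (Set.range ![v, w]) = ⊤ :=
        hli.span_eq_top_of_card_eq_finrank (by rw [hn, h2]; rfl)
      rw [Matrix.range_cons, Matrix.range_cons, Matrix.range_empty, Set.union_empty,
        Set.singleton_union] at htop
      obtain ⟨s, t, h⟩ := Submodule.mem_span_pair.1
        (htop ▸ Submodule.mem_top : z ∈ Submodule.span (ZMod p) ({v, w} : Set V))
      exact ⟨s, t, h.symm⟩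
    refine LinearMap.ext fun z => ?_
    obtain ⟨s, t, rfl⟩ := htop z
    rw [map_add, map_smul, map_smul, e1, e2]
    rfl
  have hcyc := fun x h1 h2 => isCyclic_centralizer_of_irred D.inj (hirr x h1 h2)
  have p4 : ∀ x : E, x ^ 4 = (x * x) * (x * x) := fun x => by simp [pow_succ, mul_assoc]
  -- every two-element has order dividing four
  have hfour : ∀ x : E, (∃ i : ℕ, x ^ 2 ^ i = 1) → x ^ 4 = 1 := by
    rintro x ⟨i, hi⟩
    by_contra h
    obtain ⟨m, hm, hm4⟩ : ∃ m, orderOf x = 2 ^ m ∧ 3 ≤ m := by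
      obtain ⟨m, -, hm⟩ := (Nat.dvd_prime_pow Nat.prime_two).1 (orderOf_dvd_of_pow_eq_one hi)
      refine ⟨m, hm, ?_⟩
      by_contra hlt
      refine h (orderOf_dvd_iff_pow_eq_one.1 ?_)
      rw [hm]
      exact pow_dvd_pow 2 (by omega : m ≤ 2)
    have hx1 : x * x ≠ 1 := fun e => h (by rw [p4, e, one_mul])
    have hy1 : (x * x) * (x * x) ≠ 1 := fun e => h (by rw [p4, e])
    have hxne : x ≠ 1 := fun e => hx1 (by rw [e, one_mul])
    obtain ⟨g, hg⟩ := isConj_iff.1 (D.good x (x * x) hxne hx1 (hcyc x ⟨i, hi⟩ hx1)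
      (hcyc (x * x) ⟨i, by rw [← sq, ← pow_mul, mul_comm, pow_mul, hi, one_pow]⟩ hy1))
    have := (MulAut.conj g).orderOf_eq x
    rw [MulAut.conj_apply, hg, ← sq, orderOf_pow' x two_ne_zero, hm,
      Nat.gcd_eq_right (dvd_pow_self 2 (by omega))] at this
    have : 2 ^ 1 ≤ 2 ^ m := Nat.pow_le_pow_right two_pos (by omega)
    omega
  obtain ⟨P⟩ : Nonempty (Sylow 2 E) := inferInstance
  have hdiv : 2 ^ (c + 3) ∣ Nat.card (P : Subgroup E) := by
    rw [Sylow.card_eq_multiplicity]
    refine pow_dvd_pow 2 ((Nat.prime_two.pow_dvd_iff_le_factorization Nat.card_pos.ne').1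
      (dvd_trans ?_ (dvd_order D hn (by omega))))
    rw [h2, show p ^ 2 - 1 = (p + 1) * (p - 1) by rw [← Nat.sq_sub_sq, one_pow], ha, pow_succ]
    exact mul_dvd_mul_left _ (by omega)
  have h8 : 8 ∣ Nat.card (P : Subgroup E) := (pow_dvd_pow 2 (by omega : 3 ≤ c + 3)).trans hdiv
  have hPel : ∀ x ∈ (P : Subgroup E), ∃ i : ℕ, x ^ 2 ^ i = 1 := fun x hx => by
    obtain ⟨i, hi⟩ := P.2 ⟨x, hx⟩
    exact ⟨i, congrArg Subtype.val hi⟩
  obtain ⟨w, hwP, hw2⟩ : ∃ w ∈ (P : Subgroup E), w * w ≠ 1 := by
    by_contra hno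
    push Not at hno
    have hc : ∀ x ∈ (P : Subgroup E), ∀ z ∈ (P : Subgroup E), x * z = z * x := fun x hx z hz => by
      have e1 : x⁻¹ = x := inv_eq_of_mul_eq_one_right (hno x hx)
      have e2 : z⁻¹ = z := inv_eq_of_mul_eq_one_right (hno z hz)
      calc x * z = (x * z)⁻¹ := (inv_eq_of_mul_eq_one_right (hno _ (mul_mem hx hz))).symm
        _ = z * x := by rw [mul_inv_rev, e1, e2]
    have h := card_elementary_le D.inj h2ne (U := (P : Subgroup E)) hno hc
    rw [hn, h2] at h
    have := Nat.le_of_dvd Nat.card_pos h8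
    omega
  have hsq : ∀ x ∈ (P : Subgroup E), x * x ≠ 1 → φ (x * x) = -1 := by
    intro x hx hx2
    have h4' := hfour x (hPel x hx)
    have hc : (φ (x * x) - 1) * φ x = φ x * (φ (x * x) - 1) := by
      rw [sub_mul, mul_sub, one_mul, mul_one, ← map_mul, ← map_mul, mul_assoc]
    rcases eq_zero_or_injective_of_commute (hirr x (hPel x hx) hx2) hc with h | h
    · exact absurd (D.inj ((sub_eq_zero.1 h).trans (map_one φ).symm)) hx2
    · refine eq_neg_of_add_eq_zero_left (LinearMap.ext fun v => h ?_)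
      rw [LinearMap.zero_apply, map_zero, ← Module.End.mul_apply]
      rw [show (φ (x * x) - 1) * (φ (x * x) + 1) = φ (x * x * (x * x)) - 1 by
        rw [map_mul φ (x * x)]; noncomm_ring]
      rw [show x * x * (x * x) = 1 by rw [← p4, h4'], map_one, sub_self]
      rfl
  have hz : ∀ x ∈ (P : Subgroup E), x * x = 1 ∨ x * x = w * w := fun x hx => by
    by_cases h : x * x = 1
    · exact Or.inl h
    · exact Or.inr (D.inj ((hsq x hx h).trans (hsq w hwP hw2).symm))
  have hw1 : w ≠ 1 := fun e => hw2 (by rw [e, one_mul])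
  have hCw := order_eq_of_good D.good hw1 (hcyc w (hPel w hwP) hw2)
  have hw4 : orderOf w = 4 := by
    refine orderOf_eq_prime_pow (p := 2) (n := 1) ?_ (by simpa using hfour w (hPel w hwP))
    simpa [sq] using hw2
  have hzz : (w * w) * (w * w) = 1 := by rw [← p4, hfour w (hPel w hwP)]
  have hconjw : ∀ x ∈ (P : Subgroup E), x * w * x⁻¹ = w ∨ x * w * x⁻¹ = w * w * w := by
    intro x hx
    have e : x * w * x⁻¹ = (x * x) * ((x⁻¹ * w) * (x⁻¹ * w)) * (w * w)⁻¹ * w := by group
    have hzi : (w * w)⁻¹ = w * w := inv_eq_of_mul_eq_one_right hzz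
    rw [e, hzi]
    rcases hz x hx with h | h <;> rcases hz _ (mul_mem (inv_mem hx) hwP) with h' | h' <;> rw [h, h']
    · right; rw [one_mul, one_mul]
    · left; rw [one_mul, hzz, one_mul]
    · left; rw [mul_one, hzz, one_mul]
    · right; rw [hzz, one_mul]
  have hP8 : Nat.card (P : Subgroup E) ≤ 8 := by
    let f : ↥(P : Subgroup E) → Subgroup.centralizer ({w} : Set E) × Bool := fun x =>
      if h : ∀ z : E, z = (x : E) * w * (x : E)⁻¹ → z = w then
        (⟨x, Subgroup.mem_centralizer_iff.2 fun z hz => by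
          rw [Set.mem_singleton_iff.1 hz]; exact (mul_inv_eq_iff_eq_mul.1 (h _ rfl)).symm⟩, true)
      else
        if h' : ∃ x₀ : (P : Subgroup E), (x₀ : E) * w * (x₀ : E)⁻¹ = w * w * w then
          (⟨(h'.choose : E)⁻¹ * x, Subgroup.mem_centralizer_iff.2 fun z hz => by
            rw [Set.mem_singleton_iff.1 hz]
            have h1 := h'.choose_spec
            have h2 := (hconjw x x.2).resolve_left fun e => h fun z hz => hz.trans e
            calc w * ((h'.choose : E)⁻¹ * x)
                = (h'.choose : E)⁻¹ * ((h'.choose : E) * w * (h'.choose : E)⁻¹) * x := by group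
              _ = (h'.choose : E)⁻¹ * x * w := by
                    rw [h1, mul_assoc _ _ (x : E), mul_assoc _ (x : E) w]
                    congr 1
                    exact (mul_inv_eq_iff_eq_mul.1 h2).symm⟩, false)
        else (1, false)
    have hf : Function.Injective f := by
      intro x x' e
      simp only [f] at e
      split_ifs at e
      all_goals simp only [Prod.mk.injEq, Subtype.mk.injEq, Bool.true_eq_false, Bool.false_eq_true,
        and_false, and_true, mul_right_inj, SetLike.coe_eq_coe] at e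
      all_goals first
        | exact e
        | exact Subtype.ext e
        | exact absurd ⟨x', (hconjw x' x'.2).resolve_left fun e' =>
            (by assumption : ¬ ∀ z : E, z = (x' : E) * w * (x' : E)⁻¹ → z = w) fun z hz => hz.trans e'⟩
            (by assumption : ¬ ∃ x₀ : ↥(P : Subgroup E), (x₀ : E) * w * (x₀ : E)⁻¹ = w * w * w)
    refine (Nat.card_le_card_of_injective f hf).trans ?_
    rw [Nat.card_prod, hCw, hw4, Nat.card_eq_fintype_card, Fintype.card_bool]
  have hc0 : c = 0 := by
    by_contra hc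
    have := (Nat.le_of_dvd Nat.card_pos hdiv).trans hP8
    have : 2 ^ 4 ≤ 2 ^ (c + 3) := Nat.pow_le_pow_right two_pos (by omega)
    omega
  subst hc0
  obtain rfl : p = 3 := by omega
  -- order eight
  let b : Module.Basis (Fin 2) (ZMod 3) V :=
    Module.finBasisOfFinrankEq (ZMod 3) V (by rw [hn, h2])
  let F : E →* Matrix.GeneralLinearGroup (Fin 2) (ZMod 3) :=
    ((LinearMap.toMatrixAlgEquiv b).toAlgHom.toMonoidHom.comp φ).toHomUnits
  have hF : Function.Injective F := fun a c h => D.inj
    ((LinearMap.toMatrixAlgEquiv b).injective (congrArg Units.val h))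
  have h16 : Nat.card E ∣ 16 := by
    have h := Subgroup.card_dvd_of_injective F hF
    rw [Matrix.card_GL_field] at h
    refine Nat.Coprime.dvd_of_dvd_mul_right (n := 3)
      ((Nat.prime_three.coprime_iff_not_dvd).2 D.coprime).symm (h.trans (dvd_of_eq ?_))
    simp [Fin.prod_univ_two, ZMod.card]
  have hE8 : Nat.card E = 8 := by
    obtain ⟨i, -, hi⟩ := (Nat.dvd_prime_pow Nat.prime_two (m := 4)).1 h16
    have hPE : Nat.card (P : Subgroup E) = Nat.card E := by
      rw [Sylow.card_eq_multiplicity, hi, Nat.Prime.factorization_pow Nat.prime_two]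
      simp
    have h1 := Nat.le_of_dvd Nat.card_pos h8
    omega
  have hPtop : (P : Subgroup E) = ⊤ := by
    refine Subgroup.eq_top_of_le_card _ ?_
    have := Nat.le_of_dvd Nat.card_pos h8
    omega
  -- only one involution
  obtain ⟨v₀, hv₀⟩ := exists_ne (0 : V)
  let orb : E → {v : V // v ≠ 0} := fun g => ⟨φ g v₀, fun h => hv₀ (by
    have e : φ g⁻¹ (φ g v₀) = v₀ := by
      rw [← Module.End.mul_apply, ← map_mul, inv_mul_cancel, map_one]; rfl
    rw [← e, h, map_zero])⟩
  have horb : Function.Injective orb := by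
    refine ((Nat.bijective_iff_surjective_and_card orb).2 ⟨fun v => ?_, ?_⟩).1
    · obtain ⟨g, hg⟩ := D.trans v₀ v hv₀ v.2
      exact ⟨g, Subtype.ext hg⟩
    · letI := Fintype.ofFinite V
      have hc := card_vec hn
      rw [h2] at hc
      rw [hE8, Nat.card_eq_fintype_card, Fintype.card_subtype_compl, Fintype.card_subtype_eq,
        ← Nat.card_eq_fintype_card, hc]
      norm_num
  have hinvol : ∀ t : E, t * t = 1 → t ≠ 1 → φ t = -1 := by
    intro t ht ht1
    refine LinearMap.ext fun v => ?_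
    have hfix : φ t (v + φ t v) = v + φ t v := by
      rw [map_add, ← Module.End.mul_apply, ← map_mul, ht, map_one, Module.End.one_apply, add_comm]
    have hzero : v + φ t v = 0 := by
      by_contra hne
      obtain ⟨g, hg⟩ := D.trans v₀ _ hv₀ hne
      refine ht1 ?_
      have : orb (t * g) = orb g := Subtype.ext (by
        show φ (t * g) v₀ = φ g v₀
        rw [map_mul, Module.End.mul_apply, hg, hfix])
      exact mul_right_cancel ((horb this).trans (one_mul g).symm)
    exact eq_neg_of_add_eq_zero_right hzero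
  have hsmall : Nat.card E ≤ 4 := by
    have hK : ∀ x : E, x = 1 ∨ x = w * w ∨ x = w ∨ x = w * w * w := by
      intro x
      by_cases hx1 : x = 1
      · exact Or.inl hx1
      right
      by_cases hx : x * x = 1
      · exact Or.inl (D.inj ((hinvol x hx hx1).trans (hinvol _ hzz hw2).symm))
      right
      have hxP : ∀ g : E, g ∈ (P : Subgroup E) := fun g => hPtop ▸ Subgroup.mem_top g
      obtain ⟨g, hg⟩ := isConj_iff.1 (D.good w x hw1 hx1 (hcyc w (hPel w hwP) hw2)
        (hcyc x (hPel x (hxP x)) hx))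
      rw [← hg]
      exact hconjw g (hxP g)
    let f : Fin 4 → E := ![1, w * w, w, w * w * w]
    have hsurj : Function.Surjective f := fun x => by
      rcases hK x with h | h | h | h
      · exact ⟨0, h.symm⟩
      · exact ⟨1, h.symm⟩
      · exact ⟨2, h.symm⟩
      · exact ⟨3, h.symm⟩
    simpa using Nat.card_le_card_of_surjective f hsurj
  omega

include D in
/-- The bound. -/
theorem card_le_three : Nat.card V ≤ 3 := by
  classical
  set n := Module.finrank (ZMod p) V with hn
  have hn' : Module.finrank (ZMod p) V = n := hn.symm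
  rw [card_vec hn']
  rcases Nat.lt_or_ge n 2 with hlt | h2
  · interval_cases n
    · simp
    · simpa using case_one D hn' rfl
  exfalso
  have hp2 := case_two D hn' h2
  by_cases hM : n = 2 ∧ ∃ m : ℕ, p + 1 = 2 ^ m
  · obtain ⟨h, m, hm⟩ := hM
    exact case_mersenne D hn' h hm hp2
  obtain ⟨s, hs, hdvd, hprim⟩ := Cfsg.Agent.S2904.result p n hp.out.one_lt (by omega)
    (fun h => hp2 h.1) hM
  obtain ⟨hsn, h4, hsq, -⟩ := primitive_facts D hn' h2 hs hdvd hprim
  obtain ⟨hp3, hn4⟩ := eq_three_four hp.out hp2 h4 (by omega) (hsn ▸ hs) (hsn ▸ hdvd)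
    (fun h => hsq (hsn ▸ h.trans (dvd_order D hn' (by omega)))) (hsn ▸ hprim)
    fun t ht htd htp => (primitive_facts D hn' h2 ht htd htp).1
  exact case_eightyone D hn' hp3 hn4

end Cfsg.Lib.Block
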