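import Cfsg.Agent.Lib.Block.PrincipalNilpotent
import Cfsg.Agent.Lib.Block.PrincipalColumns
import Cfsg.Agent.Lib.Block.PrincipalSums
import Cfsg.Agent.Lib.Block.RankOne
import Cfsg.Agent.Lib.Char.InvolutionSetSum
import Cfsg.Agent.Lib.Core.PSolvable

/-!
# One class of elements of odd prime order and pairwise generation of `p`-solvable subgroups

For a class of elements of order `p` containing all nontrivial `p`-elements, the proportion of
products of two members that are `p`-regular is computed by the principal block and compared with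
the bound `1 / (p - 1)` coming from pairwise `p`-solvability.
-/

set_option autoImplicit false
set_option linter.unusedSectionVars false
set_option maxHeartbeats 800000

namespace Cfsg.Lib.Block.OneClass

open Cfsg
open scoped ComplexConjugate

universe u

variable {p : ℕ} [Fact p.Prime]

/-- In a `p`-solvable group generated by `p`-elements with abelian Sylow subgroups the
`p`-regular elements lie in a subgroup of order prime to `p`. -/
theorem regular_mem_pPrimeCore {H : Type u} [Group H] [Finite H] (hs : IsPSolvable p H)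
    (hab : ∀ S : Sylow p H, ∀ a ∈ S, ∀ b ∈ S, a * b = b * a)
    (hgen : Subgroup.closure {g : H | ∃ k : ℕ, g ^ p ^ k = 1} = ⊤) {g : H}
    (hg : ¬ p ∣ orderOf g) : g ∈ pPrimeCore p H := by
  have hp := Fact.out (p := p.Prime)
  set N := pPrimeCore p H
  set O := pCore p (H ⧸ N) with hO
  obtain ⟨S⟩ := (inferInstance : Nonempty (Sylow p H))
  let T : Sylow p (H ⧸ N) := S.mapSurjective (QuotientGroup.mk'_surjective N)
  have hTab : ∀ a ∈ (T : Subgroup (H ⧸ N)), ∀ b ∈ (T : Subgroup (H ⧸ N)), a * b = b * a := by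
    rintro a ⟨a', ha', rfl⟩ b ⟨b', hb', rfl⟩
    rw [← map_mul, ← map_mul, hab S a' ha' b' hb']
  have hOT : O ≤ (T : Subgroup (H ⧸ N)) := Core.pCore_le_sylow T
  have hC := Core.centralizer_pCore_le_of_isPSolvable (Core.isPSolvable_quotient hs N)
    Core.pPrimeCore_quotient_eq_bot
  have hTO : (T : Subgroup (H ⧸ N)) ≤ O := fun t ht =>
    hC (Subgroup.mem_centralizer_iff.2 fun o ho => hTab o (hOT ho) t ht)
  have hmem : ∀ q : H ⧸ N, (∃ k : ℕ, q ^ p ^ k = 1) → q ∈ O := by
    rintro q ⟨k, hk⟩
    obtain ⟨j, -, hj⟩ := (Nat.dvd_prime_pow hp).1 (orderOf_dvd_of_pow_eq_one hk)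
    have hq : IsPGroup p (Subgroup.zpowers q) :=
      IsPGroup.of_card (n := j) (by rw [Nat.card_zpowers, hj])
    obtain ⟨U, hU⟩ := hq.exists_le_sylow
    obtain ⟨c, hc⟩ := MulAction.exists_smul_eq (H ⧸ N) T U
    have hTeq : (T : Subgroup (H ⧸ N)) = O := le_antisymm hTO hOT
    have : (U : Subgroup (H ⧸ N)) = O := by
      rw [← hc, Sylow.coe_subgroup_smul, hTeq]
      exact Subgroup.Normal.conj_smul_eq_self c O
    exact this ▸ hU (Subgroup.mem_zpowers q)
  have htop : (⊤ : Subgroup (H ⧸ N)) ≤ O := by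
    rw [← Subgroup.map_top_of_surjective _ (QuotientGroup.mk'_surjective N), ← hgen,
      MonoidHom.map_closure, Subgroup.closure_le]
    rintro _ ⟨x, ⟨k, hk⟩, rfl⟩
    exact hmem _ ⟨k, by rw [← map_pow, hk, map_one]⟩
  obtain ⟨k, hk⟩ := (Core.pCore_isPGroup p (H ⧸ N)) ⟨(g : H ⧸ N), htop trivial⟩
  have hk' : (g : H ⧸ N) ^ p ^ k = 1 := congrArg Subtype.val hk
  have hcop : (orderOf g).Coprime (p ^ k) :=
    Nat.Coprime.pow_right _ ((Nat.Prime.coprime_iff_not_dvd hp).2 hg).symm
  refine (QuotientGroup.eq_one_iff g).1 (orderOf_eq_one_iff.1 ?_)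
  exact Nat.eq_one_of_dvd_coprimes hcop
    (orderOf_map_dvd (QuotientGroup.mk' N) g) (orderOf_dvd_of_pow_eq_one hk')

variable {G : Type u} [Group G] [Fintype G]

/-- Two exponents `i`, `j` giving regular products force equality. -/
theorem eq_of_regular_products {x y : G} (hx : orderOf x = p) (hy : orderOf y = p)
    (hs : IsPSolvable p (Subgroup.closure ({x, y} : Set G)))
    (hab : ∀ S : Subgroup G, IsPGroup p S → ∀ a ∈ S, ∀ b ∈ S, a * b = b * a) {i j : ℕ} (hi : i < p)
    (hj : j < p) (hri : ¬ p ∣ orderOf (x * y ^ i)) (hrj : ¬ p ∣ orderOf (x * y ^ j)) : i = j := by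
  have hp := Fact.out (p := p.Prime)
  set H := Subgroup.closure ({x, y} : Set G) with hH
  let X : H := ⟨x, Subgroup.subset_closure (by simp)⟩
  let Y : H := ⟨y, Subgroup.subset_closure (by simp)⟩
  have hYp : Y ^ p = 1 := Subtype.ext (by simp [Y, ← hy, pow_orderOf_eq_one])
  have hXp : X ^ p = 1 := Subtype.ext (by simp [X, ← hx, pow_orderOf_eq_one])
  have habH : ∀ S : Sylow p H, ∀ a ∈ S, ∀ b ∈ S, a * b = b * a := fun S a ha b hb =>
    Subtype.ext (hab _ (S.isPGroup'.map H.subtype) _ ⟨a, ha, rfl⟩ _ ⟨b, hb, rfl⟩)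
  have hgen : Subgroup.closure {g : H | ∃ k : ℕ, g ^ p ^ k = 1} = ⊤ := by
    refine top_le_iff.1 ?_
    rw [← Subgroup.closure_closure_coe_preimage (k := ({x, y} : Set G))]
    refine Subgroup.closure_mono fun g hg => ?_
    rcases hg with hg | hg
    · exact ⟨1, by rw [pow_one, show g = X from Subtype.ext hg]; exact hXp⟩
    · exact ⟨1, by rw [pow_one, show g = Y from Subtype.ext hg]; exact hYp⟩
  have hm : ∀ k : ℕ, ¬ p ∣ orderOf (x * y ^ k) → X * Y ^ k ∈ pPrimeCore p H := fun k hk =>
    regular_mem_pPrimeCore hs habH hgen (by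
      rwa [← Subgroup.orderOf_coe, show ((X * Y ^ k : H) : G) = x * y ^ k by simp [X, Y]])
  by_contra hne
  wlog hlt : i < j generalizing i j
  · exact this hj hi hrj hri (Ne.symm hne) (by omega)
  have hYk : Y ^ (j - i) ∈ pPrimeCore p H := by
    have h := mul_mem (inv_mem (hm i hri)) (hm j hrj)
    have hpw : Y ^ j = Y ^ i * Y ^ (j - i) := by rw [← pow_add, Nat.add_sub_cancel' hlt.le]
    rw [hpw] at h
    simpa [mul_assoc] using h
  have hord : orderOf Y = p := by rw [← Subgroup.orderOf_coe]; exact hy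
  have hd : orderOf (Y ^ (j - i)) = p := by
    rw [orderOf_pow' _ (by omega), hord, Nat.Coprime.gcd_eq_one, Nat.div_one]
    exact Nat.coprime_of_lt_prime (n := j - i) (by omega) (by omega) hp
  have h1 : orderOf (Y ^ (j - i)) ∣ Nat.card (pPrimeCore p H) := Subgroup.orderOf_dvd_natCard _ hYk
  exact Core.pPrimeCore_not_dvd p H (hd ▸ h1)

/-- The proportion of regular products is at most `1 / (p - 1)`. -/
theorem regular_products_le {x : G} (hx : orderOf x = p)
    (hclass : ∀ y : G, orderOf y = p → IsConj x y)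
    (hpair : ∀ y z : G, orderOf y = p → orderOf z = p →
      IsPSolvable p (Subgroup.closure ({y, z} : Set G)))
    (hab : ∀ S : Subgroup G, IsPGroup p S → ∀ a ∈ S, ∀ b ∈ S, a * b = b * a) :
    (p - 1) * ((Char.classFinset x).filter fun y => ¬ p ∣ orderOf (x * y)).card ≤
      (Char.classFinset x).card := by
  classical
  have hp := Fact.out (p := p.Prime)
  set C := Char.classFinset x
  have hC : ∀ y, y ∈ C ↔ orderOf y = p := fun y =>
    ⟨fun h => by
      obtain ⟨c, hc⟩ := isConj_iff.1 (Char.mem_classFinset.1 h)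
      rw [← hc, ← MulAut.conj_apply, MulEquiv.orderOf_eq, hx],
     fun h => Char.mem_classFinset.2 (hclass y h)⟩
  set S : Finset ℕ := (Finset.range p).erase 0
  have hcard : S.card = p - 1 := by
    simp [S, Finset.card_erase_of_mem (Finset.mem_range.2 hp.pos)]
  have hop : ∀ y ∈ C, ∀ k ∈ S, orderOf (y ^ k) = p := fun y hy k hk => by
    obtain ⟨hk0, hkp⟩ := Finset.mem_erase.1 hk
    rw [orderOf_pow' _ hk0, (hC y).1 hy, Nat.Coprime.gcd_eq_one, Nat.div_one]
    exact Nat.coprime_of_lt_prime hk0 (Finset.mem_range.1 hkp) hp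
  have heq : ∀ k ∈ S, (C.filter fun y => ¬ p ∣ orderOf (x * y)).card ≤
      (C.filter fun y => ¬ p ∣ orderOf (x * y ^ k)).card := by
    intro k hk
    have hinj : Set.InjOn (fun y : G => y ^ k) C := by
      intro a ha b hb hab'
      obtain ⟨hk0, hkp⟩ := Finset.mem_erase.1 hk
      obtain ⟨m, hm⟩ := Nat.exists_mul_mod_eq_one_of_coprime
        (Nat.coprime_of_lt_prime hk0 (Finset.mem_range.1 hkp) hp).symm hp.one_lt
      have hf : ∀ c : G, orderOf c = p → (c ^ k) ^ m = c := fun c hc => by
        rw [← pow_mul, ← pow_mod_orderOf, hc, hm.2, pow_one]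
      exact (hf a ((hC a).1 ha)).symm.trans
        ((congrArg (· ^ m) hab').trans (hf b ((hC b).1 hb)))
    have himg : C.image (fun y => y ^ k) = C :=
      Finset.eq_of_subset_of_card_le
        (Finset.image_subset_iff.2 fun y hy => (hC _).2 (hop y hy k hk))
        (by rw [Finset.card_image_of_injOn hinj])
    refine le_trans (Finset.card_le_card ?_) (Finset.card_image_le (f := fun y => y ^ k)
      (s := C.filter fun y => ¬ p ∣ orderOf (x * y ^ k)))
    intro y hy
    obtain ⟨hyC, hyr⟩ := Finset.mem_filter.1 hy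
    obtain ⟨z, hz, rfl⟩ := Finset.mem_image.1 (himg.symm ▸ hyC)
    exact Finset.mem_image.2 ⟨z, Finset.mem_filter.2 ⟨hz, hyr⟩, rfl⟩
  rw [← hcard]
  calc S.card * (C.filter fun y => ¬ p ∣ orderOf (x * y)).card
      = ∑ _k ∈ S, (C.filter fun y => ¬ p ∣ orderOf (x * y)).card := by
        rw [Finset.sum_const, smul_eq_mul]
    _ ≤ ∑ k ∈ S, (C.filter fun y => ¬ p ∣ orderOf (x * y ^ k)).card := Finset.sum_le_sum heq
    _ ≤ C.card := by
      rw [← Finset.card_biUnion]
      · exact Finset.card_le_card (Finset.biUnion_subset.2 fun k _ => Finset.filter_subset _ _)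
      · intro i hi j hj hij
        rw [Function.onFun, Finset.disjoint_left]
        intro y hy1 hy2
        obtain ⟨hyC, hr1⟩ := Finset.mem_filter.1 hy1
        obtain ⟨-, hr2⟩ := Finset.mem_filter.1 hy2
        exact hij (eq_of_regular_products hx ((hC y).1 hyC) (hpair x y hx ((hC y).1 hyC)) hab
          (Finset.mem_range.1 (Finset.mem_erase.1 hi).2)
          (Finset.mem_range.1 (Finset.mem_erase.1 hj).2) hr1 hr2)

variable {M : Ideal AlgInt} (hM : IsPModular p M)

include hM in
/-- The principal block is constant on the section of an element whose centralizer has a normal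
`p`-complement. -/
theorem principal_value_section {χ : IrrCharacter G} (hχ : χ ∈ principalBlock M G) {u y : G}
    (hu : ∃ k : ℕ, orderOf u = p ^ k)
    (hcu : HasNormalPComplement p (Subgroup.centralizer ({u} : Set G)))
    (hy : Commute u y) (hyr : ¬ p ∣ orderOf y) :
    (χ : G → ℂ) (u * y) = (χ : G → ℂ) u := by
  classical
  set H := Subgroup.centralizer ({u} : Set G) with hH
  letI : Fintype H := Fintype.ofFinite _
  have hHu : ∀ h : H, Commute u (h : G) := fun h =>
    (Subgroup.mem_centralizer_singleton_iff.1 h.2).symm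
  have hyH : y ∈ H := Subgroup.mem_centralizer_singleton_iff.2 hy.symm.eq
  have hreg : IsPRegular p (⟨y, hyH⟩ : H) := by rwa [IsPRegular, Subgroup.orderOf_mk]
  have h1 : IsPRegular p (1 : H) := by simp [IsPRegular, hM.1.ne_one]
  have key : ∀ z : H, IsPRegular p z → (χ : G → ℂ) (u * (z : G)) =
      blockPart (principalBlock M H) (secFn u H (χ : G → ℂ)) z := fun z hz => by
    have h := blockPart_indSet hM hu hHu le_rfl (isPBlock_principal (M := M) (G := G)) χ hz
    rw [if_pos hχ, indSet_principal hM hu hHu le_rfl] at h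
    exact h.symm
  have hl := (hasNormalPComplement_iff_rank_one (G := H) hM).1 hcu
  rw [show u * y = u * ((⟨y, hyH⟩ : H) : G) from rfl, key _ hreg]
  conv_rhs => rw [← mul_one u, show u * 1 = u * ((1 : H) : G) from rfl, key _ h1]
  simp only [blockPart, finsum_mem_eq_toFinset_sum]
  refine Finset.sum_congr rfl fun η hη => ?_
  have h := congrFun (regPart_eq_of_rank_one hl (Set.mem_toFinset.1 hη)
    (trivChar_mem_principal hM)) ⟨y, hyH⟩
  rw [Pi.smul_apply, pRegularPart_of_reg hreg, pRegularPart_of_reg hreg] at h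
  simp only [trivChar_coe, div_one, smul_eq_mul, mul_one] at h
  rw [← h]

end Cfsg.Lib.Block.OneClass
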