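import Cfsg.Agent.Lib.Block.CentralDefect
import Cfsg.Agent.Lib.Char.Linear
import Cfsg.Agent.Lib.Char.Quotient
import Cfsg.Agent.Lib.Char.Ito
import Cfsg.Agent.Lib.PGroup.Basic

/-!
# p-groups whose characters of equal degree have equal kernels

For a nonabelian `p`-group, characters of the same degree above one have the same kernel exactly
when the centre is cyclic and the derived subgroup has order `p`.
-/

set_option autoImplicit false
set_option linter.unusedSectionVars false
set_option maxHeartbeats 1000000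

namespace Cfsg.Lib.PGaloisDeg

open Cfsg Cfsg.Lib
open scoped commutatorElement ComplexConjugate

universe u

variable {Q : Type u} [Group Q] [Fintype Q]

/-- Nonlinear characters of equal degree have equal kernels. -/
def KerHyp (Q : Type u) [Group Q] : Prop :=
  ∀ χ ψ : IrrCharacter Q, (χ : Q → ℂ) 1 ≠ 1 → (χ : Q → ℂ) 1 = (ψ : Q → ℂ) 1 →
    ∀ g, (χ : Q → ℂ) g = (χ : Q → ℂ) 1 → (ψ : Q → ℂ) g = (ψ : Q → ℂ) 1

/-- Inflation from a quotient. -/
noncomputable def infl (N : Subgroup Q) [N.Normal] (χ : IrrCharacter (Q ⧸ N)) : IrrCharacter Q :=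
  ⟨fun g => (χ : Q ⧸ N → ℂ) g, Char.isIrrCharacter_inflate N χ.2⟩

theorem infl_apply (N : Subgroup Q) [N.Normal] (χ : IrrCharacter (Q ⧸ N)) (g : Q) :
    (infl N χ : Q → ℂ) g = (χ : Q ⧸ N → ℂ) g := rfl

theorem infl_kernel (N : Subgroup Q) [N.Normal] (χ : IrrCharacter (Q ⧸ N)) {n : Q} (hn : n ∈ N) :
    (infl N χ : Q → ℂ) n = (infl N χ : Q → ℂ) 1 := by
  rw [infl_apply, infl_apply, (QuotientGroup.eq_one_iff n).2 hn, QuotientGroup.mk_one]

theorem kerHyp_quotient (hK : KerHyp Q) (N : Subgroup Q) [N.Normal] : KerHyp (Q ⧸ N) := by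
  intro χ ψ h1 h2 g hg
  obtain ⟨g, rfl⟩ := QuotientGroup.mk_surjective g
  exact hK (infl N χ) (infl N ψ) h1 h2 g hg

theorem exists_irr_ne {x : Q} (hx : x ≠ 1) :
    ∃ χ : IrrCharacter Q, (χ : Q → ℂ) x ≠ (χ : Q → ℂ) 1 := by
  by_contra h
  push_neg at h
  exact hx (isConj_one_left.1 ((Char.isConj_iff_forall_irr x 1).2 h))

theorem linear_trivial (φ : Q →* ℂˣ) {x : Q} (hx : x ∈ commutator Q) : φ x = 1 :=
  MonoidHom.mem_ker.1 (Abelianization.commutator_subset_ker φ hx)

theorem quot_comm {N : Subgroup Q} [N.Normal] (h : commutator Q ≤ N) (a b : Q ⧸ N) :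
    a * b = b * a := by
  obtain ⟨a, rfl⟩ := QuotientGroup.mk_surjective a
  obtain ⟨b, rfl⟩ := QuotientGroup.mk_surjective b
  rw [← QuotientGroup.mk_mul, ← QuotientGroup.mk_mul, QuotientGroup.eq]
  refine h ?_
  have e : (a * b)⁻¹ * (b * a) = ⁅b⁻¹, a⁻¹⁆ := by simp [commutatorElement_def, mul_assoc]
  rw [e, commutator_def]
  exact Subgroup.commutator_mem_commutator (Subgroup.mem_top _) (Subgroup.mem_top _)

theorem linear_of_kernel (χ : IrrCharacter Q)
    (h : ∀ x ∈ commutator Q, (χ : Q → ℂ) x = (χ : Q → ℂ) 1) : (χ : Q → ℂ) 1 = 1 := by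
  obtain ⟨ψ, hψ, he⟩ := Char.exists_deflate_irr (commutator Q) χ.2 h
  rw [← he, QuotientGroup.mk_one]
  exact Char.degree_eq_one_of_comm (quot_comm le_rfl) hψ

theorem exists_nonlinear (h : ¬ ∀ a b : Q, a * b = b * a) :
    ∃ χ : IrrCharacter Q, (χ : Q → ℂ) 1 ≠ 1 := by
  by_contra h'
  push_neg at h'
  exact h (Char.comm_iff_all_linear.2 h')

/-- Under the hypothesis the kernel of a nonlinear character lies in the derived subgroup. -/
theorem kernel_le_commutator (hK : KerHyp Q) {χ : IrrCharacter Q} (h1 : (χ : Q → ℂ) 1 ≠ 1)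
    {x : Q} (hx : (χ : Q → ℂ) x = (χ : Q → ℂ) 1) : x ∈ commutator Q := by
  by_contra hn
  haveI := Fintype.ofFinite (Q ⧸ commutator Q)
  obtain ⟨ψ, hψ⟩ := exists_irr_ne (Q := Q ⧸ commutator Q) (x := (x : Q ⧸ commutator Q))
    fun e => hn ((QuotientGroup.eq_one_iff x).1 e)
  have hψ1 : (infl (commutator Q) ψ : Q → ℂ) 1 = 1 :=
    Char.degree_eq_one_of_comm (quot_comm le_rfl) ψ.2
  obtain ⟨φ, hφ⟩ := Char.exists_hom_of_degree_one (infl (commutator Q) ψ).2.isCharacter hψ1
  have hirr := Char.isIrrCharacter_mul_linear χ.2 φ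
  have h := hK χ ⟨_, hirr⟩ h1 (by simp) x hx
  simp only [Pi.mul_apply, map_one, Units.val_one, mul_one] at h
  rw [hx, mul_eq_left₀ χ.2.apply_one_ne_zero] at h
  refine hψ ?_
  have e1 : (infl (commutator Q) ψ : Q → ℂ) x = 1 := (congrFun hφ x).trans h
  rw [infl_apply] at e1
  rw [e1, ← QuotientGroup.mk_one]
  exact hψ1.symm

/-- A character vanishes where conjugation multiplies by a central element seen by it. -/
theorem vanish (χ : IrrCharacter Q) {g h : Q} (hc : ⁅h, g⁆ ∈ Subgroup.center Q)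
    (hne : (χ : Q → ℂ) ⁅h, g⁆ ≠ (χ : Q → ℂ) 1) : (χ : Q → ℂ) g = 0 := by
  obtain ⟨c, -, hcg⟩ := Block.exists_central_scalar χ hc
  have h1 : (χ : Q → ℂ) g = c * (χ : Q → ℂ) g := by
    rw [← hcg, show ⁅h, g⁆ * g = h * g * h⁻¹ by simp [commutatorElement_def]]
    exact (χ.2.isClassFunction g h).symm
  by_contra h0
  apply hne
  have hc1 : c = 1 := (mul_eq_right₀ h0).1 h1.symm
  have := hcg 1
  rwa [mul_one, hc1, one_mul] at this

variable {p : ℕ} [hp : Fact p.Prime]

theorem le_center_of_card_prime (hQ : IsPGroup p Q) {N : Subgroup Q} [N.Normal]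
    (hN : Nat.card N = p) : N ≤ Subgroup.center Q := by
  have hne : N ⊓ Subgroup.center Q ≠ ⊥ := PGroup.inf_center_ne_bot hQ fun h => by
    rw [h, Subgroup.card_bot] at hN
    exact hp.out.one_lt.ne hN
  have hd : Nat.card ↥(N ⊓ Subgroup.center Q) ∣ p := hN ▸ Subgroup.card_dvd_of_le inf_le_left
  rcases (Nat.dvd_prime hp.out).1 hd with h | h
  · exact absurd (Subgroup.eq_bot_of_card_eq _ h) hne
  · rw [← Subgroup.eq_of_le_of_card_ge inf_le_left (hN.le.trans h.ge)]
    exact inf_le_right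

theorem eq_zpowers_of_card_prime {N : Subgroup Q} (hN : Nat.card N = p) {x : Q} (hx : x ∈ N)
    (hx1 : x ≠ 1) : Subgroup.zpowers x = N := by
  refine Subgroup.eq_of_le_of_card_ge (Subgroup.zpowers_le.2 hx) (le_of_eq ?_)
  rw [hN, Nat.card_zpowers]
  have hd : orderOf x ∣ p := hN ▸ Subgroup.orderOf_dvd_natCard N hx
  exact (((Nat.dvd_prime hp.out).1 hd).resolve_left fun h => hx1 (orderOf_eq_one_iff.1 h)).symm

/-- With a derived subgroup of order `p` the nonlinear characters live on the centre. -/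
theorem vanish_off_center (hQ : IsPGroup p Q) (hQ' : Nat.card (commutator Q) = p)
    {χ : IrrCharacter Q} (h1 : (χ : Q → ℂ) 1 ≠ 1) {g : Q} (hg : g ∉ Subgroup.center Q) :
    (χ : Q → ℂ) g = 0 := by
  obtain ⟨h, hh⟩ : ∃ h : Q, h * g ≠ g * h := by
    by_contra hcon
    push_neg at hcon
    exact hg (Subgroup.mem_center_iff.2 hcon)
  have hmem : ⁅h, g⁆ ∈ commutator Q := by
    rw [commutator_def]
    exact Subgroup.commutator_mem_commutator (Subgroup.mem_top _) (Subgroup.mem_top _)
  refine vanish χ (le_center_of_card_prime hQ hQ' hmem) fun heq => h1 (linear_of_kernel χ ?_)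
  intro x hx
  have hne : ⁅h, g⁆ ≠ 1 := fun e => hh (commutatorElement_eq_one_iff_mul_comm.1 e)
  have hle : commutator Q ≤ Char.charKer χ.2.isCharacter := by
    rw [← eq_zpowers_of_card_prime hQ' hmem hne, Subgroup.zpowers_le]
    exact heq
  exact hle hx

theorem degree_sq (hQ : IsPGroup p Q) (hQ' : Nat.card (commutator Q) = p)
    {χ : IrrCharacter Q} (h1 : (χ : Q → ℂ) 1 ≠ 1) :
    charDegree (χ : Q → ℂ) ^ 2 = (Subgroup.center Q).index := by
  classical
  set f := charDegree (χ : Q → ℂ) with hf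
  have hf1 : (χ : Q → ℂ) 1 = (f : ℂ) := Block.apply_one_eq_charDegree χ
  have hZ : ∀ z ∈ Subgroup.center Q, (χ : Q → ℂ) z * conj ((χ : Q → ℂ) z) = (f : ℂ) ^ 2 := by
    intro z hz
    obtain ⟨c, hc, hcg⟩ := Block.exists_central_scalar χ hz
    have h := hcg 1
    rw [mul_one, hf1] at h
    rw [h, map_mul, mul_mul_mul_comm, Block.conj_mul_self_of_pow_eq_one (orderOf_pos z).ne' hc,
      Complex.conj_natCast, one_mul, sq]
  have h := Char.classInner_irr_self χ.2
  rw [classInner, inv_mul_eq_one₀ Char.card_cast_ne_zero,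
    ← Finset.sum_subset (Finset.subset_univ (Finset.univ.filter (· ∈ Subgroup.center Q)))
      (fun g _ hg => by
        rw [vanish_off_center hQ hQ' h1 (fun hc => hg (Finset.mem_filter.2 ⟨Finset.mem_univ _, hc⟩)),
          zero_mul]),
    Finset.sum_congr rfl (fun g hg => hZ g (Finset.mem_filter.1 hg).2), Finset.sum_const,
    nsmul_eq_mul, ← Fintype.card_subtype, ← Nat.card_eq_fintype_card,
    ← Subgroup.card_mul_index (Subgroup.center Q), Nat.cast_mul] at h
  have h' := mul_left_cancel₀ (Nat.cast_ne_zero.2 Nat.card_pos.ne') h.symm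
  exact_mod_cast h'

theorem center_cyclic (hQ : IsPGroup p Q) (hK : KerHyp Q) (hQ' : Nat.card (commutator Q) = p) :
    IsCyclic (Subgroup.center Q) := by
  classical
  have hnc : ¬ ∀ a b : Q, a * b = b * a := by
    intro hc
    have hbot : commutator Q = ⊥ := by
      rw [commutator_def, eq_bot_iff, Subgroup.commutator_le]
      intro a _ b _
      exact commutatorElement_eq_one_iff_mul_comm.2 (hc a b)
    rw [hbot, Subgroup.card_bot] at hQ'
    exact hp.out.one_lt.ne hQ'
  obtain ⟨χ, hχ⟩ := exists_nonlinear hnc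
  have hker : ∀ x, (χ : Q → ℂ) x = (χ : Q → ℂ) 1 → x = 1 := by
    intro x hx
    by_contra hx1
    have hle : commutator Q ≤ Char.charKer χ.2.isCharacter := by
      rw [← eq_zpowers_of_card_prime hQ' (kernel_le_commutator hK hχ hx) hx1, Subgroup.zpowers_le]
      exact hx
    exact hχ (linear_of_kernel χ fun y hy => hle hy)
  choose c hc hcg using fun z : Subgroup.center Q => Block.exists_central_scalar χ z.2
  let φ : Subgroup.center Q →* ℂ :=
    { toFun := c
      map_one' := by
        have := hcg 1 1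
        rw [OneMemClass.coe_one, one_mul] at this
        exact (mul_eq_right₀ χ.2.apply_one_ne_zero).1 this.symm
      map_mul' := fun a b => by
        have h3 := hcg (a * b) 1
        rw [mul_one, Subgroup.coe_mul] at h3
        have h4 : (χ : Q → ℂ) ((a : Q) * b) = c a * (c b * (χ : Q → ℂ) 1) := by
          rw [hcg a, ← hcg b 1, mul_one]
        rw [h4, ← mul_assoc] at h3
        exact (mul_right_cancel₀ χ.2.apply_one_ne_zero h3).symm }
  refine isCyclic_of_subgroup_isDomain φ ((injective_iff_map_eq_one φ).2 fun z hz => ?_)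
  have h := hcg z 1
  rw [mul_one, show c z = 1 from hz, one_mul] at h
  exact Subtype.ext (hker _ h)

omit hp in
theorem comm_mul_left {g₁ g₂ h : Q} (hc : ⁅g₂, h⁆ ∈ Subgroup.center Q) :
    ⁅g₁ * g₂, h⁆ = ⁅g₂, h⁆ * ⁅g₁, h⁆ := by
  have e : ⁅g₁ * g₂, h⁆ = g₁ * ⁅g₂, h⁆ * g₁⁻¹ * ⁅g₁, h⁆ := by
    simp [commutatorElement_def, mul_assoc]
  rw [e, Subgroup.mem_center_iff.1 hc g₁, mul_inv_cancel_right]

omit hp in
theorem comm_pow {g h : Q} (hc : ⁅g, h⁆ ∈ Subgroup.center Q) : ∀ n : ℕ, ⁅g ^ n, h⁆ = ⁅g, h⁆ ^ n := by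
  intro n
  induction n with
  | zero => simp
  | succ n ih =>
    rw [pow_succ, comm_mul_left hc, ih, ← pow_succ']

omit hp in
theorem comm_central_left {g m h : Q} (hm : m ∈ Subgroup.center Q) : ⁅g * m, h⁆ = ⁅g, h⁆ := by
  have e : ⁅m, h⁆ = 1 :=
    commutatorElement_eq_one_iff_mul_comm.2 (Subgroup.mem_center_iff.1 hm h).symm
  rw [comm_mul_left (by rw [e]; exact one_mem _), e, one_mul]

omit hp in
theorem mk_mem_center_iff {M : Subgroup Q} [M.Normal] {g : Q} :
    (g : Q ⧸ M) ∈ Subgroup.center (Q ⧸ M) ↔ ∀ h : Q, ⁅g, h⁆ ∈ M := by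
  rw [Subgroup.mem_center_iff]
  constructor
  · intro hh h
    rw [← QuotientGroup.eq_one_iff, ← QuotientGroup.mk'_apply, map_commutatorElement,
      commutatorElement_eq_one_iff_mul_comm]
    exact (hh h).symm
  · intro hh a
    obtain ⟨h, rfl⟩ := QuotientGroup.mk_surjective a
    have := (QuotientGroup.eq_one_iff _).2 (hh h)
    rw [← QuotientGroup.mk'_apply, map_commutatorElement,
      commutatorElement_eq_one_iff_mul_comm] at this
    exact this.symm

omit hp in
theorem map_mk_commutator (M : Subgroup Q) [M.Normal] :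
    (commutator Q).map (QuotientGroup.mk' M) = commutator (Q ⧸ M) := by
  rw [commutator_def, commutator_def, Subgroup.map_commutator, ← MonoidHom.range_eq_map,
    MonoidHom.range_eq_top.2 (QuotientGroup.mk'_surjective M)]

omit hp in
theorem card_map_mk {M : Subgroup Q} [M.Normal] {K : Subgroup Q} (hMK : M ≤ K) :
    Nat.card K = Nat.card M * Nat.card (K.map (QuotientGroup.mk' M)) := by
  have h1 : (K.map (QuotientGroup.mk' M)).index = K.index :=
    K.index_map_eq (QuotientGroup.mk'_surjective M) (by rwa [QuotientGroup.ker_mk'])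
  have h2 := (K.map (QuotientGroup.mk' M)).card_mul_index
  rw [h1, ← Subgroup.index_eq_card] at h2
  have h3 := K.card_mul_index
  rw [← M.card_mul_index, ← h2, ← mul_assoc] at h3
  exact Nat.eq_of_mul_eq_mul_right (Nat.pos_of_ne_zero Subgroup.index_ne_zero_of_finite) h3

/-- The preimage of the centre of a quotient. -/
def upCenter (M : Subgroup Q) [M.Normal] : Subgroup Q :=
  (Subgroup.center (Q ⧸ M)).comap (QuotientGroup.mk' M)

theorem exists_generator_mod {M : Subgroup Q} [M.Normal] (hcyc : IsCyclic (Subgroup.center (Q ⧸ M))) :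
    ∃ w ∈ upCenter M, ∀ x ∈ upCenter M, ∃ (i : ℕ), ∃ m ∈ M, x = w ^ i * m := by
  obtain ⟨⟨W, hW⟩, hgen⟩ := hcyc.exists_generator
  obtain ⟨w, rfl⟩ := QuotientGroup.mk_surjective W
  refine ⟨w, hW, fun x hx => ?_⟩
  obtain ⟨i, hi⟩ := mem_powers_iff_mem_zpowers.2 (hgen ⟨(x : Q ⧸ M), hx⟩)
  refine ⟨i, (w ^ i)⁻¹ * x, ?_, (mul_inv_cancel_left _ _).symm⟩
  rw [← QuotientGroup.eq_one_iff, QuotientGroup.mk_mul, QuotientGroup.mk_inv, QuotientGroup.mk_pow,
    show ((w : Q ⧸ M) ^ i) = (x : Q ⧸ M) from congrArg Subtype.val hi, inv_mul_cancel]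

theorem pow_mem_of_card_map {M K : Subgroup Q} [M.Normal]
    (h : Nat.card (K.map (QuotientGroup.mk' M)) = p) {x : Q} (hx : x ∈ K) : x ^ p ∈ M := by
  have h1 : orderOf (x : Q ⧸ M) ∣ p :=
    h ▸ Subgroup.orderOf_dvd_natCard _ (⟨x, hx, rfl⟩ : (x : Q ⧸ M) ∈ K.map (QuotientGroup.mk' M))
  rw [← QuotientGroup.eq_one_iff, QuotientGroup.mk_pow]
  exact orderOf_dvd_iff_pow_eq_one.1 h1

/-- The centre has index at most `p` in the preimage of the centre of the quotient. -/
theorem relIndex_center_upCenter (hQ : IsPGroup p Q) {M : Subgroup Q} [M.Normal]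
    (hM : Nat.card M = p) (hcyc : IsCyclic (Subgroup.center (Q ⧸ M))) :
    Subgroup.center Q ≤ upCenter M ∧
      ((Subgroup.center Q).relIndex (upCenter M) = 1 ∨
        (Subgroup.center Q).relIndex (upCenter M) = p) := by
  have hMZ := le_center_of_card_prime hQ hM
  have hle : Subgroup.center Q ≤ upCenter M := fun z hz => mk_mem_center_iff.2 fun h => by
    rw [commutatorElement_eq_one_iff_mul_comm.2 (Subgroup.mem_center_iff.1 hz h).symm]
    exact one_mem M
  refine ⟨hle, ?_⟩
  obtain ⟨w, hw, hgen⟩ := exists_generator_mod hcyc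
  have hwp : w ^ p ∈ Subgroup.center Q := by
    refine Subgroup.mem_center_iff.2 fun h => (commutatorElement_eq_one_iff_mul_comm.1 ?_).symm
    rw [comm_pow (hMZ (mk_mem_center_iff.1 hw h))]
    exact orderOf_dvd_iff_pow_eq_one.1 (hM ▸ Subgroup.orderOf_dvd_natCard M (mk_mem_center_iff.1 hw h))
  set K := (Subgroup.center Q).subgroupOf (upCenter M) with hK
  haveI : K.Normal := (inferInstance : (Subgroup.center Q).Normal).subgroupOf _
  have hsurj : Function.Surjective fun j : Fin p => ((⟨w, hw⟩ : upCenter M) ^ (j : ℕ) :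
      upCenter M ⧸ K) := by
    intro a
    obtain ⟨⟨x, hx⟩, rfl⟩ := QuotientGroup.mk_surjective a
    obtain ⟨i, m, hm, rfl⟩ := hgen x hx
    refine ⟨⟨i % p, Nat.mod_lt i hp.out.pos⟩, ?_⟩
    simp only [← QuotientGroup.mk_pow]
    rw [QuotientGroup.eq, Subgroup.mem_subgroupOf]
    simp only [Subgroup.coe_mul, InvMemClass.coe_inv, SubmonoidClass.coe_pow]
    conv in w ^ i => rw [← Nat.mod_add_div i p, pow_add, pow_mul]
    rw [mul_assoc (w ^ (i % p)), inv_mul_cancel_left]
    exact mul_mem (pow_mem hwp _) (hMZ hm)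
  have h1 : (Subgroup.center Q).relIndex (upCenter M) ≤ p := by
    rw [Subgroup.relIndex, Subgroup.index_eq_card]
    exact (Nat.card_le_card_of_surjective _ hsurj).trans_eq (Nat.card_fin p)
  obtain ⟨k, hk⟩ := (hQ.to_subgroup (upCenter M)).index K
  rw [Subgroup.relIndex] at h1 ⊢
  rw [← hK, hk] at h1 ⊢
  rcases Nat.lt_or_ge k 2 with hk2 | hk2
  · interval_cases k <;> simp
  · exact absurd (h1.trans_lt (lt_self_pow₀ hp.out.one_lt hk2)) (lt_irrefl _)

/-- Under the hypothesis the derived subgroup has order `p`. -/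
theorem card_commutator_eq : ∀ (n : ℕ) {Q : Type u} [Group Q] [Fintype Q], Nat.card Q ≤ n →
    IsPGroup p Q → KerHyp Q → (¬ ∀ a b : Q, a * b = b * a) → Nat.card (commutator Q) = p := by
  intro n
  induction n with
  | zero => intro Q _ _ hn; exact absurd hn (not_le.2 Nat.card_pos)
  | succ n ih =>
  intro Q _ _ hn hQ hK hnc
  classical
  have hQ'ne : commutator Q ≠ ⊥ := fun h => hnc fun a b =>
    commutatorElement_eq_one_iff_mul_comm.1 (by
      rw [← Subgroup.mem_bot, ← h, commutator_def]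
      exact Subgroup.commutator_mem_commutator (Subgroup.mem_top _) (Subgroup.mem_top _))
  have hmem' : ∀ a b : Q, ⁅a, b⁆ ∈ commutator Q := fun a b => by
    rw [commutator_def]
    exact Subgroup.commutator_mem_commutator (Subgroup.mem_top _) (Subgroup.mem_top _)
  have hne := PGroup.inf_center_ne_bot hQ (N := commutator Q) hQ'ne
  obtain ⟨m, hm⟩ : ∃ m : ↥(commutator Q ⊓ Subgroup.center Q), orderOf m = p := by
    refine exists_prime_orderOf_dvd_card' p ?_
    obtain ⟨k, hk⟩ := (IsPGroup.iff_card.1 (hQ.to_subgroup (commutator Q ⊓ Subgroup.center Q)))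
    rw [hk]
    refine dvd_pow_self p fun h0 => hne ?_
    rw [h0, pow_zero] at hk
    exact Subgroup.eq_bot_of_card_eq _ hk
  set M := Subgroup.zpowers (m : Q) with hMdef
  have hMc : M ≤ Subgroup.center Q := Subgroup.zpowers_le.2 m.2.2
  have hMQ' : M ≤ commutator Q := Subgroup.zpowers_le.2 m.2.1
  haveI : M.Normal := ⟨fun a ha g => by
    rw [Subgroup.mem_center_iff.1 (hMc ha) g, mul_inv_cancel_right]; exact ha⟩
  have hMcard : Nat.card M = p := by
    rw [Nat.card_zpowers, Subgroup.orderOf_coe, hm]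
  by_contra hne'
  have hMlt : M ≠ commutator Q := fun h => hne' (h ▸ hMcard)
  haveI := Fintype.ofFinite (Q ⧸ M)
  have hQM : IsPGroup p (Q ⧸ M) := hQ.to_quotient M
  have hncM : ¬ ∀ a b : Q ⧸ M, a * b = b * a := by
    intro hc
    refine hMlt (le_antisymm hMQ' ?_)
    rw [commutator_def, Subgroup.commutator_le]
    intro a _ b _
    rw [← QuotientGroup.eq_one_iff, ← QuotientGroup.mk'_apply, map_commutatorElement]
    exact commutatorElement_eq_one_iff_mul_comm.2 (hc _ _)
  have hM' : Nat.card (commutator (Q ⧸ M)) = p := by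
    refine ih ?_ hQM (kerHyp_quotient hK M) hncM
    have h := M.card_mul_index
    rw [hMcard, Subgroup.index_eq_card] at h
    have h0 : 0 < Nat.card (Q ⧸ M) := Nat.card_pos
    have h2 := hp.out.two_le
    nlinarith
  have hcard2 : Nat.card (commutator Q) = p * p := by
    rw [card_map_mk hMQ', hMcard, map_mk_commutator, hM']
  have hQ'M : ∀ x ∈ commutator Q, x ^ p ∈ M := fun x hx =>
    pow_mem_of_card_map (K := commutator Q) (by rw [map_mk_commutator, hM']) hx
  have hQ'Z1 : commutator Q ≤ upCenter M := fun x hx =>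
    le_center_of_card_prime hQM hM' (map_mk_commutator M ▸ Subgroup.mem_map_of_mem _ hx)
  have hMpow : ∀ x ∈ M, x ^ p = 1 := fun x hx =>
    orderOf_dvd_iff_pow_eq_one.1 (hMcard ▸ Subgroup.orderOf_dvd_natCard M hx)
  have hcyc : IsCyclic (Subgroup.center (Q ⧸ M)) := center_cyclic hQM (kerHyp_quotient hK M) hM'
  obtain ⟨χb, hχb⟩ := exists_nonlinear hncM
  set χ₁ := infl M χb with hχ₁
  have hχ₁1 : (χ₁ : Q → ℂ) 1 ≠ 1 := hχb
  -- a character of the same degree has `M` in its kernel
  have hno : ∀ χ : IrrCharacter Q, (χ : Q → ℂ) 1 = (χ₁ : Q → ℂ) 1 → ∀ x ∈ M,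
      (χ : Q → ℂ) x = (χ : Q → ℂ) 1 := fun χ hd x hx =>
    hK χ₁ χ hχ₁1 hd.symm x (infl_kernel M χb hx)
  have hsq₁ : charDegree (χ₁ : Q → ℂ) ^ 2 = (upCenter M).index := by
    have h := degree_sq hQM hM' (χ := χb) hχb
    rw [upCenter, Subgroup.index_comap_of_surjective _ (QuotientGroup.mk'_surjective M), ← h]
    congr 1
  obtain ⟨w, hw, hgen⟩ := exists_generator_mod hcyc
  have hwM : ∀ h : Q, ⁅w, h⁆ ∈ M := mk_mem_center_iff.1 hw
  by_cases hcen : commutator Q ≤ Subgroup.center Q
  · by_cases hel : ∃ c ∈ commutator Q, c ∉ M ∧ c ^ p = 1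
    · -- two subgroups of order `p`
      obtain ⟨c, hc, hcM, hcp⟩ := hel
      set N := Subgroup.zpowers c with hN
      haveI : N.Normal := ⟨fun a ha g => by
        rw [Subgroup.mem_center_iff.1 (Subgroup.zpowers_le.2 (hcen hc) ha) g, mul_inv_cancel_right]
        exact ha⟩
      have hNcard : Nat.card N = p := by
        rw [Nat.card_zpowers]
        exact orderOf_eq_prime hcp fun e => hcM (e ▸ one_mem M)
      have hNQ' : N ≤ commutator Q := Subgroup.zpowers_le.2 hc
      haveI := Fintype.ofFinite (Q ⧸ N)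
      have hN' : Nat.card (commutator (Q ⧸ N)) = p := by
        have h := card_map_mk hNQ'
        rw [hcard2, hNcard, map_mk_commutator] at h
        exact (Nat.eq_of_mul_eq_mul_left hp.out.pos h).symm
      have hQN : IsPGroup p (Q ⧸ N) := hQ.to_quotient N
      have hncN : ¬ ∀ a b : Q ⧸ N, a * b = b * a := by
        intro hc'
        have hb : commutator (Q ⧸ N) = ⊥ := by
          rw [commutator_def, eq_bot_iff, Subgroup.commutator_le]
          intro a _ b _
          exact commutatorElement_eq_one_iff_mul_comm.2 (hc' a b)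
        rw [hb, Subgroup.card_bot] at hN'
        exact hp.out.one_lt.ne hN'
      obtain ⟨χ', hχ'⟩ := exists_nonlinear hncN
      have hsq₂ : charDegree (infl N χ' : Q → ℂ) ^ 2 = (upCenter N).index := by
        have h := degree_sq hQN hN' (χ := χ') hχ'
        rw [upCenter, Subgroup.index_comap_of_surjective _ (QuotientGroup.mk'_surjective N), ← h]
        congr 1
      obtain ⟨hle₁, hr₁⟩ := relIndex_center_upCenter hQ hMcard hcyc
      obtain ⟨hle₂, hr₂⟩ := relIndex_center_upCenter hQ hNcard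
        (center_cyclic hQN (kerHyp_quotient hK N) hN')
      have e₁ := Subgroup.relIndex_mul_index hle₁
      have e₂ := Subgroup.relIndex_mul_index hle₂
      rw [← hsq₁] at e₁
      rw [← hsq₂] at e₂
      set f₁ := charDegree (χ₁ : Q → ℂ)
      set f₂ := charDegree (infl N χ' : Q → ℂ)
      have hf₁ : f₁ ≠ 0 := (Block.charDegree_pos _).ne'
      have hf₂ : f₂ ≠ 0 := (Block.charDegree_pos _).ne'
      have hpar : ∀ a b : ℕ, a ≠ 0 → b ≠ 0 → p * a ^ 2 = 1 * b ^ 2 → False := by
        intro a b ha hb h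
        have := congrArg (fun k => k.factorization p) h
        simp only [one_mul, Nat.factorization_mul hp.out.ne_zero (pow_ne_zero 2 ha),
          Nat.factorization_pow, Finsupp.add_apply, Finsupp.smul_apply, smul_eq_mul,
          hp.out.factorization_self] at this
        omega
      have hf : f₁ = f₂ := by
        rcases hr₁ with r₁ | r₁ <;> rcases hr₂ with r₂ | r₂ <;> rw [r₁] at e₁ <;> rw [r₂] at e₂
        · exact Nat.pow_left_injective two_ne_zero (by simpa using e₁.trans e₂.symm)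
        · exact (hpar f₂ f₁ hf₂ hf₁ (e₂.trans e₁.symm)).elim
        · exact (hpar f₁ f₂ hf₁ hf₂ (e₁.trans e₂.symm)).elim
        · exact Nat.pow_left_injective two_ne_zero
            (Nat.eq_of_mul_eq_mul_left hp.out.pos (e₁.trans e₂.symm))
      have hdeg : (infl N χ' : Q → ℂ) 1 = (χ₁ : Q → ℂ) 1 := by
        rw [Block.apply_one_eq_charDegree, Block.apply_one_eq_charDegree]
        exact congrArg Nat.cast hf.symm
      refine hχ' ?_
      show (infl N χ' : Q → ℂ) 1 = 1
      refine linear_of_kernel _ fun x hx => ?_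
      have hsup : M ⊔ N = commutator Q := by
        refine Subgroup.eq_of_le_of_card_ge (sup_le hMQ' hNQ') ?_
        have hlt : M < M ⊔ N := lt_of_le_of_ne le_sup_left fun h =>
          hcM (h.symm ▸ Subgroup.mem_sup_right (Subgroup.mem_zpowers c))
        have hd : Nat.card ↥(M ⊔ N) ∣ p * p := hcard2 ▸ Subgroup.card_dvd_of_le (sup_le hMQ' hNQ')
        rw [← sq] at hd
        obtain ⟨k, hk, hk'⟩ := (Nat.dvd_prime_pow hp.out).1 hd
        have hlt' : p ^ 1 < p ^ k := by
          rw [← hk', pow_one]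
          calc p = Nat.card M := hMcard.symm
            _ < _ := by
              by_contra hge
              exact hlt.ne (Subgroup.eq_of_le_of_card_ge hlt.le (not_lt.1 hge))
        have h1k := (Nat.pow_lt_pow_iff_right hp.out.one_lt).1 hlt'
        have : k = 2 := by omega
        rw [hcard2, hk', this, sq]
      rw [← hsup] at hx
      have hleK : M ⊔ N ≤ Char.charKer (infl N χ').2.isCharacter :=
        sup_le (fun y hy => hno _ hdeg y hy) fun y hy => infl_kernel N χ' hy
      exact hleK hx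
    · -- cyclic derived subgroup
      push_neg at hel
      obtain ⟨a, b, hab⟩ : ∃ a b : Q, ⁅a, b⁆ ∉ M := by
        by_contra hall
        push_neg at hall
        refine hMlt (le_antisymm hMQ' ?_)
        rw [commutator_def, Subgroup.commutator_le]
        exact fun a _ b _ => hall a b
      have hcp : ⁅a, b⁆ ^ p ≠ 1 := hel _ (hmem' a b) hab
      have hpowZ : ∀ g : Q, g ^ p ∈ upCenter M := fun g => mk_mem_center_iff.2 fun h => by
        rw [comm_pow (hcen (hmem' g h))]
        exact hQ'M _ (hmem' g h)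
      obtain ⟨i, k, hk, hi⟩ := hgen _ (hpowZ a)
      obtain ⟨j, l, hl, hj⟩ := hgen _ (hpowZ b)
      have hA : ∀ h, ⁅a, h⁆ ^ p = ⁅w, h⁆ ^ i := fun h => by
        rw [← comm_pow (hcen (hmem' a h)), hi, comm_central_left (hMc hk), comm_pow (hMc (hwM h))]
      have hB : ∀ h, ⁅b, h⁆ ^ p = ⁅w, h⁆ ^ j := fun h => by
        rw [← comm_pow (hcen (hmem' b h)), hj, comm_central_left (hMc hl), comm_pow (hMc (hwM h))]
      have hip : ¬ p ∣ i := fun ⟨t, ht⟩ => hcp (by
        rw [hA, ht, pow_mul, hMpow _ (hwM b), one_pow])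
      have hwa : ⁅w, a⁆ = 1 := by
        have h1 : orderOf ⁅w, a⁆ ∣ i := by
          rw [orderOf_dvd_iff_pow_eq_one, ← hA a, commutatorElement_self, one_pow]
        have h2 : orderOf ⁅w, a⁆ ∣ p := orderOf_dvd_iff_pow_eq_one.2 (hMpow _ (hwM a))
        rcases (Nat.dvd_prime hp.out).1 h2 with h | h
        · exact orderOf_eq_one_iff.1 h
        · exact absurd (h ▸ h1) hip
      apply hcp
      rw [← commutatorElement_inv b a, inv_pow, hB a, hwa, one_pow, inv_one]
  · -- the derived subgroup is not central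
    obtain ⟨c, hc, hcZ⟩ := SetLike.not_le_iff_exists.1 hcen
    obtain ⟨i, k, hk, hi⟩ := hgen c (hQ'Z1 hc)
    have hwpZ : w ^ p ∈ Subgroup.center Q := by
      refine Subgroup.mem_center_iff.2 fun h => (commutatorElement_eq_one_iff_mul_comm.1 ?_).symm
      rw [comm_pow (hMc (hwM h)), hMpow _ (hwM h)]
    have hip : ¬ p ∣ i := fun ⟨t, ht⟩ => hcZ (by
      rw [hi, ht, pow_mul]
      exact mul_mem (pow_mem hwpZ t) (hMc hk))
    have hwQ' : w ∈ commutator Q := by
      have hwi : w ^ i ∈ commutator Q := by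
        have h := mul_mem hc (inv_mem (hMQ' hk))
        rwa [hi, mul_inv_cancel_right] at h
      obtain ⟨e, he⟩ := IsPGroup.iff_orderOf.1 hQ w
      have hco : Nat.Coprime i (orderOf w) := by
        rw [he]
        exact Nat.Coprime.pow_right _ ((hp.out.coprime_iff_not_dvd.2 hip).symm)
      obtain ⟨t, ht⟩ := exists_pow_eq_self_of_coprime hco
      exact ht ▸ pow_mem hwi t
    have hZ1 : upCenter M = commutator Q := by
      refine le_antisymm (fun x hx => ?_) hQ'Z1
      obtain ⟨j, l, hl, rfl⟩ := hgen x hx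
      exact mul_mem (pow_mem hwQ' j) (hMQ' hl)
    have hQ'comm : ∀ x ∈ commutator Q, ∀ y ∈ commutator Q, x * y = y * x := fun x hx y hy =>
      congrArg Subtype.val
        (IsPGroup.commutative_of_card_eq_prime_sq (G := commutator Q) (p := p) (by rw [hcard2, sq])
          ⟨x, hx⟩ ⟨y, hy⟩)
    set C := Subgroup.centralizer (commutator Q : Set Q) with hC
    haveI : C.Normal := by
      rw [hC]; infer_instance
    have hQ'C : commutator Q ≤ C := fun x hx y hy => hQ'comm y hy x hx
    have hspan : ∀ g : Q, g * c = c * g → g ∈ C := by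
      intro g hg x hx
      obtain ⟨j, l, hl, rfl⟩ := hgen x (hQ'Z1 hx)
      have hgw : Commute g w := by
        refine (commutatorElement_eq_one_iff_mul_comm.1 ?_).symm
        have h1 : orderOf ⁅w, g⁆ ∣ i := by
          rw [orderOf_dvd_iff_pow_eq_one, ← comm_pow (hMc (hwM g)), ← comm_central_left (hMc hk),
            ← hi]
          exact commutatorElement_eq_one_iff_mul_comm.2 hg.symm
        have h2 : orderOf ⁅w, g⁆ ∣ p := orderOf_dvd_iff_pow_eq_one.2 (hMpow _ (hwM g))
        rcases (Nat.dvd_prime hp.out).1 h2 with h | h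
        · exact orderOf_eq_one_iff.1 h
        · exact absurd (h ▸ h1) hip
      exact ((hgw.pow_right j).mul_right (Subgroup.mem_center_iff.1 (hMc hl) g)).eq.symm
    have hCle : C.index ≤ p := by
      rw [Subgroup.index_eq_card, ← hMcard]
      have hcM : ∀ g : Q, ⁅g, c⁆ ∈ M := fun g => by
        rw [← commutatorElement_inv c g]
        exact M.inv_mem (mk_mem_center_iff.1 (hQ'Z1 hc) g)
      refine Nat.card_le_card_of_injective (fun q : Q ⧸ C => (⟨⁅q.out, c⁆, hcM _⟩ : M)) ?_
      intro q q' he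
      rw [← QuotientGroup.out_eq' q, ← QuotientGroup.out_eq' q', QuotientGroup.eq]
      refine hspan _ ?_
      have h1 : q.out * c * q.out⁻¹ = q'.out * c * q'.out⁻¹ := by
        have h := congrArg (fun z : M => (z : Q) * c) he
        simpa [commutatorElement_def, mul_assoc] using h
      calc q.out⁻¹ * q'.out * c = q.out⁻¹ * (q'.out * c * q'.out⁻¹) * q'.out := by group
        _ = q.out⁻¹ * (q.out * c * q.out⁻¹) * q'.out := by rw [h1]
        _ = c * (q.out⁻¹ * q'.out) := by group
    have hCM : ∀ x ∈ C, ∀ y ∈ C, ⁅x, y⁆ ∈ M := by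
      intro x hx y hy
      by_contra hu
      set v := ⁅x, y⁆ with hv
      have hvC : ∀ g : Q, g * v * g⁻¹ = v := by
        intro g
        have hz1 := hmem' g x
        have hz2 := hmem' g y
        have e : g * v * g⁻¹ = ⁅⁅g, x⁆ * x, ⁅g, y⁆ * y⁆ := by
          simp [hv, commutatorElement_def, mul_assoc]
        have hzy : Commute ⁅g, x⁆ y := hy _ hz1
        have hxz : Commute x ⁅g, y⁆ := (hx _ hz2).symm
        have hzz : Commute ⁅g, x⁆ ⁅g, y⁆ := hQ'comm _ hz1 _ hz2
        rw [e, hv]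
        simp only [commutatorElement_def (⁅g, x⁆ * x), commutatorElement_def x y, mul_inv_rev]
        generalize ⁅g, x⁆ = a at hzy hzz hz1 ⊢
        generalize ⁅g, y⁆ = d at hxz hzz hz2 ⊢
        calc a * x * (d * y) * (x⁻¹ * a⁻¹) * (y⁻¹ * d⁻¹)
            = a * (x * d) * y * x⁻¹ * (a⁻¹ * y⁻¹) * d⁻¹ := by group
          _ = a * (d * x) * y * x⁻¹ * (y⁻¹ * a⁻¹) * d⁻¹ := by
              rw [hxz.eq, hzy.inv_inv.eq]
          _ = a * d * (x * y * x⁻¹ * y⁻¹) * a⁻¹ * d⁻¹ := by group
          _ = (x * y * x⁻¹ * y⁻¹) * (a * d) * a⁻¹ * d⁻¹ := by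
              rw [show a * d * (x * y * x⁻¹ * y⁻¹) = (x * y * x⁻¹ * y⁻¹) * (a * d) from
                hQ'comm _ (mul_mem hz1 hz2) _
                  (by rw [← commutatorElement_def]; exact hmem' x y)]
          _ = _ := by
              rw [hzz.eq]
              group
      have hvZ : v ∈ Subgroup.center Q :=
        Subgroup.mem_center_iff.2 fun g => mul_inv_eq_iff_eq_mul.1 (hvC g)
      refine hcen ?_
      have hlt : M < M ⊔ Subgroup.zpowers v := lt_of_le_of_ne le_sup_left fun h =>
        hu (h.symm ▸ Subgroup.mem_sup_right (Subgroup.mem_zpowers v))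
      have hle : M ⊔ Subgroup.zpowers v ≤ commutator Q :=
        sup_le hMQ' (Subgroup.zpowers_le.2 (hmem' x y))
      have heq : M ⊔ Subgroup.zpowers v = commutator Q := by
        refine Subgroup.eq_of_le_of_card_ge hle ?_
        have hd : Nat.card ↥(M ⊔ Subgroup.zpowers v) ∣ p ^ 2 := by
          rw [sq, ← hcard2]
          exact Subgroup.card_dvd_of_le hle
        obtain ⟨k, hk, hk'⟩ := (Nat.dvd_prime_pow hp.out).1 hd
        have hlt' : p ^ 1 < p ^ k := by
          rw [← hk', pow_one, ← hMcard]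
          by_contra hge
          exact hlt.ne (Subgroup.eq_of_le_of_card_ge hlt.le (not_lt.1 hge))
        have := (Nat.pow_lt_pow_iff_right hp.out.one_lt).1 hlt'
        rw [hcard2, hk', show k = 2 by omega, sq]
      rw [← heq]
      exact sup_le hMc (Subgroup.zpowers_le.2 hvZ)
    -- degrees
    obtain ⟨f, hf⟩ : ∃ f, f = charDegree (χ₁ : Q → ℂ) := ⟨_, rfl⟩
    rw [← hf, hZ1] at hsq₁
    have hpd : ∀ χ : IrrCharacter Q, (χ : Q → ℂ) 1 ≠ 1 → p ∣ charDegree (χ : Q → ℂ) := by
      intro χ hχ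
      obtain ⟨e, he⟩ := IsPGroup.iff_card.1 hQ
      obtain ⟨t, -, ht⟩ := (Nat.dvd_prime_pow hp.out).1
        (he ▸ Block.charDegree_dvd_card χ)
      rw [ht]
      refine dvd_pow_self p fun h0 => hχ ?_
      rw [Block.apply_one_eq_charDegree, ht, h0, pow_zero, Nat.cast_one]
    have hfC : f ∣ C.index := by
      have hdiv := Char.degree_dvd_index_of_comm (C.map (QuotientGroup.mk' M))
        (hN := Subgroup.Normal.map inferInstance _ (QuotientGroup.mk'_surjective M))
        (fun x hx y hy => by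
          obtain ⟨x, hxC, rfl⟩ := hx
          obtain ⟨y, hyC, rfl⟩ := hy
          refine commutatorElement_eq_one_iff_mul_comm.1 ?_
          rw [← map_commutatorElement]
          exact (QuotientGroup.eq_one_iff _).2 (hCM x hxC y hyC))
        χb.2 (d := f) (by rw [hf, ← Block.apply_one_eq_charDegree]; rfl)
      rwa [Subgroup.index_map_eq _ (QuotientGroup.mk'_surjective M)
        (by rw [QuotientGroup.ker_mk']; exact hMQ'.trans hQ'C)] at hdiv
    have hfp : f = p ∧ C.index = p := by
      have h1 : p ∣ f := hf ▸ hpd χ₁ hχ₁1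
      have h2 := Nat.le_of_dvd (Nat.pos_of_ne_zero Subgroup.index_ne_zero_of_finite) hfC
      have h3 := Nat.le_of_dvd (hf ▸ Block.charDegree_pos χ₁) h1
      exact ⟨le_antisymm (h2.trans hCle) h3, le_antisymm hCle (h3.trans h2)⟩
    have hrel : (commutator Q).relIndex C = p := by
      have h := Subgroup.relIndex_mul_index hQ'C
      rw [← hsq₁, hfp.2, hfp.1, sq] at h
      exact Nat.eq_of_mul_eq_mul_right hp.out.pos h
    have hCab : ∀ x ∈ C, ∀ y ∈ C, x * y = y * x := by
      intro x hx y hy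
      by_cases hxQ : x ∈ commutator Q
      · exact hy x hxQ
      -- `C` is generated by `x` and the derived subgroup
      have hle : commutator Q ⊔ Subgroup.zpowers x ≤ C := sup_le hQ'C (Subgroup.zpowers_le.2 hx)
      have heq : commutator Q ⊔ Subgroup.zpowers x = C := by
        refine le_antisymm hle ?_
        rw [← Subgroup.relIndex_eq_one]
        have h := Subgroup.relIndex_mul_relIndex (commutator Q) (commutator Q ⊔ Subgroup.zpowers x) C
          le_sup_left hle
        rw [hrel] at h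
        rcases (Nat.dvd_prime hp.out).1 ⟨_, h.symm⟩ with h' | h'
        · exact absurd (Subgroup.relIndex_eq_one.1 h'
            (Subgroup.mem_sup_right (Subgroup.mem_zpowers x))) hxQ
        · rw [h'] at h
          exact (Nat.mul_eq_left hp.out.ne_zero).1 h
      have hcz : commutator Q ⊔ Subgroup.zpowers x ≤ Subgroup.centralizer ({x} : Set Q) :=
        sup_le (fun z hz => Subgroup.mem_centralizer_singleton_iff.2 (hx z hz))
          (Subgroup.zpowers_le.2 (Subgroup.mem_centralizer_singleton_iff.2 rfl))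
      rw [heq] at hcz
      exact (Subgroup.mem_centralizer_singleton_iff.1 (hcz hy)).symm
    obtain ⟨χ, hχ⟩ := exists_irr_ne (Q := Q) (x := (m : Q)) (fun h => by
      have := hMcard
      rw [hMdef, h, Subgroup.zpowers_one_eq_bot, Subgroup.card_bot] at this
      exact hp.out.one_lt.ne this)
    refine hχ (hno χ ?_ _ (Subgroup.mem_zpowers _))
    have hnl : (χ : Q → ℂ) 1 ≠ 1 := fun h1 => hχ (by
      obtain ⟨φ, hφ⟩ := Char.exists_hom_of_degree_one χ.2.isCharacter h1
      rw [hφ]
      simp [linear_trivial φ m.2.1])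
    have hd := Char.degree_dvd_index_of_comm C hCab χ.2 (Block.apply_one_eq_charDegree χ)
    rw [hfp.2] at hd
    have hdeg : charDegree (χ : Q → ℂ) = p := Nat.dvd_antisymm hd (hpd χ hnl)
    rw [Block.apply_one_eq_charDegree, Block.apply_one_eq_charDegree, hdeg, ← hf, hfp.1]

/-- With cyclic centre and derived subgroup of order `p` nonlinear characters are conjugate. -/
theorem exists_galois (hQ : IsPGroup p Q) (hcyc : IsCyclic (Subgroup.center Q))
    (hQ' : Nat.card (commutator Q) = p) (χ ψ : IrrCharacter Q) (h1 : (χ : Q → ℂ) 1 ≠ 1)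
    (h2 : (χ : Q → ℂ) 1 = (ψ : Q → ℂ) 1) :
    ∃ k : ℕ, Nat.Coprime k (Nat.card Q) ∧ ∀ g : Q, (ψ : Q → ℂ) g = (χ : Q → ℂ) (g ^ k) := by
  classical
  obtain ⟨⟨z, hz⟩, hgen⟩ := hcyc.exists_generator
  have hord : ∀ x ∈ Subgroup.center Q, ∃ i : ℕ, z ^ i = x := fun x hx => by
    obtain ⟨i, hi⟩ := mem_powers_iff_mem_zpowers.2 (hgen ⟨x, hx⟩)
    exact ⟨i, congrArg Subtype.val hi⟩
  have hQ'Z := le_center_of_card_prime hQ hQ'
  have hscal : ∀ θ : IrrCharacter Q, (θ : Q → ℂ) 1 ≠ 1 → ∃ c : ℂ, IsPrimitiveRoot c (orderOf z) ∧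
      ∀ i : ℕ, (θ : Q → ℂ) (z ^ i) = c ^ i * (θ : Q → ℂ) 1 := by
    intro θ hθ
    obtain ⟨c, hc, hcg⟩ := Block.exists_central_scalar θ hz
    have hpow : ∀ i : ℕ, (θ : Q → ℂ) (z ^ i) = c ^ i * (θ : Q → ℂ) 1 := by
      intro i
      induction i with
      | zero => simp
      | succ i ih => rw [pow_succ', hcg, ih, pow_succ', mul_assoc]
    refine ⟨c, ⟨hc, fun l hl => ?_⟩, hpow⟩
    by_contra hnd
    have hzl : z ^ l ≠ 1 := fun e => hnd (orderOf_dvd_iff_pow_eq_one.2 e)
    have hlker : z ^ l ∈ Char.charKer θ.2.isCharacter := by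
      rw [Char.mem_charKer, hpow, hl, one_mul]
    refine hθ (linear_of_kernel θ fun x hx => ?_)
    -- the subgroup of order `p` lies in every nontrivial subgroup of the cyclic centre
    have hzl' : Subgroup.zpowers (z ^ l) ≤ Subgroup.center Q :=
      Subgroup.zpowers_le.2 (pow_mem hz l)
    obtain ⟨e, he⟩ := IsPGroup.iff_orderOf.1 hQ (z ^ l)
    have he0 : e ≠ 0 := fun h => hzl (orderOf_eq_one_iff.1 (by rw [he, h, pow_zero]))
    set y := (z ^ l) ^ p ^ (e - 1) with hy
    have hyord : orderOf y = p := by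
      rw [hy, orderOf_pow' _ (pow_ne_zero _ hp.out.ne_zero), he,
        Nat.gcd_eq_right (pow_dvd_pow p (Nat.sub_le e 1)),
        Nat.pow_div (Nat.sub_le e 1) hp.out.pos, show e - (e - 1) = 1 by omega, pow_one]
    have hsame : Subgroup.zpowers y = commutator Q := by
      haveI := hcyc
      have key := IsCyclic.card_pow_eq_one_le (α := Subgroup.center Q) hp.out.pos
      set s := Finset.univ.filter fun a : Subgroup.center Q => a ^ p = 1 with hs
      have hyc : y ∈ Subgroup.center Q := pow_mem (pow_mem hz l) _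
      have hpw : ∀ x : Q, x ∈ Subgroup.zpowers y ∨ x ∈ commutator Q → x ^ p = 1 := by
        rintro x (hx | hx)
        · exact orderOf_dvd_iff_pow_eq_one.1
            (hyord ▸ (Nat.card_zpowers y ▸ Subgroup.orderOf_dvd_natCard _ hx))
        · exact orderOf_dvd_iff_pow_eq_one.1 (hQ' ▸ Subgroup.orderOf_dvd_natCard _ hx)
      by_contra hne
      obtain ⟨x, hx, hxy⟩ : ∃ x ∈ commutator Q, x ∉ Subgroup.zpowers y := by
        by_contra h
        push_neg at h
        exact hne (Subgroup.eq_of_le_of_card_ge h (by rw [Nat.card_zpowers, hyord, hQ'])).symm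
      set S := (Finset.univ.filter fun a : Subgroup.center Q => (a : Q) ∈ Subgroup.zpowers y)
      have hScard : S.card = p := by
        rw [← Fintype.card_subtype, ← Nat.card_eq_fintype_card]
        calc Nat.card {a : Subgroup.center Q // (a : Q) ∈ Subgroup.zpowers y}
            = Nat.card (Subgroup.zpowers y) := Nat.card_congr
              { toFun := fun a => ⟨a.1.1, a.2⟩
                invFun := fun a => ⟨⟨a.1, Subgroup.zpowers_le.2 hyc a.2⟩, a.2⟩
                left_inv := fun _ => rfl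
                right_inv := fun _ => rfl }
          _ = p := by rw [Nat.card_zpowers, hyord]
      have hsub : insert ⟨x, hQ'Z hx⟩ S ⊆ s := by
        intro a ha
        refine Finset.mem_filter.2 ⟨Finset.mem_univ _, Subtype.ext ?_⟩
        rcases Finset.mem_insert.1 ha with rfl | ha
        · exact hpw x (Or.inr hx)
        · exact hpw _ (Or.inl (Finset.mem_filter.1 ha).2)
      have := (Finset.card_le_card hsub).trans key
      have hnot : (⟨x, hQ'Z hx⟩ : Subgroup.center Q) ∉ S := fun h => hxy (Finset.mem_filter.1 h).2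
      rw [Finset.card_insert_of_notMem hnot, hScard] at this
      omega
    have : x ∈ Char.charKer θ.2.isCharacter := by
      rw [← hsame] at hx
      exact (Subgroup.zpowers_le.2 (pow_mem hlker _)) hx
    exact this
  obtain ⟨c, hc, hcp⟩ := hscal χ h1
  obtain ⟨d, hd, hdp⟩ := hscal ψ (h2 ▸ h1)
  haveI : NeZero (orderOf z) := ⟨(orderOf_pos z).ne'⟩
  obtain ⟨k, hk, hkd⟩ := hc.eq_pow_of_pow_eq_one hd.pow_eq_one
  have hkco : Nat.Coprime k (orderOf z) := (hc.pow_iff_coprime (orderOf_pos z) k).1 (hkd ▸ hd)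
  obtain ⟨e, he⟩ := IsPGroup.iff_card.1 hQ
  have hz1 : z ≠ 1 := by
    intro h
    have hbot : commutator Q = ⊥ := by
      rw [eq_bot_iff]
      intro x hx
      obtain ⟨i, hi⟩ := hord x (hQ'Z hx)
      rw [Subgroup.mem_bot, ← hi, h, one_pow]
    rw [hbot, Subgroup.card_bot] at hQ'
    exact hp.out.one_lt.ne hQ'
  have hpk : Nat.Coprime k p := by
    refine Nat.Coprime.coprime_dvd_right ?_ hkco
    obtain ⟨t, ht⟩ := IsPGroup.iff_orderOf.1 hQ z
    rw [ht]
    exact dvd_pow_self p fun h0 => hz1 (orderOf_eq_one_iff.1 (by rw [ht, h0, pow_zero]))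
  have hkQ : Nat.Coprime k (Nat.card Q) := he ▸ Nat.Coprime.pow_right e hpk
  refine ⟨k, hkQ, fun g => ?_⟩
  by_cases hg : g ∈ Subgroup.center Q
  · obtain ⟨i, rfl⟩ := hord g hg
    rw [← pow_mul, hcp, hdp, h2, ← hkd, ← pow_mul, mul_comm k i]
  · have hgk : g ^ k ∉ Subgroup.center Q := fun h => hg (by
      obtain ⟨t, ht⟩ := exists_pow_eq_self_of_coprime
        (hkQ.coprime_dvd_right (orderOf_dvd_natCard g))
      exact ht ▸ pow_mem h t)
    rw [vanish_off_center hQ hQ' (h2 ▸ h1) hg, vanish_off_center hQ hQ' h1 hgk]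

end Cfsg.Lib.PGaloisDeg
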