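import Cfsg.Agent.Lib.Block.PIndexPairs

/-!
# Nilpotent blocks over a normal subgroup of `p`-power index
-/

set_option autoImplicit false
set_option linter.unusedSectionVars false
set_option maxHeartbeats 800000

namespace Cfsg.Lib.Block

open Cfsg
open scoped ComplexConjugate

universe u

noncomputable local instance (priority := high) fintypeSubgroupPIndexNilpotent {A : Type u}
    [Group A] [Fintype A] (H : Subgroup A) : Fintype H := Fintype.ofFinite H

local notation "C[" Q "]" => Subgroup.centralizer (SetLike.coe Q)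

variable {p : ℕ} {M : Ideal AlgInt} {G : Type u} [Group G] [Fintype G] [Fact p.Prime]

/-- The centralizer inside a subgroup, seen in the whole group. -/
noncomputable def centralizerInEquiv {N R : Subgroup G} {Q : Subgroup N} (hR : R = Q.map N.subtype) :
    C[Q] ≃* ↥(C[R] ⊓ N) where
  toFun y := ⟨((y : N) : G), Subgroup.mem_centralizer_iff.2 (by
    intro r hr
    rw [hR] at hr
    obtain ⟨q, hq, rfl⟩ := hr
    exact congrArg Subtype.val (Subgroup.mem_centralizer_iff.1 y.2 q hq)), (y : N).2⟩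
  invFun z := ⟨⟨(z : G), z.2.2⟩, Subgroup.mem_centralizer_iff.2 fun q hq =>
    Subtype.ext (Subgroup.mem_centralizer_iff.1 z.2.1 (q : G) (hR ▸ ⟨q, hq, rfl⟩))⟩
  left_inv _ := rfl
  right_inv _ := rfl
  map_mul' _ _ := rfl

variable (hM : IsPModular p M) {N : Subgroup G} [N.Normal] (hN : ∃ k : ℕ, N.index = p ^ k)
  {c : Set (IrrCharacter N)} {B : Set (IrrCharacter G)} (hc : IsPBlock M c) (hB : IsPBlock M B)
  (hBc : ∀ g : G, blockCoeff B g = subgroupBlockCoeff N c g)

section Pairs

variable {R : Subgroup G} {Q : Subgroup N} (hR : R = Q.map N.subtype)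

include hBc in
theorem brU_compIrr (η : IrrCharacter ↥(C[R] ⊓ N)) :
    brU Q c (compIrr (centralizerInEquiv hR) η) = trV (C[R] ⊓ N) C[R] (brU R B) η := by
  classical
  rw [show brU Q c = vec (zc (brU Q c)) from (vec_zc _).symm, trV]
  simp only [vec, compIrr_apply, map_one]
  refine congrArg (· / (η : ↥(C[R] ⊓ N) → ℂ) 1) ?_
  refine Fintype.sum_equiv (centralizerInEquiv hR).toEquiv _ _ fun y => ?_
  congr 1
  rw [brU, zc_brVec (Subgroup.centralizer_le_normalizer _), brF_of_mem y.2, zc_indVec, extF_brU]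
  simp only [MulEquiv.toEquiv_eq_coe, MulEquiv.coe_toEquiv]
  have h : (((centralizerInEquiv hR) y : ↥(C[R] ⊓ N)) : G) ∈ C[R] := ((centralizerInEquiv hR) y).2.1
  rw [if_pos h, hBc]
  show _ = subgroupBlockCoeff N c ((y : N) : G)
  rw [subgroupBlockCoeff, dif_pos (y : N).2]

include hM hN hB in
/-- The value of the idempotent of the block below a block of the bigger centralizer. -/
theorem res_trV_brU {f : Set (IrrCharacter C[R])} (hf : IsPBlock M f) (hRp : IsPGroup p R)
    {ξ : IrrCharacter C[R]} (hξ : ξ ∈ f) {η : IrrCharacter ↥(C[R] ⊓ N)}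
    (hη : η ∈ underSet (C[R] ⊓ N) f) :
    res hM (trV (C[R] ⊓ N) C[R] (brU R B) η) = res hM (brU R B ξ) := by
  classical
  have hDK : C[R] ⊓ N ≤ C[R] := inf_le_left
  have hKN : ∀ g ∈ C[R], g ∈ N → g ∈ C[R] ⊓ N := fun g h h' => ⟨h, h'⟩
  have hv := vInt_brU hM R hB
  have hI := vInt_indVec hM hf
  have hs := vSmall_mul_indVec hM hv (vSmall_brU_idem hM hRp hB) hf hξ
  have hw : VInt hM (if res hM (brU R B ξ) = 1 then indVec f else (0 : IrrCharacter C[R] → ℂ)) := by
    split_ifs
    · exact hI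
    · exact vInt_zero hM
  have h2 := res_eq_of_vSmall_sub hM (vInt_trV hM hDK (vInt_mul hM hv hI)) (vInt_trV hM hDK hw)
    (by rw [← trV_sub]; exact vSmall_trV hDK hs) η
  have h1 : trV (C[R] ⊓ N) C[R] (indVec f) η = 1 := hη
  rw [trV_mul_of_supported hDK fun g hg => extF_indVec_eq_zero hM hN hKN hf hg, Pi.mul_apply, h1,
    mul_one] at h2
  rw [h2]
  split_ifs with hone
  · rw [h1, res_one, hone]
  · rw [trV_zero hDK, Pi.zero_apply, res_zero,
      (res_idem_eq hM hv (vSmall_brU_idem hM hRp hB) ξ).resolve_right hone]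

include hR in
theorem isPGroup_map_iff : IsPGroup p R ↔ IsPGroup p Q := by
  subst hR
  exact ⟨fun h => h.of_injective ((N.subtype.comp Q.subtype).codRestrict _ fun q => ⟨q, q.2, rfl⟩)
    fun a b hab => by
      have h' := congrArg Subtype.val hab
      exact Subtype.ext (Subtype.ext h'), fun h => h.map _⟩

theorem extF_indVec_pullSet (e : Set (IrrCharacter C[Q])) (n : N) :
    subgroupBlockCoeff (C[R] ⊓ N) (pullSet (centralizerInEquiv hR).symm e) (n : G) =
      subgroupBlockCoeff C[Q] e n := by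
  classical
  by_cases h : n ∈ C[Q]
  · have h' : (n : G) ∈ C[R] ⊓ N := ((centralizerInEquiv hR) ⟨n, h⟩).2
    rw [subgroupBlockCoeff, dif_pos h', subgroupBlockCoeff, dif_pos h, blockCoeff_pullSet]
    rfl
  · have h' : (n : G) ∉ C[R] ⊓ N := fun h' => h ((centralizerInEquiv hR).symm ⟨_, h'⟩).2
    rw [subgroupBlockCoeff, dif_neg h', subgroupBlockCoeff, dif_neg h]

include hR in
theorem mem_normalizer_map_iff {x : N} :
    (x : G) ∈ Subgroup.normalizer (R : Set G) ↔ x ∈ Subgroup.normalizer (Q : Set N) := by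
  subst hR
  simp only [Subgroup.mem_normalizer_iff]
  constructor
  · intro h n
    have := h (n : G)
    rw [show (x : G) * n * (x : G)⁻¹ = N.subtype (x * n * x⁻¹) from rfl,
      show (n : G) = N.subtype n from rfl, Subgroup.mem_map_iff_mem N.subtype_injective,
      Subgroup.mem_map_iff_mem N.subtype_injective] at this
    exact this
  · intro h g
    constructor
    · rintro ⟨n, hn, rfl⟩
      exact ⟨x * n * x⁻¹, (h n).1 hn, rfl⟩
    · rintro ⟨n, hn, he⟩
      refine ⟨x⁻¹ * n * x, (h _).2 (by simpa [mul_assoc] using hn), ?_⟩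
      have he' : (n : G) = (x : G) * g * (x : G)⁻¹ := he
      show (x : G)⁻¹ * n * x = g
      rw [he']
      group

end Pairs

include hM hN hc hB hBc in
/-- Nilpotency passes from the subgroup to the group and back. -/
theorem nilpotent_iff_of_pIndex : IsNilpotentBlock p M c ↔ IsNilpotentBlock p M B := by
  classical
  have hnormD : ∀ (R : Subgroup G), ∀ x ∈ C[R],
      x ∈ Subgroup.normalizer ((C[R] ⊓ N : Subgroup G) : Set G) := fun R x hx =>
    Subgroup.mem_normalizer_iff.2 fun g => and_congr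
      (Subgroup.mem_normalizer_iff.1 (Subgroup.le_normalizer hx) g)
      (Subgroup.mem_normalizer_iff.1 (Subgroup.normalizer_eq_top (H := N) ▸ Subgroup.mem_top x) g)
  have hxD : ∀ (R : Subgroup G) (x : G), x ∈ Subgroup.normalizer (R : Set G) →
      x ∈ Subgroup.normalizer ((C[R] ⊓ N : Subgroup G) : Set G) := fun R x hx =>
    Subgroup.mem_normalizer_iff.2 fun g => and_congr (centralizer_conj_mem_iff hx).symm
      (Subgroup.mem_normalizer_iff.1 (Subgroup.normalizer_eq_top (H := N) ▸ Subgroup.mem_top x) g)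
  constructor
  · intro hnil
    refine ⟨hB, fun Q f hQf x hxQ hfx hxr => ?_⟩
    have hxN : x ∈ N := mem_of_pRegular_of_index hN hxr
    set R : Subgroup G := Q ⊓ N with hRdef
    have hRQ : R ≤ Q := inf_le_left
    have hxR : x ∈ Subgroup.normalizer (R : Set G) := Subgroup.mem_normalizer_iff.2 fun g =>
      and_congr (Subgroup.mem_normalizer_iff.1 hxQ g)
        (Subgroup.mem_normalizer_iff.1 (Subgroup.le_normalizer hxN) g)
    have hQR : Q ≤ Subgroup.normalizer (R : Set G) := fun q hq =>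
      Subgroup.mem_normalizer_iff.2 fun g => and_congr
        (Subgroup.mem_normalizer_iff.1 (Subgroup.le_normalizer hq) g)
        (Subgroup.mem_normalizer_iff.1 (Subgroup.normalizer_eq_top (H := N) ▸ Subgroup.mem_top q) g)
    -- the pair at `Q ⊓ N`
    obtain ⟨g₀, hg₀, hle⟩ := exists_subpair hM hQf.1 hRQ
    have hRp : IsPGroup p R := hQf.1.1.to_le hRQ
    have hfix : conjIdx x ⟨R, g₀⟩ = ⟨R, g₀⟩ := by
      have h := rel_conjIdx hM x (a := ⟨R, g₀⟩) (b := ⟨Q, f⟩) hle
      rw [(conjIdx_eq_self_iff f x).2 ⟨hxQ, hfx⟩, conjIdx_eq (map_conj_eq_self hxR)] at h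
      rw [conjIdx_eq (map_conj_eq_self hxR)]
      exact Sigma.ext rfl (heq_of_eq (subpair_unique hM hQf.1 h hle))
    have hgx := ((conjIdx_eq_self_iff g₀ x).1 hfix).2
    have hgB : IsBrauerPairOf p M B R g₀ := (isBrauerPairOf_iff_of_le hM hle B).1 hQf
    have hDK : C[R] ⊓ N ≤ C[R] := inf_le_left
    have hKN : ∀ g ∈ C[R], g ∈ N → g ∈ C[R] ⊓ N := fun g h h' => ⟨h, h'⟩
    obtain ⟨η, hη⟩ := underSet_nonempty hM hN hDK hKN hg₀
    set e := blockOf M (η : ↥(C[R] ⊓ N) → ℂ) with he
    have hesub : e ⊆ underSet (C[R] ⊓ N) g₀ :=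
      (trV_indVec_eq hM hN hDK hKN hg₀).2 η hη
    have hex := invOn_under_of_fix hM hN hDK hKN (hnormD R) (mem_normalizer_centralizer hxR)
      (hxD R x hxR) hxN hxr hg₀ hgx (isPBlock_blockOf η) hesub
    set Q' : Subgroup N := R.subgroupOf N with hQ'
    have hR : R = Q'.map N.subtype := (Subgroup.map_subgroupOf_eq_of_le inf_le_right).symm
    set e' := pullSet (centralizerInEquiv hR) e with he'
    have hpull : pullSet (centralizerInEquiv hR).symm e' = e := pullSet_symm _ _
    have hpair : IsBrauerPairOf p M c Q' e' := by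
      rw [isBrauerPairOf_iff_brU hM]
      refine ⟨⟨(isPGroup_map_iff hR).1 hRp, isPBlock_pullSet _ (isPBlock_blockOf η)⟩, hc,
        fun ξ hξ => ?_⟩
      have hξ' : compIrr (centralizerInEquiv hR).symm ξ ∈ e := hξ
      rw [← compIrr_compIrr_symm (centralizerInEquiv hR) ξ, brU_compIrr hBc hR]
      obtain ⟨ζ, hζ⟩ := nonempty_of_isPBlock hM hg₀
      rw [res_trV_brU hM hN hB hg₀ hRp hζ (hesub hξ')]
      exact ((isBrauerPairOf_iff_brU hM B R g₀).1 hgB).2.2 ζ hζ
    have hxQ' : (⟨x, hxN⟩ : N) ∈ Subgroup.normalizer (Q' : Set N) :=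
      (mem_normalizer_map_iff hR).1 hxR
    have hst : StabilizesBlock C[Q'] e' (⟨x, hxN⟩ : N) := by
      rw [stabilizesBlock_iff_coeff (mem_normalizer_centralizer hxQ')]
      intro n
      rw [← extF_indVec_pullSet hR e', ← extF_indVec_pullSet hR e', hpull]
      exact (stabilizesBlock_iff_coeff (hxD R x hxR)).1 hex (n : G)
    have hxC := hnil.2 Q' e' hpair ⟨x, hxN⟩ hxQ' hst
      (by rwa [IsPRegular, Subgroup.orderOf_mk])
    -- coprime action
    refine Subgroup.mem_centralizer_iff.2 fun q hq => ?_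
    set r : G := q⁻¹ * (x * q * x⁻¹) with hr
    have hrR : r ∈ R := by
      refine ⟨Q.mul_mem (Q.inv_mem hq) ((Subgroup.mem_normalizer_iff.1 hxQ q).1 hq), ?_⟩
      show r ∈ N
      rw [hr, show q⁻¹ * (x * q * x⁻¹) = (q⁻¹ * x * q) * x⁻¹ by group]
      refine mul_mem ?_ (inv_mem hxN)
      have := Subgroup.Normal.conj_mem ‹N.Normal› x hxN q⁻¹
      rwa [inv_inv] at this
    have hxr' : x * r * x⁻¹ = r := by
      have h := Subgroup.mem_centralizer_iff.1 hxC ⟨r, hrR.2⟩ (show _ ∈ Q' from hrR)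
      have h' : r * x = x * r := congrArg Subtype.val h
      rw [← h', mul_inv_cancel_right]
    have hpow : ∀ n : ℕ, x ^ n * q * (x ^ n)⁻¹ = q * r ^ n := fun n => by
      induction n with
      | zero => simp
      | succ n ih =>
        calc x ^ (n + 1) * q * (x ^ (n + 1))⁻¹ = x * (x ^ n * q * (x ^ n)⁻¹) * x⁻¹ := by
              rw [pow_succ']; group
          _ = x * q * x⁻¹ * (x * r ^ n * x⁻¹) := by rw [ih]; group
          _ = q * r * r ^ n := by rw [← conj_pow, hxr', hr]; group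
          _ = q * r ^ (n + 1) := by rw [pow_succ', mul_assoc]
    have hr1 : r = 1 := by
      have h := hpow (orderOf x)
      rw [pow_orderOf_eq_one, one_mul, inv_one, mul_one, left_eq_mul] at h
      obtain ⟨a, ha⟩ := IsPGroup.iff_orderOf.1 hRp ⟨r, hrR⟩
      rw [Subgroup.orderOf_mk] at ha
      refine orderOf_eq_one_iff.1 (Nat.eq_one_of_dvd_coprimes
        (((Fact.out : p.Prime).coprime_iff_not_dvd.2 hxr).pow_left a) ?_ (orderOf_dvd_of_pow_eq_one h))
      rw [ha]
    rw [hr, inv_mul_eq_one] at hr1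
    exact eq_mul_inv_iff_mul_eq.1 hr1
  · intro hnil
    refine ⟨hc, fun Q e hQe x hxQ hex hxr => ?_⟩
    obtain ⟨R, hR⟩ : ∃ R : Subgroup G, R = Q.map N.subtype := ⟨_, rfl⟩
    have hDK : C[R] ⊓ N ≤ C[R] := inf_le_left
    have hKN : ∀ g ∈ C[R], g ∈ N → g ∈ C[R] ⊓ N := fun g h h' => ⟨h, h'⟩
    have hRp : IsPGroup p R := (isPGroup_map_iff hR).2 hQe.1.1
    obtain ⟨ξ₀, hξ₀⟩ := nonempty_of_isPBlock hM hQe.1.2
    set η := compIrr (centralizerInEquiv hR).symm ξ₀ with hη
    obtain ⟨f, ⟨hf, hηf⟩, huniq⟩ := existsUnique_over_block hM hN hDK hKN η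
    have hxR : (x : G) ∈ Subgroup.normalizer (R : Set G) := (mem_normalizer_map_iff hR).2 hxQ
    have hxK := mem_normalizer_centralizer hxR
    set e'' := pullSet (centralizerInEquiv hR).symm e with he''
    have he''b : IsPBlock M e'' := isPBlock_pullSet _ hQe.1.2
    have hηe : η ∈ e'' := mem_pullSet.2 hξ₀
    have hesub : e'' ⊆ underSet (C[R] ⊓ N) f := by
      rw [eq_blockOf_of_mem hM he''b hηe]
      exact (trV_indVec_eq hM hN hDK hKN hf).2 η hηf
    -- the pair above
    have hpair : IsBrauerPairOf p M B R f := by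
      rw [isBrauerPairOf_iff_brU hM]
      refine ⟨⟨hRp, hf⟩, hB, fun ζ hζ => ?_⟩
      rw [← res_trV_brU hM hN hB hf hRp hζ hηf, ← brU_compIrr hBc hR]
      refine ((isBrauerPairOf_iff_brU hM c Q e).1 hQe).2.2 _ ?_
      have : compIrr (centralizerInEquiv hR) η = ξ₀ := by
        rw [hη]; exact compIrr_compIrr_symm _ _
      rw [this]
      exact hξ₀
    -- its stability
    have hxe : ∀ g, subgroupBlockCoeff (C[R] ⊓ N) e'' ((x : G) * g * (x : G)⁻¹) =
        subgroupBlockCoeff (C[R] ⊓ N) e'' g := fun g => by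
      by_cases hg : g ∈ N
      · obtain ⟨g, rfl⟩ : ∃ n : N, (n : G) = g := ⟨⟨g, hg⟩, rfl⟩
        rw [show (x : G) * (g : G) * (x : G)⁻¹ = ((x * g * x⁻¹ : N) : G) from rfl,
          extF_indVec_pullSet hR e, extF_indVec_pullSet hR e]
        exact (stabilizesBlock_iff_coeff (mem_normalizer_centralizer hxQ)).1 hex _
      · rw [subgroupBlockCoeff, dif_neg fun h => hg ?_, subgroupBlockCoeff, dif_neg fun h => hg h.2]
        have h' := Subgroup.Normal.conj_mem ‹N.Normal› _ h.2 (x : G)⁻¹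
        simpa [mul_assoc] using h'
    have hstf : StabilizesBlock C[R] f (x : G) := by
      set cm := conjMaps_normalizer hxK with hcm
      set cd := conjMaps_normalizer (hxD R x hxR) with hcd
      rw [stabilizesBlock_iff hxK]
      refine huniq _ ⟨isPBlock_conjSet cm hf, ?_⟩
      have hset : conjSet cd e'' = e'' :=
        (stabilizesBlock_iff (hxD R x hxR)).1 ((stabilizesBlock_iff_coeff (hxD R x hxR)).2 hxe)
      have hcs : underSet (C[R] ⊓ N) (conjSet cm f) = conjSet cd (underSet (C[R] ⊓ N) f) := by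
        refine eq_of_subgroupBlockCoeff_eq fun g => ?_
        obtain ⟨k, rfl⟩ : ∃ k, (x : G) * k * (x : G)⁻¹ = g := ⟨(x : G)⁻¹ * g * x, by group⟩
        rw [subgroupBlockCoeff_conjSet, ← extF_indVec, ← extF_indVec,
          ← (trV_indVec_eq hM hN hDK hKN hf).1,
          ← (trV_indVec_eq hM hN hDK hKN (isPBlock_conjSet cm hf)).1,
          extF_trV_indVec hM hN hDK hKN hf,
          extF_trV_indVec hM hN hDK hKN (isPBlock_conjSet cm hf), extF_indVec, extF_indVec,
          subgroupBlockCoeff_conjSet]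
      rw [hcs]
      exact (show conjSet cd e'' ⊆ conjSet cd (underSet (C[R] ⊓ N) f) from fun a ha => hesub ha)
        (hset.symm ▸ hηe)
    have hxC := hnil.2 R f hpair (x : G) hxR hstf (by rwa [IsPRegular, Subgroup.orderOf_coe])
    exact Subgroup.mem_centralizer_iff.2 fun q hq =>
      Subtype.ext (Subgroup.mem_centralizer_iff.1 hxC (q : G) (hR ▸ ⟨q, hq, rfl⟩))

end Cfsg.Lib.Block
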