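import Cfsg.Agent.Lib.Block.StabBlock
import Cfsg.Agent.Lib.Block.NilpotentPairs

/-!
# Brauer pairs over a normal subgroup of `p`-power index

Block idempotents of a group live on the `p`-regular elements, hence inside every normal
subgroup of `p`-power index: the blocks of the group are the orbit sums of those of the subgroup.
-/

set_option autoImplicit false
set_option linter.unusedSectionVars false
set_option maxHeartbeats 800000

namespace Cfsg.Lib.Block

open Cfsg
open scoped ComplexConjugate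

universe u

noncomputable local instance (priority := high) fintypeSubgroupPIndexPairs {A : Type u} [Group A]
    [Fintype A] (H : Subgroup A) : Fintype H := Fintype.ofFinite H

local notation "C[" Q "]" => Subgroup.centralizer (SetLike.coe Q)

variable {p : ℕ} {M : Ideal AlgInt} {G : Type u} [Group G] [Fintype G] [Fact p.Prime]

theorem mem_of_pRegular_of_index {N : Subgroup G} [N.Normal] (hN : ∃ k : ℕ, N.index = p ^ k)
    {g : G} (hg : IsPRegular p g) : g ∈ N := by
  obtain ⟨k, hk⟩ := hN
  have h1 : g ^ p ^ k ∈ N := hk ▸ Subgroup.pow_index_mem N g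
  have hcop : (p ^ k).Coprime (orderOf g) :=
    ((Fact.out : p.Prime).coprime_iff_not_dvd.2 hg).pow_left k
  obtain ⟨j, hj⟩ := exists_pow_eq_self_of_coprime (x := g) hcop
  rw [← hj]
  exact pow_mem h1 j

variable (hM : IsPModular p M) {N : Subgroup G} [N.Normal] (hN : ∃ k : ℕ, N.index = p ^ k)
  {K D : Subgroup G} (hDK : D ≤ K) (hKN : ∀ g ∈ K, g ∈ N → g ∈ D)

include hM hN hKN in
theorem extF_indVec_eq_zero {f : Set (IrrCharacter K)} (hf : IsPBlock M f) {g : G} (hg : g ∉ D) :
    extF K (indVec f) g = 0 := by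
  by_cases hK : g ∈ K
  · rw [extF_of_mem _ hK, zc_indVec]
    refine blockCoeff_eq_zero_of_dvd hM (vInt_indVec hM hf) ?_
    by_contra h
    refine hg (hKN g hK (mem_of_pRegular_of_index hN ?_))
    rwa [IsPRegular, ← Subgroup.orderOf_mk g hK]
  · exact extF_of_notMem _ hK

include hM hN hDK hKN in
theorem extF_trV_indVec {f : Set (IrrCharacter K)} (hf : IsPBlock M f) (g : G) :
    extF D (trV D K (indVec f)) g = extF K (indVec f) g := by
  by_cases h : g ∈ D
  · exact extF_trV_of_mem hDK _ h
  · rw [extF_of_notMem _ h, extF_indVec_eq_zero hM hN hKN hf h]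

include hDK in
/-- Truncation is multiplicative on elements supported inside the subgroup. -/
theorem trV_mul_of_supported {v w : IrrCharacter K → ℂ}
    (hw : ∀ g ∉ D, extF K w g = 0) : trV D K (v * w) = trV D K v * trV D K w := by
  refine eq_of_extF_eq fun g => ?_
  by_cases hg : g ∈ D
  · rw [extF_trV_of_mem hDK _ hg, extF_mul, extF_mul]
    refine Finset.sum_congr rfl fun x _ => ?_
    by_cases hx : x ∈ D
    · rw [extF_trV_of_mem hDK _ hx, extF_trV_of_mem hDK _ (mul_mem (inv_mem hx) hg)]
    · rw [extF_of_notMem (trV D K v) hx, zero_mul,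
        hw _ fun h => hx (by simpa using mul_mem hg (inv_mem h)), mul_zero]
  · rw [extF_of_notMem _ hg, extF_of_notMem _ hg]

/-- The characters of the subgroup under a block. -/
def underSet (D : Subgroup G) [Fintype D] (f : Set (IrrCharacter K)) : Set (IrrCharacter D) :=
  {η | trV D K (indVec f) η = 1}

include hM hN hDK hKN in
theorem trV_indVec_eq {f : Set (IrrCharacter K)} (hf : IsPBlock M f) :
    trV D K (indVec f) = indVec (underSet D f) ∧
      ∀ η ∈ underSet D f, blockOf M (η : D → ℂ) ⊆ underSet D f := by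
  have h : trV D K (indVec f) * trV D K (indVec f) = trV D K (indVec f) := by
    rw [← trV_mul_of_supported hDK fun g hg => extF_indVec_eq_zero hM hN hKN hf hg,
      indVec_mul_indVec, Set.inter_self]
  exact ⟨exists_eq_indVec h, closed_of_vInt hM (vInt_trV hM hDK (vInt_indVec hM hf)) h⟩

include hM hN hDK hKN in
open Classical in
/-- Every character of the subgroup is under exactly one block. -/
theorem existsUnique_over_block (η : IrrCharacter D) :
    ∃! f : Set (IrrCharacter K), IsPBlock M f ∧ η ∈ underSet D f := by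
  haveI := Fintype.ofFinite {f : Set (IrrCharacter K) // IsPBlock M f}
  have h1 : ∑ f : {f : Set (IrrCharacter K) // IsPBlock M f}, trV D K (indVec f.1) η = 1 := by
    rw [← Finset.sum_apply, ← trV_sum hDK, sum_indVec_blocks hM, trV_one hDK]
    rfl
  have hval : ∀ f : {f : Set (IrrCharacter K) // IsPBlock M f},
      trV D K (indVec f.1) η = if η ∈ underSet D f.1 then 1 else 0 := fun f => by
    rw [(trV_indVec_eq hM hN hDK hKN f.2).1, indVec]
  simp only [hval, Finset.sum_boole, Nat.cast_eq_one] at h1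
  obtain ⟨f₀, hf₀⟩ := Finset.card_eq_one.1 h1
  have hm := Finset.mem_filter.1 (hf₀ ▸ Finset.mem_singleton_self f₀ :
    f₀ ∈ Finset.univ.filter fun f => η ∈ underSet D f.1)
  refine ⟨f₀.1, ⟨f₀.2, hm.2⟩, fun f hf => ?_⟩
  have : (⟨f, hf.1⟩ : {f : Set (IrrCharacter K) // IsPBlock M f}) ∈ ({f₀} : Finset _) :=
    hf₀ ▸ Finset.mem_filter.2 ⟨Finset.mem_univ _, hf.2⟩
  exact congrArg Subtype.val (Finset.mem_singleton.1 this)

include hM hN hDK hKN in
theorem underSet_nonempty {f : Set (IrrCharacter K)} (hf : IsPBlock M f) :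
    (underSet D f).Nonempty := by
  classical
  by_contra h
  rw [Set.not_nonempty_iff_eq_empty] at h
  obtain ⟨ξ, hξ⟩ := nonempty_of_isPBlock hM hf
  have h0 : indVec f = 0 := eq_of_extF_eq fun g => by
    rw [← extF_trV_indVec hM hN hDK hKN hf, (trV_indVec_eq hM hN hDK hKN hf).1, h]
    have e : (indVec (∅ : Set (IrrCharacter D))) = 0 := by funext χ; simp [indVec]
    rw [e]
    by_cases hg : g ∈ D
    · rw [extF_of_mem _ hg, zc_zero]
      by_cases hK : g ∈ K
      · rw [extF_of_mem _ hK, zc_zero]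
      · rw [extF_of_notMem _ hK]
    · rw [extF_of_notMem _ hg]
      by_cases hK : g ∈ K
      · rw [extF_of_mem _ hK, zc_zero]
      · rw [extF_of_notMem _ hK]
  simpa [indVec, hξ] using congrFun h0 ξ

include hM hN hDK hKN in
/-- The blocks under a block are one orbit of the bigger group. -/
theorem under_transitive (hnorm : ∀ x ∈ K, x ∈ Subgroup.normalizer (D : Set G))
    {f : Set (IrrCharacter K)} (hf : IsPBlock M f) {e e' : Set (IrrCharacter D)}
    (he : IsPBlock M e) (he' : IsPBlock M e') (hef : e ⊆ underSet D f)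
    (hef' : e' ⊆ underSet D f) :
    ∃ (x : G) (hx : x ∈ K), conjSet (conjMaps_normalizer (hnorm x hx)) e = e' := by
  classical
  set U : Set (IrrCharacter D) :=
    {η | ∃ (x : G) (hx : x ∈ K), η ∈ conjSet (conjMaps_normalizer (hnorm x hx)) e} with hU
  have hUcl : ∀ η ∈ U, blockOf M (η : D → ℂ) ⊆ U := fun η ⟨x, hx, hη⟩ ψ hψ =>
    ⟨x, hx, by rwa [eq_blockOf_of_mem hM (isPBlock_conjSet _ he) hη]⟩
  -- invariance
  have hUinv : InvOn K D (indVec U) := fun k hk g => by
    have hkn := conjMaps_normalizer (hnorm k hk)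
    have hset : conjSet hkn U = U := by
      refine Set.Subset.antisymm ?_ fun η hη => ?_
      · rintro η ⟨x, hx, hη⟩
        refine ⟨k * x, mul_mem hk hx, ?_⟩
        rw [← conjSet_mul (conjMaps_normalizer (hnorm x hx)) hkn]
        exact hη
      · obtain ⟨x, hx, hη⟩ := hη
        refine ⟨k⁻¹ * x, mul_mem (inv_mem hk) hx, ?_⟩
        have h := conjSet_mul (conjMaps_normalizer (hnorm (k⁻¹ * x) (mul_mem (inv_mem hk) hx)))
          hkn e
        have h' : η ∈ conjSet hkn (conjSet (conjMaps_normalizer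
            (hnorm (k⁻¹ * x) (mul_mem (inv_mem hk) hx))) e) := by
          rw [h, conjSet_congr _ (conjMaps_normalizer (hnorm x hx)) (by group)]
          exact hη
        exact h'
    rw [extF_indVec]
    conv_lhs => rw [← hset]
    exact subgroupBlockCoeff_conjSet _ _ _
  set w := liftV K (indVec U) with hw
  have hwext : ∀ g, extF K w g = extF D (indVec U) g := fun g => extF_liftV hDK hUinv g
  have hwI : VInt hM w := fun t => by
    rw [hw, zc_liftV hUinv]
    exact extF_mem_locRing hM (vInt_indVec_closed hM hUcl) _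
  have hwsupp : ∀ g ∉ D, extF K w g = 0 := fun g hg => by rw [hwext, extF_of_notMem _ hg]
  have htw : trV D K w = indVec U := eq_of_extF_eq fun g => by
    by_cases hg : g ∈ D
    · rw [extF_trV_of_mem hDK _ hg, hwext]
    · rw [extF_of_notMem _ hg, extF_of_notMem _ hg]
  have hww : w * w = w := eq_of_extF_eq fun g => by
    by_cases hg : g ∈ D
    · rw [← extF_trV_of_mem hDK (w * w) hg, trV_mul_of_supported hDK hwsupp, htw,
        indVec_mul_indVec, Set.inter_self, hwext]
    · rw [hwext, extF_of_notMem (indVec U) hg, extF_mul]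
      refine Finset.sum_eq_zero fun x _ => ?_
      by_cases hx : x ∈ D
      · rw [hwsupp (x⁻¹ * g) fun h => hg (by simpa using mul_mem hx h), mul_zero]
      · rw [hwsupp _ hx, zero_mul]
  have hV := closed_of_vInt hM hwI hww
  have hwV := exists_eq_indVec hww
  obtain ⟨η₀, hη₀⟩ := nonempty_of_isPBlock hM he
  have hη₀U : η₀ ∈ U := ⟨1, K.one_mem, by
    rw [conjSet_of_mem _ D.one_mem]
    exact hη₀⟩
  -- the product with `f` is not zero
  have hprod : trV D K (w * indVec f) η₀ = 1 := by
    rw [trV_mul_of_supported hDK fun g hg => extF_indVec_eq_zero hM hN hKN hf hg, htw,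
      Pi.mul_apply, (trV_indVec_eq hM hN hDK hKN hf).1]
    simp [indVec, hη₀U, hef hη₀]
  obtain ⟨ξ, hξV, hξf⟩ : ∃ ξ, w ξ = 1 ∧ ξ ∈ f := by
    by_contra hne
    push Not at hne
    have h0 : w * indVec f = 0 := funext fun ξ => by
      by_cases hξ : ξ ∈ f
      · have hne1 : w ξ ≠ 1 := fun h => hne ξ h hξ
        rw [Pi.mul_apply, congrFun hwV ξ]
        simp [indVec, hne1]
      · simp [indVec, hξ]
    rw [h0, trV_zero hDK] at hprod
    exact zero_ne_one hprod
  have hfV : f ⊆ {χ | w χ = 1} := by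
    rw [eq_blockOf_of_mem hM hf hξf]
    exact hV ξ hξV
  have hwf : w * indVec f = indVec f := funext fun χ => by
    by_cases hχ : χ ∈ f
    · simp [indVec, hχ, show w χ = 1 from hfV hχ]
    · simp [indVec, hχ]
  obtain ⟨η, hη⟩ := nonempty_of_isPBlock hM he'
  have h1 : trV D K (w * indVec f) η = 1 := by
    rw [hwf, (trV_indVec_eq hM hN hDK hKN hf).1]
    simp [indVec, hef' hη]
  rw [trV_mul_of_supported hDK fun g hg => extF_indVec_eq_zero hM hN hKN hf hg, htw,
    Pi.mul_apply, indVec] at h1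
  split_ifs at h1 with hηU
  · obtain ⟨x, hx, hηx⟩ := hηU
    exact ⟨x, hx, isPBlock_eq_of_mem hM (isPBlock_conjSet _ he) he' hηx hη⟩
  · simp at h1

include hM hN hDK hKN in
/-- An element commuting with the bigger group modulo the subgroup and fixing a block fixes all
blocks under it. -/
theorem invOn_under_of_fix (hnorm : ∀ x ∈ K, x ∈ Subgroup.normalizer (D : Set G)) {x : G}
    (hxK : x ∈ Subgroup.normalizer (K : Set G)) (hxD : x ∈ Subgroup.normalizer (D : Set G))
    (hxN : x ∈ N) (hxr : IsPRegular p x) {f : Set (IrrCharacter K)} (hf : IsPBlock M f)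
    (hfx : StabilizesBlock K f x) {e : Set (IrrCharacter D)} (he : IsPBlock M e)
    (hef : e ⊆ underSet D f) : StabilizesBlock D e x := by
  classical
  obtain ⟨hU, -⟩ := trV_indVec_eq hM hN hDK hKN hf
  -- `x` permutes the blocks under `f`
  have hxU : ∀ g, extF D (indVec (underSet D f)) (x * g * x⁻¹) =
      extF D (indVec (underSet D f)) g := fun g => by
    rw [← hU, extF_trV_indVec hM hN hDK hKN hf, extF_trV_indVec hM hN hDK hKN hf, extF_indVec]
    exact (stabilizesBlock_iff_coeff hxK).1 hfx g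
  have hsub : conjSet (conjMaps_normalizer hxD) e ⊆ underSet D f := by
    rw [← conjSet_eq_of_invOn (conjMaps_normalizer hxD) hxU]
    exact fun η hη => hef hη
  obtain ⟨k, hk, hke⟩ := under_transitive hM hN hDK hKN hnorm hf he (isPBlock_conjSet _ he) hef hsub
  set S := invStab (indVec e) with hS
  have hmemS : ∀ (y : G) (hy : y ∈ Subgroup.normalizer (D : Set G)),
      y ∈ S ↔ conjSet (conjMaps_normalizer hy) e = e := fun y hy => by
    refine ⟨fun h => conjSet_eq_of_invOn _ h, fun h g => ?_⟩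
    rw [extF_indVec]
    conv_lhs => rw [← h]
    exact subgroupBlockCoeff_conjSet _ _ _
  have hDS : D ≤ S := le_invStab_self _
  have hkx : k⁻¹ * x ∈ S := by
    show ∀ g : G, extF D (indVec e) _ = extF D (indVec e) g
    intro g
    rw [extF_indVec, show k⁻¹ * x * g * (k⁻¹ * x)⁻¹ = k⁻¹ * (x * g * x⁻¹) * k by group,
      ← subgroupBlockCoeff_conjSet (conjMaps_normalizer (hnorm k hk)) e, hke,
      show k * (k⁻¹ * (x * g * x⁻¹) * k) * k⁻¹ = x * g * x⁻¹ by group,
      subgroupBlockCoeff_conjSet]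
  -- commutators lie in `D`
  have hcomm : ∀ l ∈ K, ∀ y ∈ Subgroup.zpowers x, y * l * y⁻¹ * l⁻¹ ∈ D := fun l hl y hy => by
    have hyN : y ∈ N := Subgroup.zpowers_le.2 hxN hy
    have hyK : y ∈ Subgroup.normalizer (K : Set G) := Subgroup.zpowers_le.2 hxK hy
    refine hKN _ (mul_mem ((Subgroup.mem_normalizer_iff.1 hyK l).1 hl) (inv_mem hl)) ?_
    rw [mul_assoc, mul_assoc, ← mul_assoc l]
    exact mul_mem hyN (Subgroup.Normal.conj_mem ‹N.Normal› _ (inv_mem hyN) l)
  have hpow : ∀ n : ℕ, (k ^ n)⁻¹ * x ^ n ∈ S := fun n => by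
    induction n with
    | zero => simp
    | succ n ih =>
      have hc := hcomm (k⁻¹) (inv_mem hk) ((x ^ n)⁻¹)
        (inv_mem (pow_mem (Subgroup.mem_zpowers x) n))
      have e : (k ^ (n + 1))⁻¹ * x ^ (n + 1) = ((k ^ n)⁻¹ * x ^ n) *
          ((x ^ n)⁻¹ * k⁻¹ * (x ^ n)⁻¹⁻¹ * k⁻¹⁻¹) * (k⁻¹ * x) := by
        rw [pow_succ x]
        have : (k ^ (n + 1))⁻¹ = (k ^ n)⁻¹ * k⁻¹ := by rw [← mul_inv_rev, ← pow_succ']
        rw [this]
        group
      rw [e]
      exact mul_mem (mul_mem ih (hDS hc)) hkx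
  have hkS : k ^ orderOf x ∈ S := by
    have h := hpow (orderOf x)
    rw [pow_orderOf_eq_one, mul_one] at h
    simpa using inv_mem h
  obtain ⟨a, ha⟩ := hN
  have hkD : k ^ p ^ a ∈ S :=
    hDS (hKN _ (pow_mem hk _) (ha ▸ Subgroup.pow_index_mem N k))
  have hk1 : k ∈ S := by
    have hcop : (p ^ a).Coprime (orderOf x) :=
      ((Fact.out : p.Prime).coprime_iff_not_dvd.2 hxr).pow_left a
    have h := Nat.gcd_eq_gcd_ab (p ^ a) (orderOf x)
    rw [hcop] at h
    rw [← zpow_one k, show (1 : ℤ) = ((1 : ℕ) : ℤ) from rfl, h, zpow_add, zpow_mul, zpow_mul,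
      zpow_natCast, zpow_natCast]
    exact mul_mem (zpow_mem hkD _) (zpow_mem hkS _)
  refine (stabilizesBlock_iff hxD).2 ((hmemS x hxD).1 ?_)
  simpa using mul_mem hk1 hkx

end Cfsg.Lib.Block
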