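import Cfsg.Agent.Lib.Block.FongStableBlock
import Cfsg.Agent.Lib.Char.AbelianInertia
import Cfsg.Agent.Lib.Char.Ramification

/-!
# Heights in blocks of `p`-solvable groups

The height of a character is at most the exponent of `p` in the index of the centre of a defect
group: Fong's reductions lead to a block of principal type of full defect, where Itô's argument
applies.
-/

set_option autoImplicit false
set_option linter.unusedSectionVars false
set_option maxHeartbeats 800000

namespace Cfsg.Lib.Block

open Cfsg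
open scoped ComplexConjugate

universe u

/-- A finite-type instance for the subgroups of a finite group, local to this development. -/
noncomputable local instance (priority := high) fintypeSubgroupHeight {G : Type u} [Group G]
    [Fintype G] (H : Subgroup G) : Fintype H := Fintype.ofFinite H

variable {p : ℕ} [hp : Fact p.Prime] {M : Ideal AlgInt}

/-- Isomorphic groups have centres of the same index. -/
theorem index_center_congr {A B : Type u} [Group A] [Group B] (e : A ≃* B) :
    (Subgroup.center A).index = (Subgroup.center B).index := by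
  have h : (Subgroup.center B).comap e.toMonoidHom = Subgroup.center A := by
    ext a
    simp only [Subgroup.mem_comap, Subgroup.mem_center_iff, MulEquiv.coe_toMonoidHom]
    constructor
    · intro h b
      exact e.injective (by simpa using h (e b))
    · intro h b
      obtain ⟨b, rfl⟩ := e.surjective b
      rw [← map_mul, ← map_mul, h b]
  rw [← h, Subgroup.index_comap_of_surjective _ e.surjective]

include hp in
/-- A character over a stable character of a `p'`-subgroup with a `p`-constrained quotient has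
degree of `p`-part at most the index of the centre of a Sylow subgroup. -/
theorem factorization_le_of_stable {G : Type u} [Group G] [Fintype G] {N : Subgroup G}
    [hN : N.Normal] (hNp : ¬ p ∣ Nat.card N) {θ : IrrCharacter N}
    (hθ : ∀ g : G, twistIrr N g θ = θ) {O : Subgroup (G ⧸ N)} (hO : IsPGroup p O) [hOn : O.Normal]
    (hOc : Subgroup.centralizer (O : Set (G ⧸ N)) ≤ O) {χ : IrrCharacter G}
    (hχ : classInner (fun n : N => (χ : G → ℂ) n) (θ : N → ℂ) ≠ 0) (S : Sylow p G) :
    (charDegree (χ : G → ℂ)).factorization p ≤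
      ((Subgroup.center (S : Subgroup G)).index).factorization p := by
  classical
  set π := QuotientGroup.mk' N with hπ
  have hOS : O ≤ (S : Subgroup G).map π := by
    have hsy : ∃ P : Sylow p (G ⧸ N), (P : Subgroup (G ⧸ N)) = (S : Subgroup G).map π :=
      ⟨S.mapSurjective (QuotientGroup.mk'_surjective N), Sylow.coe_mapSurjective _ _⟩
    obtain ⟨P, hP⟩ := hsy
    rw [← hP]
    exact (Cfsg.Lib.Core.le_pCore hO).trans (Cfsg.Lib.Core.pCore_le_sylow P)
  set Ā : Subgroup (G ⧸ N) := (Subgroup.center O).map O.subtype with hĀ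
  haveI hĀn : Ā.Normal := ⟨fun a ha g => by
    obtain ⟨z, hz, rfl⟩ := ha
    refine ⟨⟨g * (z : G ⧸ N) * g⁻¹, hOn.conj_mem _ z.2 g⟩, Subgroup.mem_center_iff.2 fun w =>
      Subtype.ext ?_, rfl⟩
    have h := congrArg Subtype.val
      (Subgroup.mem_center_iff.1 hz ⟨g⁻¹ * (w : G ⧸ N) * g, by
        simpa using hOn.conj_mem _ w.2 g⁻¹⟩)
    simp only [Subgroup.coe_mul] at h ⊢
    calc (w : G ⧸ N) * (g * (z : G ⧸ N) * g⁻¹)
        = g * (g⁻¹ * (w : G ⧸ N) * g * (z : G ⧸ N)) * g⁻¹ := by group
      _ = g * ((z : G ⧸ N) * (g⁻¹ * (w : G ⧸ N) * g)) * g⁻¹ := by rw [h]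
      _ = g * (z : G ⧸ N) * g⁻¹ * (w : G ⧸ N) := by group⟩
  set A : Subgroup G := Ā.comap π with hA
  haveI : A.Normal := hĀn.comap π
  have hNA : N ≤ A := fun n hn => by
    rw [hA, Subgroup.mem_comap, hπ, QuotientGroup.mk'_apply, (QuotientGroup.eq_one_iff n).2 hn]
    exact one_mem Ā
  haveI : (N.subgroupOf A).Normal := hN.subgroupOf A
  set K := N.subgroupOf A with hK
  obtain ⟨η, hη⟩ := Char.exists_irr_constituent_res A χ.2
  obtain ⟨θ', hθ'⟩ := Char.exists_irr_constituent_res K η.2
  obtain ⟨η0, hη0⟩ := (η.2.isCharacter.comp K.subtype).exists_nat_classInner θ'.2.isCharacter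
  -- `η` lies over a character conjugate, hence equal, to `θ`
  set e := Subgroup.subgroupOfEquivOfLe hNA with he
  have hθθ' : θ' = compIrr e θ := by
    by_contra hne
    have hpos := Char.classInner_res_le_of_constituent (H := K) (χ.2.isCharacter.comp A.subtype)
      η.2 hη θ'.2.isCharacter
    obtain ⟨m, hm⟩ := (χ.2.isCharacter.comp N.subtype).exists_nat_classInner θ.2.isCharacter
    have hcl := Char.clifford_invariant N χ.2 θ.2 (fun g => by
      rw [← coe_twistIrr, hθ g]) hχ
    have e2 : (fun x : K => (χ : G → ℂ) ((x : A) : G)) =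
        classInner (fun n : N => (χ : G → ℂ) n) (θ : N → ℂ) • (compIrr e θ : K → ℂ) :=
      funext fun x => congrFun hcl (e x)
    change _ ≤ (classInner (fun x : K => (χ : G → ℂ) ((x : A) : G)) (θ' : K → ℂ)).re at hpos
    rw [e2, Char.classInner_smul_left, Char.classInner_irr_ne (compIrr e θ).2 θ'.2
      (fun h => hne (Subtype.ext h.symm)), mul_zero, Complex.zero_re] at hpos
    have hη0' : classInner (fun x : K => (η : A → ℂ) x) (θ' : K → ℂ) = (η0 : ℂ) := hη0
    rw [hη0', Complex.natCast_re] at hpos
    refine hθ' ?_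
    rw [hη0', Nat.cast_eq_zero]
    exact_mod_cast le_antisymm hpos (Nat.cast_nonneg η0)
  -- the extension argument
  have hinv : ∀ a : A, Char.conjTwist K (θ' : K → ℂ) a = (θ' : K → ℂ) := fun a => by
    rw [hθθ', ← coe_twistIrr, show twistIrr K a (compIrr e θ) = compIrr e (twistIrr N (a : G) θ)
      from Subtype.ext (funext fun x => rfl), hθ]
  have hKp : ¬ p ∣ Nat.card K := by rwa [hK, Nat.card_congr e.toEquiv]
  have hab : ∀ x y : A, x * y * x⁻¹ * y⁻¹ ∈ K := fun x y => by
    obtain ⟨zx, hzx, hx⟩ := (x.2 : π (x : G) ∈ Ā)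
    obtain ⟨zy, hzy, hy⟩ := (y.2 : π (y : G) ∈ Ā)
    rw [hK, Subgroup.mem_subgroupOf, ← QuotientGroup.eq_one_iff]
    show π (((x * y * x⁻¹ * y⁻¹ : A)) : G) = 1
    simp only [Subgroup.coe_mul, InvMemClass.coe_inv, map_mul, map_inv, ← hx, ← hy]
    rw [← map_mul, Subgroup.mem_center_iff.1 hzy zx, map_mul]
    group
  have hKidx : ∃ k, K.index = p ^ k := by
    obtain ⟨k, hk⟩ := IsPGroup.iff_card.1 (hO.to_le (Subgroup.map_subtype_le (Subgroup.center O)))
    refine ⟨k, ?_⟩
    rw [hK]
    show N.relIndex A = _
    rw [show N = π.ker from (QuotientGroup.ker_mk' N).symm, Subgroup.relIndex_ker,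
      hA, Subgroup.map_comap_eq_self_of_surjective (QuotientGroup.mk'_surjective N), hk]
  have hcop : Nat.Coprime (Nat.card K) K.index := by
    obtain ⟨k, hk⟩ := hKidx
    rw [hk]
    exact Nat.Coprime.pow_right k (hp.out.coprime_iff_not_dvd.2 hKp).symm
  obtain ⟨ext, hext, hextr⟩ := Char.exists_extension_of_coprime K θ'.2 hinv hcop
  obtain ⟨e', C, -, hC, -, hind, hres, hone⟩ :=
    Char.indFun_invariant_abelian K θ'.2 hinv hab
  obtain rfl := hone ext hext hextr
  have hmem : (η : A → ℂ) ∈ C := by
    by_contra hn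
    have h0 : classInner (indFun K (θ' : K → ℂ)) (η : A → ℂ) = 0 := by
      rw [hind, Char.classInner_smul_left, Char.classInner_sum_left, Finset.sum_eq_zero, mul_zero]
      exact fun ψ hψ => Char.classInner_irr_ne (hC ψ hψ) η.2 fun h => hn (h ▸ hψ)
    rw [Char.classInner_indFun K _ η.2.isClassFunction, ← Char.classInner_conj_symm] at h0
    exact hθ' ((map_eq_zero _).mp h0)
  have hη1 : charDegree (η : A → ℂ) = charDegree (θ' : K → ℂ) := by
    refine charDegree_eq_of_apply_one ?_
    rw [← apply_one_eq_charDegree θ']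
    have h := congrFun (hres _ hmem) 1
    simpa using h
  obtain ⟨hdvd, hrat⟩ := Char.degree_ratio_dvd_index A χ.2 η.2 hη (apply_one_eq_charDegree χ)
    (apply_one_eq_charDegree η)
  have hη0p : (charDegree (η : A → ℂ)).factorization p = 0 := by
    rw [hη1]
    exact Nat.factorization_eq_zero_of_not_dvd fun h =>
      hKp (h.trans (charDegree_dvd_card θ'))
  have hle : (charDegree (χ : G → ℂ)).factorization p ≤ A.index.factorization p := by
    have h := (Nat.factorization_le_iff_dvd
      (Nat.div_pos (Nat.le_of_dvd (charDegree_pos χ) hdvd) (charDegree_pos η)).ne'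
      Subgroup.index_ne_zero_of_finite).2 hrat p
    rw [Nat.factorization_div hdvd, Finsupp.tsub_apply, hη0p, Nat.sub_zero] at h
    exact h
  refine hle.trans ?_
  -- the centre of `S` lies in `A`
  have hZA : (Subgroup.center (S : Subgroup G)).map (S : Subgroup G).subtype ≤ A := by
    rintro _ ⟨z, hz, rfl⟩
    have hc : π (z : G) ∈ Subgroup.centralizer (O : Set (G ⧸ N)) := by
      refine Subgroup.mem_centralizer_iff.2 fun w hw => ?_
      obtain ⟨s, hs, rfl⟩ := hOS hw
      have h : s * (z : G) = (z : G) * s :=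
        congrArg Subtype.val (Subgroup.mem_center_iff.1 hz ⟨s, hs⟩)
      rw [← map_mul, ← map_mul, h]
    exact ⟨⟨π (z : G), hOc hc⟩, Subgroup.mem_center_iff.2 fun w =>
      Subtype.ext (Subgroup.mem_centralizer_iff.1 hc w w.2), rfl⟩
  have h1 : (Subgroup.center (S : Subgroup G)).index.factorization p +
      (Nat.card (Subgroup.center (S : Subgroup G))).factorization p =
      (Nat.card G).factorization p := by
    rw [← Finsupp.add_apply, ← Nat.factorization_mul Subgroup.index_ne_zero_of_finite
      Nat.card_pos.ne', Subgroup.index_mul_card, S.card_eq_multiplicity,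
      hp.out.factorization_pow, Finsupp.single_eq_same]
  have h2 : A.index.factorization p + (Nat.card A).factorization p =
      (Nat.card G).factorization p := by
    rw [← Finsupp.add_apply, ← Nat.factorization_mul Subgroup.index_ne_zero_of_finite
      Nat.card_pos.ne', Subgroup.index_mul_card]
  have h3 := (Nat.factorization_le_iff_dvd Nat.card_pos.ne' Nat.card_pos.ne').2
    (Subgroup.card_dvd_of_le hZA) p
  rw [Subgroup.card_map_of_injective (Subgroup.subtype_injective _)] at h3
  omega

include hp in
/-- Heights in `p`-solvable groups are bounded by the central index of a defect group. -/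
theorem height_le_center_index (hM : IsPModular p M) :
    ∀ (n : ℕ) {G : Type u} [Group G] [Fintype G], Nat.card G = n → Cfsg.IsPSolvable p G →
      ∀ (B : Set (IrrCharacter G)), IsPBlock M B → ∀ P : Subgroup G, IsDefectGroup p M B P →
        ∀ χ ∈ B, blockHeight p B (χ : G → ℂ) ≤ ((Subgroup.center P).index).factorization p := by
  classical
  intro n
  induction n using Nat.strong_induction_on with
  | _ n ih =>
  intro G _ _ hn hsolv B hB P hP χ hχ
  set N := Cfsg.pPrimeCore p G with hN
  have hNp : ¬ p ∣ Nat.card N := Cfsg.Lib.Core.pPrimeCore_not_dvd p G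
  obtain ⟨θ, hc⟩ := Char.exists_irr_constituent_res N χ.2
  have hb : IsPBlock M ({θ} : Set (IrrCharacter N)) := by
    rw [← blockOf_eq_singleton_of_full hM θ
      (by rw [Nat.factorization_eq_zero_of_not_dvd hNp]; omega)]
    exact isPBlock_blockOf θ
  obtain ⟨T, hNT, hT⟩ := exists_blockStab (G := G) hM hb
  by_cases htop : T = ⊤
  · have hθ : ∀ g : G, twistIrr N g θ = θ := fun g =>
      hT.twist_mem (htop ▸ Subgroup.mem_top g) (Set.mem_singleton θ)
    have hO := Cfsg.Lib.Core.pCore_isPGroup p (G ⧸ N)
    have hOc := Cfsg.Lib.Sig.isPConstrained_iff.1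
      (Cfsg.Lib.Sig.isPConstrained_of_isPSolvable hsolv)
    obtain ⟨hB', ⟨-, hsyl⟩, -⟩ := stable_block hM hNp hθ hO hOc
      (B := {χ | classInner (fun m : N => (χ : G → ℂ) m) (θ : N → ℂ) ≠ 0}) fun χ => Iff.rfl
    obtain rfl := isPBlock_eq_of_mem hM hB hB' hχ hc
    obtain ⟨S, rfl⟩ := hsyl P hP
    rw [blockHeight_eq]
    exact (Nat.sub_le _ _).trans (factorization_le_of_stable hNp hθ hO hOc hc S)
  · have hlt : Nat.card T < n := by
      rw [← hn]
      refine lt_of_le_of_ne (Subgroup.card_le_card_group T) fun h => htop ?_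
      exact Subgroup.eq_top_of_card_eq T h
    obtain ⟨B', hB', hcov, hind⟩ := hT.exists_corr hNT hM hb hB ⟨χ, hχ, θ, rfl, hc⟩
    obtain ⟨D', hD'⟩ := exists_defectGroup hM hB'
    obtain ⟨x, hx⟩ := exists_conj_defectGroup hM hB (hT.defectGroup hNT hM hb hB' hcov hind hD') hP
    obtain ⟨B₁, hi, -, -, hmem⟩ := hT.exists_induced hNT hM hb hB' hcov
    obtain rfl := isInducedBlock_unique hM hi hind
    obtain ⟨ψ, hψ, heq⟩ := (hmem χ).1 hχ
    obtain ⟨χ', -, heq', hh⟩ := (hT.defect_height hNT hM hb hB' hcov hind).2 ψ hψ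
    rw [show χ = χ' from Subtype.ext (heq.trans heq'.symm), hh]
    refine (ih _ hlt rfl (Cfsg.Lib.Core.isPSolvable_subgroup hsolv T) B' hB' D' hD' ψ hψ).trans
      (le_of_eq ?_)
    subst hx
    rw [index_center_congr ((D'.equivMapOfInjective T.subtype T.subtype_injective).trans
      ((D'.map T.subtype).equivMapOfInjective (MulAut.conj x).toMonoidHom (MulAut.conj x).injective))]

end Cfsg.Lib.Block
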