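import Cfsg.Agent.Lib.Block.AbelianSections

/-!
# Counting the characters of a block by pairs below a maximal pair

Representatives of the classes of pairs at the elements of a defect group give the subsections.
-/

set_option autoImplicit false
set_option linter.unusedSectionVars false
set_option maxHeartbeats 800000

namespace Cfsg.Lib.Block

open Cfsg

universe u

noncomputable local instance (priority := high) fintypeSubgroupPairCount {A : Type u}
    [Group A] [Fintype A] (H : Subgroup A) : Fintype H := Fintype.ofFinite H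

local notation "C[" Q "]" => Subgroup.centralizer (SetLike.coe Q)

variable {p : ℕ} {M : Ideal AlgInt} {G : Type u} [Group G] [Fintype G] [Fact p.Prime]

/-- The pairs below `(P, c)` at the elements of `P`. -/
def PairFam (p : ℕ) [Fact p.Prime] (M : Ideal AlgInt) (P : Subgroup G)
    (c : Set (IrrCharacter C[P]))
    (F : ∀ u : G, Set (IrrCharacter C[Subgroup.zpowers u])) : Prop :=
  ∀ u ∈ P, SubpairLE p M (Subgroup.zpowers u) (F u) P c

/-- Conjugacy of the pairs at two elements. -/
def PairConj (F : ∀ u : G, Set (IrrCharacter C[Subgroup.zpowers u])) (u v : G) : Prop :=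
  ∃ g : G, g * u * g⁻¹ = v ∧
    conjIdx g ⟨Subgroup.zpowers u, F u⟩ = ⟨Subgroup.zpowers v, F v⟩

variable {F : ∀ u : G, Set (IrrCharacter C[Subgroup.zpowers u])} {u v w : G}

theorem pairConj_equiv : Equivalence (PairConj F) where
  refl u := ⟨1, by simp, conjIdx_one _⟩
  symm := by
    rintro u v ⟨g, hg, h⟩
    exact ⟨g⁻¹, by rw [← hg]; group, by rw [← h, conjIdx_mul, inv_mul_cancel, conjIdx_one]⟩
  trans := by
    rintro u v w ⟨g, hg, h⟩ ⟨k, hk, h'⟩
    exact ⟨k * g, by rw [← hk, ← hg]; group, by rw [← conjIdx_mul, h, h']⟩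

theorem PairConj.isConj (h : PairConj F u v) : IsConj u v :=
  let ⟨g, hg, _⟩ := h
  isConj_iff.2 ⟨g, hg⟩

theorem PairConj.orderOf_eq (h : PairConj F u v) : orderOf v = orderOf u := by
  obtain ⟨g, rfl, -⟩ := h
  exact (MulAut.conj g).orderOf_eq u

variable {P : Subgroup G} {c : Set (IrrCharacter C[P])}

theorem exists_pairFam (hM : IsPModular p M) (hPc : IsBrauerPair p M P c) :
    ∃ F : ∀ u : G, Set (IrrCharacter C[Subgroup.zpowers u]), PairFam p M P c F := by
  classical
  refine ⟨fun u => if hu : u ∈ P then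
    (exists_subpair hM hPc (Subgroup.zpowers_le.2 hu)).choose else ∅, fun u hu => ?_⟩
  simp only [dif_pos hu]
  exact (exists_subpair hM hPc (Subgroup.zpowers_le.2 hu)).choose_spec.2

/-- Pairs moved along a fixed pair above them. -/
theorem PairFam.conj_of_rel (hF : PairFam p M P c F) (hM : IsPModular p M)
    (hPc : IsBrauerPair p M P c) {V : Subgroup G} {n : Set (IrrCharacter C[V])}
    (hn : SubpairLE p M V n P c) {g : G}
    (hg : Relation.ReflTransGen (NormalSubpairRel p M) (conjIdx g ⟨V, n⟩) ⟨P, c⟩)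
    (hu : u ∈ V) : PairConj F u (g * u * g⁻¹) := by
  have hmap : (Subgroup.zpowers u).map (MulAut.conj g).toMonoidHom =
      Subgroup.zpowers (g * u * g⁻¹) := conj_zpowers_map g u
  refine ⟨g, rfl, ?_⟩
  obtain ⟨f, -, hf⟩ := exists_subpair hM (isBrauerPair_of_le hn hPc) (Subgroup.zpowers_le.2 hu)
  have e : F u = f := subpair_unique hM hPc (hF u (subpairLE_le hn hu)) (hf.trans hn)
  subst e
  have h := (rel_conjIdx hM g hf).trans hg
  rw [conjIdx_eq hmap] at h ⊢
  exact Sigma.ext rfl (heq_of_eq (subpair_unique hM hPc h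
    (hF _ (le_of_rel h (Subgroup.mem_zpowers _)))))

/-- Conjugation by an element of `P`. -/
theorem PairFam.conj_mem (hF : PairFam p M P c F) (hM : IsPModular p M)
    (hPc : IsBrauerPair p M P c) {d : G} (hd : d ∈ P) (hu : u ∈ P) :
    PairConj F u (d * u * d⁻¹) :=
  hF.conj_of_rel hM hPc Relation.ReflTransGen.refl (by
    rw [conjIdx_of_mem hd]) hu

variable {B : Set (IrrCharacter G)} {R : Finset G}

open Classical in
/-- The subsections at a `p`-element, by representatives. -/
theorem PairFam.sum_inducing (hF : PairFam p M P c F) (hM : IsPModular p M)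
    (hmax : IsMaximalBrauerPair p M B P c) (hRP : ∀ r ∈ R, r ∈ P)
    (hcomp : ∀ u ∈ P, ∃ r ∈ R, PairConj F u r)
    (hdist : ∀ r ∈ R, ∀ r' ∈ R, PairConj F r r' → r = r') {x : G}
    (hx : ∃ k : ℕ, orderOf x = p ^ k) :
    ∑ᶠ b ∈ {b : Set (IrrCharacter (Subgroup.centralizer ({x} : Set G))) |
        IsInducedBlock M (Subgroup.centralizer ({x} : Set G)) b B}, blockRank p b =
      ∑ r ∈ R.filter (fun r => IsConj r x), blockRank p (F r) := by
  have hPc := hmax.1.1
  have hB := hmax.1.2.1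
  suffices ∀ H : Subgroup G, H = C[Subgroup.zpowers x] →
      ∑ᶠ b ∈ {b : Set (IrrCharacter H) | IsInducedBlock M H b B}, blockRank p b =
        ∑ r ∈ R.filter (fun r => IsConj r x), blockRank p (F r) from
    this _ (centralizer_singleton_eq x)
  rintro H rfl
  rw [finsum_mem_eq_toFinset_sum]
  obtain ⟨k, hk⟩ : ∃ k : G → G, ∀ r, IsConj r x → k r * r * (k r)⁻¹ = x :=
    ⟨fun r => if h : IsConj r x then (isConj_iff.1 h).choose else 1, fun r h => by
      simp only [dif_pos h]; exact (isConj_iff.1 h).choose_spec⟩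
  have hb : ∀ r, IsConj r x → ∃ b : Set (IrrCharacter C[Subgroup.zpowers x]),
      conjIdx (k r) ⟨Subgroup.zpowers r, F r⟩ = ⟨Subgroup.zpowers x, b⟩ ∧
        blockRank p b = blockRank p (F r) := fun r hr => by
    have hmap : (Subgroup.zpowers r).map (MulAut.conj (k r)).toMonoidHom = Subgroup.zpowers x := by
      rw [conj_zpowers_map, hk r hr]
    exact ⟨_, conjIdx_eq hmap _, blockRank_conjSet _ _⟩
  choose! bl hbl hrk using hb
  symm
  refine Finset.sum_bij (fun r _ => bl r) ?_ ?_ ?_ ?_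
  · intro r hr
    obtain ⟨hrR, hrx⟩ := Finset.mem_filter.1 hr
    rw [Set.mem_toFinset]
    show IsInducedBlock M _ (bl r) B
    have h2 := isBrauerPairOf_conjIdx hM (k r) (a := ⟨Subgroup.zpowers r, F r⟩)
      ((isBrauerPairOf_iff_of_le hM (hF r (hRP r hrR)) B).1 hmax.1)
    rw [hbl r hrx] at h2
    exact (isBrauerPairOf_zpowers_iff hM hB hx h2.1.2).1 h2
  · intro r hr r' hr' he
    obtain ⟨hrR, hrx⟩ := Finset.mem_filter.1 hr
    obtain ⟨hrR', hrx'⟩ := Finset.mem_filter.1 hr'
    refine hdist _ hrR _ hrR' ⟨(k r')⁻¹ * k r, ?_, ?_⟩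
    · calc (k r')⁻¹ * k r * r * ((k r')⁻¹ * k r)⁻¹
          = (k r')⁻¹ * (k r * r * (k r)⁻¹) * k r' := by group
        _ = (k r')⁻¹ * (k r' * r' * (k r')⁻¹) * k r' := by rw [hk r hrx, hk r' hrx']
        _ = r' := by group
    · rw [← conjIdx_mul, hbl r hrx]
      rw [show bl r = bl r' from he, ← hbl r' hrx', conjIdx_mul, inv_mul_cancel, conjIdx_one]
  · intro b hb
    rw [Set.mem_toFinset] at hb
    have hb' : IsInducedBlock M C[Subgroup.zpowers x] b B := hb
    obtain ⟨g, hg⟩ := exists_conj_le_maximal hM hmax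
      ((isBrauerPairOf_zpowers_iff hM hB hx hb'.1).2 hb')
    have hmap : (Subgroup.zpowers x).map (MulAut.conj g).toMonoidHom =
        Subgroup.zpowers (g * x * g⁻¹) := conj_zpowers_map g x
    rw [conjIdx_eq hmap] at hg
    have hgP : g * x * g⁻¹ ∈ P := le_of_rel hg (Subgroup.mem_zpowers _)
    obtain ⟨r, hrR, g', hg', hgF⟩ := hcomp _ hgP
    have hrx : IsConj r x := (isConj_iff.2 ⟨g' * g, by rw [← hg']; group⟩).symm
    have h1 : conjIdx g ⟨Subgroup.zpowers x, b⟩ =
        ⟨Subgroup.zpowers (g * x * g⁻¹), F (g * x * g⁻¹)⟩ := by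
      rw [conjIdx_eq hmap]
      exact Sigma.ext rfl (heq_of_eq (subpair_unique hM hPc hg (hF _ hgP)))
    have hz : k r * g' * g ∈ C[Subgroup.zpowers x] := by
      rw [← centralizer_singleton_eq, Subgroup.mem_centralizer_singleton_iff]
      calc k r * g' * g * x = k r * (g' * (g * x * g⁻¹) * g'⁻¹) * (g' * g) := by group
        _ = x * (k r * g' * g) := by
          rw [hg']
          conv_rhs => rw [← hk r hrx]
          group
    have h2 : (⟨Subgroup.zpowers x, bl r⟩ : BrauerPairIdx G) = ⟨Subgroup.zpowers x, b⟩ := by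
      rw [← hbl r hrx, ← hgF, ← h1, conjIdx_mul, conjIdx_mul, conjIdx_eq_self_of_mem hz]
    exact ⟨r, Finset.mem_filter.2 ⟨hrR, hrx⟩, eq_of_heq (Sigma.mk.inj h2).2⟩
  · intro r hr
    exact (hrk r (Finset.mem_filter.1 hr).2).symm

/-- The count. -/
theorem PairFam.count (hF : PairFam p M P c F) (hM : IsPModular p M)
    (hmax : IsMaximalBrauerPair p M B P c) (h1 : (1 : G) ∈ R) (hRP : ∀ r ∈ R, r ∈ P)
    (hcomp : ∀ u ∈ P, ∃ r ∈ R, PairConj F u r)
    (hdist : ∀ r ∈ R, ∀ r' ∈ R, PairConj F r r' → r = r') :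
    blockRank p (F 1) = blockRank p B ∧ Nat.card B = ∑ r ∈ R, blockRank p (F r) := by
  classical
  have hB := hmax.1.2.1
  constructor
  · have h := hF.sum_inducing hM hmax hRP hcomp hdist (x := 1) ⟨0, by simp⟩
    have hfil : R.filter (fun r => IsConj r 1) = {1} := by
      ext r
      simp only [Finset.mem_filter, Finset.mem_singleton, isConj_one_left, isConj_one_right]
      exact ⟨fun hr => hr.2, fun hr => ⟨hr ▸ h1, hr⟩⟩
    rw [hfil, Finset.sum_singleton] at h
    rw [← h]
    exact_mod_cast (blockRank_indSet hM (H := Subgroup.centralizer ({(1 : G)} : Set G)) B).symm.trans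
      (congrArg (Nat.cast (R := ℂ)) (blockRank_indSet_one hM hB))
  let r : G → G := fun g => Quotient.out (s := IsConj.setoid G) (Quotient.mk _ g)
  have hr : ∀ g : G, IsConj g (r g) := fun g =>
    (Quotient.mk_out (s := IsConj.setoid G) g).symm
  have hr' : ∀ g g' : G, IsConj g g' → r g = r g' := fun g g' h =>
    congrArg (Quotient.out (s := IsConj.setoid G)) (Quotient.sound h)
  set X : Finset G :=
    (Finset.univ.filter fun g : G => ∃ k : ℕ, orderOf g = p ^ k).image r with hXdef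
  have hXp : ∀ x ∈ X, ∃ k : ℕ, orderOf x = p ^ k := fun x hx => by
    obtain ⟨g, hg, rfl⟩ := Finset.mem_image.1 hx
    obtain ⟨k, hk⟩ := (Finset.mem_filter.1 hg).2
    obtain ⟨w, hw⟩ := isConj_iff.1 (hr g)
    exact ⟨k, by rw [← hw, ← hk]; exact (MulAut.conj w).orderOf_eq g⟩
  have hrX : ∀ x ∈ X, r x = x := fun x hx => by
    obtain ⟨g, -, rfl⟩ := Finset.mem_image.1 hx
    exact (hr' g _ (hr g)).symm
  have hmemX : ∀ g : G, (∃ k : ℕ, orderOf g = p ^ k) → r g ∈ X := fun g hg =>
    Finset.mem_image.2 ⟨g, Finset.mem_filter.2 ⟨Finset.mem_univ _, hg⟩, rfl⟩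
  have hXrep : ∀ g : G, (∃ k : ℕ, orderOf g = p ^ k) → ∃! x, x ∈ X ∧ IsConj g x := fun g hg =>
    ⟨r g, ⟨hmemX g hg, hr g⟩,
      fun x ⟨hx, hgx⟩ => by rw [← hrX x hx]; exact (hr' g x hgx).symm⟩
  have hPp := isPGroup_defectGroup hM (isDefectGroup_of_maximal hM hmax)
  rw [card_block_eq_sum_rank hM hB X hXp hXrep,
    Finset.sum_congr rfl fun x hx => hF.sum_inducing hM hmax hRP hcomp hdist (hXp x hx),
    ← Finset.sum_fiberwise_of_maps_to (g := r) (s := R) (t := X) fun g hg =>
      hmemX g (exists_orderOf_eq_pow_of_mem hPp (hRP g hg))]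
  refine Finset.sum_congr rfl fun x hx => Finset.sum_congr ?_ fun _ _ => rfl
  ext g
  simp only [Finset.mem_filter]
  exact and_congr_right fun _ => ⟨fun h => (hr' g x h).trans (hrX x hx), fun h => h ▸ hr g⟩

end Cfsg.Lib.Block
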