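import Cfsg.Agent.Lib.Block.LocalRing
import Mathlib.GroupTheory.Perm.Cycle.Basic
import Mathlib.LinearAlgebra.Trace
import Mathlib.LinearAlgebra.Matrix.ToLin
import Mathlib.LinearAlgebra.Matrix.NonsingularInverse

/-!
# Traces of integral idempotents commuting with a permutation of `p`-power order

If `E` is an idempotent matrix with entries in the local ring at `M`, commuting with a
permutation `σ` of `p`-power order, then `∑ x, E x (σ x)` (the trace of the product of the
permutation matrix with `E`) is a natural number, and it is zero as soon as all entries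
`E x y` at fixed points `x`, `y` of `σ` lie in the local ideal.
-/

set_option autoImplicit false

namespace Cfsg.Lib.Block

open Cfsg Module Submodule

universe u

variable {p : ℕ} {M : Ideal AlgInt} {X : Type u} [Fintype X] [DecidableEq X]

/-- The permutation operator of `σ` on functions: it sends the delta function at `x` to the
one at `σ x`. -/
noncomputable def permOp (σ : Equiv.Perm X) : (X → ℂ) →ₗ[ℂ] (X → ℂ) :=
  LinearMap.funLeft ℂ ℂ σ.symm

theorem permOp_apply (σ : Equiv.Perm X) (w : X → ℂ) (y : X) : permOp σ w y = w (σ.symm y) := rfl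

theorem permOp_pow_apply (σ : Equiv.Perm X) (n : ℕ) (w : X → ℂ) (y : X) :
    (permOp σ ^ n) w y = w ((σ ^ n).symm y) := by
  induction n generalizing w y with
  | zero => simp [Equiv.Perm.one_def]
  | succ n ih =>
    rw [pow_succ, Module.End.mul_apply, ih, permOp_apply, pow_succ, Equiv.Perm.mul_def,
      Equiv.symm_trans_apply]

theorem permOp_pow_eq_one (σ : Equiv.Perm X) {n : ℕ} (h : σ ^ n = 1) : permOp σ ^ n = 1 := by
  refine LinearMap.ext fun w => funext fun y => ?_
  rw [permOp_pow_apply, h]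
  rfl

/-- The eigen space of the permutation operator. -/
noncomputable def eigSpace (σ : Equiv.Perm X) (c : ℂ) : Submodule ℂ (X → ℂ) :=
  LinearMap.ker (permOp σ - c • (1 : (X → ℂ) →ₗ[ℂ] (X → ℂ)))

theorem mem_eigSpace {σ : Equiv.Perm X} {c : ℂ} {w : X → ℂ} :
    w ∈ eigSpace σ c ↔ ∀ y, w (σ.symm y) = c * w y := by
  simp [eigSpace, LinearMap.mem_ker, sub_eq_zero, funext_iff, permOp_apply]

/-- Cycles of `σ`. -/
abbrev Orb (σ : Equiv.Perm X) : Type u := Quotient (Equiv.Perm.SameCycle.setoid σ)

noncomputable instance orbFintype (σ : Equiv.Perm X) : Fintype (Orb σ) := Fintype.ofFinite _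

/-- The cycle of `σ` through `x`. -/
def orbMk (σ : Equiv.Perm X) (x : X) : Orb σ := Quotient.mk (Equiv.Perm.SameCycle.setoid σ) x

theorem exists_pow_out (σ : Equiv.Perm X) (y : X) : ∃ i : ℕ, (σ ^ i) (orbMk σ y).out = y := by
  have h : σ.SameCycle (orbMk σ y).out y := Quotient.exact (Quotient.out_eq (orbMk σ y))
  exact h.exists_nat_pow_eq

theorem orbMk_apply_pow (σ : Equiv.Perm X) (i : ℕ) (x : X) : orbMk σ ((σ ^ i) x) = orbMk σ x := by
  apply Quotient.sound
  exact ⟨-(i : ℤ), by rw [zpow_neg, zpow_natCast, Equiv.Perm.inv_def, Equiv.symm_apply_apply]⟩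

theorem orbMk_symm (σ : Equiv.Perm X) (x : X) : orbMk σ (σ.symm x) = orbMk σ x := by
  apply Quotient.sound
  exact ⟨1, by rw [zpow_one, Equiv.apply_symm_apply]⟩

theorem orbMk_eq_of_fixed {σ : Equiv.Perm X} {y : X} (hy : σ y = y) : (orbMk σ y).out = y := by
  obtain ⟨i, hi⟩ := exists_pow_out σ y
  have h : (σ ^ i) y = y := by
    clear hi
    induction i with
    | zero => rfl
    | succ i ih => rw [pow_succ, Equiv.Perm.mul_apply, hy, ih]
  exact (σ ^ i).injective (hi.trans h.symm)

/-- `c` is an eigen value on the cycle `o`. -/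
def GoodOrb (σ : Equiv.Perm X) (c : ℂ) (o : Orb σ) : Prop :=
  ∀ s : ℕ, (σ ^ s) o.out = o.out → c ^ s = 1

theorem pow_eq_pow_of_good {σ : Equiv.Perm X} {c : ℂ} {o : Orb σ} (hc : GoodOrb σ c o)
    {i j : ℕ} (h : (σ ^ i) o.out = (σ ^ j) o.out) : c ^ i = c ^ j := by
  wlog hij : i ≤ j generalizing i j
  · exact (this h.symm (le_of_not_ge hij)).symm
  obtain ⟨d, rfl⟩ := Nat.exists_eq_add_of_le hij
  have hd : (σ ^ d) o.out = o.out := by
    rw [pow_add, Equiv.Perm.mul_apply] at h
    exact ((σ ^ i).injective h).symm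
  rw [pow_add, hc d hd, mul_one]

/-- The eigen vector supported on a cycle. -/
noncomputable def orbVec (σ : Equiv.Perm X) (c : ℂ) (o : Orb σ) : X → ℂ := fun y =>
  haveI := Classical.propDecidable (orbMk σ y = o)
  if orbMk σ y = o then c⁻¹ ^ (exists_pow_out σ y).choose else 0

theorem orbVec_of_ne {σ : Equiv.Perm X} {c : ℂ} {o : Orb σ} {y : X} (hy : orbMk σ y ≠ o) :
    orbVec σ c o y = 0 := by
  classical
  exact if_neg hy

theorem orbVec_pow {σ : Equiv.Perm X} {c : ℂ} {o : Orb σ} (hc : GoodOrb σ c o) (i : ℕ) :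
    orbVec σ c o ((σ ^ i) o.out) = c⁻¹ ^ i := by
  classical
  have ho : orbMk σ ((σ ^ i) o.out) = o := by
    rw [orbMk_apply_pow]; exact Quotient.out_eq o
  rw [orbVec, if_pos ho]
  have hj := (exists_pow_out σ ((σ ^ i) o.out)).choose_spec
  generalize (exists_pow_out σ ((σ ^ i) o.out)).choose = j at hj ⊢
  rw [ho] at hj
  rw [inv_pow, inv_pow, pow_eq_pow_of_good hc hj]

theorem orbVec_mem {σ : Equiv.Perm X} {c : ℂ} (hc0 : c ≠ 0) {o : Orb σ} (hc : GoodOrb σ c o) :
    orbVec σ c o ∈ eigSpace σ c := by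
  rw [mem_eigSpace]
  intro y
  by_cases hy : orbMk σ y = o
  · have hy' : orbMk σ (σ.symm y) = o := by rw [orbMk_symm, hy]
    obtain ⟨i, hi⟩ := exists_pow_out σ (σ.symm y)
    rw [hy'] at hi
    have hy2 : y = (σ ^ (i + 1)) o.out := by
      rw [pow_succ', Equiv.Perm.mul_apply, hi, Equiv.apply_symm_apply]
    have e1 : orbVec σ c o (σ.symm y) = c⁻¹ ^ i := by rw [← hi, orbVec_pow hc]
    have e2 : orbVec σ c o y = c⁻¹ ^ (i + 1) := by rw [hy2, orbVec_pow hc]
    rw [e1, e2, pow_succ, ← mul_assoc, mul_comm c, mul_assoc, mul_inv_cancel₀ hc0, mul_one]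
  · rw [orbVec_of_ne hy, orbVec_of_ne (by rwa [orbMk_symm]), mul_zero]

theorem finrank_eigSpace_le (σ : Equiv.Perm X) {c : ℂ} (hc0 : c ≠ 0) :
    finrank ℂ (eigSpace σ c) ≤ Nat.card {o : Orb σ // GoodOrb σ c o} := by
  have key : ∀ (w : X → ℂ), w ∈ eigSpace σ c → ∀ (i : ℕ) (x : X),
      w ((σ ^ i) x) = c⁻¹ ^ i * w x := by
    intro w hw i x
    induction i with
    | zero => simp
    | succ i ih =>
      have := mem_eigSpace.1 hw ((σ ^ (i + 1)) x)
      rw [show σ.symm ((σ ^ (i + 1)) x) = (σ ^ i) x by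
        rw [pow_succ', Equiv.Perm.mul_apply, Equiv.symm_apply_apply], ih] at this
      rw [pow_succ' c⁻¹, mul_assoc, this, inv_mul_cancel_left₀ hc0]
  let f : eigSpace σ c →ₗ[ℂ] ({o : Orb σ // GoodOrb σ c o} → ℂ) :=
    (LinearMap.funLeft ℂ ℂ fun o : {o : Orb σ // GoodOrb σ c o} => o.1.out).comp
      (eigSpace σ c).subtype
  have hf : Function.Injective f := by
    rw [← LinearMap.ker_eq_bot, LinearMap.ker_eq_bot']
    rintro ⟨w, hw⟩ h
    apply Subtype.ext
    funext y
    show w y = 0
    obtain ⟨i, hi⟩ := exists_pow_out σ y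
    rw [← hi, key w hw]
    suffices w (orbMk σ y).out = 0 by simp [this]
    by_cases hg : GoodOrb σ c (orbMk σ y)
    · exact congrFun h ⟨_, hg⟩
    · simp only [GoodOrb, not_forall] at hg
      obtain ⟨s, hs, hs'⟩ := hg
      have h2 := key w hw s (orbMk σ y).out
      rw [hs] at h2
      have h3 : c⁻¹ ^ s - 1 ≠ 0 := by
        rw [sub_ne_zero, inv_pow, Ne, inv_eq_one]; exact hs'
      exact (mul_eq_zero.1 (by rw [sub_mul, ← h2, one_mul, sub_self] :
        (c⁻¹ ^ s - 1) * w (orbMk σ y).out = 0)).resolve_left h3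
  haveI := Fintype.ofFinite {o : Orb σ // GoodOrb σ c o}
  calc finrank ℂ (eigSpace σ c)
      ≤ finrank ℂ ({o : Orb σ // GoodOrb σ c o} → ℂ) := LinearMap.finrank_le_finrank_of_injective hf
    _ = _ := by rw [Module.finrank_fintype_fun_eq_card, Nat.card_eq_fintype_card]

/-- Integral vectors whose reductions are independent are independent. -/
theorem linearIndependent_of_res (hM : IsPModular p M) {κ : Type*} [Fintype κ] [DecidableEq κ]
    (w : κ → X → locRing hM)
    (h : LinearIndependent (resField hM) (fun i x => resMap hM (w i x))) :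
    LinearIndependent ℂ (fun i x => (w i x : ℂ)) := by
  let v : κ → (X → resField hM) := fun i x => resMap hM (w i x)
  obtain ⟨g, hg⟩ := LinearMap.exists_leftInverse_of_injective
    (Fintype.linearCombination (resField hM) v)
    (LinearMap.ker_eq_bot.2 (linearIndependent_iff_injective_fintypeLinearCombination.1 h) |>.trans rfl)
  have hsurj : Function.Surjective (resMap hM) := Ideal.Quotient.mk_surjective
  choose L hL using fun (x : X) (j : κ) => hsurj (g (Pi.single x 1) j)
  let A : Matrix κ κ (locRing hM) := Matrix.of fun j i => ∑ x, L x j * w i x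
  have hA : (resMap hM).mapMatrix A = 1 := by
    ext j i
    have h1 : g (v i) = Pi.single i 1 := by
      have := LinearMap.congr_fun hg (Pi.single i (1 : resField hM))
      simpa [Fintype.linearCombination_apply_single] using this
    have h2 : g (v i) j = ∑ x, v i x * g (Pi.single x 1) j := by
      conv_lhs => rw [← Finset.univ_sum_single (v i)]
      rw [map_sum, Finset.sum_apply]
      refine Finset.sum_congr rfl fun x _ => ?_
      rw [show Pi.single (M := fun _ : X => resField hM) x (v i x) = v i x • Pi.single x 1 by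
        rw [← Pi.single_smul, smul_eq_mul, mul_one], map_smul]
      rfl
    rw [h1] at h2
    simp only [RingHom.mapMatrix_apply, Matrix.map_apply, A, Matrix.of_apply, map_sum, map_mul,
      Matrix.one_apply, hL]
    rw [Pi.single_apply] at h2
    rw [h2]
    exact Finset.sum_congr rfl fun x _ => mul_comm _ _
  have hdet : ((A.det : locRing hM) : ℂ) ≠ 0 := by
    intro h0
    have h1 : A.det = 0 := Subtype.ext h0
    have := (RingHom.map_det (resMap hM) A).symm
    rw [hA, Matrix.det_one, h1, map_zero] at this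
    exact one_ne_zero this
  rw [Fintype.linearIndependent_iff]
  intro c hc i
  have hAc : ((A.map (locRing hM).subtype) : Matrix κ κ ℂ).mulVec c = 0 := by
    funext j
    simp only [Matrix.mulVec, dotProduct, Matrix.map_apply, A, Matrix.of_apply, map_sum, map_mul,
      Finset.sum_mul, Pi.zero_apply]
    rw [Finset.sum_comm]
    refine Finset.sum_eq_zero fun x _ => ?_
    have := congrFun hc x
    simp only [Finset.sum_apply, Pi.smul_apply, smul_eq_mul, Pi.zero_apply] at this
    simp only [Subring.coe_subtype]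
    calc ∑ i, (L x j : ℂ) * (w i x : ℂ) * c i = (L x j : ℂ) * ∑ i, c i * (w i x : ℂ) := by
          rw [Finset.mul_sum]; exact Finset.sum_congr rfl fun i _ => by ring
      _ = 0 := by rw [this, mul_zero]
  have hd : (A.map (locRing hM).subtype : Matrix κ κ ℂ).det ≠ 0 := by
    have := RingHom.map_det (locRing hM).subtype A
    rw [RingHom.mapMatrix_apply] at this
    rw [← this]; exact hdet
  exact congrFun (Matrix.eq_zero_of_mulVec_eq_zero hd hAc) i

/-- Reduction does not increase dimension. -/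
theorem finrank_res_le (hM : IsPModular p M) {ι : Type*} (w : ι → X → locRing hM)
    (V : Submodule ℂ (X → ℂ)) (hw : ∀ i, (fun x => (w i x : ℂ)) ∈ V) :
    finrank (resField hM) (span (resField hM) (Set.range fun i x => resMap hM (w i x))) ≤
      finrank ℂ V := by
  classical
  obtain ⟨κ, a, -, hspan, hli⟩ := exists_linearIndependent' (resField hM)
    (fun i x => resMap hM (w i x))
  haveI : Finite κ := hli.finite
  haveI := Fintype.ofFinite κ
  rw [← hspan, finrank_span_eq_card hli]
  have h1 := linearIndependent_of_res hM (fun i => w (a i)) hli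
  have h2 : LinearIndependent ℂ (fun i : κ => (⟨_, hw (a i)⟩ : V)) :=
    LinearIndependent.of_comp V.subtype h1
  exact h2.fintype_card_le_finrank

variable (hM : IsPModular p M)

/-- The indicator of a cycle over the residue field. -/
noncomputable def orbInd (σ : Equiv.Perm X) (o : Orb σ) : X → resField hM := fun y =>
  haveI := Classical.propDecidable (orbMk σ y = o)
  if orbMk σ y = o then 1 else 0

/-- The span of cycle indicators. -/
noncomputable def orbSpan (σ : Equiv.Perm X) (P : Orb σ → Prop) :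
    Submodule (resField hM) (X → resField hM) :=
  span (resField hM) (Set.range fun o : {o : Orb σ // P o} => orbInd hM σ o.1)

theorem orbInd_linearIndependent (σ : Equiv.Perm X) :
    LinearIndependent (resField hM) (orbInd hM σ) := by
  classical
  rw [Fintype.linearIndependent_iff]
  intro c hc o
  have := congrFun hc o.out
  simp only [Finset.sum_apply, Pi.smul_apply, smul_eq_mul, Pi.zero_apply, orbInd] at this
  rw [Finset.sum_eq_single o] at this
  · have ho : orbMk σ o.out = o := Quotient.out_eq o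
    simpa [ho] using this
  · intro o' _ hne
    have ho : orbMk σ o.out = o := Quotient.out_eq o
    simp [ho, Ne.symm hne]
  · simp

theorem finrank_orbSpan (σ : Equiv.Perm X) (P : Orb σ → Prop) :
    finrank (resField hM) (orbSpan hM σ P) = Nat.card {o : Orb σ // P o} := by
  haveI := Fintype.ofFinite {o : Orb σ // P o}
  rw [Nat.card_eq_fintype_card]
  exact finrank_span_eq_card ((orbInd_linearIndependent hM σ).comp _ Subtype.val_injective)

/-- The reduction of an integral matrix as a linear map. -/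
noncomputable def resLin (E : Matrix X X ℂ) (hE : ∀ a b, E a b ∈ locRing hM) :
    (X → resField hM) →ₗ[resField hM] (X → resField hM) :=
  Matrix.mulVecLin (Matrix.of fun a b => resMap hM ⟨E a b, hE a b⟩)

theorem resLin_res (E : Matrix X X ℂ) (hE : ∀ a b, E a b ∈ locRing hM) (w : X → locRing hM)
    (y : X) :
    resLin hM E hE (fun x => resMap hM (w x)) y =
      resMap hM (∑ x, (⟨E y x, hE y x⟩ : locRing hM) * w x) := by
  simp [resLin, Matrix.mulVec, dotProduct, map_sum]

/-- Lower bound for the dimension of the image of an eigen space under an integral matrix. -/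
theorem finrank_map_eig_ge (σ : Equiv.Perm X) {q : ℕ} (hσ : σ ^ q = 1) {k : ℕ} (hq : q = p ^ k)
    {c : ℂ} (hc : c ^ q = 1) (E : Matrix X X ℂ) (hE : ∀ a b, E a b ∈ locRing hM) :
    finrank (resField hM) ((orbSpan hM σ (GoodOrb σ c)).map (resLin hM E hE)) ≤
      finrank ℂ ((eigSpace σ c).map E.mulVecLin) := by
  classical
  have hqpos : 0 < q := hq ▸ pow_pos hM.1.pos k
  have hc0 : c ≠ 0 := fun h => by simp [h, hqpos.ne'] at hc
  have hci : c⁻¹ ^ q = 1 := by rw [inv_pow, hc, inv_one]
  have hcmem : c⁻¹ ∈ locRing hM := root_of_unity_mem_locRing hM hqpos hci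
  have hcres : resMap hM ⟨c⁻¹, hcmem⟩ = 1 := by
    rw [← map_one (resMap hM), resMap_eq_iff]
    exact memLocalIdeal_sub_one_of_pow_prime_pow hM (hq ▸ hci)
  have hint : ∀ (o : Orb σ) (x : X), orbVec σ c o x ∈ locRing hM := by
    intro o x
    unfold orbVec
    split_ifs with h
    · exact pow_mem hcmem _
    · exact zero_mem _
  let w : {o : Orb σ // GoodOrb σ c o} → X → locRing hM := fun o x => ⟨_, hint o.1 x⟩
  have hred : ∀ o x, resMap hM (w o x) = orbInd hM σ o.1 x := by
    intro o x
    by_cases hx : orbMk σ x = o.1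
    · have : w o x = (⟨c⁻¹, hcmem⟩ : locRing hM) ^ (exists_pow_out σ x).choose := by
        apply Subtype.ext
        simp only [w, orbVec, if_pos hx, SubmonoidClass.coe_pow]
      rw [this, map_pow, hcres, one_pow, orbInd, if_pos hx]
    · have : w o x = 0 := Subtype.ext (orbVec_of_ne hx)
      rw [this, map_zero, orbInd, if_neg hx]
  let w' : {o : Orb σ // GoodOrb σ c o} → X → locRing hM := fun o y =>
    ∑ x, (⟨E y x, hE y x⟩ : locRing hM) * w o x
  have hspan : (orbSpan hM σ (GoodOrb σ c)).map (resLin hM E hE) =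
      span (resField hM) (Set.range fun o y => resMap hM (w' o y)) := by
    rw [orbSpan, Submodule.map_span, ← Set.range_comp]
    refine congrArg (fun f => span (resField hM) (Set.range f)) (funext fun o => funext fun y => ?_)
    have : orbInd hM σ o.1 = fun x => resMap hM (w o x) := funext fun x => (hred o x).symm
    simp only [Function.comp_apply, this, resLin_res, w']
  rw [hspan]
  refine finrank_res_le hM w' _ fun o => ⟨orbVec σ c o.1, orbVec_mem hc0 o.2, ?_⟩
  funext y
  simp [w', w, Matrix.mulVec, dotProduct]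

theorem mulVecLin_comm (σ : Equiv.Perm X) (E : Matrix X X ℂ)
    (hcomm : ∀ a b, E (σ a) (σ b) = E a b) :
    E.mulVecLin ∘ₗ permOp σ = permOp σ ∘ₗ E.mulVecLin := by
  refine LinearMap.ext fun w => funext fun y => ?_
  simp only [LinearMap.comp_apply, Matrix.mulVecLin_apply, permOp_apply, Matrix.mulVec, dotProduct]
  refine (Fintype.sum_equiv σ _ _ fun x => ?_).symm
  rw [Equiv.symm_apply_apply, ← hcomm, Equiv.apply_symm_apply]

theorem mapsTo_eig (σ : Equiv.Perm X) (c : ℂ) (E : Matrix X X ℂ)
    (hcomm : ∀ a b, E (σ a) (σ b) = E a b) {w : X → ℂ} (hw : w ∈ eigSpace σ c) :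
    E.mulVecLin w ∈ eigSpace σ c := by
  simp only [eigSpace, LinearMap.mem_ker, LinearMap.sub_apply, LinearMap.smul_apply,
    Module.End.one_apply, sub_eq_zero] at hw ⊢
  have := LinearMap.congr_fun (mulVecLin_comm σ E hcomm) w
  simp only [LinearMap.comp_apply] at this
  rw [← this, hw, map_smul]

theorem finrank_map_idem_add {K V : Type*} [Field K] [AddCommGroup V] [Module K V]
    [FiniteDimensional K V] (e : V →ₗ[K] V) (he : e ∘ₗ e = e) (W : Submodule K V) :
    finrank K W ≤ finrank K (W.map e) + finrank K (W.map (LinearMap.id - e)) ∧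
      (W.map e ≤ W → finrank K (W.map e) + finrank K (W.map (LinearMap.id - e)) = finrank K W) := by
  have hdis : Disjoint (W.map e) (W.map (LinearMap.id - e)) := by
    rw [disjoint_iff_inf_le]
    rintro v ⟨⟨a, -, ha⟩, ⟨b, -, hb⟩⟩
    have h1 : e v = v := by rw [← ha]; exact LinearMap.congr_fun he a
    have h2 : e v = 0 := by
      rw [← hb]
      simp only [LinearMap.sub_apply, LinearMap.id_apply, map_sub]
      rw [show e (e b) = e b from LinearMap.congr_fun he b, sub_self]
    simpa [h1] using h2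
  have hle : W ≤ W.map e ⊔ W.map (LinearMap.id - e) := fun v hv => by
    rw [show v = e v + (LinearMap.id - e : V →ₗ[K] V) v by simp]
    exact add_mem (mem_sup_left ⟨v, hv, rfl⟩) (mem_sup_right ⟨v, hv, rfl⟩)
  have hsum := Submodule.finrank_sup_add_finrank_inf_eq (W.map e) (W.map (LinearMap.id - e))
  rw [disjoint_iff.1 hdis, finrank_bot, add_zero] at hsum
  refine ⟨hsum ▸ Submodule.finrank_mono hle, fun hW => ?_⟩
  rw [← hsum]
  refine le_antisymm (Submodule.finrank_mono (sup_le hW ?_)) (Submodule.finrank_mono hle)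
  rintro _ ⟨v, hv, rfl⟩
  exact sub_mem hv (hW ⟨v, hv, rfl⟩)

theorem finrank_map_eig_eq (σ : Equiv.Perm X) {q : ℕ} (hσ : σ ^ q = 1) {k : ℕ} (hq : q = p ^ k)
    {c : ℂ} (hc : c ^ q = 1) (E : Matrix X X ℂ) (hE : ∀ a b, E a b ∈ locRing hM)
    (hidem : E * E = E) (hcomm : ∀ a b, E (σ a) (σ b) = E a b) :
    finrank ℂ ((eigSpace σ c).map E.mulVecLin) =
      finrank (resField hM) ((orbSpan hM σ (GoodOrb σ c)).map (resLin hM E hE)) := by
  have hqpos : 0 < q := hq ▸ pow_pos hM.1.pos k
  have hc0 : c ≠ 0 := fun h => by simp [h, hqpos.ne'] at hc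
  have hE1 : ∀ a b, (1 - E) a b ∈ locRing hM := fun a b => by
    rw [Matrix.sub_apply]
    refine sub_mem ?_ (hE a b)
    rw [Matrix.one_apply]
    split_ifs
    · exact one_mem _
    · exact zero_mem _
  have h1 := finrank_map_eig_ge hM σ hσ hq hc E hE
  have h2 := finrank_map_eig_ge hM σ hσ hq hc (1 - E) hE1
  have hres : resLin hM (1 - E) hE1 = LinearMap.id - resLin hM E hE := by
    have : (Matrix.of fun a b => resMap hM ⟨(1 - E) a b, hE1 a b⟩) =
        1 - Matrix.of fun a b => resMap hM ⟨E a b, hE a b⟩ := by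
      ext a b
      have key : (⟨(1 - E) a b, hE1 a b⟩ : locRing hM) =
          (if a = b then 1 else 0) - ⟨E a b, hE a b⟩ := Subtype.ext (by
        split_ifs with hab <;> simp [Matrix.one_apply, hab])
      rw [Matrix.of_apply, key, map_sub, Matrix.sub_apply, Matrix.one_apply, Matrix.of_apply]
      split_ifs <;> simp
    rw [resLin, resLin, this]
    refine LinearMap.ext fun w => ?_
    simp [Matrix.sub_mulVec]
  have hone : (1 - E).mulVecLin = LinearMap.id - E.mulVecLin := by
    refine LinearMap.ext fun w => ?_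
    simp [Matrix.sub_mulVec]
  have hidemk : resLin hM E hE ∘ₗ resLin hM E hE = resLin hM E hE := by
    rw [resLin, ← Matrix.mulVecLin_mul]
    congr 1
    let Ei : Matrix X X (locRing hM) := Matrix.of fun a b => ⟨E a b, hE a b⟩
    have hEi : Ei * Ei = Ei := by
      have hinj : Function.Injective (fun A : Matrix X X (locRing hM) =>
          A.map (locRing hM).subtype) := Matrix.map_injective Subtype.val_injective
      apply hinj
      simp only [Matrix.map_mul]
      exact hidem
    rw [show (Matrix.of fun a b => resMap hM ⟨E a b, hE a b⟩) = Ei.map (resMap hM) from rfl,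
      ← Matrix.map_mul, hEi]
  have hidemC : E.mulVecLin ∘ₗ E.mulVecLin = E.mulVecLin := by
    rw [← Matrix.mulVecLin_mul, hidem]
  have h3 := (finrank_map_idem_add _ hidemk (orbSpan hM σ (GoodOrb σ c))).1
  rw [finrank_orbSpan] at h3
  have h4 := (finrank_map_idem_add _ hidemC (eigSpace σ c)).2
    (by rintro _ ⟨w, hw, rfl⟩; exact mapsTo_eig σ c E hcomm hw)
  have h5 := finrank_eigSpace_le σ hc0
  rw [hres, hone] at h2
  omega

/-- The projection to an eigen space of the permutation operator. -/
noncomputable def eigProj (σ : Equiv.Perm X) (q : ℕ) (c : ℂ) : (X → ℂ) →ₗ[ℂ] (X → ℂ) :=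
  (q : ℂ)⁻¹ • ∑ s ∈ Finset.range q, c⁻¹ ^ s • permOp σ ^ s

theorem permOp_comp_eigProj (σ : Equiv.Perm X) {q : ℕ} (hσ : σ ^ q = 1) {c : ℂ} (hc0 : c ≠ 0)
    (hc : c ^ q = 1) : permOp σ * eigProj σ q c = c • eigProj σ q c := by
  rw [eigProj, mul_smul_comm, smul_comm c]
  congr 1
  rw [Finset.mul_sum, Finset.smul_sum]
  let f : ℕ → ((X → ℂ) →ₗ[ℂ] (X → ℂ)) := fun s => (c * c⁻¹ ^ s) • permOp σ ^ s
  have e1 : ∀ s ∈ Finset.range q, permOp σ * c⁻¹ ^ s • permOp σ ^ s = f (s + 1) := fun s _ => by
    simp only [f]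
    rw [mul_smul_comm, ← pow_succ', pow_succ' c⁻¹ s, ← mul_assoc, mul_inv_cancel₀ hc0, one_mul]
  have e2 : ∀ s ∈ Finset.range q, c • c⁻¹ ^ s • permOp σ ^ s = f s := fun s _ => by
    simp only [f, smul_smul]
  rw [Finset.sum_congr rfl e1, Finset.sum_congr rfl e2]
  have hfq : f q = f 0 := by simp [f, permOp_pow_eq_one σ hσ, inv_pow, hc]
  have := Finset.sum_range_succ' f q
  rw [Finset.sum_range_succ f q, hfq] at this
  exact (add_right_cancel this).symm

theorem eigProj_eq_on_eig (σ : Equiv.Perm X) {q : ℕ} (hq : 0 < q) {c : ℂ} (hc0 : c ≠ 0)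
    {w : X → ℂ} (hw : w ∈ eigSpace σ c) : eigProj σ q c w = w := by
  have hp : ∀ s : ℕ, (permOp σ ^ s) w = c ^ s • w := by
    intro s
    induction s with
    | zero => simp
    | succ s ih =>
      rw [pow_succ', Module.End.mul_apply, ih, map_smul]
      have : permOp σ w = c • w := funext fun y => mem_eigSpace.1 hw y
      rw [this, smul_smul, pow_succ]
  simp only [eigProj, LinearMap.smul_apply, LinearMap.sum_apply, hp, smul_smul]
  have : ∀ s ∈ Finset.range q, (c⁻¹ ^ s * c ^ s) • w = w := fun s _ => by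
    rw [inv_pow, inv_mul_cancel₀ (pow_ne_zero _ hc0), one_smul]
  rw [Finset.sum_congr rfl this, Finset.sum_const, Finset.card_range, ← Nat.cast_smul_eq_nsmul ℂ,
    smul_smul, inv_mul_cancel₀ (by exact_mod_cast hq.ne'), one_smul]

theorem trace_eigProj_comp (σ : Equiv.Perm X) {q : ℕ} (hq : 0 < q) (hσ : σ ^ q = 1) {c : ℂ}
    (hc : c ^ q = 1) (E : Matrix X X ℂ) (hidem : E * E = E)
    (hcomm : ∀ a b, E (σ a) (σ b) = E a b) :
    LinearMap.trace ℂ _ (eigProj σ q c ∘ₗ E.mulVecLin) =
      (finrank ℂ ((eigSpace σ c).map E.mulVecLin) : ℂ) := by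
  have hc0 : c ≠ 0 := fun h => by simp [h, hq.ne'] at hc
  have hmem : ∀ v, eigProj σ q c v ∈ eigSpace σ c := fun v => by
    have := LinearMap.congr_fun (permOp_comp_eigProj σ hσ hc0 hc) v
    simp only [Module.End.mul_apply, LinearMap.smul_apply] at this
    simp [eigSpace, LinearMap.mem_ker, this]
  have hcommF : ∀ v, eigProj σ q c (E.mulVecLin v) = E.mulVecLin (eigProj σ q c v) := fun v => by
    have hp : ∀ (s : ℕ) (v), (permOp σ ^ s) (E.mulVecLin v) = E.mulVecLin ((permOp σ ^ s) v) := by
      intro s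
      induction s with
      | zero => simp
      | succ s ih =>
        intro v
        rw [pow_succ, Module.End.mul_apply, Module.End.mul_apply, ← ih]
        exact congrArg _ (LinearMap.congr_fun (mulVecLin_comm σ E hcomm) v).symm
    simp only [eigProj, LinearMap.smul_apply, LinearMap.sum_apply, hp, map_smul, map_sum]
  have hproj : LinearMap.IsProj ((eigSpace σ c).map E.mulVecLin)
      (eigProj σ q c ∘ₗ E.mulVecLin) := by
    refine ⟨fun v => ⟨eigProj σ q c v, hmem v, (hcommF v).symm⟩, ?_⟩
    rintro _ ⟨w, hw, rfl⟩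
    have h2 : E.mulVecLin (E.mulVecLin w) = E.mulVecLin w := by
      rw [← LinearMap.comp_apply, ← Matrix.mulVecLin_mul, hidem]
    simp only [LinearMap.comp_apply]
    rw [h2, eigProj_eq_on_eig σ hq hc0 (mapsTo_eig σ c E hcomm hw)]
  exact hproj.trace

theorem trace_permOp_comp (σ : Equiv.Perm X) (E : Matrix X X ℂ) :
    LinearMap.trace ℂ _ (permOp σ ∘ₗ E.mulVecLin) = ∑ x, E x (σ x) := by
  rw [LinearMap.trace_eq_matrix_trace ℂ (Pi.basisFun ℂ X), Matrix.trace]
  refine Fintype.sum_equiv σ.symm _ _ fun y => ?_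
  simp [Matrix.diag, LinearMap.toMatrix_apply, permOp_apply, Equiv.apply_symm_apply]

/-- The set of cycles of length at least two. -/
def NonFixedOrb (σ : Equiv.Perm X) (o : Orb σ) : Prop := σ o.out ≠ o.out

include hM in
/-- The trace formula. -/
theorem trace_perm_idem_eq (σ : Equiv.Perm X) {k : ℕ} (hσ : σ ^ (p ^ k) = 1) (E : Matrix X X ℂ)
    (hE : ∀ a b, E a b ∈ locRing hM) (hidem : E * E = E)
    (hcomm : ∀ a b, E (σ a) (σ b) = E a b) :
    ∑ x, E x (σ x) =
      (finrank (resField hM) ((orbSpan hM σ fun _ => True).map (resLin hM E hE)) : ℂ) -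
      (finrank (resField hM) ((orbSpan hM σ (NonFixedOrb σ)).map (resLin hM E hE)) : ℂ) := by
  classical
  set q := p ^ k with hq
  have hqpos : 0 < q := pow_pos hM.1.pos k
  obtain ⟨ζ, hζ⟩ : ∃ ζ : ℂ, IsPrimitiveRoot ζ q := ⟨_, Complex.isPrimitiveRoot_exp q hqpos.ne'⟩
  let D : (Orb σ → Prop) → ℂ := fun P =>
    (finrank (resField hM) ((orbSpan hM σ P).map (resLin hM E hE)) : ℂ)
  have hroot : ∀ j : ℕ, (ζ ^ j) ^ q = 1 := fun j => by
    rw [← pow_mul, mul_comm, pow_mul, hζ.pow_eq_one, one_pow]
  have hdecomp : permOp σ = ∑ j ∈ Finset.range q, ζ ^ j • eigProj σ q (ζ ^ j) := by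
    have hq0 : (q : ℂ) ≠ 0 := by exact_mod_cast hqpos.ne'
    have hsum : ∀ s ∈ Finset.range q, (∑ j ∈ Finset.range q, ζ ^ j * (ζ ^ j)⁻¹ ^ s) =
        if s = 1 % q then (q : ℂ) else 0 := by
      intro s hs
      rw [Finset.mem_range] at hs
      have hz0 : ζ ≠ 0 := hζ.ne_zero hqpos.ne'
      have e : ∀ j, ζ ^ j * (ζ ^ j)⁻¹ ^ s = (ζ * ζ⁻¹ ^ s) ^ j := fun j => by
        rw [mul_pow, inv_pow, inv_pow, inv_pow, ← pow_mul, ← pow_mul, mul_comm j s]
      simp only [e]
      have h1 : ζ * ζ⁻¹ ^ s = 1 ↔ s = 1 % q := by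
        rw [inv_pow, ← div_eq_mul_inv, div_eq_one_iff_eq (pow_ne_zero _ hz0)]
        conv_lhs => lhs; rw [← pow_one ζ]
        rw [← pow_mod_orderOf, ← hζ.eq_orderOf]
        exact ⟨fun h => (hζ.pow_inj (Nat.mod_lt _ hqpos) hs h).symm, fun h => by rw [h]⟩
      by_cases hs1 : s = 1 % q
      · rw [if_pos hs1, h1.2 hs1]; simp
      · rw [if_neg hs1]
        have hne : ζ * ζ⁻¹ ^ s ≠ 1 := fun h => hs1 (h1.1 h)
        have hpw : (ζ * ζ⁻¹ ^ s) ^ q = 1 := by
          rw [mul_pow, inv_pow, inv_pow, ← pow_mul, mul_comm s q, pow_mul, hζ.pow_eq_one]; simp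
        have := geom_sum_mul (ζ * ζ⁻¹ ^ s) q
        rw [hpw, sub_self, mul_eq_zero] at this
        exact this.resolve_right (sub_ne_zero.2 hne)
    simp only [eigProj, Finset.smul_sum, smul_smul]
    rw [Finset.sum_comm]
    calc permOp σ = permOp σ ^ (1 % q) := by
          rw [← pow_eq_pow_mod _ (permOp_pow_eq_one σ hσ), pow_one]
      _ = ∑ s ∈ Finset.range q, ((q : ℂ)⁻¹ * if s = 1 % q then (q : ℂ) else 0) • permOp σ ^ s := by
          rw [Finset.sum_eq_single (1 % q)]
          · rw [if_pos rfl, inv_mul_cancel₀ hq0, one_smul]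
          · intro s _ hs; rw [if_neg hs, mul_zero, zero_smul]
          · intro h; exact absurd (Finset.mem_range.2 (Nat.mod_lt _ hqpos)) h
      _ = _ := by
          refine Finset.sum_congr rfl fun s hs => ?_
          rw [← hsum s hs, Finset.mul_sum, Finset.sum_smul]
          exact Finset.sum_congr rfl fun j _ => by rw [mul_left_comm, ← mul_assoc]
  have h1 : ∑ x, E x (σ x) = ∑ j ∈ Finset.range q, ζ ^ j * D (GoodOrb σ (ζ ^ j)) := by
    rw [← trace_permOp_comp σ E, hdecomp]
    rw [show (∑ j ∈ Finset.range q, ζ ^ j • eigProj σ q (ζ ^ j)) ∘ₗ E.mulVecLin =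
      ∑ j ∈ Finset.range q, ζ ^ j • (eigProj σ q (ζ ^ j) ∘ₗ E.mulVecLin) by
        refine LinearMap.ext fun w => ?_
        simp [LinearMap.sum_apply]]
    rw [map_sum]
    refine Finset.sum_congr rfl fun j _ => ?_
    rw [map_smul, smul_eq_mul, trace_eigProj_comp σ hqpos hσ (hroot j) E hidem hcomm,
      finrank_map_eig_eq hM σ hσ hq (hroot j) E hE hidem hcomm]
  let D' : ℂ → ℂ := fun c => D fun o => GoodOrb σ c o ∧ NonFixedOrb σ o
  have hgoodfix : ∀ c : ℂ, c ≠ 1 → ∀ o, GoodOrb σ c o → NonFixedOrb σ o := fun c hc o ho hfix =>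
    hc (by simpa using ho 1 (by simpa using hfix))
  have hgood1 : ∀ o, GoodOrb σ 1 o := fun o s _ => one_pow s
  rcases Nat.eq_zero_or_pos k with hk0 | hk0
  · have hq1 : q = 1 := by rw [hq, hk0, pow_zero]
    have hσ1 : σ = 1 := by simpa [hq1] using hσ
    have hnone : D (NonFixedOrb σ) = 0 := by
      have : orbSpan hM σ (NonFixedOrb σ) = ⊥ := by
        rw [orbSpan, Submodule.span_eq_bot]
        rintro _ ⟨⟨o, ho⟩, rfl⟩
        exact absurd (by simp [hσ1]) ho
      simp [D, this]
    rw [h1, hq1, Finset.sum_range_one, pow_zero, one_mul]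
    show _ = D (fun _ => True) - D (NonFixedOrb σ)
    rw [hnone, sub_zero]
    congr 1
    funext o
    simp [hgood1]
  · set μ : ℂ := ζ ^ (p ^ (k - 1)) with hμ
    have hμp : μ ^ p = 1 := by
      rw [hμ, ← pow_mul, ← pow_succ, Nat.sub_add_cancel hk0]; exact hζ.pow_eq_one
    have hμ1 : μ ≠ 1 := fun h =>
      Nat.not_dvd_of_pos_of_lt (pow_pos hM.1.pos _)
        (Nat.pow_lt_pow_right hM.1.one_lt (by omega)) (hζ.dvd_of_pow_eq_one _ h)
    have hperiod : ∀ o, NonFixedOrb σ o → ∀ s, (σ ^ s) o.out = o.out → p ∣ s := by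
      intro o ho s hs
      by_contra hps
      have hcop : Nat.Coprime s q := (Nat.Coprime.pow_right k
        ((hM.1.coprime_iff_not_dvd).2 hps).symm)
      obtain ⟨m, hm⟩ := Nat.exists_mul_mod_eq_one_of_coprime hcop (Nat.one_lt_pow hk0.ne' hM.1.one_lt)
      have hfix : ∀ m : ℕ, (σ ^ (s * m)) o.out = o.out := by
        intro m
        induction m with
        | zero => simp
        | succ m ih => rw [Nat.mul_succ, pow_add, Equiv.Perm.mul_apply, hs, ih]
      have := hfix m
      rw [pow_eq_pow_mod _ hσ, hm.2, pow_one] at this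
      exact ho this
    have hshift : ∀ c : ℂ, ∀ o, (GoodOrb σ (μ * c) o ∧ NonFixedOrb σ o) ↔
        (GoodOrb σ c o ∧ NonFixedOrb σ o) := fun c o => by
      constructor
      · rintro ⟨hg, hn⟩
        refine ⟨fun s hs => ?_, hn⟩
        obtain ⟨t, ht⟩ := hperiod o hn s hs
        have h := hg s hs
        rwa [mul_pow, ht, pow_mul, hμp, one_pow, one_mul, ← ht] at h
      · rintro ⟨hg, hn⟩
        refine ⟨fun s hs => ?_, hn⟩
        obtain ⟨t, ht⟩ := hperiod o hn s hs
        rw [mul_pow, hg s hs, mul_one, ht, pow_mul, hμp, one_pow]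
    have hS : ∑ j ∈ Finset.range q, ζ ^ j * D' (ζ ^ j) = 0 := by
      set S := ∑ j ∈ Finset.range q, ζ ^ j * D' (ζ ^ j) with hSdef
      have hS' : μ * S = S := by
        have e : ∀ j, μ * (ζ ^ j * D' (ζ ^ j)) =
            ζ ^ ((j + p ^ (k - 1)) % q) * D' (ζ ^ ((j + p ^ (k - 1)) % q)) := fun j => by
          rw [← pow_eq_pow_mod _ hζ.pow_eq_one, pow_add, mul_comm (ζ ^ j) (ζ ^ p ^ (k - 1)), ← hμ,
            mul_assoc]
          congr 2
          exact congrArg D (funext fun o => propext (hshift _ o).symm)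
        rw [hSdef, Finset.mul_sum]
        simp only [e]
        have hlt : p ^ (k - 1) < q := Nat.pow_lt_pow_right hM.1.one_lt (by omega)
        refine Finset.sum_nbij' (fun j => (j + p ^ (k - 1)) % q)
          (fun j => (j + (q - p ^ (k - 1))) % q) ?_ ?_ ?_ ?_ (fun _ _ => rfl)
        · intro j _; simp [Nat.mod_lt _ hqpos]
        · intro j _; simp [Nat.mod_lt _ hqpos]
        · intro j hj
          replace hj : j < q := by simpa using hj
          rw [Nat.mod_add_mod, add_assoc, Nat.add_sub_cancel' hlt.le, Nat.add_mod_right,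
            Nat.mod_eq_of_lt hj]
        · intro j hj
          replace hj : j < q := by simpa using hj
          rw [Nat.mod_add_mod, add_assoc, Nat.sub_add_cancel hlt.le, Nat.add_mod_right,
            Nat.mod_eq_of_lt hj]
      exact (mul_eq_zero.1 (by rw [sub_mul, hS', one_mul, sub_self] : (μ - 1) * S = 0)).resolve_left
        (sub_ne_zero.2 hμ1)
    have hsplit : ∀ j ∈ Finset.range q, ζ ^ j * D (GoodOrb σ (ζ ^ j)) - ζ ^ j * D' (ζ ^ j) =
        if j = 0 then D (fun _ => True) - D (NonFixedOrb σ) else 0 := by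
      intro j hj
      rw [Finset.mem_range] at hj
      by_cases hj0 : j = 0
      · subst hj0
        rw [if_pos rfl, pow_zero, one_mul, one_mul]
        congr 1
        · congr 1; funext o; simp [hgood1]
        · show D _ = D _
          congr 1; funext o; simp [hgood1]
      · rw [if_neg hj0, sub_eq_zero]
        congr 1
        show D _ = D _
        congr 1
        funext o
        exact propext ⟨fun h => ⟨h, hgoodfix _ (hζ.pow_ne_one_of_pos_of_lt hj0 hj) o h⟩, And.left⟩
    calc ∑ x, E x (σ x)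
        = ∑ j ∈ Finset.range q, ζ ^ j * D (GoodOrb σ (ζ ^ j)) -
            ∑ j ∈ Finset.range q, ζ ^ j * D' (ζ ^ j) := by rw [hS, sub_zero, h1]
      _ = D (fun _ => True) - D (NonFixedOrb σ) := by
          rw [← Finset.sum_sub_distrib, Finset.sum_congr rfl hsplit, Finset.sum_ite_eq' , if_pos]
          simp [hqpos]

include hM in
/-- The trace of a permutation times a commuting integral idempotent is a natural number. -/
theorem exists_nat_trace_perm_idem (σ : Equiv.Perm X) {k : ℕ} (hσ : σ ^ (p ^ k) = 1)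
    (E : Matrix X X ℂ) (hE : ∀ a b, E a b ∈ locRing hM) (hidem : E * E = E)
    (hcomm : ∀ a b, E (σ a) (σ b) = E a b) : ∃ n : ℕ, ∑ x, E x (σ x) = (n : ℂ) := by
  refine ⟨finrank (resField hM) ((orbSpan hM σ fun _ => True).map (resLin hM E hE)) -
    finrank (resField hM) ((orbSpan hM σ (NonFixedOrb σ)).map (resLin hM E hE)), ?_⟩
  rw [trace_perm_idem_eq hM σ hσ E hE hidem hcomm, Nat.cast_sub]
  refine Submodule.finrank_mono (Submodule.map_mono (span_mono ?_))
  rintro _ ⟨⟨o, _⟩, rfl⟩
  exact ⟨⟨o, trivial⟩, rfl⟩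

include hM in
/-- If the fixed block vanishes modulo `M`, the trace is zero. -/
theorem trace_perm_idem_eq_zero (σ : Equiv.Perm X) {k : ℕ} (hσ : σ ^ (p ^ k) = 1)
    (E : Matrix X X ℂ) (hE : ∀ a b, E a b ∈ locRing hM) (hidem : E * E = E)
    (hcomm : ∀ a b, E (σ a) (σ b) = E a b)
    (hfix : ∀ x y, σ x = x → σ y = y → MemLocalIdeal M (E y x)) : ∑ x, E x (σ x) = 0 := by
  classical
  rw [trace_perm_idem_eq hM σ hσ E hE hidem hcomm, sub_eq_zero]
  congr 1
  set e := resLin hM E hE with he
  suffices h : (orbSpan hM σ fun _ => True).map e = (orbSpan hM σ (NonFixedOrb σ)).map e by rw [h]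
  refine le_antisymm ?_ (Submodule.map_mono (span_mono ?_))
  · rw [orbSpan, Submodule.map_span, span_le]
    rintro _ ⟨_, ⟨⟨o, -⟩, rfl⟩, rfl⟩
    by_cases hn : NonFixedOrb σ o
    · exact ⟨orbInd hM σ o, subset_span ⟨⟨o, hn⟩, rfl⟩, rfl⟩
    · have hx : σ o.out = o.out := not_not.1 hn
      set x := o.out with hxdef
      have hind : orbInd hM σ o = Pi.single x (1 : resField hM) := by
        funext y
        unfold orbInd
        by_cases hy : y = x
        · subst hy
          rw [if_pos (show orbMk σ o.out = o from Quotient.out_eq o), Pi.single_eq_same]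
        · rw [Pi.single_eq_of_ne hy, if_neg]
          intro h
          obtain ⟨i, hi⟩ := exists_pow_out σ y
          rw [h, ← hxdef] at hi
          apply hy
          rw [← hi]
          clear hi
          induction i with
          | zero => rfl
          | succ i ih => rw [pow_succ, Equiv.Perm.mul_apply, hx, ih]
      let v : X → resField hM := fun y => resMap hM ⟨E y x, hE y x⟩
      have hev : e (orbInd hM σ o) = v := by
        funext y
        simp [he, resLin, hind, v]
      have hvW : v ∈ orbSpan hM σ (NonFixedOrb σ) := by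
        have hv0 : ∀ (i : ℕ) (y : X), v ((σ ^ i) y) = v y := by
          intro i y
          induction i with
          | zero => rfl
          | succ i ih =>
            rw [← ih]
            simp only [v, pow_succ', Equiv.Perm.mul_apply]
            congr 1
            apply Subtype.ext
            calc E (σ ((σ ^ i) y)) x = E (σ ((σ ^ i) y)) (σ x) := by rw [hx]
              _ = _ := hcomm _ _
        have hveq : v = ∑ o' : Orb σ, v o'.out • orbInd hM σ o' := by
          funext y
          simp only [Finset.sum_apply, Pi.smul_apply, smul_eq_mul, orbInd]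
          rw [Finset.sum_eq_single (orbMk σ y)]
          · rw [if_pos rfl, mul_one]
            obtain ⟨i, hi⟩ := exists_pow_out σ y
            conv_lhs => rw [← hi, hv0]
          · intro o' _ ho'
            rw [if_neg (Ne.symm ho'), mul_zero]
          · simp
        rw [hveq]
        refine Submodule.sum_mem _ fun o' _ => ?_
        by_cases hn' : NonFixedOrb σ o'
        · exact smul_mem _ _ (subset_span ⟨⟨o', hn'⟩, rfl⟩)
        · have : v o'.out = 0 := (resMap_eq_zero_iff hM).2 (hfix x _ hx (not_not.1 hn'))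
          rw [this, zero_smul]
          exact zero_mem _
      show e (orbInd hM σ o) ∈ _
      refine ⟨v, hvW, ?_⟩
      rw [← hev]
      -- idempotency of the reduced map
      have hidemC : E * E = E := hidem
      funext y
      simp only [hev]
      rw [show e v y = resMap hM (∑ z, (⟨E y z, hE y z⟩ : locRing hM) * ⟨E z x, hE z x⟩) from
        resLin_res hM E hE _ y]
      congr 1
      apply Subtype.ext
      have := congrFun (congrFun hidemC y) x
      simpa [Matrix.mul_apply] using this
  · rintro _ ⟨⟨o, _⟩, rfl⟩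
    exact ⟨⟨o, trivial⟩, rfl⟩

end Cfsg.Lib.Block
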