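import Cfsg.Agent.Lib.Block.BrauerFeit
import Cfsg.Agent.Lib.Block.CyclicPrimeApps
import Cfsg.Agent.Lib.Block.Vanish
import Cfsg.Agent.Lib.Block.DegreesPrime
import Cfsg.Agent.Lib.Char.Central

/-!
# Characters of prime power degree when one prime divides the order at most twice
-/

set_option autoImplicit false
set_option linter.unusedSectionVars false
set_option linter.style.haveILetI false

namespace Cfsg.Lib.Block

open Cfsg Cfsg.Lib
open scoped ComplexConjugate

universe u

variable {G : Type u} [Group G] [Finite G]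

theorem eq_pow_of_dvd_three {p q r a b c d : ℕ} (hp : p.Prime) (hq : q.Prime) (hr : r.Prime)
    (hd : d ∣ p ^ a * q ^ b * r ^ c) (hnp : ¬ p ∣ d) (hnr : ¬ r ∣ d) : ∃ k, d = q ^ k := by
  have h1 : d.Coprime (p ^ a) := ((hp.coprime_iff_not_dvd.2 hnp).symm).pow_right a
  have h2 : d.Coprime (r ^ c) := ((hr.coprime_iff_not_dvd.2 hnr).symm).pow_right c
  obtain ⟨k, -, hk⟩ := (Nat.dvd_prime_pow hq).1
    (h1.dvd_of_dvd_mul_left (h2.dvd_of_dvd_mul_right hd))
  exact ⟨k, hk⟩

/-- The degrees in the principal block are prime to `p` when `p^3` does not divide the order. -/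
theorem principal_degree_prime {p : ℕ} [Fact p.Prime] {M : Ideal AlgInt} (hM : IsPModular p M)
    (ha : (Nat.card G).factorization p ≤ 2) {χ : IrrCharacter G}
    (hχ : χ ∈ principalBlock M G) : ¬ p ∣ charDegree (χ : G → ℂ) := by
  haveI := Fintype.ofFinite G
  have hB : IsPBlock M (principalBlock M G) := isPBlock_principal
  have h0 : minVal p (principalBlock M G) = 0 := by
    have h := minVal_le (p := p) (trivChar_mem_principal (G := G) hM)
    rw [charDegree_eq_of_apply_one (χ := ((trivChar G : IrrCharacter G) : G → ℂ)) (n := 1)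
      (by rw [trivChar_coe, Nat.cast_one]), Nat.factorization_one] at h
    simpa using h
  have hle : blockDefect p (principalBlock M G) ≤ 2 := by rw [blockDefect_eq]; omega
  rcases height_le_defect_sub_two hM hB hχ with h | h
  · rw [blockHeight_eq_zero_iff hχ, h0] at h
    rcases Nat.factorization_eq_zero_iff _ _ |>.1 h with h1 | h1 | h1
    · exact absurd Fact.out h1
    · exact h1
    · exact absurd h1 χ.2.charDegree_pos.ne'
  · intro hd
    have hpos := (Fact.out : p.Prime).factorization_pos_of_dvd χ.2.charDegree_pos.ne' hd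
    rw [blockHeight_eq, h0] at h
    omega

/-- A value at an element with class size prime to `r` is divisible by `r` when the degree is. -/
theorem isIntegral_div_of_dvd_degree {r : ℕ} (hr : r.Prime) (χ : IrrCharacter G)
    (hd : r ∣ charDegree (χ : G → ℂ)) {x : G}
    (hx : ¬ r ∣ (Subgroup.centralizer ({x} : Set G)).index) :
    IsIntegral ℤ ((χ : G → ℂ) x / (r : ℂ)) := by
  haveI := Fintype.ofFinite G
  have hint := χ.2.isIntegral_class x
  rw [← Char.card_classFinset] at hx
  obtain ⟨m, hm⟩ := hd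
  rw [χ.2.apply_one_eq_charDegree, hm] at hint
  have h1 : IsIntegral ℤ (((Char.classFinset x).card : ℂ) * (χ : G → ℂ) x / (r : ℂ)) := by
    have hm0 : (m : ℂ) ≠ 0 := by
      intro h0
      rw [Nat.cast_eq_zero.1 h0, mul_zero] at hm
      exact χ.2.charDegree_pos.ne' hm
    have e : ((Char.classFinset x).card : ℂ) * (χ : G → ℂ) x / (r : ℂ) =
        (m : ℂ) * (((Char.classFinset x).card : ℂ) * (χ : G → ℂ) x / ((r * m : ℕ) : ℂ)) := by
      push_cast
      field_simp
    rw [e]
    exact (isIntegral_algebraMap (x := (m : ℤ))).mul hint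
  obtain ⟨u, v, huv⟩ := Nat.isCoprime_iff_coprime.2 (hr.coprime_iff_not_dvd.2 hx).symm
  have hr0 : (r : ℂ) ≠ 0 := Nat.cast_ne_zero.2 hr.ne_zero
  have e : (χ : G → ℂ) x / (r : ℂ) =
      (u : ℂ) * (((Char.classFinset x).card : ℂ) * (χ : G → ℂ) x / (r : ℂ)) +
        (v : ℂ) * (χ : G → ℂ) x := by
    have h2 : (u : ℂ) * ((Char.classFinset x).card : ℂ) + (v : ℂ) * (r : ℂ) = 1 := by
      exact_mod_cast huv
    field_simp
    linear_combination (-(χ : G → ℂ) x) * h2
  rw [e]
  exact ((isIntegral_algebraMap (x := u)).mul h1).add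
    ((isIntegral_algebraMap (x := v)).mul (χ.2.isCharacter.isIntegral x))

theorem exists_power_degree [Nontrivial G] (p q r a b c : ℕ) (hp : p.Prime) (hq : q.Prime)
    (hr : r.Prime) (hpr : p ≠ r) (ha : a ≤ 2) (hpq : p ≠ q)
    (hG : Nat.card G = p ^ a * q ^ b * r ^ c) :
    ∃ χ : IrrCharacter G, (χ : G → ℂ) ≠ (fun _ => 1) ∧
      ∃ k : ℕ, charDegree (χ : G → ℂ) = q ^ k := by
  classical
  haveI := Fintype.ofFinite G
  haveI := Fact.mk hp
  haveI := Fact.mk hr
  by_contra hcon
  push Not at hcon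
  have hbad : ∀ χ : IrrCharacter G, χ ≠ trivChar G →
      p ∣ charDegree (χ : G → ℂ) ∨ r ∣ charDegree (χ : G → ℂ) := by
    intro χ hχ
    by_contra h
    push Not at h
    obtain ⟨k, hk⟩ := eq_pow_of_dvd_three hp hq hr (hG ▸ charDegree_dvd_card χ) h.1 h.2
    exact hcon χ (fun e => hχ (Subtype.ext e)) k hk
  -- both primes divide the order
  have hnot : ∀ s t : ℕ, s.Prime → (∀ χ : IrrCharacter G, χ ≠ trivChar G →
      s ∣ charDegree (χ : G → ℂ) ∨ t ∣ charDegree (χ : G → ℂ)) → t.Prime →
        ¬ t ∣ Nat.card G → False := by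
    intro s t hs hbad' _ hnd
    have hall : ∀ χ : IrrCharacter G, χ ≠ trivChar G → s ∣ charDegree (χ : G → ℂ) := fun χ hχ =>
      (hbad' χ hχ).resolve_right fun h => hnd (h.trans (charDegree_dvd_card χ))
    have hsq := Char.sum_degree_mul (1 : G)
    rw [if_pos rfl] at hsq
    simp only [fun χ : IrrCharacter G => χ.2.apply_one_eq_charDegree] at hsq
    have hsum : ∑ χ : IrrCharacter G, charDegree (χ : G → ℂ) * charDegree (χ : G → ℂ) =
        Nat.card G := by exact_mod_cast hsq
    obtain ⟨χ, hχ⟩ : ∃ χ : IrrCharacter G, χ ≠ trivChar G := by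
      by_contra h
      push Not at h
      rw [Finset.sum_eq_single (trivChar G) (fun χ _ hne => absurd (h χ) hne) (by simp),
        charDegree_eq_of_apply_one (χ := ((trivChar G : IrrCharacter G) : G → ℂ)) (n := 1)
          (by rw [trivChar_coe, Nat.cast_one])] at hsum
      exact (Finite.one_lt_card (α := G)).ne hsum
    have hdvd := (hall χ hχ).trans (charDegree_dvd_card χ)
    rw [← hsum, ← Finset.add_sum_erase _ _ (Finset.mem_univ (trivChar G)),
      charDegree_eq_of_apply_one (χ := ((trivChar G : IrrCharacter G) : G → ℂ)) (n := 1)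
        (by rw [trivChar_coe, Nat.cast_one])] at hdvd
    refine hs.not_dvd_one ((Nat.dvd_add_left ?_).1 hdvd)
    exact Finset.dvd_sum fun η hη => (hall η (Finset.ne_of_mem_erase hη)).mul_right _
  have hpG : p ∣ Nat.card G := by
    by_contra h
    exact hnot r p hr (fun χ hχ => (hbad χ hχ).symm) hp h
  have hrG : r ∣ Nat.card G := by
    by_contra h
    exact hnot p r hp hbad hr h
  have hfac : (Nat.card G).factorization p ≤ 2 := by
    have hpa : (Nat.card G).factorization p = a := by
      rw [hG, Nat.factorization_mul (by simp [hp.ne_zero, hq.ne_zero])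
          (pow_ne_zero _ hr.ne_zero), Nat.factorization_mul (pow_ne_zero _ hp.ne_zero)
          (pow_ne_zero _ hq.ne_zero), hp.factorization_pow, hq.factorization_pow,
        hr.factorization_pow]
      simp [Finsupp.single_eq_of_ne hpq, Finsupp.single_eq_of_ne hpr]
    omega
  obtain ⟨y, hy⟩ := exists_prime_orderOf_dvd_card' p hpG
  obtain ⟨R⟩ : Nonempty (Sylow r G) := inferInstance
  haveI : Nontrivial (R : Subgroup G) :=
    (Subgroup.nontrivial_iff_ne_bot _).2 (R.ne_bot_of_dvd_card hrG)
  haveI := R.2.center_nontrivial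
  obtain ⟨x, hxc, hx1⟩ : ∃ x : (R : Subgroup G), x ∈ Subgroup.center (R : Subgroup G) ∧ x ≠ 1 := by
    obtain ⟨z, hz⟩ := exists_ne (1 : Subgroup.center (R : Subgroup G))
    exact ⟨z, z.2, fun h => hz (Subtype.ext h)⟩
  have hidx : ¬ r ∣ (Subgroup.centralizer ({(x : G)} : Set G)).index := fun h =>
    R.not_dvd_index (h.trans (Subgroup.index_dvd_of_le fun z hz =>
      Subgroup.mem_centralizer_singleton_iff.2
        (congrArg Subtype.val (Subgroup.mem_center_iff.1 hxc ⟨z, hz⟩))))
  have hxp : ¬ p ∣ orderOf (x : G) := by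
    obtain ⟨k, hk⟩ := IsPGroup.iff_orderOf.1 R.2 x
    rw [Subgroup.orderOf_coe, hk]
    exact fun h => hpr ((Nat.prime_dvd_prime_iff_eq hp hr).1 (hp.dvd_of_dvd_pow h))
  obtain ⟨M, hM⟩ := exists_isPModular hp
  have hB : IsPBlock M (principalBlock M G) := isPBlock_principal
  have horth := sum_block_mul_eq_zero hM (vInt_indVec hM hB) (g := y) (w := (x : G)) (by
    rw [(pPt_eq_one_iff (x : G)).2 hxp, inv_one]
    intro h
    have h1 := isConj_one_left.1 h
    exact (pPt_eq_one_iff y).1 h1 (hy.symm ▸ dvd_refl p))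
  rw [finsum_mem_eq_toFinset_sum, ← Finset.add_sum_erase _ _
    (Set.mem_toFinset.2 (trivChar_mem_principal (G := G) hM)), trivChar_coe, one_mul] at horth
  refine Char.not_isIntegral_one_div_prime hr ?_
  have e : (1 : ℂ) / (r : ℂ) = -∑ χ ∈ (principalBlock M G).toFinset.erase (trivChar G),
      (χ : G → ℂ) y * ((χ : G → ℂ) (x : G) / (r : ℂ)) := by
    simp only [← mul_div_assoc, ← Finset.sum_div]
    rw [eq_neg_of_add_eq_zero_right horth, neg_div, neg_neg]
  rw [e]
  refine (IsIntegral.sum _ fun χ hχ => ?_).neg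
  obtain ⟨hne, hmem⟩ := Finset.mem_erase.1 hχ
  exact (χ.2.isCharacter.isIntegral y).mul (isIntegral_div_of_dvd_degree hr χ
    ((hbad χ hne).resolve_left (principal_degree_prime hM hfac (Set.mem_toFinset.1 hmem))) hidx)

end Cfsg.Lib.Block
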