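import Cfsg.Prelude.Def_CharExt
import Cfsg.Agent.Lib.Char.LinearExt
import Cfsg.Agent.Lib.Char.Ramification
import Cfsg.Agent.Lib.Char.Constituents
import Cfsg.Agent.Lib.Char.Formulas
import Cfsg.Agent.Lib.Fusion.Basic

/-!
# Characters of degree and determinantal order prime to `p`

The squares of the degrees of the irreducible characters with degree and determinantal order
prime to `p` add up to `|O^p(G)|` modulo `p`.
-/

set_option autoImplicit false
set_option linter.unusedSectionVars false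
set_option maxHeartbeats 800000

namespace Cfsg.Lib.Block

open Cfsg Cfsg.Lib.Char Module

universe u

variable {G : Type u} [Group G] [Finite G]

/-- Linear characters of `O^p(G)` have order prime to `p`. -/
theorem coprime_orderOf_hom_pResidual {p : ℕ} [hp : Fact p.Prime]
    (f : pResidual p G →* ℂˣ) : ¬ p ∣ orderOf f := by
  classical
  obtain ⟨k, m, hm, he⟩ :=
    Nat.exists_eq_pow_mul_and_not_dvd (Nat.card_pos (α := G)).ne' p hp.out.ne_one
  suffices hfm : f ^ m = 1 from fun hd => hm (hd.trans (orderOf_dvd_of_pow_eq_one hfm))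
  refine MonoidHom.ext fun x => ?_
  obtain ⟨x, hx⟩ := x
  induction hx using Subgroup.closure_induction with
  | mem g hg =>
    have hgm : g ^ m = 1 := orderOf_dvd_iff_pow_eq_one.1
      (Nat.Coprime.dvd_of_dvd_mul_left ((hg : (orderOf g).Coprime p).pow_right k)
        (he ▸ orderOf_dvd_natCard g))
    rw [MonoidHom.pow_apply, ← map_pow, MonoidHom.one_apply]
    convert map_one f
    exact Subtype.ext hgm
  | one => exact map_one (f ^ m)
  | mul a b ha hb iha ihb =>
    have e := map_mul (f ^ m) ⟨a, ha⟩ ⟨b, hb⟩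
    rw [iha, ihb] at e
    exact e.trans (mul_one 1)
  | inv a ha iha =>
    have e := map_inv (f ^ m) ⟨a, ha⟩
    rw [iha] at e
    exact e.trans inv_one

theorem res_eq_of_degree {K : Subgroup G} [Fintype K] {χ : G → ℂ} (hχ : IsCharacter G χ)
    {θ : K → ℂ} (hθ : IsIrrCharacter K θ) (hc : classInner (fun n : K => χ n) θ ≠ 0)
    (hdeg : χ 1 = θ 1) : (fun n : K => χ n) = θ := by
  classical
  have hres : IsCharacter K (fun n : K => χ n) := hχ.comp K.subtype
  have hd : IsCharacter K ((fun n : K => χ n) - θ) := by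
    rw [isCharacter_iff]
    refine ⟨fun g h => by
      simp only [Pi.sub_apply]
      rw [hθ.isCharacter.conj_invariant]
      congr 1
      exact hres.conj_invariant g h, fun ξ hξ => ?_⟩
    obtain ⟨n, hn⟩ := hres.exists_nat_classInner hξ.isCharacter
    rw [classInner_sub_left, hn, classInner_irr hθ hξ]
    split_ifs with e
    · subst e
      rw [hn, Nat.cast_ne_zero] at hc
      exact ⟨n - 1, by rw [Nat.cast_sub (Nat.one_le_iff_ne_zero.2 hc), Nat.cast_one]⟩
    · exact ⟨n, by simp⟩
  have h0 := hd.eq_zero_of_degree (by simp [hdeg])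
  exact sub_eq_zero.1 h0

/-- Restriction of the irreducible characters of degree prime to `p` to `O^p(G)`. -/
theorem res_pResidual_irr {p : ℕ} [hp : Fact p.Prime] {χ : G → ℂ} (hχ : IsIrrCharacter G χ)
    (hd : ¬ p ∣ charDegree χ) : IsIrrCharacter (pResidual p G) (fun n : pResidual p G => χ n) := by
  classical
  haveI := Fintype.ofFinite G
  set K := pResidual p G with hK
  haveI := Fintype.ofFinite K
  obtain ⟨θ, hθ⟩ := exists_constituent (hχ.isCharacter.comp K.subtype)
    (by simpa using hχ.apply_one_ne_zero)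
  obtain ⟨hdvd, hquo⟩ := degree_ratio_dvd_index K hχ θ.2 hθ hχ.apply_one_eq_charDegree
    θ.2.apply_one_eq_charDegree
  obtain ⟨j, hj⟩ := Cfsg.Lib.Fusion.index_pResidual_eq_pow (p := p) (G := G)
  rw [hj] at hquo
  have h1 : Nat.Coprime (charDegree χ / charDegree (θ : K → ℂ)) (p ^ j) := by
    refine Nat.Coprime.pow_right j (Nat.Coprime.symm ((hp.out.coprime_iff_not_dvd).2 fun h => hd ?_))
    exact h.trans (Nat.div_dvd_of_dvd hdvd)
  have h2 : charDegree χ = charDegree (θ : K → ℂ) :=
    (Nat.eq_of_dvd_of_div_eq_one hdvd (h1.eq_one_of_dvd hquo)).symm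
  have := res_eq_of_degree hχ.isCharacter θ.2 hθ
    (by rw [hχ.apply_one_eq_charDegree, θ.2.apply_one_eq_charDegree, h2])
  rw [this]
  exact θ.2

/-- The congruence for `|O^p(G)|`. -/
theorem card_pResidual_modEq (p : ℕ) [hp : Fact p.Prime] :
    (Nat.card (pResidual p G) : ZMod p) =
      ∑ᶠ χ ∈ {χ : IrrCharacter G | ¬ p ∣ charDegree (χ : G → ℂ) ∧ ¬ p ∣ detOrder (χ : G → ℂ)},
        (charDegree (χ : G → ℂ) : ZMod p) ^ 2 := by
  classical
  haveI := Fintype.ofFinite G
  obtain ⟨j, hj⟩ := Cfsg.Lib.Fusion.index_pResidual_eq_pow (p := p) (G := G)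
  set K := pResidual p G with hK
  haveI := Fintype.ofFinite K
  -- all squares
  have hall : (Nat.card K : ZMod p) =
      ∑ θ : IrrCharacter K, (charDegree (θ : K → ℂ) : ZMod p) ^ 2 := by
    have h := sum_sq_degree (G := K)
    rw [Finset.sum_congr rfl (g := fun θ : IrrCharacter K =>
      ((charDegree (θ : K → ℂ) ^ 2 : ℕ) : ℂ))
      (fun θ _ => by rw [θ.2.apply_one_eq_charDegree, Nat.cast_pow]), ← Nat.cast_sum] at h
    rw [← (Nat.cast_injective h : _ = Nat.card K)]
    push_cast
    rfl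
  let tw : IrrCharacter K → G → IrrCharacter K := fun θ g =>
    ⟨conjTwist K (θ : K → ℂ) g, isIrrCharacter_conjTwist K θ.2 g⟩
  have htw1 : ∀ θ g, charDegree ((tw θ g : IrrCharacter K) : K → ℂ) = charDegree (θ : K → ℂ) := by
    intro θ g
    have h := conjTwist_apply_one K (θ : K → ℂ) g
    have e := (tw θ g).2.apply_one_eq_charDegree
    rw [show ((tw θ g : IrrCharacter K) : K → ℂ) 1 = conjTwist K (θ : K → ℂ) g 1 from rfl, h,
      θ.2.apply_one_eq_charDegree] at e
    exact (Nat.cast_injective e).symm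
  let O : IrrCharacter K → Finset (IrrCharacter K) := fun θ => Finset.univ.image (tw θ)
  have hO : ∀ θ η, η ∈ O θ → O η = O θ := by
    intro θ η hη
    obtain ⟨g, -, rfl⟩ := Finset.mem_image.1 hη
    ext ξ
    simp only [O, Finset.mem_image, Finset.mem_univ, true_and]
    constructor
    · rintro ⟨k, rfl⟩
      exact ⟨g * k, Subtype.ext (conjTwist_conjTwist K (θ : K → ℂ) g k).symm⟩
    · rintro ⟨k, rfl⟩
      refine ⟨g⁻¹ * k, Subtype.ext ?_⟩
      show conjTwist K (conjTwist K (θ : K → ℂ) g) (g⁻¹ * k) = conjTwist K (θ : K → ℂ) k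
      rw [conjTwist_conjTwist, mul_inv_cancel_left]
  have hmem : ∀ θ, θ ∈ O θ := fun θ =>
    Finset.mem_image.2 ⟨1, Finset.mem_univ _, Subtype.ext (conjTwist_one K _)⟩
  let D := Finset.univ.filter fun θ : IrrCharacter K =>
    inertia K (θ : K → ℂ) = ⊤ ∧ ¬ p ∣ charDegree (θ : K → ℂ)
  have hD : (Nat.card K : ZMod p) = ∑ θ ∈ D, (charDegree (θ : K → ℂ) : ZMod p) ^ 2 := by
    rw [hall, ← Finset.sum_filter_add_sum_filter_not Finset.univ
      (fun θ : IrrCharacter K => inertia K (θ : K → ℂ) = ⊤)]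
    have h0 : ∑ θ ∈ Finset.univ.filter (fun θ : IrrCharacter K => ¬ inertia K (θ : K → ℂ) = ⊤),
        (charDegree (θ : K → ℂ) : ZMod p) ^ 2 = 0 := by
      rw [← Finset.sum_fiberwise _ O]
      refine Finset.sum_eq_zero fun A _ => ?_
      by_cases hA : ∃ θ : IrrCharacter K, ¬ inertia K (θ : K → ℂ) = ⊤ ∧ O θ = A
      swap
      · refine Finset.sum_eq_zero fun θ hθ => absurd ⟨θ, ?_⟩ hA
        simpa using hθ
      obtain ⟨θ, hθ, rfl⟩ := hA
      have hset : (Finset.univ.filter
          (fun η : IrrCharacter K => ¬ inertia K (η : K → ℂ) = ⊤)).filter (fun η => O η = O θ) = O θ := by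
        ext η
        simp only [Finset.mem_filter, Finset.mem_univ, true_and]
        refine ⟨fun h => h.2 ▸ hmem η, fun hη => ⟨fun htop => hθ ?_, hO θ η hη⟩⟩
        have hθη : θ ∈ O η := (hO θ η hη).symm ▸ hmem θ
        obtain ⟨g, -, hg⟩ := Finset.mem_image.1 hθη
        have e : (θ : K → ℂ) = (η : K → ℂ) := by
          rw [← hg]
          exact (mem_inertia K).1 (htop ▸ Subgroup.mem_top g)
        rw [e]; exact htop
      rw [hset, Finset.sum_congr rfl (g := fun _ => (charDegree (θ : K → ℂ) : ZMod p) ^ 2)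
        (fun η hη => by
          obtain ⟨g, -, rfl⟩ := Finset.mem_image.1 hη
          rw [htw1]), Finset.sum_const, nsmul_eq_mul]
      have hcard : (O θ).card = (inertia K (θ : K → ℂ)).index := by
        rw [← card_twistOrbit, twistOrbit, ← Finset.card_image_of_injective (O θ)
          (Subtype.coe_injective : Function.Injective fun η : IrrCharacter K => (η : K → ℂ)),
          Finset.image_image]
        congr 1
        ext
        simp [tw]
      have hdvd : p ∣ (O θ).card := by
        obtain ⟨i, -, hi⟩ := (Nat.dvd_prime_pow hp.out).1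
          (hj ▸ Subgroup.index_dvd_of_le (le_inertia K θ.2.isClassFunction))
        rcases Nat.eq_zero_or_pos i with rfl | hi0
        · exact absurd (Subgroup.index_eq_one.1 (by simpa using hi)) hθ
        · rw [hcard, hi]; exact dvd_pow_self p hi0.ne'
      rw [(CharP.cast_eq_zero_iff (ZMod p) p _).2 hdvd, zero_mul]
    rw [h0, add_zero]
    refine (Finset.sum_subset (fun θ hθ => ?_) fun θ hθ hθ' => ?_).symm
    · simp only [D, Finset.mem_filter] at hθ
      simp [hθ.2.1]
    · simp only [D, Finset.mem_filter, Finset.mem_univ, true_and, not_and, not_not] at hθ hθ'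
      rw [(CharP.cast_eq_zero_iff (ZMod p) p _).2 (hθ' hθ), zero_pow two_ne_zero]
  rw [hD, finsum_mem_eq_toFinset_sum]
  symm
  have hresD : ∀ χ : IrrCharacter G, ¬ p ∣ charDegree (χ : G → ℂ) → ∀ h : IsIrrCharacter K (fun n : K => (χ : G → ℂ) n),
      (⟨_, h⟩ : IrrCharacter K) ∈ D ∧
        charDegree (fun n : K => (χ : G → ℂ) n) = charDegree (χ : G → ℂ) := by
    intro χ hd h
    have e : charDegree (fun n : K => (χ : G → ℂ) n) = charDegree (χ : G → ℂ) := by
      apply Nat.cast_injective (R := ℂ)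
      rw [← h.apply_one_eq_charDegree, ← χ.2.apply_one_eq_charDegree]
      rfl
    refine ⟨Finset.mem_filter.2 ⟨Finset.mem_univ _, ?_, by rw [e]; exact hd⟩, e⟩
    exact eq_top_iff.2 fun g _ => (mem_inertia K).2 (conjTwist_res K χ.2.isClassFunction g)
  have hC : ∀ χ : IrrCharacter G, χ ∈ ({χ : IrrCharacter G | ¬ p ∣ charDegree (χ : G → ℂ) ∧
      ¬ p ∣ detOrder (χ : G → ℂ)}).toFinset → ¬ p ∣ charDegree (χ : G → ℂ) ∧
      ¬ p ∣ detOrder (χ : G → ℂ) := fun χ h => by simpa using h
  have hindex : ∀ {d : ℕ}, ¬ p ∣ d → Nat.Coprime K.index d := fun {d} hd => by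
    rw [hj]; exact Nat.Coprime.pow_left j ((hp.out.coprime_iff_not_dvd).2 hd)
  refine Finset.sum_bij
    (fun χ hχ => (⟨_, res_pResidual_irr χ.2 (hC χ hχ).1⟩ : IrrCharacter K))
    (fun χ hχ => (hresD χ (hC χ hχ).1 _).1) ?_ ?_
    (fun χ hχ => by rw [(hresD χ (hC χ hχ).1 (res_pResidual_irr χ.2 (hC χ hχ).1)).2])
  · intro χ hχ χ' hχ' heq
    have hres : ∀ n : K, (χ : G → ℂ) n = (χ' : G → ℂ) n :=
      congrFun (congrArg Subtype.val heq)
    have hirrK := res_pResidual_irr χ.2 (hC χ hχ).1
    obtain ⟨m, σ, hσ, hσc⟩ := hirrK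
    haveI := hσ
    obtain ⟨ρ, hρ, hρc⟩ := exists_rep_of_res_eq K.subtype σ χ.2.isCharacter
      (fun n => (congrFun hσc n).symm)
    obtain ⟨ρ', hρ', hρc'⟩ := exists_rep_of_res_eq K.subtype σ χ'.2.isCharacter
      (fun n => ((congrFun hσc n).trans (hres n)).symm)
    have hdet := hρc ▸ (hC χ hχ).2
    have hdet' := hρc' ▸ (hC χ' hχ').2
    rw [detOrder_character] at hdet hdet'
    have hdeg : finrank ℂ (Fin m → ℂ) = charDegree (χ : G → ℂ) := by
      apply Nat.cast_injective (R := ℂ)
      rw [← χ.2.apply_one_eq_charDegree, ← hρc, Representation.char_one]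
    have hν : detHom ρ' = detHom ρ := by
      have hν0 : ∀ n ∈ K, (detHom ρ' * (detHom ρ)⁻¹) n = 1 := fun n hn => by
        rw [MonoidHom.mul_apply, MonoidHom.inv_apply, mul_inv_eq_one]
        refine Units.ext ?_
        rw [detHom_apply, detHom_apply]
        exact congrArg LinearMap.det ((hρ' ⟨n, hn⟩).trans (hρ ⟨n, hn⟩).symm)
      have hνp : (detHom ρ' * (detHom ρ)⁻¹) ^ K.index = 1 := MonoidHom.ext fun g => by
        rw [MonoidHom.pow_apply, pow_index_eq_one_of_trivial _ hν0, MonoidHom.one_apply]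
      rw [hj] at hνp
      refine mul_inv_eq_one.1 (orderOf_eq_one_iff.1 ?_)
      refine Nat.Coprime.eq_one_of_dvd (Nat.Coprime.pow_right j ?_)
        (orderOf_dvd_of_pow_eq_one hνp)
      refine Nat.Coprime.symm ((hp.out.coprime_iff_not_dvd).2 fun h => ?_)
      have h2 := h.trans ((Commute.all (detHom ρ') (detHom ρ)⁻¹).orderOf_mul_dvd_lcm)
      have hinvd : orderOf (detHom ρ)⁻¹ ∣ orderOf (detHom ρ) :=
        orderOf_dvd_of_pow_eq_one (MonoidHom.ext fun g => by
          rw [MonoidHom.pow_apply, MonoidHom.inv_apply, inv_pow, ← MonoidHom.pow_apply, pow_orderOf_eq_one]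
          simp)
      exact (hp.out.dvd_mul.1 (h2.trans (Nat.lcm_dvd_mul _ _))).elim hdet' fun h' => hdet (h'.trans hinvd)
    have heqρ := eq_of_extension_det hρ hρ' (hdeg ▸ hindex (hC χ hχ).1) hν
    exact Subtype.ext (by rw [← hρc, ← hρc', heqρ])
  · intro θ hθ
    simp only [D, Finset.mem_filter, Finset.mem_univ, true_and] at hθ
    obtain ⟨hinv, hd⟩ := hθ
    obtain ⟨m, σ, hσ, hσc⟩ := θ.2
    haveI := hσ
    have hinv' : ∀ (g : G) (n : K), σ.character (MulAut.conjNormal g n) = σ.character n := by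
      intro g n
      rw [hσc]
      exact congrFun ((mem_inertia K).1 (hinv ▸ Subgroup.mem_top g)) n
    have hdinv : ∀ (g : G) (n : K), detHom σ (MulAut.conjNormal g n) = detHom σ n := by
      intro g n
      obtain ⟨φ⟩ := nonempty_equiv_of_character_eq σ
        (σ.comp (MulAut.conjNormal g : MulAut K).toMonoidHom) (funext fun n => (hinv' g n).symm)
      exact Units.ext (det_eq_of_equiv φ n)
    have hord : ¬ p ∣ orderOf (detHom σ) := coprime_orderOf_hom_pResidual (detHom σ)
    obtain ⟨μ, hμ, hμo⟩ := exists_linear_extension_coprime (detHom σ) hdinv (hindex hord)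
    have hdeg : finrank ℂ (Fin m → ℂ) = charDegree (θ : K → ℂ) := by
      apply Nat.cast_injective (R := ℂ)
      rw [← θ.2.apply_one_eq_charDegree, ← hσc, Representation.char_one]
    have hcop := hdeg ▸ hindex hd
    obtain ⟨ρ0, hρ0⟩ := exists_extension_of_det σ hinv' hcop μ hμ
    obtain ⟨ρ, hρ, hρd⟩ := exists_extension_det_eq hρ0 hcop μ hμ
    haveI : ρ.IsIrreducible := isIrreducible_of_extension hρ
    have hdet : ¬ p ∣ detOrder ρ.character := by rw [detOrder_character, hρd, hμo]; exact hord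
    have hrdeg : charDegree ρ.character = charDegree (θ : K → ℂ) := by
      apply Nat.cast_injective (R := ℂ)
      rw [← (isIrrCharacter_character ρ).apply_one_eq_charDegree, Representation.char_one, hdeg]
    refine ⟨⟨ρ.character, isIrrCharacter_character ρ⟩, by simp [hrdeg, hd, hdet], Subtype.ext ?_⟩
    funext n
    show ρ.character (n : G) = _
    rw [← hσc]
    exact congrArg (LinearMap.trace ℂ _) (hρ n)

end Cfsg.Lib.Block
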