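import Cfsg.Agent.Lib.Block.PrimeDegrees
import Cfsg.Agent.Lib.Char.AbelianInertia
import Cfsg.Agent.Lib.Char.TwoDegrees

/-!
# Counting the degrees of a group with prime degrees
-/

set_option autoImplicit false
set_option linter.unusedSectionVars false
set_option linter.style.haveILetI false

namespace Cfsg.Lib.Block

open Cfsg Cfsg.Lib
open scoped ComplexConjugate

universe u

/-- A nontrivial solvable group has a normal subgroup of prime index above its derived subgroup. -/
theorem exists_normal_prime_index {G : Type u} [Group G] [Finite G] [Nontrivial G]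
    [Group.IsSolvable G] :
    ∃ N : Subgroup G, N.Normal ∧ N.index.Prime ∧ commutator G ≤ N := by
  obtain ⟨N, hN, hle⟩ := (eq_top_or_exists_le_coatom (commutator G)).resolve_left
    (Group.IsSolvable.commutator_lt_top_of_nontrivial G).ne
  haveI hn : N.Normal := Subgroup.Normal.of_commutator_le G hle
  refine ⟨N, hn, ?_, hle⟩
  haveI : IsSimpleGroup (G ⧸ N) := by
    haveI : Nontrivial (G ⧸ N) := QuotientGroup.nontrivial_iff.2 hN.1
    refine ⟨fun H hH => ?_⟩
    rcases (hN.le_iff.1 (QuotientGroup.le_comap_mk' N H)) with h | h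
    · right
      rw [← Subgroup.map_comap_eq_self_of_surjective (QuotientGroup.mk'_surjective N) H, h,
        Subgroup.map_top_of_surjective _ (QuotientGroup.mk'_surjective N)]
    · left
      rw [← Subgroup.map_comap_eq_self_of_surjective (QuotientGroup.mk'_surjective N) H, h,
        QuotientGroup.map_mk'_self]
  have hc : ∀ a b : G ⧸ N, a * b = b * a := by
    intro a b
    induction a using QuotientGroup.induction_on with
    | H x => induction b using QuotientGroup.induction_on with
      | H y =>
        rw [← QuotientGroup.mk_mul, ← QuotientGroup.mk_mul, QuotientGroup.eq]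
        exact hle (by
          rw [commutator_def, show (x * y)⁻¹ * (y * x) = y⁻¹ * x⁻¹ * (y⁻¹)⁻¹ * (x⁻¹)⁻¹ by group]
          exact Subgroup.commutator_mem_commutator (Subgroup.mem_top _) (Subgroup.mem_top _))
  rw [Subgroup.index_eq_card]
  exact Char.prime_card_of_simple_comm hc

variable {G : Type u} [Group G] [Fintype G]

theorem res_eq_of_degree_eq (N : Subgroup G) [Fintype N] {χ : G → ℂ} (hχ : IsIrrCharacter G χ)
    {θ : N → ℂ} (hθ : IsIrrCharacter N θ) (hc : classInner (fun n : N => χ n) θ ≠ 0)
    (hd : χ 1 = θ 1) : (fun n : N => χ n) = θ := by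
  have hres : IsCharacter N (fun n : N => χ n) := hχ.isCharacter.comp N.subtype
  have h := (Char.isCharacter_sub_constituent hres hθ hc).eq_zero_of_degree (by simp [hd])
  funext n
  have h2 := congrFun h n
  simpa [sub_eq_zero] using h2

/-- Beyond one, there are at most two degrees. -/
theorem primeDegrees_le_two : ∀ (n : ℕ) {G : Type u} [Group G] [Finite G], Nat.card G ≤ n →
    PrimeDegrees G → ∃ a b : ℕ, ∀ χ : IrrCharacter G,
      charDegree (χ : G → ℂ) = 1 ∨ charDegree (χ : G → ℂ) = a ∨ charDegree (χ : G → ℂ) = b := by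
  intro n
  induction n with
  | zero => intro G _ _ hn _; exact absurd Nat.card_pos (Nat.not_lt.2 hn)
  | succ n ih =>
    intro G _ _ hn h
    classical
    haveI := Fintype.ofFinite G
    rcases subsingleton_or_nontrivial G with hs | hs
    · refine ⟨1, 1, fun χ => Or.inl ?_⟩
      have h1 := Char.degree_eq_one_of_comm (fun a b => Subsingleton.elim _ _) χ.2
      simp [charDegree, h1]
    haveI := isSolvable_of_primeDegrees (Nat.card G) le_rfl h
    obtain ⟨N, hNn, hr, hcomm⟩ := exists_normal_prime_index (G := G)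
    haveI := hNn
    haveI := Fintype.ofFinite N
    have hlt : Nat.card N ≤ n := by
      have h1 := N.card_mul_index
      have h2 := hr.two_le
      have h3 : 0 < Nat.card N := Nat.card_pos
      nlinarith
    obtain ⟨a, b, hab⟩ := ih hlt (primeDegrees_normal h N)
    have hover : ∀ χ : IrrCharacter G, ∃ θ : IrrCharacter N,
        classInner (fun m : N => (χ : G → ℂ) m) (θ : N → ℂ) ≠ 0 ∧
          (charDegree (χ : G → ℂ) = charDegree (θ : N → ℂ) ∨
            (charDegree (θ : N → ℂ) = 1 ∧ charDegree (χ : G → ℂ) = N.index)) := by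
      intro χ
      obtain ⟨θ, hθ⟩ := Char.exists_constituent (χ.2.isCharacter.comp N.subtype)
        (by simpa using χ.2.apply_one_ne_zero)
      refine ⟨θ, hθ, ?_⟩
      obtain ⟨h1, h2⟩ := Char.degree_ratio_dvd_index N χ.2 θ.2 hθ χ.2.apply_one_eq_charDegree
        θ.2.apply_one_eq_charDegree
      obtain ⟨m, hm⟩ := h1
      rw [hm, Nat.mul_div_cancel_left _ θ.2.charDegree_pos] at h2
      rcases (Nat.dvd_prime hr).1 h2 with h3 | h3
      · exact Or.inl (by rw [hm, h3, mul_one])
      rcases h χ with h4 | h4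
      · exact absurd (Nat.eq_one_of_mul_eq_one_left (hm ▸ h4)) (by rw [h3]; exact hr.ne_one)
      · have hθ1 : charDegree (θ : N → ℂ) = 1 := by
          rcases Nat.prime_mul_iff.1 (hm ▸ h4) with ⟨-, h5⟩ | ⟨-, h5⟩
          · exact absurd h5 (by rw [h3]; exact hr.ne_one)
          · exact h5
        exact Or.inr ⟨hθ1, by rw [hm, hθ1, h3, one_mul]⟩
    have hsub : ∀ χ : IrrCharacter G, charDegree (χ : G → ℂ) = N.index ∨
        charDegree (χ : G → ℂ) = 1 ∨ charDegree (χ : G → ℂ) = a ∨
          charDegree (χ : G → ℂ) = b := by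
      intro χ
      obtain ⟨θ, -, h1 | h1⟩ := hover χ
      · rw [h1]; exact Or.inr (hab θ)
      · exact Or.inl h1.2
    by_cases hgood : (∀ θ : IrrCharacter N, charDegree (θ : N → ℂ) = 1 ∨
        charDegree (θ : N → ℂ) = a) ∨ (∀ θ : IrrCharacter N, charDegree (θ : N → ℂ) = 1 ∨
          charDegree (θ : N → ℂ) = b) ∨ a = b
    · rcases hgood with hg | hg | hg
      · refine ⟨N.index, a, fun χ => ?_⟩
        obtain ⟨θ, -, h1 | h1⟩ := hover χ
        · rw [h1]; exact (hg θ).imp id Or.inr
        · exact Or.inr (Or.inl h1.2)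
      · refine ⟨N.index, b, fun χ => ?_⟩
        obtain ⟨θ, -, h1 | h1⟩ := hover χ
        · rw [h1]; exact (hg θ).imp id Or.inr
        · exact Or.inr (Or.inl h1.2)
      · refine ⟨N.index, a, fun χ => ?_⟩
        rcases hsub χ with h1 | h1 | h1 | h1
        · exact Or.inr (Or.inl h1)
        · exact Or.inl h1
        · exact Or.inr (Or.inr h1)
        · exact Or.inr (Or.inr (hg ▸ h1))
    simp only [not_or, not_forall] at hgood
    obtain ⟨⟨θb, hb1, hb2⟩, ⟨θa, ha1, ha2⟩, hne⟩ := hgood
    have hθb : charDegree (θb : N → ℂ) = b := ((hab θb).resolve_left hb1).resolve_left hb2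
    have hθa : charDegree (θa : N → ℂ) = a := ((hab θa).resolve_left ha1).resolve_right ha2
    have hap : a.Prime := hθa ▸ (primeDegrees_normal h N θa).resolve_left ha1
    have hbp : b.Prime := hθb ▸ (primeDegrees_normal h N θb).resolve_left hb1
    refine ⟨a, b, fun χ => ?_⟩
    obtain ⟨θ, hθ, h1 | ⟨hθ1, hχr⟩⟩ := hover χ
    · rw [h1]; exact hab θ
    exfalso
    have hq : ∀ x y : G, x * y * x⁻¹ * y⁻¹ ∈ N := fun x y => hcomm (by
      rw [commutator_def]
      exact Subgroup.commutator_mem_commutator (Subgroup.mem_top x) (Subgroup.mem_top y))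
    -- the linear constituent moves
    obtain ⟨g, hg⟩ : ∃ g, Char.conjTwist N (θ : N → ℂ) g ≠ (θ : N → ℂ) := by
      by_contra hcon
      push Not at hcon
      obtain ⟨e, C, -, hC, hcount, hexp, hresC, -⟩ :=
        Char.indFun_invariant_abelian N θ.2 hcon hq
      have he : e = 1 := by
        rcases (Nat.dvd_prime hr).1 ⟨C.card, hcount.symm⟩ with h2 | h2
        · exact (Nat.pow_eq_one.1 h2).resolve_right (by norm_num)
        · exact absurd (h2 ▸ hr : (e ^ 2).Prime) (Nat.Prime.not_prime_pow le_rfl)
      have hne' : classInner (indFun N (θ : N → ℂ)) (χ : G → ℂ) ≠ 0 := by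
        rw [Char.classInner_indFun N _ χ.2.isClassFunction, ← Char.classInner_conj_symm]
        exact fun h0 => hθ ((map_eq_zero _).1 h0)
      rw [hexp, he, Nat.cast_one, one_smul, Char.classInner_sum_left] at hne'
      obtain ⟨ψ, hψ, hψne⟩ := Finset.exists_ne_zero_of_sum_ne_zero hne'
      have heq : ψ = (χ : G → ℂ) := by
        by_contra h0
        exact hψne (Char.classInner_irr_ne (hC ψ hψ) χ.2 h0)
      have h3 := congrFun (hresC ψ hψ) 1
      simp only [heq, he, OneMemClass.coe_one, Nat.cast_one, one_smul,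
        θ.2.apply_one_eq_charDegree, χ.2.apply_one_eq_charDegree, hθ1, hχr] at h3
      exact hr.ne_one (by exact_mod_cast h3)
    obtain ⟨l, hl⟩ := Char.exists_hom_of_degree_one θ.2.isCharacter
      (by rw [θ.2.apply_one_eq_charDegree, hθ1, Nat.cast_one])
    obtain ⟨l', hl'⟩ := Char.exists_hom_of_degree_one
      (Char.isCharacter_conjTwist N θ.2.isCharacter g)
      (by rw [Char.conjTwist_apply_one, θ.2.apply_one_eq_charDegree, hθ1, Nat.cast_one])
    have hinv : ∀ φ : N → ℂ, IsIrrCharacter N φ → φ 1 ≠ 1 →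
        Char.conjTwist N φ g = φ := by
      intro φ hφ hφ1
      obtain ⟨η, hη⟩ := exists_over_deg N ⟨φ, hφ⟩
      obtain ⟨h2, h3⟩ := Char.degree_ratio_dvd_index N η.2 hφ hη η.2.apply_one_eq_charDegree
        hφ.apply_one_eq_charDegree
      have heq : charDegree (η : G → ℂ) = charDegree φ := by
        rcases h η with h4 | h4
        · exact absurd (Nat.dvd_one.1 (h4 ▸ h2)) fun h5 => hφ1 (by
            rw [hφ.apply_one_eq_charDegree, h5, Nat.cast_one])
        · exact ((h4.eq_one_or_self_of_dvd _ h2).resolve_left fun h5 => hφ1 (by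
            rw [hφ.apply_one_eq_charDegree, h5, Nat.cast_one])).symm
      rw [← res_eq_of_degree_eq N η.2 hφ hη (by
        rw [η.2.apply_one_eq_charDegree, hφ.apply_one_eq_charDegree, heq])]
      exact Char.conjTwist_res N η.2.isClassFunction g
    have hfix : ∀ φ : IrrCharacter N, charDegree (φ : N → ℂ) ≠ 1 →
        ∀ m, (l' m * (l m)⁻¹) ^ charDegree (φ : N → ℂ) = 1 := by
      intro φ hφ m
      have hφ1 : (φ : N → ℂ) 1 ≠ 1 := by
        rw [φ.2.apply_one_eq_charDegree]; exact_mod_cast hφ
      have h2 := hinv _ φ.2 hφ1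
      have h3 := hinv _ (Char.isIrrCharacter_mul_linear φ.2 l) (by simpa using hφ1)
      refine Char.pow_degree_eq_one_of_twist φ.2.isCharacter φ.2.apply_one_eq_charDegree
        (l' * l⁻¹) (fun x => ?_) m
      have e2 := congrFun h2 x
      have e3 := congrFun h3 x
      have e1 := congrFun hl' x
      simp only [Char.conjTwist_apply, Pi.mul_apply] at e2 e3 e1
      rw [e2] at e3
      rw [hl] at e1
      simp only at e1
      rw [e1] at e3
      simp only [MonoidHom.mul_apply, MonoidHom.inv_apply, Units.val_mul, Units.val_inv_eq_inv_val]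
      rw [← mul_assoc, e3, mul_assoc,
        mul_inv_cancel₀ (Units.ne_zero _), mul_one]
    refine hg ?_
    rw [hl', hl]
    funext m
    have h2 := pow_gcd_eq_one.2 ⟨hθa ▸ hfix θa ha1 m, hθb ▸ hfix θb hb1 m⟩
    rw [(Nat.coprime_primes hap hbp).2 hne, pow_one, mul_inv_eq_one] at h2
    rw [h2]

end Cfsg.Lib.Block
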