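import Cfsg.Agent.Lib.Block.ThirdMain
import Cfsg.Agent.Lib.Block.PrincipalSums
import Cfsg.Agent.Lib.Char.Subconstituents

/-!
# The degree of the principal part of a character

The sum of a character over the `p`-regular elements is, up to a `p`-unit, congruent to the
degree of its principal part.
-/

set_option autoImplicit false
set_option linter.style.haveILetI false
set_option linter.unusedSectionVars false

namespace Cfsg.Lib.Block

open Cfsg Cfsg.Lib
open scoped ComplexConjugate

universe u

variable {G : Type u} [Group G] [Fintype G] {p : ℕ} [Fact p.Prime] {M : Ideal AlgInt}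

/-- The sum over the `p`-regular elements. -/
noncomputable def regTotal (p : ℕ) (f : G → ℂ) : ℂ := ∑ g, pRegularPart p f g

theorem regVal_one_eq (χ : IrrCharacter G) :
    regVal p χ (fun _ : G => (1 : ℂ)) = regTotal p (χ : G → ℂ) / (χ : G → ℂ) 1 := by
  simp only [regVal, regInner, classInner, regTotal, map_one, mul_one]
  rw [← mul_assoc, mul_inv_cancel₀ Char.card_cast_ne_zero, one_mul]

theorem regTotal_not_mem (hM : IsPModular p M) (χ : IrrCharacter G)
    (hχ : χ ∈ principalBlock M G) (hd : ¬ p ∣ charDegree (χ : G → ℂ)) :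
    ¬ MemLocalIdeal M (regTotal p (χ : G → ℂ)) := by
  intro h
  apply (regVal_one_iff hM χ).mpr hχ
  rw [regVal_one_eq, div_eq_inv_mul, apply_one_eq_charDegree]
  exact memLocalIdeal_mul_left hM (inv_natCast_mem_locRing hM hd) h

theorem exists_principal_constituent (hM : IsPModular p M) {f : G → ℂ} (hf : IsCharacter G f)
    (h : ¬ MemLocalIdeal M (regTotal p f)) :
    ∃ χ : IrrCharacter G, χ ∈ principalBlock M G ∧ ¬ p ∣ charDegree (χ : G → ℂ) ∧
      classInner f (χ : G → ℂ) ≠ 0 := by
  classical
  by_contra hno
  push_neg at hno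
  apply h
  choose c hc using fun χ : IrrCharacter G => hf.exists_nat_classInner χ.2.isCharacter
  have e1 : regTotal p f = ∑ χ : IrrCharacter G, (c χ : ℂ) * regTotal p (χ : G → ℂ) := by
    simp only [regTotal, Finset.mul_sum]
    rw [Finset.sum_comm]
    refine Finset.sum_congr rfl fun g _ => ?_
    by_cases hg : IsPRegular p g
    · simp only [pRegularPart_of_reg hg]
      conv_lhs => rw [Char.eq_sum_classInner hf.isClassFunction]
      simp [hc]
    · simp [pRegularPart_of_sing hg]
  rw [e1]
  refine memLocalIdeal_sum hM _ _ fun χ _ => ?_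
  have htr : regVal p χ (fun _ : G => (1 : ℂ)) * (χ : G → ℂ) 1 = regTotal p (χ : G → ℂ) := by
    rw [regVal_one_eq, div_mul_cancel₀ _ χ.2.apply_one_ne_zero]
  by_cases hb : χ ∈ principalBlock M G
  · by_cases hd : p ∣ charDegree (χ : G → ℂ)
    · rw [← htr, apply_one_eq_charDegree, ← mul_assoc]
      refine memLocalIdeal_mul_left hM (Subring.mul_mem _ (natCast_mem_locRing hM _) ?_)
        ((memLocalIdeal_natCast_iff hM _).mpr hd)
      have hv : VInt hM (vec (regElt p ((trivChar G : IrrCharacter G) : G → ℂ) 1)) :=
        vInt_regElt hM (one_mem _)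
      have h3 := apply_mem_locRing hM hv χ
      rwa [vec_regElt_fun, one_mul, trivChar_coe] at h3
    · have h0 : classInner f (χ : G → ℂ) = 0 := hno χ hb hd
      rw [hc, Nat.cast_eq_zero] at h0
      rw [h0, Nat.cast_zero, zero_mul]
      exact memLocalIdeal_zero hM
  · rw [show regTotal p (χ : G → ℂ) = 0 from
      not_not.mp fun h0 => hb ((mem_principal_iff_regSum hM χ).mpr h0), mul_zero]
    exact memLocalIdeal_zero hM

theorem regTotal_indFun (H : Subgroup G) [Fintype H] (η : H → ℂ) :
    regTotal p (indFun H η) = (H.index : ℂ) * regTotal p η := by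
  classical
  let u : G → ℂ := fun g => if IsPRegular p g then 1 else 0
  have hu : IsClassFunction G u := fun g h => by
    simp only [u, IsPRegular, show h * g * h⁻¹ = MulAut.conj h g from rfl,
      MulEquiv.orderOf_eq]
    congr
  have key := Char.classInner_indFun H η (χ := u) hu
  have e : ∀ {K : Type u} [Group K] [Fintype K] (f : K → ℂ) (w : K → ℂ),
      (∀ x, w x = if IsPRegular p x then (1 : ℂ) else 0) →
      classInner f w = (Nat.card K : ℂ)⁻¹ * regTotal p f := by
    intro K _ _ f w hw
    simp only [classInner, regTotal]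
    congr 1
    refine Finset.sum_congr rfl fun x _ => ?_
    by_cases hx : IsPRegular p x
    · rw [hw, if_pos hx, pRegularPart_of_reg hx, map_one, mul_one]
    · rw [hw, if_neg hx, pRegularPart_of_sing hx, map_zero, mul_zero]
  rw [e _ u (fun x => rfl), e η (fun x : H => u x) (fun x => by
    simp only [u, IsPRegular, Subgroup.orderOf_coe]
    congr)] at key
  rw [show (Nat.card G : ℂ) = (H.index : ℂ) * Nat.card H by
    rw [← Nat.cast_mul, Subgroup.index_mul_card]] at key
  have h1 : (H.index : ℂ) ≠ 0 := Nat.cast_ne_zero.mpr Subgroup.index_ne_zero_of_finite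
  have h2 : (Nat.card H : ℂ) ≠ 0 := Nat.cast_ne_zero.mpr Nat.card_pos.ne'
  field_simp at key
  linear_combination key

end Cfsg.Lib.Block
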