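import Cfsg.Agent.Lib.Block.PrincipalFreeShape
import Cfsg.Agent.Lib.Block.KleinBlock
import Cfsg.Agent.S4722
import Cfsg.Agent.Lib.Char.Formulas

/-!
# The principal block with free inertial quotient of order three
-/

set_option autoImplicit false
set_option linter.unusedSectionVars false
set_option maxHeartbeats 1600000

namespace Cfsg.Lib.Block

open Cfsg
open scoped ComplexConjugate

universe u

variable {p : ℕ} {M : Ideal AlgInt} {G : Type u} [Group G] [Fintype G] [Fact p.Prime]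

noncomputable local instance (priority := high) fintypeSubgroupPrincipalFreeThree (H : Subgroup G) :
    Fintype H := Fintype.ofFinite H

variable (hM : IsPModular p M) {P : Sylow p G} [IsMulCommutative (P : Subgroup G)]
  (hfree : FreeAction P)
  (hCN : (Subgroup.centralizer ((P : Subgroup G) : Set G)).relIndex
    (Subgroup.normalizer ((P : Subgroup G) : Set G)) = 3)

/-- Exchanging the two exceptional characters. -/
theorem FreeShape.swap {m : ℕ} {y : HomOrb P → IrrCharacter G} {n : IrrCharacter G → ℤ} {δ : ℤ}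
    (S : FreeShape M P m y n δ (-δ)) (σ : Equiv.Perm (HomOrb P))
    (hσ : ∀ i j, i ≠ j ↔ i = σ j) : FreeShape M P m (y ∘ σ) n (-δ) 0 := by
  have hr : Set.range (y ∘ σ) = Set.range y := Set.range_comp y σ ▸ by simp [σ.range_eq_univ]
  refine ⟨S.inj.comp σ.injective, fun j => S.mem _, by rcases S.sign with h | h <;> omega,
    fun ψ j => ?_, fun χ hχ hn => S.coeffX χ hχ (hr ▸ hn), fun i j => S.regEq _ _,
    fun χ hχ hn => S.ne_zero χ hχ (hr ▸ hn), hr ▸ S.card_le⟩
  rw [Function.comp_apply, S.coeff]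
  congr 1
  by_cases h : (Quotient.mk _ ψ : HomOrb P) = j
  · rw [if_pos h, if_neg (fun h' => (hσ _ _).2 h' h)]; ring
  · rw [if_neg h, if_pos ((hσ _ _).1 h)]; ring

include hM hfree hCN in
/-- With inertial index three there are three nonexceptional characters, with values `± 1`, and
the exceptional ones have no constant part. -/
theorem exists_freeShape_three (hq : 3 + 1 < Nat.card (P : Subgroup G)) :
    ∃ y n δ, FreeShape M P 3 y n δ 0 ∧ 2 ≤ Fintype.card (HomOrb P) ∧
      Nat.card ↑(principalBlock M G \ Set.range y) = 3 ∧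
      ∀ χ ∈ principalBlock M G, χ ∉ Set.range y → n χ = 1 ∨ n χ = -1 := by
  classical
  have hcard := card_homOrb hfree hCN
  rw [Nat.card_eq_fintype_card] at hcard
  have h2 : 2 ≤ Fintype.card (HomOrb P) := by omega
  obtain ⟨y, n, δ, w, S⟩ := exists_freeShape hM hfree hCN (by omega) h2
  have hfin : ∀ (y : HomOrb P → IrrCharacter G) (δ : ℤ), FreeShape M P 3 y n δ 0 →
      Nat.card ↑(principalBlock M G \ Set.range y) = 3 ∧
        ∀ χ ∈ principalBlock M G, χ ∉ Set.range y → n χ = 1 ∨ n χ = -1 := by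
    intro y δ S
    have hn := S.norm_eq hM hfree hCN h2
    have hd : (-0 - δ) ^ 2 = 1 := by rcases S.sign with h | h <;> rw [h] <;> norm_num
    rw [hd, neg_zero, zero_pow two_ne_zero, mul_zero, add_zero, show ((3 : ℕ) : ℤ) = 3 from rfl]
      at hn
    set X := (principalBlock M G \ Set.range y).toFinset with hX
    have hge : ∀ χ ∈ X, 1 ≤ (-n χ) ^ 2 := fun χ hχ => by
      have h0 := S.ne_zero χ (Set.mem_toFinset.1 hχ).1 (Set.mem_toFinset.1 hχ).2
      have := sq_pos_of_ne_zero (neg_ne_zero.2 h0)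
      omega
    have hle : ∀ χ ∈ X, (-n χ) ^ 2 ≤ 3 := fun χ hχ =>
      le_trans (Finset.single_le_sum (f := fun χ => (-n χ) ^ 2) (fun η _ => sq_nonneg _) hχ)
        (le_of_eq (by linarith [hn]))
    have hpm : ∀ χ ∈ principalBlock M G, χ ∉ Set.range y → n χ = 1 ∨ n χ = -1 := by
      intro χ hχ hr
      have h := hle χ (Set.mem_toFinset.2 ⟨hχ, hr⟩)
      have h0 := S.ne_zero χ hχ hr
      have h1 : -1 ≤ n χ ∧ n χ ≤ 1 := ⟨by nlinarith, by nlinarith⟩
      omega
    refine ⟨?_, hpm⟩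
    rw [Finset.sum_congr rfl (g := fun _ => (1 : ℤ)) fun χ hχ => by
      rcases hpm χ (Set.mem_toFinset.1 hχ).1 (Set.mem_toFinset.1 hχ).2 with h | h <;>
        rw [h] <;> norm_num, Finset.sum_const, nsmul_eq_mul, mul_one] at hn
    rw [Nat.card_eq_fintype_card, ← Set.toFinset_card, ← hX]
    push_cast at hn
    omega
  by_cases hw : w = 0
  · subst hw
    exact ⟨y, n, δ, S, h2, hfin y δ S⟩
  have hn := S.norm_eq hM hfree hCN h2
  rw [show ((3 : ℕ) : ℤ) = 3 from rfl] at hn
  set X := (principalBlock M G \ Set.range y).toFinset with hX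
  have htX : trivChar G ∈ X :=
    Set.mem_toFinset.2 ⟨trivChar_mem_principal hM, S.triv_not_range hM h2⟩
  have hsum : (1 : ℤ) ≤ ∑ χ ∈ X, (-n χ) ^ 2 :=
    le_trans (by rw [S.n_triv hM h2]; norm_num)
      (Finset.single_le_sum (f := fun χ => (-n χ) ^ 2) (fun η _ => sq_nonneg _) htX)
  have hw2 : 1 ≤ (-w) ^ 2 := by
    have := sq_pos_of_ne_zero (neg_ne_zero.2 hw)
    omega
  have hr1 : (1 : ℤ) ≤ (Fintype.card (HomOrb P) : ℤ) - 1 := by omega
  have hw3 : (-w) ^ 2 ≤ 3 := by nlinarith [sq_nonneg (-w - δ)]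
  have hwe : w = 1 ∨ w = -1 := by
    have h1 : -1 ≤ w ∧ w ≤ 1 := ⟨by nlinarith, by nlinarith⟩
    omega
  have hwd : w = -δ := by
    rcases hwe with h | h <;> rcases S.sign with h' | h' <;> subst h h' <;>
      first | rfl | (exfalso; nlinarith)
  subst hwd
  have hd2 : (- -δ - δ) ^ 2 = 0 := by norm_num
  have hd3 : (- -δ) ^ 2 = 1 := by rcases S.sign with h | h <;> rw [h] <;> norm_num
  rw [hd2, hd3, zero_add, mul_one] at hn
  have hr4 : Fintype.card (HomOrb P) ≤ 4 := by omega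
  -- the order is a prime power
  obtain ⟨k, hk⟩ := IsPGroup.iff_card.1 P.isPGroup'
  have hp : p.Prime := Fact.out
  have h10 : Nat.card (P : Subgroup G) ≠ 10 := by
    intro h
    rw [hk] at h
    have h2' : p = 2 := by
      have := Nat.Prime.dvd_of_dvd_pow Nat.prime_two (h ▸ (by norm_num : 2 ∣ 10) : 2 ∣ p ^ k)
      exact ((Nat.prime_dvd_prime_iff_eq Nat.prime_two hp).1 this).symm
    have h5 : p = 5 := by
      have := Nat.Prime.dvd_of_dvd_pow Nat.prime_five (h ▸ (by norm_num : 5 ∣ 10) : 5 ∣ p ^ k)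
      exact ((Nat.prime_dvd_prime_iff_eq Nat.prime_five hp).1 this).symm
    omega
  have hr : Fintype.card (HomOrb P) = 2 ∨ Fintype.card (HomOrb P) = 4 := by omega
  rcases hr with hr | hr
  · obtain ⟨a, b, hab, huniv⟩ := Finset.card_eq_two.1 (Finset.card_univ.trans hr)
    have hall : ∀ i : HomOrb P, i = a ∨ i = b := fun i => by
      have := huniv ▸ Finset.mem_univ i
      simpa using this
    have S' := S.swap (Equiv.swap a b) (fun i j => by
      rcases hall i with rfl | rfl <;> rcases hall j with rfl | rfl <;>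
        simp [hab, hab.symm])
    exact ⟨_, n, _, S', h2, hfin _ _ S'⟩
  · exfalso
    obtain ⟨j⟩ : Nonempty (HomOrb P) := Fintype.card_pos_iff.1 (by omega)
    have hone : X = {trivChar G} := by
      refine Finset.eq_singleton_iff_unique_mem.2 ⟨htX, fun χ hχ => ?_⟩
      by_contra hne
      have h1 : (-n (trivChar G)) ^ 2 + (-n χ) ^ 2 ≤ ∑ η ∈ X, (-n η) ^ 2 := by
        rw [← Finset.sum_pair (Ne.symm hne) (f := fun η => (-n η) ^ 2)]
        refine Finset.sum_le_sum_of_subset_of_nonneg (fun η hη => ?_) fun η _ _ => sq_nonneg _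
        rcases Finset.mem_insert.1 hη with rfl | hη
        · exact htX
        · rwa [Finset.mem_singleton.1 hη]
      have h0 := S.ne_zero χ (Set.mem_toFinset.1 hχ).1 (Set.mem_toFinset.1 hχ).2
      have := sq_pos_of_ne_zero (neg_ne_zero.2 h0)
      rw [S.n_triv hM h2] at h1
      simp only [neg_neg, one_pow] at h1
      omega
    have hrel := S.relation hM hfree hCN j (g := 1) (by simp [IsPRegular, hp.ne_one])
    rw [← hX, hone, Finset.sum_singleton, S.n_triv hM h2, trivChar_coe,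
      apply_one_eq_charDegree, hr] at hrel
    have hi : (3 * δ * (charDegree (y j : G → ℂ) : ℤ) + 1 : ℤ) = 0 := by
      have : ((3 * δ * (charDegree (y j : G → ℂ) : ℤ) + 1 : ℤ) : ℂ) = 0 := by
        push_cast at hrel ⊢
        linear_combination hrel
      exact_mod_cast this
    have := charDegree_pos (y j)
    rcases S.sign with h | h <;> subst h <;> omega

/-! ## The involution -/

/-- Four weights with vanishing moments have square product. -/
theorem isSquare_weights {A B C a b c : ℚ} (hA : A ≠ 0) (hB : B ≠ 0) (hC : C ≠ 0) (ha : a ≠ 1)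
    (hb : b ≠ 1) (hc : c ≠ 1) (h0 : 1 + A + B + C = 0) (h1 : 1 + A * a + B * b + C * c = 0)
    (h2 : 1 + A * a ^ 2 + B * b ^ 2 + C * c ^ 2 = 0) : IsSquare (A * B * C) := by
  have eA : A * ((a - b) * (a - c)) = -((1 - b) * (1 - c)) := by
    linear_combination h2 - (b + c) * h1 + b * c * h0
  have eB : B * ((b - a) * (b - c)) = -((1 - a) * (1 - c)) := by
    linear_combination h2 - (a + c) * h1 + a * c * h0
  have eC : C * ((c - a) * (c - b)) = -((1 - a) * (1 - b)) := by
    linear_combination h2 - (a + b) * h1 + a * b * h0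
  have ha' : 1 - a ≠ 0 := sub_ne_zero.2 ha.symm
  have hb' : 1 - b ≠ 0 := sub_ne_zero.2 hb.symm
  have hc' : 1 - c ≠ 0 := sub_ne_zero.2 hc.symm
  have hab : (a - b) * (a - c) ≠ 0 := fun h => mul_ne_zero hb' hc' (by
    rw [h, mul_zero] at eA; linear_combination eA)
  have hbc : (b - a) * (b - c) ≠ 0 := fun h => mul_ne_zero ha' hc' (by
    rw [h, mul_zero] at eB; linear_combination eB)
  obtain ⟨n1, n2⟩ := mul_ne_zero_iff.1 hab
  obtain ⟨-, n3⟩ := mul_ne_zero_iff.1 hbc
  refine ⟨(1 - a) * (1 - b) * (1 - c) / ((a - b) * (a - c) * (b - c)), ?_⟩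
  rw [div_mul_div_comm, eq_div_iff (mul_ne_zero (mul_ne_zero (mul_ne_zero n1 n2) n3)
    (mul_ne_zero (mul_ne_zero n1 n2) n3))]
  calc A * B * C * ((a - b) * (a - c) * (b - c) * ((a - b) * (a - c) * (b - c)))
      = -(A * ((a - b) * (a - c))) * (B * ((b - a) * (b - c))) * (C * ((c - a) * (c - b))) := by
        ring
    _ = _ := by rw [eA, eB, eC]; ring

include hfree hCN in
omit hM in
/-- An element of the Sylow subgroup conjugate to its inverse is an involution. -/
theorem mul_self_eq_one_of_real {v : (P : Subgroup G)} (h : IsConj (v : G)⁻¹ (v : G)) :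
    (v : G) * v = 1 := by
  classical
  by_cases hv : (v : G) = 1
  · rw [hv, mul_one]
  obtain ⟨g, hg⟩ := isConj_iff.1 h
  obtain ⟨n, hn, hn'⟩ := Fusion.exists_normalizer_conj_of_abelian P
    (x := (v : G)⁻¹) (g := g) (inv_mem v.2) (by rw [hg]; exact v.2)
  rw [hg] at hn'
  set N := Subgroup.normalizer ((P : Subgroup G) : Set G)
  set C := Subgroup.centralizer ((P : Subgroup G) : Set G)
  have hnC : n ∈ C := by
    have hsq : n * n ∈ C := by
      refine (hfree v v.2 hv).le (Subgroup.mem_inf.2 ⟨Subgroup.mem_centralizer_singleton_iff.2 ?_, mul_mem hn hn⟩)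
      have e1 : n * (v : G) * n⁻¹ = (v : G)⁻¹ := by
        have := congrArg (fun z : G => z⁻¹) hn'
        simpa [mul_assoc] using this
      calc n * n * (v : G) = n * (n * (v : G) * n⁻¹) * n := by group
        _ = n * (v : G)⁻¹ * n⁻¹ * (n * n) := by rw [e1]; group
        _ = (v : G) * (n * n) := by rw [hn']
    haveI : (C.subgroupOf N).Normal :=
      Subgroup.normal_subgroupOf_of_le_normalizer fun x hx => mem_normalizer_centralizer hx
    have hcube := Subgroup.pow_index_mem (C.subgroupOf N) (⟨n, hn⟩ : N)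
    rw [show (C.subgroupOf N).index = 3 from hCN, Subgroup.mem_subgroupOf] at hcube
    have h3 : n ^ 3 ∈ C := hcube
    have e : n = (n * n)⁻¹ * n ^ 3 := by group
    rw [e]
    exact mul_mem (inv_mem hsq) h3
  rw [← Subgroup.mem_centralizer_iff.1 hnC _ (inv_mem v.2), mul_inv_cancel_right] at hn'
  nth_rewrite 1 [← hn']
  rw [inv_mul_cancel]

include hM hfree hCN in
/-- There is a character nontrivial only where no product of two conjugates of `t` lies. -/
theorem exists_good_hom {t : G} (ht : orderOf t = 2) (hq : 3 + 1 < Nat.card (P : Subgroup G)) :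
    ∃ ψ : (P : Subgroup G) →* ℂˣ, ψ ≠ 1 ∧ ∀ v : (P : Subgroup G), ψ v ≠ 1 →
      ∀ g : G, IsConj (pPt p g) (v : G)⁻¹ →
        ¬ IsConj t g ∧ ∀ a b : G, IsConj t a → IsConj t b → a * b ≠ g := by
  classical
  have hp : p.Prime := Fact.out
  -- the characters
  have hHom : Fintype.card ((P : Subgroup G) →* ℂˣ) = Nat.card (P : Subgroup G) := by
    have h : (Fintype.card (IrrCharacter (P : Subgroup G)) : ℂ) =
        (Nat.card (P : Subgroup G) : ℂ) := by
      rw [← Char.sum_sq_degree, Finset.sum_congr rfl fun χ _ => by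
        rw [Char.degree_eq_one_of_comm (sylow_comm P) χ.2, one_pow], Finset.sum_const,
        Finset.card_univ, nsmul_eq_mul, mul_one]
    rw [Fintype.card_congr (linIrrPrincipalFree (sylow_comm P))]
    exact_mod_cast h
  let S : Finset (P : Subgroup G) := Finset.univ.filter fun a => IsConj t (a : G)
  have hS3 : S.card ≤ 3 := by
    rcases S.eq_empty_or_nonempty with h | ⟨a₀, ha₀⟩
    · simp [h]
    have hex : ∀ a : S, ∃ n : Subgroup.normalizer ((P : Subgroup G) : Set G),
        (n : G) * (a₀ : G) * (n : G)⁻¹ = ((a : (P : Subgroup G)) : G) := by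
      intro a
      have hc : IsConj (a₀ : G) ((a : (P : Subgroup G)) : G) :=
        (Finset.mem_filter.1 ha₀).2.symm.trans (Finset.mem_filter.1 a.2).2
      obtain ⟨g, hg⟩ := isConj_iff.1 hc
      obtain ⟨n, hn, hn'⟩ := Fusion.exists_normalizer_conj_of_abelian P a₀.2
        (g := g) (by rw [hg]; exact (a : (P : Subgroup G)).2)
      exact ⟨⟨n, hn⟩, by rw [← hg]; exact hn'⟩
    choose n hn using hex
    rw [← Fintype.card_coe, ← Nat.card_eq_fintype_card, ← hCN, Subgroup.relIndex, Subgroup.index]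
    refine Nat.card_le_card_of_injective (fun a => QuotientGroup.mk (n a)) fun a b hab => ?_
    have h := QuotientGroup.eq.1 hab
    rw [Subgroup.mem_subgroupOf] at h
    have h' := Subgroup.mem_centralizer_iff.1 h (a₀ : G) a₀.2
    push_cast at h'
    refine Subtype.ext (Subtype.ext ?_)
    rw [← hn a, ← hn b]
    calc (n a : G) * (a₀ : G) * (n a : G)⁻¹
        = (n a : G) * ((a₀ : G) * ((n a : G)⁻¹ * (n b : G))) * (n b : G)⁻¹ := by group
      _ = (n b : G) * (a₀ : G) * (n b : G)⁻¹ := by rw [h']; group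
  have htt : t * t = 1 := by rw [← pow_two, ← ht, pow_orderOf_eq_one]
  have hSsq : ∀ a ∈ S, (a : (P : Subgroup G)) * a = 1 := fun a ha => by
    obtain ⟨g, hg⟩ := isConj_iff.1 (Finset.mem_filter.1 ha).2
    refine Subtype.ext ?_
    rw [Subgroup.coe_mul, ← hg, show g * t * g⁻¹ * (g * t * g⁻¹) = g * (t * t) * g⁻¹ by group, htt]
    simp
  -- a character trivial on the conjugates of `t`
  obtain ⟨ψ, hψ1, hψS⟩ : ∃ ψ : (P : Subgroup G) →* ℂˣ, ψ ≠ 1 ∧ ∀ a ∈ S, ψ a = 1 := by
    have hlt : Fintype.card (S → Bool) < Fintype.card ((P : Subgroup G) →* ℂˣ) := by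
      rw [hHom, Fintype.card_fun, Fintype.card_bool, Fintype.card_coe]
      by_cases h2 : p = 2
      · -- the order is a power of two, congruent to one modulo three
        subst h2
        obtain ⟨k, hk⟩ := IsPGroup.iff_card.1 P.isPGroup'
        have h3 := card_homOrb hfree hCN
        rw [hk] at h3 hq ⊢
        have hk4 : 4 ≤ k := by
          by_contra hk4
          interval_cases k <;> omega
        calc 2 ^ S.card ≤ 2 ^ 3 := Nat.pow_le_pow_right (by norm_num) hS3
          _ < 2 ^ 4 := by norm_num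
          _ ≤ 2 ^ k := Nat.pow_le_pow_right (by norm_num) hk4
      · have hempty : S = ∅ := by
          refine Finset.filter_eq_empty_iff.2 fun a _ ha => h2 ?_
          obtain ⟨k, hk⟩ := orderOf_sylow P a.2
          obtain ⟨g, hg⟩ := isConj_iff.1 ha
          rw [← hg, show g * t * g⁻¹ = MulAut.conj g t from rfl, MulEquiv.orderOf_eq, ht] at hk
          exact ((Nat.prime_dvd_prime_iff_eq Nat.prime_two hp).1
            (Nat.Prime.dvd_of_dvd_pow Nat.prime_two hk.dvd)).symm
        rw [hempty, Finset.card_empty, pow_zero]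
        omega
    obtain ⟨ψ₁, ψ₂, hne, heq⟩ := Fintype.exists_ne_map_eq_of_card_lt
      (fun (ψ : (P : Subgroup G) →* ℂˣ) (a : S) => decide (ψ a = 1)) hlt
    refine ⟨ψ₁ / ψ₂, fun h => hne (div_eq_one.1 h), fun a ha => ?_⟩
    have hsq : ∀ ψ : (P : Subgroup G) →* ℂˣ, ψ a = 1 ∨ ψ a = -1 := fun ψ => by
      have h : ψ a * ψ a = 1 := by rw [← map_mul, hSsq a ha, map_one]
      have h' : ((ψ a : ℂˣ) : ℂ) * (ψ a : ℂˣ) = 1 := by rw [← Units.val_mul, h, Units.val_one]
      rcases mul_self_eq_one_iff.1 h' with e | e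
      · exact Or.inl (Units.ext e)
      · exact Or.inr (Units.ext e)
    have he := congrFun heq ⟨a, ha⟩
    simp only [decide_eq_decide] at he
    rw [MonoidHom.div_apply, div_eq_one]
    rcases hsq ψ₁ with e1 | e1 <;> rcases hsq ψ₂ with e2 | e2 <;> simp_all
  refine ⟨ψ, hψ1, fun v hv g hg => ?_⟩
  have hv1 : (v : G) ≠ 1 := fun h => hv (by rw [show v = 1 from Subtype.ext h, map_one])
  -- conjugates of `t` in the Sylow subgroup are killed
  have hkill : ∀ a : (P : Subgroup G), IsConj t (a : G) → ψ a = 1 := fun a ha =>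
    hψS a (Finset.mem_filter.2 ⟨Finset.mem_univ _, ha⟩)
  refine ⟨fun hc => ?_, fun a b ha hb hab => ?_⟩
  · obtain ⟨x, hx⟩ := isConj_iff.1 hc
    have hgo : orderOf g = 2 := by
      rw [← hx, show x * t * x⁻¹ = MulAut.conj x t from rfl, MulEquiv.orderOf_eq, ht]
    by_cases h2 : p = 2
    · subst h2
      have hp' : pPt 2 g = g := (eq_pPt (x := g) (y := 1) (mul_one _) (Commute.one_right _)
        (k := 1) (by rw [hgo, pow_one]) (by simp)).symm
      rw [hp'] at hg
      have h := hkill v⁻¹ (by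
        rw [InvMemClass.coe_inv]
        exact hc.trans hg)
      rw [map_inv, inv_eq_one] at h
      exact hv h
    · rw [(pPt_eq_one_iff g).2 (fun h => h2 ((Nat.prime_dvd_prime_iff_eq hp Nat.prime_two).1
        (hgo ▸ h))), isConj_one_right, inv_eq_one] at hg
      exact hv1 hg
  · -- both factors invert the section
    have hinv2 : ∀ a : G, IsConj t a → a⁻¹ = a := fun a ha => by
      obtain ⟨x, rfl⟩ := isConj_iff.1 ha
      have : t⁻¹ = t := inv_eq_of_mul_eq_one_right htt
      rw [mul_inv_rev, mul_inv_rev, inv_inv, this, mul_assoc]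
    have hag : a * g * a⁻¹ = g⁻¹ := by
      rw [← hab, mul_inv_rev, hinv2 b hb]
      calc a * (a * b) * a⁻¹ = a * a * b * a⁻¹ := by group
        _ = b * a⁻¹ := by rw [show a * a = 1 by nth_rw 1 [← hinv2 a ha]; exact inv_mul_cancel a,
          one_mul]
    obtain ⟨x, hx⟩ := isConj_iff.1 hg
    have hainv : a * pPt p g * a⁻¹ = (pPt p g)⁻¹ := by
      rw [← pPt_conj, hag, pPt_inv]
    have hreal : IsConj (v : G)⁻¹ (v : G) := by
      have h1 : IsConj (pPt p g) (pPt p g)⁻¹ := isConj_iff.2 ⟨a, hainv⟩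
      have h2 : IsConj (pPt p g)⁻¹ (v : G) := isConj_iff.2 ⟨x, by rw [← conj_inv, hx, inv_inv]⟩
      exact hg.symm.trans (h1.trans h2)
    have hvv := mul_self_eq_one_of_real hfree hCN hreal
    have hvinv : (v : G)⁻¹ = v := inv_eq_of_mul_eq_one_right hvv
    have h2 : p = 2 := by
      obtain ⟨k, hk⟩ := orderOf_sylow P v.2
      have ho : orderOf (v : G) = 2 := orderOf_eq_prime (by rw [pow_two, hvv]) hv1
      rw [ho] at hk
      exact ((Nat.prime_dvd_prime_iff_eq Nat.prime_two hp).1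
        (Nat.Prime.dvd_of_dvd_pow Nat.prime_two hk.dvd)).symm
    subst h2
    -- move the section to `v`
    set H := Subgroup.centralizer ({(v : G)} : Set G) with hH
    rw [hvinv] at hx
    have hmem : ∀ c : G, c * pPt 2 g * c⁻¹ = pPt 2 g → x * c * x⁻¹ ∈ H := fun c hc => by
      refine Subgroup.mem_centralizer_singleton_iff.2 ?_
      rw [← hx]
      calc x * c * x⁻¹ * (x * pPt 2 g * x⁻¹) = x * (c * pPt 2 g * c⁻¹) * c * x⁻¹ := by group
        _ = _ := by rw [hc]; group
    have hginv : (pPt 2 g)⁻¹ = pPt 2 g := by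
      have := congrArg (fun z : G => z⁻¹) hx
      simp only [mul_inv_rev, inv_inv, hvinv] at this
      rw [← hx] at this
      exact mul_left_cancel (mul_right_cancel ((mul_assoc x _ _).trans this))
    have haH := hmem a (hainv.trans hginv)
    have hbH : x * b * x⁻¹ ∈ H := hmem b (by
      have hb' : b = a⁻¹ * g := by rw [← hab]; group
      have hc : Commute g (pPt 2 g) := by
        obtain ⟨j, hj⟩ := Subgroup.mem_zpowers_iff.1 (pPt_mem_zpowers (p := 2) g)
        exact hj ▸ Commute.self_zpow g j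
      rw [hb']
      calc a⁻¹ * g * pPt 2 g * (a⁻¹ * g)⁻¹ = a⁻¹ * (g * pPt 2 g * g⁻¹) * a := by group
        _ = a⁻¹ * pPt 2 g * a := by rw [hc.eq, mul_inv_cancel_right]
        _ = a * pPt 2 g * a⁻¹ := by rw [hinv2 a ha]
        _ = _ := hainv.trans hginv)
    have hvP : (v : G) ∈ (P : Subgroup G) := v.2
    have hle := sylow_le_centralizer_singleton P hvP
    set Q := P.subtype hle with hQ
    have hNC := normalizer_le_centralizer_free hfree hvP hv1
    let T : H →* (P : Subgroup G) :=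
      (Subgroup.subgroupOfEquivOfLe hle).toMonoidHom.comp (MonoidHom.transferSylow Q hNC)
    have hTQ : ∀ (w : H) (hw : (w : G) ∈ (P : Subgroup G)),
        T w = (⟨(w : G), hw⟩ : (P : Subgroup G)) ^ (Q : Subgroup H).index := fun w hw => by
      have h := MonoidHom.transferSylow_eq_pow Q hNC w hw
      refine Subtype.ext ?_
      show (((MonoidHom.transferSylow Q hNC w : (Q : Subgroup H)) : H) : G) = _
      rw [h, SubgroupClass.coe_pow]
      rfl
    have hkillH : ∀ (c : G) (hc : c ∈ H), IsConj t c → ψ (T ⟨c, hc⟩) = 1 := by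
      intro c hc htc
      obtain ⟨y, hy⟩ := exists_conj_mem_sylow hM Q (x := (⟨c, hc⟩ : H)) ⟨1, by
        obtain ⟨z, hz⟩ := isConj_iff.1 htc
        rw [Subgroup.orderOf_mk, ← hz, show z * t * z⁻¹ = MulAut.conj z t from rfl,
          MulEquiv.orderOf_eq, ht, pow_one]⟩
      set w : H := y * ⟨c, hc⟩ * y⁻¹ with hw
      have e : T ⟨c, hc⟩ = T w := by
        rw [hw, map_mul, map_mul, map_inv, sylow_comm P (T y), mul_inv_cancel_right]
      rw [e, hTQ w hy, map_pow, hkill ⟨(w : G), hy⟩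
        (htc.trans (isConj_iff.2 ⟨(y : G), rfl⟩)), one_pow]
    have hψv : ψ v = -1 := by
      have hvv' : v * v = 1 := Subtype.ext hvv
      have h : ((ψ v : ℂˣ) : ℂ) * (ψ v : ℂˣ) = 1 := by
        rw [← Units.val_mul, ← map_mul, hvv', map_one, Units.val_one]
      rcases mul_self_eq_one_iff.1 h with e | e
      · exact absurd (Units.ext e) hv
      · exact Units.ext e
    have hodd : Odd (Q : Subgroup H).index := by
      refine Nat.not_even_iff_odd.1 fun he => Q.not_dvd_index' ?_ he.two_dvd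
      exact Nat.card_pos.ne'
    have hvH : (v : G) ∈ H := hle hvP
    have hTv : ψ (T ⟨v, hvH⟩) = -1 := by
      rw [hTQ ⟨v, hvH⟩ hvP, map_pow, show (⟨((⟨v, hvH⟩ : H) : G), hvP⟩ : (P : Subgroup G)) = v from
        rfl, hψv, hodd.neg_one_pow]
    set z : G := x * pReg 2 g * x⁻¹ with hz
    have hzH : z ∈ H := by
      refine Subgroup.mem_centralizer_singleton_iff.2 ?_
      rw [← hx, hz]
      have hc := (pPt_commute_pReg (p := 2) g).eq
      calc x * pReg 2 g * x⁻¹ * (x * pPt 2 g * x⁻¹) = x * (pReg 2 g * pPt 2 g) * x⁻¹ := by group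
        _ = x * (pPt 2 g * pReg 2 g) * x⁻¹ := by rw [hc]
        _ = _ := by group
    have hTz : T ⟨z, hzH⟩ = 1 := by
      have hzo : (orderOf (⟨z, hzH⟩ : H)).Coprime 2 := by
        rw [Subgroup.orderOf_mk, hz, show x * pReg 2 g * x⁻¹ = MulAut.conj x (pReg 2 g) from rfl,
          MulEquiv.orderOf_eq, Nat.coprime_comm, Nat.prime_two.coprime_iff_not_dvd]
        exact not_dvd_orderOf_pReg g
      obtain ⟨k, hk⟩ := IsPGroup.iff_orderOf.1 P.isPGroup' (T ⟨z, hzH⟩)
      refine orderOf_eq_one_iff.1 (Nat.eq_one_of_dvd_coprimes (hzo.pow_right k)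
        (orderOf_map_dvd T _) (hk ▸ dvd_refl _))
    have hprod : (⟨x * a * x⁻¹, haH⟩ : H) * ⟨x * b * x⁻¹, hbH⟩ = ⟨v, hvH⟩ * ⟨z, hzH⟩ := by
      refine Subtype.ext ?_
      show x * a * x⁻¹ * (x * b * x⁻¹) = (v : G) * z
      rw [hz, ← hx]
      calc x * a * x⁻¹ * (x * b * x⁻¹) = x * (a * b) * x⁻¹ := by group
        _ = x * (pPt 2 g * pReg 2 g) * x⁻¹ := by rw [hab, pPt_mul_pReg]
        _ = _ := by group
    have h := congrArg (fun w : H => ψ (T w)) hprod
    simp only [map_mul, hTz, mul_one, hTv, map_one,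
      hkillH _ haH (ha.trans (isConj_iff.2 ⟨x, rfl⟩)),
      hkillH _ hbH (hb.trans (isConj_iff.2 ⟨x, rfl⟩))] at h
    have h' := congrArg (fun w : ℂˣ => (w : ℂ)) h
    norm_num at h'

include hM hfree in
/-- The weighted sums vanish. -/
theorem sum_homMult_weight {t : G} {ψ : (P : Subgroup G) →* ℂˣ}
    (hgood : ∀ v : (P : Subgroup G), ψ v ≠ 1 → ∀ g : G, IsConj (pPt p g) (v : G)⁻¹ →
      ¬ IsConj t g ∧ ∀ a b : G, IsConj t a → IsConj t b → a * b ≠ g)
    [DecidablePred (· ∈ principalBlock M G)] :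
    (∑ χ ∈ (principalBlock M G).toFinset, homMult P ψ χ * (χ : G → ℂ) 1 = 0) ∧
    (∑ χ ∈ (principalBlock M G).toFinset, homMult P ψ χ * (χ : G → ℂ) t = 0) ∧
    (∑ χ ∈ (principalBlock M G).toFinset,
      homMult P ψ χ * ((χ : G → ℂ) t ^ 2 / (χ : G → ℂ) 1) = 0) := by
  classical
  have hB : IsPBlock M (principalBlock M G) := isPBlock_principal
  have key : ∀ c : IrrCharacter G → ℂ,
      (∀ v : (P : Subgroup G), ψ v ≠ 1 → ∀ g : G, IsConj (pPt p g) (v : G)⁻¹ →
        ∑ χ : IrrCharacter G, c χ * conj ((χ : G → ℂ) g) = 0) →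
      ∑ χ ∈ (principalBlock M G).toFinset, homMult P ψ χ * c χ = 0 := by
    intro c hc
    simp only [homMult_eq, mul_assoc, ← Finset.mul_sum, Finset.sum_mul]
    rw [Finset.sum_comm, Finset.sum_eq_zero, mul_zero]
    intro v _
    by_cases hv : ψ v = 1
    · refine Finset.sum_eq_zero fun χ _ => ?_
      rw [hv]
      simp
    · rw [Finset.sum_congr rfl (g := fun χ : IrrCharacter G =>
        conj ((ψ v : ℂ) - 1) * (c χ * (χ : G → ℂ) v)) fun χ _ => by ring, ← Finset.mul_sum,
        Cfsg.Agent.S4722.block_sum_eq_zero hM hB c (orderOf_sylow P v.2) (hc v hv), mul_zero]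
  refine ⟨key _ fun v hv g hg => ?_, key _ fun v hv g hg => ?_, key _ fun v hv g hg => ?_⟩
  · have hg1 : g ≠ 1 := by
      rintro rfl
      rw [show pPt p (1 : G) = 1 from (pPt_eq_one_iff _).2 (by simp [hM.1.ne_one]),
        isConj_one_right, inv_eq_one] at hg
      exact hv (by rw [show v = 1 from Subtype.ext hg, map_one])
    have h := Char.column_orthogonality (1 : G) g
    rw [if_neg fun hc => hg1 (isConj_one_right.1 hc)] at h
    exact h
  · have h := Char.column_orthogonality t g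
    rw [if_neg (hgood v hv g hg).1] at h
    exact h
  · have hempty : ((Char.classFinset t ×ˢ Char.classFinset t).filter fun q => q.1 * q.2 = g) = ∅ :=
      Finset.filter_eq_empty_iff.2 fun q hq => (hgood v hv g hg).2 q.1 q.2
        (Char.mem_classFinset.1 (Finset.mem_product.1 hq).1)
        (Char.mem_classFinset.1 (Finset.mem_product.1 hq).2)
    have h := Char.card_class_product t t g
    rw [hempty, Finset.card_empty, Nat.cast_zero] at h
    have hne : ((Char.classFinset t).card : ℂ) * (Char.classFinset t).card / (Nat.card G : ℂ) ≠ 0 :=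
      div_ne_zero (mul_ne_zero (Nat.cast_ne_zero.2 (Finset.card_ne_zero.2
        ⟨t, Char.mem_classFinset.2 (IsConj.refl t)⟩)) (Nat.cast_ne_zero.2 (Finset.card_ne_zero.2
        ⟨t, Char.mem_classFinset.2 (IsConj.refl t)⟩))) Char.card_cast_ne_zero
    rw [← (mul_eq_zero.1 h.symm).resolve_left hne]
    exact Finset.sum_congr rfl fun χ _ => by ring

omit [Fact p.Prime] in
/-- A nonprincipal character does not take its degree at `t`. -/
theorem apply_ne_one_of_normal_gen {t : G} (hK : ∀ K : Subgroup G, K.Normal → t ∈ K → K = ⊤)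
    {χ : IrrCharacter G} (hχ : χ ≠ trivChar G) : (χ : G → ℂ) t ≠ (χ : G → ℂ) 1 := by
  intro h
  have htop := hK _ (Char.charKer_normal χ.2.isCharacter) ((Char.mem_charKer _).2 h)
  have h' := Char.classInner_irr_ne χ.2 (trivChar G).2 fun h => hχ (Subtype.ext h)
  rw [trivChar_coe, Char.classInner_one_right, Finset.sum_congr rfl fun g _ =>
    (Char.mem_charKer χ.2.isCharacter).1 (htop ▸ Subgroup.mem_top g), Finset.sum_const,
    Finset.card_univ, nsmul_eq_mul, ← Nat.card_eq_fintype_card, ← mul_assoc,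
    inv_mul_cancel₀ Char.card_cast_ne_zero, one_mul] at h'
  exact χ.2.apply_one_ne_zero h'

open Classical in
include hM hfree hCN in
/-- The signs and the degrees when an involution generates the group normally. -/
theorem FreeShape.involution {y : HomOrb P → IrrCharacter G} {n : IrrCharacter G → ℤ} {δ : ℤ}
    (S : FreeShape M P 3 y n δ 0) (h2 : 2 ≤ Fintype.card (HomOrb P))
    (hq : 3 + 1 < Nat.card (P : Subgroup G))
    (hX : Nat.card ↑(principalBlock M G \ Set.range y) = 3)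
    (hn : ∀ χ ∈ principalBlock M G, χ ∉ Set.range y → n χ = 1 ∨ n χ = -1)
    {t : G} (ht : orderOf t = 2) (hK : ∀ K : Subgroup G, K.Normal → t ∈ K → K = ⊤) :
    ∃ x₁ x₂, x₁ ≠ x₂ ∧ (principalBlock M G \ Set.range y) = {trivChar G, x₁, x₂} ∧
      x₁ ≠ trivChar G ∧ x₂ ≠ trivChar G ∧
      (if -n x₁ = -1 then 1 else 0) + (if -n x₂ = -1 then 1 else 0) + (if δ = 1 then 1 else 0) = 2 ∧
      ∀ j, IsSquare (charDegree (y j : G → ℂ) *
        (charDegree (x₁ : G → ℂ) * charDegree (x₂ : G → ℂ))) := by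
  have htriv : trivChar G ∈ principalBlock M G \ Set.range y :=
    ⟨trivChar_mem_principal hM, S.triv_not_range hM h2⟩
  obtain ⟨x₁, x₂, hx12, hset⟩ : ∃ x₁ x₂, x₁ ≠ x₂ ∧
      (principalBlock M G \ Set.range y).toFinset.erase (trivChar G) = {x₁, x₂} := by
    refine Finset.card_eq_two.1 ?_
    rw [Finset.card_erase_of_mem (Set.mem_toFinset.2 htriv), ← Nat.card_eq_card_toFinset, hX]
  have hx1 : x₁ ∈ (principalBlock M G \ Set.range y).toFinset.erase (trivChar G) :=
    hset ▸ Finset.mem_insert_self _ _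
  have hx2 : x₂ ∈ (principalBlock M G \ Set.range y).toFinset.erase (trivChar G) :=
    hset ▸ Finset.mem_insert_of_mem (Finset.mem_singleton_self _)
  obtain ⟨hx1t, hx1m⟩ := Finset.mem_erase.1 hx1
  obtain ⟨hx2t, hx2m⟩ := Finset.mem_erase.1 hx2
  rw [Set.mem_toFinset] at hx1m hx2m
  have hXeq : (principalBlock M G \ Set.range y).toFinset = {trivChar G, x₁, x₂} := by
    rw [← Finset.insert_erase (Set.mem_toFinset.2 htriv), hset]
  have hsetX : principalBlock M G \ Set.range y = {trivChar G, x₁, x₂} := by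
    have := congrArg (fun s : Finset (IrrCharacter G) => (s : Set (IrrCharacter G))) hXeq
    simpa using this
  refine ⟨x₁, x₂, hx12, hsetX, hx1t, hx2t, ?_⟩
  obtain ⟨ψ, hψ, hgood⟩ := exists_good_hom hM hfree hCN ht hq
  obtain ⟨e1, et, ett⟩ := sum_homMult_weight hM hfree hgood
  obtain ⟨j, hj⟩ : ∃ j : HomOrb P, j = Quotient.mk _ ⟨ψ, hψ⟩ := ⟨_, rfl⟩
  have hred : ∀ c : IrrCharacter G → ℂ,
      ∑ χ ∈ (principalBlock M G).toFinset, homMult P ψ χ * c χ =
        -(c (trivChar G) + ((-n x₁ : ℤ) : ℂ) * c x₁ + ((-n x₂ : ℤ) : ℂ) * c x₂ +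
          ((-δ : ℤ) : ℂ) * c (y j)) := by
    intro c
    have hB : (principalBlock M G).toFinset =
        (principalBlock M G \ Set.range y).toFinset ∪ Finset.univ.image y := by
      ext χ
      simp only [Set.mem_toFinset, Finset.mem_union, Set.mem_sdiff, Finset.mem_image,
        Finset.mem_univ, true_and, Set.mem_range]
      refine ⟨fun hχ => ?_, fun hχ => hχ.elim And.left fun ⟨j, hj⟩ => hj ▸ S.mem j⟩
      by_cases hr : ∃ j, y j = χ
      · exact Or.inr hr
      · exact Or.inl ⟨hχ, hr⟩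
    rw [hB, Finset.sum_union (Finset.disjoint_left.2 fun χ h1 h2' => by
      obtain ⟨j, -, rfl⟩ := Finset.mem_image.1 h2'
      exact (Set.mem_toFinset.1 h1).2 ⟨j, rfl⟩), Finset.sum_image fun a _ b _ h => S.inj h,
      Finset.sum_congr rfl (g := fun i => if j = i then (δ : ℂ) * c (y i) else 0) (fun i _ => by
        rw [S.coeff ⟨ψ, hψ⟩, ← hj]; split_ifs <;> simp),
      Finset.sum_ite_eq, if_pos (Finset.mem_univ _), hXeq,
      Finset.sum_insert (by simp [Ne.symm hx1t, Ne.symm hx2t]), Finset.sum_pair hx12,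
      homMult_trivChar P hψ, S.coeffX x₁ hx1m.1 hx1m.2 ⟨ψ, hψ⟩,
      S.coeffX x₂ hx2m.1 hx2m.2 ⟨ψ, hψ⟩]
    push_cast
    ring
  rw [hred, neg_eq_zero, trivChar_coe] at e1 et ett
  simp only [one_pow, div_one] at ett
  have hytriv : y j ≠ trivChar G := fun h => htriv.2 ⟨j, h⟩
  obtain ⟨s₁, hs₁⟩ := int_value_involution x₁ ht
  obtain ⟨s₂, hs₂⟩ := int_value_involution x₂ ht
  obtain ⟨s₃, hs₃⟩ := int_value_involution (y j) ht
  have hne : ∀ (χ : IrrCharacter G) (s : ℤ), χ ≠ trivChar G → (χ : G → ℂ) t = s →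
      (s : ℚ) / (charDegree (χ : G → ℂ) : ℚ) ≠ 1 := by
    intro χ s hχ hs h
    refine apply_ne_one_of_normal_gen hK hχ ?_
    rw [hs, apply_one_eq_charDegree]
    rw [div_eq_one_iff_eq (Nat.cast_ne_zero.2 (charDegree_pos χ).ne')] at h
    exact_mod_cast congrArg (fun r : ℚ => (r : ℂ)) h
  set d₁ := charDegree (x₁ : G → ℂ) with hd₁
  set d₂ := charDegree (x₂ : G → ℂ) with hd₂
  set d₃ := charDegree (y j : G → ℂ) with hd₃
  have p1 : (d₁ : ℚ) ≠ 0 := Nat.cast_ne_zero.2 (charDegree_pos x₁).ne'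
  have p2 : (d₂ : ℚ) ≠ 0 := Nat.cast_ne_zero.2 (charDegree_pos x₂).ne'
  have p3 : (d₃ : ℚ) ≠ 0 := Nat.cast_ne_zero.2 (charDegree_pos (y j)).ne'
  rw [apply_one_eq_charDegree, apply_one_eq_charDegree, apply_one_eq_charDegree, ← hd₁, ← hd₂,
    ← hd₃] at e1 ett
  rw [hs₁, hs₂, hs₃] at et ett
  have a1 : (-n x₁ : ℤ) ≠ 0 := neg_ne_zero.2 (S.ne_zero x₁ hx1m.1 hx1m.2)
  have a2 : (-n x₂ : ℤ) ≠ 0 := neg_ne_zero.2 (S.ne_zero x₂ hx2m.1 hx2m.2)
  have a3 : (-δ : ℤ) ≠ 0 := by rcases S.sign with h | h <;> omega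
  have q0 : 1 + ((-n x₁ : ℤ) : ℚ) * d₁ + ((-n x₂ : ℤ) : ℚ) * d₂ + ((-δ : ℤ) : ℚ) * d₃ = 0 := by
    apply (Rat.cast_injective (α := ℂ))
    push_cast at e1 ⊢
    linear_combination e1
  have q1 : 1 + ((-n x₁ : ℤ) : ℚ) * d₁ * ((s₁ : ℚ) / d₁) + ((-n x₂ : ℤ) : ℚ) * d₂ * ((s₂ : ℚ) / d₂) +
      ((-δ : ℤ) : ℚ) * d₃ * ((s₃ : ℚ) / d₃) = 0 := by
    simp only [mul_assoc, mul_div_cancel₀ _ p1, mul_div_cancel₀ _ p2, mul_div_cancel₀ _ p3]
    apply (Rat.cast_injective (α := ℂ))
    push_cast at et ⊢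
    linear_combination et
  have q2 : 1 + ((-n x₁ : ℤ) : ℚ) * d₁ * ((s₁ : ℚ) / d₁) ^ 2 +
      ((-n x₂ : ℤ) : ℚ) * d₂ * ((s₂ : ℚ) / d₂) ^ 2 +
      ((-δ : ℤ) : ℚ) * d₃ * ((s₃ : ℚ) / d₃) ^ 2 = 0 := by
    have hh : ∀ s d : ℚ, d ≠ 0 → d * (s / d) ^ 2 = s ^ 2 / d := fun s d hd => by field_simp
    simp only [mul_assoc, hh _ _ p1, hh _ _ p2, hh _ _ p3]
    apply (Rat.cast_injective (α := ℂ))
    push_cast at ett ⊢
    linear_combination ett
  have hsq := isSquare_weights
    (mul_ne_zero (Int.cast_ne_zero.2 a1) p1) (mul_ne_zero (Int.cast_ne_zero.2 a2) p2)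
    (mul_ne_zero (Int.cast_ne_zero.2 a3) p3) (hne x₁ s₁ hx1t hs₁) (hne x₂ s₂ hx2t hs₂)
    (hne (y j) s₃ hytriv hs₃) q0 q1 q2
  have hpos := hsq.nonneg
  have q1' : (0 : ℚ) < d₁ := lt_of_le_of_ne (Nat.cast_nonneg _) p1.symm
  have q2' : (0 : ℚ) < d₂ := lt_of_le_of_ne (Nat.cast_nonneg _) p2.symm
  have q3' : (0 : ℚ) < d₃ := lt_of_le_of_ne (Nat.cast_nonneg _) p3.symm
  have hprod : (0 : ℚ) < (d₁ : ℚ) * d₂ * d₃ := by positivity
  have hsign : (if -n x₁ = -1 then 1 else 0) + (if -n x₂ = -1 then 1 else 0) +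
      (if δ = 1 then 1 else 0) = 2 ∧ ((-n x₁ : ℤ) : ℚ) * (-n x₂ : ℤ) * (-δ : ℤ) = 1 := by
    rcases hn x₁ hx1m.1 hx1m.2 with h | h <;> rcases hn x₂ hx2m.1 hx2m.2 with h' | h' <;>
      rcases S.sign with h'' | h'' <;> simp only [h, h', h''] at hpos q0 ⊢ <;>
      push_cast at hpos q0 ⊢ <;> first | (norm_num; done) | (exfalso; nlinarith)
  refine ⟨hsign.1, fun i => ?_⟩
  have hi : charDegree (y i : G → ℂ) = d₃ := by
    have h := S.regEq i j 1 (by simp [IsPRegular, (Fact.out : p.Prime).ne_one])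
    rw [apply_one_eq_charDegree, apply_one_eq_charDegree, ← hd₃] at h
    exact_mod_cast h
  rw [hi]
  refine Rat.isSquare_natCast_iff.1 ?_
  push_cast
  convert hsq using 1
  linear_combination -((d₁ : ℚ) * d₂ * d₃) * hsign.2

end Cfsg.Lib.Block
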