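import Cfsg.Agent.Lib.Block.ThreeHeightZero
import Cfsg.Agent.Lib.Block.PrincipalNilpotent
import Cfsg.Agent.Lib.Block.CyclicPrimeApps
import Cfsg.Agent.Lib.Block.ThirdMain
import Cfsg.Agent.Lib.Block.PSolvableHeight
import Mathlib.GroupTheory.FixedPointFree

/-!
# One character more than simple modules

When a block has at most one character more than it has simple modules, the nonidentity elements
of a defect group are conjugate.  In the principal block, and in a `p`-solvable group, this makes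
the defect group elementary abelian.
-/

set_option autoImplicit false
set_option linter.unusedSectionVars false
set_option maxHeartbeats 1000000

namespace Cfsg.Lib.Block

open Cfsg
open scoped ComplexConjugate commutatorElement

universe u

variable {p : ℕ} [hp : Fact p.Prime] {M : Ideal AlgInt}

noncomputable local instance (priority := high) fintypeSubgroupRankPlusOne {G : Type u} [Group G]
    [Fintype G] (H : Subgroup G) : Fintype H := Fintype.ofFinite H

include hp in
/-- The simple modules of a block and those of a section above it number at most the characters. -/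
theorem rank_add_rank_le_card {G : Type u} [Group G] [Fintype G] (hM : IsPModular p M)
    {B : Set (IrrCharacter G)} (hB : IsPBlock M B) {w : G} (hw : ∃ k : ℕ, orderOf w = p ^ k)
    (hw1 : w ≠ 1) {b : Set (IrrCharacter (Subgroup.centralizer ({w} : Set G)))}
    (hb : IsInducedBlock M (Subgroup.centralizer ({w} : Set G)) b B) :
    blockRank p B + blockRank p b ≤ Nat.card B := by
  classical
  let r : G → G := fun g =>
    if IsConj g 1 then 1 else if IsConj g w then w else
      Quotient.out (s := IsConj.setoid G) (Quotient.mk _ g)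
  have hr : ∀ g : G, IsConj g (r g) := fun g => by
    simp only [r]
    split_ifs with h h'
    · exact h
    · exact h'
    · exact (Quotient.mk_out (s := IsConj.setoid G) g).symm
  have hr' : ∀ g h : G, IsConj g h → r g = r h := fun g h hgh => by
    simp only [r]
    have he : IsConj g 1 ↔ IsConj h 1 := ⟨fun h' => hgh.symm.trans h', fun h' => hgh.trans h'⟩
    have he' : IsConj g w ↔ IsConj h w := ⟨fun h' => hgh.symm.trans h', fun h' => hgh.trans h'⟩
    have hq : Quotient.mk (IsConj.setoid G) g = Quotient.mk (IsConj.setoid G) h :=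
      Quotient.sound hgh
    rw [hq]
    exact if_congr he rfl (if_congr he' rfl rfl)
  have hr1 : r 1 = 1 := by simp [r]
  have hrw : r w = w := by
    have h : ¬ IsConj w 1 := fun h => hw1 (isConj_one_left.1 h)
    show (if IsConj w 1 then 1 else if IsConj w w then w else _) = w
    rw [if_neg h, if_pos (IsConj.refl w)]
  set X : Finset G :=
    (Finset.univ.filter fun g : G => ∃ k : ℕ, orderOf g = p ^ k).image r with hXdef
  have hXp : ∀ x ∈ X, ∃ k : ℕ, orderOf x = p ^ k := fun x hx => by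
    obtain ⟨g, hg, rfl⟩ := Finset.mem_image.1 hx
    obtain ⟨k, hk⟩ := (Finset.mem_filter.1 hg).2
    obtain ⟨c, hc⟩ := isConj_iff.1 (hr g)
    exact ⟨k, by rw [← hc, ← hk]; exact (MulAut.conj c).orderOf_eq g⟩
  have hrX : ∀ x ∈ X, r x = x := fun x hx => by
    obtain ⟨g, -, rfl⟩ := Finset.mem_image.1 hx
    exact (hr' g _ (hr g)).symm
  have hmemX : ∀ g : G, (∃ k : ℕ, orderOf g = p ^ k) → r g ∈ X := fun g hg =>
    Finset.mem_image.2 ⟨g, Finset.mem_filter.2 ⟨Finset.mem_univ _, hg⟩, rfl⟩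
  have hXrep : ∀ g : G, (∃ k : ℕ, orderOf g = p ^ k) → ∃! x, x ∈ X ∧ IsConj g x := fun g hg =>
    ⟨r g, ⟨hmemX g hg, hr g⟩,
      fun x ⟨hx, hgx⟩ => by rw [← hrX x hx]; exact (hr' g x hgx).symm⟩
  set S : G → ℕ := fun x => ∑ᶠ b ∈ {b : Set (IrrCharacter (Subgroup.centralizer ({x} : Set G))) |
      IsInducedBlock M (Subgroup.centralizer ({x} : Set G)) b B}, blockRank p b with hS
  have htot : Nat.card B = ∑ x ∈ X, S x := card_block_eq_sum_rank hM hB X hXp hXrep
  have hS1 : S 1 = blockRank p B := by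
    exact_mod_cast (blockRank_indSet hM (H := Subgroup.centralizer ({(1 : G)} : Set G)) B).symm.trans
      (congrArg (Nat.cast (R := ℂ)) (blockRank_indSet_one hM hB))
  have hSw : blockRank p b ≤ S w := by
    simp only [hS]
    rw [finsum_mem_eq_finite_toFinset_sum _ (Set.toFinite _)]
    exact Finset.single_le_sum (fun _ _ => Nat.zero_le _) ((Set.Finite.mem_toFinset _).2 hb)
  have hsub : ({1, w} : Finset G) ⊆ X := by
    intro x hx
    simp only [Finset.mem_insert, Finset.mem_singleton] at hx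
    rcases hx with rfl | rfl
    · exact hr1 ▸ hmemX 1 ⟨0, by simp⟩
    · exact hrw ▸ hmemX x hw
  have h2 := Finset.sum_le_sum_of_subset (f := S) hsub
  rw [← htot, Finset.sum_pair hw1.symm, hS1] at h2
  omega

include hp in
/-- If the principal block has at most one character more than it has simple modules, then the
centralizers of nonidentity `p`-elements have normal complements. -/
theorem hasNormalPComplement_centralizer_of_principal {G : Type u} [Group G] [Fintype G]
    (hM : IsPModular p M) (hk : Nat.card (principalBlock M G) ≤ blockRank p (principalBlock M G) + 1)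
    {w : G} (hw : ∃ k : ℕ, orderOf w = p ^ k) (hw1 : w ≠ 1) :
    HasNormalPComplement p (Subgroup.centralizer ({w} : Set G)) := by
  classical
  set H := Subgroup.centralizer ({w} : Set G) with hH
  have hHw : ∀ h : H, Commute w (h : G) := fun h =>
    Subgroup.mem_centralizer_iff.1 h.2 w rfl
  have hdef : InducedBlockDefined M H (principalBlock M H) := by
    obtain ⟨B, hB⟩ := exists_isInducedBlock_of_centralizer hM hw hHw le_rfl
      (isPBlock_principal (M := M) (G := H))
    exact ⟨B, hB⟩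
  have hind := (isInducedBlock_principal_iff hM hdef).2 rfl
  have h1 := rank_add_rank_le_card hM isPBlock_principal hw hw1 hind
  have h2 := blockRank_pos (p := p) hM (isPBlock_principal (M := M) (G := H))
  exact (hasNormalPComplement_iff_rank_one hM).2 (by omega)

include hp in
/-- A commutator of an element with normal complement membership and one of a `p`-subgroup it
normalizes is trivial. -/
theorem commutator_eq_one_of_residual {G : Type u} [Group G] [Fintype G] {H : Subgroup G}
    (hH : HasNormalPComplement p H) {P : Subgroup G} (hP : IsPGroup p P) {a x : G} (ha : a ∈ H)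
    (hx : x ∈ H) (hreg : ¬ p ∣ orderOf a) (hcP : ⁅a, x⁆ ∈ P) : ⁅a, x⁆ = 1 := by
  have haK : (⟨a, ha⟩ : H) ∈ pResidual p H := (Fusion.mem_pResidual_iff_coprime hH _).2
    ((coprime_orderOf_iff _).2 (by rwa [IsPRegular, Subgroup.orderOf_mk]))
  haveI := Fusion.pResidual_normal p H
  have hcK : (⁅(⟨a, ha⟩ : H), ⟨x, hx⟩⁆ : H) ∈ pResidual p H := by
    have e : ∀ u v : H, ⁅u, v⁆ = u * (v * u⁻¹ * v⁻¹) := fun u v => by
      rw [commutatorElement_def]; group
    rw [e]
    exact mul_mem haK (Subgroup.Normal.conj_mem inferInstance _ (inv_mem haK) _)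
  have hco := (Fusion.mem_pResidual_iff_coprime hH _).1 hcK
  obtain ⟨k, hk⟩ := hP ⟨_, hcP⟩
  have hk' : ⁅a, x⁆ ^ p ^ k = 1 := congrArg Subtype.val hk
  have hcoe : ((⁅(⟨a, ha⟩ : H), ⟨x, hx⟩⁆ : H) : G) = ⁅a, x⁆ := rfl
  rw [← Subgroup.orderOf_coe, hcoe] at hco
  exact orderOf_eq_one_iff.1 (Nat.Coprime.eq_one_of_dvd (hco.pow_right k)
    (orderOf_dvd_of_pow_eq_one hk'))

include hp in
/-- The principal block case. -/
theorem commute_of_principal {G : Type u} [Group G] [Fintype G] (hM : IsPModular p M)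
    (hp2 : p ≠ 2) {D : Subgroup G} (hD : IsDefectGroup p M (principalBlock M G) D)
    (hk : Nat.card (principalBlock M G) ≤ blockRank p (principalBlock M G) + 1)
    {a c : G} (ha : a ∈ D) (hc : c ∈ D) : a * c = c * a := by
  classical
  obtain ⟨S⟩ : Nonempty (Sylow p G) := inferInstance
  obtain ⟨y, hy⟩ := exists_conj_defectGroup hM isPBlock_principal
    (isDefectGroup_principal_sylow hM S) hD
  subst hy
  obtain ⟨a, haS, rfl⟩ := ha
  obtain ⟨c, hcS, rfl⟩ := hc
  rw [← map_mul, ← map_mul]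
  congr 1
  clear hD
  set P : Subgroup G := (S : Subgroup G) with hPdef
  have hP : IsPGroup p P := S.isPGroup'
  rcases subsingleton_or_nontrivial P with hs | hnt
  · exact congrArg Subtype.val (Subsingleton.elim (⟨a, haS⟩ * ⟨c, hcS⟩ : P) (⟨c, hcS⟩ * ⟨a, haS⟩))
  haveI := hP.center_nontrivial
  obtain ⟨⟨z, hzc⟩, hz1⟩ := exists_ne (1 : Subgroup.center P)
  have hzG1 : (z : G) ≠ 1 := fun h => hz1 (Subtype.ext (Subtype.ext h))
  have hzP : ∀ x ∈ P, Commute (z : G) x := fun x hx =>
    (congrArg Subtype.val (Subgroup.mem_center_iff.1 hzc ⟨x, hx⟩)).symm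
  have hord : ∀ x ∈ P, ∃ k : ℕ, orderOf x = p ^ k := fun x hx =>
    exists_orderOf_eq_pow_of_mem hP hx
  have hnc : ∀ x ∈ P, x ≠ 1 → HasNormalPComplement p (Subgroup.centralizer ({x} : Set G)) :=
    fun x hx hx1 => hasNormalPComplement_centralizer_of_principal hM hk (hord x hx) hx1
  -- an element inverting `z`
  obtain ⟨g, hg⟩ := isConj_iff.1 (isConj_of_card_le_rank_add_one hM isPBlock_principal
    (isDefectGroup_principal_sylow hM S) hk z.2 hzG1 (inv_mem z.2) (inv_ne_one.2 hzG1))
  have hzC : ∀ e : ℤ, (z : G) ^ e ∈ Subgroup.centralizer (S : Set G) := fun e =>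
    Subgroup.mem_centralizer_iff.2 fun x hx => ((hzP x hx).zpow_left e).symm.eq
  obtain ⟨n, hnN, hn⟩ := Sylow.conj_eq_normalizer_conj_of_mem_centralizer S (z : G) g⁻¹
    (by simpa using hzC 1) (by rw [inv_inv, hg]; simpa using hzC (-1))
  rw [inv_inv, hg] at hn
  -- of order prime to `p`
  set e := (orderOf n).factorization p with he
  set m := n ^ p ^ e with hm
  have hmreg : ¬ p ∣ orderOf m := by
    have hdvd : p ^ e ∣ orderOf n := Nat.ordProj_dvd _ _
    rw [hm, orderOf_pow' _ (pow_ne_zero _ hp.out.ne_zero), Nat.gcd_eq_right hdvd]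
    exact Nat.not_dvd_ordCompl hp.out (orderOf_pos n).ne'
  have hodd : Odd (p ^ e) := (hp.out.odd_of_ne_two hp2).pow
  have hn2 : Commute (n ^ 2) (z : G) := by
    have h1 : n⁻¹ * (z : G) * n = (z : G)⁻¹ := hn.symm
    have h2 : n⁻¹ * (z : G)⁻¹ * n = (z : G) := by
      have h := congrArg (·⁻¹) h1
      simpa only [mul_inv_rev, inv_inv, mul_assoc] using h
    have h3 : (n ^ 2)⁻¹ * (z : G) * n ^ 2 = (z : G) := by
      calc (n ^ 2)⁻¹ * (z : G) * n ^ 2 = n⁻¹ * (n⁻¹ * (z : G) * n) * n := by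
            simp only [pow_two, mul_inv_rev, mul_assoc]
        _ = _ := by rw [h1, h2]
    calc n ^ 2 * (z : G) = n ^ 2 * ((n ^ 2)⁻¹ * (z : G) * n ^ 2) := by rw [h3]
      _ = (z : G) * n ^ 2 := by group
  have hmz : m⁻¹ * (z : G) * m = (z : G)⁻¹ := by
    obtain ⟨j, hj⟩ := hodd
    rw [hm, hj, pow_succ, pow_mul, mul_inv_rev, hn]
    calc n⁻¹ * ((n ^ 2) ^ j)⁻¹ * (z : G) * ((n ^ 2) ^ j * n)
        = n⁻¹ * (((n ^ 2) ^ j)⁻¹ * (z : G) * (n ^ 2) ^ j) * n := by group
      _ = _ := by rw [mul_assoc _ (z : G), ((hn2.pow_left j).symm).eq, inv_mul_cancel_left]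
  have hmN : m ∈ Subgroup.normalizer (P : Set G) := pow_mem hnN _
  have hmP : ∀ x ∈ P, m * x * m⁻¹ ∈ P := fun x hx => (Subgroup.mem_normalizer_iff.1 hmN x).1 hx
  have hzm : m * (z : G) * m⁻¹ = (z : G)⁻¹ := by
    have h : m⁻¹ * (z : G)⁻¹ * m = (z : G) := by
      calc m⁻¹ * (z : G)⁻¹ * m = (m⁻¹ * (z : G) * m)⁻¹ := by group
        _ = _ := by rw [hmz, inv_inv]
    calc m * (z : G) * m⁻¹ = m * (m⁻¹ * (z : G)⁻¹ * m) * m⁻¹ := by rw [h]
      _ = _ := by group
  -- its square centralizes `P`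
  have hm2 : ∀ x ∈ P, Commute (m ^ 2) x := fun x hx => by
    refine commutatorElement_eq_one_iff_commute.1 (commutator_eq_one_of_residual (hnc _ z.2 hzG1)
      hP ?_ ?_ ?_ ?_)
    · refine Subgroup.mem_centralizer_singleton_iff.2 (Commute.eq ?_)
      rw [hm, ← pow_mul, mul_comm, pow_mul]
      exact (hn2.pow_left _)
    · exact Subgroup.mem_centralizer_singleton_iff.2 (hzP x hx).symm.eq
    · exact fun h => hmreg (h.trans (orderOf_pow_dvd 2))
    · rw [commutatorElement_def]
      exact mul_mem ((Subgroup.mem_normalizer_iff.1 (pow_mem hmN 2) x).1 hx) (inv_mem hx)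
  -- it fixes only the identity
  let φ : P →* P := ((MulAut.conj m).toMonoidHom.comp P.subtype).codRestrict P fun x => hmP x x.2
  have hφ : ∀ x : P, ((φ x : P) : G) = m * (x : G) * m⁻¹ := fun x => rfl
  have hfpf : MonoidHom.FixedPointFree φ := by
    intro x hx
    by_contra hx1
    have hxG : (x : G) ≠ 1 := fun h => hx1 (Subtype.ext h)
    have hc := congrArg Subtype.val hx
    rw [hφ] at hc
    have h1 := commutator_eq_one_of_residual (hnc _ x.2 hxG) hP (a := m) (x := (z : G))
      (Subgroup.mem_centralizer_singleton_iff.2 (mul_inv_eq_iff_eq_mul.1 hc))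
      (Subgroup.mem_centralizer_singleton_iff.2 (hzP x x.2).eq) hmreg
      (by rw [commutatorElement_def]; exact mul_mem (hmP _ z.2) (inv_mem z.2))
    rw [commutatorElement_def, hzm, ← sq, inv_pow, inv_eq_one] at h1
    obtain ⟨k, hk'⟩ := hord z z.2
    rcases (Nat.dvd_prime Nat.prime_two).1 (orderOf_dvd_of_pow_eq_one h1) with h | h
    · exact hzG1 (orderOf_eq_one_iff.1 h)
    · exact hp2 ((Nat.prime_dvd_prime_iff_eq Nat.prime_two hp.out).1
        (Nat.prime_two.dvd_of_dvd_pow (n := k) (by rw [← hk', h]))).symm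
  have hinv : Function.Involutive φ := fun x => Subtype.ext (by
    rw [hφ, hφ]
    calc m * (m * (x : G) * m⁻¹) * m⁻¹ = m ^ 2 * (x : G) * (m ^ 2)⁻¹ := by
          rw [pow_two, mul_inv_rev]; group
      _ = _ := by rw [(hm2 x x.2).eq, mul_inv_cancel_right])
  exact congrArg Subtype.val (hfpf.commute_all_of_involutive hinv ⟨a, haS⟩ ⟨c, hcS⟩).eq

include hp in
/-- The rank of an induced block in the correspondence of blocks over a normal subgroup. -/
theorem blockRank_le_of_indFun {G : Type u} [Group G] [Fintype G] {T : Subgroup G}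
    {B : Set (IrrCharacter G)} {B' : Set (IrrCharacter T)}
    (h : ∀ χ ∈ B, ∃ ψ ∈ B', (χ : G → ℂ) = indFun T (ψ : T → ℂ)) :
    blockRank p B ≤ blockRank p B' := by
  classical
  obtain ⟨L, hL⟩ : ∃ L : (T → ℂ) →ₗ[ℂ] (G → ℂ), ∀ f, L f = indFun T f :=
    ⟨{ toFun := indFun T, map_add' := Char.indFun_add T, map_smul' := Char.indFun_smul T },
      fun _ => rfl⟩
  refine le_trans (Submodule.finrank_mono ?_)
    (Submodule.finrank_map_le L
      (Submodule.span ℂ ((fun ψ : IrrCharacter T => pRegularPart p (ψ : T → ℂ)) '' B')))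
  rw [Submodule.span_le]
  rintro _ ⟨χ, hχ, rfl⟩
  obtain ⟨ψ, hψ, he⟩ := h χ hχ
  refine ⟨_, Submodule.subset_span ⟨ψ, hψ, rfl⟩, ?_⟩
  rw [hL]
  funext g
  dsimp only
  by_cases hg : IsPRegular p g
  · rw [pRegularPart_of_reg hg, he]
    simp only [indFun]
    congr 1
    refine Finset.sum_congr rfl fun y _ => ?_
    by_cases hy : y⁻¹ * g * y ∈ T
    · rw [Char.extendByZero_of_mem _ _ hy, Char.extendByZero_of_mem _ _ hy, pRegularPart_of_reg]
      rw [IsPRegular, Subgroup.orderOf_mk,
        show y⁻¹ * g * y = MulAut.conj y⁻¹ g by simp, MulEquiv.orderOf_eq]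
      exact hg
    · rw [Char.extendByZero_of_notMem _ _ hy, Char.extendByZero_of_notMem _ _ hy]
  · rw [pRegularPart_of_sing hg]
    simp only [indFun]
    rw [Finset.sum_eq_zero fun y _ => ?_, mul_zero]
    by_cases hy : y⁻¹ * g * y ∈ T
    · rw [Char.extendByZero_of_mem _ _ hy, pRegularPart_of_sing]
      rw [IsPRegular, Subgroup.orderOf_mk,
        show y⁻¹ * g * y = MulAut.conj y⁻¹ g by simp, MulEquiv.orderOf_eq]
      exact hg
    · rw [Char.extendByZero_of_notMem _ _ hy]

include hp in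
/-- The `p`-solvable case. -/
theorem commute_of_isPSolvable (hM : IsPModular p M) :
    ∀ (n : ℕ) {G : Type u} [Group G] [Fintype G], Nat.card G = n → Cfsg.IsPSolvable p G →
      ∀ (B : Set (IrrCharacter G)), IsPBlock M B → ∀ D : Subgroup G, IsDefectGroup p M B D →
        Nat.card B ≤ blockRank p B + 1 → ∀ a ∈ D, ∀ c ∈ D, a * c = c * a := by
  classical
  intro n
  induction n using Nat.strong_induction_on with
  | _ n ih =>
  intro G _ _ hn hsolv B hB D hD hk
  obtain ⟨χ, hχ⟩ := nonempty_of_isPBlock hM hB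
  set N := Cfsg.pPrimeCore p G with hN
  have hNp : ¬ p ∣ Nat.card N := Cfsg.Lib.Core.pPrimeCore_not_dvd p G
  obtain ⟨θ, hc⟩ := Char.exists_irr_constituent_res N χ.2
  have hb : IsPBlock M ({θ} : Set (IrrCharacter N)) := by
    rw [← blockOf_eq_singleton_of_full hM θ
      (by rw [Nat.factorization_eq_zero_of_not_dvd hNp]; omega)]
    exact isPBlock_blockOf θ
  obtain ⟨T, hNT, hT⟩ := exists_blockStab (G := G) hM hb
  by_cases htop : T = ⊤
  · have hθ : ∀ g : G, twistIrr N g θ = θ := fun g =>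
      hT.twist_mem (htop ▸ Subgroup.mem_top g) (Set.mem_singleton θ)
    set O := Cfsg.pCore p (G ⧸ N) with hOdef
    have hO : IsPGroup p O := Cfsg.Lib.Core.pCore_isPGroup p (G ⧸ N)
    have hOc := Cfsg.Lib.Sig.isPConstrained_iff.1
      (Cfsg.Lib.Sig.isPConstrained_of_isPSolvable hsolv)
    obtain ⟨hB', ⟨-, hsyl⟩, -⟩ := stable_block hM hNp hθ hO hOc
      (B := {χ | classInner (fun m : N => (χ : G → ℂ) m) (θ : N → ℂ) ≠ 0}) fun χ => Iff.rfl
    obtain rfl := isPBlock_eq_of_mem hM hB hB' hχ hc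
    obtain ⟨S, rfl⟩ := hsyl D hD
    set π := QuotientGroup.mk' N with hπ
    have hinj : ∀ x ∈ (S : Subgroup G), π x = 1 → x = 1 := fun x hx h => by
      have hxN : x ∈ N := (QuotientGroup.eq_one_iff x).1 h
      obtain ⟨k, hk⟩ := S.isPGroup' ⟨x, hx⟩
      have h1 : orderOf x ∣ Nat.card N := by
        rw [← Subgroup.orderOf_mk x hxN]; exact orderOf_dvd_natCard _
      exact orderOf_eq_one_iff.1 (Nat.Coprime.eq_one_of_dvd
        ((hp.out.coprime_iff_not_dvd.2 fun h => hNp (h.trans h1)).symm.pow_right k)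
        (orderOf_dvd_of_pow_eq_one (congrArg Subtype.val hk)))
    have hsub : ∀ (A : Subgroup (G ⧸ N)), A.Normal → ∀ s ∈ (S : Subgroup G), s ≠ 1 → π s ∈ A →
        ∀ t ∈ (S : Subgroup G), π t ∈ A := fun A hA s hs hs1 hsA t ht => by
      by_cases ht1 : t = 1
      · rw [ht1, map_one]; exact one_mem A
      obtain ⟨g, hg⟩ := isConj_iff.1 (isConj_of_card_le_rank_add_one hM hB hD hk hs hs1 ht ht1)
      rw [← hg, map_mul, map_mul, map_inv]
      exact hA.conj_mem _ hsA _
    intro a ha c hc'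
    by_contra hac
    have hOne : O ≠ ⊥ := fun h => by
      rw [← hOdef, h] at hOc
      have h1 : π a = 1 := Subgroup.mem_bot.1 (hOc (Subgroup.mem_centralizer_iff.2 fun x hx => by
        rw [Subgroup.mem_bot.1 hx, one_mul, mul_one]))
      exact hac (by rw [hinj a ha h1, one_mul, mul_one])
    haveI : Nontrivial O := (Subgroup.nontrivial_iff_ne_bot _).2 hOne
    haveI := hO.center_nontrivial
    obtain ⟨⟨z, hzc⟩, hz1⟩ := exists_ne (1 : Subgroup.center O)
    set A : Subgroup (G ⧸ N) := (Subgroup.center O).map O.subtype with hA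
    haveI hAn : A.Normal := inferInstance
    obtain ⟨P, hP⟩ : ∃ P : Sylow p (G ⧸ N), (P : Subgroup (G ⧸ N)) = (S : Subgroup G).map π :=
      ⟨S.mapSurjective (QuotientGroup.mk'_surjective N), Sylow.coe_mapSurjective _ _⟩
    have hOS : O ≤ (S : Subgroup G).map π := by
      rw [← hP]
      exact Cfsg.Lib.Core.pCore_le_sylow P
    obtain ⟨s, hs, hsz⟩ := hOS z.2
    have hs1 : s ≠ 1 := fun h => hz1 (by
      subst h
      rw [map_one] at hsz
      exact Subtype.ext (Subtype.ext hsz.symm))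
    have hsA : π s ∈ A := ⟨z, hzc, hsz.symm⟩
    have hm := hsub A hAn s hs hs1 hsA
    obtain ⟨za, hza, hea⟩ := hm a ha
    obtain ⟨zc, hzc', hec⟩ := hm c hc'
    have hcomm : π (a * c) = π (c * a) := by
      rw [map_mul, map_mul, ← hea, ← hec, ← map_mul, ← map_mul,
        Subgroup.mem_center_iff.1 hzc' za]
    refine hac (eq_of_mul_inv_eq_one (hinj _ (mul_mem (mul_mem ha hc')
      (inv_mem (mul_mem hc' ha))) ?_))
    rw [map_mul, map_inv, hcomm, mul_inv_cancel]
  · have hlt : Nat.card T < n := by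
      rw [← hn]
      refine lt_of_le_of_ne (Subgroup.card_le_card_group T) fun h => htop ?_
      exact Subgroup.eq_top_of_card_eq T h
    obtain ⟨B', hB', hcov, hind⟩ := hT.exists_corr hNT hM hb hB ⟨χ, hχ, θ, rfl, hc⟩
    obtain ⟨D', hD'⟩ := exists_defectGroup hM hB'
    obtain ⟨x, hx⟩ := exists_conj_defectGroup hM hB (hT.defectGroup hNT hM hb hB' hcov hind hD') hD
    obtain ⟨B₁, hi, -, hirr, hmem⟩ := hT.exists_induced hNT hM hb hB' hcov
    obtain rfl := isInducedBlock_unique hM hi hind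
    have hcard : Nat.card B' ≤ Nat.card B₁ := by
      refine Nat.card_le_card_of_injective
        (fun ψ => ⟨⟨_, hirr ψ.1 ψ.2⟩, (hmem _).2 ⟨ψ.1, ψ.2, rfl⟩⟩) fun ψ ψ' h => Subtype.ext ?_
      obtain ⟨θ₁, hθ₁, hc₁⟩ := hT.all_over hNT hM hb hB' hcov ψ.2
      obtain ⟨θ₂, hθ₂, hc₂⟩ := hT.all_over hNT hM hb hB' hcov ψ'.2
      exact hT.induce_inj hNT hM hb hθ₁ hθ₂ hc₁ hc₂
        (congrArg (fun χ : B₁ => ((χ : IrrCharacter G) : G → ℂ)) h)
    have hrk := blockRank_le_of_indFun (p := p) (B := B₁) (B' := B') fun χ hχ => (hmem χ).1 hχ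
    subst hx
    rintro _ ⟨_, ⟨a, ha, rfl⟩, rfl⟩ _ ⟨_, ⟨c, hc', rfl⟩, rfl⟩
    rw [← map_mul, ← map_mul, ← map_mul, ← map_mul,
      ih _ hlt rfl (Cfsg.Lib.Core.isPSolvable_subgroup hsolv T) B' hB' D' hD'
        (by omega) a ha c hc']

include hp in
/-- The main statement. -/
theorem isElementaryAbelian_of_card_le_rank_add_one {G : Type u} [Group G] [Fintype G]
    (hM : IsPModular p M) {B : Set (IrrCharacter G)} (hB : IsPBlock M B) {D : Subgroup G}
    (hD : IsDefectGroup p M B D) (hk : Nat.card B ≤ blockRank p B + 1)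
    (hB0 : B = principalBlock M G ∨ Cfsg.IsPSolvable p G) : IsElementaryAbelian p D := by
  have hexp : ∀ x ∈ D, x ^ p = 1 := by
    intro x hx
    by_cases hx1 : x = 1
    · rw [hx1, one_pow]
    haveI : Nontrivial D := ⟨⟨⟨x, hx⟩, 1, fun h => hx1 (congrArg Subtype.val h)⟩⟩
    obtain ⟨k, hk'⟩ := IsPGroup.iff_card.1 (isPGroup_defectGroup hM hD)
    have hk0 : k ≠ 0 := fun h => by
      have := Finite.one_lt_card_iff_nontrivial.2 ‹_›
      rw [hk', h, pow_zero] at this
      omega
    obtain ⟨w, hw⟩ := exists_prime_orderOf_dvd_card' (G := D) p (hk' ▸ dvd_pow_self p hk0)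
    have hw1 : (w : G) ≠ 1 := fun h => hp.out.ne_one (by
      rw [← hw, ← Subgroup.orderOf_coe, h, orderOf_one])
    obtain ⟨g, hg⟩ := isConj_iff.1 (isConj_of_card_le_rank_add_one hM hB hD hk hx hx1 w.2 hw1)
    have : orderOf x = p := by
      rw [← hw, ← Subgroup.orderOf_coe w, ← hg]
      exact ((MulAut.conj g).orderOf_eq x).symm
    rw [← this, pow_orderOf_eq_one]
  refine ⟨⟨⟨fun a c => Subtype.ext ?_⟩⟩, hexp⟩
  rcases hB0 with rfl | hsolv
  · by_cases hp2 : p = 2
    · have h : ∀ x ∈ D, x⁻¹ = x := fun x hx => inv_eq_of_mul_eq_one_right (by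
        rw [← sq, ← hp2, hexp x hx])
      have h1 := h _ (mul_mem a.2 c.2)
      rw [mul_inv_rev, h _ a.2, h _ c.2] at h1
      simpa using h1.symm
    · simpa using commute_of_principal hM hp2 hD hk a.2 c.2
  · simpa using commute_of_isPSolvable hM _ rfl hsolv B hB D hD hk a a.2 c c.2

end Cfsg.Lib.Block
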