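import Cfsg.Agent.Lib.Block.TwistTrace
import Cfsg.Agent.Lib.Block.SectionCount
import Mathlib.RingTheory.ZMod.UnitsCyclic

/-!
# At least as many `p`-rational characters in a block as its rank, for odd `p`

The number of members fixed by a twist is the sum over the `p`-elements of twisted ranks of
unions of blocks of centralizers, which are natural numbers.
-/

set_option autoImplicit false
set_option linter.unusedSectionVars false
set_option maxHeartbeats 1000000

namespace Cfsg.Lib.Block

open Cfsg
open scoped ComplexConjugate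

universe u

variable {p : ℕ} {M : Ideal AlgInt} {G : Type u} [Group G] [Fintype G] [Fact p.Prime]
  (hM : IsPModular p M) {B : Set (IrrCharacter G)}

open Classical in
include hM in
/-- A twist fixing regular elements fixes at least as many members as the rank. -/
theorem blockRank_le_fixed (hB : IsPBlock M B) {k : ℕ} (hk : k.Coprime (Nat.card G))
    (hk1 : k ≡ 1 [MOD Nat.card G / p ^ (Nat.card G).factorization p]) :
    blockRank p B ≤ (B.toFinset.filter fun χ => powTwist k hk χ = χ).card := by
  set F : G → ℂ := fun g => ∑ χ ∈ B.toFinset, (χ : G → ℂ) (g ^ k) * conj ((χ : G → ℂ) g) with hF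
  have hG : (Nat.card G : ℂ) ≠ 0 := Char.card_cast_ne_zero
  have htot : ∑ g, F g =
      (Nat.card G : ℂ) * ((B.toFinset.filter fun χ => powTwist k hk χ = χ).card : ℂ) := by
    simp only [hF]
    rw [Finset.sum_comm, Finset.card_filter, Nat.cast_sum, Finset.mul_sum]
    refine Finset.sum_congr rfl fun χ _ => ?_
    have h := Char.classInner_irr (powTwist k hk χ).2 χ.2
    rw [classInner, inv_mul_eq_iff_eq_mul₀ hG] at h
    simp only [powTwist_apply] at h
    rw [h]
    by_cases he : powTwist k hk χ = χ
    · rw [if_pos he, if_pos (congrArg Subtype.val he)]; simp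
    · rw [if_neg he, if_neg fun e => he (Subtype.ext e)]; simp
  have hpow : ∀ (u y : G), Commute u y → IsPRegular p y → (u * y) ^ k = u ^ k * y :=
    fun u y hc hy => by rw [hc.mul_pow, pow_eq_self_of_regular hk1 hy]
  have hperm : ∀ φ : IrrCharacter G → ℂ,
      ∑ χ ∈ B.toFinset, φ (powTwist k hk χ) = ∑ χ ∈ B.toFinset, φ χ := by
    intro φ
    have himg : B.toFinset.image (powTwist k hk) = B.toFinset := by
      refine Finset.eq_of_subset_of_card_le (fun x hx => ?_)
        (Finset.card_image_of_injective _ (powTwist_injective k hk)).ge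
      obtain ⟨χ, hχ, rfl⟩ := Finset.mem_image.1 hx
      exact Set.mem_toFinset.2 (powTwist_mem hM hk hk1 hB (Set.mem_toFinset.1 hχ))
    conv_rhs => rw [← himg]
    rw [Finset.sum_image fun a _ b _ h => powTwist_injective k hk h]
  have hsec : ∀ u : G, ∃ r : ℝ, 0 ≤ r ∧
      ∑ g ∈ Finset.univ.filter (fun g => pPt p g = u), F g = (r : ℂ) := by
    intro u
    rcases Finset.eq_empty_or_nonempty (Finset.univ.filter fun g => pPt p g = u) with h0 | ⟨g₀, hg₀⟩
    · exact ⟨0, le_rfl, by rw [h0]; simp⟩
    have hu : ∃ j : ℕ, orderOf u = p ^ j := by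
      rw [← (Finset.mem_filter.1 hg₀).2]; exact exists_orderOf_pPt g₀
    set C : Subgroup G := Subgroup.centralizer ({u} : Set G) with hC
    have hCu : ∀ h : C, Commute u (h : G) := fun h => Subgroup.mem_centralizer_iff.1 h.2 u rfl
    rw [sum_pPt_eq hu hCu le_rfl F]
    have hreg : ∀ y : C, IsPRegular p y → IsPRegular p (y : G) := fun y hy => by
      rwa [IsPRegular, orderOf_submonoid]
    by_cases hconj : IsConj u (u ^ k)
    swap
    · refine ⟨0, le_rfl, ?_⟩
      rw [Complex.ofReal_zero]
      refine Finset.sum_eq_zero fun y _ => ?_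
      split_ifs with hy
      · simp only [hF]
        rw [← finsum_mem_eq_toFinset_sum]
        refine sum_block_mul_conj_eq_zero hM (vInt_indVec hM hB) ?_
        rw [pPt_mul_reg hu (hCu y) (hreg y hy), hpow u y (hCu y) (hreg y hy)]
        obtain ⟨j, hj⟩ := hu
        rw [pPt_mul_reg ⟨j, by rw [(hk.symm.coprime_dvd_left (orderOf_dvd_natCard u)).orderOf_pow, hj]⟩
          ((hCu y).pow_left k) (hreg y hy)]
        exact fun h => hconj h.symm
      · rfl
    obtain ⟨t, ht⟩ := isConj_iff.1 hconj
    obtain ⟨j, hj⟩ := exists_pow_eq_self_of_coprime (x := u) (n := k)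
      (hk.coprime_dvd_right (orderOf_dvd_natCard u))
    have hCt : ∀ y : G, y ∈ C ↔ Commute u y := fun y => by
      rw [hC, Subgroup.mem_centralizer_iff]
      exact ⟨fun h => h u rfl, fun h z hz => by rw [Set.mem_singleton_iff.1 hz]; exact h⟩
    have hto : ∀ y ∈ C, t⁻¹ * y * t ∈ C := fun y hy => by
      have h := (((hCt y).1 hy).pow_left k).map (MulAut.conj t⁻¹).toMonoidHom
      rw [hCt]
      simpa [← ht, mul_assoc] using h
    have hback : ∀ y ∈ C, t * y * t⁻¹ ∈ C := fun y hy => by
      have h := ((hCt y).1 hy).map (MulAut.conj t).toMonoidHom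
      simp only [MulEquiv.coe_toMonoidHom, MulAut.conj_apply, ht] at h
      rw [hCt, ← hj]
      exact h.pow_left j
    let e : C ≃* C :=
      { toFun := fun y => ⟨t⁻¹ * y * t, hto y y.2⟩
        invFun := fun y => ⟨t * y * t⁻¹, hback y y.2⟩
        left_inv := fun y => Subtype.ext (by group)
        right_inv := fun y => Subtype.ext (by group)
        map_mul' := fun a b => Subtype.ext (by simp only [Subgroup.coe_mul]; group) }
    have heval : ∀ y : C, t * (u * ((e y : C) : G)) * t⁻¹ = u ^ k * (y : G) := fun y => by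
      show t * (u * (t⁻¹ * y * t)) * t⁻¹ = _
      rw [← ht]
      group
    have hereg : ∀ y : C, IsPRegular p (e y) ↔ IsPRegular p y := fun y => by
      rw [IsPRegular, IsPRegular, e.orderOf_eq]
    have hker : ∀ a b : C, IsPRegular p a → IsPRegular p b →
        regKer (indSet M C B) (e a) (e b) = regKer (indSet M C B) a b := by
      intro a b ha hb
      rw [← sum_block_mul_conj hM hu hCu le_rfl hB ((hereg a).2 ha) ((hereg b).2 hb),
        ← sum_block_mul_conj hM hu hCu le_rfl hB ha hb,
        ← hperm fun χ => (χ : G → ℂ) (u * (a : G)) * conj ((χ : G → ℂ) (u * (b : G)))]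
      refine Finset.sum_congr rfl fun χ _ => ?_
      rw [powTwist_apply, powTwist_apply, hpow u a (hCu a) (hreg a ha),
        hpow u b (hCu b) (hreg b hb), ← heval a, ← heval b, χ.2.isClassFunction,
        χ.2.isClassFunction]
    have hone : IsPRegular p (1 : C) := by simp [IsPRegular, (Fact.out : p.Prime).ne_one]
    have hcoeff : ∀ y : C, blockCoeff (indSet M C B) y =
        (Nat.card C : ℂ)⁻¹ * regKer (indSet M C B) 1 y := fun y => by
      rw [blockCoeff, regKer, finsum_mem_eq_toFinset_sum]
    have hinv : ∀ y, blockCoeff (indSet M C B) (e y) = blockCoeff (indSet M C B) y := by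
      intro y
      rw [hcoeff, hcoeff]
      congr 1
      by_cases hy : IsPRegular p y
      · have h := hker 1 y hone hy
        rwa [map_one] at h
      · rw [regKer_eq_zero hM (vInt_indSet hM B) hone hy,
          regKer_eq_zero hM (vInt_indSet hM B) hone fun h => hy ((hereg y).1 h)]
    obtain ⟨N, hN⟩ := exists_nat_twist hM (indSet M C B) (vInt_indSet hM B) e hinv
    refine ⟨(Nat.card C : ℝ) * N, by positivity, ?_⟩
    rw [Complex.ofReal_mul, Complex.ofReal_natCast, Complex.ofReal_natCast, ← hN, ← mul_assoc,
      mul_inv_cancel₀ Char.card_cast_ne_zero, one_mul]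
    refine Finset.sum_congr rfl fun y _ => ?_
    split_ifs with hy
    · rw [← sum_block_mul_conj hM hu hCu le_rfl hB ((hereg y).2 hy) hy]
      simp only [hF]
      refine Finset.sum_congr rfl fun χ _ => ?_
      rw [hpow u y (hCu y) (hreg y hy), ← heval y, χ.2.isClassFunction]
    · rfl
  choose r hr hreq using hsec
  have hone : r 1 = (Nat.card G : ℝ) * (blockRank p B : ℝ) := by
    have h := hreq 1
    have e : ∑ g ∈ Finset.univ.filter (fun g => pPt p g = 1), F g =
        (Nat.card G : ℂ) * (blockRank p B : ℂ) := by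
      rw [card_mul_blockRank hM (vInt_indVec hM hB), Finset.sum_filter]
      refine Finset.sum_congr rfl fun g _ => ?_
      rw [finsum_mem_eq_toFinset_sum]
      by_cases hg : IsPRegular p g
      · rw [if_pos ((pPt_eq_one_iff g).2 hg)]
        simp only [hF]
        exact Finset.sum_congr rfl fun χ _ => by
          rw [pow_eq_self_of_regular hk1 hg, pRegularPart_of_reg hg]
      · rw [if_neg fun h => hg ((pPt_eq_one_iff g).1 h)]
        exact (Finset.sum_eq_zero fun χ _ => by rw [pRegularPart_of_sing hg, zero_mul]).symm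
    rw [h] at e
    exact_mod_cast e
  have hsum : ∑ g, F g = ((∑ u, r u : ℝ) : ℂ) := by
    rw [Complex.ofReal_sum, ← Finset.sum_fiberwise Finset.univ (fun g => pPt p g) F]
    exact Finset.sum_congr rfl fun u _ => hreq u
  rw [htot] at hsum
  have h1 : r 1 ≤ ∑ u, r u := Finset.single_le_sum (fun u _ => hr u) (Finset.mem_univ 1)
  have h2 : (Nat.card G : ℝ) * ((B.toFinset.filter fun χ => powTwist k hk χ = χ).card : ℝ) =
      ∑ u, r u := by exact_mod_cast hsum
  have h3 : (0 : ℝ) < Nat.card G := Nat.cast_pos.2 Nat.card_pos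
  rw [hone, ← h2] at h1
  exact_mod_cast le_of_mul_le_mul_left h1 h3

end Cfsg.Lib.Block
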