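import Cfsg.Agent.Lib.Block.Principal
import Cfsg.Agent.Lib.Char.Clifford
import Cfsg.Agent.Lib.Char.Linear

/-!
# Extensions of real characters of odd degree
-/

set_option autoImplicit false
set_option linter.unusedSectionVars false

namespace Cfsg.Lib.Block

open Cfsg
open scoped ComplexConjugate

universe u

variable {G : Type u} [Group G] [Fintype G]

/-- A constituent of trivial restriction and multiplicity one is linear. -/
theorem exists_linear_constituent {N : Subgroup G} [N.Normal] [Fintype N] {f : G → ℂ}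
    (hf : IsCharacter G f) (h1 : classInner (fun n : N => f n) (fun _ => (1 : ℂ)) = 1) :
    ∃ φ : G →* ℂˣ, (∀ n ∈ N, φ n = 1) ∧ classInner f (fun g => (φ g : ℂ)) ≠ 0 := by
  classical
  have hrecip : classInner (fun n : N => f n) (fun _ => (1 : ℂ)) =
      classInner f (indFun N (fun _ : N => (1 : ℂ))) := by
    rw [← Char.classInner_conj_symm (indFun N (fun _ : N => (1 : ℂ))) f,
      Char.classInner_indFun N _ hf.isClassFunction, Char.classInner_conj_symm]
  rw [hrecip, Char.classInner_eq_sum hf.isClassFunction] at h1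
  obtain ⟨χ, -, hχ⟩ := Finset.exists_ne_zero_of_sum_ne_zero (h1.symm ▸ one_ne_zero)
  have hfχ : classInner f (χ : G → ℂ) ≠ 0 := fun h => hχ (by rw [h, zero_mul])
  have hresN : classInner (fun n : N => (χ : G → ℂ) n) (fun _ => (1 : ℂ)) =
      conj (classInner (indFun N (fun _ : N => (1 : ℂ))) (χ : G → ℂ)) := by
    rw [Char.classInner_indFun N _ χ.2.isClassFunction, Char.classInner_conj_symm]
  obtain ⟨a, ha⟩ := hf.exists_nat_classInner χ.2.isCharacter
  obtain ⟨b, hb⟩ := (χ.2.isCharacter.comp N.subtype).exists_nat_classInner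
    (Char.isCharacter_one (G := N))
  have hb' : classInner (fun n : N => (χ : G → ℂ) n) (fun _ => (1 : ℂ)) = b := hb
  have hterm : ∀ η : IrrCharacter G, 0 ≤ (classInner f (η : G → ℂ) *
      conj (classInner (indFun N (fun _ : N => (1 : ℂ))) (η : G → ℂ))).re := by
    intro η
    obtain ⟨x, hx⟩ := hf.exists_nat_classInner η.2.isCharacter
    obtain ⟨y, hy⟩ := (η.2.isCharacter.comp N.subtype).exists_nat_classInner
      (Char.isCharacter_one (G := N))
    rw [hx, Char.classInner_indFun N _ η.2.isClassFunction, Char.classInner_conj_symm]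
    rw [show classInner (fun n : N => (η : G → ℂ) n) (fun _ => (1 : ℂ)) = y from hy]
    rw [← Nat.cast_mul, Complex.natCast_re]
    positivity
  have hle : ((a * b : ℕ) : ℝ) ≤ 1 := by
    have h := congrArg Complex.re h1
    rw [Complex.one_re, Complex.re_sum] at h
    have h2 := Finset.single_le_sum (fun η _ => hterm η) (Finset.mem_univ χ)
    rw [h, ← hresN, ha, hb', ← Nat.cast_mul, Complex.natCast_re] at h2
    exact h2
  have hb0 : b ≠ 0 := fun h => hχ (by
    rw [← hresN, hb', h, Nat.cast_zero, mul_zero])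
  have ha0 : a ≠ 0 := fun h => hfχ (by rw [ha, h, Nat.cast_zero])
  have hab : a * b ≤ 1 := by exact_mod_cast hle
  have hb1 : b = 1 := by
    have : b ≤ a * b := Nat.le_mul_of_pos_left b (Nat.pos_of_ne_zero ha0)
    omega
  have hc : classInner (fun x : N => (χ : G → ℂ) x) (fun _ => (1 : ℂ)) ≠ 0 := by
    rw [hb', hb1]; simp
  have hres := Char.clifford_res N χ.2 (Char.isIrrCharacter_one (G := N)) hc
  have horb : Char.twistOrbit N (fun _ : N => (1 : ℂ)) = {fun _ => (1 : ℂ)} := by
    ext φ
    rw [Char.mem_twistOrbit, Finset.mem_singleton]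
    constructor
    · rintro ⟨g, rfl⟩; rfl
    · rintro rfl; exact ⟨1, rfl⟩
  rw [horb, Finset.sum_singleton, hb', hb1, Nat.cast_one, one_smul] at hres
  have hdeg : (χ : G → ℂ) 1 = 1 := congrFun hres 1
  obtain ⟨φ, hφ⟩ := Char.exists_hom_of_degree_one χ.2.isCharacter hdeg
  refine ⟨φ, fun n hn => ?_, hφ ▸ hfχ⟩
  apply Units.ext
  have h := congrFun hres ⟨n, hn⟩
  simp only [hφ] at h
  exact h

/-- A real character of odd degree of a normal subgroup with an extension has one in the
principal two-block. -/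
theorem exists_extension_principal {M : Ideal AlgInt} (hM : IsPModular 2 M) {N : Subgroup G}
    [N.Normal] (θ : IrrCharacter N) (hreal : ∀ n : N, ((θ : N → ℂ) n).im = 0)
    (hodd : Odd (charDegree (θ : N → ℂ))) {η : IrrCharacter G}
    (hη : ∀ n : N, (η : G → ℂ) n = (θ : N → ℂ) n) :
    ∃ η' : IrrCharacter G, (∀ n : N, (η' : G → ℂ) n = (θ : N → ℂ) n) ∧
      η' ∈ principalBlock M G := by
  classical
  haveI := Fintype.ofFinite N
  haveI : Fact (Nat.Prime 2) := ⟨Nat.prime_two⟩
  set f : G → ℂ := (fun g => conj ((η : G → ℂ) g)) * (fun g => conj ((η : G → ℂ) g)) with hf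
  have hfc : IsCharacter G f := η.2.isCharacter.conjFn.mul η.2.isCharacter.conjFn
  have hf1 : classInner (fun n : N => f n) (fun _ => (1 : ℂ)) = 1 := by
    have e : classInner (fun n : N => f n) (fun _ => (1 : ℂ)) =
        classInner (θ : N → ℂ) (θ : N → ℂ) := by
      simp only [classInner]
      congr 1
      refine Finset.sum_congr rfl fun n _ => ?_
      simp only [hf, Pi.mul_apply, hη, map_one, mul_one, Complex.conj_eq_iff_im.2 (hreal n)]
    rw [e, Char.classInner_irr_self θ.2]
  obtain ⟨φ, hφN, hφ⟩ := exists_linear_constituent hfc hf1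
  have hψ : IsIrrCharacter G ((η : G → ℂ) * fun g => (φ g : ℂ)) :=
    Char.isIrrCharacter_mul_linear η.2 φ
  have hconj : ∀ g, conj ((η : G → ℂ) g) = (η : G → ℂ) g * (φ g : ℂ) := by
    have hne : classInner (fun g => conj ((η : G → ℂ) g)) ((η : G → ℂ) * fun g => (φ g : ℂ)) ≠ 0 := by
      refine fun h => hφ ?_
      rw [← h]
      simp only [classInner]
      congr 1
      refine Finset.sum_congr rfl fun g _ => ?_
      simp only [hf, Pi.mul_apply, map_mul]
      ring
    rw [Char.classInner_irr (Char.isIrrCharacter_conjFn η.2) hψ] at hne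
    split_ifs at hne with h
    · exact fun g => congrFun h g
    · exact absurd rfl hne
  set m := ordCompl[2] (Nat.card G) with hm
  have hm2 : ¬ 2 ∣ m := Nat.not_dvd_ordCompl Nat.prime_two Nat.card_pos.ne'
  set μ : G →* ℂˣ := φ ^ ((m + 1) / 2) with hμ
  refine ⟨⟨(η : G → ℂ) * fun g => (μ g : ℂ), Char.isIrrCharacter_mul_linear η.2 μ⟩, fun n => ?_, ?_⟩
  · show (η : G → ℂ) n * (μ (n : G) : ℂ) = _
    rw [hμ, MonoidHom.pow_apply, hφN _ n.2, one_pow, Units.val_one, mul_one, hη]
  refine mem_principal_two_of_real hM _ (fun g hg => ?_) ?_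
  · show (η : G → ℂ) g⁻¹ * (μ g⁻¹ : ℂ) = (η : G → ℂ) g * (μ g : ℂ)
    have hord : orderOf g ∣ m := by
      rcases (Nat.Coprime.pow_right ((Nat.card G).factorization 2)
        ((Nat.prime_two.coprime_iff_not_dvd).2 hg).symm) with hcop
      exact hcop.dvd_of_dvd_mul_left (by
        rw [hm, Nat.ordProj_mul_ordCompl_eq_self]; exact orderOf_dvd_natCard g)
    have hsq : φ g = μ g ^ 2 := by
      have hφm : φ g ^ m = 1 := by
        obtain ⟨c, hc⟩ := hord
        rw [← map_pow, hc, pow_mul, pow_orderOf_eq_one, one_pow, map_one]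
      rw [hμ, MonoidHom.pow_apply, ← pow_mul]
      have : (m + 1) / 2 * 2 = m + 1 := by omega
      rw [this, pow_succ, hφm, one_mul]
    have hu : (μ g : ℂ) ≠ 0 := Units.ne_zero _
    rw [η.2.isCharacter.apply_inv, hconj, map_inv, Units.val_inv_eq_inv_val, hsq,
      Units.val_pow_eq_pow_val]
    field_simp
  · have e : charDegree ((η : G → ℂ) * fun g => (μ g : ℂ)) = charDegree (θ : N → ℂ) := by
      refine charDegree_eq_of_apply_one ?_
      rw [Pi.mul_apply, map_one, Units.val_one, mul_one, ← apply_one_eq_charDegree θ, ← hη]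
      rfl
    show Odd (charDegree ((η : G → ℂ) * fun g => (μ g : ℂ)))
    rw [e]; exact hodd

end Cfsg.Lib.Block
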