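import Cfsg.Agent.Lib.Block.PrincipalSums
import Cfsg.Agent.Lib.Block.GaloisTwist
import Cfsg.Agent.Lib.Char.Indicator

/-!
# A second Galois class of real characters in the principal block, `p` odd

With `ν` the Frobenius–Schur indicator, the sum over the irreducible characters of `ν χ` times the sum
of `χ` over the `p`-regular elements counts the `p`-regular square roots of `p`-regular elements, which
is the term of the trivial character alone.
-/

set_option autoImplicit false
set_option linter.unusedSectionVars false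
set_option linter.style.haveILetI false

namespace Cfsg.Lib.Block

open Cfsg
open scoped ComplexConjugate

universe u

variable {p : ℕ} {M : Ideal AlgInt} {G : Type u} [Group G] [Fintype G] [Fact p.Prime]

/-- The sum of a character over the `p`-regular elements is fixed by field automorphisms. -/
theorem ringEquiv_regSum (σ : ℂ ≃+* ℂ) {χ : G → ℂ} (hχ : IsCharacter G χ) :
    σ (∑ g, pRegularPart p χ g) = ∑ g, pRegularPart p χ g := by
  classical
  obtain ⟨k, hk, -, hσ⟩ := exists_pow_of_ringEquiv (G := G) σ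
  rw [map_sum]
  refine Fintype.sum_bijective (fun g : G => g ^ k) (Char.powBij_of_coprime hk) _ _ fun g => ?_
  by_cases hg : IsPRegular p g
  · rw [pRegularPart_of_reg hg, pRegularPart_of_reg ((isPRegular_pow_iff hk g).2 hg), hσ χ hχ]
  · rw [pRegularPart_of_sing hg,
      pRegularPart_of_sing (fun h => hg ((isPRegular_pow_iff hk g).1 h)), map_zero]

/-- The indicator relation: the nontrivial terms cancel. -/
theorem indicator_regSum (hp : p ≠ 2) :
    ∑ χ : IrrCharacter G, (∑ s, (χ : G → ℂ) (s * s)) * conj (∑ g, pRegularPart p (χ : G → ℂ) g) =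
      (Nat.card G : ℂ) * ∑ g, pRegularPart p (fun _ : G => (1 : ℂ)) g := by
  classical
  set f : G → ℂ := pRegularPart p (fun _ : G => (1 : ℂ)) with hf
  have hfc : IsClassFunction G f := by
    intro g h
    have : IsPRegular p (h * g * h⁻¹) ↔ IsPRegular p g := by
      simp only [IsPRegular]
      rw [show h * g * h⁻¹ = MulAut.conj h g from rfl, MulEquiv.orderOf_eq]
    by_cases hg : IsPRegular p g
    · rw [hf, pRegularPart_of_reg (this.2 hg), pRegularPart_of_reg hg]
    · rw [hf, pRegularPart_of_sing (mt this.1 hg), pRegularPart_of_sing hg]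
  have hfs : ∀ s : G, f (s * s) = f s := by
    intro s
    have hp2 : Nat.Coprime p 2 := (Nat.coprime_primes Fact.out Nat.prime_two).2 hp
    have : IsPRegular p (s * s) ↔ IsPRegular p s := by
      refine not_congr ⟨fun h => h.trans ?_, fun h => ?_⟩
      · rw [← sq]
        exact orderOf_pow_dvd 2
      · rw [← sq, orderOf_pow]
        refine Nat.Coprime.dvd_of_dvd_mul_right
          (Nat.Coprime.coprime_dvd_right (Nat.gcd_dvd_right (orderOf s) 2) hp2) ?_
        rwa [Nat.div_mul_cancel (Nat.gcd_dvd_left _ _)]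
    by_cases hg : IsPRegular p s
    · rw [hf, pRegularPart_of_reg (this.2 hg), pRegularPart_of_reg hg]
    · rw [hf, pRegularPart_of_sing (mt this.1 hg), pRegularPart_of_sing hg]
  have hin : ∀ χ : IrrCharacter G,
      classInner f (χ : G → ℂ) * (Nat.card G : ℂ) = conj (∑ g, pRegularPart p (χ : G → ℂ) g) := by
    intro χ
    rw [classInner, mul_comm, ← mul_assoc, mul_inv_cancel₀ Char.card_cast_ne_zero, one_mul, map_sum]
    refine Finset.sum_congr rfl fun g _ => ?_
    by_cases hg : IsPRegular p g
    · rw [hf, pRegularPart_of_reg hg, pRegularPart_of_reg hg, one_mul]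
    · rw [hf, pRegularPart_of_sing hg, pRegularPart_of_sing hg, zero_mul, map_zero]
  have hexp := Char.eq_sum_classInner hfc
  calc ∑ χ : IrrCharacter G, (∑ s, (χ : G → ℂ) (s * s)) * conj (∑ g, pRegularPart p (χ : G → ℂ) g)
      = (Nat.card G : ℂ) * ∑ s, ∑ χ : IrrCharacter G,
          classInner f (χ : G → ℂ) * (χ : G → ℂ) (s * s) := by
        rw [Finset.sum_comm (s := (Finset.univ : Finset G)), Finset.mul_sum]
        refine Finset.sum_congr rfl fun χ _ => ?_
        rw [← hin χ, Finset.mul_sum, Finset.sum_mul]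
        exact Finset.sum_congr rfl fun s _ => by ring
    _ = (Nat.card G : ℂ) * ∑ g, f g := by
        congr 1
        refine Finset.sum_congr rfl fun s _ => ?_
        rw [← hfs s]
        conv_rhs => rw [hexp]
        simp [Finset.sum_apply, smul_eq_mul]

/-- The indicator is fixed by field automorphisms and vanishes only off the real characters. -/
theorem indicator_real {χ : G → ℂ} (hχ : IsIrrCharacter G χ) (hr : ∀ s, (χ s).im = 0) :
    (∑ s, χ (s * s)) ≠ 0 ∧ ∀ σ : ℂ ≃+* ℂ, σ (∑ s, χ (s * s)) = ∑ s, χ (s * s) := by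
  have h0 := Char.card_cast_ne_zero (G := G)
  rcases Char.indicator_cases hχ with ⟨h, -⟩ | ⟨-, h | ⟨h, -⟩⟩
  · exact absurd hr h
  · rw [h]; exact ⟨h0, fun σ => map_natCast σ _⟩
  · rw [h]; exact ⟨neg_ne_zero.2 h0, fun σ => by rw [map_neg, map_natCast]⟩

/-- A non-principal real character of the principal block is not alone, even up to Galois conjugacy. -/
theorem exists_real_not_conjugate (hp : p ≠ 2) (hM : IsPModular p M) (α : IrrCharacter G)
    (hα : α ∈ principalBlock M G) (hα1 : ¬ ((α : G → ℂ) = fun _ => (1 : ℂ)))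
    (hαr : ∀ g : G, ((α : G → ℂ) g).im = 0) :
    ∃ β : IrrCharacter G, β ∈ principalBlock M G ∧ ¬ ((β : G → ℂ) = fun _ => (1 : ℂ)) ∧
      (∀ g : G, ((β : G → ℂ) g).im = 0) ∧ β ≠ α ∧
      ∀ σ : ℂ ≃+* ℂ, (β : G → ℂ) ≠ (σ : ℂ → ℂ) ∘ (α : G → ℂ) := by
  classical
  by_contra hcon
  push Not at hcon
  set N : (G → ℂ) → ℂ := fun χ => ∑ s, χ (s * s) with hN
  set R : (G → ℂ) → ℂ := fun χ => ∑ g, pRegularPart p χ g with hR
  set T : IrrCharacter G := ⟨fun _ => 1, Char.isIrrCharacter_one⟩ with hT
  set S := (Finset.univ : Finset (IrrCharacter G)).filter fun β =>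
    β ∈ principalBlock M G ∧ β ≠ T ∧ ∀ g : G, ((β : G → ℂ) g).im = 0 with hS
  set c := N (α : G → ℂ) * conj (R (α : G → ℂ)) with hc
  obtain ⟨hNα, hNσ⟩ := indicator_real α.2 hαr
  have hc0 : c ≠ 0 := mul_ne_zero hNα
    ((map_ne_zero (starRingEnd ℂ)).2 ((mem_principal_iff_regSum hM α).1 hα))
  have hαS : α ∈ S := Finset.mem_filter.2
    ⟨Finset.mem_univ _, hα, fun e => hα1 (congrArg Subtype.val e), hαr⟩
  have hconst : ∀ β ∈ S, N (β : G → ℂ) * conj (R (β : G → ℂ)) = c := by
    intro β hβ
    obtain ⟨-, hβB, hβT, hβr⟩ := Finset.mem_filter.1 hβ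
    by_cases he : β = α
    · rw [he]
    obtain ⟨σ, hσ⟩ := hcon β hβB (fun e => hβT (Subtype.ext e)) hβr he
    have hN' : N (β : G → ℂ) = N (α : G → ℂ) := by
      simp only [hN]
      rw [hσ, ← hNσ σ, map_sum]
      rfl
    have hR' : R (β : G → ℂ) = R (α : G → ℂ) := by
      rw [hR]
      simp only
      conv_rhs => rw [← ringEquiv_regSum σ α.2.isCharacter, map_sum]
      refine Finset.sum_congr rfl fun g _ => ?_
      by_cases hg : IsPRegular p g
      · rw [hσ, pRegularPart_of_reg hg, pRegularPart_of_reg hg]; rfl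
      · rw [pRegularPart_of_sing hg, pRegularPart_of_sing hg, map_zero]
    rw [hN', hR']
  have key := indicator_regSum (G := G) (p := p) hp
  have hTS : T ∉ S := fun h => (Finset.mem_filter.1 h).2.2.1 rfl
  rw [← Finset.sum_subset (Finset.subset_univ (insert T S)), Finset.sum_insert hTS] at key
  · have hT1 : (∑ s, (T : G → ℂ) (s * s)) * conj (∑ g, pRegularPart p (T : G → ℂ) g) =
        (Nat.card G : ℂ) * ∑ g, pRegularPart p (fun _ : G => (1 : ℂ)) g := by
      rw [hT]
      simp only [Finset.sum_const, Finset.card_univ, nsmul_eq_mul, mul_one,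
        ← Nat.card_eq_fintype_card, map_sum]
      congr 1
      refine Finset.sum_congr rfl fun g _ => ?_
      by_cases hg : IsPRegular p g
      · rw [pRegularPart_of_reg hg, map_one]
      · rw [pRegularPart_of_sing hg, map_zero]
    rw [hT1, add_eq_left, Finset.sum_congr rfl hconst, Finset.sum_const, nsmul_eq_mul,
      mul_eq_zero] at key
    rcases key with h | h
    · exact (Finset.card_ne_zero.2 ⟨α, hαS⟩) (by exact_mod_cast h)
    · exact hc0 h
  · intro χ _ hχ
    simp only [Finset.mem_insert, hS, Finset.mem_filter, Finset.mem_univ, true_and, not_or,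
      not_and] at hχ
    by_cases hB : χ ∈ principalBlock M G
    · rcases Char.indicator_cases χ.2 with ⟨-, h⟩ | ⟨h, -⟩
      · rw [h, zero_mul]
      · exact absurd h (hχ.2 hB hχ.1)
    · rw [(not_not.1 (mt (mem_principal_iff_regSum hM χ).2 hB) :
        ∑ g, pRegularPart p (χ : G → ℂ) g = 0), map_zero, mul_zero]

end Cfsg.Lib.Block
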