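import Cfsg.Agent.Lib.Block.GaloisTwist
import Mathlib.GroupTheory.Perm.Cycle.Type
import Mathlib.Algebra.CharP.Lemmas
import Mathlib.Algebra.MonoidAlgebra.Basic

/-!
# Functionals on a group algebra of characteristic `p` that kill the nilpotent elements

A class function with values fixed by the Frobenius map, depending only on the `p`-regular part,
gives such a functional.
-/

set_option autoImplicit false
set_option linter.unusedSectionVars false

namespace Cfsg.Lib.Block

open Cfsg
open scoped MonoidAlgebra

universe u v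

section Rotation

variable {k : Type v} [CommRing k] {p : ℕ} [hp : Fact p.Prime] [CharP k p]

/-- A sum invariant under a permutation of order `p` is the sum over the fixed points. -/
theorem sum_eq_sum_fixed {X : Type*} [Fintype X] [DecidableEq X] (σ : Equiv.Perm X)
    (hσ : σ ^ p = 1) (F : X → k) (hF : ∀ x, F (σ x) = F x) :
    ∑ x, F x = ∑ x ∈ Finset.univ.filter (fun x => σ x = x), F x := by
  classical
  rw [← Finset.sum_filter_add_sum_filter_not Finset.univ (fun x => σ x = x)]
  refine add_eq_left.2 ?_
  rw [← Finset.sum_fiberwise_of_maps_to (t := Finset.univ.image F) (g := F)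
    fun x _ => Finset.mem_image_of_mem _ (Finset.mem_univ _)]
  refine Finset.sum_eq_zero fun c _ => ?_
  rw [Finset.filter_filter]
  have hinv : ∀ x, (¬ σ x = x ∧ F x = c) ↔ (¬ σ (σ x) = σ x ∧ F (σ x) = c) := fun x => by
    rw [hF, σ.injective.eq_iff]
  set τ : Equiv.Perm {x // ¬ σ x = x ∧ F x = c} := σ.subtypeEquiv hinv with hτ
  have hτp : τ ^ p ^ 1 = 1 := by
    ext x
    have hc : ∀ j : ℕ, ((τ ^ j) x : X) = (σ ^ j) x := by
      intro j
      induction j with
      | zero => rfl
      | succ j ih =>
        rw [pow_succ', pow_succ', Equiv.Perm.mul_apply, Equiv.Perm.mul_apply, ← ih]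
        rfl
    rw [pow_one, hc, hσ]
    rfl
  have hempty : τ.supportᶜ = ∅ := by
    ext x
    simp only [Finset.mem_compl, Equiv.Perm.mem_support, not_not, Finset.notMem_empty, iff_false]
    exact fun h => x.2.1 (congrArg Subtype.val h)
  have h := Equiv.Perm.card_compl_support_modEq hτp
  rw [hempty, Finset.card_empty] at h
  rw [Finset.sum_congr rfl (g := fun _ => c) fun x hx => (Finset.mem_filter.1 hx).2.2,
    Finset.sum_const, nsmul_eq_mul]
  have hcard : ((Finset.univ.filter fun x => ¬ σ x = x ∧ F x = c).card : k) = 0 := by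
    rw [← Fintype.card_subtype, CharP.cast_eq_zero_iff k p]
    exact Nat.modEq_zero_iff_dvd.1 h.symm
  rw [hcard, zero_mul]

variable {G : Type u} [Group G] [Fintype G]

/-- Powers of an element of the group algebra as sums over words. -/
theorem pow_eq_sum_words (a : k[G]) (n : ℕ) :
    a ^ n = ∑ w : Fin n → G,
      MonoidAlgebra.single (List.ofFn w).prod (∏ i, a.coeff (w i)) := by
  classical
  induction n with
  | zero => simp [MonoidAlgebra.one_def]
  | succ n ih =>
    rw [← (Fin.consEquiv fun _ => G).sum_comp, Fintype.sum_prod_type, pow_succ', ih]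
    conv_lhs => rw [← MonoidAlgebra.sum_coeff_single a,
      Finsupp.sum_fintype _ _ (fun g => by simp), Finset.sum_mul]
    refine Finset.sum_congr rfl fun g _ => ?_
    rw [Finset.mul_sum]
    refine Finset.sum_congr rfl fun w _ => ?_
    simp [MonoidAlgebra.single_mul_single, List.ofFn_succ, Fin.prod_univ_succ]

/-- The evaluation of a function on a group algebra. -/
noncomputable def evalFun (h : G → k) : k[G] →ₗ[k] k where
  toFun a := ∑ g : G, a.coeff g * h g
  map_add' a b := by simp [add_mul, Finset.sum_add_distrib]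
  map_smul' c a := by simp [Finset.mul_sum, mul_assoc]

theorem evalFun_apply (h : G → k) (a : k[G]) : evalFun h a = ∑ g : G, a.coeff g * h g := rfl

theorem evalFun_single (h : G → k) (g : G) (r : k) :
    evalFun h (MonoidAlgebra.single g r) = r * h g := by
  classical
  rw [evalFun_apply, Finset.sum_eq_single g]
  · simp
  · intro b _ hb
    simp [Finsupp.single_apply, Ne.symm hb]
  · simp

theorem evalFun_mul_comm (h : G → k) (hh : ∀ x y, h (x * y) = h (y * x)) (a b : k[G]) :
    evalFun h (a * b) = evalFun h (b * a) := by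
  classical
  rw [← MonoidAlgebra.sum_coeff_single a, Finsupp.sum_fintype _ _ (fun g => by simp),
    ← MonoidAlgebra.sum_coeff_single b, Finsupp.sum_fintype _ _ (fun g => by simp)]
  simp only [Finset.sum_mul, Finset.mul_sum, map_sum, MonoidAlgebra.single_mul_single,
    evalFun_single]
  rw [Finset.sum_comm]
  refine Finset.sum_congr rfl fun y _ => Finset.sum_congr rfl fun x _ => ?_
  rw [hh y x, mul_comm (a.coeff y)]

/-- The `p`-th power commutes with a symmetric evaluation. -/
theorem evalFun_pow_prime (h : G → k) (hh : ∀ x y, h (x * y) = h (y * x)) (a : k[G]) :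
    evalFun h (a ^ p) = ∑ g : G, a.coeff g ^ p * h (g ^ p) := by
  classical
  obtain ⟨n, rfl⟩ := Nat.exists_eq_succ_of_ne_zero hp.out.ne_zero
  rw [pow_eq_sum_words, map_sum]
  simp only [evalFun_single]
  set σ : Equiv.Perm (Fin (n + 1) → G) :=
    (Equiv.arrowCongr (finRotate (n + 1)).symm (Equiv.refl G)) with hσdef
  have hσapp : ∀ w, σ w = w ∘ (finRotate (n + 1)) := fun w => by
    funext i
    simp [hσdef, Equiv.arrowCongr]
  have hσpow : ∀ (j : ℕ) w, (σ ^ j) w = w ∘ ((finRotate (n + 1)) ^ j : Equiv.Perm _) := by
    intro j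
    induction j with
    | zero => intro w; rfl
    | succ j ih =>
      intro w
      rw [pow_succ', Equiv.Perm.mul_apply, ih, hσapp, pow_succ]
      rfl
  have hrot : (finRotate (n + 1)) ^ (n + 1) = (1 : Equiv.Perm (Fin (n + 1))) := by
    rcases n with _ | n
    · exact absurd hp.out (by norm_num)
    · have := pow_orderOf_eq_one (finRotate (n + 2))
      rwa [Equiv.Perm.IsCycle.orderOf isCycle_finRotate, support_finRotate, Finset.card_univ,
        Fintype.card_fin] at this
  have hσp : σ ^ (n + 1) = 1 := Equiv.ext fun w => by rw [hσpow, hrot]; rfl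
  rw [sum_eq_sum_fixed (p := n + 1) σ hσp]
  · have hfix : (Finset.univ.filter fun w : Fin (n + 1) → G => σ w = w) =
        Finset.univ.image fun g : G => (fun _ : Fin (n + 1) => g) := by
      ext w
      simp only [Finset.mem_filter, Finset.mem_univ, true_and, Finset.mem_image]
      constructor
      · intro hw
        refine ⟨w 0, funext fun i => ?_⟩
        have hstep : ∀ i : Fin (n + 1), w (i + 1) = w i := fun i => by
          have := congrFun hw i
          rwa [hσapp, Function.comp_apply, finRotate_succ_apply] at this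
        induction i using Fin.induction with
        | zero => rfl
        | succ i ih => rw [ih, ← Fin.coeSucc_eq_succ, hstep]
      · rintro ⟨g, rfl⟩
        rw [hσapp]
        rfl
    rw [hfix, Finset.sum_image fun a _ b _ hab => congrFun hab 0]
    exact Finset.sum_congr rfl fun g _ => by simp [List.ofFn_const, pow_succ']
  · intro w
    rw [hσapp]
    congr 1
    · exact Equiv.prod_comp (finRotate (n + 1)) fun i => a.coeff (w i)
    · have e1 : (List.ofFn w).prod = w 0 * (List.ofFn fun i => w (Fin.succ i)).prod := by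
        rw [List.ofFn_succ, List.prod_cons]
      have e2 : (List.ofFn (w ∘ finRotate (n + 1))).prod =
          (List.ofFn fun i => w (Fin.succ i)).prod * w 0 := by
        rw [List.ofFn_succ', List.concat_eq_append, List.prod_append, List.prod_singleton]
        simp [finRotate_succ_apply, Fin.coeSucc_eq_succ, Fin.last_add_one]
      rw [e1, e2, hh]

/-- Iterated powers. -/
theorem evalFun_pow_prime_pow (m : ℕ) (h : G → k) (hh : ∀ x y, h (x * y) = h (y * x))
    (hfr : ∀ g, h g ^ p = h g) (a : k[G]) :
    evalFun h (a ^ p ^ m) = evalFun (fun g => h (g ^ p ^ m)) a ^ p ^ m := by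
  induction m generalizing h with
  | zero => simp
  | succ m ih =>
    rw [pow_succ p m, pow_mul, evalFun_pow_prime h hh]
    have e : ∑ g : G, (a ^ p ^ m).coeff g ^ p * h (g ^ p) =
        evalFun (fun g => h (g ^ p)) (a ^ p ^ m) ^ p := by
      rw [evalFun_apply, sum_pow_char]
      exact Finset.sum_congr rfl fun g _ => by rw [mul_pow, hfr]
    have hh' : ∀ x y, h ((x * y) ^ p) = h ((y * x) ^ p) := fun x y => by
      have hc : (y * x) ^ p = y * (x * y) ^ p * y⁻¹ := by
        rw [← conj_pow]
        congr 1
        group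
      rw [hc, hh (y * (x * y) ^ p) y⁻¹, inv_mul_cancel_left]
    rw [e, ih (fun g => h (g ^ p)) hh' fun g => hfr _, ← pow_mul]
    simp only [← pow_mul]

end Rotation

section Regular

variable {p : ℕ} [hp : Fact p.Prime] {G : Type u} [Group G] [Fintype G]

/-- A large power of `p` gives the regular part. -/
theorem exists_pow_eq_pReg (N : ℕ) : ∃ m : ℕ, N ≤ m ∧ ∀ g : G, g ^ p ^ m = pReg p g := by
  set a := (Nat.card G).factorization p with ha
  set n' := Nat.card G / p ^ a with hn'
  have hn0 : 0 < n' := Nat.div_pos (Nat.le_of_dvd Nat.card_pos (Nat.ordProj_dvd _ _))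
    (pow_pos hp.out.pos _)
  have hco : p.Coprime n' := hp.out.coprime_iff_not_dvd.2
    (Nat.not_dvd_ordCompl hp.out Nat.card_pos.ne')
  have ht : 0 < n'.totient := Nat.totient_pos.2 hn0
  refine ⟨(N + a + 1) * n'.totient, le_trans (by omega) (Nat.le_mul_of_pos_right _ ht), fun g => ?_⟩
  set m := (N + a + 1) * n'.totient with hm
  have hmod : p ^ m ≡ 1 [MOD n'] := by
    rw [hm, mul_comm, pow_mul]
    simpa using (Nat.ModEq.pow_totient hco).pow (N + a + 1)
  have h1 : pPt p g ^ p ^ m = 1 := by
    obtain ⟨j, hj⟩ := exists_orderOf_pPt (p := p) g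
    refine orderOf_dvd_iff_pow_eq_one.1 ?_
    rw [hj]
    refine pow_dvd_pow p (le_trans ?_ (le_trans (Nat.le_mul_of_pos_right _ ht) hm.ge))
    have hja : j ≤ a := by
      rw [ha, ← hp.out.pow_dvd_iff_le_factorization Nat.card_pos.ne', ← hj]
      exact orderOf_dvd_natCard _
    omega
  conv_lhs => rw [← pPt_mul_pReg (p := p) g]
  rw [(pPt_commute_pReg g).mul_pow, h1, one_mul]
  exact pow_eq_self_of_regular (p := p) hmod (not_dvd_orderOf_pReg g)

variable {k : Type v} [Field k] [CharP k p]

/-- A function of the regular part with values fixed by the Frobenius map kills nilpotents. -/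
theorem evalFun_eq_zero_of_nilpotent (h : G → k) (hh : ∀ x y, h (x * y) = h (y * x))
    (hfr : ∀ g, h g ^ p = h g) (hreg : ∀ g, h (pReg p g) = h g) {a : k[G]} (ha : IsNilpotent a) :
    evalFun h a = 0 := by
  obtain ⟨N, hN⟩ := ha
  obtain ⟨m, hm, hpow⟩ := exists_pow_eq_pReg (p := p) (G := G) N
  have h1 := evalFun_pow_prime_pow (p := p) m h hh hfr a
  have e : (fun g => h (g ^ p ^ m)) = h := funext fun g => by rw [hpow, hreg]
  rw [e, pow_eq_zero_of_le (hm.trans (Nat.lt_pow_self hp.out.one_lt).le) hN, map_zero] at h1
  exact eq_zero_of_pow_eq_zero h1.symm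

end Regular

end Cfsg.Lib.Block
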