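import Cfsg.Agent.Lib.Fusion.Abelian
import Cfsg.Agent.Lib.Fusion.Alperin
import Cfsg.Agent.Lib.FTCons.MetacyclicSylow
import Cfsg.Agent.Lib.Invol.SylowTools
import Cfsg.Agent.S0205

/-!
# The regular orbit of an involution with a two-nilpotent centralizer

In a group with an abelian Sylow two-subgroup `P`, an involution of `P` whose centralizer has a
normal two-complement has a regular orbit under `N(P)/C(P)`; this bounds the inertial index by
the number of involutions of `P`.
-/

set_option autoImplicit false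
set_option linter.unusedSectionVars false
set_option linter.style.haveILetI false

namespace Cfsg.Lib.Block.RegularOrbit

open Cfsg Cfsg.Lib Subgroup

universe u

variable {G : Type u} [Group G] [Finite G]

theorem map_centralizer_singleton (g a : G) :
    (centralizer ({a} : Set G)).map (MulAut.conj g).toMonoidHom =
      centralizer ({g * a * g⁻¹} : Set G) := by
  ext y
  rw [mem_map_equiv, MulAut.conj_symm_apply, mem_centralizer_singleton_iff,
    mem_centralizer_singleton_iff]
  constructor
  · intro h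
    calc y * (g * a * g⁻¹) = g * (g⁻¹ * y * g * a) * g⁻¹ := by group
      _ = g * (a * (g⁻¹ * y * g)) * g⁻¹ := by rw [h]
      _ = g * a * g⁻¹ * y := by group
  · intro h
    calc g⁻¹ * y * g * a = g⁻¹ * (y * (g * a * g⁻¹)) * g := by group
      _ = g⁻¹ * (g * a * g⁻¹ * y) * g := by rw [h]
      _ = a * (g⁻¹ * y * g) := by group

theorem complement_conj {p : ℕ} [Fact p.Prime] (g a : G)
    (h : HasNormalPComplement p (centralizer ({a} : Set G))) :
    HasNormalPComplement p (centralizer ({g * a * g⁻¹} : Set G)) :=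
  (Fusion.hasNormalPComplement_congr
    (((MulAut.conj g).subgroupMap (centralizer ({a} : Set G))).trans
      (MulEquiv.subgroupCongr (map_centralizer_singleton g a)))).1 h

variable (P : Sylow 2 G) [hab : IsMulCommutative (P : Subgroup G)]
include hab

theorem le_centralizer_singleton {x : G} (hx : x ∈ (P : Subgroup G)) :
    (P : Subgroup G) ≤ centralizer ({x} : Set G) := fun v hv =>
  mem_centralizer_singleton_iff.2 (congrArg Subtype.val (mul_comm' (⟨v, hv⟩ : (P : Subgroup G)) ⟨x, hx⟩))

theorem le_centralizer_self : (P : Subgroup G) ≤ centralizer ((P : Subgroup G) : Set G) :=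
  fun v hv => mem_centralizer_iff.2 fun w hw =>
    congrArg Subtype.val (mul_comm' (⟨w, hw⟩ : (P : Subgroup G)) ⟨v, hv⟩)

theorem normalizer_inf_le {x : G} (hx : x ∈ (P : Subgroup G))
    (hc : HasNormalPComplement 2 (centralizer ({x} : Set G))) {n : G}
    (hn : n ∈ normalizer ((P : Subgroup G) : Set G)) (hnx : n * x = x * n) :
    n ∈ centralizer ((P : Subgroup G) : Set G) := by
  haveI : Fact (Nat.Prime 2) := ⟨Nat.prime_two⟩
  set C := centralizer ((P : Subgroup G) : Set G) with hC
  obtain ⟨a, m, hm, hnm⟩ := Nat.exists_eq_pow_mul_and_not_dvd (orderOf_pos n).ne' 2 (by norm_num)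
  have hPC := le_centralizer_self P
  have hle := le_centralizer_singleton P hx
  have h1 : n ^ m ∈ C := by
    have hp : IsPGroup 2 (zpowers (n ^ m)) := IsPGroup.of_card (n := a) (by
      rw [Nat.card_zpowers, orderOf_pow_of_dvd (fun h => hm (by simp [h]))
        (Dvd.intro_left (2 ^ a) hnm.symm), hnm,
        Nat.mul_div_cancel _ (Nat.pos_of_ne_zero fun h => hm (by simp [h]))])
    have h := hp.inf_normalizer_sylow P
    have : n ^ m ∈ zpowers (n ^ m) ⊓ normalizer ((P : Subgroup G) : Set G) :=
      mem_inf.2 ⟨mem_zpowers _, pow_mem hn m⟩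
    exact hPC (mem_inf.1 (h.le this)).2
  have h2 : n ^ 2 ^ a ∈ C := by
    have hnC : n ^ 2 ^ a ∈ centralizer ({x} : Set G) :=
      pow_mem (mem_centralizer_singleton_iff.2 hnx) _
    set Q : Subgroup (centralizer ({x} : Set G)) := (P : Subgroup G).subgroupOf _ with hQ
    have hQp : IsPGroup 2 Q := P.isPGroup'.of_equiv (subgroupOfEquivOfLe hle).symm
    have hQn : (⟨n ^ 2 ^ a, hnC⟩ : centralizer ({x} : Set G)) ∈ normalizer (Q : Set _) := by
      rw [mem_normalizer_iff]
      intro q
      have := mem_normalizer_iff.1 (pow_mem hn (2 ^ a)) (q : G)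
      simpa [hQ, mem_subgroupOf] using this
    have hco : (orderOf (⟨n ^ 2 ^ a, hnC⟩ : centralizer ({x} : Set G))).Coprime 2 := by
      rw [orderOf_mk, orderOf_pow_of_dvd (by positivity) (Dvd.intro m hnm.symm), hnm,
        Nat.mul_div_cancel_left _ (by positivity), Nat.coprime_two_right]
      exact Nat.odd_iff.2 (Nat.two_dvd_ne_zero.1 hm)
    have := Fusion.mem_centralizer_of_hasNormalPComplement hc hQp hQn hco
    rw [mem_centralizer_iff] at this ⊢
    intro v hv
    exact congrArg Subtype.val (this ⟨v, hle hv⟩ (mem_subgroupOf.2 hv))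
  have hco : Nat.Coprime m (2 ^ a) :=
    ((Nat.prime_two.coprime_iff_not_dvd.2 hm).symm).pow_right a
  have hb := Int.gcd_eq_gcd_ab (m : ℤ) ((2 ^ a : ℕ) : ℤ)
  rw [Int.gcd_natCast_natCast, hco.gcd_eq_one] at hb
  have : n ^ ((1 : ℕ) : ℤ) ∈ C := by
    rw [hb, zpow_add, zpow_mul, zpow_mul, zpow_natCast, zpow_natCast]
    exact mul_mem (zpow_mem h1 _) (zpow_mem h2 _)
  simpa using this

theorem relIndex_dvd :
    (centralizer ((P : Subgroup G) : Set G)).relIndex (normalizer ((P : Subgroup G) : Set G)) ∣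
      (P : Subgroup G).index :=
  (Dvd.intro _ (relIndex_mul_index (centralizer_le_normalizer (s := ((P : Subgroup G) : Set G))))).trans
    (index_dvd_of_le (le_centralizer_self P))

theorem relIndex_odd :
    Odd ((centralizer ((P : Subgroup G) : Set G)).relIndex
      (normalizer ((P : Subgroup G) : Set G))) := by
  haveI : Fact (Nat.Prime 2) := ⟨Nat.prime_two⟩
  exact Nat.odd_iff.2 (Nat.two_dvd_ne_zero.1 fun h =>
    P.not_dvd_index (h.trans (relIndex_dvd P)))

/-- Inertial index one gives a solvable group. -/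
theorem solvable_of_relIndex_one
    (he : (centralizer ((P : Subgroup G) : Set G)).relIndex
      (normalizer ((P : Subgroup G) : Set G)) = 1) : Group.IsSolvable G := by
  haveI : Fact (Nat.Prime 2) := ⟨Nat.prime_two⟩
  exact FTCons.MetacyclicSylow.solvable_of_complement (fun H _ _ h => Cfsg.Agent.S0205.result h)
    (Fusion.hasNormalPComplement_of_normalizer_le_centralizer P (relIndex_eq_one.1 he))

variable {x : G} (hxP : x ∈ (P : Subgroup G)) (hx : orderOf x = 2)
  (hc : HasNormalPComplement 2 (centralizer ({x} : Set G)))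
include hxP hx hc

theorem exists_orbit_map :
    ∃ f : (normalizer ((P : Subgroup G) : Set G) : Subgroup G) ⧸
        (centralizer ((P : Subgroup G) : Set G)).subgroupOf (normalizer ((P : Subgroup G) : Set G)) →
        {v : G // v ∈ (P : Subgroup G) ∧ orderOf v = 2},
      Function.Injective f ∧
        ∀ q, ∃ n ∈ normalizer ((P : Subgroup G) : Set G), (f q : G) = n * x * n⁻¹ := by
  refine ⟨fun q => ⟨(q.out : G) * x * (q.out : G)⁻¹,
      (mem_normalizer_iff.1 q.out.2 x).1 hxP, ?_⟩, fun q r hqr => ?_,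
    fun q => ⟨_, q.out.2, rfl⟩⟩
  · rw [← MulAut.conj_apply, MulEquiv.orderOf_eq, hx]
  · have h : (q.out : G) * x * (q.out : G)⁻¹ = (r.out : G) * x * (r.out : G)⁻¹ :=
      congrArg Subtype.val hqr
    rw [← q.out_eq, ← r.out_eq]
    refine QuotientGroup.eq.2 (mem_subgroupOf.2 ?_)
    refine normalizer_inf_le P hxP hc (mul_mem (inv_mem q.out.2) r.out.2) ?_
    calc (q.out : G)⁻¹ * (r.out : G) * x
        = (q.out : G)⁻¹ * ((r.out : G) * x * (r.out : G)⁻¹) * (r.out : G) := by group
      _ = (q.out : G)⁻¹ * ((q.out : G) * x * (q.out : G)⁻¹) * (r.out : G) := by rw [h]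
      _ = x * ((q.out : G)⁻¹ * (r.out : G)) := by group

theorem relIndex_le :
    (centralizer ((P : Subgroup G) : Set G)).relIndex (normalizer ((P : Subgroup G) : Set G)) ≤
      Nat.card {v : G // v ∈ (P : Subgroup G) ∧ orderOf v = 2} := by
  obtain ⟨f, hf, -⟩ := exists_orbit_map P hxP hx hc
  exact Nat.card_le_card_of_injective f hf

omit hxP hx hc in
theorem card_involutions_lt :
    Nat.card {v : G // v ∈ (P : Subgroup G) ∧ orderOf v = 2} < Nat.card (P : Subgroup G) := by
  refine lt_of_le_of_lt (Nat.card_le_card_of_injective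
    (fun v => (⟨⟨v.1, v.2.1⟩, fun h => ?_⟩ : {w : (P : Subgroup G) // w ≠ 1}))
    fun v w h => Subtype.ext (congrArg (fun z => ((z.1 : (P : Subgroup G)) : G)) h)) ?_
  · have h1 : v.1 = 1 := congrArg Subtype.val h
    have := v.2.2
    rw [h1, orderOf_one] at this
    omega
  · haveI := Fintype.ofFinite (P : Subgroup G)
    haveI := Fintype.ofFinite {w : (P : Subgroup G) // w ≠ 1}
    rw [Nat.card_eq_fintype_card, Nat.card_eq_fintype_card]
    exact Fintype.card_subtype_lt (x := (1 : (P : Subgroup G))) (fun h => h rfl)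

omit hx hc hxP in
/-- At least half as many involutions as elements makes the subgroup elementary. -/
theorem elementary_of_many
    (h : Nat.card (P : Subgroup G) ≤
      2 * Nat.card {v : G // v ∈ (P : Subgroup G) ∧ orderOf v = 2}) :
    ∀ v : (P : Subgroup G), v ^ 2 = 1 := by
  let Ω : Subgroup (P : Subgroup G) :=
    { carrier := {v | v ^ 2 = 1}
      one_mem' := one_pow 2
      mul_mem' := fun {a b} ha hb => by
        simp only [Set.mem_setOf_eq] at ha hb ⊢
        rw [(show Commute a b from mul_comm' a b).mul_pow, ha, hb, one_mul]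
      inv_mem' := fun {a} ha => by
        simp only [Set.mem_setOf_eq] at ha ⊢
        rw [inv_pow, ha, inv_one] }
  have hlt : Nat.card {v : G // v ∈ (P : Subgroup G) ∧ orderOf v = 2} < Nat.card Ω := by
    haveI := Fintype.ofFinite Ω
    refine lt_of_le_of_lt (Nat.card_le_card_of_injective
      (fun v => (⟨⟨⟨v.1, v.2.1⟩, ?_⟩, fun h => ?_⟩ : {w : Ω // w ≠ 1}))
      fun v w h => Subtype.ext
        (congrArg (fun z => (((z.1 : Ω) : (P : Subgroup G)) : G)) h)) ?_
    · exact Subtype.ext (show v.1 ^ 2 = 1 from (orderOf_dvd_iff_pow_eq_one).1 v.2.2.dvd)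
    · have h1 : v.1 = 1 := congrArg Subtype.val (congrArg Subtype.val h)
      have := v.2.2
      rw [h1, orderOf_one] at this
      omega
    · haveI := Fintype.ofFinite {w : Ω // w ≠ 1}
      rw [Nat.card_eq_fintype_card, Nat.card_eq_fintype_card]
      exact Fintype.card_subtype_lt (x := (1 : Ω)) (fun h => h rfl)
  have htop : Ω = ⊤ := by
    refine eq_top_of_card_eq Ω ?_
    obtain ⟨c, hcc⟩ := Ω.card_subgroup_dvd_card
    rcases Nat.lt_or_ge c 2 with h2 | h2
    · interval_cases c
      · exact absurd (hcc.trans (mul_zero _)) Nat.card_pos.ne'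
      · rw [hcc, mul_one]
    · exfalso
      nlinarith
  exact fun v => (htop ▸ mem_top v : v ∈ Ω)

/-- With as many cosets as nonidentity elements, all involutions are conjugate to `x`. -/
theorem complement_of_full
    (he : (centralizer ((P : Subgroup G) : Set G)).relIndex (normalizer ((P : Subgroup G) : Set G)) + 1 =
      Nat.card (P : Subgroup G)) :
    (∀ v ∈ (P : Subgroup G), v ≠ 1 → ∃ n ∈ normalizer ((P : Subgroup G) : Set G), n * x * n⁻¹ = v) ∧
    ∀ t : G, orderOf t = 2 → HasNormalPComplement 2 (centralizer ({t} : Set G)) := by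
  haveI : Fact (Nat.Prime 2) := ⟨Nat.prime_two⟩
  obtain ⟨f, hf, hfn⟩ := exists_orbit_map P hxP hx hc
  have h1 := relIndex_le P hxP hx hc
  have h2 := card_involutions_lt P
  have hcard : Nat.card ((normalizer ((P : Subgroup G) : Set G) : Subgroup G) ⧸
      (centralizer ((P : Subgroup G) : Set G)).subgroupOf
        (normalizer ((P : Subgroup G) : Set G))) =
      (centralizer ((P : Subgroup G) : Set G)).relIndex
        (normalizer ((P : Subgroup G) : Set G)) := rfl
  have h3 := Nat.card_le_card_of_injective f hf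
  have hbij : Function.Bijective f :=
    (Nat.bijective_iff_injective_and_card f).2 ⟨hf, by omega⟩
  haveI : Nonempty {v : G // v ∈ (P : Subgroup G) ∧ orderOf v = 2} := ⟨⟨x, hxP, hx⟩⟩
  have hpos : 0 < Nat.card {v : G // v ∈ (P : Subgroup G) ∧ orderOf v = 2} := Nat.card_pos
  have hsq := elementary_of_many P (by omega)
  have key : ∀ v ∈ (P : Subgroup G), v ≠ 1 →
      ∃ n ∈ normalizer ((P : Subgroup G) : Set G), n * x * n⁻¹ = v := by
    intro v hv hv1
    obtain ⟨q, hq⟩ := hbij.2 ⟨v, hv, orderOf_eq_prime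
      (congrArg Subtype.val (hsq ⟨v, hv⟩)) hv1⟩
    obtain ⟨n, hn, hval⟩ := hfn q
    exact ⟨n, hn, by rw [← hval, hq]⟩
  refine ⟨key, fun t ht => ?_⟩
  obtain ⟨c, hcP⟩ := Invol.exists_conj_mem_sylow P
    (IsPGroup.of_card (n := 1) (by rw [Nat.card_zpowers, ht, pow_one]) : IsPGroup 2 (zpowers t))
  have ht1 : c * t * c⁻¹ ≠ 1 := fun h => by
    rw [conj_eq_one_iff] at h
    rw [h, orderOf_one] at ht
    omega
  obtain ⟨n, -, hn⟩ := key _ (hcP t (mem_zpowers t)) ht1
  have := complement_conj c⁻¹ _ (hn ▸ complement_conj n x hc)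
  rwa [show c⁻¹ * (c * t * c⁻¹) * c⁻¹⁻¹ = t by group] at this

end Cfsg.Lib.Block.RegularOrbit
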