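import Cfsg.Agent.Lib.Block.SixteenNineSections
import Cfsg.Agent.Lib.Block.BlockTrace
import Cfsg.Agent.Lib.Block.PrincipalNilpotent
import Cfsg.Agent.Lib.Block.ThirdMain
import Cfsg.Agent.Lib.Invol.SylowTools

/-!
# The principal block for an automizer of order nine

Sixteen characters and two-modular rank nine.
-/

set_option autoImplicit false
set_option linter.unusedSectionVars false
set_option linter.style.haveILetI false
set_option maxHeartbeats 800000

namespace Cfsg.Lib.Block.SixteenNine

open Cfsg Cfsg.Lib Cfsg.Lib.Block Subgroup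
open scoped ComplexConjugate Classical commutatorElement

universe u

noncomputable local instance (priority := high) fintypeSubgroupSixteenNineMain {A : Type u}
    [Group A] [Fintype A] (B : Subgroup A) : Fintype B := Fintype.ofFinite B

variable {G : Type u} [Group G] [Fintype G] {V W : Subgroup G} {P : Sylow 2 G}
variable {M : Ideal AlgInt}

/-- Weighted values supported on different sections are orthogonal on the principal block. -/
theorem weights_orthogonal (hM : IsPModular 2 M) {x y : G} (hxy : ¬ IsConj x y) {w v : G → ℂ}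
    (hw : ∀ g, w g ≠ 0 → IsConj (pPt 2 g) x) (hv : ∀ g, v g ≠ 0 → IsConj (pPt 2 g) y) :
    ∑ i : {χ : IrrCharacter G // χ ∈ principalBlock M G},
      (∑ g, w g * (i.1 : G → ℂ) g) * conj (∑ h, v h * (i.1 : G → ℂ) h) = 0 := by
  haveI : Fact (Nat.Prime 2) := ⟨Nat.prime_two⟩
  simp only [map_sum, map_mul]
  simp only [Finset.sum_mul_sum]
  rw [Finset.sum_comm]
  refine Finset.sum_eq_zero fun g _ => ?_
  rw [Finset.sum_comm]
  refine Finset.sum_eq_zero fun h _ => ?_
  rw [Finset.sum_congr rfl fun i _ => mul_mul_mul_comm (w g) _ (conj (v h)) _, ← Finset.mul_sum]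
  by_cases hg : w g = 0
  · rw [hg, zero_mul, zero_mul]
  by_cases hh : v h = 0
  · rw [hh, map_zero, mul_zero, zero_mul]
  have h0 := sum_block_mul_conj_eq_zero hM
    (vInt_indVec hM (isPBlock_principal (M := M) (G := G))) (g := g) (h := h)
    fun hc => hxy ((hw g hg).symm.trans (hc.trans (hv h hh)))
  rw [finsum_mem_eq_toFinset_sum,
    Finset.sum_subtype (p := fun φ => φ ∈ principalBlock M G) _ (fun _ => Set.mem_toFinset)] at h0
  rw [h0, mul_zero]

/-- The only block inducing the principal block is principal. -/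
theorem sum_induced_eq (hM : IsPModular 2 M) {u : G} (hu : ∃ k : ℕ, orderOf u = 2 ^ k) :
    (∑ᶠ b ∈ {b : Set (IrrCharacter (centralizer ({u} : Set G))) |
      IsInducedBlock M (centralizer ({u} : Set G)) b (principalBlock M G)}, blockRank 2 b) =
      blockRank 2 (principalBlock M (centralizer ({u} : Set G))) := by
  haveI : Fact (Nat.Prime 2) := ⟨Nat.prime_two⟩
  have hHu : ∀ h : centralizer ({u} : Set G), Commute u (h : G) := fun h =>
    (mem_centralizer_singleton_iff.1 h.2).symm
  have hdef : InducedBlockDefined M (centralizer ({u} : Set G))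
      (principalBlock M (centralizer ({u} : Set G))) := by
    obtain ⟨B, hB⟩ := exists_isInducedBlock_of_centralizer hM hu hHu le_rfl
      (isPBlock_principal (M := M) (G := centralizer ({u} : Set G)))
    exact ⟨B, hB⟩
  have hset : {b : Set (IrrCharacter (centralizer ({u} : Set G))) |
      IsInducedBlock M (centralizer ({u} : Set G)) b (principalBlock M G)} =
      {principalBlock M (centralizer ({u} : Set G))} := by
    ext b
    simp only [Set.mem_setOf_eq, Set.mem_singleton_iff]
    constructor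
    · exact fun hb => (isInducedBlock_principal_iff hM ⟨_, hb⟩).1 hb
    · rintro rfl
      exact (isInducedBlock_principal_iff hM hdef).2 rfl
  rw [hset, finsum_mem_singleton]

variable (hM : IsPModular 2 M) (S : Setup P V W)
include hM S

theorem Setup.exists_reps : ∃ x ∈ V, x ≠ 1 ∧ ∃ y ∈ W, y ≠ 1 ∧
    Nat.card (principalBlock M G) = blockRank 2 (principalBlock M G) + 7 := by
  haveI : Fact (Nat.Prime 2) := ⟨Nat.prime_two⟩
  obtain ⟨x, hx, hx1, -⟩ := S.exists_ne 1
  obtain ⟨y, hy, hy1, -⟩ := S.swap.exists_ne 1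
  obtain ⟨hz, hzV, hzW⟩ := S.mul_notMem hx hx1 hy hy1
  have hxP := S.nine.left.le hx
  have hyP := S.nine.right.le hy
  have hyV : y ∉ V := fun h => hy1 (S.eq_one_of_mem h hy)
  have hxy : ¬ IsConj x y := fun h => hyV ((S.mem_left_iff hxP hyP h).1 hx)
  have hxz : ¬ IsConj x (x * y) := fun h => hzV ((S.mem_left_iff hxP hz h).1 hx)
  have hyz : ¬ IsConj y (x * y) := fun h => hzW ((S.swap.mem_left_iff hyP hz h).1 hy)
  have hz1 : x * y ≠ 1 := fun h => hzV (h ▸ one_mem V)
  have hne : ∀ {u : G}, u ≠ 1 → ¬ IsConj u 1 := fun hu h => hu (isConj_one_left.1 h)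
  have hord : ∀ {u : G}, u ∈ (P : Subgroup G) → u ≠ 1 → ∃ k : ℕ, orderOf u = 2 ^ k :=
    fun hu hu1 => ⟨1, by rw [S.sq_eq hu hu1, pow_one]⟩
  let X : Finset G := {1, x, y, x * y}
  have hXp : ∀ u ∈ X, ∃ k : ℕ, orderOf u = 2 ^ k := by
    intro u hu
    simp only [X, Finset.mem_insert, Finset.mem_singleton] at hu
    rcases hu with rfl | rfl | rfl | rfl
    exacts [⟨0, by simp⟩, hord hxP hx1, hord hyP hy1, hord hz hz1]
  have hXex : ∀ g : G, (∃ k : ℕ, orderOf g = 2 ^ k) → ∃ u ∈ X, IsConj g u := by
    intro g hg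
    obtain ⟨k, hk⟩ := hg
    by_cases hg1 : g = 1
    · exact ⟨1, by simp [X], by rw [hg1]⟩
    obtain ⟨c, hc⟩ := Invol.exists_conj_mem_sylow P
      (IsPGroup.of_card (n := k) (by rw [Nat.card_zpowers, hk]) : IsPGroup 2 (zpowers g))
    have hgP := hc g (mem_zpowers g)
    have hgc : IsConj g (c * g * c⁻¹) := isConj_iff.2 ⟨c, rfl⟩
    have hc1 : c * g * c⁻¹ ≠ 1 := fun h => hg1 (conj_eq_one_iff.1 h)
    by_cases hV : c * g * c⁻¹ ∈ V
    · exact ⟨x, by simp [X], hgc.trans (S.conj_left hV hc1 hx hx1)⟩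
    by_cases hW : c * g * c⁻¹ ∈ W
    · exact ⟨y, by simp [X], hgc.trans (S.swap.conj_left hW hc1 hy hy1)⟩
    exact ⟨x * y, by simp [X], hgc.trans (S.conj_rest hgP hV hW hz hzV hzW)⟩
  have hXuniq : ∀ u ∈ X, ∀ v ∈ X, IsConj u v → u = v := by
    intro u hu v hv h
    simp only [X, Finset.mem_insert, Finset.mem_singleton] at hu hv
    rcases hu with rfl | rfl | rfl | rfl <;> rcases hv with rfl | rfl | rfl | rfl <;>
      first
        | rfl
        | exact absurd h (hne hx1)
        | exact absurd h (hne hy1)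
        | exact absurd h (hne hz1)
        | exact absurd h.symm (hne hx1)
        | exact absurd h.symm (hne hy1)
        | exact absurd h.symm (hne hz1)
        | exact absurd h hxy
        | exact absurd h hxz
        | exact absurd h hyz
        | exact absurd h.symm hxy
        | exact absurd h.symm hxz
        | exact absurd h.symm hyz
  have htot := card_block_eq_sum_rank hM (isPBlock_principal (M := M) (G := G)) X hXp fun g hg => by
    obtain ⟨u, hu, hgu⟩ := hXex g hg
    exact ⟨u, ⟨hu, hgu⟩, fun v ⟨hv, hgv⟩ => hXuniq v hv u hu (hgv.symm.trans hgu)⟩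
  refine ⟨x, hx, hx1, y, hy, hy1, ?_⟩
  have h1 : (∑ᶠ b ∈ {b : Set (IrrCharacter (centralizer ({(1 : G)} : Set G))) |
      IsInducedBlock M (centralizer ({(1 : G)} : Set G)) b (principalBlock M G)}, blockRank 2 b) =
      blockRank 2 (principalBlock M G) := by
    exact_mod_cast (blockRank_indSet hM (H := centralizer ({(1 : G)} : Set G))
      (principalBlock M G)).symm.trans
      (congrArg (Nat.cast (R := ℂ)) (blockRank_indSet_one hM (isPBlock_principal (M := M) (G := G))))
  have hrank : ∀ {u : G}, (∃ k : ℕ, orderOf u = 2 ^ k) →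
      (∀ b, IsInducedBlock M (centralizer ({u} : Set G)) b (principalBlock M G) → blockRank 2 b = 3) →
      blockRank 2 (principalBlock M (centralizer ({u} : Set G))) = 3 := by
    intro u hu hall
    obtain ⟨B, hB⟩ := exists_isInducedBlock_of_centralizer hM hu
      (fun h => (mem_centralizer_singleton_iff.1 h.2).symm) le_rfl
      (isPBlock_principal (M := M) (G := centralizer ({u} : Set G)))
    exact hall _ ((isInducedBlock_principal_iff hM ⟨B, hB⟩).2 rfl)
  rw [htot, Finset.sum_insert (by simp [hx1.symm, hy1.symm, hz1.symm]),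
    Finset.sum_insert (by
      simp only [Finset.mem_insert, Finset.mem_singleton, not_or]
      exact ⟨fun h => hxy (h ▸ IsConj.refl x), fun h => hxz (h ▸ IsConj.refl x)⟩),
    Finset.sum_pair (fun h => hyz (Eq.subst (motive := fun t => IsConj y t) h (IsConj.refl y))), h1,
    sum_induced_eq hM (hord hxP hx1), sum_induced_eq hM (hord hyP hy1),
    sum_induced_eq hM (hord hz hz1),
    hrank (hord hxP hx1) (S.exists_frame hM hx hx1 hz hzV hzW).1,
    hrank (hord hyP hy1) (S.swap.exists_frame hM hy hy1 hz hzW hzV).1,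
    (hasNormalPComplement_iff_rank_one hM).1 (S.complement hz hzV hzW)]
  omega

theorem Setup.two_le_rank : 2 ≤ blockRank 2 (principalBlock M G) := by
  haveI : Fact (Nat.Prime 2) := ⟨Nat.prime_two⟩
  have hpos := blockRank_pos (p := 2) hM (isPBlock_principal (M := M) (G := G))
  by_contra hlt
  have hnc : HasNormalPComplement 2 G := (hasNormalPComplement_iff_rank_one hM).2 (by omega)
  haveI : IsMulCommutative (P : Subgroup G) :=
    ⟨⟨fun a b => Subtype.ext (S.comm a a.2 b b.2)⟩⟩
  obtain ⟨e, he, -, hew, -⟩ := S.exists_rot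
  obtain ⟨w, hw, hw1, -⟩ := S.swap.exists_ne 1
  have hwP := S.nine.right.le hw
  have hmem : ⁅w, e⁆ ∈ pResidual 2 G ⊓ (P : Subgroup G) := by
    rw [Fusion.pResidual_inf_eq_of_abelian P]
    exact commutator_mem_commutator hwP he
  obtain ⟨hres, hP⟩ := mem_inf.1 hmem
  have h1 : ⁅w, e⁆ = 1 := by
    by_contra hne
    have hco := (Fusion.mem_pResidual_iff_coprime hnc _).1 hres
    rw [S.sq_eq hP hne] at hco
    exact absurd hco (by norm_num)
  refine hew w hw hw1 ?_
  rw [commutatorElement_eq_one_iff_mul_comm] at h1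
  rw [← h1, mul_inv_cancel_right]

/-- The invariants of the principal block. -/
theorem Setup.card_and_rank :
    Nat.card (principalBlock M G) = 16 ∧ blockRank 2 (principalBlock M G) = 9 := by
  haveI : Fact (Nat.Prime 2) := ⟨Nat.prime_two⟩
  obtain ⟨x, hx, hx1, y, hy, hy1, hk⟩ := S.exists_reps hM
  have hl := S.two_le_rank hM
  obtain ⟨hz, hzV, hzW⟩ := S.mul_notMem hx hx1 hy hy1
  have hz1 : x * y ≠ 1 := fun h => hzV (h ▸ one_mem V)
  set z := x * y with hzdef
  have hxP := S.nine.left.le hx
  have hyP := S.nine.right.le hy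
  have hxy : ¬ IsConj x y := fun h =>
    hy1 (S.eq_one_of_mem ((S.mem_left_iff hxP hyP h).1 hx) hy)
  have hxz : ¬ IsConj x z := fun h => hzV ((S.mem_left_iff hxP hz h).1 hx)
  have hyz : ¬ IsConj y z := fun h => hzW ((S.swap.mem_left_iff hyP hz h).1 hy)
  obtain ⟨X, w, hw, hX, hXs, hXg⟩ := (S.exists_frame hM hx hx1 hz hzV hzW).2
  obtain ⟨Y, v, hv, hY, hYs, hYg⟩ := (S.swap.exists_frame hM hy hy1 hz hzW hzV).2
  have hzz : pPt 2 z = z := (eq_pPt (mul_one z) (Commute.one_right z)
    (k := 1) (by rw [S.sq_eq hz hz1, pow_one]) (by rw [orderOf_one]; norm_num)).symm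
  let dz : G → ℂ := fun g => if g = z then 1 else 0
  have hdz : ∀ g, dz g ≠ 0 → IsConj (pPt 2 g) z := fun g hg => by
    by_cases h : g = z
    · rw [h, hzz]
    · exact absurd (if_neg h) hg
  have hdzs : ∀ F : G → ℂ, ∑ g, dz g * F g = F z := fun F => by simp [dz]
  choose c hc using fun i : {χ : IrrCharacter G // χ ∈ principalBlock M G} =>
    int_value_involution i.1 (S.sq_eq hz hz1)
  have hc0 : ∀ i, c i ≠ 0 := fun i h0 =>
    S.apply_ne_zero hM hz hzV hzW i.2 (by rw [hc, h0, Int.cast_zero])
  have hcreal : ∀ i : {χ : IrrCharacter G // χ ∈ principalBlock M G},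
      conj ((i.1 : G → ℂ) z) = (i.1 : G → ℂ) z := fun i => by rw [hc, map_intCast]
  have hcc : ∑ i : {χ : IrrCharacter G // χ ∈ principalBlock M G},
      (i.1 : G → ℂ) z * conj ((i.1 : G → ℂ) z) = 16 := by
    rw [← S.column hM hz hzV hzW,
      Finset.sum_subtype (p := fun φ => φ ∈ principalBlock M G) _ (fun _ => Set.mem_toFinset)]
  have hwz : ∀ a, ∑ i : {χ : IrrCharacter G // χ ∈ principalBlock M G},
      (∑ g, w a g * (i.1 : G → ℂ) g) * conj ((i.1 : G → ℂ) z) = 0 := fun a => by
    have h := weights_orthogonal hM hxz (hw a) hdz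
    simp only [hdzs] at h
    exact h
  have hvz : ∀ b, ∑ i : {χ : IrrCharacter G // χ ∈ principalBlock M G},
      (i.1 : G → ℂ) z * conj (∑ g, v b g * (i.1 : G → ℂ) g) = 0 := fun b => by
    have h := weights_orthogonal hM (fun h => hyz h.symm) hdz (hv b)
    simp only [hdzs] at h
    exact h
  have hcross : ∀ a b, ∑ i, X a i * Y b i = 1 := by
    intro a b
    have e : ((∑ i, X a i * Y b i : ℤ) : ℂ) = ((1 : ℤ) : ℂ) := by
      push_cast
      rw [Finset.sum_congr rfl
          (g := fun i => (∑ g, w a g * (i.1 : G → ℂ) g) * conj (∑ g, v b g * (i.1 : G → ℂ) g) +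
            (∑ g, w a g * (i.1 : G → ℂ) g) * conj ((i.1 : G → ℂ) z) / 4 +
            (i.1 : G → ℂ) z * conj (∑ g, v b g * (i.1 : G → ℂ) g) / 4 +
            (i.1 : G → ℂ) z * conj ((i.1 : G → ℂ) z) / 16) fun i _ => by
          have hr : conj (∑ g, v b g * (i.1 : G → ℂ) g) = ∑ g, v b g * (i.1 : G → ℂ) g := by
            have h := congrArg conj (hY b i)
            rw [map_intCast, map_add, map_div₀, hcreal, hY b i, Complex.conj_ofNat] at h
            exact (add_right_cancel h).symm
          rw [hX a i, hY b i, hr, hcreal]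
          ring,
        Finset.sum_add_distrib, Finset.sum_add_distrib, Finset.sum_add_distrib, ← Finset.sum_div,
        ← Finset.sum_div, ← Finset.sum_div, weights_orthogonal hM hxy (hw a) (hv b), hwz, hvz, hcc]
      norm_num
    exact_mod_cast e
  have hF : Frames X Y c :=
    ⟨hXg, hYg, hcross,
      fun i => by exact_mod_cast (hXs i).trans (hc i),
      fun i => by exact_mod_cast (hYs i).trans (hc i)⟩
  have hcard : Nat.card (principalBlock M G) =
      Fintype.card {χ : IrrCharacter G // χ ∈ principalBlock M G} :=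
    Nat.card_eq_fintype_card
  have h16 := hF.card_eq (by omega) hc0
  omega

end Cfsg.Lib.Block.SixteenNine
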