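import Cfsg.Agent.Lib.Block.OddColumn
import Cfsg.Agent.Lib.Block.RegularOrbitSixteen
import Cfsg.Agent.Lib.Block.PrincipalNilpotent
import Cfsg.Agent.S4569

/-!
# The size of the principal block when an involution has a two-nilpotent centralizer

For an abelian Sylow two-subgroup of order eight or sixteen the principal block has as many
characters as the Sylow subgroup has elements, or eight.
-/

set_option autoImplicit false
set_option linter.unusedSectionVars false
set_option linter.style.haveILetI false

namespace Cfsg.Lib.Block.RegularOrbit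

open Cfsg Cfsg.Lib Cfsg.Lib.Block Subgroup
open scoped Classical

universe u

variable {G : Type u} [Group G] [Fintype G] {M : Ideal AlgInt}

theorem count_cases (hM : IsPModular 2 M) (P : Sylow 2 G) (hab : IsMulCommutative (P : Subgroup G))
    {x : G} (hx : orderOf x = 2)
    (hl : blockRank 2 (principalBlock M (centralizer ({x} : Set G))) = 1)
    (hprime : ¬ Group.IsSolvable G →
      ((centralizer ((P : Subgroup G) : Set G)).relIndex
        (normalizer ((P : Subgroup G) : Set G))).Prime →
      Nat.card (principalBlock M G) = Nat.card (P : Subgroup G)) :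
    (Nat.card (P : Subgroup G) = 8 → Nat.card (principalBlock M G) = 8) ∧
      (Nat.card (P : Subgroup G) = 16 →
        Nat.card (principalBlock M G) = 8 ∨ Nat.card (principalBlock M G) = 16) := by
  haveI : Fact (Nat.Prime 2) := ⟨Nat.prime_two⟩
  obtain ⟨c, hcP⟩ := Invol.exists_conj_mem_sylow P
    (IsPGroup.of_card (n := 1) (by rw [Nat.card_zpowers, hx, pow_one]) : IsPGroup 2 (zpowers x))
  set y := c * x * c⁻¹ with hy
  have hyP : y ∈ (P : Subgroup G) := hcP x (mem_zpowers x)
  have hy2 : orderOf y = 2 := by
    rw [hy, ← MulAut.conj_apply, MulEquiv.orderOf_eq, hx]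
  have hyc : HasNormalPComplement 2 (centralizer ({y} : Set G)) :=
    complement_conj c x ((hasNormalPComplement_iff_rank_one hM).2 hl)
  have hyl := (hasNormalPComplement_iff_rank_one hM).1 hyc
  have hcount := OddColumn.count_of_odd hM P hy2 (le_centralizer_singleton P hyP) hyl
  by_cases hs : Group.IsSolvable G
  · exact hcount fun χ hχ => OddColumn.odd_of_solvable hM P hab hχ
  set e := (centralizer ((P : Subgroup G) : Set G)).relIndex
    (normalizer ((P : Subgroup G) : Set G)) with he
  have h1 := relIndex_le P hyP hy2 hyc
  have h2 := card_involutions_lt P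
  have hodd := relIndex_odd P
  rw [← he] at h1 hodd
  by_cases hp : e.Prime
  · have := hprime hs hp
    omega
  have he1 : e ≠ 1 := fun h => hs (solvable_of_relIndex_one P h)
  obtain ⟨j, hj⟩ := hodd
  refine ⟨fun h8 => ?_, fun h16 => ?_⟩
  · exfalso
    have : e = 3 ∨ e = 5 ∨ e = 7 := by omega
    rcases this with h | h | h <;> exact hp (h ▸ by norm_num)
  · have : e = 3 ∨ e = 5 ∨ e = 7 ∨ e = 9 ∨ e = 11 ∨ e = 13 ∨ e = 15 := by omega
    rcases this with h | h | h | h | h | h | h
    · exact absurd (h ▸ by norm_num) hp
    · exact absurd (h ▸ by norm_num) hp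
    · exact absurd (h ▸ by norm_num) hp
    · have hsq := elementary_of_many P (by omega)
      exact Or.inr (Cfsg.Agent.S4569.result M hM P h16 hsq h).1
    · exact absurd (h ▸ by norm_num) hp
    · exact absurd (h ▸ by norm_num) hp
    · obtain ⟨htr, hall⟩ := complement_of_full P hyP hy2 hyc (by omega)
      exact (hcount fun χ hχ => odd_of_orbit hM P hab h16 htr hall hs hχ).2 h16

end Cfsg.Lib.Block.RegularOrbit
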