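import Cfsg.Agent.Lib.Block.CoverDefect
import Cfsg.Agent.Lib.Char.Extension
import Cfsg.Agent.Lib.Char.Clifford
import Cfsg.Agent.Lib.Coprime.Conjugacy
import Cfsg.Agent.Lib.Core.PSolvable
import Mathlib.GroupTheory.SchurZassenhaus

/-!
# Idempotent class functions supported on `p`-regular elements

In a `p`-solvable group an idempotent class function (for convolution) that vanishes at all
`p`-singular elements takes local integral values.  The proof reduces to an invariant character
`θ` of `O_{p'}(G)`, multiplies by the idempotent of the canonical extension of `θ` to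
`O_{p',p}(G)` and compares the two norms; this forces the support into `O_{p'}(G)`.
-/

set_option autoImplicit false
set_option linter.unusedSectionVars false
set_option linter.style.haveILetI false

namespace Cfsg.Lib.Block

open Cfsg
open scoped ComplexConjugate

universe u v

section Conv

variable {G : Type u} [Group G] [Fintype G]

theorem gconv_assoc (a b c : G → ℂ) : gconv (gconv a b) c = gconv a (gconv b c) := by
  funext x
  simp only [gconv, Finset.sum_mul, Finset.mul_sum]
  rw [Finset.sum_comm]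
  refine Finset.sum_congr rfl fun y _ => ?_
  refine (Fintype.sum_equiv (Equiv.mulLeft y) _ _ fun k => ?_).symm
  simp [mul_assoc]

theorem gconv_comm {f : G → ℂ} (hf : IsClassFunction G f) (h : G → ℂ) :
    gconv h f = gconv f h := by
  funext x
  simp only [gconv]
  refine Fintype.sum_equiv ((Equiv.inv G).trans (Equiv.mulLeft x)) _ _ fun a => ?_
  simp only [Equiv.trans_apply, Equiv.inv_apply, Equiv.coe_mulLeft, mul_inv_rev, inv_inv,
    inv_mul_cancel_right, mul_comm (h a)]
  congr 1
  rw [← hf (a⁻¹ * x) a]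
  simp [mul_assoc]

theorem gconv_sub (a b c : G → ℂ) : gconv a (b - c) = gconv a b - gconv a c := by
  funext x
  simp [gconv, mul_sub, Finset.sum_sub_distrib]

theorem sub_gconv (a b c : G → ℂ) : gconv (a - b) c = gconv a c - gconv b c := by
  funext x
  simp [gconv, sub_mul, Finset.sum_sub_distrib]

theorem gconv_zero (a : G → ℂ) : gconv a 0 = 0 := by
  funext x
  simp [gconv]

theorem gconv_eq_zc {f h : G → ℂ} (hf : IsClassFunction G f) (hh : IsClassFunction G h) :
    gconv f h = zc (vec f * vec h) := by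
  funext x
  rw [zc_mul]
  simp only [gconv, zc_vec hf, zc_vec hh]

/-- A central idempotent, as a class function. -/
def IsIdem (f : G → ℂ) : Prop := IsClassFunction G f ∧ gconv f f = f

theorem IsIdem.vec_eq {f : G → ℂ} (hf : IsIdem f) (χ : IrrCharacter G) :
    vec f χ = 0 ∨ vec f χ = 1 := by
  have e : vec f * vec f = vec f := by
    rw [← vec_zc (vec f * vec f), ← gconv_eq_zc hf.1 hf.1, hf.2]
  exact IsIdempotentElem.iff_eq_zero_or_one.mp (congrFun e χ)

theorem IsIdem.mul {f h : G → ℂ} (hf : IsIdem f) (hh : IsIdem h) : IsIdem (gconv f h) := by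
  refine ⟨fun g x => ?_, ?_⟩
  · rw [gconv_eq_zc hf.1 hh.1]
    exact zc_conj_invariant _ g x
  · rw [gconv_assoc, ← gconv_assoc h f h, gconv_comm hf.1 h, gconv_assoc f h h, hh.2,
      ← gconv_assoc, hf.2]

theorem IsIdem.apply_inv {f : G → ℂ} (hf : IsIdem f) (g : G) : f g⁻¹ = conj (f g) := by
  rw [← zc_vec hf.1 g⁻¹, ← zc_vec hf.1 g]
  simp only [zc, map_mul, map_inv₀, Complex.conj_natCast, map_sum, inv_inv]
  congr 1
  refine Finset.sum_congr rfl fun χ _ => ?_
  rw [χ.2.isCharacter.apply_inv g, Complex.conj_conj]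
  obtain ⟨n, -, hn⟩ := χ.2.exists_degree
  rw [hn, Complex.conj_natCast]
  rcases hf.vec_eq χ with h | h <;> simp [h]

theorem IsIdem.apply_one {f : G → ℂ} (hf : IsIdem f) :
    f 1 = ((∑ g, Complex.normSq (f g) : ℝ) : ℂ) := by
  conv_lhs => rw [← hf.2]
  simp [gconv, hf.apply_inv, Complex.mul_conj]

theorem IsIdem.eq_zero_of_apply_one {f : G → ℂ} (hf : IsIdem f) (h : f 1 = 0) : f = 0 := by
  rw [hf.apply_one, Complex.ofReal_eq_zero,
    Finset.sum_eq_zero_iff_of_nonneg fun g _ => Complex.normSq_nonneg _] at h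
  exact funext fun g => Complex.normSq_eq_zero.mp (h g (Finset.mem_univ g))

theorem IsIdem.gconv_eq_left {z e : G → ℂ} (hz : IsIdem z) (he : IsIdem e)
    (h1 : gconv z e 1 = z 1) : gconv z e = z := by
  have hp := hz.mul he
  have hzp : gconv z (gconv z e) = gconv z e := by rw [← gconv_assoc, hz.2]
  have hd : IsIdem (z - gconv z e) := by
    refine ⟨fun g x => ?_, ?_⟩
    · simp only [Pi.sub_apply, hz.1 g x, hp.1 g x]
    · rw [gconv_sub, sub_gconv, sub_gconv, hz.2, hzp, gconv_comm hz.1 (gconv z e), hzp, hp.2,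
        sub_self, sub_zero]
  exact (sub_eq_zero.mp (hd.eq_zero_of_apply_one (by rw [Pi.sub_apply, h1, sub_self]))).symm

/-- In a group of order prime to `p` idempotents have local integral values. -/
theorem IsIdem.mem_locRing_of_not_dvd {p : ℕ} {M : Ideal AlgInt} (hM : IsPModular p M)
    (hG : ¬ p ∣ Nat.card G) {f : G → ℂ} (hf : IsIdem f) (g : G) : f g ∈ locRing hM := by
  rw [← zc_vec hf.1 g]
  refine mul_mem ?_ (sum_mem fun χ _ => mul_mem (mul_mem ?_ ?_) (charVal_mem_locRing hM χ _))
  · have := natCast_div_mem hM (a := 1) (b := Nat.card G) Nat.card_pos.ne'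
      (Or.inr (by rw [Nat.factorization_eq_zero_of_not_dvd hG]; simp))
    simpa [div_eq_mul_inv] using this
  · rcases hf.vec_eq χ with h | h <;> rw [h]
    · exact zero_mem _
    · exact one_mem _
  · exact charVal_mem_locRing hM χ 1

end Conv

section Sub

variable {G : Type u} [Group G] {H : Subgroup G}

theorem extZ_of_mem (θ : H → ℂ) {g : G} (hg : g ∈ H) : extendByZero H θ g = θ ⟨g, hg⟩ :=
  Subtype.val_injective.extend_apply θ (0 : G → ℂ) ⟨g, hg⟩

theorem extZ_coe (θ : H → ℂ) (h : H) : extendByZero H θ h = θ h := extZ_of_mem θ h.2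

theorem extZ_of_notMem (θ : H → ℂ) {g : G} (hg : g ∉ H) : extendByZero H θ g = (0 : ℂ) :=
  Function.extend_apply' θ (0 : G → ℂ) g fun ⟨a, ha⟩ => hg (ha ▸ a.2)

theorem sum_extZ_mul [Fintype G] [Fintype H] (θ : H → ℂ) (F : G → ℂ) :
    ∑ g, extendByZero H θ g * F g = ∑ h : H, θ h * F h := by
  classical
  rw [← Finset.sum_filter_of_ne (p := (· ∈ H)) (s := Finset.univ) fun g _ hg => by
    by_contra hn; exact hg (by rw [extZ_of_notMem θ hn, zero_mul]),
    Finset.sum_subtype (p := (· ∈ H)) _ (by simp) fun g => extendByZero H θ g * F g]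
  exact Finset.sum_congr rfl fun h _ => by rw [extZ_coe]

theorem gconv_extZ [Fintype G] [Fintype H] (a : H → ℂ) (f : G → ℂ) (x : G) :
    gconv (extendByZero H a) f x = ∑ h : H, a h * f ((h : G)⁻¹ * x) :=
  sum_extZ_mul a fun g => f (g⁻¹ * x)

theorem gconv_extZ_extZ [Fintype G] [Fintype H] (a b : H → ℂ) :
    gconv (extendByZero H a) (extendByZero H b) = extendByZero H (gconv a b) := by
  funext x
  rw [gconv_extZ]
  by_cases hx : x ∈ H
  · rw [extZ_of_mem _ hx]
    exact Finset.sum_congr rfl fun h _ => by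
      rw [extZ_of_mem b (mul_mem (inv_mem h.2) hx)]; rfl
  · rw [extZ_of_notMem _ hx]
    refine Finset.sum_eq_zero fun h _ => ?_
    rw [extZ_of_notMem b fun h' => hx (by simpa using mul_mem h.2 h'), mul_zero]

theorem isIdem_extZ [Fintype G] [Fintype H] [hH : H.Normal] {a : H → ℂ} (ha : IsIdem a)
    (hinv : ∀ (g : G) (h : H), a ⟨g * h * g⁻¹, hH.conj_mem h h.2 g⟩ = a h) :
    IsIdem (extendByZero H a) := by
  refine ⟨fun g x => ?_, by rw [gconv_extZ_extZ, ha.2]⟩
  by_cases hg : g ∈ H
  · rw [extZ_of_mem _ hg, extZ_of_mem _ (hH.conj_mem g hg x)]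
    exact hinv x ⟨g, hg⟩
  · rw [extZ_of_notMem _ hg, extZ_of_notMem _ fun h => hg (by
      simpa [mul_assoc] using hH.conj_mem _ h x⁻¹)]

end Sub

section Extension

variable {L : Type u} [Group L] [Fintype L] {N : Subgroup L} [hN : N.Normal] [Fintype N]

/-- Schur's lemma for the restriction. -/
theorem sum_conj_res {W : Type v} [AddCommGroup W] [Module ℂ W] [FiniteDimensional ℂ W]
    (ρ : Representation ℂ L W) {σ : Representation ℂ N W} [σ.IsIrreducible]
    (hρ : ∀ n : N, ρ (n : L) = σ n) (x : L) :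
    ∑ m : N, ρ ((m : L) * x * (m : L)⁻¹) =
      ((Nat.card N : ℂ) * ρ.character x / (Module.finrank ℂ W : ℂ)) • LinearMap.id := by
  let T : Representation.IntertwiningMap σ σ :=
    ⟨∑ m : N, ρ ((m : L) * x * (m : L)⁻¹), fun g => LinearMap.ext fun v => by
      simp only [LinearMap.comp_apply, LinearMap.sum_apply, map_sum, ← hρ]
      refine Fintype.sum_equiv (Equiv.mulLeft g⁻¹) _ _ fun m => ?_
      rw [← Module.End.mul_apply, ← Module.End.mul_apply, ← map_mul, ← map_mul]
      simp only [Equiv.coe_mulLeft, Subgroup.coe_mul, Subgroup.coe_inv, mul_inv_rev, inv_inv]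
      congr 2
      group⟩
  obtain ⟨c, hc⟩ :=
    (Representation.IsIrreducible.algebraMap_intertwiningMap_bijective_of_isAlgClosed
      (ρ := σ)).2 T
  have hT : ∑ m : N, ρ ((m : L) * x * (m : L)⁻¹) = c • LinearMap.id :=
    (congrArg Representation.IntertwiningMap.toLinearMap hc).symm
  have htr := congrArg (LinearMap.trace ℂ W) hT
  rw [map_smul, LinearMap.trace_id, smul_eq_mul, map_sum] at htr
  change ∑ m : N, ρ.character ((m : L) * x * (m : L)⁻¹) = _ at htr
  simp only [Representation.char_conj, Finset.sum_const, Finset.card_univ, nsmul_eq_mul,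
    ← Nat.card_eq_fintype_card] at htr
  rw [hT, htr, mul_div_assoc, div_self
    (Nat.cast_ne_zero.mpr (Char.irreducible_finrank_pos σ).ne'), mul_one]

theorem sum_char_mul_conj_res {W : Type v} [AddCommGroup W] [Module ℂ W] [FiniteDimensional ℂ W]
    (ρ : Representation ℂ L W) {σ : Representation ℂ N W} [σ.IsIrreducible]
    (hρ : ∀ n : N, ρ (n : L) = σ n) (g x : L) :
    (Module.finrank ℂ W : ℂ) * ∑ m : N, ρ.character (g * ((m : L) * x * (m : L)⁻¹)) =
      (Nat.card N : ℂ) * ρ.character g * ρ.character x := by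
  have h1 : ∑ m : N, ρ.character (g * ((m : L) * x * (m : L)⁻¹)) =
      LinearMap.trace ℂ W (ρ g * ∑ m : N, ρ ((m : L) * x * (m : L)⁻¹)) := by
    simp [Representation.character, Finset.mul_sum, map_sum]
  rw [h1, sum_conj_res ρ hρ x, mul_smul_comm, map_smul, smul_eq_mul,
    show ρ g * LinearMap.id = ρ g from LinearMap.comp_id _]
  have := Nat.cast_ne_zero (R := ℂ).mpr (Char.irreducible_finrank_pos σ).ne'
  show _ * (_ / _ * ρ.character g) = _
  field_simp

/-- An extension of an irreducible character has norm one on every coset. -/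
theorem sum_coset_normSq {W : Type v} [AddCommGroup W] [Module ℂ W] [FiniteDimensional ℂ W]
    (ρ : Representation ℂ L W) {σ : Representation ℂ N W} [σ.IsIrreducible]
    (hρ : ∀ n : N, ρ (n : L) = σ n) (x : L) :
    ∑ n : N, ρ.character (x * n) * ρ.character (x * n)⁻¹ = (Nat.card N : ℂ) := by
  have hN0 : (Nat.card N : ℂ) ≠ 0 := Nat.cast_ne_zero.mpr Nat.card_pos.ne'
  refine mul_left_cancel₀ hN0 ?_
  have hd := Nat.cast_ne_zero (R := ℂ).mpr (Char.irreducible_finrank_pos σ).ne'
  calc (Nat.card N : ℂ) * ∑ n : N, ρ.character (x * n) * ρ.character (x * n)⁻¹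
      = (Module.finrank ℂ W : ℂ) * ∑ n : N, ∑ m : N,
          ρ.character ((x * n) * ((m : L) * (x * n)⁻¹ * (m : L)⁻¹)) := by
        rw [Finset.mul_sum, Finset.mul_sum]
        exact Finset.sum_congr rfl fun n _ => by rw [sum_char_mul_conj_res ρ hρ]; ring
    _ = (Module.finrank ℂ W : ℂ) * ∑ m : N, ∑ n : N,
          ρ.character ((x⁻¹ * (m : L)⁻¹ * x) * ((n : L) * m * (n : L)⁻¹)) := by
        rw [Finset.sum_comm]
        congr 1
        refine Finset.sum_congr rfl fun m _ => Finset.sum_congr rfl fun n _ => ?_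
        rw [← ρ.char_conj ((x * n) * ((m : L) * (x * n)⁻¹ * (m : L)⁻¹)) (x⁻¹ * (m : L)⁻¹)]
        congr 1
        group
    _ = ∑ m : N, (Nat.card N : ℂ) * (ρ.character (m : L)⁻¹ * ρ.character m) := by
        rw [Finset.mul_sum]
        refine Finset.sum_congr rfl fun m _ => ?_
        rw [sum_char_mul_conj_res ρ hρ, mul_assoc]
        congr 2
        rw [← ρ.char_conj _ x]
        congr 1
        group
    _ = (Nat.card N : ℂ) * Nat.card N := by
        rw [← Finset.mul_sum]
        congr 1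
        have h := Char.classInner_irr_self (Char.isIrrCharacter_character σ)
        rw [classInner, inv_mul_eq_one₀ hN0] at h
        rw [h]
        refine Finset.sum_congr rfl fun m _ => ?_
        have hc : ∀ y : N, σ.character y = ρ.character (y : L) := fun y =>
          congrArg (LinearMap.trace ℂ W) (hρ y).symm
        rw [mul_comm, hc, Char.character_inv]

end Extension

section Canonical

/-- Idempotent vectors give idempotents. -/
theorem isIdem_zc {G : Type u} [Group G] [Fintype G] {v : IrrCharacter G → ℂ} (hv : v * v = v) :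
    IsIdem (zc v) :=
  ⟨fun g x => zc_conj_invariant v g x, funext fun g => by rw [gconv, ← zc_mul, hv]⟩

open Classical in
/-- The idempotent of an irreducible character. -/
noncomputable def irrIdem {G : Type u} [Group G] [Fintype G] (θ : IrrCharacter G) : G → ℂ :=
  zc (Pi.single θ 1)

theorem isIdem_irrIdem {G : Type u} [Group G] [Fintype G] (θ : IrrCharacter G) :
    IsIdem (irrIdem θ) := by
  classical
  refine isIdem_zc (funext fun χ => ?_)
  by_cases h : χ = θ <;> simp [h]

theorem irrIdem_apply {G : Type u} [Group G] [Fintype G] (θ : IrrCharacter G) (g : G) :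
    irrIdem θ g = (Nat.card G : ℂ)⁻¹ * ((θ : G → ℂ) 1 * (θ : G → ℂ) g⁻¹) := by
  classical
  rw [irrIdem, zc, Finset.sum_eq_single θ (fun χ _ h => by simp [h])
    (fun h => absurd (Finset.mem_univ θ) h), Pi.single_eq_same, one_mul]

theorem gconv_irrIdem_ne {G : Type u} [Group G] [Fintype G] {θ η : IrrCharacter G} (h : θ ≠ η) :
    gconv (irrIdem θ) (irrIdem η) = 0 := by
  classical
  funext g
  rw [gconv]
  simp only [irrIdem]
  rw [← zc_mul, show (Pi.single θ 1 * Pi.single η 1 : IrrCharacter G → ℂ) = 0 from ?_, zc_zero]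
  · rfl
  · funext χ
    by_cases hχ : χ = θ
    · subst hχ; simp [h]
    · simp [hχ]

theorem sum_irrIdem {G : Type u} [Group G] [Fintype G] [DecidableEq G] (g : G) :
    ∑ θ : IrrCharacter G, irrIdem θ g = if g = 1 then 1 else 0 := by
  classical
  simp only [irrIdem]
  rw [← zc_sum, Finset.univ_sum_single, ← zc_one g]
  rfl

variable {G : Type u} [Group G] [Fintype G] {N L : Subgroup G} [hN : N.Normal] [hL : L.Normal]
  [Fintype N]

/-- The canonical extension to an overgroup of coprime prime power index gives an idempotent. -/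
theorem exists_extIdem {p k : ℕ} (hp : p.Prime) (hNL : N ≤ L) (hpN : ¬ p ∣ Nat.card N)
    (hidx : N.relIndex L = p ^ k) (θ : IrrCharacter N)
    (hθ : ∀ (g : G) (n : N), (θ : N → ℂ) ⟨g * n * g⁻¹, hN.conj_mem n n.2 g⟩ = (θ : N → ℂ) n) :
    ∃ (z : G → ℂ) (c : ℂ), c ≠ 0 ∧ conj c = c ∧ IsIdem z ∧ (∀ g, g ∉ L → z g = 0) ∧
      (∀ n : N, z n = c * irrIdem θ n) ∧
      ∀ u ∈ L, ∑ n : N, z (u * n) * z (u * (n : G))⁻¹ = c * z 1 := by
  classical
  haveI := Fintype.ofFinite L
  set N' := N.subgroupOf L with hN'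
  haveI := Fintype.ofFinite N'
  let e : N' ≃* N := Subgroup.subgroupOfEquivOfLe hNL
  obtain ⟨m, σ, hσ, hσθ⟩ := (compIrr e θ).2
  haveI := hσ
  have hσval : ∀ n : N', σ.character n = (θ : N → ℂ) ⟨(n : L), n.2⟩ := fun n => congrFun hσθ n
  have hinv : ∀ (x : L) (n : N'), σ.character (MulAut.conjNormal x n) = σ.character n :=
    fun x n => by
      rw [hσval, hσval]
      exact hθ (x : G) ⟨(n : L), n.2⟩
  have hcardN' : Nat.card N' = Nat.card N := Nat.card_congr e.toEquiv
  have hNN : (Nat.card N').Coprime N'.index := by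
    rw [hcardN', show N'.index = p ^ k from hidx]
    exact ((Nat.Prime.coprime_iff_not_dvd hp).mpr hpN).symm.pow_right k
  have hcop : Nat.Coprime N'.index (Module.finrank ℂ (Fin m → ℂ)) := by
    refine Nat.Coprime.coprime_dvd_right (Char.degree_dvd_card (Char.isIrrCharacter_character σ) ?_)
      hNN.symm
    rw [σ.char_one]
  set D : N' →* ℂˣ := Char.detHom σ with hD
  have hDinv : ∀ (x : L) (n : N'), D (MulAut.conjNormal x n) = D n := by
    intro x n
    obtain ⟨φ⟩ := Char.nonempty_equiv_of_character_eq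
      (σ.comp (MulAut.conjNormal x : MulAut N').toMonoidHom) σ (funext fun n => hinv x n)
    exact Units.ext (Char.det_eq_of_equiv φ n).symm
  obtain ⟨P, hP⟩ := Subgroup.exists_right_complement'_of_coprime hNN
  have hex : ∀ x : L, ∃ n : N', ∃ a ∈ P, x = (n : L) * a := fun x => by
    obtain ⟨y, hy, -⟩ := hP.existsUnique x
    exact ⟨y.1, y.2, y.2.2, hy.symm⟩
  choose f a haP hfa using hex
  have huniq : ∀ (x : L) (n : N') (b : L), b ∈ P → x = (n : L) * b → f x = n := by
    intro x n b hb h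
    obtain ⟨y, -, hy⟩ := hP.existsUnique x
    have h1 := hy (⟨f x, (f x).2⟩, ⟨a x, haP x⟩) (hfa x).symm
    have h2 := hy (⟨n, n.2⟩, ⟨b, hb⟩) h.symm
    exact (congrArg Prod.fst (h1.trans h2.symm))
  let μ : L →* ℂˣ := MonoidHom.mk' (fun x => D (f x)) fun x y => by
    have h := huniq (x * y) (f x * MulAut.conjNormal (a x) (f y)) (a x * a y)
      (mul_mem (haP x) (haP y)) (by
        rw [Subgroup.coe_mul, MulAut.conjNormal_apply]
        conv_lhs => rw [hfa x, hfa y]
        group)
    simp only [h, map_mul, hDinv]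
  have hμ : ∀ n : N', μ n = D n := fun n =>
    congrArg D (huniq (n : L) n 1 (one_mem P) (mul_one _).symm)
  have hμpow : ∀ x, μ x ^ Nat.card N' = 1 := fun x => by
    show D (f x) ^ _ = 1
    rw [← map_pow, pow_card_eq_one', map_one]
  obtain ⟨ρ₀, hρ₀⟩ := Char.exists_extension_of_det σ hinv hcop μ hμ
  obtain ⟨ρ, hρ, hdet⟩ := Char.exists_extension_det_eq hρ₀ hcop μ hμ
  haveI := Char.isIrreducible_of_extension hρ
  set ψ : IrrCharacter L := ⟨ρ.character, Char.isIrrCharacter_character ρ⟩ with hψ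
  have hψinv : ∀ (g : G) (x : L), ρ.character ⟨g * x * g⁻¹, hL.conj_mem x x.2 g⟩ = ρ.character x := by
    intro g
    let cg : L →* L := (MulAut.conjNormal g : MulAut L).toMonoidHom
    have hch : IsCharacter L (fun x => ρ.character (cg x)) :=
      (Char.isCharacter_character ρ).comp cg
    obtain ⟨ρ', hρ', hρ'c⟩ := Char.exists_rep_of_res_eq N'.subtype σ hch fun n => by
      have h1 : ∀ w : N', ρ.character (w : L) = σ.character w := fun w =>
        congrArg (LinearMap.trace ℂ _) (hρ w)
      have hmem : cg (n : L) ∈ N' := hN.conj_mem _ n.2 g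
      show ρ.character (cg (n : L)) = σ.character n
      rw [h1 ⟨_, hmem⟩, hσval, hσval]
      exact hθ g ⟨(n : L), n.2⟩
    obtain ⟨φ⟩ := Char.nonempty_equiv_of_character_eq (ρ.comp cg) ρ' (by
      rw [hρ'c]; rfl)
    have hdet' : Char.detHom ρ' = Char.detHom ρ := by
      rw [hdet]
      refine MonoidHom.ext fun x => ?_
      have hd : Char.detHom ρ' x = μ (cg x) := by
        rw [← hdet]; exact Units.ext (Char.det_eq_of_equiv φ x)
      set q : L →* ℂˣ := (Char.detHom ρ') * μ⁻¹ with hq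
      have hqN : ∀ n ∈ N', q n = 1 := fun n hn => by
        rw [hq, MonoidHom.mul_apply, MonoidHom.inv_apply, mul_inv_eq_one, hμ ⟨n, hn⟩, hD]
        exact Units.ext (congrArg LinearMap.det (hρ' ⟨n, hn⟩))
      have h1 : q x ^ Nat.card N' = 1 := by
        rw [hq, MonoidHom.mul_apply, MonoidHom.inv_apply, mul_pow, inv_pow, hd, hμpow, hμpow]
        simp
      have h2 := pow_gcd_eq_one.mpr ⟨h1, Char.pow_index_eq_one_of_trivial q hqN x⟩
      rw [hNN.gcd_eq_one, pow_one, hq, MonoidHom.mul_apply, MonoidHom.inv_apply,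
        mul_inv_eq_one] at h2
      exact h2
    have := Char.eq_of_extension_det hρ hρ' hcop hdet'
    intro x
    have h := congrFun hρ'c x
    rw [this] at h
    exact h.symm
  set zL := irrIdem ψ with hzL
  set d : ℂ := (ψ : L → ℂ) 1 with hd'
  have hd1 : d = (θ : N → ℂ) 1 := by
    have h := hσval 1
    rw [hd']
    show ρ.character 1 = _
    rw [ρ.char_one, ← σ.char_one]
    exact h
  have hLc : (Nat.card L : ℂ) ≠ 0 := Nat.cast_ne_zero.mpr Nat.card_pos.ne'
  have hNc : (Nat.card N : ℂ) ≠ 0 := Nat.cast_ne_zero.mpr Nat.card_pos.ne'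
  have hz : ∀ x : L, extendByZero L zL (x : G) = (Nat.card L : ℂ)⁻¹ * (d * ρ.character x⁻¹) :=
    fun x => by rw [extZ_coe, hzL, irrIdem_apply]
  refine ⟨extendByZero L zL, (Nat.card N : ℂ) / (Nat.card L : ℂ), div_ne_zero hNc hLc, by simp,
    isIdem_extZ (isIdem_irrIdem ψ) fun g x => ?_, fun g hg => extZ_of_notMem _ hg, fun n => ?_,
    fun u hu => ?_⟩
  · simp only [hzL]
    rw [irrIdem_apply, irrIdem_apply]
    congr 2
    show ρ.character _ = ρ.character _
    rw [← hψinv g x⁻¹]
    congr 1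
    apply Subtype.ext
    simp [mul_assoc]
  · rw [show (n : G) = ((⟨n, hNL n.2⟩ : L) : G) from rfl, hz, irrIdem_apply, hd1]
    have h1 : ρ.character (⟨n, hNL n.2⟩ : L)⁻¹ = (θ : N → ℂ) n⁻¹ := by
      have h := congrArg (LinearMap.trace ℂ _)
        (hρ ⟨(⟨n, hNL n.2⟩ : L)⁻¹, inv_mem (n.2 : (n : G) ∈ N)⟩)
      exact h.trans (hσval _)
    rw [h1]
    field_simp
  · have hkey := sum_coset_normSq ρ hρ ⟨u, hu⟩
    rw [hcardN'] at hkey
    rw [← e.toEquiv.sum_comp]
    have e1 : ∀ n : N', extendByZero L zL (u * ((e n : N) : G)) *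
        extendByZero L zL (u * ((e n : N) : G))⁻¹ = ((Nat.card L : ℂ)⁻¹ * d) ^ 2 *
          (ρ.character ((⟨u, hu⟩ : L) * n) * ρ.character ((⟨u, hu⟩ : L) * n)⁻¹) := fun n => by
      rw [show u * ((e n : N) : G) = (((⟨u, hu⟩ : L) * n : L) : G) from rfl, ← Subgroup.coe_inv,
        hz, hz, inv_inv]
      ring
    simp only [MulEquiv.toEquiv_eq_coe, MulEquiv.coe_toEquiv]
    rw [Finset.sum_congr rfl fun n _ => e1 n, ← Finset.mul_sum, hkey,
      show (1 : G) = ((1 : L) : G) from rfl, hz, inv_one,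
      show ρ.character 1 = d from rfl]
    field_simp

end Canonical

section Core

variable {G : Type u} [Group G] [Fintype G] {N L : Subgroup G} [hN : N.Normal] [hL : L.Normal]
  [Fintype N]

/-- Elements of a group as pairs of a coset representative and a member of the subgroup. -/
noncomputable def cosetEquiv (N : Subgroup G) : (G ⧸ N) × N ≃ G where
  toFun dn := dn.1.out * dn.2
  invFun a := ((a : G ⧸ N), ⟨((a : G ⧸ N)).out⁻¹ * a, by
    rw [← QuotientGroup.eq, QuotientGroup.out_eq']⟩)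
  left_inv dn := by
    have h : ((dn.1.out * dn.2 : G) : G ⧸ N) = dn.1 := by
      rw [QuotientGroup.mk_mul_of_mem _ dn.2.2, QuotientGroup.out_eq']
    refine Prod.ext h (Subtype.ext ?_)
    simp [h]
  right_inv a := by simp

/-- Right multiplication by an idempotent fixing a class function. -/
theorem sum_mul_extZ {F : G → ℂ} (hF : IsClassFunction G F) (e : N → ℂ)
    (he : gconv (extendByZero N e) F = F) (g : G) (n' : N) :
    ∑ n : N, F (g * n) * e (n⁻¹ * n') = F (g * n') := by
  conv_rhs => rw [← he, gconv_extZ]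
  refine Fintype.sum_equiv ((Equiv.inv N).trans (Equiv.mulRight n')) _ _ fun n => ?_
  simp only [Equiv.trans_apply, Equiv.inv_apply, Equiv.coe_mulRight, Subgroup.coe_mul,
    Subgroup.coe_inv]
  rw [mul_comm, ← hF (g * n) ((n' : G)⁻¹ * n)]
  congr 2
  group

/-- The support of an idempotent supported on regular elements centralizes `L/N`. -/
theorem commutator_mem_of_invariant {p k : ℕ} (hp : p.Prime) (hNL : N ≤ L)
    (hpN : ¬ p ∣ Nat.card N) (hidx : N.relIndex L = p ^ k) (θ : IrrCharacter N)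
    (hθ : ∀ (g : G) (n : N), (θ : N → ℂ) ⟨g * n * g⁻¹, hN.conj_mem n n.2 g⟩ = (θ : N → ℂ) n)
    (hreg : ∀ x y : G, ¬ p ∣ orderOf x → ¬ p ∣ orderOf y → x⁻¹ * y ∈ L →
      ∃ u ∈ L, (u * x * u⁻¹)⁻¹ * y ∈ N)
    {f : G → ℂ} (hf : IsIdem f) (hsupp : ∀ g, p ∣ orderOf g → f g = 0)
    (hfe : gconv (extendByZero N (irrIdem θ)) f = f) {g : G} (hg : f g ≠ 0) {u : G} (hu : u ∈ L) :
    g⁻¹ * (u * g * u⁻¹) ∈ N := by
  classical
  set e := irrIdem θ with he
  obtain ⟨z, c, hc0, hcconj, hz, hzL, hzN, hznorm⟩ := exists_extIdem hp hNL hpN hidx θ hθ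
  have hNreg : ∀ a ∈ L, ¬ p ∣ orderOf a → a ∈ N := by
    intro a ha hpa
    have h1 : a ^ p ^ k ∈ N := by
      have := (N.subgroupOf L).pow_index_mem (⟨a, ha⟩ : L)
      rw [show (N.subgroupOf L).index = p ^ k from hidx, Subgroup.mem_subgroupOf] at this
      exact this
    obtain ⟨m, hm⟩ := exists_pow_eq_self_of_coprime
      (((Nat.Prime.coprime_iff_not_dvd hp).mpr hpa).pow_left k)
    rw [← hm]
    exact pow_mem h1 m
  have heidem : IsIdem (extendByZero N e) := isIdem_extZ (isIdem_irrIdem θ) fun g n => by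
    simp only [he, irrIdem_apply]
    congr 2
    rw [← hθ g n⁻¹]
    refine congrArg (θ : N → ℂ) (Subtype.ext ?_)
    simp [mul_assoc]
  have hez : gconv (extendByZero N e) z = z := by
    rw [← gconv_comm heidem.1 z]
    refine hz.gconv_eq_left heidem ?_
    rw [gconv_comm heidem.1 z, gconv_extZ]
    have h1 : extendByZero N e 1 = gconv (extendByZero N e) (extendByZero N e) 1 := by
      rw [heidem.2]
    rw [gconv_extZ] at h1
    rw [show z 1 = c * extendByZero N e 1 by
      rw [show (1 : G) = ((1 : N) : G) from rfl, extZ_coe]; exact hzN 1, h1, Finset.mul_sum]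
    refine Finset.sum_congr rfl fun n _ => ?_
    rw [mul_one, ← Subgroup.coe_inv, hzN, extZ_coe]
    ring
  have hz1 : conj (z 1) = z 1 := by rw [← hz.apply_inv, inv_one]
  -- translation by an element of `L`
  have hshift : ∀ v ∈ L, ∀ y, z (v * y) = ∑ n : N, c⁻¹ * z (v * n) * z ((n : G)⁻¹ * y) := by
    intro v hv
    set a : N → ℂ := fun n => c⁻¹ * z (v * n) with ha
    set w : G → ℂ := fun y => ∑ n : N, a n * z ((n : G)⁻¹ * y) with hw
    have hzz : ∀ x x' : G, ∑ y, z (x * y) * z (y⁻¹ * x') = z (x * x') := by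
      intro x x'
      conv_rhs => rw [← hz.2]
      refine Fintype.sum_equiv (Equiv.mulLeft x) _ _ fun y => ?_
      simp [mul_assoc]
    have hconjw : ∀ y, conj (w y) = ∑ n : N, conj (a n) * z (y⁻¹ * n) := fun y => by
      simp only [hw, map_sum, map_mul]
      refine Finset.sum_congr rfl fun n _ => ?_
      rw [← hz.apply_inv, mul_inv_rev, inv_inv]
    have hconjz : ∀ y, conj (z (v * y)) = z (y⁻¹ * v⁻¹) := fun y => by
      rw [← hz.apply_inv, mul_inv_rev]
    have hA : ∑ y, z (v * y) * conj (z (v * y)) = z 1 := by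
      simp only [hconjz]
      rw [hzz v v⁻¹, mul_inv_cancel]
    have hB0 : ∑ n : N, conj (a n) * z (v * n) = z 1 := by
      have h := hznorm v hv
      simp only [ha, map_mul, map_inv₀, hcconj, ← hz.apply_inv]
      rw [show ∑ n : N, c⁻¹ * z (v * n)⁻¹ * z (v * n) =
        c⁻¹ * ∑ n : N, z (v * n) * z (v * (n : G))⁻¹ by
          rw [Finset.mul_sum]; exact Finset.sum_congr rfl fun n _ => by ring,
        h, ← mul_assoc, inv_mul_cancel₀ hc0, one_mul]
    have hB : ∑ y, z (v * y) * conj (w y) = z 1 := by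
      simp only [hconjw, Finset.mul_sum]
      rw [Finset.sum_comm, ← hB0]
      refine Finset.sum_congr rfl fun n _ => ?_
      rw [← hzz v n, Finset.mul_sum]
      exact Finset.sum_congr rfl fun y _ => by ring
    have hC : ∑ y, w y * conj (w y) = z 1 := by
      simp only [hconjw, Finset.mul_sum]
      rw [Finset.sum_comm, ← hB0]
      refine Finset.sum_congr rfl fun n' _ => ?_
      simp only [hw, Finset.sum_mul]
      rw [Finset.sum_comm]
      have h1 : ∀ n : N, ∑ y, a n * z ((n : G)⁻¹ * y) * (conj (a n') * z (y⁻¹ * n')) =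
          conj (a n') * (a n * (c * e (n⁻¹ * n'))) := fun n => by
        rw [← hzN, Subgroup.coe_mul, Subgroup.coe_inv, ← hzz, Finset.mul_sum, Finset.mul_sum]
        exact Finset.sum_congr rfl fun y _ => by ring
      rw [Finset.sum_congr rfl fun n _ => h1 n, ← Finset.mul_sum]
      congr 1
      rw [show ∑ n : N, a n * (c * e (n⁻¹ * n')) = ∑ n : N, z (v * n) * e (n⁻¹ * n') from
        Finset.sum_congr rfl fun n _ => by simp only [ha]; field_simp]
      exact sum_mul_extZ hz.1 e hez v n'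
    have hzero : ∑ y, (z (v * y) - w y) * conj (z (v * y) - w y) = 0 := by
      have e1 : ∀ y, (z (v * y) - w y) * conj (z (v * y) - w y) = z (v * y) * conj (z (v * y)) -
          z (v * y) * conj (w y) - conj (z (v * y) * conj (w y)) + w y * conj (w y) := fun y => by
        simp only [map_sub, map_mul, Complex.conj_conj]; ring
      rw [Finset.sum_congr rfl fun y _ => e1 y, Finset.sum_add_distrib, Finset.sum_sub_distrib,
        Finset.sum_sub_distrib, ← map_sum, hA, hB, hC, hz1]
      ring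
    intro y
    simp only [Complex.mul_conj, ← Complex.ofReal_sum, Complex.ofReal_eq_zero] at hzero
    exact sub_eq_zero.mp (Complex.normSq_eq_zero.mp
      ((Finset.sum_eq_zero_iff_of_nonneg fun y _ => Complex.normSq_nonneg _).mp hzero y
        (Finset.mem_univ y)))
  -- the part of `f * z` coming from one coset of `N`
  let h : G → G → ℂ := fun d x => ∑ n : N, f (d * n) * z ((d * (n : G))⁻¹ * x)
  have hconj : ∀ (d : G) (v : G), v ∈ L → ∀ x, h d (v⁻¹ * x * v) = h d x := by
    intro d v hv x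
    simp only [h]
    have e1 : ∀ n : N, z ((d * (n : G))⁻¹ * (v⁻¹ * x * v)) =
        ∑ m : N, c⁻¹ * z (v * m) * z ((m : G)⁻¹ * ((d * (n : G))⁻¹ * v⁻¹ * x)) := fun n => by
      rw [← hshift v hv, ← hz.1 ((d * (n : G))⁻¹ * (v⁻¹ * x * v)) v]
      congr 1
      group
    simp only [e1, Finset.mul_sum]
    rw [Finset.sum_comm]
    have e2 : ∀ m : N, ∑ n : N, f (d * n) * (c⁻¹ * z (v * m) *
          z ((m : G)⁻¹ * ((d * (n : G))⁻¹ * v⁻¹ * x))) =
        ∑ j : N, f (d * j) * (c⁻¹ * z (v * m) * z ((m : G)⁻¹ * (v⁻¹ * x * (d * (j : G))⁻¹))) := by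
      intro m
      refine Fintype.sum_equiv ((Equiv.mulRight m).trans (Equiv.mulLeft
        ⟨d⁻¹ * (m : G)⁻¹ * d, by simpa using hN.conj_mem (m : G)⁻¹ (inv_mem m.2) d⁻¹⟩)) _ _
        fun n => ?_
      simp only [Equiv.trans_apply, Equiv.coe_mulRight, Equiv.coe_mulLeft, Subgroup.coe_mul]
      rw [show d * (d⁻¹ * (m : G)⁻¹ * d * (n * m)) = (m : G)⁻¹ * (d * n) * ((m : G)⁻¹)⁻¹ by group,
        hf.1]
      congr 2
      rw [← hz.1 ((m : G)⁻¹ * ((d * (n : G))⁻¹ * v⁻¹ * x)) ((m : G)⁻¹ * (v⁻¹ * x))]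
      congr 1
      group
    rw [Finset.sum_congr rfl fun m _ => e2 m, Finset.sum_comm]
    refine Finset.sum_congr rfl fun j _ => ?_
    rw [← Finset.mul_sum, ← hshift v hv]
    congr 1
    rw [← hz.1 ((d * (j : G))⁻¹ * x) (d * (j : G))]
    congr 1
    group
  have hh0 : ∀ d x, h d x ≠ 0 → (d⁻¹ * x) ∈ L := by
    intro d x hx
    obtain ⟨n, -, hn⟩ := Finset.exists_ne_zero_of_sum_ne_zero hx
    have h1 : (d * (n : G))⁻¹ * x ∈ L := by
      by_contra hc
      exact hn (by rw [hzL _ hc, mul_zero])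
    have := mul_mem (hNL n.2) h1
    simpa [mul_assoc] using this
  have hnorm : ∀ d, ∑ x, h d x * conj (h d x) = c * ∑ n : N, f (d * n) * conj (f (d * n)) := by
    intro d
    have hzz : ∀ x x' : G, ∑ y, z (x * y) * z (y⁻¹ * x') = z (x * x') := by
      intro x x'
      conv_rhs => rw [← hz.2]
      refine Fintype.sum_equiv (Equiv.mulLeft x) _ _ fun y => ?_
      simp [mul_assoc]
    simp only [h, map_sum, map_mul, ← hz.apply_inv, Finset.mul_sum]
    rw [Finset.sum_comm]
    refine Finset.sum_congr rfl fun n' _ => ?_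
    simp only [Finset.sum_mul]
    rw [Finset.sum_comm]
    have e1 : ∀ n : N, ∑ x, f (d * n) * z ((d * (n : G))⁻¹ * x) *
        (conj (f (d * n')) * z (((d * (n' : G))⁻¹ * x))⁻¹) =
        conj (f (d * n')) * (c * (f (d * n) * e (n⁻¹ * n'))) := fun n => by
      rw [mul_left_comm c, ← hzN, show ((n⁻¹ * n' : N) : G) = (d * (n : G))⁻¹ * (d * n') by
        simp [mul_assoc], ← hzz, Finset.mul_sum, Finset.mul_sum]
      refine Finset.sum_congr rfl fun y _ => ?_
      rw [show ((d * (n' : G))⁻¹ * y)⁻¹ = y⁻¹ * (d * n') by group]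
      ring
    rw [Finset.sum_congr rfl fun n _ => e1 n, ← Finset.mul_sum, ← Finset.mul_sum,
      sum_mul_extZ hf.1 e hfe d n']
    ring
  -- squared norms on the cosets
  let S : G ⧸ N → ℝ := fun d => ∑ n : N, Complex.normSq (f (d.out * n))
  have hS : ∀ d, ((S d : ℝ) : ℂ) = ∑ n : N, f (d.out * n) * conj (f (d.out * n)) := fun d => by
    simp [S, Complex.mul_conj]
  have hS0 : ∀ d, 0 ≤ S d := fun d => Finset.sum_nonneg fun n _ => Complex.normSq_nonneg _
  have hSne : ∀ d x, h d.out x ≠ 0 → S d ≠ 0 := by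
    intro d x hx hS
    obtain ⟨n, -, hn⟩ := Finset.exists_ne_zero_of_sum_ne_zero hx
    refine hn ?_
    rw [Complex.normSq_eq_zero.mp ((Finset.sum_eq_zero_iff_of_nonneg fun n _ =>
      Complex.normSq_nonneg _).mp hS n (Finset.mem_univ n)), zero_mul]
  let R : G ⧸ N → G ⧸ N → Prop := fun d d' => S d ≠ 0 ∧ S d' ≠ 0 ∧ d.out⁻¹ * d'.out ∈ L
  have heq : ∀ d d', R d d' → ∀ x, h d'.out x = h d.out x := by
    rintro d d' ⟨h1, h2, h3⟩ x
    obtain ⟨n₁, -, hn₁⟩ := Finset.exists_ne_zero_of_sum_ne_zero h1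
    obtain ⟨n₂, -, hn₂⟩ := Finset.exists_ne_zero_of_sum_ne_zero h2
    obtain ⟨v, hv, hvN⟩ := hreg (d.out * n₁) (d'.out * n₂)
      (fun hd => hn₁ (by simp [hsupp _ hd])) (fun hd => hn₂ (by simp [hsupp _ hd])) (by
        have := mul_mem (mul_mem (hNL (inv_mem n₁.2)) h3) (hNL n₂.2)
        simpa [mul_assoc] using this)
    have h0 : (v * d.out * v⁻¹)⁻¹ * d'.out ∈ N := by
      have := mul_mem (mul_mem (hN.conj_mem _ n₁.2 v) hvN) (inv_mem n₂.2)
      simpa [mul_assoc] using this
    rw [← hconj d.out v hv x]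
    simp only [h]
    obtain ⟨m₀, hm₀, hd'⟩ : ∃ m₀ ∈ N, d'.out = v * d.out * v⁻¹ * m₀ :=
      ⟨_, h0, by group⟩
    refine Fintype.sum_equiv ((Equiv.mulLeft ⟨m₀, hm₀⟩).trans
      (MulAut.conjNormal v⁻¹ : MulAut N).toEquiv) _ _ fun n => ?_
    simp only [Equiv.trans_apply, Equiv.coe_mulLeft, MulEquiv.coe_toEquiv,
      MulEquiv.toEquiv_eq_coe, MulAut.conjNormal_apply, Subgroup.coe_mul, inv_inv]
    rw [hd', ← hf.1 (v * d.out * v⁻¹ * m₀ * n) v⁻¹,
      ← hz.1 ((v * d.out * v⁻¹ * m₀ * n)⁻¹ * x) v⁻¹]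
    congr 1 <;> (congr 1; group)
  have hinner : ∀ d d', ∑ x, h d.out x * conj (h d'.out x) = if R d d' then c * (S d : ℂ) else 0 := by
    intro d d'
    split_ifs with hR
    · rw [hS, ← hnorm]
      exact Finset.sum_congr rfl fun x _ => by rw [heq d d' hR]
    · refine Finset.sum_eq_zero fun x _ => ?_
      by_contra hne
      rw [mul_eq_zero, not_or, map_eq_zero] at hne
      refine hR ⟨hSne d x hne.1, hSne d' x hne.2, ?_⟩
      have := mul_mem (hh0 _ _ hne.1) (inv_mem (hh0 _ _ hne.2))
      simpa [mul_assoc] using this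
  -- compare the two norms
  have hT := hf.mul hz
  have hTx : ∀ x, gconv f z x = ∑ d : G ⧸ N, h d.out x := fun x => by
    show ∑ a, f a * z (a⁻¹ * x) = _
    rw [← (cosetEquiv N).sum_comp, Fintype.sum_prod_type]
    rfl
  have hT1 : gconv f z 1 = c * f 1 := by
    show ∑ a, f a * z (a⁻¹ * 1) = _
    simp only [mul_one]
    rw [← Finset.sum_filter_of_ne (p := (· ∈ N)) (s := Finset.univ) fun a _ ha => by
      by_contra hn
      rw [mul_ne_zero_iff] at ha
      refine hn (hNreg a ?_ fun hd => ha.1 (hsupp a hd))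
      by_contra hL'
      exact ha.2 (hzL _ fun hh => hL' (by simpa using inv_mem hh)),
      Finset.sum_subtype (p := (· ∈ N)) _ (by simp) fun a => f a * z a⁻¹]
    have := sum_mul_extZ hf.1 e hfe 1 1
    simp only [one_mul, mul_one, OneMemClass.coe_one] at this
    rw [← this, Finset.mul_sum]
    refine Finset.sum_congr rfl fun n _ => ?_
    rw [← Subgroup.coe_inv, hzN]
    ring
  have key : ∑ d, ∑ d', (if R d d' then S d else 0) = ∑ d, S d := by
    apply Complex.ofReal_injective
    refine mul_left_cancel₀ hc0 ?_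
    have l1 : c * ((∑ d, S d : ℝ) : ℂ) = c * f 1 := by
      congr 1
      rw [hf.apply_one, Complex.ofReal_inj, ← (cosetEquiv N).sum_comp, Fintype.sum_prod_type]
      rfl
    rw [l1, ← hT1, hT.apply_one]
    push_cast
    simp only [← Complex.mul_conj, hTx, map_sum, Finset.sum_mul_sum]
    simp only [Finset.mul_sum]
    conv_rhs => rw [Finset.sum_comm]
    refine Finset.sum_congr rfl fun d _ => ?_
    conv_rhs => rw [Finset.sum_comm]
    refine Finset.sum_congr rfl fun d' _ => ?_
    rw [hinner]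
    split_ifs <;> simp
  have hRrefl : ∀ d, (if R d d then S d else 0) = S d := fun d => by
    by_cases h0 : S d = 0
    · simp [h0]
    · rw [if_pos ⟨h0, h0, by simp⟩]
  have huniq : ∀ d d', R d d' → d = d' := by
    intro d d' hR
    by_contra hne
    have hle : ∀ i, S i ≤ ∑ j, (if R i j then S i else 0) := fun i => by
      refine (hRrefl i).symm.le.trans (Finset.single_le_sum (f := fun j => if R i j then S i else 0)
        (fun j _ => ?_) (Finset.mem_univ i))
      split_ifs <;> simp [hS0]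
    have hd : (∑ j, if R d j then S d else 0) = S d :=
      ((Finset.sum_eq_sum_iff_of_le fun i _ => hle i).mp key.symm d (Finset.mem_univ d)).symm
    rw [← Finset.add_sum_erase _ _ (Finset.mem_univ d), hRrefl] at hd
    have h3 : ∑ j ∈ Finset.univ.erase d, (if R d j then S d else 0) = 0 := by linarith
    have h2 := (Finset.sum_eq_zero_iff_of_nonneg fun j _ => by split_ifs <;> simp [hS0]).mp
      h3 d' (Finset.mem_erase.mpr ⟨fun e => hne e.symm, Finset.mem_univ d'⟩)
    rw [if_pos hR] at h2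
    exact hR.1 h2
  -- conclusion
  set g' := u * g * u⁻¹ with hg'
  have hgS : ∀ a, f a ≠ 0 → S (a : G ⧸ N) ≠ 0 := by
    intro a ha hS'
    have h1 := (Finset.sum_eq_zero_iff_of_nonneg fun n _ => Complex.normSq_nonneg _).mp hS'
      ((cosetEquiv N).symm a).2 (Finset.mem_univ _)
    have h2 := (cosetEquiv N).apply_symm_apply a
    refine ha ?_
    rw [← h2]
    exact Complex.normSq_eq_zero.mp h1
  have hLmem : ((g : G ⧸ N).out)⁻¹ * (g' : G ⧸ N).out ∈ L := by
    have h1 : ((g : G ⧸ N).out)⁻¹ * g ∈ N := by rw [← QuotientGroup.eq, QuotientGroup.out_eq']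
    have h2 : g'⁻¹ * (g' : G ⧸ N).out ∈ N := by rw [← QuotientGroup.eq, QuotientGroup.out_eq']
    have h3 : g⁻¹ * g' ∈ L := by
      rw [hg']
      simpa [mul_assoc] using mul_mem (hL.conj_mem u hu g⁻¹) (inv_mem hu)
    simpa [mul_assoc] using mul_mem (mul_mem (hNL h1) h3) (hNL h2)
  exact QuotientGroup.eq.mp (huniq _ _ ⟨hgS g hg, hgS g' (by rw [hg', hf.1]; exact hg), hLmem⟩)

end Core

section Main

/-- An idempotent class function of a `p`-solvable group supported on `p`-regular elements has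
local integral values. -/
theorem IsIdem.mem_locRing_of_isPSolvable {p : ℕ} {M : Ideal AlgInt} (hM : IsPModular p M)
    {G : Type u} [Group G] [Fintype G] (hG : Cfsg.IsPSolvable p G) {f : G → ℂ} (hf : IsIdem f)
    (hsupp : ∀ g, p ∣ orderOf g → f g = 0) (g : G) : f g ∈ locRing hM := by
  classical
  haveI : Fact p.Prime := ⟨hM.1⟩
  obtain ⟨m, hm⟩ : ∃ m, Nat.card G = m := ⟨_, rfl⟩
  induction m using Nat.strong_induction_on generalizing G with
  | _ m IH =>
  set N := Cfsg.pPrimeCore p G with hNdef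
  set π := QuotientGroup.mk' N with hπ
  set O := Cfsg.pCore p (G ⧸ N) with hO
  set L := O.comap π with hLdef
  haveI := Fintype.ofFinite N
  have hNc : (Nat.card N).Coprime p := Cfsg.Lib.Core.pPrimeCore_coprime p G
  have hpN : ¬ p ∣ Nat.card N := fun h =>
    hM.1.ne_one (Nat.dvd_one.mp (hNc ▸ Nat.dvd_gcd h dvd_rfl))
  have hNL : N ≤ L := fun n hn => by
    rw [hLdef, Subgroup.mem_comap, hπ, QuotientGroup.mk'_apply, (QuotientGroup.eq_one_iff n).2 hn]
    exact one_mem _
  obtain ⟨k, hk⟩ : ∃ k, N.relIndex L = p ^ k := by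
    obtain ⟨k, hk⟩ := IsPGroup.iff_card.mp (Cfsg.Lib.Core.pCore_isPGroup p (G ⧸ N))
    refine ⟨k, ?_⟩
    have h1 := Cfsg.Lib.Core.card_mul_relIndex hNL
    rw [hLdef, Cfsg.Lib.Core.card_comap_eq π (QuotientGroup.mk'_surjective N), hπ,
      QuotientGroup.ker_mk', hk] at h1
    exact Nat.eq_of_mul_eq_mul_left Nat.card_pos h1
  have hOp : IsPGroup p O := Cfsg.Lib.Core.pCore_isPGroup p (G ⧸ N)
  -- the elements of the `p`-part that are regular are trivial
  have hreg0 : ∀ X : G ⧸ N, ¬ p ∣ orderOf X → ∀ j : ℤ, X ^ j ∈ O → X ^ j = 1 := by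
    intro X hX j hj
    obtain ⟨i, hi⟩ := hOp ⟨X ^ j, hj⟩
    have hi' : (X ^ j) ^ p ^ i = 1 := congrArg Subtype.val hi
    refine orderOf_eq_one_iff.mp (Nat.eq_one_of_dvd_coprimes
      (((Nat.Prime.coprime_iff_not_dvd hM.1).mpr hX).pow_left i)
      (orderOf_dvd_of_pow_eq_one hi') ?_)
    exact orderOf_dvd_of_mem_zpowers (Subgroup.zpow_mem_zpowers X j)
  have hmapreg : ∀ x : G, ¬ p ∣ orderOf x → ¬ p ∣ orderOf (π x) := fun x hx h =>
    hx (h.trans (orderOf_map_dvd π x))
  have hreg : ∀ x y : G, ¬ p ∣ orderOf x → ¬ p ∣ orderOf y → x⁻¹ * y ∈ L →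
      ∃ u ∈ L, (u * x * u⁻¹)⁻¹ * y ∈ N := by
    intro x y hx hy hxy
    set X := π x with hX
    set Y := π y with hY
    have hXY : X⁻¹ * Y ∈ O := by rw [hX, hY, ← map_inv, ← map_mul]; exact hxy
    have hq : ((X : (G ⧸ N) ⧸ O)) = (Y : (G ⧸ N) ⧸ O) := QuotientGroup.eq.mpr hXY
    have hmem : ∀ j : ℤ, X ^ j ∈ O ↔ Y ^ j ∈ O := fun j => by
      rw [← QuotientGroup.eq_one_iff, ← QuotientGroup.eq_one_iff, QuotientGroup.mk_zpow,
        QuotientGroup.mk_zpow, hq]
    have hcard : Nat.card (Subgroup.zpowers Y) = Nat.card (Subgroup.zpowers X) := by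
      rw [Nat.card_zpowers, Nat.card_zpowers, orderOf_eq_orderOf_iff]
      intro j
      rw [← zpow_natCast, ← zpow_natCast]
      exact ⟨fun h => hreg0 X (hmapreg x hx) _ ((hmem _).2 (h ▸ one_mem O)),
        fun h => hreg0 Y (hmapreg y hy) _ ((hmem _).1 (h ▸ one_mem O))⟩
    have hXO : Subgroup.zpowers X ≤ Subgroup.normalizer (O : Set (G ⧸ N)) := by
      rw [Subgroup.normalizer_eq_top_iff.2 inferInstance]; exact le_top
    have hcop : (Nat.card (Subgroup.zpowers X)).Coprime (Nat.card O) := by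
      obtain ⟨i, hi⟩ := IsPGroup.iff_card.mp hOp
      rw [hi, Nat.card_zpowers]
      exact ((Nat.Prime.coprime_iff_not_dvd hM.1).mpr (hmapreg x hx)).symm.pow_right i
    haveI : Group.IsNilpotent O := hOp.isNilpotent
    have hsol : Group.IsSolvable O := inferInstance
    have hle : Subgroup.zpowers Y ≤ O ⊔ Subgroup.zpowers X := by
      rw [Subgroup.zpowers_le]
      have : X * (X⁻¹ * Y) ∈ O ⊔ Subgroup.zpowers X :=
        mul_mem (Subgroup.mem_sup_right (Subgroup.mem_zpowers X)) (Subgroup.mem_sup_left hXY)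
      simpa using this
    obtain ⟨n, hn, heq⟩ := Cfsg.Lib.Coprime.exists_conj_of_coprime_of_isSolvable_left O
      (Subgroup.zpowers X) (Subgroup.zpowers Y) hXO hcop hsol hle hcard
    have hYmem : Y ∈ (Subgroup.zpowers X).map (MulAut.conj n).toMonoidHom :=
      heq ▸ Subgroup.mem_zpowers Y
    obtain ⟨_, ⟨i, rfl⟩, hi⟩ := hYmem
    have hXi : X ^ (i - 1) = 1 := by
      refine hreg0 X (hmapreg x hx) _ ((QuotientGroup.eq_one_iff _).mp ?_)
      have h2 : ((n : G ⧸ N) : (G ⧸ N) ⧸ O) = 1 := (QuotientGroup.eq_one_iff _).mpr hn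
      have h3 := congrArg (fun w : G ⧸ N => (w : (G ⧸ N) ⧸ O)) hi
      simp only [MulEquiv.coe_toMonoidHom, MulAut.conj_apply, QuotientGroup.mk_mul,
        QuotientGroup.mk_inv, h2, one_mul, inv_one, mul_one, QuotientGroup.mk_zpow] at h3
      rw [zpow_sub_one, QuotientGroup.mk_mul, QuotientGroup.mk_inv, QuotientGroup.mk_zpow, h3,
        ← hq, mul_inv_cancel]
    have hYc : Y = n * X * n⁻¹ := by
      rw [zpow_sub_one, mul_inv_eq_one] at hXi
      rw [← hi]
      show n * X ^ i * n⁻¹ = n * X * n⁻¹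
      rw [hXi]
    obtain ⟨u, rfl⟩ := QuotientGroup.mk'_surjective N n
    refine ⟨u, hn, ?_⟩
    rw [← QuotientGroup.eq_one_iff]
    show π ((u * x * u⁻¹)⁻¹ * y) = 1
    rw [map_mul, map_inv, map_mul, map_mul, map_inv, ← hX, ← hY, hYc, inv_mul_cancel]
  -- split along the characters of `N`
  have hfsum : f g = ∑ θ : IrrCharacter N, gconv (extendByZero N (irrIdem θ)) f g := by
    simp only [gconv_extZ]
    rw [Finset.sum_comm]
    simp only [← Finset.sum_mul, sum_irrIdem, ite_mul, one_mul, zero_mul]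
    rw [Finset.sum_ite_eq' Finset.univ (1 : N) fun n => f ((n : G)⁻¹ * g),
      if_pos (Finset.mem_univ _)]
    simp
  rw [hfsum]
  refine sum_mem fun θ _ => ?_
  set e := extendByZero N (irrIdem θ) with he
  set F := gconv e f with hF
  have hee : gconv e e = e := by rw [he, gconv_extZ_extZ, (isIdem_irrIdem θ).2]
  have hFF : gconv F F = F := by
    rw [hF, gconv_assoc, ← gconv_assoc f e f, ← gconv_comm hf.1 e, gconv_assoc e f f, hf.2,
      ← gconv_assoc, hee]
  have hFe : gconv e F = F := by rw [hF, ← gconv_assoc, hee]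
  have hFsupp : ∀ x, p ∣ orderOf x → F x = 0 := by
    intro x hx
    rw [hF, he, gconv_extZ]
    refine Finset.sum_eq_zero fun n _ => ?_
    rw [hsupp _ ?_, mul_zero]
    by_contra hc
    have h1 : π x ^ orderOf ((n : G)⁻¹ * x) = 1 := by
      have h2 : π x = π ((n : G)⁻¹ * x) := by
        rw [map_mul, map_inv, show π n = 1 from (QuotientGroup.eq_one_iff (n : G)).mpr n.2,
          inv_one, one_mul]
      rw [h2, ← map_pow, pow_orderOf_eq_one, map_one]
    rw [← map_pow, hπ, QuotientGroup.mk'_apply, QuotientGroup.eq_one_iff] at h1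
    have h3 : x ^ (orderOf ((n : G)⁻¹ * x) * Nat.card N) = 1 := by
      rw [pow_mul]
      exact congrArg Subtype.val (pow_card_eq_one' (x := (⟨_, h1⟩ : N)))
    rcases (Nat.Prime.dvd_mul hM.1).mp (hx.trans (orderOf_dvd_of_pow_eq_one h3)) with h | h
    · exact hc h
    · exact hpN h
  have heinv : ∀ (x : G) (n : N), x ∈ Char.inertia N (θ : N → ℂ) →
      irrIdem θ ⟨x * n * x⁻¹, (inferInstance : N.Normal).conj_mem n n.2 x⟩ = irrIdem θ n := by
    intro x n hx
    rw [irrIdem_apply, irrIdem_apply]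
    congr 2
    rw [← (Char.mem_inertia_iff N).mp hx n⁻¹]
    refine congrArg (θ : N → ℂ) (Subtype.ext ?_)
    simp [mul_assoc]
  by_cases hI : Char.inertia N (θ : N → ℂ) = ⊤
  · have heid : IsIdem e := isIdem_extZ (isIdem_irrIdem θ) fun x n =>
      heinv x n (hI ▸ Subgroup.mem_top x)
    have hFid : IsIdem F := heid.mul hf
    have hθ : ∀ (x : G) (n : N), (θ : N → ℂ) ⟨x * n * x⁻¹, (inferInstance : N.Normal).conj_mem n n.2 x⟩ =
        (θ : N → ℂ) n := fun x n => (Char.mem_inertia_iff N).mp (hI ▸ Subgroup.mem_top x) n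
    have hcomm := fun (y : G) (hy : F y ≠ 0) (u : G) (hu : u ∈ L) =>
      commutator_mem_of_invariant hM.1 hNL hpN hk θ hθ hreg hFid hFsupp hFe hy hu
    have hin : ∀ y, F y ≠ 0 → y ∈ N := by
      intro y hy
      have hC : π y ∈ Subgroup.centralizer (O : Set (G ⧸ N)) := by
        rw [Subgroup.mem_centralizer_iff]
        intro w hw
        obtain ⟨u, rfl⟩ := QuotientGroup.mk'_surjective N w
        have h1 := hcomm y hy u hw
        rw [← QuotientGroup.eq_one_iff] at h1
        have h2 : (π y)⁻¹ * (π u * π y * (π u)⁻¹) = 1 := by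
          rw [← map_inv, ← map_inv, ← map_mul, ← map_mul, ← map_mul]; exact h1
        rw [inv_mul_eq_one, eq_mul_inv_iff_mul_eq] at h2
        exact h2.symm
      have hCO := Cfsg.Lib.Core.centralizer_pCore_le_of_isPSolvable
        (Cfsg.Lib.Core.isPSolvable_quotient hG N) Cfsg.Lib.Core.pPrimeCore_quotient_eq_bot hC
      have h1 := hreg0 (π y) (hmapreg y fun hd => hy (hFsupp y hd)) 1 (by rwa [zpow_one])
      rw [zpow_one] at h1
      exact (QuotientGroup.eq_one_iff y).mp h1
    have hres : F = extendByZero N (fun n : N => F n) := by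
      funext y
      by_cases hy : y ∈ N
      · rw [extZ_of_mem _ hy]
      · rw [extZ_of_notMem _ hy]
        by_contra h
        exact hy (hin y h)
    by_cases hgN : g ∈ N
    · have hidN : IsIdem (fun n : N => F n) := by
        refine ⟨fun n x => hFid.1 (n : G) (x : G), funext fun n => ?_⟩
        have := congrFun hFid.2 (n : G)
        rw [hres, gconv_extZ_extZ, extZ_coe, extZ_coe] at this
        exact this
      exact hidN.mem_locRing_of_not_dvd hM hpN ⟨g, hgN⟩
    · rw [show F g = 0 by by_contra h; exact hgN (hin g h)]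
      exact zero_mem _
  · set H := Char.inertia N (θ : N → ℂ) with hH
    haveI := Fintype.ofFinite H
    have hzero : ∀ x, x ∉ H → F x = 0 := by
      intro x hx
      have hFr : gconv F e = F := by
        rw [hF, gconv_assoc, ← gconv_comm hf.1 e, ← gconv_assoc, hee]
      have h1 : F x = ∑ m : N, irrIdem θ m * F (x * (m : G)⁻¹) := by
        conv_lhs => rw [← hFr]
        show ∑ a, F a * e (a⁻¹ * x) = _
        rw [he, ← sum_extZ_mul (irrIdem θ) fun b => F (x * b⁻¹)]
        refine Fintype.sum_equiv ((Equiv.inv G).trans (Equiv.mulRight x)) _ _ fun a => ?_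
        simp [mul_comm]
      let θ' : IrrCharacter N := twistIrr N x⁻¹ θ
      have hne : θ' ≠ θ := fun h => hx (by
        have h2 : x⁻¹ ∈ H := by
          rw [hH, Char.mem_inertia, ← coe_twistIrr]
          exact congrArg Subtype.val h
        simpa using inv_mem h2)
      let cx : N ≃* N := MulAut.conjNormal x⁻¹
      have he' : ∀ j : N, irrIdem θ (cx j) = irrIdem θ' j := fun j => by
        rw [irrIdem_apply, irrIdem_apply]
        congr 2
        · exact (Char.conjTwist_apply_one N (θ : N → ℂ) x⁻¹).symm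
        · rw [← map_inv]
          exact congrArg (θ : N → ℂ) (Subtype.ext rfl)
      rw [h1]
      calc ∑ m : N, irrIdem θ m * F (x * (m : G)⁻¹)
          = ∑ m : N, ∑ n : N, irrIdem θ m * (irrIdem θ n * f ((n : G)⁻¹ * (x * (m : G)⁻¹))) := by
            refine Finset.sum_congr rfl fun m _ => ?_
            rw [hF, he, gconv_extZ, Finset.mul_sum]
        _ = ∑ j : N, ∑ n : N, irrIdem θ' j * irrIdem θ n * f (((j * n : N) : G)⁻¹ * x) := by
            refine Fintype.sum_equiv cx.symm.toEquiv _ _ fun m => ?_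
            refine Finset.sum_congr rfl fun n _ => ?_
            simp only [MulEquiv.toEquiv_eq_coe, MulEquiv.coe_toEquiv]
            rw [← he', MulEquiv.apply_symm_apply]
            have hc : ((cx.symm m : N) : G) = x * m * x⁻¹ := by simp [cx]
            rw [Subgroup.coe_mul, hc, mul_assoc]
            congr 3
            group
        _ = ∑ k : N, gconv (irrIdem θ') (irrIdem θ) k * f ((k : G)⁻¹ * x) := by
            simp only [gconv, Finset.sum_mul]
            conv_rhs => rw [Finset.sum_comm]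
            refine Finset.sum_congr rfl fun j _ => ?_
            refine Fintype.sum_equiv (Equiv.mulLeft j) _ _ fun n => ?_
            simp
        _ = 0 := by simp [gconv_irrIdem_ne hne]
    have hcard : Nat.card H < m := by
      rw [← hm, ← Subgroup.index_mul_card H]
      have h2 : 1 < H.index := Subgroup.one_lt_index_of_ne_top hI
      calc Nat.card H = 1 * Nat.card H := (one_mul _).symm
        _ < H.index * Nat.card H := Nat.mul_lt_mul_of_pos_right h2 Nat.card_pos
    have hidH : IsIdem (fun h : H => F h) := by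
      refine ⟨fun y h => ?_, funext fun y => ?_⟩
      · show F ((h : G) * y * (h : G)⁻¹) = F y
        rw [hF, he, gconv_extZ, gconv_extZ]
        refine Fintype.sum_equiv (MulAut.conjNormal (h : G)⁻¹ : MulAut N).toEquiv _ _ fun n => ?_
        simp only [MulEquiv.toEquiv_eq_coe, MulEquiv.coe_toEquiv]
        congr 1
        · rw [← heinv (h : G)⁻¹ n (inv_mem h.2)]
          exact congrArg (irrIdem θ) (Subtype.ext (by simp))
        · rw [← hf.1 ((n : G)⁻¹ * ((h : G) * y * (h : G)⁻¹)) (h : G)⁻¹]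
          simp [mul_assoc]
      · have hext : F = extendByZero H (fun h : H => F h) := by
          funext x
          by_cases hx : x ∈ H
          · rw [extZ_of_mem _ hx]
          · rw [extZ_of_notMem _ hx, hzero x hx]
        have := congrFun hFF (y : G)
        rw [hext, gconv_extZ_extZ, extZ_coe, extZ_coe] at this
        exact this
    by_cases hgH : g ∈ H
    · exact IH _ hcard (Cfsg.Lib.Core.isPSolvable_subgroup hG H) hidH
        (fun y hy => hFsupp y (by rwa [Subgroup.orderOf_coe])) ⟨g, hgH⟩ rfl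
    · rw [hzero g hgH]
      exact zero_mem _

end Main

end Cfsg.Lib.Block
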