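import Cfsg.Agent.Lib.Block.RootValuesCore
import Cfsg.Agent.S1012
import Mathlib.Algebra.Group.Pointwise.Set.Card

/-!
# The case of a non-Sylow normal `2`-subgroup

If the normal `p`-subgroup is not a Sylow subgroup, then `p = 2`, it has order four and the group is
the symmetric group of degree four times its centre.
-/

set_option autoImplicit false
set_option linter.unusedSectionVars false
set_option linter.style.haveILetI false

namespace Cfsg.Lib.Block.RootValues

open Cfsg
open scoped Pointwise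

universe u

noncomputable local instance (priority := high) fintypeSubgroupRootValuesFour {A : Type u}
    [Group A] [Fintype A] (H : Subgroup A) : Fintype H := Fintype.ofFinite H

variable {p : ℕ} [hp : Fact p.Prime] {G : Type u} [Group G] [Fintype G] (χ : IrrCharacter G)
  (hfaith : ∀ g : G, (χ : G → ℂ) g = (χ : G → ℂ) 1 → g = 1)
  (hnl : charDegree (χ : G → ℂ) ≠ 1)
  (hnorm : ∀ g : G, p ∣ orderOf g → ‖(χ : G → ℂ) g‖ = 1)
  (P : Subgroup G) [hPn : P.Normal] (hPp : IsPGroup p P) (hPb : P ≠ ⊥)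

include hfaith hnl hnorm hPp hPb

/-- The centralizer is the product with the centre. -/
theorem centralizer_eq (hmax : ∀ N : Subgroup G, N.Normal → IsPGroup p N → N ≤ P) :
    Subgroup.centralizer (P : Set G) = P ⊔ Subgroup.center G := by
  classical
  set C := Subgroup.centralizer (P : Set G) with hC
  have hcomm := comm_of_normal χ hfaith hnorm P hPp hPb
  refine le_antisymm ?_ (sup_le (fun x hx => ?_) (Subgroup.center_le_centralizer _))
  swap
  · exact fun y hy => congrArg Subtype.val (hcomm ⟨y, hy⟩ ⟨x, hx⟩)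
  haveI : C.Normal := by rw [hC]; infer_instance
  set Z' := (Subgroup.center G).subgroupOf C with hZ'
  haveI : Z'.Normal := Subgroup.Normal.subgroupOf inferInstance C
  have hq : IsPGroup p (C ⧸ Z') := by
    intro c
    obtain ⟨c, rfl⟩ := QuotientGroup.mk_surjective c
    obtain ⟨k, hk⟩ := exists_orderOf_pPt (p := p) (c : G)
    refine ⟨k, ?_⟩
    rw [← QuotientGroup.mk_pow, QuotientGroup.eq_one_iff, hZ', Subgroup.mem_subgroupOf,
      SubmonoidClass.coe_pow, ← pPt_mul_pReg (p := p) (c : G), (pPt_commute_pReg _).mul_pow, ← hk,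
      pow_orderOf_eq_one, one_mul]
    refine Subgroup.pow_mem _ (mem_center_of_regular χ hfaith hnl hnorm P hPp hPb ?_
      (not_dvd_orderOf_pReg _)) _
    exact Subgroup.zpowers_le.2 c.2 (pReg_mem_zpowers _)
  let S : Sylow p C := Classical.arbitrary _
  obtain ⟨a, ha⟩ := hq.exists_card_eq
  have htop : (S : Subgroup C) ⊔ Z' = ⊤ := by
    rw [← Subgroup.index_eq_one]
    have h1 : ((S : Subgroup C) ⊔ Z').index ∣ (S : Subgroup C).index :=
      Subgroup.index_dvd_of_le le_sup_left
    have h2 : ((S : Subgroup C) ⊔ Z').index ∣ Z'.index := Subgroup.index_dvd_of_le le_sup_right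
    rw [Subgroup.index_eq_card Z', ha] at h2
    refine Nat.eq_one_of_dvd_coprimes ?_ h1 h2
    exact (Nat.Coprime.pow_right _ (hp.out.coprime_iff_not_dvd.2 S.not_dvd_index).symm)
  haveI hSn : (S : Subgroup C).Normal := by
    refine ⟨fun s hs g => ?_⟩
    have hg : g ∈ ((S : Subgroup C) ⊔ Z') := htop ▸ Subgroup.mem_top g
    obtain ⟨u, hu, z, hz, rfl⟩ := Subgroup.mem_sup_of_normal_right.1 hg
    have hzc : z * s * z⁻¹ = s := by
      rw [mul_inv_eq_iff_eq_mul]
      refine Subtype.ext ?_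
      exact (Subgroup.mem_center_iff.1 (Subgroup.mem_subgroupOf.1 hz) (s : G)).symm
    have e : u * z * s * (u * z)⁻¹ = u * (z * s * z⁻¹) * u⁻¹ := by group
    rw [e, hzc]
    exact mul_mem (mul_mem hu hs) (inv_mem hu)
  haveI := S.characteristic_of_normal hSn
  have hmap : (S : Subgroup C).map C.subtype ≤ P :=
    hmax _ inferInstance (S.isPGroup'.map _)
  intro c hc
  have hcZ : (⟨c, hc⟩ : C) ∈ (S : Subgroup C) ⊔ Z' := htop ▸ Subgroup.mem_top _
  obtain ⟨u, hu, z, hz, huz⟩ := Subgroup.mem_sup_of_normal_right.1 hcZ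
  have h : (u : G) * (z : G) = c := congrArg Subtype.val huz
  rw [← h]
  exact Subgroup.mul_mem_sup (hmap ⟨u, hu, rfl⟩) (Subgroup.mem_subgroupOf.1 hz)

/-- Either the subgroup is a Sylow subgroup, or it has order four and index two in one. -/
theorem sylow_cases :
    (Nat.card P).factorization p = (Nat.card G).factorization p ∨
      p = 2 ∧ Nat.card P = 4 ∧ ∃ y : G, y ∉ P ∧ y ^ 2 ∈ P ∧ IsPGroup p (Subgroup.zpowers y) := by
  classical
  obtain ⟨S, hS⟩ := hPp.exists_le_sylow
  obtain ⟨hn, hmult, -, -⟩ := restriction χ hfaith hnl hnorm P hPp hPb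
  obtain ⟨N, hN, hN'⟩ := norm_equation χ hnorm S.isPGroup'
  have hcomm := comm_of_normal χ hfaith hnorm P hPp hPb
  have hexp := pow_prime χ hfaith hnl hnorm P hPp hPb
  obtain ⟨d, hd⟩ := hPp.exists_card_eq
  obtain ⟨s, hs⟩ := S.isPGroup'.exists_card_eq
  have hpos := degree_pos χ hfaith hnl hnorm P hPp hPb
  have hScard : Nat.card (S : Subgroup G) = p ^ (Nat.card G).factorization p :=
    S.card_eq_multiplicity
  have hds : d ≤ s := by
    have := Subgroup.card_dvd_of_le hS
    rw [hd, hs] at this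
    exact (Nat.pow_dvd_pow_iff_le_right hp.out.one_lt).1 this
  obtain ⟨i, rfl⟩ := Nat.exists_eq_add_of_le hds
  rcases Nat.eq_zero_or_pos i with rfl | hi
  · left
    rw [add_zero] at hs
    rw [hd, ← hs, hScard]
    simp [hp.out]
  right
  obtain ⟨m, hm⟩ : ∃ m, N = m + 1 := ⟨N - 1, by
    rcases Nat.eq_zero_or_pos N with rfl | h
    · rw [mul_zero, zero_add] at hN'
      have := Nat.card_pos (α := (S : Subgroup G))
      nlinarith
    · omega⟩
  obtain ⟨r, hr⟩ : ∃ r, Nat.card P = r + 3 := ⟨Nat.card P - 3, by omega⟩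
  have hn2 : charDegree (χ : G → ℂ) = r + 2 := by omega
  have key : p ^ i * m = r + 1 := by
    rw [hm, hn2, hs, pow_add, ← hd, hr] at hN'
    nlinarith
  have hd0 : d ≠ 0 := fun h => by rw [h, pow_zero] at hd; omega
  have hp2 : p = 2 := by
    have h1 : p ∣ r + 1 := key ▸ (dvd_pow_self p hi.ne').mul_right m
    have h2 : p ∣ r + 3 := hr ▸ hd ▸ dvd_pow_self p hd0
    have h3 : p ∣ 2 := (Nat.dvd_add_right h1).1 (show p ∣ r + 1 + 2 by exact h2)
    exact (Nat.prime_dvd_prime_iff_eq hp.out Nat.prime_two).1 h3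
  subst hp2
  have hd2 : 2 ≤ d := by
    by_contra h
    have : d = 1 := by omega
    rw [this, pow_one] at hd
    omega
  have h4 : 4 ∣ r + 3 := hr ▸ hd ▸ pow_dvd_pow 2 hd2
  have hi1 : i = 1 := by
    by_contra h
    have h5 : 4 ∣ r + 1 := key ▸ (pow_dvd_pow 2 (show 2 ≤ i by omega)).mul_right m
    omega
  subst hi1
  have h2N : 2 * N = Nat.card P := by omega
  have hidx : (P.subgroupOf (S : Subgroup G)).index = 2 := by
    have h := (P.subgroupOf (S : Subgroup G)).card_mul_index
    rw [Nat.card_congr (Subgroup.subgroupOfEquivOfLe hS).toEquiv, hd, hs, pow_add, pow_one] at h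
    exact Nat.eq_of_mul_eq_mul_left (pow_pos two_pos d) h
  set Q := P.subgroupOf (S : Subgroup G) with hQ
  haveI : Q.Normal := Subgroup.Normal.subgroupOf hPn _
  obtain ⟨y, hy⟩ : ∃ y : (S : Subgroup G), y ∉ Q := by
    by_contra h
    push Not at h
    rw [Subgroup.eq_top_iff' Q |>.2 h, Subgroup.index_top] at hidx
    omega
  have hy2 : y ^ 2 ∈ Q := by
    rw [pow_two, Subgroup.mul_mem_iff_of_index_two hidx]
  refine ⟨rfl, ?_, y, fun h => hy (Subgroup.mem_subgroupOf.2 h), ?_,
    S.isPGroup'.to_le (Subgroup.zpowers_le.2 y.2)⟩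
  swap
  · simpa [hQ, Subgroup.mem_subgroupOf] using hy2
  let e : Q ≃* P := Subgroup.subgroupOfEquivOfLe hS
  have hQc : ∀ a b : Q, a * b = b * a := fun a b => e.injective (by
    rw [map_mul, map_mul, hcomm])
  have hQexp : ∀ a : Q, a ^ 2 = 1 := fun a => e.injective (by rw [map_pow, hexp, map_one])
  let triv : IrrCharacter Q := ⟨_, Char.isIrrCharacter_one⟩
  set F : Finset (IrrCharacter Q) := Finset.univ.erase triv with hF
  have hFm : ∀ φ ∈ F, classInner (fun x : Q => (χ : G → ℂ) ((x : (S : Subgroup G)) : G))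
      (φ : Q → ℂ) ≠ 0 := by
    intro φ hφ
    let φ' : IrrCharacter P := ⟨_, Char.isIrrCharacter_comp_equiv e.symm φ.2⟩
    have hne : (φ' : P → ℂ) ≠ fun _ => 1 := fun h => (Finset.mem_erase.1 hφ).1 (Subtype.ext
      (funext fun a => by
        have := congrFun h (e a)
        rwa [show (φ' : P → ℂ) (e a) = (φ : Q → ℂ) (e.symm (e a)) from rfl,
          e.symm_apply_apply] at this))
    have h := Char.classInner_comp_equiv e (fun x : P => (χ : G → ℂ) x) (φ' : P → ℂ)
    rw [hmult φ' hne] at h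
    have e2 : (fun a => (φ' : P → ℂ) (e a)) = (φ : Q → ℂ) := funext fun a => by
      show (φ : Q → ℂ) (e.symm (e a)) = _
      rw [e.symm_apply_apply]
    rw [e2] at h
    intro h0
    exact one_ne_zero (h.symm.trans h0)
  have hcount := card_add_fixed_le (ψ := fun x : (S : Subgroup G) => (χ : G → ℂ) x)
    (χ.2.isCharacter.comp (S : Subgroup G).subtype) hN Q hidx F hFm
  let cy : Q ≃* Q := MulAut.conjNormal y
  let Φ : (Q →* ℂˣ) →* (Q →* ℂˣ) :=
    MonoidHom.mk' (fun f => f * f.comp cy.toMonoidHom) fun f g => by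
      ext a
      simp [mul_mul_mul_comm]
  have hcy : ∀ a : Q, cy (cy a) = a := fun a => by
    refine Subtype.ext ?_
    simp only [cy, MulAut.conjNormal_apply]
    have h := congrArg Subtype.val (hQc ⟨y ^ 2, hy2⟩ a)
    simp only [Subgroup.coe_mul, pow_two] at h
    calc y * (y * (a : (S : Subgroup G)) * y⁻¹) * y⁻¹
        = (y * y * a) * y⁻¹ * y⁻¹ := by group
      _ = (a * (y * y)) * y⁻¹ * y⁻¹ := by rw [h]
      _ = a := by group
  have hsq : ∀ (f : Q →* ℂˣ) (a : Q), f a * f a = 1 := fun f a => by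
    rw [← map_mul, ← pow_two, hQexp, map_one]
  have hrange : Φ.range ≤ Φ.ker := by
    rintro _ ⟨f, rfl⟩
    refine MonoidHom.mem_ker.2 (MonoidHom.ext fun a => ?_)
    show f a * f (cy a) * (f (cy a) * f (cy (cy a))) = 1
    rw [hcy]
    calc f a * f (cy a) * (f (cy a) * f a) = f a * (f (cy a) * f (cy a)) * f a := by group
      _ = 1 := by rw [hsq, mul_one, hsq]
  haveI : Finite (Q →* ℂˣ) := Nat.finite_of_card_ne_zero
    (by rw [card_hom_of_comm hQc]; exact Nat.card_pos.ne')
  have hqw : Nat.card P ≤ Nat.card Φ.ker ^ 2 := by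
    rw [← Nat.card_congr e.toEquiv, ← card_hom_of_comm hQc, ← Φ.ker.card_mul_index,
      Subgroup.index_ker, pow_two]
    exact Nat.mul_le_mul_left _ (Subgroup.card_le_of_le hrange)
  have hfix : Nat.card {f : Φ.ker // f ≠ 1} ≤ Nat.card {φ : IrrCharacter Q // φ ∈ F ∧
      ∀ g, Char.conjTwist Q (φ : Q → ℂ) g = φ} := by
    refine Nat.card_le_card_of_injective (fun f => ⟨⟨_, Char.isIrrCharacter_linear f.1.1⟩, ?_, ?_⟩)
      fun f g h => ?_
    · refine Finset.mem_erase.2 ⟨fun h => f.2 (Subtype.ext (MonoidHom.ext fun a =>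
        Units.ext ?_)), Finset.mem_univ _⟩
      exact congrFun (congrArg Subtype.val h) a
    · intro g
      have hcyf : ∀ a, f.1.1 (cy a) = f.1.1 a := fun a => by
        have h := DFunLike.congr_fun (MonoidHom.mem_ker.1 f.1.2) a
        change f.1.1 a * f.1.1 (cy a) = 1 at h
        calc f.1.1 (cy a) = f.1.1 a * f.1.1 a * f.1.1 (cy a) := by rw [hsq, one_mul]
          _ = f.1.1 a := by rw [mul_assoc, h, mul_one]
      have hin : ∀ (b : (S : Subgroup G)), b ∈ Q → ∀ a : Q,
          f.1.1 (MulAut.conjNormal b a) = f.1.1 a := fun b hb a => by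
        have : MulAut.conjNormal b a = (⟨b, hb⟩ : Q) * a * (⟨b, hb⟩ : Q)⁻¹ :=
          Subtype.ext (by simp [MulAut.conjNormal_apply])
        rw [this, map_mul, map_mul, map_inv]
        exact mul_inv_cancel_comm _ _
      funext a
      show ((f.1.1 (MulAut.conjNormal g a) : ℂˣ) : ℂ) = (f.1.1 a : ℂ)
      congr 1
      by_cases hg : g ∈ Q
      · exact hin g hg a
      · have hgy : g * y⁻¹ ∈ Q := by
          rw [Subgroup.mul_mem_iff_of_index_two hidx]
          exact ⟨fun h => absurd h hg, fun h => absurd (by simpa using h) hy⟩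
        have e3 : MulAut.conjNormal g a = MulAut.conjNormal (g * y⁻¹) (cy a) := by
          rw [← MulAut.mul_apply, ← map_mul, inv_mul_cancel_right]
        rw [e3, hin _ hgy, hcyf]
    · refine Subtype.ext (Subtype.ext (MonoidHom.ext fun a => Units.ext ?_))
      exact congrFun (congrArg (fun x => x.1.1) h) a
  have hker : Nat.card {f : Φ.ker // f ≠ 1} = Nat.card Φ.ker - 1 := by
    haveI := Fintype.ofFinite Φ.ker
    rw [Nat.card_eq_fintype_card, Fintype.card_subtype_compl, Fintype.card_subtype_eq,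
      Nat.card_eq_fintype_card]
  have hFcard : F.card = Nat.card P - 1 := by
    rw [hF, Finset.card_erase_of_mem (Finset.mem_univ _), Finset.card_univ,
      ← Nat.card_eq_fintype_card, card_irr_of_comm hQc, Nat.card_congr e.toEquiv]
  have hw : Nat.card Φ.ker ≤ 2 := by omega
  have h5 : Nat.card P ≤ 4 := hqw.trans (Nat.pow_le_pow_left hw 2)
  omega

theorem two_case (hmax : ∀ N : Subgroup G, N.Normal → IsPGroup p N → N ≤ P) (hp2 : p = 2)
    (hcard : Nat.card P = 4) {y : G} (hy : y ∉ P) (hy2 : y ^ 2 ∈ P)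
    (hyp : IsPGroup p (Subgroup.zpowers y)) :
    Odd (Nat.card (Subgroup.center G)) ∧
      ∃ H : Subgroup G, Nonempty (↥H ≃* Equiv.Perm (Fin 4)) ∧ H ⊓ Subgroup.center G = ⊥ ∧
        H ⊔ Subgroup.center G = ⊤ := by
  classical
  subst hp2
  set Z := Subgroup.center G with hZ
  have hodd : Odd (Nat.card Z) := Nat.not_even_iff_odd.1 fun h =>
    not_dvd_center χ hfaith hnl hnorm P hPp hPb h.two_dvd
  refine ⟨hodd, ?_⟩
  set C := Subgroup.centralizer (P : Set G) with hC
  have hCeq := centralizer_eq χ hfaith hnl hnorm P hPp hPb hmax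
  have hPZ := inf_center χ hfaith hnl hnorm P hPp hPb
  have hexp := pow_prime χ hfaith hnl hnorm P hPp hPb
  obtain ⟨-, -, -, θ, -, hθ⟩ := restriction χ hfaith hnl hnorm P hPp hPb
  have hPC : P ≤ C := by
    rw [hC, hCeq]
    exact le_sup_left
  -- `p`-elements of the centralizer lie in `P`
  have hCp : ∀ c ∈ C, (∃ k, orderOf c = 2 ^ k) → c ∈ P := by
    intro c hc hk
    rw [hC, hCeq] at hc
    obtain ⟨u, hu, z, hz, rfl⟩ := Subgroup.mem_sup_of_normal_right.1 hc
    obtain ⟨k, hk⟩ := hk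
    have hcm : Commute u z := Subgroup.mem_center_iff.1 hz u
    have h1 : (u * z) ^ (2 ^ (k + 1)) = 1 := by
      rw [pow_succ, pow_mul, ← hk, pow_orderOf_eq_one, one_pow]
    have hu2 : u ^ (2 ^ (k + 1)) = 1 := by
      rw [pow_succ', pow_mul, show u ^ 2 = 1 from congrArg Subtype.val (hexp ⟨u, hu⟩), one_pow]
    rw [hcm.mul_pow, hu2, one_mul] at h1
    have h2 : z ^ Nat.card Z = 1 := congrArg Subtype.val (pow_card_eq_one' (x := (⟨z, hz⟩ : Z)))
    have hco : Nat.gcd (2 ^ (k + 1)) (Nat.card Z) = 1 :=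
      Nat.Coprime.pow_left _ (Nat.coprime_two_left.2 hodd)
    have h3 := pow_gcd_eq_one.2 ⟨h1, h2⟩
    rw [hco, pow_one] at h3
    rw [h3, mul_one]
    exact hu
  have hyC : y ∉ C := fun h => hy (hCp y h (by
    obtain ⟨k, hk⟩ := IsPGroup.iff_orderOf.1 hyp ⟨y, Subgroup.mem_zpowers y⟩
    exact ⟨k, by rw [← hk, Subgroup.orderOf_mk]⟩))
  -- the action on the involutions of `P`
  haveI : Fintype {x : P // x ≠ 1} := Fintype.ofFinite _
  have hPts : Fintype.card {x : P // x ≠ 1} = 3 := by
    rw [Fintype.card_subtype_compl, Fintype.card_subtype_eq, ← Nat.card_eq_fintype_card, hcard]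
  let ep : {x : P // x ≠ 1} ≃ Fin 3 := Fintype.equivFinOfCardEq hPts
  let κ : G →* Equiv.Perm (Fin 3) := ep.permCongrHom.toMonoidHom.comp (MonoidHom.mk'
    (fun g => ((MulAut.conjNormal g : MulAut P).toEquiv).subtypeEquiv fun x => by simp)
    fun a b => by
      refine Equiv.ext fun x => Subtype.ext (Subtype.ext ?_)
      simp [mul_assoc])
  have hκ : ∀ g, κ g = 1 ↔ g ∈ C := fun g => by
    constructor
    · intro h x hx
      by_cases h1 : x = 1
      · simp [h1]
      have h2 := Equiv.congr_fun h (ep ⟨⟨x, hx⟩, fun e => h1 (congrArg Subtype.val e)⟩)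
      simp [κ, Equiv.permCongrHom] at h2
      have h3 := congrArg Subtype.val h2
      simp [MulAut.conjNormal_apply] at h3
      calc x * g = g * x * g⁻¹ * g := by rw [h3]
        _ = g * x := by group
    · intro h
      refine Equiv.ext fun i => ?_
      simp only [κ, MonoidHom.comp_apply, MulEquiv.coe_toMonoidHom, Equiv.permCongrHom,
        Equiv.Perm.one_apply, MonoidHom.mk'_apply, MulEquiv.coe_mk, Equiv.permCongr_apply]
      rw [← Equiv.eq_symm_apply]
      refine Subtype.ext (Subtype.ext ?_)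
      have h3 := h _ ((ep.symm i).1).2
      simp [MulAut.conjNormal_apply]
      rw [← h3]
      group
  have hker : κ.ker = C := SetLike.ext hκ
  have hσ : ∀ b : Equiv.Perm (Fin 3), b * b = 1 → b ≠ 1 →
      b * finRotate 3 * b⁻¹ * (finRotate 3)⁻¹ = finRotate 3 := by decide
  have horder3 : ∀ a : Equiv.Perm (Fin 3), a * a * a = 1 → a ≠ 1 → ∀ i, a i ≠ i := by decide
  have hy1 : κ y ≠ 1 := fun h => hyC ((hκ y).1 h)
  have hysq : κ y * κ y = 1 := by
    rw [← map_mul, ← pow_two]
    exact (hκ _).2 (hPC hy2)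
  have hrange : κ.range = ⊤ := by
    refine Subgroup.eq_top_of_card_eq _ ?_
    rw [Nat.card_perm, Nat.card_fin]
    refine Nat.dvd_antisymm ?_ ?_
    · have := Subgroup.card_subgroup_dvd_card κ.range
      rwa [Nat.card_perm, Nat.card_fin] at this
    · show 6 ∣ Nat.card κ.range
      refine Nat.Coprime.mul_dvd_of_dvd_of_dvd (show Nat.Coprime 2 3 by norm_num) ?_ ?_
      · have h := Subgroup.orderOf_dvd_natCard κ.range (x := κ y) ⟨y, rfl⟩
        rwa [orderOf_eq_prime (pow_two (κ y) ▸ hysq) hy1] at h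
      · rw [← Subgroup.index_ker, hker]
        have h3 : (Char.inertia P (θ : P → ℂ)).index = 3 := by omega
        rw [← h3]
        refine Subgroup.index_dvd_of_le fun g hg => (Char.mem_inertia_iff P).2 fun x => ?_
        refine congrArg (θ : P → ℂ) (Subtype.ext ?_)
        show g * (x : G) * g⁻¹ = x
        rw [← hg x x.2, mul_inv_cancel_right]
  have hCidx : C.index = 6 := by
    rw [← hker, Subgroup.index_ker, hrange, Subgroup.card_top, Nat.card_perm, Nat.card_fin]
    rfl
  obtain ⟨r, hr⟩ := (MonoidHom.range_eq_top.1 hrange) (finRotate 3)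
  set r₀ := y * r * y⁻¹ * r⁻¹ with hr₀
  have hκr : κ r₀ = finRotate 3 := by
    rw [hr₀]
    simp only [map_mul, map_inv, hr]
    exact hσ _ hysq hy1
  have hr₀C : r₀ ∉ C := fun h => by
    have h' := (hκ r₀).2 h
    rw [hκr] at h'
    exact absurd h' (by decide)
  -- the subgroup of order six modulo `P`
  set π := QuotientGroup.mk' P with hπ
  set u := π r₀ with hu
  set Y := π y with hY
  have hY2 : Y * Y = 1 := by
    rw [hY, ← map_mul, ← pow_two, ← MonoidHom.mem_ker, QuotientGroup.ker_mk']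
    exact hy2
  have hY1 : Y ≠ 1 := fun h => hy (by
    rw [hY, ← MonoidHom.mem_ker, QuotientGroup.ker_mk'] at h
    exact h)
  have hYinv : Y⁻¹ = Y := inv_eq_of_mul_eq_one_right hY2
  have hconj : Y * u * Y⁻¹ = u⁻¹ := by
    rw [hu, hr₀, map_mul, map_mul, map_mul, map_inv, map_inv, ← hY]
    rw [mul_inv_rev, mul_inv_rev, mul_inv_rev, inv_inv, inv_inv]
    simp only [hYinv, mul_assoc]
    rw [← mul_assoc Y Y, hY2, one_mul]
  have hu3C : r₀ ^ 3 ∈ C := (hκ _).1 (by rw [map_pow, hκr]; decide)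
  have hu3 : u ^ 3 = 1 := by
    rw [hC, hCeq] at hu3C
    obtain ⟨a, ha, z, hz, haz⟩ := Subgroup.mem_sup_of_normal_right.1 hu3C
    have hπz : u ^ 3 = π z := by
      rw [hu, ← map_pow, ← haz, map_mul, show π a = 1 by
        rw [← MonoidHom.mem_ker, QuotientGroup.ker_mk']; exact ha, one_mul]
    have hz2 : Y * (u ^ 3) * Y⁻¹ = u ^ 3 := by
      rw [hπz, hY, ← map_inv, ← map_mul, ← map_mul, Subgroup.mem_center_iff.1 hz y,
        mul_inv_cancel_right]
    rw [← conj_pow, hconj, inv_pow] at hz2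
    have h1 : (u ^ 3) ^ 2 = 1 := by
      rw [pow_two]
      exact inv_eq_iff_mul_eq_one.1 hz2
    have h2 : (u ^ 3) ^ Nat.card Z = 1 := by
      have hzc : z ^ Nat.card Z = 1 :=
        congrArg Subtype.val (pow_card_eq_one' (x := (⟨z, hz⟩ : Z)))
      rw [hπz, ← map_pow, hzc]
      exact map_one π
    have h3 := pow_gcd_eq_one.2 ⟨h1, h2⟩
    rwa [(Nat.coprime_two_left.2 hodd : Nat.gcd 2 (Nat.card Z) = 1), pow_one] at h3
  set K := Subgroup.zpowers u ⊔ Subgroup.zpowers Y with hK
  set H := K.comap π with hH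
  have hPH : P ≤ H := fun x hx => by
    show π x ∈ K
    rw [show π x = 1 by rw [← MonoidHom.mem_ker, QuotientGroup.ker_mk']; exact hx]
    exact one_mem K
  have hKcard : Nat.card K ≤ 6 := by
    have hle : Subgroup.zpowers Y ≤ Subgroup.normalizer (Subgroup.zpowers u : Set (G ⧸ P)) := by
      rw [Subgroup.zpowers_le, Subgroup.mem_normalizer_iff]
      intro a
      constructor
      · intro ha
        obtain ⟨i, rfl⟩ := Subgroup.mem_zpowers_iff.1 ha
        rw [← conj_zpow, hconj]
        exact Subgroup.zpow_mem _ (inv_mem (Subgroup.mem_zpowers u)) i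
      · intro ha
        obtain ⟨i, hi⟩ := Subgroup.mem_zpowers_iff.1 ha
        have h : a = Y * (u ^ i) * Y⁻¹ := by
          rw [hi, hYinv]
          simp only [mul_assoc, hY2, mul_one]
          rw [← mul_assoc, hY2, one_mul]
        rw [h, ← conj_zpow, hconj]
        exact Subgroup.zpow_mem _ (inv_mem (Subgroup.mem_zpowers u)) i
    have hset := Subgroup.coe_mul_of_right_le_normalizer_left _ _ hle
    calc Nat.card K = Nat.card ((Subgroup.zpowers u : Set (G ⧸ P)) *
          (Subgroup.zpowers Y : Set (G ⧸ P)) : Set (G ⧸ P)) := by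
          rw [← hset]; rfl
      _ ≤ _ * _ := Set.natCard_mul_le
      _ = orderOf u * orderOf Y := by
          rw [← Nat.card_zpowers u, ← Nat.card_zpowers Y]; rfl
      _ ≤ 6 := Nat.mul_le_mul (orderOf_le_of_pow_eq_one (n := 3) (by norm_num) hu3)
          (orderOf_le_of_pow_eq_one (n := 2) (by norm_num) (by rw [pow_two, hY2]))
  have hHcard : Nat.card H = Nat.card K * 4 := by
    have h1 := H.card_mul_index
    rw [hH, Subgroup.index_comap_of_surjective _ (QuotientGroup.mk'_surjective P), ← hH] at h1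
    have h2 := K.card_mul_index
    have h3 : Nat.card G = Nat.card (G ⧸ P) * Nat.card P :=
      Subgroup.card_eq_card_quotient_mul_card_subgroup P
    refine Nat.eq_of_mul_eq_mul_right (Nat.pos_of_ne_zero K.index_ne_zero_of_finite) ?_
    rw [h1, h3, ← h2, hcard]
    ring
  let f : H →* Equiv.Perm (Fin 3) := κ.comp H.subtype
  have hyH : y ∈ H := (le_sup_right : Subgroup.zpowers Y ≤ K) (Subgroup.mem_zpowers Y)
  have hrH : r₀ ∈ H := (le_sup_left : Subgroup.zpowers u ≤ K) (Subgroup.mem_zpowers u)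
  have hf6 : 6 ∣ Nat.card f.range := by
    refine Nat.Coprime.mul_dvd_of_dvd_of_dvd (show Nat.Coprime 2 3 by norm_num) ?_ ?_
    · have h := Subgroup.orderOf_dvd_natCard f.range (x := κ y) ⟨⟨y, hyH⟩, rfl⟩
      rwa [orderOf_eq_prime (pow_two (κ y) ▸ hysq) hy1] at h
    · have h := Subgroup.orderOf_dvd_natCard f.range (x := κ r₀) ⟨⟨r₀, hrH⟩, rfl⟩
      rwa [orderOf_eq_prime (p := 3) (by rw [hκr]; decide) (by rw [hκr]; decide)] at h
  have hfr : f.ker.index = Nat.card f.range := Subgroup.index_ker f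
  have hfker : P.subgroupOf H ≤ f.ker := fun x hx =>
    (hκ _).2 (hPC (Subgroup.mem_subgroupOf.1 hx))
  have hPH' : Nat.card (P.subgroupOf H) = 4 := by
    rw [Nat.card_congr (Subgroup.subgroupOfEquivOfLe hPH).toEquiv, hcard]
  have hmul := f.ker.card_mul_index
  rw [hfr, hHcard] at hmul
  have h4k : 4 ≤ Nat.card f.ker := hPH' ▸ Subgroup.card_le_of_le hfker
  have hr6 : 6 ≤ Nat.card f.range := Nat.le_of_dvd Nat.card_pos hf6
  have hk4 : Nat.card f.ker = 4 ∧ Nat.card K = 6 := by
    have := Nat.mul_le_mul h4k hr6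
    constructor <;> nlinarith
  have hkerP : f.ker = P.subgroupOf H :=
    (Subgroup.eq_of_le_of_card_ge hfker (by rw [hk4.1, hPH'])).symm
  have hHC : ∀ x ∈ H, x ∈ C → x ∈ P := fun x hx hxC => by
    have : (⟨x, hx⟩ : H) ∈ f.ker := (hκ x).2 hxC
    rw [hkerP] at this
    exact Subgroup.mem_subgroupOf.1 this
  have hH24 : Nat.card H = 24 := by rw [hHcard, hk4.2]
  have hfix : ∀ a b : G, b ∈ P → b ≠ 1 → Commute a b → a ∉ C → ¬ κ (a * a * a) = 1 := by
    intro a b hb hb1 hab haC h3
    rw [map_mul, map_mul] at h3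
    refine horder3 (κ a) h3 (fun h => haC ((hκ a).1 h))
      (ep ⟨⟨b, hb⟩, fun e => hb1 (congrArg Subtype.val e)⟩) ?_
    simp [κ, Equiv.permCongrHom]
    refine Subtype.ext ?_
    simp [MulAut.conjNormal_apply, hab.eq]
  have h6 : ∀ g : H, orderOf g ≠ 6 := by
    intro g hg
    rw [← orderOf_submonoid g] at hg
    have hg6 : (g : G) ^ 6 = 1 := hg ▸ pow_orderOf_eq_one _
    have hex : ∀ a : Equiv.Perm (Fin 3), a ^ 2 = 1 ∨ a ^ 3 = 1 := by decide
    rcases hex (κ g) with h | h
    · have hm := hHC _ (pow_mem g.2 2) ((hκ _).1 (by rw [map_pow]; exact h))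
      have h2 : ((g : G) ^ 2) ^ 2 = 1 := congrArg Subtype.val (hexp ⟨_, hm⟩)
      rw [← pow_mul] at h2
      have := orderOf_dvd_of_pow_eq_one h2
      rw [hg] at this
      norm_num at this
    · have hm := hHC _ (pow_mem g.2 3) ((hκ _).1 (by rw [map_pow]; exact h))
      have hne : (g : G) ^ 3 ≠ 1 := fun h1 => by
        have := orderOf_dvd_of_pow_eq_one h1
        rw [hg] at this
        norm_num at this
      have hne2 : (g : G) ^ 2 ∉ C := fun hc => by
        have hm2 := hHC _ (pow_mem g.2 2) hc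
        have h2 : ((g : G) ^ 2) ^ 2 = 1 := congrArg Subtype.val (hexp ⟨_, hm2⟩)
        rw [← pow_mul] at h2
        have := orderOf_dvd_of_pow_eq_one h2
        rw [hg] at this
        norm_num at this
      refine hfix ((g : G) ^ 2) _ hm hne ((Commute.refl _).pow_pow 2 3) hne2 ?_
      rw [show (g : G) ^ 2 * (g : G) ^ 2 * (g : G) ^ 2 = (g : G) ^ 6 by group, hg6, map_one]
  obtain ⟨eH⟩ := Cfsg.Agent.S1012.result hH24 h6
  have hdisj : H ⊓ Z = ⊥ := by
    refine eq_bot_iff.2 fun x hx => ?_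
    rw [← hPZ]
    exact ⟨hHC x hx.1 (Subgroup.center_le_centralizer _ hx.2), hx.2⟩
  refine ⟨H, ⟨eH⟩, hdisj, ?_⟩
  have hCcard : Nat.card C ≤ 4 * Nat.card Z := by
    rw [hC, hCeq, ← hcard]
    exact Nat.le_of_dvd (Nat.mul_pos Nat.card_pos Nat.card_pos) (Core.card_sup_dvd_mul P Z)
  have hG : Nat.card G ≤ 24 * Nat.card Z := by
    rw [← C.card_mul_index, hCidx]
    omega
  let g : H × Z →* G := MonoidHom.noncommCoprod H.subtype Z.subtype fun a b =>
    Subgroup.mem_center_iff.1 b.2 a
  have hginj : Function.Injective g := by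
    refine (MonoidHom.noncommCoprod_injective _ _ _).2 ⟨H.subtype_injective, Z.subtype_injective, ?_⟩
    rw [Subgroup.range_subtype, Subgroup.range_subtype]
    exact disjoint_iff.2 hdisj
  have hgsurj : Function.Surjective g := by
    refine (hginj.bijective_of_nat_card_le ?_).2
    rw [Nat.card_prod, hH24]
    exact hG
  refine eq_top_iff.2 fun x _ => ?_
  obtain ⟨⟨a, b⟩, rfl⟩ := hgsurj x
  exact Subgroup.mul_mem_sup a.2 b.2

end Cfsg.Lib.Block.RootValues
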