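import Cfsg.Agent.Lib.Block.BlockGenerator
import Cfsg.Agent.Lib.Block.BlockCenter
import Cfsg.Agent.Lib.Block.CycDvd
import Cfsg.Agent.Lib.Block.CycEstimate

/-!
# Labelling the members of a block by roots of unity

A block with one simple module and `q` members of the same degree is labelled by an integral
central vector whose values are the `q`-th roots of unity.  Integral functions of the labels have
integral averages, so a permutation of the members that keeps the labelling integral is a power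
map of the labels.
-/

set_option autoImplicit false
set_option linter.unusedSectionVars false
set_option maxHeartbeats 1000000

namespace Cfsg.Lib.Block

open Cfsg Polynomial
open scoped ComplexConjugate

universe u

/-- The `q`-th roots of unity. -/
noncomputable def rootsQ (q : ℕ) : Finset ℂ := nthRootsFinset q (1 : ℂ)

theorem mem_rootsQ {q : ℕ} (hq : 0 < q) {z : ℂ} : z ∈ rootsQ q ↔ z ^ q = 1 := by
  rw [rootsQ, mem_nthRootsFinset hq]

theorem card_rootsQ {q : ℕ} (hq : 0 < q) : (rootsQ q).card = q :=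
  (Complex.isPrimitiveRoot_exp q hq.ne').card_nthRootsFinset

theorem one_mem_rootsQ {q : ℕ} (hq : 0 < q) : (1 : ℂ) ∈ rootsQ q := by
  rw [mem_rootsQ hq, one_pow]

theorem conj_eq_pow {q : ℕ} (hq : 0 < q) {z : ℂ} (hz : z ∈ rootsQ q) :
    conj z = z ^ (q - 1) := by
  rw [mem_rootsQ hq] at hz
  have h1 : ‖z‖ = 1 := Complex.norm_eq_one_of_pow_eq_one hz hq.ne'
  have h2 : z * conj z = 1 := by
    rw [Complex.mul_conj', h1]; simp
  have h3 : z * z ^ (q - 1) = 1 := by
    rw [← pow_succ', Nat.sub_add_cancel hq, hz]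
  exact (left_inv_eq_right_inv (by rw [mul_comm]; exact h3) h2).symm

/-- Orthogonality of the powers of roots of unity. -/
theorem sum_pow_mul_pow {q : ℕ} (hq : 0 < q) {z w : ℂ} (hz : z ∈ rootsQ q) (hw : w ∈ rootsQ q) :
    ∑ m ∈ Finset.range q, w ^ m * z ^ (q - m) = if w = z then (q : ℂ) else 0 := by
  rw [mem_rootsQ hq] at hz hw
  have hz0 : z ≠ 0 := fun h => by rw [h, zero_pow hq.ne'] at hz; exact zero_ne_one hz
  have e : ∀ m ∈ Finset.range q, w ^ m * z ^ (q - m) = (w / z) ^ m := by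
    intro m hm
    have hm' := (Finset.mem_range.1 hm).le
    have h2 : z ^ (q - m) * z ^ m = 1 := by rw [← pow_add, Nat.sub_add_cancel hm', hz]
    rw [div_pow, eq_div_iff (pow_ne_zero _ hz0), mul_assoc, h2, mul_one]
  rw [Finset.sum_congr rfl e]
  split_ifs with h
  · subst h; simp [div_self hz0]
  · have hne : w / z ≠ 1 := fun h' => h ((div_eq_one_iff_eq hz0).1 h')
    rw [geom_sum_eq hne, div_pow, hw, hz, div_one, sub_self, zero_div]

variable {p : ℕ} [Fact p.Prime] {M : Ideal AlgInt} (hM : IsPModular p M)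

include hM in
/-- A combination of roots of unity of `p`-power order that is locally divisible by their order
is divisible by it in the algebraic integers. -/
theorem isIntegral_div_of_mem {e : ℕ} {ι : Type*} (s : Finset ι) (z : ι → ℂ)
    (hz : ∀ i ∈ s, z i ^ (p ^ (e + 1)) = 1)
    (h : (∑ i ∈ s, z i) / ((p ^ (e + 1) : ℕ) : ℂ) ∈ locRing hM) :
    IsIntegral ℤ ((∑ i ∈ s, z i) / ((p ^ (e + 1) : ℕ) : ℂ)) := by
  classical
  have hp := (Fact.out : p.Prime)
  set q := p ^ (e + 1) with hq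
  have hq0 : 0 < q := pow_pos hp.pos _
  set ζ := Complex.exp (2 * Real.pi * Complex.I / (q : ℂ)) with hζdef
  have hζ : IsPrimitiveRoot ζ q := Complex.isPrimitiveRoot_exp q hq0.ne'
  haveI : NeZero q := ⟨hq0.ne'⟩
  choose j hj using fun i => (show ∃ j : ℕ, i ∈ s → ζ ^ j = z i from
    if hi : i ∈ s then by
      obtain ⟨j, -, hj⟩ := hζ.eq_pow_of_pow_eq_one (hz i hi)
      exact ⟨j, fun _ => hj⟩
    else ⟨0, fun h' => absurd h' hi⟩)
  set f : ℤ[X] := ∑ i ∈ s, X ^ j i with hf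
  have hfz : aeval ζ f = ∑ i ∈ s, z i := by
    rw [hf, map_sum]
    exact Finset.sum_congr rfl fun i hi => by rw [map_pow, aeval_X, hj i hi]
  set g := f %ₘ cyclotomic q ℤ with hg
  have hgz : aeval ζ g = aeval ζ f := by
    rw [hg]
    refine Polynomial.aeval_modByMonic_eq_self_of_root ?_
    rw [Polynomial.aeval_def, Polynomial.eval₂_eq_eval_map, map_cyclotomic]
    exact hζ.isRoot_cyclotomic hq0
  have hdeg : g.natDegree < p ^ e * (p - 1) := by
    rw [← Nat.totient_prime_pow_succ hp e, ← hq, ← natDegree_cyclotomic q ℤ, hg]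
    refine natDegree_modByMonic_lt f (cyclotomic.monic q ℤ) fun h1 => ?_
    have := congrArg natDegree h1
    rw [natDegree_cyclotomic, natDegree_one] at this
    exact absurd this (Nat.totient_pos.2 hq0).ne'
  have hsum : ∑ i ∈ s, z i = ∑ k ∈ Finset.range (p ^ e * (p - 1)), (g.coeff k : ℂ) * ζ ^ k := by
    rw [← hfz, ← hgz, aeval_eq_sum_range' hdeg]
    exact Finset.sum_congr rfl fun k _ => by rw [zsmul_eq_mul]
  have hdvd := pow_dvd_coeff hM hζ (e + 1) (fun k => g.coeff k) (by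
    rw [← hsum]
    convert h using 2
    rw [hq]; push_cast; rfl)
  have hqC : ((q : ℕ) : ℂ) ≠ 0 := Nat.cast_ne_zero.2 hq0.ne'
  rw [hsum, Finset.sum_div]
  refine IsIntegral.sum _ fun k hk => ?_
  obtain ⟨c, hc⟩ := hdvd k (Finset.mem_range.1 hk)
  rw [hc, show (((p : ℤ) ^ (e + 1) * c : ℤ) : ℂ) * ζ ^ k / (q : ℂ) = (c : ℂ) * ζ ^ k by
    rw [hq]; push_cast; field_simp [hp.ne_zero]]
  exact (isIntegral_algebraMap (R := ℤ) (A := ℂ) (x := c)).mul ((hζ.isIntegral hq0).pow k)

include hM in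
/-- A function on the roots of unity with root values, value one at one and integral averages
against all powers is a power map. -/
theorem exists_pow_of_fourier {e : ℕ} (u : ℂ → ℂ)
    (hu : ∀ z ∈ rootsQ (p ^ (e + 1)), u z ∈ rootsQ (p ^ (e + 1))) (hu1 : u 1 = 1)
    (hF : ∀ m : ℕ, (∑ z ∈ rootsQ (p ^ (e + 1)), u z * z ^ m) / ((p ^ (e + 1) : ℕ) : ℂ) ∈ locRing hM) :
    ∃ a : ℕ, ∀ z ∈ rootsQ (p ^ (e + 1)), u z = z ^ a := by
  classical
  set q := p ^ (e + 1) with hq
  have hq0 : 0 < q := pow_pos (Fact.out : p.Prime).pos _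
  haveI : NeZero q := ⟨hq0.ne'⟩
  have hqC : (q : ℂ) ≠ 0 := Nat.cast_ne_zero.2 hq0.ne'
  set U := rootsQ q with hU
  set c : ℕ → ℂ := fun m => (∑ z ∈ U, u z * z ^ m) / (q : ℂ) with hc
  have hint : ∀ m, IsIntegral ℤ (c m) := fun m =>
    isIntegral_div_of_mem hM U (fun z => u z * z ^ m) (fun z hz => by
      rw [mul_pow, (mem_rootsQ hq0).1 (hu z hz), ← pow_mul, mul_comm m, pow_mul,
        (mem_rootsQ hq0).1 hz, one_pow, one_mul]) (hF m)
  have hinv : ∀ z ∈ U, u z = ∑ m ∈ Finset.range q, c m * z ^ (q - m) := by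
    intro z hz
    simp only [hc, div_mul_eq_mul_div, ← Finset.sum_div, Finset.sum_mul]
    rw [Finset.sum_comm, eq_div_iff hqC]
    simp only [mul_assoc, ← Finset.mul_sum]
    rw [Finset.sum_congr rfl fun w hw => by rw [sum_pow_mul_pow hq0 hz hw, mul_ite, mul_zero],
      Finset.sum_ite_eq', if_pos hz]
  have hmemF : ∀ m, c m ∈ Char.cycField q := fun m => by
    simp only [hc]
    refine div_mem (sum_mem fun z hz => mul_mem (Char.mem_cycField ?_) (pow_mem (Char.mem_cycField ?_) m))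
      (natCast_mem _ q)
    · exact (mem_rootsQ hq0).1 (hu z hz)
    · exact (mem_rootsQ hq0).1 hz
  have hpar : ∑ m ∈ Finset.range q, c m * conj (c m) = ((1 : ℕ) : ℂ) := by
    have h1 : ∀ m ∈ Finset.range q, c m * conj (c m) =
        (∑ z ∈ U, ∑ w ∈ U, u z * conj (u w) * (z ^ m * w ^ (q - m))) / ((q : ℂ) * q) := by
      intro m hm
      simp only [hc, map_div₀, map_natCast, map_sum, map_mul, map_pow, div_mul_div_comm,
        Finset.sum_mul_sum]
      congr 1
      refine Finset.sum_congr rfl fun z _ => Finset.sum_congr rfl fun w hw => ?_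
      have e1 : conj w ^ m = w ^ (q - m) := by
        rw [conj_eq_pow hq0 hw, ← pow_mul]
        have hwq := (mem_rootsQ hq0).1 hw
        have hm' := Finset.mem_range.1 hm
        rcases Nat.eq_zero_or_pos m with rfl | hmpos
        · simp [hwq]
        · obtain ⟨m', rfl⟩ := Nat.exists_eq_add_of_le hmpos
          rw [show (q - 1) * (1 + m') = (q - (1 + m')) + q * m' by
            obtain ⟨r, hr⟩ := Nat.exists_eq_add_of_le hm'.le
            rw [hr, show 1 + m' + r - (1 + m') = r by omega,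
              show 1 + m' + r - 1 = m' + r by omega]
            ring, pow_add, pow_mul, hwq, one_pow, mul_one]
      rw [e1]
      ring
    rw [Finset.sum_congr rfl h1, ← Finset.sum_div, Finset.sum_comm]
    simp only [Finset.sum_comm (s := Finset.range q), ← Finset.mul_sum]
    rw [Finset.sum_congr rfl fun z hz => Finset.sum_congr rfl fun w hw => by
      rw [sum_pow_mul_pow hq0 hw hz, mul_ite, mul_zero]]
    simp only [Finset.sum_ite_eq]
    rw [Finset.sum_congr rfl (g := fun _ => (q : ℂ)) fun z hz => by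
      rw [if_pos hz, Complex.mul_conj', Complex.norm_eq_one_of_pow_eq_one
        ((mem_rootsQ hq0).1 (hu z hz)) hq0.ne']
      simp]
    rw [Finset.sum_const, card_rootsQ hq0, nsmul_eq_mul, Nat.cast_one, div_self (mul_ne_zero hqC hqC)]
  set T := (Finset.range q).filter fun m => c m ≠ 0 with hT
  have hcard : T.card ≤ 1 := by
    refine card_le_of_sum_sq (N := q) T (fun m => ⟨c m, hmemF m⟩) (fun m _ => hint m)
      (fun m hm h => (Finset.mem_filter.1 hm).2 (congrArg Subtype.val h)) ?_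
    rw [← hpar]
    refine (Finset.sum_subset (Finset.filter_subset _ _) fun m hm hm' => ?_)
    rw [hT, Finset.mem_filter, not_and, not_not] at hm'
    show c m * conj (c m) = 0
    rw [hm' hm, zero_mul]
  have hne : ∃ m₀ ∈ Finset.range q, ∀ m ∈ Finset.range q, m ≠ m₀ → c m = 0 := by
    rcases Finset.eq_empty_or_nonempty T with h | ⟨m₀, hm₀⟩
    · refine ⟨0, Finset.mem_range.2 hq0, fun m hm _ => ?_⟩
      by_contra hcm
      exact Finset.notMem_empty m (h ▸ Finset.mem_filter.2 ⟨hm, hcm⟩)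
    · refine ⟨m₀, (Finset.mem_filter.1 hm₀).1, fun m hm hmn => ?_⟩
      by_contra hcm
      exact hmn (Finset.card_le_one.1 hcard m (Finset.mem_filter.2 ⟨hm, hcm⟩) m₀ hm₀)
  obtain ⟨m₀, hm₀, hz0⟩ := hne
  have hu' : ∀ z ∈ U, u z = c m₀ * z ^ (q - m₀) := fun z hz => by
    rw [hinv z hz, Finset.sum_eq_single m₀ (fun m hm hmn => by rw [hz0 m hm hmn, zero_mul])
      (fun h => absurd hm₀ h)]
  have hc1 : c m₀ = 1 := by
    have h := hu' 1 (one_mem_rootsQ hq0)
    rw [hu1, one_pow, mul_one] at h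
    exact h.symm
  exact ⟨q - m₀, fun z hz => by rw [hu' z hz, hc1, one_mul]⟩

variable {A : Type u} [Group A] [Fintype A]

/-- An integral labelling of the members of a block by roots of unity. -/
structure RootVec (f : Set (IrrCharacter A)) (q : ℕ) (v : IrrCharacter A → ℂ) : Prop where
  block : IsPBlock M f
  pos : 0 < q
  int : VInt hM v
  out : ∀ ψ, ψ ∉ f → v ψ = 0
  maps : ∀ ψ ∈ f, v ψ ∈ rootsQ q
  inj : Set.InjOn v f
  card : Nat.card f = q
  reg : ∀ ψ ∈ f, ∀ ψ' ∈ f, ∀ y : A, IsPRegular p y → (ψ : A → ℂ) y = (ψ' : A → ℂ) y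
  unit : ∀ ψ ∈ f, ∃ g : A, IsPRegular p g ∧ ¬ MemLocalIdeal M ((ψ : A → ℂ) g) ∧
    (Nat.card A : ℂ)⁻¹ * (ψ : A → ℂ) 1 * (q : ℂ) ∈ locRing hM ∧
    ¬ MemLocalIdeal M ((Nat.card A : ℂ)⁻¹ * (ψ : A → ℂ) 1 * (q : ℂ))

variable {hM} {f : Set (IrrCharacter A)} {q : ℕ} {v : IrrCharacter A → ℂ} (V : RootVec hM f q v)

include V

open Classical in
theorem RootVec.sum_eq (h : ℂ → ℂ) : ∑ ψ ∈ f.toFinset, h (v ψ) = ∑ z ∈ rootsQ q, h z := by
  have hcard : (rootsQ q).card ≤ f.toFinset.card := by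
    rw [card_rootsQ V.pos, Set.toFinset_card, ← Nat.card_eq_fintype_card, V.card]
  refine Finset.sum_bij (fun ψ _ => v ψ) (fun ψ hψ => V.maps ψ (Set.mem_toFinset.1 hψ))
    (fun a ha b hb e => V.inj (Set.mem_toFinset.1 ha) (Set.mem_toFinset.1 hb) e) (fun z hz => ?_)
    fun _ _ => rfl
  obtain ⟨ψ, hψ, e⟩ := Finset.surj_on_of_inj_on_of_card_le (fun ψ (_ : ψ ∈ f.toFinset) => v ψ)
    (fun ψ hψ => V.maps ψ (Set.mem_toFinset.1 hψ))
    (fun a b ha hb e => V.inj (Set.mem_toFinset.1 ha) (Set.mem_toFinset.1 hb) e) hcard z hz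
  exact ⟨ψ, hψ, e.symm⟩

open Classical in
theorem RootVec.exists_label {z : ℂ} (hz : z ∈ rootsQ q) : ∃ ψ ∈ f, v ψ = z := by
  by_contra h
  simp only [not_exists, not_and] at h
  have h1 := V.sum_eq fun w => if w = z then (1 : ℂ) else 0
  rw [Finset.sum_ite_eq', if_pos hz, Finset.sum_eq_zero fun ψ hψ => if_neg (h ψ (Set.mem_toFinset.1 hψ))] at h1
  exact zero_ne_one h1

theorem RootVec.vInt_pow (n : ℕ) : VInt hM (v ^ n * indVec f) :=
  vInt_mul hM (cV_pow hM V.int n).1 (vInt_indVec hM V.block)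

open Classical in
/-- The average over the block of an integral vector is integral. -/
theorem RootVec.avg_mem {w : IrrCharacter A → ℂ} (hw : VInt hM w) (hout : ∀ ψ, ψ ∉ f → w ψ = 0) :
    (∑ ψ ∈ f.toFinset, w ψ) / (q : ℂ) ∈ locRing hM := by
  obtain ⟨ψ₀, hψ₀⟩ := nonempty_of_isPBlock hM V.block
  obtain ⟨g, hg, hgu, hsm, hsu⟩ := V.unit ψ₀ hψ₀
  set s := (Nat.card A : ℂ)⁻¹ * (ψ₀ : A → ℂ) 1 * (q : ℂ) * (ψ₀ : A → ℂ) g with hs
  have hmem : s ∈ locRing hM := mul_mem hsm (charVal_mem_locRing hM ψ₀ g)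
  have hunit : ¬ MemLocalIdeal M s := mul_not_ideal hM hsm (charVal_mem_locRing hM ψ₀ g) hsu hgu
  have h1 : zc w g⁻¹ = s * ((∑ ψ ∈ f.toFinset, w ψ) / (q : ℂ)) := by
    rw [zc, ← Finset.sum_subset (Finset.subset_univ f.toFinset) fun ψ _ hψ => by
      rw [hout ψ (fun h => hψ (Set.mem_toFinset.2 h)), zero_mul, zero_mul]]
    have hone : IsPRegular p (1 : A) := by simp [IsPRegular, (Fact.out : p.Prime).ne_one]
    rw [Finset.sum_congr rfl fun ψ hψ => by
      rw [inv_inv, V.reg ψ (Set.mem_toFinset.1 hψ) ψ₀ hψ₀ g hg,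
        V.reg ψ (Set.mem_toFinset.1 hψ) ψ₀ hψ₀ 1 hone], ← Finset.sum_mul, ← Finset.sum_mul, hs]
    field_simp [Nat.cast_ne_zero.2 V.pos.ne', Char.card_cast_ne_zero (G := A)]
  have h2 := hw g⁻¹
  rw [h1] at h2
  have h3 := mul_mem (inv_mem_locRing_of_not_ideal hM hmem hunit) h2
  rwa [inv_mul_cancel_left₀ (ne_zero_of_not_ideal hunit hM)] at h3

open Classical in
/-- The averages of the powers of the labels against an integral vector. -/
theorem RootVec.fourier_mem {w : IrrCharacter A → ℂ} (hw : VInt hM w) (m : ℕ) :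
    (∑ ψ ∈ f.toFinset, w ψ * v ψ ^ m) / (q : ℂ) ∈ locRing hM := by
  have h := V.avg_mem (w := w * (v ^ m * indVec f)) (vInt_mul hM hw (V.vInt_pow m)) fun ψ hψ => by
    simp [indVec, hψ]
  convert h using 2
  refine Finset.sum_congr rfl fun ψ hψ => ?_
  simp [indVec, Set.mem_toFinset.1 hψ]

open Classical in
/-- Powers of the labels against the values at an element are divisible by its centralizer. -/
theorem RootVec.sum_pow_div_centralizer (m : ℕ) (k : A) :
    (∑ ψ ∈ f.toFinset, v ψ ^ m * (ψ : A → ℂ) k) /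
      (Nat.card (Subgroup.centralizer ({k} : Set A)) : ℂ) ∈ locRing hM := by
  obtain ⟨ψ₀, hψ₀⟩ := nonempty_of_isPBlock hM V.block
  obtain ⟨g, hg, hgu, -, -⟩ := V.unit ψ₀ hψ₀
  set L := (∑ ψ ∈ f.toFinset, v ψ ^ m * (ψ : A → ℂ) k) /
    (Nat.card (Subgroup.centralizer ({k} : Set A)) : ℂ) with hL
  have hC : (Nat.card (Subgroup.centralizer ({k} : Set A)) : ℂ) ≠ 0 :=
    Nat.cast_ne_zero.2 Nat.card_pos.ne'
  have hcls : ∀ ψ : IrrCharacter A, vec (clsFn k) ψ * (ψ : A → ℂ) 1 =
      (Nat.card A : ℂ) / (Nat.card (Subgroup.centralizer ({k} : Set A)) : ℂ) * (ψ : A → ℂ) k := by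
    intro ψ
    rw [vec, div_mul_cancel₀ _ ψ.2.apply_one_ne_zero, div_mul_eq_mul_div, eq_div_iff hC,
      Finset.sum_congr rfl fun x _ => show clsFn k x * (ψ : A → ℂ) x =
        (if IsConj k x then (1 : ℂ) else 0) * (ψ : A → ℂ) k by
          simp only [clsFn]
          split_ifs with h
          · obtain ⟨y, rfl⟩ := isConj_iff.1 h
            rw [ψ.2.isClassFunction k y]
          · simp, ← Finset.sum_mul, Finset.sum_boole, mul_right_comm]
    congr 1
    rw [← Nat.cast_mul]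
    congr 1
    rw [show (Finset.univ.filter fun x : A => IsConj k x) = Char.classFinset k from
      Finset.ext fun x => by rw [Finset.mem_filter, Char.mem_classFinset]; simp,
      Char.card_classFinset, Subgroup.index_mul_card]
  have h1 : zc (v ^ m * indVec f * vec (clsFn k)) g⁻¹ = L * (ψ₀ : A → ℂ) g := by
    rw [zc, ← Finset.sum_subset (Finset.subset_univ f.toFinset) fun ψ _ hψ => by
      simp [indVec, show ψ ∉ f from fun h => hψ (Set.mem_toFinset.2 h)]]
    rw [Finset.sum_congr rfl fun ψ hψ => show (v ^ m * indVec f * vec (clsFn k)) ψ * (ψ : A → ℂ) 1 *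
        (ψ : A → ℂ) g⁻¹⁻¹ = v ψ ^ m * (ψ : A → ℂ) k * ((Nat.card A : ℂ) /
          (Nat.card (Subgroup.centralizer ({k} : Set A)) : ℂ) * (ψ₀ : A → ℂ) g) by
      have e := hcls ψ
      simp only [Pi.mul_apply, Pi.pow_apply, indVec, if_pos (Set.mem_toFinset.1 hψ), mul_one, inv_inv]
      rw [mul_assoc (v ψ ^ m), e, V.reg ψ (Set.mem_toFinset.1 hψ) ψ₀ hψ₀ g hg]
      ring, ← Finset.sum_mul, hL]
    field_simp [Char.card_cast_ne_zero (G := A)]
  have h4 := vInt_mul hM (V.vInt_pow m) (vInt_vec_clsFn hM k) g⁻¹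
  rw [h1] at h4
  have h5 := mul_mem h4 (inv_mem_locRing_of_not_ideal hM (charVal_mem_locRing hM ψ₀ g) hgu)
  rwa [mul_inv_cancel_right₀ (ne_zero_of_not_ideal hgu hM)] at h5

open Classical in
/-- Powers of the labels against the values at an element are divisible by the number of members. -/
theorem RootVec.sum_pow_div_card (m : ℕ) (k : A) :
    (∑ ψ ∈ f.toFinset, v ψ ^ m * (ψ : A → ℂ) k) / (q : ℂ) ∈ locRing hM := by
  obtain ⟨ψ₀, hψ₀⟩ := nonempty_of_isPBlock hM V.block
  obtain ⟨g, -, -, hsm, hsu⟩ := V.unit ψ₀ hψ₀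
  set s := (Nat.card A : ℂ)⁻¹ * (ψ₀ : A → ℂ) 1 * (q : ℂ) with hs
  have hone : IsPRegular p (1 : A) := by simp [IsPRegular, (Fact.out : p.Prime).ne_one]
  have h1 : zc (v ^ m * indVec f) k⁻¹ =
      s * ((∑ ψ ∈ f.toFinset, v ψ ^ m * (ψ : A → ℂ) k) / (q : ℂ)) := by
    rw [zc, ← Finset.sum_subset (Finset.subset_univ f.toFinset) fun ψ _ hψ => by
      simp [indVec, show ψ ∉ f from fun h => hψ (Set.mem_toFinset.2 h)]]
    rw [Finset.sum_congr rfl fun ψ hψ => show (v ^ m * indVec f) ψ * (ψ : A → ℂ) 1 *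
        (ψ : A → ℂ) k⁻¹⁻¹ = v ψ ^ m * (ψ : A → ℂ) k * (ψ₀ : A → ℂ) 1 by
      simp only [Pi.mul_apply, Pi.pow_apply, indVec, if_pos (Set.mem_toFinset.1 hψ), mul_one, inv_inv]
      rw [V.reg ψ (Set.mem_toFinset.1 hψ) ψ₀ hψ₀ 1 hone]
      ring, ← Finset.sum_mul, hs]
    field_simp [Nat.cast_ne_zero.2 V.pos.ne']
  have h2 := V.vInt_pow m k⁻¹
  rw [h1] at h2
  have h3 := mul_mem (inv_mem_locRing_of_not_ideal hM hsm hsu) h2
  rwa [inv_mul_cancel_left₀ (ne_zero_of_not_ideal hsu hM)] at h3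

/-- A common scaling of the labels. -/
theorem RootVec.scale {c : ℂ} (hc : c ∈ rootsQ q) : RootVec hM f q (c • v) := by
  have hcm : c ∈ locRing hM := root_of_unity_mem_locRing hM V.pos ((mem_rootsQ V.pos).1 hc)
  have hc0 : c ≠ 0 := fun h => by
    rw [mem_rootsQ V.pos, h, zero_pow V.pos.ne'] at hc
    exact zero_ne_one hc
  exact
    { block := V.block
      pos := V.pos
      int := vInt_smul hM hcm V.int
      out := fun ψ hψ => by simp [V.out ψ hψ]
      maps := fun ψ hψ => by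
        rw [mem_rootsQ V.pos, Pi.smul_apply, smul_eq_mul, mul_pow, (mem_rootsQ V.pos).1 hc,
          (mem_rootsQ V.pos).1 (V.maps ψ hψ), one_mul]
      inj := fun a ha b hb e => V.inj ha hb (mul_left_cancel₀ hc0 e)
      card := V.card
      reg := V.reg
      unit := V.unit }

end Cfsg.Lib.Block

namespace Cfsg.Lib.Block

open Cfsg
open scoped ComplexConjugate

universe v

noncomputable local instance (priority := high) fintypeSubgroupRootVec {A : Type v} [Group A]
    [Fintype A] (H : Subgroup A) : Fintype H := Fintype.ofFinite H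

variable {p : ℕ} [Fact p.Prime] {M : Ideal AlgInt} (hM : IsPModular p M) {A : Type v} [Group A]
  [Fintype A] {B : Set (IrrCharacter A)} {P : Subgroup A}
  {c : Set (IrrCharacter (Subgroup.centralizer (P : Set A)))}
  (hB : IsPBlock M B) (hD : IsDefectGroup p M B P) (hcyc : IsCyclic P)
  (hc : IsInducedBlock M (Subgroup.centralizer (P : Set A)) c B)
  (hinert : ∀ g : A, g ∈ Subgroup.normalizer (P : Set A) →
    StabilizesBlock (Subgroup.centralizer (P : Set A)) c g →
      g ∈ Subgroup.centralizer (P : Set A))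

include hM in
/-- Conjugation by an automorphism keeps vectors integral. -/
theorem vInt_comp_compIrr (σ : A ≃* A) {v : IrrCharacter A → ℂ} (hv : VInt hM v) :
    VInt hM (fun χ => v (compIrr σ χ)) := fun g => by
  classical
  have e : zc (fun χ => v (compIrr σ χ)) g = zc v (σ.symm g) := by
    simp only [zc]
    congr 1
    refine Fintype.sum_equiv
      { toFun := compIrr σ, invFun := compIrr σ.symm,
        left_inv := fun χ => compIrr_symm_compIrr σ χ,
        right_inv := fun χ => compIrr_compIrr_symm σ χ } _ _ fun χ => ?_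
    simp only [Equiv.coe_fn_mk, compIrr_apply, map_one, map_inv, MulEquiv.apply_symm_apply]
  rw [e]
  exact hv _

include hM hB hD hcyc hc hinert in
/-- A block with cyclic defect group and trivial inertial quotient has a labelling with the label
of a given member equal to one. -/
theorem exists_rootVec {χ : IrrCharacter A} (hχ : χ ∈ B)
    (hh : blockHeight p B (χ : A → ℂ) = 0) :
    ∃ v, RootVec hM B (Nat.card P) v ∧ v χ = 1 := by
  classical
  have R := regBlock_of_inertial hM hB hD hcyc hc hinert hχ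
  obtain ⟨u₀, μ, v, hu₀, hinj, hμB, hsurj, hμ1, hvμ, hvout, hvint⟩ :=
    exists_root_param hM hB hD hcyc hc hinert hχ hh
  have hval : ∀ φ : P →* ℂˣ, ((φ u₀ : ℂˣ) : ℂ) ^ Nat.card P = 1 := fun φ => by
    rw [← Units.val_pow_eq_pow_val, ← map_pow, ← hu₀, pow_orderOf_eq_one, map_one, Units.val_one]
  obtain ⟨g, hg, -⟩ := isDefectGroup_iff.1 hD
  have hreg : IsPRegular p g := fun h => hg.2.1 (by
    rw [blockCoeff_eq_zero_of_dvd hM (vInt_indVec hM hB) h]; exact memLocalIdeal_zero hM)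
  have hdeg : ∀ ψ ∈ B, blockHeight p B (ψ : A → ℂ) = 0 := fun ψ hψ => by
    have h1 := R.reg ψ hψ 1 (by simp [IsPRegular, (Fact.out : p.Prime).ne_one])
    rw [apply_one_eq_charDegree, apply_one_eq_charDegree, Nat.cast_inj] at h1
    rw [blockHeight_eq, h1, ← blockHeight_eq, hh]
  refine ⟨v, ⟨hB, Nat.card_pos, hvint, hvout, fun ψ hψ => ?_, fun a ha b hb e => ?_, R.card,
    fun a ha b hb y hy => (R.reg a ha y hy).trans (R.reg b hb y hy).symm, fun ψ hψ => ?_⟩, ?_⟩
  · obtain ⟨φ, rfl⟩ := hsurj ψ hψ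
    rw [mem_rootsQ Nat.card_pos, hvμ, hval]
  · obtain ⟨φ, rfl⟩ := hsurj a ha
    obtain ⟨φ', rfl⟩ := hsurj b hb
    rw [hvμ, hvμ] at e
    refine congrArg μ (MonoidHom.ext fun x => ?_)
    have hx : x ∈ Subgroup.zpowers u₀ := by
      rw [Subgroup.eq_top_of_card_eq (Subgroup.zpowers u₀) (by rw [Nat.card_zpowers, hu₀])]
      exact Subgroup.mem_top x
    obtain ⟨n, rfl⟩ := mem_powers_iff_mem_zpowers.2 hx
    rw [map_pow, map_pow, Units.ext e]
  · refine ⟨g, hreg, charVal_defectClass_not_mem hM hB hg hψ (hdeg ψ hψ), ?_⟩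
    have hv : (charDegree (ψ : A → ℂ) * p ^ blockDefect p B).factorization p =
        (Nat.card A).factorization p := by
      rw [factorization_deg_pow, (blockHeight_eq_zero_iff hψ).1 (hdeg ψ hψ), add_comm]
      exact blockDefect_add_minVal (nonempty_of_isPBlock hM hB)
    have h1 : degFactor p B ψ ∈ locRing hM := natCast_div_mem hM Nat.card_pos.ne' (Or.inr hv.ge)
    have h2 : ¬ MemLocalIdeal M (degFactor p B ψ) := natCast_div_not_ideal hM
      (Nat.mul_ne_zero (charDegree_pos ψ).ne' (pow_ne_zero _ (Fact.out : p.Prime).ne_zero))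
      Nat.card_pos.ne' hv
    have e : (Nat.card A : ℂ)⁻¹ * (ψ : A → ℂ) 1 * (Nat.card P : ℂ) = degFactor p B ψ := by
      rw [degFactor, card_defectGroup hM hB hD, apply_one_eq_charDegree]
      push_cast
      ring
    rw [e]
    exact ⟨h1, h2⟩
  · rw [← hμ1, hvμ]; simp

open Classical in
/-- An automorphism fixing a member with label one acts as a power map on the labels. -/
theorem RootVec.exists_pow_perm {hM : IsPModular p M} {e : ℕ} {f : Set (IrrCharacter A)}
    {v : IrrCharacter A → ℂ} (V : RootVec hM f (p ^ (e + 1)) v) (σ : A ≃* A)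
    (hσ : ∀ ψ ∈ f, compIrr σ ψ ∈ f) {ψ₀ : IrrCharacter A} (hψ₀ : ψ₀ ∈ f) (h1 : v ψ₀ = 1)
    (hfix : compIrr σ ψ₀ = ψ₀) :
    ∃ a : ℕ, ∀ ψ ∈ f, v (compIrr σ ψ) = v ψ ^ a := by
  set u : ℂ → ℂ := fun z => if h : ∃ ψ ∈ f, v ψ = z then v (compIrr σ h.choose) else 1 with hu
  have huv : ∀ ψ ∈ f, u (v ψ) = v (compIrr σ ψ) := fun ψ hψ => by
    have h : ∃ ψ' ∈ f, v ψ' = v ψ := ⟨ψ, hψ, rfl⟩
    simp only [hu, dif_pos h]
    rw [V.inj h.choose_spec.1 hψ h.choose_spec.2]
  obtain ⟨a, ha⟩ := exists_pow_of_fourier hM u (fun z hz => by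
      obtain ⟨ψ, hψ, rfl⟩ := V.exists_label hz
      rw [huv ψ hψ]
      exact V.maps _ (hσ ψ hψ))
    (by rw [← h1, huv ψ₀ hψ₀, hfix]) fun m => by
      rw [← V.sum_eq fun z => u z * z ^ m, Finset.sum_congr rfl fun ψ hψ => by
        rw [huv ψ (Set.mem_toFinset.1 hψ)]]
      have h := V.fourier_mem (w := (fun χ => v (compIrr σ χ)) * indVec f)
        (vInt_mul hM (vInt_comp_compIrr hM σ V.int) (vInt_indVec hM V.block)) m
      convert h using 2
      refine Finset.sum_congr rfl fun ψ hψ => ?_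
      simp [indVec, Set.mem_toFinset.1 hψ]
  exact ⟨a, fun ψ hψ => by rw [← huv ψ hψ, ha _ (V.maps ψ hψ)]⟩

end Cfsg.Lib.Block
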