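import Cfsg.Agent.Lib.Block.CyclicPrime
import Cfsg.Agent.Lib.Core.Cores
import Mathlib.GroupTheory.Transfer

/-!
# Groups with a self-centralizing element of prime order
-/

set_option autoImplicit false
set_option linter.unusedSectionVars false
set_option linter.style.haveILetI false

namespace Cfsg.Lib.Block

open Cfsg Subgroup
open scoped Pointwise commutatorElement

universe u

variable {G : Type u} [Group G] [Fintype G] {p : ℕ} [Fact p.Prime] {x : G}
  (hx : orderOf x = p) (hC : Subgroup.centralizer ({x} : Set G) = Subgroup.zpowers x)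

include hx hC

theorem sc_ne_one : x ≠ 1 := fun h => by
  rw [h, orderOf_one] at hx
  exact (Fact.out : p.Prime).ne_one hx.symm

theorem sc_card_zpowers : Nat.card (zpowers x) = p := by rw [Nat.card_zpowers, hx]

/-- The cyclic subgroup generated by the element is a Sylow subgroup. -/
theorem sc_exists_sylow : ∃ P : Sylow p G, (P : Subgroup G) = zpowers x := by
  have hp : p.Prime := Fact.out
  have hpg : IsPGroup p (zpowers x) :=
    IsPGroup.of_card (n := 1) (by rw [sc_card_zpowers hx hC, pow_one])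
  obtain ⟨P, hP⟩ := hpg.exists_le_sylow
  refine ⟨P, le_antisymm ?_ hP⟩
  have hxP : x ∈ (P : Subgroup G) := hP (mem_zpowers x)
  haveI : Nontrivial (P : Subgroup G) :=
    ⟨⟨⟨x, hxP⟩, 1, fun h => sc_ne_one hx hC (congrArg Subtype.val h)⟩⟩
  haveI := P.2.center_nontrivial
  obtain ⟨z, hz⟩ := exists_ne (1 : Subgroup.center (P : Subgroup G))
  have hzc : ((z : (P : Subgroup G)) : G) ∈ centralizer ({x} : Set G) :=
    mem_centralizer_singleton_iff.2
      (congrArg Subtype.val (mem_center_iff.1 z.2 ⟨x, hxP⟩)).symm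
  rw [hC] at hzc
  have hz1 : ((z : (P : Subgroup G)) : G) ≠ 1 := fun h => hz (Subtype.ext (Subtype.ext h))
  intro y hy
  have hzx : zpowers ((z : (P : Subgroup G)) : G) = zpowers x :=
    zpowers_eq_of_mem (sc_card_zpowers hx hC) hzc hz1
  have hxz : x ∈ zpowers ((z : (P : Subgroup G)) : G) := hzx ▸ mem_zpowers x
  obtain ⟨j, hj⟩ := mem_zpowers_iff.1 hxz
  rw [← hC, mem_centralizer_singleton_iff]
  have hc : Commute y ((z : (P : Subgroup G)) : G) :=
    congrArg Subtype.val (mem_center_iff.1 z.2 ⟨y, hy⟩)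
  rw [← hj]
  exact (hc.zpow_right j).eq

variable {P : Sylow p G} (hP : (P : Subgroup G) = zpowers x)

include hP

theorem sc_card : Nat.card (P : Subgroup G) = p := by rw [hP]; exact sc_card_zpowers hx hC

theorem sc_centralizer_mem {z : G} (hz : z ∈ (P : Subgroup G)) (hz1 : z ≠ 1) {g : G}
    (hg : Commute g z) : g ∈ (P : Subgroup G) := by
  have hxz : x ∈ zpowers z := by
    rw [zpowers_eq_of_mem (sc_card hx hC hP) hz hz1, hP]; exact mem_zpowers x
  obtain ⟨j, hj⟩ := mem_zpowers_iff.1 hxz
  rw [hP, ← hC, mem_centralizer_singleton_iff, ← hj]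
  exact (hg.zpow_right j).eq

theorem sc_centralizer : Subgroup.centralizer ((P : Subgroup G) : Set G) = (P : Subgroup G) := by
  refine le_antisymm (fun g hg => ?_) (le_centralizer_self (sc_card hx hC hP))
  have hxP : x ∈ (P : Subgroup G) := by rw [hP]; exact mem_zpowers x
  exact sc_centralizer_mem hx hC hP hxP (sc_ne_one hx hC) (hg x hxP).symm

theorem sc_factorization : (Nat.card G).factorization p = 1 := by
  have h := P.card_eq_multiplicity
  rw [sc_card hx hC hP] at h
  exact (Nat.pow_right_injective (Fact.out : p.Prime).two_le ((pow_one p).trans h)).symm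

theorem sc_relIndex_dvd :
    (P : Subgroup G).relIndex (normalizer ((P : Subgroup G) : Set G)) ∣ p - 1 := by
  have h := relIndex_centralizer_dvd (G := G) (P := (P : Subgroup G)) (sc_card hx hC hP)
  rwa [sc_centralizer hx hC hP] at h

theorem sc_card_normalizer : Nat.card (normalizer ((P : Subgroup G) : Set G)) =
    p * (P : Subgroup G).relIndex (normalizer ((P : Subgroup G) : Set G)) := by
  rw [← relIndex_bot_left, ← relIndex_mul_relIndex ⊥ (P : Subgroup G) _ bot_le le_normalizer,
    relIndex_bot_left, sc_card hx hC hP]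

omit hx hC hP in
theorem relIndex_pos_of_finite (H K : Subgroup G) : 0 < H.relIndex K :=
  Nat.pos_of_ne_zero index_ne_zero_of_finite

/-- A commutator of two elements of the normalizer lies in the subgroup. -/
theorem sc_commutator_normalizer {a b : G} (ha : a ∈ normalizer ((P : Subgroup G) : Set G))
    (hb : b ∈ normalizer ((P : Subgroup G) : Set G)) : ⁅a, b⁆ ∈ (P : Subgroup G) := by
  haveI : IsCyclic (P : Subgroup G) := isCyclic_of_prime_card (sc_card hx hC hP)
  have hcomm : ∀ u v : MulAut (P : Subgroup G), u * v = v * u := fun u v =>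
    (IsCyclic.mulAutMulEquiv (P : Subgroup G)).injective (by rw [map_mul, map_mul, mul_comm])
  have hk : ⁅(⟨a, ha⟩ : normalizer ((P : Subgroup G) : Set G)),
      (⟨b, hb⟩ : normalizer ((P : Subgroup G) : Set G))⁆ ∈
      (P : Subgroup G).normalizerMonoidHom.ker := by
    rw [MonoidHom.mem_ker, map_commutatorElement, commutatorElement_eq_one_iff_mul_comm]
    exact hcomm _ _
  rw [normalizerMonoidHom_ker, mem_subgroupOf, sc_centralizer hx hC hP] at hk
  exact hk

/-- A normal subgroup containing the Sylow subgroup contains the commutator subgroup. -/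
theorem sc_commutator_le (R : Subgroup G) [R.Normal] (hR : (P : Subgroup G) ≤ R) :
    commutator G ≤ R := by
  have htop := Sylow.normalizer_sup_eq_top' P hR
  rw [commutator_eq_closure, Subgroup.closure_le]
  rintro _ ⟨a, b, rfl⟩
  have hab : ∀ g : G, ∃ n ∈ normalizer ((P : Subgroup G) : Set G), n⁻¹ * g ∈ R := by
    intro g
    have hg : g ∈ normalizer ((P : Subgroup G) : Set G) ⊔ R := htop ▸ mem_top g
    rw [mem_sup_of_normal_right] at hg
    obtain ⟨n, hn, r, hr, rfl⟩ := hg
    exact ⟨n, hn, by simpa using hr⟩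
  obtain ⟨n, hn, hna⟩ := hab a
  obtain ⟨m, hm, hmb⟩ := hab b
  rw [SetLike.mem_coe, ← QuotientGroup.eq_one_iff]
  have e1 : (QuotientGroup.mk' R) a = (QuotientGroup.mk' R) n :=
    ((QuotientGroup.eq).2 hna).symm
  have e2 : (QuotientGroup.mk' R) b = (QuotientGroup.mk' R) m :=
    ((QuotientGroup.eq).2 hmb).symm
  show (QuotientGroup.mk' R) ⁅a, b⁆ = 1
  rw [map_commutatorElement, e1, e2, ← map_commutatorElement]
  exact (QuotientGroup.eq_one_iff _).2 (hR (sc_commutator_normalizer hx hC hP hn hm))

/-- A normal subgroup of order prime to `p` consists of commutators with the element. -/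
theorem sc_le_commutator_of_mem (K H : Subgroup G) [K.Normal] (hK : ¬ p ∣ Nat.card K)
    (hxH : x ∈ H) : K ≤ ⁅K, H⁆ := by
  have hf : ∀ k : K, ⁅(k : G), x⁆ ∈ K := fun k => by
    rw [commutatorElement_def, show (k : G) * x * (k : G)⁻¹ * x⁻¹ =
      (k : G) * (x * (k : G)⁻¹ * x⁻¹) by group]
    exact mul_mem k.2 (Normal.conj_mem ‹_› _ (inv_mem k.2) x)
  let f : K → K := fun k => ⟨⁅(k : G), x⁆, hf k⟩
  have hinj : Function.Injective f := by
    intro k l h
    have h1 : ⁅(k : G), x⁆ = ⁅(l : G), x⁆ := congrArg Subtype.val h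
    simp only [commutatorElement_def, mul_left_inj] at h1
    have h2 : (l : G)⁻¹ * k * x = x * ((l : G)⁻¹ * k) := by
      calc (l : G)⁻¹ * k * x = (l : G)⁻¹ * ((k : G) * x * (k : G)⁻¹) * k := by group
        _ = (l : G)⁻¹ * ((l : G) * x * (l : G)⁻¹) * k := by rw [h1]
        _ = x * ((l : G)⁻¹ * k) := by group
    have h3 : (l : G)⁻¹ * k ∈ zpowers x := hC ▸ mem_centralizer_singleton_iff.2 h2
    have h4 : (l : G)⁻¹ * k = 1 := by
      by_contra hne
      refine hK ?_
      have := orderOf_dvd_natCard (⟨_, mul_mem (inv_mem l.2) k.2⟩ : K)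
      rw [Subgroup.orderOf_mk] at this
      rwa [← Nat.card_zpowers, zpowers_eq_of_mem (sc_card_zpowers hx hC) h3 hne,
        sc_card_zpowers hx hC] at this
    exact Subtype.ext (inv_mul_eq_one.1 h4).symm
  intro k hk
  obtain ⟨l, hl⟩ := (Finite.injective_iff_surjective.1 hinj) ⟨k, hk⟩
  have : ⁅(l : G), x⁆ = k := congrArg Subtype.val hl
  rw [← this]
  exact commutator_mem_commutator l.2 hxH

theorem sc_pPrimeCore_le : pPrimeCore p G ≤ commutator G :=
  (sc_le_commutator_of_mem hx hC hP _ ⊤ (Core.pPrimeCore_not_dvd p G) (mem_top x)).trans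
    (commutator_mono le_top le_rfl)

/-- If the normalizer is bigger, the Sylow subgroup lies in the commutator subgroup. -/
theorem sc_sylow_le_commutator
    (he : (P : Subgroup G).relIndex (normalizer ((P : Subgroup G) : Set G)) ≠ 1) :
    (P : Subgroup G) ≤ commutator G := by
  obtain ⟨n, hn, hnP⟩ := SetLike.not_le_iff_exists.1 (fun h => he (relIndex_eq_one.2 h))
  have hxP : x ∈ (P : Subgroup G) := by rw [hP]; exact mem_zpowers x
  have hc : ⁅n, x⁆ ∈ (P : Subgroup G) :=
    sc_commutator_normalizer hx hC hP hn (le_normalizer hxP)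
  have hne : ⁅n, x⁆ ≠ 1 := fun h => hnP
    (sc_centralizer_mem hx hC hP hxP (sc_ne_one hx hC)
      (commutatorElement_eq_one_iff_mul_comm.1 h))
  rw [← zpowers_eq_of_mem (sc_card hx hC hP) hc hne]
  exact zpowers_le.2 (commutator_mem_commutator (mem_top n) (mem_top x))

theorem sc_index_commutator_dvd
    (he : (P : Subgroup G).relIndex (normalizer ((P : Subgroup G) : Set G)) ≠ 1) :
    (commutator G).index ∣ (P : Subgroup G).relIndex (normalizer ((P : Subgroup G) : Set G)) := by
  have hle := sc_sylow_le_commutator hx hC hP he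
  have htop := Sylow.normalizer_sup_eq_top' P hle
  rw [← relIndex_top_right, ← htop, relIndex_sup_right]
  exact relIndex_dvd_of_le_left _ hle

/-- With a normalizer equal to the subgroup there is a normal complement. -/
theorem sc_complement
    (he : (P : Subgroup G).relIndex (normalizer ((P : Subgroup G) : Set G)) = 1) :
    commutator G = pPrimeCore p G ∧ (commutator G).index = p ∧
      IsCyclic (G ⧸ commutator G) := by
  have hNP : normalizer ((P : Subgroup G) : Set G) ≤ centralizer ((P : Subgroup G) : Set G) := by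
    rw [sc_centralizer hx hC hP]
    exact relIndex_eq_one.1 he
  set S := (MonoidHom.transferSylow P hNP).ker with hS
  have hcompl := MonoidHom.ker_transferSylow_isComplement' P hNP
  have hcop : ¬ p ∣ Nat.card S := MonoidHom.not_dvd_card_ker_transferSylow P hNP
  have hindex : S.index = p := by
    rw [hcompl.symm.index_eq_card, sc_card hx hC hP]
  have h1 : S ≤ pPrimeCore p G := Core.le_pPrimeCore (Core.coprime_iff_not_dvd'.2 hcop)
  have hcyc : IsCyclic (G ⧸ S) :=
    isCyclic_of_prime_card (p := p) (by rw [← index_eq_card, hindex])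
  have h2 : commutator G ≤ S := by
    letI := IsCyclic.commGroup (α := G ⧸ S)
    rw [commutator_eq_closure, closure_le]
    rintro _ ⟨a, b, rfl⟩
    rw [SetLike.mem_coe, ← QuotientGroup.eq_one_iff]
    show (QuotientGroup.mk' S) ⁅a, b⁆ = 1
    rw [map_commutatorElement]
    exact commutatorElement_eq_one_iff_mul_comm.2 (mul_comm _ _)
  have h3 := sc_pPrimeCore_le hx hC hP
  have heq : commutator G = pPrimeCore p G := le_antisymm (h2.trans h1) h3
  have heqS : commutator G = S := le_antisymm h2 (h1.trans h3)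
  refine ⟨heq, by rw [heqS, hindex], ?_⟩
  exact isCyclic_of_prime_card (p := p) (by rw [← index_eq_card, heqS, hindex])

theorem sc_commutator_inf_normalizer :
    pPrimeCore p G ⊓ normalizer ((P : Subgroup G) : Set G) = ⊥ := by
  refine eq_bot_iff.2 fun k hk => ?_
  obtain ⟨hk1, hk2⟩ := mem_inf.1 hk
  have hxP : x ∈ (P : Subgroup G) := by rw [hP]; exact mem_zpowers x
  have hc : ⁅k, x⁆ ∈ pPrimeCore p G ⊓ (P : Subgroup G) := by
    refine mem_inf.2 ⟨?_, sc_commutator_normalizer hx hC hP hk2 (le_normalizer hxP)⟩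
    exact commutator_le_left (pPrimeCore p G) ⊤ (commutator_mem_commutator hk1 (mem_top x))
  have hdis : pPrimeCore p G ⊓ (P : Subgroup G) = ⊥ :=
    inf_eq_bot_of_coprime (by rw [sc_card hx hC hP]; exact Core.pPrimeCore_coprime p G)
  rw [hdis, mem_bot] at hc
  have hkP := sc_centralizer_mem hx hC hP hxP (sc_ne_one hx hC)
    (commutatorElement_eq_one_iff_mul_comm.1 hc)
  rw [← hdis]
  exact mem_inf.2 ⟨hk1, hkP⟩

/-- The conjugates inside the subgroup of a nontrivial element form an orbit of the normalizer. -/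
theorem sc_fiber (z : {z : (P : Subgroup G) // z ≠ 1}) :
    Nat.card {w : {w : (P : Subgroup G) // w ≠ 1} //
        ConjClasses.mk ((w.1 : (P : Subgroup G)) : G) = ConjClasses.mk ((z.1 : (P : Subgroup G)) : G)} =
      (P : Subgroup G).relIndex (normalizer ((P : Subgroup G) : Set G)) := by
  haveI : IsMulCommutative (P : Subgroup G) :=
    haveI : IsCyclic (P : Subgroup G) := isCyclic_of_prime_card (sc_card hx hC hP)
    inferInstance
  set N := normalizer ((P : Subgroup G) : Set G)
  rw [Subgroup.relIndex, index_eq_card]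
  have hz1 : ((z.1 : (P : Subgroup G)) : G) ≠ 1 := fun h => z.2 (Subtype.ext h)
  have hmem : ∀ n : N, (n : G) * ((z.1 : (P : Subgroup G)) : G) * (n : G)⁻¹ ∈ (P : Subgroup G) :=
    fun n => (mem_normalizer_iff.1 n.2 _).1 z.1.2
  let g : N ⧸ (P : Subgroup G).subgroupOf N → {w : {w : (P : Subgroup G) // w ≠ 1} //
    ConjClasses.mk ((w.1 : (P : Subgroup G)) : G) = ConjClasses.mk ((z.1 : (P : Subgroup G)) : G)} := fun q =>
    Quotient.liftOn' q (fun n => ⟨⟨⟨_, hmem n⟩, fun h => hz1
        (conj_eq_one_iff.1 (congrArg Subtype.val h))⟩, 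
          (ConjClasses.mk_eq_mk_iff_isConj.2 (isConj_iff.2 ⟨(n : G), rfl⟩)).symm⟩)
      (fun n m h => by
        rw [QuotientGroup.leftRel_apply, mem_subgroupOf] at h
        refine Subtype.ext (Subtype.ext (Subtype.ext ?_))
        show (n : G) * _ * (n : G)⁻¹ = (m : G) * _ * (m : G)⁻¹
        have hc : Commute ((n : G)⁻¹ * m) ((z.1 : (P : Subgroup G)) : G) :=
          congrArg Subtype.val (mul_comm'
            (⟨(n : G)⁻¹ * m, by simpa using h⟩ : (P : Subgroup G)) z.1)
        calc (n : G) * _ * (n : G)⁻¹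
            = (n : G) * (((n : G)⁻¹ * m) * ((z.1 : (P : Subgroup G)) : G) *
                ((n : G)⁻¹ * m)⁻¹) * (n : G)⁻¹ := by rw [hc.eq, mul_inv_cancel_right]
          _ = _ := by group)
  symm
  refine Nat.card_congr (Equiv.ofBijective g ⟨?_, ?_⟩)
  · intro q r hqr
    induction q using QuotientGroup.induction_on with | H n => ?_
    induction r using QuotientGroup.induction_on with | H m => ?_
    refine QuotientGroup.eq.2 ?_
    have h1 : (n : G) * ((z.1 : (P : Subgroup G)) : G) * (n : G)⁻¹ =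
        (m : G) * ((z.1 : (P : Subgroup G)) : G) * (m : G)⁻¹ :=
      congrArg (fun w => ((w.1.1 : (P : Subgroup G)) : G)) hqr
    rw [mem_subgroupOf]
    refine sc_centralizer_mem hx hC hP z.1.2 hz1 ?_
    show ((n⁻¹ * m : N) : G) * _ = _
    push_cast
    calc (n : G)⁻¹ * m * ((z.1 : (P : Subgroup G)) : G)
        = (n : G)⁻¹ * ((m : G) * ((z.1 : (P : Subgroup G)) : G) * (m : G)⁻¹) * m := by group
      _ = (n : G)⁻¹ * ((n : G) * ((z.1 : (P : Subgroup G)) : G) * (n : G)⁻¹) * m := by rw [h1]
      _ = _ := by group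
  · rintro ⟨w, hw⟩
    have hconj : IsConj ((w.1 : (P : Subgroup G)) : G) ((z.1 : (P : Subgroup G)) : G) :=
      ConjClasses.mk_eq_mk_iff_isConj.1 hw
    obtain ⟨a, ha⟩ := isConj_iff.1 hconj.symm
    obtain ⟨n, hn, hna⟩ := P.conj_eq_normalizer_conj_of_mem ((z.1 : (P : Subgroup G)) : G) a⁻¹
      z.1.2 (by rw [inv_inv, ha]; exact w.1.2)
    refine ⟨((⟨n⁻¹, inv_mem hn⟩ : N) : N ⧸ (P : Subgroup G).subgroupOf N),
      Subtype.ext (Subtype.ext (Subtype.ext ?_))⟩
    show n⁻¹ * _ * n⁻¹⁻¹ = _
    rw [inv_inv, ← hna, inv_inv]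
    exact ha

/-- The classes of elements of order `p` are the orbits of the normalizer. -/
theorem sc_classes :
    Nat.card {C : ConjClasses G // ∃ g ∈ C.carrier, orderOf g = p} *
      (P : Subgroup G).relIndex (normalizer ((P : Subgroup G) : Set G)) = p - 1 := by
  classical
  haveI : IsMulCommutative (P : Subgroup G) :=
    haveI : IsCyclic (P : Subgroup G) := isCyclic_of_prime_card (sc_card hx hC hP)
    inferInstance
  set N := normalizer ((P : Subgroup G) : Set G)
  have hp : p.Prime := Fact.out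
  have hord : ∀ z : G, z ∈ (P : Subgroup G) → z ≠ 1 → orderOf z = p := fun z hz hz1 => by
    rw [← Nat.card_zpowers, zpowers_eq_of_mem (sc_card hx hC hP) hz hz1, sc_card hx hC hP]
  let f : {z : (P : Subgroup G) // z ≠ 1} → {C : ConjClasses G // ∃ g ∈ C.carrier, orderOf g = p} :=
    fun z => ⟨ConjClasses.mk ((z.1 : (P : Subgroup G)) : G), _, ConjClasses.mem_carrier_mk,
      hord _ z.1.2 fun h => z.2 (Subtype.ext h)⟩
  have hsurj : Function.Surjective f := by
    rintro ⟨C, g, hgC, hg⟩
    obtain ⟨Q, hQ⟩ := (IsPGroup.of_card (G := zpowers g) (p := p) (n := 1)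
      (by rw [Nat.card_zpowers, hg, pow_one])).exists_le_sylow
    obtain ⟨a, ha⟩ := MulAction.exists_smul_eq G Q P
    have hga : a * g * a⁻¹ ∈ (P : Subgroup G) := by
      rw [← ha, Sylow.coe_subgroup_smul]
      exact ⟨g, hQ (mem_zpowers g), by simp⟩
    have hga1 : a * g * a⁻¹ ≠ 1 := fun h => by
      rw [conj_eq_one_iff] at h
      rw [h, orderOf_one] at hg
      exact hp.ne_one hg.symm
    refine ⟨⟨⟨_, hga⟩, fun h => hga1 (congrArg Subtype.val h)⟩, Subtype.ext ?_⟩
    show ConjClasses.mk (a * g * a⁻¹) = C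
    rw [ConjClasses.mk_eq_mk_iff_isConj.2 (isConj_iff.2 ⟨a, rfl⟩).symm]
    exact (ConjClasses.mem_carrier_iff_mk_eq.1 hgC)
  have hfib := sc_fiber hx hC hP
  replace hfib : ∀ C, Nat.card {z // f z = C} = (P : Subgroup G).relIndex N := fun C => by
    obtain ⟨z, rfl⟩ := hsurj C
    exact (Nat.card_congr (Equiv.subtypeEquivRight fun w => Subtype.ext_iff)).trans (hfib z)
  have h := Nat.card_congr (Equiv.sigmaFiberEquiv f)
  rw [Nat.card_sigma, Finset.sum_congr rfl fun C _ => hfib C, Finset.sum_const, Finset.card_univ,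
    smul_eq_mul, ← Nat.card_eq_fintype_card] at h
  rw [h, Nat.card_eq_fintype_card, Fintype.card_subtype_compl, Fintype.card_subtype_eq,
    ← Nat.card_eq_fintype_card, sc_card hx hC hP]

/-- The number of subgroups of order `p`. -/
theorem sc_count : Nat.card {H : Subgroup G // Nat.card H = p} =
    (normalizer ((P : Subgroup G) : Set G)).index := by
  refine Eq.trans ?_ (Sylow.card_eq_index_normalizer P)
  refine Nat.card_congr
    { toFun := fun H => Sylow.ofCard H.1 (by rw [H.2, sc_factorization hx hC hP, pow_one])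
      invFun := fun Q => ⟨Q, by rw [Q.card_eq_multiplicity, sc_factorization hx hC hP, pow_one]⟩
      left_inv := fun H => rfl
      right_inv := fun Q => rfl }

end Cfsg.Lib.Block
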