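import Cfsg.Agent.Lib.Block.SelfCentral
import Cfsg.Agent.Lib.Char.Extension
import Cfsg.Agent.Lib.Char.Linear
import Mathlib.RingTheory.RootsOfUnity.PrimitiveRoots

/-!
# Characters of groups with a self-centralizing element of prime order
-/

set_option autoImplicit false
set_option linter.unusedSectionVars false
set_option maxHeartbeats 1000000
set_option linter.style.haveILetI false

namespace Cfsg.Lib.Block

open Cfsg
open scoped ComplexConjugate

universe u v

noncomputable local instance (priority := high) fintypeSubgroupSelfCentralChar {A : Type u}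
    [Group A] [Fintype A] (H : Subgroup A) : Fintype H := Fintype.ofFinite H

variable {G : Type u} [Group G] [Fintype G] {p : ℕ} [Fact p.Prime]

open Classical in
/-- The weight of a Sylow subgroup of order `p` in the norm of an irreducible character. -/
theorem sylow_norm_le (χ : IrrCharacter G) (P : Sylow p G) (hcard : Nat.card (P : Subgroup G) = p) :
    ‖(χ : G → ℂ) 1‖ ^ 2 + ((Subgroup.normalizer ((P : Subgroup G) : Set G)).index : ℝ) *
        (∑ z ∈ Finset.univ.filter fun z : G => z ∈ (P : Subgroup G) ∧ z ≠ 1,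
          ‖(χ : G → ℂ) z‖ ^ 2) ≤ (Nat.card G : ℝ) := by
  set S := Finset.univ.filter fun z : G => z ∈ (P : Subgroup G) ∧ z ≠ 1 with hS
  have hnorm : (∑ g, ‖(χ : G → ℂ) g‖ ^ 2) = (Nat.card G : ℝ) := by
    have h := Char.classInner_irr_self χ.2
    rw [Char.classInner_self, ← Complex.ofReal_one, Complex.ofReal_inj] at h
    have hG : (Nat.card G : ℝ) ≠ 0 := Nat.cast_ne_zero.2 Nat.card_pos.ne'
    field_simp at h
    linarith [h]
  have hcQ : ∀ Q : Sylow p G, Nat.card (Q : Subgroup G) = p := fun Q =>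
    Q.card_eq_multiplicity.trans (P.card_eq_multiplicity.symm.trans hcard)
  have hcl : ∀ g z : G, (χ : G → ℂ) (g * z * g⁻¹) = (χ : G → ℂ) z :=
    fun g z => χ.2.isClassFunction z g
  choose a ha using fun Q : Sylow p G => MulAction.exists_smul_eq G P Q
  have hmem : ∀ (Q : Sylow p G), ∀ z ∈ S, a Q * z * (a Q)⁻¹ ∈ (Q : Subgroup G) := by
    intro Q z hz
    have : a Q * z * (a Q)⁻¹ ∈ ((a Q • P : Sylow p G) : Subgroup G) := by
      rw [Sylow.coe_subgroup_smul]
      exact ⟨z, (Finset.mem_filter.1 hz).2.1, rfl⟩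
    rwa [ha] at this
  have hinj : Set.InjOn (fun q : Sylow p G × G => a q.1 * q.2 * (a q.1)⁻¹)
      ((Finset.univ ×ˢ S : Finset (Sylow p G × G)) : Set (Sylow p G × G)) := by
    rintro ⟨Q, z⟩ hz ⟨Q', z'⟩ hz' (e : a Q * z * (a Q)⁻¹ = a Q' * z' * (a Q')⁻¹)
    simp only [Finset.coe_product, Set.mem_prod, Finset.mem_coe] at hz hz'
    have hne : a Q * z * (a Q)⁻¹ ≠ 1 := fun h =>
      (Finset.mem_filter.1 hz.2).2.2 (conj_eq_one_iff.1 h)
    have h1 := zpowers_eq_of_mem (hcQ Q) (hmem Q z hz.2) hne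
    have h2 := zpowers_eq_of_mem (hcQ Q') (hmem Q' z' hz'.2) (e ▸ hne)
    obtain rfl : Q = Q' := Sylow.ext (by rw [← h1, ← h2, e])
    simpa using e
  have hsub : insert (1 : G) ((Finset.univ ×ˢ S).image
      fun q : Sylow p G × G => a q.1 * q.2 * (a q.1)⁻¹) ⊆ Finset.univ := Finset.subset_univ _
  have hone : (1 : G) ∉ (Finset.univ ×ˢ S).image
      fun q : Sylow p G × G => a q.1 * q.2 * (a q.1)⁻¹ := by
    intro h
    obtain ⟨⟨Q, z⟩, hz, e⟩ := Finset.mem_image.1 h
    exact (Finset.mem_filter.1 (Finset.mem_product.1 hz).2).2.2 (conj_eq_one_iff.1 e)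
  have h := Finset.sum_le_sum_of_subset_of_nonneg hsub
    (f := fun g => ‖(χ : G → ℂ) g‖ ^ 2) fun g _ _ => by positivity
  rw [hnorm, Finset.sum_insert hone, Finset.sum_image hinj, Finset.sum_product] at h
  simp only [hcl] at h
  rw [Finset.sum_const, Finset.card_univ, nsmul_eq_mul, ← Nat.card_eq_fintype_card,
    Sylow.card_eq_index_normalizer P] at h
  exact h

/-- If the trivial character is no constituent, the sum over the subgroup acts as zero. -/
theorem sum_rho_eq_zero {V : Type v} [AddCommGroup V] [Module ℂ V] [FiniteDimensional ℂ V]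
    (ρ : Representation ℂ G V) (H : Subgroup G) (h : ∑ z : H, ρ.character (z : G) = 0) :
    ∑ z : H, ρ (z : G) = 0 := by
  letI : Invertible (Fintype.card H : ℂ) := invertibleOfNonzero
    (Nat.cast_ne_zero.2 Fintype.card_ne_zero)
  set σ : Representation ℂ H V := ρ.comp H.subtype with hσ
  have hproj := σ.isProj_averageMap
  have htr := hproj.trace
  have hav : σ.averageMap = ⅟ (Fintype.card H : ℂ) • ∑ z : H, ρ (z : G) := by
    simp [Representation.averageMap, GroupAlgebra.average, hσ, map_sum]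
  rw [hav, map_smul, map_sum] at htr
  simp only [Representation.character] at h
  rw [h, smul_zero] at htr
  have hbot : σ.invariants = ⊥ := Submodule.finrank_eq_zero.1 (by exact_mod_cast htr.symm)
  refine LinearMap.ext fun v => ?_
  have hv := σ.averageMap_invariant v
  rw [hbot, Submodule.mem_bot, hav, LinearMap.smul_apply, smul_eq_zero] at hv
  rw [LinearMap.zero_apply]
  exact hv.resolve_left (by simp)

/-- The product of all roots of unity of even order is `-1`. -/
theorem prod_roots_even {e : ℕ} {ζ : ℂ} (hζ : IsPrimitiveRoot ζ e) (he : 0 < e) (hev : Even e) :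
    ∏ i ∈ Finset.range e, ζ ^ i = -1 := by
  rw [Finset.prod_pow_eq_pow_sum]
  obtain ⟨j, rfl⟩ := hev
  have h2 : ∑ i ∈ Finset.range (j + j), i = j * (j + j - 1) := by
    have h3 := Finset.sum_range_id_mul_two (j + j)
    refine Nat.eq_of_mul_eq_mul_right (by norm_num : (0 : ℕ) < 2) (h3.trans ?_)
    ring
  have hhalf : ζ ^ j = -1 := by
    refine ((sq_eq_one_iff).1 ?_).resolve_left
      (hζ.pow_ne_one_of_pos_of_lt (by omega) (by omega))
    rw [← pow_mul, mul_two, hζ.pow_eq_one]
  rw [h2, pow_mul, hhalf]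
  exact Odd.neg_one_pow ⟨j - 1, by omega⟩

variable {x : G} (hx : orderOf x = p)
  (hC : Subgroup.centralizer ({x} : Set G) = Subgroup.zpowers x)
  {P : Sylow p G} (hP : (P : Subgroup G) = Subgroup.zpowers x) {χ : IrrCharacter G}
  (hχ : charDegree (χ : G → ℂ) + 1 = p)
  (he : (P : Subgroup G).relIndex (Subgroup.normalizer ((P : Subgroup G) : Set G)) ≠ 1)

include hx hC hP hχ he

open Classical in
/-- A character of degree `p - 1` has no trivial constituent on the Sylow subgroup. -/
theorem sum_sylow_eq_zero : ∑ z : (P : Subgroup G), (χ : G → ℂ) z = 0 := by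
  have hp : p.Prime := Fact.out
  set N := Subgroup.normalizer ((P : Subgroup G) : Set G) with hN
  set e := (P : Subgroup G).relIndex N with he'
  set d := charDegree (χ : G → ℂ) with hd
  have hcard := sc_card hx hC hP
  have hab : ∀ a c : (P : Subgroup G), a * c = c * a := fun a c =>
    Subtype.ext (comm_of_card_prime hcard _ a.2 _ c.2)
  set F : ↥(P : Subgroup G) → ℂ := fun z => (χ : G → ℂ) z with hF
  have hFc : IsCharacter ↥(P : Subgroup G) F := χ.2.isCharacter.comp (P : Subgroup G).subtype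
  choose m hm using fun θ : IrrCharacter (P : Subgroup G) => hFc.exists_nat_classInner θ.2.isCharacter
  let one : IrrCharacter (P : Subgroup G) := ⟨fun _ => 1, Char.isIrrCharacter_one⟩
  -- the multiplicities
  have hsum : ∑ θ, m θ = d := by
    have h := congrFun (Char.eq_sum_classInner hFc.isClassFunction) 1
    simp only [Finset.sum_apply, Pi.smul_apply, smul_eq_mul, hm] at h
    rw [Finset.sum_congr rfl fun θ _ => by
      rw [Char.degree_eq_one_of_comm hab θ.2, mul_one]] at h
    rw [show F 1 = (d : ℂ) from apply_one_eq_charDegree χ] at h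
    exact_mod_cast h.symm
  have hm0 : (p : ℂ) * (m one : ℂ) = ∑ z, F z := by
    rw [← hm one, classInner, hcard]
    simp [one, (Fact.out : p.Prime).ne_zero]
  set Sr := ∑ z ∈ Finset.univ.filter fun z : G => z ∈ (P : Subgroup G) ∧ z ≠ 1,
    ‖(χ : G → ℂ) z‖ ^ 2 with hSr
  have hpar : (p : ℝ) * ∑ θ, (m θ : ℝ) ^ 2 = (d : ℝ) ^ 2 + Sr := by
    have h := Char.classInner_eq_sum (f' := F) hFc.isClassFunction
    rw [Char.classInner_self, hcard] at h
    simp only [hm, map_natCast] at h
    have h' : (p : ℝ)⁻¹ * ∑ z, ‖F z‖ ^ 2 = ∑ θ, (m θ : ℝ) * (m θ : ℝ) := by exact_mod_cast h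
    have hsplit : ∑ z, ‖F z‖ ^ 2 = (d : ℝ) ^ 2 + Sr := by
      rw [← Finset.add_sum_erase _ _ (Finset.mem_univ (1 : (P : Subgroup G)))]
      congr 1
      · rw [show F 1 = (d : ℂ) from apply_one_eq_charDegree χ, Complex.norm_natCast]
      · rw [hSr]
        refine Finset.sum_bij (fun z _ => (z : G)) (fun z hz => ?_) (fun a _ c _ h => Subtype.ext h)
          (fun w hw => ?_) fun _ _ => rfl
        · exact Finset.mem_filter.2 ⟨Finset.mem_univ _, z.2,
            fun h => (Finset.mem_erase.1 hz).1 (Subtype.ext h)⟩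
        · obtain ⟨-, hw1, hw2⟩ := Finset.mem_filter.1 hw
          exact ⟨⟨w, hw1⟩, Finset.mem_erase.2 ⟨fun h => hw2 (congrArg Subtype.val h),
            Finset.mem_univ _⟩, rfl⟩
    rw [← hsplit, Finset.sum_congr rfl fun θ _ => sq (m θ : ℝ), ← h']
    exact mul_inv_cancel_left₀ (Nat.cast_ne_zero.2 hp.ne_zero) _
  -- the norm bound
  have hG : Nat.card G = N.index * (p * e) := by
    rw [← N.index_mul_card, hN, sc_card_normalizer hx hC hP]
  have hSlt : Sr < (p * e : ℕ) := by
    have h := sylow_norm_le χ P hcard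
    rw [← hN, ← hSr, hG, apply_one_eq_charDegree, Complex.norm_natCast, Nat.cast_mul] at h
    have hidx : (0 : ℝ) < (N.index : ℝ) :=
      Nat.cast_pos.2 (Nat.pos_of_ne_zero Subgroup.index_ne_zero_of_finite)
    have hd0 : (0 : ℝ) < (d : ℝ) := Nat.cast_pos.2 (charDegree_pos χ)
    nlinarith
  have hbound : ∑ θ, m θ ^ 2 + 1 ≤ d + e := by
    have h1 : (p : ℝ) * ∑ θ, (m θ : ℝ) ^ 2 < (d : ℝ) ^ 2 + (p * e : ℕ) := by
      rw [hpar]; linarith
    have h2 : p * ∑ θ, m θ ^ 2 < d ^ 2 + p * e := by exact_mod_cast h1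
    have h3 : d ^ 2 + p * e + 2 * p = p * (d + e + 1) + 1 := by rw [← hχ]; ring
    by_contra h4
    push Not at h4
    have h5 : p * (d + e) ≤ p * ∑ θ, m θ ^ 2 := Nat.mul_le_mul_left p (Nat.le_of_lt_succ h4)
    have := hp.one_lt
    rw [Nat.mul_add, mul_one] at h3
    omega
  have hlow : m one ^ 2 + d ≤ ∑ θ, m θ ^ 2 + m one := by
    rw [← hsum, ← Finset.add_sum_erase _ m (Finset.mem_univ one),
      ← Finset.add_sum_erase _ (fun θ => m θ ^ 2) (Finset.mem_univ one)]
    have : ∑ θ ∈ Finset.univ.erase one, m θ ≤ ∑ θ ∈ Finset.univ.erase one, m θ ^ 2 :=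
      Finset.sum_le_sum fun θ _ => Nat.le_self_pow two_ne_zero _
    linarith
  -- the multiplicity of the trivial character is a multiple of the inertial index
  have hedvd : e ∣ m one := by
    haveI : Finite (ConjClasses G) := Quotient.finite _
    haveI : Fintype (ConjClasses G) := Fintype.ofFinite _
    let f : {z : (P : Subgroup G) // z ≠ 1} → ConjClasses G := fun z =>
      ConjClasses.mk ((z.1 : (P : Subgroup G)) : G)
    have hrest : ∑ z : {z : (P : Subgroup G) // z ≠ 1}, F z.1 =
        (e : ℂ) * ∑ C ∈ Finset.univ.image f, (χ : G → ℂ) C.out := by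
      rw [← Finset.sum_fiberwise_of_maps_to (g := f) (t := Finset.univ.image f)
        (fun z _ => Finset.mem_image_of_mem f (Finset.mem_univ z)), Finset.mul_sum]
      refine Finset.sum_congr rfl fun C hC' => ?_
      obtain ⟨z, -, rfl⟩ := Finset.mem_image.1 hC'
      rw [Finset.sum_congr rfl (g := fun _ => (χ : G → ℂ) (f z).out) fun w hw => ?_,
        Finset.sum_const, nsmul_eq_mul, ← Fintype.card_subtype, ← Nat.card_eq_fintype_card,
        sc_fiber hx hC hP z]
      obtain ⟨c, hc⟩ := isConj_iff.1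
        ((ConjClasses.mk_eq_mk_iff_isConj (a := (f z).out)).1
          ((Quotient.out_eq (f z)).trans (Finset.mem_filter.1 hw).2.symm))
      show (χ : G → ℂ) ((w.1 : (P : Subgroup G)) : G) = _
      rw [← hc]
      exact χ.2.isClassFunction _ _
    have hpe : ∑ z, F z = (d : ℂ) + (e : ℂ) * ∑ C ∈ Finset.univ.image f, (χ : G → ℂ) C.out := by
      rw [← hrest, ← Finset.sum_subtype (Finset.univ.erase (1 : (P : Subgroup G))) (by simp)
        (fun z => F z), ← Finset.add_sum_erase _ _ (Finset.mem_univ (1 : (P : Subgroup G))),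
        show F 1 = (d : ℂ) from apply_one_eq_charDegree χ]
    rw [← hm0] at hpe
    obtain ⟨q, hq⟩ : e ∣ d := by
      have := sc_relIndex_dvd hx hC hP
      rwa [show p - 1 = d by omega] at this
    have he0 : (e : ℂ) ≠ 0 := Nat.cast_ne_zero.2 (relIndex_pos_of_finite _ _).ne'
    have hint : IsIntegral ℤ (((p : ℂ) * (m one : ℂ)) / (e : ℂ)) := by
      rw [hpe, hq, Nat.cast_mul, ← mul_add, mul_div_cancel_left₀ _ he0]
      exact (isIntegral_algebraMap (x := (q : ℤ))).add
        (IsIntegral.sum _ fun C _ => χ.2.isCharacter.isIntegral _)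
    have hint' : IsIntegral ℤ (((p * m one : ℕ) : ℚ) / (e : ℚ)) := by
      refine (isIntegral_algHom_iff (Algebra.ofId ℚ ℂ |>.restrictScalars ℤ)
        (algebraMap ℚ ℂ).injective).1 ?_
      simpa using hint
    obtain ⟨k, hk⟩ := IsIntegrallyClosed.isIntegral_iff.1 hint'
    have hk' : ((p * m one : ℕ) : ℤ) = k * (e : ℤ) := by
      have : ((p * m one : ℕ) : ℚ) = (k : ℚ) * (e : ℚ) := by
        rw [eq_div_iff (Nat.cast_ne_zero.2 (relIndex_pos_of_finite _ _).ne')] at hk
        exact hk.symm
      exact_mod_cast this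
    have hdvd : e ∣ p * m one := Int.natCast_dvd_natCast.1 ⟨k, by rw [hk', mul_comm]⟩
    refine (Nat.Coprime.dvd_of_dvd_mul_left ?_ hdvd)
    refine (hp.coprime_iff_not_dvd.2 fun h => ?_).symm
    have : e ≤ p - 1 := Nat.le_of_dvd (by have := hp.one_lt; omega) (sc_relIndex_dvd hx hC hP)
    have h' := Nat.le_of_dvd (relIndex_pos_of_finite _ _) h
    omega
  have he1 : 1 < e := by
    have := relIndex_pos_of_finite (P : Subgroup G) N
    omega
  obtain ⟨q, hq⟩ := hedvd
  have hzero : m one = 0 := by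
    by_contra h
    have hq0 : 1 ≤ q := Nat.one_le_iff_ne_zero.2 fun h0 => h (by rw [hq, h0, mul_zero])
    have h1 : m one ^ 2 + 1 ≤ m one + e := by omega
    rw [hq] at h1
    have h2 : e ≤ e * q := Nat.le_mul_of_pos_right e hq0
    nlinarith
  show ∑ z, F z = 0
  rw [← hm0, hzero, Nat.cast_zero, mul_zero]

open Classical in
/-- The determinant of a character of degree `p - 1` takes the value `-1` when the number of
classes of elements of order `p` is odd. -/
theorem exists_det_neg_one
    (hodd : Odd ((p - 1) / (P : Subgroup G).relIndex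
      (Subgroup.normalizer ((P : Subgroup G) : Set G)))) :
    ∃ (ψ : G →* ℂˣ) (g : G), ψ g = -1 := by
  have hp : p.Prime := Fact.out
  set N := Subgroup.normalizer ((P : Subgroup G) : Set G) with hN
  set e := (P : Subgroup G).relIndex N with he'
  have hcard := sc_card hx hC hP
  have hnorm : ((P : Subgroup G).subgroupOf N).Normal := Subgroup.normal_in_normalizer
  haveI : IsCyclic (↥N ⧸ (P : Subgroup G).subgroupOf N) := by
    have h := isCyclic_normalizer_quotient (G := G) (P := (P : Subgroup G)) hcard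
    have e1 : (Subgroup.centralizer ((P : Subgroup G) : Set G)).subgroupOf N =
        (P : Subgroup G).subgroupOf N := by rw [sc_centralizer hx hC hP]
    haveI := e1.symm ▸ hnorm
    exact isCyclic_of_surjective _ (QuotientGroup.quotientMulEquivOfEq e1).surjective
  obtain ⟨q, hq⟩ := IsCyclic.exists_ofOrder_eq_natCard (α := ↥N ⧸ (P : Subgroup G).subgroupOf N)
  obtain ⟨n₀, rfl⟩ := QuotientGroup.mk_surjective q
  have hqe : orderOf (n₀ : ↥N ⧸ (P : Subgroup G).subgroupOf N) = e := by
    rw [hq, ← Subgroup.index_eq_card]; rfl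
  have hcop : p.Coprime e := hp.coprime_iff_not_dvd.2 fun h => by
    have h1 : e ≤ p - 1 := Nat.le_of_dvd (by have := hp.one_lt; omega) (sc_relIndex_dvd hx hC hP)
    have h' := Nat.le_of_dvd (relIndex_pos_of_finite _ _) h
    omega
  set n : G := ((n₀ ^ p : N) : G) with hn
  have hnN : n ∈ N := (n₀ ^ p).2
  have hne : n ^ e = 1 := by
    have h1 : ((n₀ : G)) ^ e ∈ (P : Subgroup G) := by
      have := pow_orderOf_eq_one (n₀ : ↥N ⧸ (P : Subgroup G).subgroupOf N)
      rw [hqe, ← QuotientGroup.mk_pow, QuotientGroup.eq_one_iff, Subgroup.mem_subgroupOf] at this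
      simpa using this
    rw [hn, SubmonoidClass.coe_pow, ← pow_mul, mul_comm, pow_mul]
    have h2 := pow_card_eq_one' (x := (⟨_, h1⟩ : (P : Subgroup G)))
    rw [hcard] at h2
    exact congrArg Subtype.val h2
  have hnot : ∀ k : ℕ, ¬ e ∣ k → n ^ k ∉ (P : Subgroup G) := by
    intro k hk h
    refine hk (hcop.symm.dvd_of_dvd_mul_left ?_)
    rw [← hqe, orderOf_dvd_iff_pow_eq_one, ← QuotientGroup.mk_pow, QuotientGroup.eq_one_iff,
      Subgroup.mem_subgroupOf]
    simpa [hn, pow_mul] using h
  obtain ⟨dim, ρ, -, hρ⟩ := χ.2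
  have hzero : ∀ m ∈ N, m ∉ (P : Subgroup G) → (χ : G → ℂ) m = 0 := by
    intro m hm hmP
    have hmem : ∀ z : (P : Subgroup G), m⁻¹ * (z : G) * m * (z : G)⁻¹ ∈ (P : Subgroup G) := by
      intro z
      refine mul_mem ?_ (inv_mem z.2)
      simpa using (Subgroup.mem_normalizer_iff.1 (inv_mem hm) (z : G)).1 z.2
    let f : ↥(P : Subgroup G) → ↥(P : Subgroup G) := fun z => ⟨_, hmem z⟩
    have hf : Function.Bijective f := by
      refine Finite.injective_iff_bijective.1 fun a c h => ?_
      have h1 : m⁻¹ * (a : G) * m * (a : G)⁻¹ = m⁻¹ * (c : G) * m * (c : G)⁻¹ :=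
        congrArg Subtype.val h
      have hac : (a : G) * c = c * a := comm_of_card_prime hcard _ a.2 _ c.2
      have h2 : Commute m ((c : G)⁻¹ * a) := by
        show m * ((c : G)⁻¹ * a) = (c : G)⁻¹ * a * m
        calc m * ((c : G)⁻¹ * a) = m * ((c : G)⁻¹ * ((a : G) * c) * (c : G)⁻¹) := by group
          _ = m * ((a : G) * (c : G)⁻¹) := by rw [hac]; group
          _ = m * ((a : G) * (c : G)⁻¹) := rfl
          _ = _ := ?_
        have h3 : (a : G) * m * (a : G)⁻¹ = (c : G) * m * (c : G)⁻¹ := by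
          calc (a : G) * m * (a : G)⁻¹ = m * (m⁻¹ * (a : G) * m * (a : G)⁻¹) := by group
            _ = m * (m⁻¹ * (c : G) * m * (c : G)⁻¹) := by rw [h1]
            _ = _ := by group
        have hca : (c : G)⁻¹ * a = a * (c : G)⁻¹ :=
          ((show Commute (a : G) c from hac).inv_right).symm.eq
        rw [← hca]
        calc m * ((c : G)⁻¹ * a) = (c : G)⁻¹ * ((c : G) * m * (c : G)⁻¹) * a := by group
          _ = (c : G)⁻¹ * ((a : G) * m * (a : G)⁻¹) * a := by rw [h3]
          _ = _ := by group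
      by_contra hne'
      refine hmP (sc_centralizer_mem hx hC hP (mul_mem (inv_mem c.2) a.2) (fun h0 => hne' ?_) h2)
      exact Subtype.ext (inv_mul_eq_one.1 h0).symm
    have hconst : ∀ z : (P : Subgroup G), (χ : G → ℂ) (m * (z : G)) = (χ : G → ℂ) m := by
      intro z
      obtain ⟨w, rfl⟩ := hf.surjective z
      show (χ : G → ℂ) (m * (m⁻¹ * (w : G) * m * (w : G)⁻¹)) = _
      rw [show m * (m⁻¹ * (w : G) * m * (w : G)⁻¹) = (w : G) * m * (w : G)⁻¹ by group]
      exact χ.2.isClassFunction _ _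
    have h0 := sum_rho_eq_zero ρ (P : Subgroup G)
      (by rw [hρ]; exact sum_sylow_eq_zero hx hC hP hχ he)
    have h1 : ∑ z : (P : Subgroup G), (χ : G → ℂ) (m * (z : G)) = 0 := by
      rw [← hρ]
      simp only [Representation.character, map_mul]
      rw [← map_sum, ← Finset.mul_sum, h0, mul_zero, map_zero]
    rw [Finset.sum_congr rfl fun z _ => hconst z, Finset.sum_const, Finset.card_univ,
      ← Nat.card_eq_fintype_card, hcard, nsmul_eq_mul, mul_eq_zero] at h1
    exact h1.resolve_left (Nat.cast_ne_zero.2 hp.ne_zero)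
  obtain ⟨b, μ, hb, hμ⟩ := Char.exists_eigenbasis ρ n
  have hdim : (χ : G → ℂ) 1 = (Module.finrank ℂ (Fin dim → ℂ) : ℂ) := by
    rw [← hρ]; exact Representation.char_one ρ
  have hfr : Module.finrank ℂ (Fin dim → ℂ) = p - 1 := by
    rw [apply_one_eq_charDegree, Nat.cast_inj] at hdim
    omega
  have hpow : ∀ k : ℕ, (χ : G → ℂ) (n ^ k) = ∑ i, μ i ^ k := by
    intro k
    rw [← hρ]
    refine Char.trace_eq_sum_of_eigenbasis _ b _ fun i => ?_
    induction k with
    | zero => simp
    | succ j ih => rw [pow_succ, map_mul, Module.End.mul_apply, hb, map_smul, ih, smul_smul,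
        pow_succ']
  have hμe : ∀ i, μ i ^ e = 1 := fun i => by
    obtain ⟨c, hc⟩ := orderOf_dvd_of_pow_eq_one hne
    rw [hc, pow_mul, hμ, one_pow]
  have he0 : 0 < e := relIndex_pos_of_finite _ _
  have hζ := Complex.isPrimitiveRoot_exp e he0.ne'
  set ζ := Complex.exp (2 * Real.pi * Complex.I / (e : ℂ)) with hζdef
  haveI : NeZero e := ⟨he0.ne'⟩
  have hidx : ∀ i, ∃ j ∈ Finset.range e, μ i = ζ ^ j := fun i => by
    obtain ⟨j, hj, hje⟩ := hζ.eq_pow_of_pow_eq_one (hμe i)
    exact ⟨j, Finset.mem_range.2 hj, hje.symm⟩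
  choose idx hidx hidx' using hidx
  have hfib : ∀ j ∈ Finset.range e, (Finset.univ.filter fun i => idx i = j).card * e = p - 1 := by
    intro j hj
    have hsum : ∀ i, ∑ k ∈ Finset.range e, (μ i / ζ ^ j) ^ k =
        if idx i = j then (e : ℂ) else 0 := by
      intro i
      have hz : ζ ^ j ≠ 0 := pow_ne_zero _ (hζ.ne_zero he0.ne')
      split_ifs with h
      · rw [hidx' i, h, div_self hz]; simp
      · have hr1 : μ i / ζ ^ j ≠ 1 := fun h1 => by
          rw [div_eq_one_iff_eq hz, hidx' i] at h1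
          exact h (hζ.pow_inj (Finset.mem_range.1 (hidx i)) (Finset.mem_range.1 hj) h1)
        rw [geom_sum_eq hr1, div_pow, hμe, ← pow_mul, mul_comm j, pow_mul, hζ.pow_eq_one, one_pow,
          div_one, sub_self, zero_div]
    have h1 : ∑ k ∈ Finset.range e, (χ : G → ℂ) (n ^ k) / (ζ ^ j) ^ k =
        ((Finset.univ.filter fun i => idx i = j).card : ℂ) * (e : ℂ) := by
      simp only [hpow, Finset.sum_div, ← div_pow]
      rw [Finset.sum_comm, Finset.sum_congr rfl fun i _ => hsum i, ← Finset.sum_filter,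
        Finset.sum_const, nsmul_eq_mul]
    rw [Finset.sum_eq_single_of_mem 0 (Finset.mem_range.2 he0) (fun k hk hk0 => by
      rw [hzero _ (pow_mem hnN k) (hnot k fun hd => hk0 (Nat.eq_zero_of_dvd_of_lt hd
        (Finset.mem_range.1 hk))), zero_div]), pow_zero, pow_zero, div_one,
      apply_one_eq_charDegree] at h1
    rw [show p - 1 = charDegree (χ : G → ℂ) by omega]
    exact_mod_cast h1.symm
  have hdet : LinearMap.det (ρ n) = -1 := by
    rw [← LinearMap.det_toMatrix b,
      show LinearMap.toMatrix b b (ρ n) = Matrix.diagonal μ from ?_, Matrix.det_diagonal,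
      ← Finset.prod_fiberwise_of_maps_to (g := idx) (t := Finset.range e) (fun i _ => hidx i)]
    · have hfix : ∀ j ∈ Finset.range e, ∏ i ∈ Finset.univ.filter (fun i => idx i = j), μ i =
          (ζ ^ j) ^ ((p - 1) / e) := fun j hj => by
        rw [Finset.prod_congr rfl fun i hi => by rw [hidx' i, (Finset.mem_filter.1 hi).2],
          Finset.prod_const, ← hfib j hj, Nat.mul_div_cancel _ he0]
      have hev : Even e := by
        have hp2 : p ≠ 2 := fun h => by
          have := sc_relIndex_dvd hx hC hP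
          rw [← he', h] at this
          exact he (Nat.dvd_one.1 this)
        have h := hp.even_sub_one hp2
        rw [← Nat.mul_div_cancel' (sc_relIndex_dvd hx hC hP), ← he', Nat.even_mul] at h
        exact h.resolve_right (Nat.not_even_iff_odd.2 hodd)
      rw [Finset.prod_congr rfl hfix, Finset.prod_pow, prod_roots_even hζ he0 hev, hodd.neg_one_pow]
    · ext i j
      rw [LinearMap.toMatrix_apply, hb, map_smul, Module.Basis.repr_self, Finsupp.smul_apply,
        Finsupp.single_apply, Matrix.diagonal_apply]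
      split_ifs with h1 h2 h2
      · subst h2; simp
      · exact absurd h1.symm h2
      · exact absurd h2.symm h1
      · simp
  exact ⟨Char.detHom ρ, n, Units.ext (by rw [Char.detHom_apply, hdet]; simp)⟩

end Cfsg.Lib.Block
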