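import Mathlib.LinearAlgebra.BilinearForm.Properties
import Mathlib.LinearAlgebra.Dual.Lemmas
import Mathlib.RepresentationTheory.Basic
import Mathlib.Algebra.CharP.Basic
import Mathlib.Tactic

/-!
# Self-dual coprime modules

A module with a nondegenerate invariant form is the sum of a part with an alternating form and a
part with a symmetric form; in characteristic two the second part can be taken trivial.
-/

set_option autoImplicit false
set_option linter.unusedSectionVars false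
set_option maxHeartbeats 800000

namespace Cfsg.Lib.SelfDual

open LinearMap (BilinForm)

universe u v w

variable {F : Type u} [Field F] {G : Type w} [Group G] {V : Type v} [AddCommGroup V] [Module F V]
  [FiniteDimensional F V] (ρ : Representation F G V)

/-- An invariant subspace. -/
def Inv (W : Submodule F V) : Prop := ∀ g : G, ∀ x ∈ W, ρ g x ∈ W

/-- A minimal invariant subspace. -/
def Irr (W : Submodule F V) : Prop :=
  Inv ρ W ∧ W ≠ ⊥ ∧ ∀ W' ≤ W, Inv ρ W' → W' = ⊥ ∨ W' = W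

/-- An invariant form. -/
def FormInv (B : BilinForm F V) (W : Submodule F V) : Prop :=
  ∀ g : G, ∀ x ∈ W, ∀ y ∈ W, B (ρ g x) (ρ g y) = B x y

/-- A form nondegenerate on a subspace. -/
def Nd (B : BilinForm F V) (W : Submodule F V) : Prop :=
  ∀ x ∈ W, (∀ y ∈ W, B x y = 0) → x = 0

/-- The decomposition. -/
def Decomp (p : ℕ) (M : Submodule F V) : Prop :=
  ∃ (U W : Submodule F V) (A S : BilinForm F V), U ⊔ W = M ∧ Disjoint U W ∧ Inv ρ U ∧ Inv ρ W ∧
    (∀ x, A x x = 0) ∧ FormInv ρ A U ∧ Nd A U ∧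
    (∀ x y, S x y = S y x) ∧ FormInv ρ S W ∧ Nd S W ∧
    (p = 2 → ∀ g : G, ∀ x ∈ W, ρ g x = x)

variable {ρ}

theorem inv_apply (g : G) (x : V) : ρ g (ρ g⁻¹ x) = x := ρ.self_inv_apply g x

theorem inv_bot : Inv ρ (⊥ : Submodule F V) := fun g x hx => by
  rw [Submodule.mem_bot] at hx
  rw [hx, map_zero]
  exact zero_mem _

theorem inv_top : Inv ρ (⊤ : Submodule F V) := fun _ _ _ => Submodule.mem_top

theorem inv_sup {U W : Submodule F V} (hU : Inv ρ U) (hW : Inv ρ W) : Inv ρ (U ⊔ W) := by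
  intro g x hx
  obtain ⟨u, hu, w, hw, rfl⟩ := Submodule.mem_sup.1 hx
  rw [map_add]
  exact Submodule.add_mem_sup (hU g u hu) (hW g w hw)

theorem inv_inf {U W : Submodule F V} (hU : Inv ρ U) (hW : Inv ρ W) : Inv ρ (U ⊓ W) :=
  fun g x hx => ⟨hU g x hx.1, hW g x hx.2⟩

/-- The right orthogonal of `W` inside `M`. -/
def perpR (B : BilinForm F V) (M W : Submodule F V) : Submodule F V where
  carrier := {y | y ∈ M ∧ ∀ w ∈ W, B w y = 0}
  zero_mem' := ⟨zero_mem M, fun w _ => map_zero (B w)⟩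
  add_mem' := fun ⟨h1, h2⟩ ⟨h3, h4⟩ => ⟨add_mem h1 h3, fun w hw => by
    rw [map_add, h2 w hw, h4 w hw, add_zero]⟩
  smul_mem' := fun c _ ⟨h1, h2⟩ => ⟨M.smul_mem c h1, fun w hw => by
    rw [map_smul, h2 w hw, smul_zero]⟩

theorem mem_perpR {B : BilinForm F V} {M W : Submodule F V} {y : V} :
    y ∈ perpR B M W ↔ y ∈ M ∧ ∀ w ∈ W, B w y = 0 := Iff.rfl

theorem perpR_le {B : BilinForm F V} {M W : Submodule F V} : perpR B M W ≤ M := fun _ hy => hy.1

theorem inv_perpR {B : BilinForm F V} {M W : Submodule F V} (hB : FormInv ρ B M) (hM : Inv ρ M)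
    (hW : Inv ρ W) (hWM : W ≤ M) : Inv ρ (perpR B M W) := by
  rintro g y ⟨hy, hy'⟩
  refine ⟨hM g y hy, fun w hw => ?_⟩
  have h := hB g (ρ g⁻¹ w) (hWM (hW g⁻¹ w hw)) y hy
  rw [inv_apply] at h
  rw [h, hy' _ (hW g⁻¹ w hw)]

theorem formInv_flip {B : BilinForm F V} {M : Submodule F V} (hB : FormInv ρ B M) :
    FormInv ρ B.flip M := fun g x hx y hy => hB g y hy x hx

theorem formInv_mono {B : BilinForm F V} {M W : Submodule F V} (hB : FormInv ρ B M) (h : W ≤ M) :
    FormInv ρ B W := fun g x hx y hy => hB g x (h hx) y (h hy)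

/-- The pairing of `X` with `Y` as a map into the dual. -/
def toDualOn (B : BilinForm F V) (X Y : Submodule F V) : X →ₗ[F] Module.Dual F Y :=
  (B.compl₁₂ X.subtype Y.subtype)

theorem finrank_le_of_pairing {B : BilinForm F V} {X Y : Submodule F V}
    (h : ∀ x ∈ X, (∀ y ∈ Y, B x y = 0) → x = 0) :
    Module.finrank F X ≤ Module.finrank F Y := by
  rw [← Subspace.dual_finrank_eq (V := Y)]
  refine LinearMap.finrank_le_finrank_of_injective (f := toDualOn B X Y) ?_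
  rw [injective_iff_map_eq_zero]
  intro x hx
  exact Subtype.ext (h x x.2 fun y hy => LinearMap.congr_fun hx ⟨y, hy⟩)

theorem exists_rep {B : BilinForm F V} {W : Submodule F V} (h : Nd B W) (φ : Module.Dual F W) :
    ∃ w ∈ W, ∀ y : W, B w y = φ y := by
  have hinj : Function.Injective (toDualOn B W W) := by
    rw [injective_iff_map_eq_zero]
    intro x hx
    exact Subtype.ext (h x x.2 fun y hy => LinearMap.congr_fun hx ⟨y, hy⟩)
  obtain ⟨w, hw⟩ := (LinearMap.injective_iff_surjective_of_finrank_eq_finrank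
    (Subspace.dual_finrank_eq (V := W)).symm).1 hinj φ
  exact ⟨w, w.2, fun y => LinearMap.congr_fun hw y⟩

theorem nd_flip {B : BilinForm F V} {W : Submodule F V} (h : Nd B W) : Nd B.flip W := by
  intro x hx hx'
  have h0 : (⟨x, hx⟩ : W) = 0 := by
    rw [← Module.forall_dual_apply_eq_zero_iff F]
    intro φ
    obtain ⟨w, hw, hwφ⟩ := exists_rep h φ
    rw [← hwφ]
    exact hx' w hw
  exact congrArg Subtype.val h0

/-- A subspace on which the form is nondegenerate splits off. -/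
theorem split {B : BilinForm F V} {M W : Submodule F V} (hWM : W ≤ M) (hM : Nd B M) (hW : Nd B W) :
    W ⊔ perpR B M W = M ∧ Disjoint W (perpR B M W) ∧ Nd B (perpR B M W) := by
  have hdis : Disjoint W (perpR B M W) := by
    rw [Submodule.disjoint_def]
    exact fun x hx hx' => nd_flip hW x hx fun y hy => hx'.2 y hy
  refine ⟨le_antisymm (sup_le hWM fun y hy => hy.1) fun y hy => ?_, hdis, fun r hr hr' => ?_⟩
  · obtain ⟨w, hw, hww⟩ := exists_rep (nd_flip hW) (toDualOn B.flip ⊤ W ⟨y, Submodule.mem_top⟩)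
    refine Submodule.mem_sup.2 ⟨w, hw, y - w, ⟨sub_mem hy (hWM hw), fun v hv => ?_⟩, add_sub_cancel _ _⟩
    have h := hww ⟨v, hv⟩
    change B v w = B v y at h
    rw [map_sub, h, sub_self]
  · obtain ⟨w, hw, hww⟩ := exists_rep hW (toDualOn B ⊤ W ⟨r, Submodule.mem_top⟩)
    have hwW : ∀ v ∈ W, B w v = B r v := fun v hv => hww ⟨v, hv⟩
    have hz : r - w = 0 := by
      refine hM _ (sub_mem hr.1 (hWM hw)) fun y hy => ?_
      have hsup : M ≤ W ⊔ perpR B M W := fun y hy => by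
        obtain ⟨w', hw', hww'⟩ := exists_rep (nd_flip hW)
          (toDualOn B.flip ⊤ W ⟨y, Submodule.mem_top⟩)
        refine Submodule.mem_sup.2 ⟨w', hw', y - w', ⟨sub_mem hy (hWM hw'), fun v hv => ?_⟩, add_sub_cancel _ _⟩
        have h := hww' ⟨v, hv⟩
        change B v w' = B v y at h
        rw [map_sub, h, sub_self]
      obtain ⟨a, ha, b, hb, rfl⟩ := Submodule.mem_sup.1 (hsup hy)
      rw [map_sub, LinearMap.sub_apply, map_add, map_add, hr' b hb, hb.2 w hw, hwW a ha]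
      simp
    exact Submodule.disjoint_def.1 hdis r (by rw [sub_eq_zero.1 hz]; exact hw) hr

/-- An invariant subspace has an invariant complement. -/
theorem exists_compl [Fintype G] (hG : (Fintype.card G : F) ≠ 0) {M W : Submodule F V}
    (hM : Inv ρ M) (hW : Inv ρ W) (hWM : W ≤ M) :
    ∃ C : Submodule F V, Inv ρ C ∧ C ≤ M ∧ W ⊔ C = M ∧ Disjoint W C := by
  obtain ⟨C₀, hC₀⟩ := W.exists_isCompl
  set π : V →ₗ[F] V := W.subtype.comp (W.projectionOnto C₀ hC₀) with hπ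
  have hπW : ∀ x, π x ∈ W := fun x => Submodule.coe_mem _
  have hπid : ∀ x ∈ W, π x = x := fun x hx =>
    congrArg Subtype.val (Submodule.projectionOnto_apply_left hC₀ ⟨x, hx⟩)
  set σ : V →ₗ[F] V := (Fintype.card G : F)⁻¹ • ∑ g : G, (ρ g).comp (π.comp (ρ g⁻¹)) with hσ
  have happ : ∀ x, σ x = (Fintype.card G : F)⁻¹ • ∑ g : G, ρ g (π (ρ g⁻¹ x)) := fun x => by
    simp [hσ, LinearMap.sum_apply]
  have hσW : ∀ x, σ x ∈ W := fun x => by
    rw [happ]
    exact W.smul_mem _ (sum_mem fun g _ => hW g _ (hπW _))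
  have hσid : ∀ x ∈ W, σ x = x := fun x hx => by
    rw [happ, Finset.sum_congr rfl fun g _ => by rw [hπid _ (hW g⁻¹ x hx), inv_apply],
      Finset.sum_const, Finset.card_univ, ← Nat.cast_smul_eq_nsmul F, smul_smul, inv_mul_cancel₀ hG,
      one_smul]
  have hσg : ∀ h x, σ (ρ h x) = ρ h (σ x) := fun h x => by
    rw [happ, happ, map_smul, map_sum]
    congr 1
    refine Fintype.sum_equiv (Equiv.mulLeft h⁻¹) _ _ fun g => ?_
    simp only [Equiv.coe_mulLeft, mul_inv_rev, inv_inv, map_mul, Module.End.mul_apply]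
    rw [inv_apply]
  refine ⟨M ⊓ LinearMap.ker σ, inv_inf hM ?_, inf_le_left,
    le_antisymm (sup_le hWM inf_le_left) fun x hx => ?_, ?_⟩
  · intro g x hx
    rw [LinearMap.mem_ker] at hx ⊢
    rw [hσg, hx, map_zero]
  · refine Submodule.mem_sup.2 ⟨σ x, hσW x, x - σ x, ⟨sub_mem hx (hWM (hσW x)), ?_⟩,
      add_sub_cancel _ _⟩
    rw [SetLike.mem_coe, LinearMap.mem_ker, map_sub, hσid _ (hσW x), sub_self]
  · rw [Submodule.disjoint_def]
    intro x hx hx'
    rw [← hσid x hx]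
    exact hx'.2

/-- There is a minimal invariant subspace. -/
theorem exists_irr {M : Submodule F V} (hM : Inv ρ M) (h : M ≠ ⊥) : ∃ W ≤ M, Irr ρ W := by
  classical
  have hex : ∃ n, ∃ W ≤ M, Inv ρ W ∧ W ≠ ⊥ ∧ Module.finrank F W = n := ⟨_, M, le_rfl, hM, h, rfl⟩
  obtain ⟨W, hWM, hW, hW0, hn⟩ := Nat.find_spec hex
  refine ⟨W, hWM, hW, hW0, fun W' hle hW' => or_iff_not_imp_left.2 fun h0 => ?_⟩
  exact Submodule.eq_of_le_of_finrank_le hle
    (hn.le.trans (Nat.find_min' hex ⟨W', hle.trans hWM, hW', h0, rfl⟩))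

/-- A nonzero invariant form on an irreducible subspace is nondegenerate. -/
theorem nd_of_irr {B : BilinForm F V} {W : Submodule F V} (hW : Irr ρ W) (hB : FormInv ρ B W)
    (h : ∃ x ∈ W, ∃ y ∈ W, B x y ≠ 0) : Nd B W := by
  intro x hx hx'
  have hinv : Inv ρ (perpR B.flip W W) := inv_perpR (formInv_flip hB) hW.1 hW.1 le_rfl
  rcases hW.2.2 _ perpR_le hinv with h0 | h0
  · exact (Submodule.mem_bot F).1 (h0 ▸ (⟨hx, fun y hy => hx' y hy⟩ : x ∈ perpR B.flip W W))
  · obtain ⟨a, ha, b, hb, hne⟩ := h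
    exact absurd ((h0.symm ▸ ha : a ∈ perpR B.flip W W).2 b hb) hne

/-- A projection onto `W` killing a disjoint subspace. -/
theorem exists_proj {W R : Submodule F V} (hd : Disjoint W R) :
    ∃ π : V →ₗ[F] V, (∀ x, π x ∈ W) ∧ (∀ x ∈ W, π x = x) ∧ ∀ x ∈ R, π x = 0 := by
  obtain ⟨C, hC⟩ := (W ⊔ R).exists_isCompl
  have hc : IsCompl W (R ⊔ C) := by
    refine ⟨Disjoint.disjoint_sup_right_of_disjoint_sup_left hd hC.disjoint, ?_⟩
    rw [codisjoint_iff, ← sup_assoc]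
    exact hC.sup_eq_top
  exact ⟨W.subtype.comp (W.projectionOnto _ hc), fun x => Submodule.coe_mem _,
    fun x hx => congrArg Subtype.val (Submodule.projectionOnto_apply_left hc ⟨x, hx⟩),
    fun x hx => congrArg Subtype.val
      (Submodule.projectionOnto_apply_right hc ⟨x, Submodule.mem_sup_left hx⟩)⟩

/-- The part with an alternating form. -/
theorem decomp_alt {p : ℕ} {W : Submodule F V} {A : BilinForm F V} (hW : Inv ρ W)
    (hA : ∀ x, A x x = 0) (hinv : FormInv ρ A W) (hnd : Nd A W) : Decomp ρ p W :=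
  ⟨W, ⊥, A, 0, sup_bot_eq W, disjoint_bot_right, hW, inv_bot, hA, hinv, hnd,
    fun _ _ => rfl, fun _ _ _ _ _ => rfl, fun x hx _ => (Submodule.mem_bot F).1 hx,
    fun _ g x hx => by rw [(Submodule.mem_bot F).1 hx, map_zero]⟩

theorem decomp_bot {p : ℕ} : Decomp ρ p (⊥ : Submodule F V) :=
  decomp_alt (A := 0) inv_bot (fun _ => rfl) (fun _ _ _ _ _ => rfl)
    fun x hx _ => (Submodule.mem_bot F).1 hx

/-- An irreducible subspace with nondegenerate form. -/
theorem decomp_irr {p : ℕ} [CharP F p] {B : BilinForm F V} {W : Submodule F V} (hW : Irr ρ W)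
    (hB : FormInv ρ B W) (hnd : Nd B W) : Decomp ρ p W := by
  by_cases hsym : ∀ x ∈ W, ∀ y ∈ W, B x y = B y x
  · obtain ⟨π, hπW, hπid, -⟩ := exists_proj (disjoint_bot_right : Disjoint W ⊥)
    set S : BilinForm F V := B.compl₁₂ π π with hS
    have hSW : ∀ x ∈ W, ∀ y ∈ W, S x y = B x y := fun x hx y hy => by
      simp [hS, hπid x hx, hπid y hy]
    have hSinv : FormInv ρ S W := fun g x hx y hy => by
      rw [hSW _ (hW.1 g x hx) _ (hW.1 g y hy), hSW x hx y hy, hB g x hx y hy]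
    have hSnd : Nd S W := fun x hx h => hnd x hx fun y hy => by rw [← hSW x hx y hy, h y hy]
    by_cases htriv : p = 2 → ∀ g : G, ∀ x ∈ W, ρ g x = x
    · exact ⟨⊥, W, 0, S, bot_sup_eq W, disjoint_bot_left, inv_bot, hW.1, fun _ => rfl,
        fun _ _ _ _ _ => rfl, fun x hx _ => (Submodule.mem_bot F).1 hx,
        fun x y => hsym _ (hπW x) _ (hπW y), hSinv, hSnd, htriv⟩
    push_neg at htriv
    obtain ⟨hp2, g, x, hx, hne⟩ := htriv
    subst hp2
    have h2 : ∀ a : F, a + a = 0 := fun a => by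
      rw [← two_mul, show (2 : F) = ((2 : ℕ) : F) by norm_num, CharP.cast_eq_zero, zero_mul]
    let K : Submodule F V :=
      { carrier := {y | y ∈ W ∧ B y y = 0}
        zero_mem' := ⟨zero_mem W, map_zero (B 0)⟩
        add_mem' := fun {a b} ⟨ha, ha'⟩ ⟨hb, hb'⟩ => ⟨add_mem ha hb, by
          simp only [map_add, LinearMap.add_apply, ha', hb', hsym b hb a ha, zero_add,
            add_zero, h2]⟩
        smul_mem' := fun c a ⟨ha, ha'⟩ => ⟨W.smul_mem c ha, by
          simp only [map_smul, LinearMap.smul_apply, ha', smul_zero]⟩ }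
    have hK : Inv ρ K := fun g y ⟨hy, hy'⟩ => ⟨hW.1 g y hy, by rw [hB g y hy y hy, hy']⟩
    have hmem : ρ g x - x ∈ K := ⟨sub_mem (hW.1 g x hx) hx, by
      simp only [map_sub, LinearMap.sub_apply, hB g x hx x hx,
        hsym x hx _ (hW.1 g x hx)]
      have := h2 (B x x - B (ρ g x) x)
      linear_combination this⟩
    have hKW : K = W := (hW.2.2 K (fun y hy => hy.1) hK).resolve_left fun h0 => hne (by
      rw [h0, Submodule.mem_bot, sub_eq_zero] at hmem
      exact hmem)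
    refine decomp_alt hW.1 (A := S) (fun y => ?_) hSinv hSnd
    exact ((hKW.symm ▸ hπW y : π y ∈ K)).2
  · push_neg at hsym
    obtain ⟨a, ha, b, hb, hne⟩ := hsym
    refine decomp_alt hW.1 (A := B - B.flip) (fun x => by simp) ?_ ?_
    · intro g x hx y hy
      simp [hB g x hx y hy, hB g y hy x hx]
    · refine nd_of_irr hW ?_ ⟨a, ha, b, hb, by simpa [sub_eq_zero] using hne⟩
      intro g x hx y hy
      simp [hB g x hx y hy, hB g y hy x hx]

/-- Two isotropic subspaces in duality carry an alternating form. -/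
theorem decomp_hyperbolic {p : ℕ} {B : BilinForm F V} {W D : Submodule F V} (hW : Inv ρ W)
    (hD : Inv ρ D) (hB : FormInv ρ B (W ⊔ D)) (hd : Disjoint W D)
    (h1 : ∀ w ∈ W, (∀ d ∈ D, B w d = 0) → w = 0) (h2 : ∀ d ∈ D, (∀ w ∈ W, B w d = 0) → d = 0) :
    Decomp ρ p (W ⊔ D) := by
  obtain ⟨π, hπW, hπid, hπ0⟩ := exists_proj hd
  obtain ⟨π', hπD, hπid', hπ0'⟩ := exists_proj hd.symm
  set A : BilinForm F V := B.compl₁₂ π π' - (B.compl₁₂ π π').flip with hA
  have hAapp : ∀ w ∈ W, ∀ d ∈ D, ∀ w' ∈ W, ∀ d' ∈ D,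
      A (w + d) (w' + d') = B w d' - B w' d := by
    intro w hw d hd' w' hw' d' hd''
    simp only [hA, LinearMap.sub_apply, LinearMap.flip_apply, LinearMap.compl₁₂_apply]
    rw [map_add π, map_add π, map_add π', map_add π', hπid w hw, hπid w' hw', hπ0 d hd',
      hπ0 d' hd'', hπid' d hd', hπid' d' hd'', hπ0' w hw, hπ0' w' hw', add_zero, add_zero, zero_add,
      zero_add]
  refine decomp_alt (inv_sup hW hD) (A := A) (fun x => by simp [hA]) ?_ ?_
  · intro g x hx y hy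
    obtain ⟨w, hw, d, hd', rfl⟩ := Submodule.mem_sup.1 hx
    obtain ⟨w', hw', d', hd'', rfl⟩ := Submodule.mem_sup.1 hy
    rw [map_add (ρ g) w d, map_add (ρ g) w' d', hAapp _ (hW g w hw) _ (hD g d hd') _ (hW g w' hw') _ (hD g d' hd''),
      hAapp w hw d hd' w' hw' d' hd'', hB g w (Submodule.mem_sup_left hw) d'
        (Submodule.mem_sup_right hd''), hB g w' (Submodule.mem_sup_left hw') d
        (Submodule.mem_sup_right hd')]
  · intro x hx h
    obtain ⟨w, hw, d, hd', rfl⟩ := Submodule.mem_sup.1 hx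
    have hw0 : w = 0 := h1 w hw fun d' hd'' => by
      have := h (0 + d') (Submodule.mem_sup.2 ⟨0, zero_mem W, d', hd'', rfl⟩)
      rw [hAapp w hw d hd' 0 (zero_mem W) d' hd'', map_zero, LinearMap.zero_apply, sub_zero] at this
      exact this
    have hd0 : d = 0 := h2 d hd' fun w' hw' => by
      have := h (w' + 0) (Submodule.mem_sup.2 ⟨w', hw', 0, zero_mem D, rfl⟩)
      rw [hAapp w hw d hd' w' hw' 0 (zero_mem D), map_zero, zero_sub, neg_eq_zero] at this
      exact this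
    rw [hw0, hd0, add_zero]

/-- Gluing. -/
theorem decomp_sup {p : ℕ} {M N : Submodule F V} (hd : Disjoint M N)
    (hM : Decomp ρ p M) (hN : Decomp ρ p N) : Decomp ρ p (M ⊔ N) := by
  obtain ⟨U, W, A, S, rfl, hUW, hU, hW, hA, hAi, hAn, hS, hSi, hSn, ht⟩ := hM
  obtain ⟨U', W', A', S', rfl, hUW', hU', hW', hA', hAi', hAn', hS', hSi', hSn', ht'⟩ := hN
  obtain ⟨π, -, hπid, hπ0⟩ := exists_proj hd
  obtain ⟨π', -, hπid', hπ0'⟩ := exists_proj hd.symm
  have key : ∀ (Φ Φ' : BilinForm F V) (X X' : Submodule F V), X ≤ U ⊔ W → X' ≤ U' ⊔ W' →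
      ∀ x ∈ X, ∀ x' ∈ X', ∀ y ∈ X, ∀ y' ∈ X',
        (Φ.compl₁₂ π π + Φ'.compl₁₂ π' π') (x + x') (y + y') = Φ x y + Φ' x' y' := by
    intro Φ Φ' X X' hX hX' x hx x' hx' y hy y' hy'
    simp only [LinearMap.add_apply, LinearMap.compl₁₂_apply]
    rw [map_add π, map_add π, map_add π', map_add π', hπid x (hX hx), hπid y (hX hy),
      hπ0 x' (hX' hx'), hπ0 y' (hX' hy'), hπid' x' (hX' hx'), hπid' y' (hX' hy'), hπ0' x (hX hx),
      hπ0' y (hX hy), add_zero, add_zero, zero_add, zero_add]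
  have hinvj : ∀ (Φ Φ' : BilinForm F V) (X X' : Submodule F V), X ≤ U ⊔ W → X' ≤ U' ⊔ W' →
      Inv ρ X → Inv ρ X' → FormInv ρ Φ X → FormInv ρ Φ' X' →
      FormInv ρ (Φ.compl₁₂ π π + Φ'.compl₁₂ π' π') (X ⊔ X') := by
    intro Φ Φ' X X' hX hX' hiX hiX' hi hi' g x hx y hy
    obtain ⟨a, ha, a', ha', rfl⟩ := Submodule.mem_sup.1 hx
    obtain ⟨b, hb, b', hb', rfl⟩ := Submodule.mem_sup.1 hy
    rw [map_add (ρ g) a a', map_add (ρ g) b b', key Φ Φ' X X' hX hX' _ (hiX g a ha) _ (hiX' g a' ha') _ (hiX g b hb) _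
      (hiX' g b' hb'), key Φ Φ' X X' hX hX' a ha a' ha' b hb b' hb', hi g a ha b hb,
      hi' g a' ha' b' hb']
  have hndj : ∀ (Φ Φ' : BilinForm F V) (X X' : Submodule F V), X ≤ U ⊔ W → X' ≤ U' ⊔ W' →
      Nd Φ X → Nd Φ' X' → Nd (Φ.compl₁₂ π π + Φ'.compl₁₂ π' π') (X ⊔ X') := by
    intro Φ Φ' X X' hX hX' hn hn' x hx h
    obtain ⟨a, ha, a', ha', rfl⟩ := Submodule.mem_sup.1 hx
    have h1 : a = 0 := hn a ha fun b hb => by
      have := h (b + 0) (Submodule.mem_sup.2 ⟨b, hb, 0, zero_mem X', rfl⟩)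
      rwa [key Φ Φ' X X' hX hX' a ha a' ha' b hb 0 (zero_mem X'), map_zero, add_zero] at this
    have h2 : a' = 0 := hn' a' ha' fun b hb => by
      have := h (0 + b) (Submodule.mem_sup.2 ⟨0, zero_mem X, b, hb, rfl⟩)
      rwa [key Φ Φ' X X' hX hX' a ha a' ha' 0 (zero_mem X) b hb, map_zero, zero_add] at this
    rw [h1, h2, add_zero]
  refine ⟨U ⊔ U', W ⊔ W', A.compl₁₂ π π + A'.compl₁₂ π' π', S.compl₁₂ π π + S'.compl₁₂ π' π',
    sup_sup_sup_comm _ _ _ _, ?_, inv_sup hU hU', inv_sup hW hW', fun x => by simp [hA, hA'],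
    hinvj A A' U U' le_sup_left le_sup_left hU hU' hAi hAi',
    hndj A A' U U' le_sup_left le_sup_left hAn hAn', fun x y => by simp [hS (π x), hS' (π' x)],
    hinvj S S' W W' le_sup_right le_sup_right hW hW' hSi hSi',
    hndj S S' W W' le_sup_right le_sup_right hSn hSn', fun h2 g x hx => ?_⟩
  · rw [Submodule.disjoint_def]
    intro x hx hx'
    obtain ⟨a, ha, a', ha', rfl⟩ := Submodule.mem_sup.1 hx
    obtain ⟨b, hb, b', hb', e⟩ := Submodule.mem_sup.1 hx'
    have e1 := congrArg π e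
    rw [map_add, map_add, hπid b (Submodule.mem_sup_right hb), hπ0 b' (Submodule.mem_sup_right hb'),
      hπid a (Submodule.mem_sup_left ha), hπ0 a' (Submodule.mem_sup_left ha'), add_zero, add_zero]
      at e1
    have ha0 : a = 0 := Submodule.disjoint_def.1 hUW a ha (e1 ▸ hb)
    have hb0 : b = 0 := e1.trans ha0
    rw [ha0, hb0, zero_add, zero_add] at e
    rw [ha0, zero_add]
    exact Submodule.disjoint_def.1 hUW' a' ha' (e ▸ hb')
  · obtain ⟨a, ha, a', ha', rfl⟩ := Submodule.mem_sup.1 hx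
    rw [map_add, ht h2 g a ha, ht' h2 g a' ha']

/-- In a totally isotropic situation there is a partner in duality on both sides. -/
theorem exists_partner [Fintype G] (hG : (Fintype.card G : F) ≠ 0) {B : BilinForm F V}
    {M W : Submodule F V} (hM : Inv ρ M) (hB : FormInv ρ B M) (hnd : Nd B M) (hW : Irr ρ W)
    (hWM : W ≤ M) (hiso : ∀ D ≤ M, Irr ρ D → ∀ x ∈ D, ∀ y ∈ D, B x y = 0) :
    ∃ D ≤ M, Irr ρ D ∧ (∀ w ∈ W, (∀ d ∈ D, B w d = 0) → w = 0) ∧
      (∀ d ∈ D, (∀ w ∈ W, B w d = 0) → d = 0) ∧ (∀ d ∈ D, (∀ w ∈ W, B d w = 0) → d = 0) := by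
  -- a complement of an orthogonal is irreducible and in duality with `W`
  have key : ∀ Φ : BilinForm F V, FormInv ρ Φ M → Nd Φ M → ∃ C ≤ M, Irr ρ C ∧
      (∀ w ∈ W, (∀ c ∈ C, Φ w c = 0) → w = 0) ∧ ∀ c ∈ C, (∀ w ∈ W, Φ w c = 0) → c = 0 := by
    intro Φ hΦ hΦn
    obtain ⟨C, hC, hCM, hsup, hdis⟩ := exists_compl hG hM (inv_perpR hΦ hM hW.1 hWM) perpR_le
    have hr : ∀ c ∈ C, (∀ w ∈ W, Φ w c = 0) → c = 0 := fun c hc h =>
      Submodule.disjoint_def.1 hdis c ⟨hCM hc, h⟩ hc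
    have hl : ∀ w ∈ W, (∀ c ∈ C, Φ w c = 0) → w = 0 := fun w hw h => hΦn w (hWM hw) fun y hy => by
      rw [← hsup] at hy
      obtain ⟨r, hr', c, hc, rfl⟩ := Submodule.mem_sup.1 hy
      rw [map_add, hr'.2 w hw, h c hc, add_zero]
    have hC0 : C ≠ ⊥ := fun h0 => hW.2.1 (Submodule.eq_bot_iff W |>.2 fun w hw =>
      hl w hw fun c hc => by rw [h0, Submodule.mem_bot] at hc; rw [hc, map_zero])
    refine ⟨C, hCM, ⟨hC, hC0, fun D hDC hD => or_iff_not_imp_left.2 fun hD0 => ?_⟩, hl, hr⟩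
    have hinv : Inv ρ (perpR Φ.flip W D) := fun g w ⟨hw, hw'⟩ => ⟨hW.1 g w hw, fun d hd => by
      have h := hΦ g w (hWM hw) (ρ g⁻¹ d) (hCM (hDC (hD g⁻¹ d hd)))
      rw [inv_apply] at h
      show Φ (ρ g w) d = 0
      rw [h]
      exact hw' _ (hD g⁻¹ d hd)⟩
    have hWD : ∀ w ∈ W, (∀ d ∈ D, Φ w d = 0) → w = 0 := by
      intro w hw h
      rcases hW.2.2 _ perpR_le hinv with e | e
      · exact (Submodule.mem_bot F).1 (e ▸ (⟨hw, h⟩ : w ∈ perpR Φ.flip W D))
      · refine absurd (Submodule.eq_bot_iff D |>.2 fun d hd => hr d (hDC hd) fun v hv => ?_) hD0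
        exact (e.symm ▸ hv : v ∈ perpR Φ.flip W D).2 d hd
    refine Submodule.eq_of_le_of_finrank_le hDC ?_
    exact (finrank_le_of_pairing (B := Φ.flip) hr).trans (finrank_le_of_pairing hWD)
  have hnz : ∀ (Φ : BilinForm F V) (C : Submodule F V), FormInv ρ Φ M → Irr ρ C → C ≤ M →
      (∃ c ∈ C, ∃ w ∈ W, Φ w c ≠ 0) →
      (∀ c ∈ C, (∀ w ∈ W, Φ w c = 0) → c = 0) := by
    intro Φ C hΦ hC hCM ⟨a, ha, b, hb, hne⟩ c hc h
    have hinv : Inv ρ (perpR Φ C W) := fun g y ⟨hy, hy'⟩ => ⟨hC.1 g y hy, fun w hw => by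
      have h := hΦ g (ρ g⁻¹ w) (hWM (hW.1 g⁻¹ w hw)) y (hCM hy)
      rw [inv_apply] at h
      rw [h, hy' _ (hW.1 g⁻¹ w hw)]⟩
    rcases hC.2.2 _ perpR_le hinv with e | e
    · exact (Submodule.mem_bot F).1 (e ▸ (⟨hc, h⟩ : c ∈ perpR Φ C W))
    · exact absurd ((e.symm ▸ ha : a ∈ perpR Φ C W).2 b hb) hne
  obtain ⟨C, hCM, hC, hl, hr⟩ := key B hB hnd
  by_cases h1 : ∃ c ∈ C, ∃ w ∈ W, B c w ≠ 0
  · exact ⟨C, hCM, hC, hl, hr, hnz B.flip C (formInv_flip hB) hC hCM h1⟩
  obtain ⟨C', hC'M, hC', hl', hr'⟩ := key B.flip (formInv_flip hB) (nd_flip hnd)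
  by_cases h2 : ∃ c ∈ C', ∃ w ∈ W, B w c ≠ 0
  · refine ⟨C', hC'M, hC', fun w hw h => ?_, hnz B C' hB hC' hC'M h2, hr'⟩
    have hinv : Inv ρ (perpR B.flip W C') := fun g v ⟨hv, hv'⟩ => ⟨hW.1 g v hv, fun d hd => by
      have h := hB g v (hWM hv) (ρ g⁻¹ d) (hC'M (hC'.1 g⁻¹ d hd))
      rw [inv_apply] at h
      show B (ρ g v) d = 0
      rw [h]
      exact hv' _ (hC'.1 g⁻¹ d hd)⟩
    rcases hW.2.2 _ perpR_le hinv with e | e
    · exact (Submodule.mem_bot F).1 (e ▸ (⟨hw, h⟩ : w ∈ perpR B.flip W C'))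
    · obtain ⟨a, ha, b, hb, hne⟩ := h2
      exact absurd ((e.symm ▸ hb : b ∈ perpR B.flip W C').2 a ha) hne
  push_neg at h1 h2
  -- the graph
  let D : Submodule F V :=
    { carrier := {y | ∃ c ∈ C, ∃ c' ∈ C', y = c + c' ∧ ∀ w ∈ W, B c' w = B w c}
      zero_mem' := ⟨0, zero_mem C, 0, zero_mem C', (add_zero 0).symm, fun w _ => by simp⟩
      add_mem' := by
        rintro _ _ ⟨a, ha, a', ha', rfl, h⟩ ⟨b, hb, b', hb', rfl, h'⟩
        exact ⟨a + b, add_mem ha hb, a' + b', add_mem ha' hb', add_add_add_comm _ _ _ _,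
          fun w hw => by rw [map_add, LinearMap.add_apply, map_add, h w hw, h' w hw]⟩
      smul_mem' := by
        rintro k _ ⟨a, ha, a', ha', rfl, h⟩
        exact ⟨k • a, C.smul_mem k ha, k • a', C'.smul_mem k ha', smul_add _ _ _,
          fun w hw => by rw [map_smul, LinearMap.smul_apply, map_smul, h w hw]⟩ }
  have hinj : Function.Injective (toDualOn B C' W) := by
    rw [injective_iff_map_eq_zero]
    exact fun x hx => Subtype.ext (hr' x x.2 fun w hw => LinearMap.congr_fun hx ⟨w, hw⟩)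
  have hsurj : Function.Surjective (toDualOn B C' W) := by
    refine (LinearMap.injective_iff_surjective_of_finrank_eq_finrank ?_).1 hinj
    rw [Subspace.dual_finrank_eq]
    exact le_antisymm (finrank_le_of_pairing hr') (finrank_le_of_pairing (B := B.flip) hl')
  have hgraph : ∀ c ∈ C, ∃ c' ∈ C', c + c' ∈ D ∧ ∀ w ∈ W, B c' w = B w c := by
    intro c hc
    obtain ⟨c', hc'⟩ := hsurj (toDualOn B.flip ⊤ W ⟨c, Submodule.mem_top⟩)
    have h : ∀ w ∈ W, B c' w = B w c := fun w hw => LinearMap.congr_fun hc' ⟨w, hw⟩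
    exact ⟨c', c'.2, ⟨c, hc, c', c'.2, rfl, h⟩, h⟩
  have hDM : D ≤ M := by
    rintro _ ⟨a, ha, a', ha', rfl, -⟩
    exact add_mem (hCM ha) (hC'M ha')
  have hDi : Inv ρ D := by
    rintro g _ ⟨a, ha, a', ha', rfl, h⟩
    refine ⟨ρ g a, hC.1 g a ha, ρ g a', hC'.1 g a' ha', map_add _ _ _, fun w hw => ?_⟩
    have hw' := hW.1 g⁻¹ w hw
    have e1 := hB g a' (hC'M ha') (ρ g⁻¹ w) (hWM hw')
    have e2 := hB g (ρ g⁻¹ w) (hWM hw') a (hCM ha)
    rw [inv_apply] at e1 e2
    rw [e1, e2, h _ hw']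
  have hDsym : ∀ d ∈ D, ∀ w ∈ W, B d w = B w d := by
    rintro _ ⟨a, ha, a', ha', rfl, h⟩ w hw
    rw [map_add, LinearMap.add_apply, map_add, h1 a ha w hw, h2 a' ha' w hw, h w hw]
    simp
  have hDl : ∀ w ∈ W, (∀ d ∈ D, B w d = 0) → w = 0 := fun w hw h => hl w hw fun c hc => by
    obtain ⟨c', hc', hd, -⟩ := hgraph c hc
    have := h _ hd
    rwa [map_add, h2 c' hc' w hw, add_zero] at this
  have hDr : ∀ d ∈ D, (∀ w ∈ W, B w d = 0) → d = 0 := by
    rintro _ ⟨a, ha, a', ha', rfl, h⟩ h0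
    have ha0 : a = 0 := hr a ha fun w hw => by
      have := h0 w hw
      rwa [map_add, h2 a' ha' w hw, add_zero] at this
    have ha'0 : a' = 0 := hr' a' ha' fun w hw => by
      show B a' w = 0
      rw [h w hw, ha0, map_zero]
    rw [ha0, ha'0, add_zero]
  refine ⟨D, hDM, ⟨hDi, fun h0 => hW.2.1 (Submodule.eq_bot_iff W |>.2 fun w hw => hDl w hw
    fun d hd => by rw [h0, Submodule.mem_bot] at hd; rw [hd, map_zero]), fun E hED hE => ?_⟩,
    hDl, hDr, fun d hd h => hDr d hd fun w hw => by rw [← hDsym d hd w hw, h w hw]⟩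
  refine or_iff_not_imp_left.2 fun hE0 => Submodule.eq_of_le_of_finrank_le hED ?_
  refine (finrank_le_of_pairing (B := B.flip) hDr).trans (finrank_le_of_pairing (B := B) fun w hw h => ?_)
  have hinv : Inv ρ (perpR B.flip W E) := fun g v ⟨hv, hv'⟩ => ⟨hW.1 g v hv, fun d hd => by
    have h := hB g v (hWM hv) (ρ g⁻¹ d) (hDM (hED (hE g⁻¹ d hd)))
    rw [inv_apply] at h
    show B (ρ g v) d = 0
    rw [h]
    exact hv' _ (hE g⁻¹ d hd)⟩
  rcases hW.2.2 _ perpR_le hinv with e | e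
  · exact (Submodule.mem_bot F).1 (e ▸ (⟨hw, h⟩ : w ∈ perpR B.flip W E))
  · exact absurd (Submodule.eq_bot_iff E |>.2 fun d hd => hDr d (hED hd) fun v hv =>
      (e.symm ▸ hv : v ∈ perpR B.flip W E).2 d hd) hE0

/-- The decomposition of a self-dual module. -/
theorem decomp [Fintype G] (hG : (Fintype.card G : F) ≠ 0) {p : ℕ} [CharP F p] (B : BilinForm F V) :
    ∀ (n : ℕ) (M : Submodule F V), Module.finrank F M ≤ n → Inv ρ M → FormInv ρ B M → Nd B M →
      Decomp ρ p M := by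
  intro n
  induction n with
  | zero =>
    intro M hn _ _ _
    rw [Submodule.finrank_eq_zero.1 (Nat.le_zero.1 hn)]
    exact decomp_bot
  | succ n ih =>
    intro M hn hM hB hnd
    rcases eq_or_ne M ⊥ with rfl | hM0
    · exact decomp_bot
    have step : ∀ W ≤ M, Inv ρ W → W ≠ ⊥ → Nd B W → Decomp ρ p W → Decomp ρ p M := by
      intro W hWM hW hW0 hWn hdec
      obtain ⟨hsup, hdis, hR⟩ := split hWM hnd hWn
      rw [← hsup]
      refine decomp_sup hdis hdec (ih _ ?_ (inv_perpR hB hM hW hWM)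
        (formInv_mono hB perpR_le) hR)
      have hlt : perpR B M W < M := by
        refine lt_of_le_of_ne perpR_le fun he => hW0 ?_
        rw [he] at hdis
        rw [← inf_eq_left.2 hWM]
        exact hdis.eq_bot
      have := Submodule.finrank_lt_finrank_of_lt hlt
      omega
    by_cases hex : ∃ D ≤ M, Irr ρ D ∧ ∃ x ∈ D, ∃ y ∈ D, B x y ≠ 0
    · obtain ⟨D, hDM, hD, hne⟩ := hex
      have hDn := nd_of_irr hD (formInv_mono hB hDM) hne
      exact step D hDM hD.1 hD.2.1 hDn (decomp_irr hD (formInv_mono hB hDM) hDn)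
    push_neg at hex
    obtain ⟨W, hWM, hW⟩ := exists_irr hM hM0
    obtain ⟨D, hDM, hD, hl, hr, hr'⟩ := exists_partner hG hM hB hnd hW hWM hex
    have hWW := hex W hWM hW
    have hDD := hex D hDM hD
    have hdis : Disjoint W D := by
      rw [Submodule.disjoint_def]
      exact fun x hx hx' => hr x hx' fun w hw => hWW w hw x hx
    have hle : W ⊔ D ≤ M := sup_le hWM hDM
    refine step (W ⊔ D) hle (inv_sup hW.1 hD.1)
      (fun h0 => hW.2.1 (le_bot_iff.1 (h0 ▸ le_sup_left))) ?_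
      (decomp_hyperbolic hW.1 hD.1 (formInv_mono hB hle) hdis hl hr)
    intro x hx h
    obtain ⟨w, hw, d, hd, rfl⟩ := Submodule.mem_sup.1 hx
    have hw0 : w = 0 := hl w hw fun e he => by
      have := h e (Submodule.mem_sup_right he)
      rwa [map_add, LinearMap.add_apply, hDD d hd e he, add_zero] at this
    have hd0 : d = 0 := hr' d hd fun v hv => by
      have := h v (Submodule.mem_sup_left hv)
      rwa [map_add, LinearMap.add_apply, hWW w hw v hv, zero_add] at this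
    rw [hw0, hd0, add_zero]

end Cfsg.Lib.SelfDual
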