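import Mathlib

/-!
# An automizer of order nine of an elementary group of order sixteen

It fixes two complementary four-groups, one each by a subgroup of order three, and is regular on
the nine elements outside them.
-/

set_option autoImplicit false
set_option linter.unusedSectionVars false
set_option linter.style.haveILetI false

namespace Cfsg.Lib.Block.SixteenNine

open Subgroup

universe u

variable {G : Type u} [Group G]

/-- The normalizer of `P` splits it into `V` and `W`. -/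
structure Split (P V W : Subgroup G) : Prop where
  le : V ≤ P
  card : Nat.card V = 4
  inf : V ⊓ W = ⊥
  stab : ∀ n ∈ normalizer (P : Set G), ∀ v ∈ V, v ≠ 1 → n * v = v * n → ∀ v' ∈ V, n * v' = v' * n
  normal : ∀ n ∈ normalizer (P : Set G), ∀ v ∈ V, n * v * n⁻¹ ∈ V
  rot : ∃ e ∈ normalizer (P : Set G), (∀ w ∈ W, e * w = w * e) ∧ ∀ v ∈ V, v ≠ 1 → e * v * e⁻¹ ≠ v
  trans : ∀ v ∈ V, ∀ v' ∈ V, v ≠ 1 → v' ≠ 1 → ∃ n ∈ normalizer (P : Set G), n * v * n⁻¹ = v'

/-- The whole structure. -/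
structure Nine (P V W : Subgroup G) : Prop where
  left : Split P V W
  right : Split P W V
  free : ∀ n ∈ normalizer (P : Set G), ∀ u ∈ P, u ∉ V → u ∉ W → n * u = u * n →
    n ∈ centralizer (P : Set G)
  mixed : ∀ n ∈ normalizer (P : Set G), ∀ v ∈ V, v ≠ 1 → ∀ w ∈ W, w ≠ 1 → n * v = v * n →
    n * w = w * n → n ∈ centralizer (P : Set G)
  trans : ∀ u ∈ P, ∀ u' ∈ P, u ∉ V → u ∉ W → u' ∉ V → u' ∉ W →
    ∃ n ∈ normalizer (P : Set G), n * u * n⁻¹ = u'
  decomp : ∀ u ∈ P, ∃ v ∈ V, ∃ w ∈ W, v * w = u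

section Abstract

variable {V : Type u} [Group V] [Finite V]

/-- The fixed points of an automorphism. -/
def fixA (g : MulAut V) : Subgroup V where
  carrier := {v | g v = v}
  one_mem' := map_one g
  mul_mem' {a b} (ha : g a = a) (hb : g b = b) := show g (a * b) = a * b by rw [map_mul, ha, hb]
  inv_mem' {a} (ha : g a = a) := show g a⁻¹ = a⁻¹ by rw [map_inv, ha]

theorem mem_fixA {g : MulAut V} {v : V} : v ∈ fixA g ↔ g v = v := Iff.rfl

variable {A : Subgroup (MulAut V)}

theorem fix_mem_of_comm (hc : ∀ g ∈ A, ∀ h ∈ A, g * h = h * g) {g h : MulAut V} (hg : g ∈ A)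
    (hh : h ∈ A) {v : V} (hv : v ∈ fixA h) : g v ∈ fixA h := by
  rw [mem_fixA, ← MulAut.mul_apply, hc h hh g hg, MulAut.mul_apply, mem_fixA.1 hv]

theorem card_fixA_of_prime (hV : Nat.card V = 16) {g : MulAut V} (hg : g ^ 3 = 1) (hg1 : g ≠ 1) :
    Nat.card (fixA g) = 1 ∨ Nat.card (fixA g) = 4 := by
  haveI : Fact (Nat.Prime 3) := ⟨Nat.prime_three⟩
  have hp : IsPGroup 3 (zpowers g) := IsPGroup.of_card (n := 1)
    (by rw [Nat.card_zpowers, orderOf_eq_prime hg hg1, pow_one])
  have hmod := hp.card_modEq_card_fixedPoints V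
  have heq : Nat.card (MulAction.fixedPoints (zpowers g) V) = Nat.card (fixA g) := by
    refine Nat.card_congr (Equiv.subtypeEquivRight fun v => ⟨fun h => h ⟨g, mem_zpowers g⟩, ?_⟩)
    intro h x
    have hst : g ∈ MulAction.stabilizer (MulAut V) v := h
    exact zpowers_le.2 hst x.2
  rw [heq, hV] at hmod
  have hdvd : Nat.card (fixA g) ∣ 2 ^ 4 := by
    have := (fixA g).card_subgroup_dvd_card
    rwa [hV, show 16 = 2 ^ 4 by norm_num] at this
  have hne : Nat.card (fixA g) ≠ 16 := by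
    intro h
    refine hg1 (MulEquiv.ext fun v => ?_)
    have : fixA g = ⊤ := eq_top_of_card_eq _ (h.trans hV.symm)
    exact mem_fixA.1 (this ▸ mem_top v)
  obtain ⟨j, hj, he⟩ := (Nat.dvd_prime_pow Nat.prime_two).1 hdvd
  rw [he] at hmod hne ⊢
  unfold Nat.ModEq at hmod
  interval_cases j <;> simp_all

theorem burnside [Fintype A] :
    (Nat.card A) ∣ ∑ g : A, Nat.card (fixA (g : MulAut V)) := by
  classical
  haveI := Fintype.ofFinite V
  have h := MulAction.sum_card_fixedBy_eq_card_orbits_mul_card_group (G := A) (X := V)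
  rw [Nat.card_eq_fintype_card]
  refine ⟨Fintype.card (Quotient (MulAction.orbitRel A V)), ?_⟩
  rw [mul_comm, ← h]
  refine Finset.sum_congr rfl fun g _ => ?_
  rw [← Nat.card_eq_fintype_card]
  exact Nat.card_congr (Equiv.subtypeEquivRight fun v => Iff.rfl)

/-- The group has exponent three. -/
theorem pow_three (hV : Nat.card V = 16) (hA : Nat.card A = 9) (g : A) : g ^ 3 = 1 := by
  classical
  by_contra hg
  have hord : orderOf g = 9 := by
    have hd : orderOf g ∣ 3 ^ 2 := by rw [show (3 : ℕ) ^ 2 = 9 by norm_num, ← hA]; exact orderOf_dvd_natCard g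
    obtain ⟨j, hj, he⟩ := (Nat.dvd_prime_pow Nat.prime_three).1 hd
    rcases Nat.lt_or_ge j 2 with h2 | h2
    · exact absurd (orderOf_dvd_iff_pow_eq_one.1 (he ▸ pow_dvd_pow 3 (show j ≤ 1 by omega))) hg
    · rw [he, show j = 2 by omega]; norm_num
  set b := (g : MulAut V) ^ 3
  have hb1 : b ≠ 1 := fun h => hg (Subtype.ext h)
  have hg9 : (g : MulAut V) ^ 9 = 1 := by
    have := congrArg Subtype.val (hord ▸ pow_orderOf_eq_one g : g ^ 9 = 1)
    simpa using this
  have hb3 : b ^ 3 = 1 := by rw [← pow_mul]; exact hg9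
  set P3 := fixA b
  have hB := card_fixA_of_prime hV hb3 hb1
  -- the fixed points of the powers
  haveI : Fintype A := Fintype.ofFinite A
  have hbij : Function.Bijective fun i : Fin 9 => g ^ (i : ℕ) := by
    refine (Fintype.bijective_iff_injective_and_card _).2 ⟨fun i j h => Fin.ext ?_, by
      rw [Fintype.card_fin, ← Nat.card_eq_fintype_card, hA]⟩
    exact pow_injOn_Iio_orderOf (by rw [hord]; exact i.2) (by rw [hord]; exact j.2) h
  have hdvd := burnside (A := A)
  rw [hA, ← hbij.sum_comp (fun x : A => Nat.card (fixA (x : MulAut V)))] at hdvd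
  have hf : ∀ i : ℕ, ¬ 3 ∣ i → fixA ((g : MulAut V) ^ i) = fixA (g : MulAut V) := by
    intro i hi
    refine le_antisymm (fun v hv => ?_) (fun v hv => ?_)
    · obtain ⟨j, hj⟩ : ∃ j, i * j % 9 = 1 := by
        have h9 : i % 9 < 9 := Nat.mod_lt _ (by norm_num)
        have hi' : i % 9 % 3 ≠ 0 := by omega
        have key : ∀ r < 9, r % 3 ≠ 0 → ∃ j < 9, r * j % 9 = 1 := by decide
        obtain ⟨j, -, hj⟩ := key _ h9 hi'
        exact ⟨j, by rw [Nat.mul_mod, ← hj, Nat.mul_mod (i % 9) j 9, Nat.mod_mod]⟩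
      have hst : (g : MulAut V) ^ i ∈ MulAction.stabilizer (MulAut V) v := hv
      have := pow_mem hst j
      rw [← pow_mul, pow_eq_pow_mod _ hg9, hj, pow_one] at this
      exact this
    · have hst : (g : MulAut V) ∈ MulAction.stabilizer (MulAut V) v := hv
      exact pow_mem hst i
  have h6 : fixA ((g : MulAut V) ^ 6) = P3 := by
    refine le_antisymm (fun v hv => ?_) (fun v hv => ?_)
    · have hst : (g : MulAut V) ^ 6 ∈ MulAction.stabilizer (MulAut V) v := hv
      have := pow_mem hst 2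
      rw [← pow_mul, pow_eq_pow_mod _ hg9] at this
      exact this
    · have hst : b ∈ MulAction.stabilizer (MulAut V) v := hv
      have := pow_mem hst 2
      rw [← pow_mul] at this
      exact this
  have hgb : Nat.card (fixA (g : MulAut V)) ∣ Nat.card P3 := card_dvd_of_le fun v hv => by
    have hst : (g : MulAut V) ∈ MulAction.stabilizer (MulAut V) v := hv
    exact pow_mem hst 3
  have h1 : Nat.card (fixA (1 : MulAut V)) = 16 := by
    rw [show fixA (1 : MulAut V) = ⊤ from eq_top_iff.2 fun v _ => rfl, card_top, hV]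
  simp only [Fin.sum_univ_succ, Fin.sum_univ_zero, SubmonoidClass.coe_pow, Fin.val_succ, Fin.val_zero,
    pow_zero, zero_add, add_zero, Nat.reduceAdd, h1, hf 1 (by decide), hf 2 (by decide),
    hf 4 (by decide), hf 5 (by decide), hf 7 (by decide), hf 8 (by decide), h6] at hdvd
  rw [show fixA ((g : MulAut V) ^ 3) = P3 from rfl] at hdvd
  rcases hB with e | e <;> rw [e] at hdvd hgb
  · rw [Nat.dvd_one.1 hgb] at hdvd
    omega
  · have h4 := Nat.le_of_dvd (by norm_num) hgb
    have h0 : 0 < Nat.card (fixA (g : MulAut V)) := Nat.card_pos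
    haveI : Fact (Nat.Prime 3) := ⟨Nat.prime_three⟩
    have hp : IsPGroup 3 (zpowers (g : MulAut V)) := IsPGroup.of_card (n := 2)
      (by rw [Nat.card_zpowers, Subgroup.orderOf_coe, hord]; norm_num)
    have hmod := hp.card_modEq_card_fixedPoints V
    have heq : Nat.card (MulAction.fixedPoints (zpowers (g : MulAut V)) V) =
        Nat.card (fixA (g : MulAut V)) := by
      refine Nat.card_congr (Equiv.subtypeEquivRight fun v => ⟨fun h => h ⟨_, mem_zpowers _⟩, ?_⟩)
      intro h x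
      have hst : (g : MulAut V) ∈ MulAction.stabilizer (MulAut V) v := h
      exact zpowers_le.2 hst x.2
    rw [heq, hV, Nat.ModEq] at hmod
    interval_cases h : Nat.card (fixA (g : MulAut V)) <;> omega

/-- The two subgroups. -/
theorem exists_two_fixed (hV : Nat.card V = 16) (hA : Nat.card A = 9) :
    (∀ g ∈ A, ∀ h ∈ A, g * h = h * g) ∧ ∃ a b : A, a ≠ 1 ∧ b ≠ 1 ∧ b ∉ zpowers a ∧ a ∉ zpowers b ∧
      Nat.card (fixA (a : MulAut V)) = 4 ∧ Nat.card (fixA (b : MulAut V)) = 4 ∧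
      fixA (a : MulAut V) ⊓ fixA (b : MulAut V) = ⊥ := by
  classical
  haveI : Fact (Nat.Prime 3) := ⟨Nat.prime_three⟩
  haveI : Fintype A := Fintype.ofFinite A
  have hcomm : ∀ g h : A, g * h = h * g :=
    (IsPGroup.commutative_of_card_eq_prime_sq (p := 3) (G := A) (by rw [hA]; norm_num))
  have hc : ∀ g ∈ A, ∀ h ∈ A, g * h = h * g := fun g hg h hh =>
    congrArg Subtype.val (hcomm ⟨g, hg⟩ ⟨h, hh⟩)
  have h3 : ∀ g : A, (g : MulAut V) ^ 3 = 1 := fun g => by
    have := congrArg Subtype.val (pow_three hV hA g)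
    simpa using this
  have hone : Nat.card (fixA (1 : MulAut V)) = 16 := by
    rw [show fixA (1 : MulAut V) = ⊤ from eq_top_iff.2 fun v _ => rfl, card_top, hV]
  have hf : ∀ g : A, g ≠ 1 → Nat.card (fixA (g : MulAut V)) = 1 ∨ Nat.card (fixA (g : MulAut V)) = 4 :=
    fun g hg => card_fixA_of_prime hV (h3 g) fun h => hg (Subtype.ext h)
  set T := Finset.univ.filter fun g : A => g ≠ 1 ∧ Nat.card (fixA (g : MulAut V)) = 4 with hT
  have hsum : ∑ g : A, Nat.card (fixA (g : MulAut V)) = 24 + 3 * T.card := by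
    rw [← Finset.add_sum_erase _ _ (Finset.mem_univ (1 : A)), Finset.sum_congr rfl
      (g := fun g => 1 + 3 * if g ∈ T then 1 else 0) fun g hg => ?_]
    · simp only [OneMemClass.coe_one, hone, Finset.sum_add_distrib, ← Finset.mul_sum, Finset.sum_ite_mem,
        Finset.sum_const, smul_eq_mul, mul_one, Finset.card_erase_of_mem (Finset.mem_univ (1 : A)),
        Finset.card_univ, ← Nat.card_eq_fintype_card, hA]
      rw [show (Finset.univ.erase (1 : A)) ∩ T = T from Finset.inter_eq_right.2 fun g hg =>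
        Finset.mem_erase.2 ⟨(Finset.mem_filter.1 hg).2.1, Finset.mem_univ g⟩]
      ring
    · have hg1 := (Finset.mem_erase.1 hg).1
      rcases hf g hg1 with e | e
      · rw [e, if_neg fun h => by have := (Finset.mem_filter.1 h).2.2; omega]
      · rw [e, if_pos (Finset.mem_filter.2 ⟨Finset.mem_univ g, hg1, e⟩)]
  have hd := burnside (A := A)
  rw [hA, hsum] at hd
  have hinv : ∀ g ∈ T, g⁻¹ ∈ T ∧ g⁻¹ ≠ g := by
    intro g hg
    obtain ⟨hg1, hg4⟩ := (Finset.mem_filter.1 hg).2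
    refine ⟨Finset.mem_filter.2 ⟨Finset.mem_univ _, inv_ne_one.2 hg1, ?_⟩, fun e => hg1 ?_⟩
    · rw [← hg4]
      congr 2
      ext v
      rw [mem_fixA, mem_fixA]
      exact ⟨fun h => by
          conv_lhs => rw [← h]
          exact (g : MulAut V).apply_symm_apply v,
        fun h => by
          conv_lhs => rw [← h]
          exact (g : MulAut V).symm_apply_apply v⟩
    · have h := pow_three hV hA g
      rwa [pow_succ, pow_two, inv_eq_iff_mul_eq_one.1 e, one_mul] at h
  obtain ⟨a, ha⟩ : T.Nonempty := Finset.card_pos.1 (by omega)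
  obtain ⟨hai, hane⟩ := hinv a ha
  have hT3 : 2 < T.card := by
    have h2 : ({a, a⁻¹} : Finset A).card ≤ T.card := Finset.card_le_card (by
      simp [Finset.insert_subset_iff, ha, hai])
    rw [Finset.card_pair (Ne.symm hane)] at h2
    omega
  obtain ⟨b, hb, hb'⟩ : ∃ b ∈ T, b ∉ ({a, a⁻¹} : Finset A) :=
    Finset.exists_mem_notMem_of_card_lt_card (by rw [Finset.card_pair (Ne.symm hane)]; exact hT3)
  rw [Finset.mem_insert, Finset.mem_singleton, not_or] at hb'
  obtain ⟨ha1, ha4⟩ := (Finset.mem_filter.1 ha).2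
  obtain ⟨hb1, hb4⟩ := (Finset.mem_filter.1 hb).2
  have hz : ∀ g h : A, g ≠ 1 → h ≠ 1 → h ∈ zpowers g → h = g ∨ h = g⁻¹ := by
    intro g h hg hh hm
    obtain ⟨i, rfl⟩ := mem_zpowers_iff.1 hm
    have hi := zpow_eq_zpow_emod' (m := i) (pow_three hV hA g)
    have h0 : 0 ≤ i % 3 := Int.emod_nonneg _ (by norm_num)
    have h2 : i % 3 < 3 := Int.emod_lt_of_pos _ (by norm_num)
    push_cast at hi
    rw [hi] at hh ⊢
    interval_cases h : i % 3
    · exact absurd (zpow_zero g) hh
    · exact Or.inl (zpow_one g)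
    · refine Or.inr (eq_inv_of_mul_eq_one_left ?_)
      rw [zpow_two, ← pow_two, ← pow_succ]
      exact pow_three hV hA g
  have hab : b ∉ zpowers a := fun h => (hz a b ha1 hb1 h).elim hb'.1 hb'.2
  have hba : a ∉ zpowers b := fun h => (hz b a hb1 ha1 h).elim (fun e => hb'.1 e.symm)
    (fun e => hb'.2 (by rw [e, inv_inv]))
  refine ⟨hc, a, b, ha1, hb1, hab, hba, ha4, hb4, ?_⟩
  by_contra hne
  obtain ⟨v, hv, hv1⟩ := (Subgroup.bot_or_exists_ne_one _).resolve_left hne
  -- every element fixes `v`, so all the eight fix four elements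
  have hS : ∀ g : A, v ∈ fixA (g : MulAut V) := by
    let S : Subgroup A := (MulAction.stabilizer (MulAut V) v).subgroupOf A
    have haS : zpowers a ≤ S := zpowers_le.2 hv.1
    have hS9 : S = ⊤ := by
      have hd : Nat.card S ∣ 3 ^ 2 := by
        rw [show (3 : ℕ) ^ 2 = 9 by norm_num, ← hA]; exact S.card_subgroup_dvd_card
      obtain ⟨j, hj, he⟩ := (Nat.dvd_prime_pow Nat.prime_three).1 hd
      have hord : orderOf a = 3 := orderOf_eq_prime (pow_three hV hA a) ha1
      rcases Nat.lt_or_ge j 2 with h2 | h2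
      · exfalso
        refine hab ?_
        have hle := card_dvd_of_le haS
        rw [Nat.card_zpowers, hord, he] at hle
        have : S = zpowers a := (eq_of_le_of_card_ge haS (by
          rw [Nat.card_zpowers, hord, he]
          exact (Nat.pow_le_pow_right (by norm_num) (show j ≤ 1 by omega)).trans (le_of_eq (pow_one 3)))).symm
        rw [← this]
        exact hv.2
      · refine eq_top_of_card_eq _ ?_
        rw [he, hA, show j = 2 by omega]; norm_num
    intro g
    exact (hS9 ▸ mem_top g : g ∈ S)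
  have hall : T = Finset.univ.erase 1 := by
    refine Finset.ext fun g => ⟨fun hg => Finset.mem_erase.2 ⟨(Finset.mem_filter.1 hg).2.1, Finset.mem_univ g⟩,
      fun hg => Finset.mem_filter.2 ⟨Finset.mem_univ g, (Finset.mem_erase.1 hg).1, ?_⟩⟩
    refine (hf g (Finset.mem_erase.1 hg).1).resolve_left fun h1 => hv1 ?_
    have := (Subgroup.card_eq_one.1 h1) ▸ hS g
    exact mem_bot.1 this
  rw [hall, Finset.card_erase_of_mem (Finset.mem_univ (1 : A)), Finset.card_univ, ← Nat.card_eq_fintype_card,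
    hA] at hd
  omega

end Abstract

variable [Finite G] {P : Subgroup G}

/-- One of the two four-groups. -/
theorem split_of_fixed {A : Subgroup (MulAut P)} (hA : A = P.normalizerMonoidHom.range)
    (hA9 : Nat.card A = 9) (hP : Nat.card P = 16) (hc : ∀ g ∈ A, ∀ h ∈ A, g * h = h * g) {a b : A}
    (ha : a ≠ 1) (hb : b ≠ 1) (hab : b ∉ zpowers a) (ha4 : Nat.card (fixA (a : MulAut P)) = 4)
    (hi : fixA (a : MulAut P) ⊓ fixA (b : MulAut P) = ⊥) :
    Split P ((fixA (a : MulAut P)).map P.subtype) ((fixA (b : MulAut P)).map P.subtype) ∧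
      ∀ g, ∀ hg : g ∈ A, ∀ v ∈ fixA (a : MulAut P), v ≠ 1 → g v = v → (⟨g, hg⟩ : A) ∈ zpowers a := by
  haveI : Fact (Nat.Prime 3) := ⟨Nat.prime_three⟩
  subst hA
  have hstab : ∀ g, ∀ hg : g ∈ P.normalizerMonoidHom.range, ∀ v ∈ fixA (a : MulAut P), v ≠ 1 →
      g v = v → (⟨g, hg⟩ : P.normalizerMonoidHom.range) ∈ zpowers a := by
    intro g hg v hv hv1 hgv
    let S : Subgroup P.normalizerMonoidHom.range :=
      (MulAction.stabilizer (MulAut P) v).subgroupOf P.normalizerMonoidHom.range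
    have haS : zpowers a ≤ S := zpowers_le.2 hv
    have hord : orderOf a = 3 := orderOf_eq_prime (pow_three hP hA9 a) ha
    have hbS : b ∉ S := fun h => hv1 (by
      have : v ∈ fixA (a : MulAut P) ⊓ fixA (b : MulAut P) := ⟨hv, h⟩
      rwa [hi, mem_bot] at this)
    have hd : Nat.card S ∣ 3 ^ 2 := by
      rw [show (3 : ℕ) ^ 2 = 9 by norm_num, ← hA9]; exact S.card_subgroup_dvd_card
    obtain ⟨j, hj, he⟩ := (Nat.dvd_prime_pow Nat.prime_three).1 hd
    have hS : S = zpowers a := by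
      refine (eq_of_le_of_card_ge haS ?_).symm
      rcases Nat.lt_or_ge j 2 with h2 | h2
      · rw [Nat.card_zpowers, hord, he]
        exact (Nat.pow_le_pow_right (by norm_num) (show j ≤ 1 by omega)).trans (le_of_eq (pow_one 3))
      · exfalso
        have htop : S = ⊤ := eq_top_of_card_eq _ (by rw [he, hA9, show j = 2 by omega]; norm_num)
        exact hbS (htop ▸ mem_top b)
    rw [← hS]
    exact hgv
  have key : ∀ n (hn : n ∈ normalizer (P : Set G)) (v : P),
      ((P.normalizerMonoidHom ⟨n, hn⟩ v : P) : G) = n * v * n⁻¹ := fun n hn v => rfl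
  refine ⟨⟨map_subtype_le _, ?_, ?_, ?_, ?_, ?_, ?_⟩, hstab⟩
  · rw [Subgroup.card_map_of_injective P.subtype_injective]; exact ha4
  · rw [← Subgroup.map_inf _ _ _ P.subtype_injective, hi, Subgroup.map_bot]
  · rintro n hn _ ⟨v, hv, rfl⟩ hv1 hnv _ ⟨v', hv', rfl⟩
    have hfix : P.normalizerMonoidHom ⟨n, hn⟩ v = v := Subtype.ext (by
      rw [key]; exact mul_inv_eq_iff_eq_mul.2 hnv)
    have hm := hstab _ ⟨_, rfl⟩ v hv (fun e => hv1 (by rw [e]; rfl)) hfix
    obtain ⟨i, hi'⟩ := mem_zpowers_iff.1 hm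
    have hst : (a : MulAut P) ∈ MulAction.stabilizer (MulAut P) v' := hv'
    have := zpow_mem hst i
    rw [← SubgroupClass.coe_zpow, hi'] at this
    exact mul_inv_eq_iff_eq_mul.1 ((key n hn v').symm.trans (congrArg Subtype.val this))
  · rintro n hn _ ⟨v, hv, rfl⟩
    exact ⟨_, fix_mem_of_comm hc ⟨⟨n, hn⟩, rfl⟩ a.2 hv, key n hn v⟩
  · obtain ⟨⟨n, hn⟩, hne⟩ := b.2
    refine ⟨n, hn, ?_, ?_⟩
    · rintro _ ⟨w, hw, rfl⟩
      refine mul_inv_eq_iff_eq_mul.1 ((key n hn w).symm.trans (congrArg Subtype.val ?_))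
      rw [hne]; exact hw
    · rintro _ ⟨v, hv, rfl⟩ hv1 he
      have : v ∈ fixA (a : MulAut P) ⊓ fixA (b : MulAut P) := ⟨hv, by
        show (b : MulAut P) v = v
        rw [← hne]; exact Subtype.ext ((key n hn v).trans he)⟩
      rw [hi, mem_bot] at this
      exact hv1 (by rw [this]; rfl)
  · rintro _ ⟨v, hv, rfl⟩ _ ⟨v', hv', rfl⟩ hv1 hv1'
    -- the orbit of `v` under `b`
    have hord : orderOf b = 3 := orderOf_eq_prime (pow_three hP hA9 b) hb
    let f : Fin 3 → {u : fixA (a : MulAut P) // u ≠ 1} := fun i =>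
      ⟨⟨((b ^ (i : ℕ) : P.normalizerMonoidHom.range) : MulAut P) v,
          fix_mem_of_comm hc (b ^ (i : ℕ)).2 a.2 hv⟩, fun e => hv1 (by
        have e' := congrArg Subtype.val e
        simp only [OneMemClass.coe_one] at e'
        rw [MulEquiv.map_eq_one_iff] at e'
        rw [e']; rfl)⟩
    have hinj : Function.Injective f := by
      intro i j h
      by_contra hij
      have hh := congrArg (fun u : {u : fixA (a : MulAut P) // u ≠ 1} => (u.1 : P)) h
      simp only [f] at hh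
      set g := (b ^ (j : ℕ))⁻¹ * b ^ (i : ℕ) with hgdef
      have hgv : (g : MulAut P) v = v := by
        rw [hgdef, Subgroup.coe_mul, MulAut.mul_apply, hh, InvMemClass.coe_inv]
        exact MulEquiv.symm_apply_apply _ v
      have hgm := hstab _ g.2 v hv (fun e => hv1 (by rw [e]; rfl)) hgv
      have hg1 : g ≠ 1 := fun e => hij (Fin.ext (pow_injOn_Iio_orderOf (by rw [hord]; exact i.2)
        (by rw [hord]; exact j.2) (inv_mul_eq_one.1 e).symm))
      have hgb : g ∈ zpowers b := mul_mem (inv_mem (pow_mem (mem_zpowers b) _)) (pow_mem (mem_zpowers b) _)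
      have hga : zpowers g = zpowers a := by
        refine eq_of_le_of_card_ge (zpowers_le.2 hgm) ?_
        rw [Nat.card_zpowers, Nat.card_zpowers, orderOf_eq_prime (pow_three hP hA9 a) ha,
          orderOf_eq_prime (pow_three hP hA9 g) hg1]
      have hgb' : zpowers g = zpowers b := by
        refine eq_of_le_of_card_ge (zpowers_le.2 hgb) ?_
        rw [Nat.card_zpowers, Nat.card_zpowers, hord, orderOf_eq_prime (pow_three hP hA9 g) hg1]
      exact hab (hga ▸ hgb'.symm ▸ mem_zpowers b)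
    have hcard : Nat.card {u : fixA (a : MulAut P) // u ≠ 1} = 3 := by
      classical
      haveI := Fintype.ofFinite (fixA (a : MulAut P))
      rw [Nat.card_eq_fintype_card, Fintype.card_subtype_compl, Fintype.card_subtype_eq,
        ← Nat.card_eq_fintype_card, ha4]
    haveI := Fintype.ofFinite {u : fixA (a : MulAut P) // u ≠ 1}
    have hsurj := ((Fintype.bijective_iff_injective_and_card f).2
      ⟨hinj, by rw [Fintype.card_fin, ← Nat.card_eq_fintype_card, hcard]⟩).2
      ⟨⟨v', hv'⟩, fun e => hv1' (congrArg (fun u : fixA (a : MulAut P) => ((u : P) : G)) e)⟩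
    obtain ⟨i, hi'⟩ := hsurj
    obtain ⟨⟨n, hn⟩, hne⟩ := (b ^ (i : ℕ)).2
    refine ⟨n, hn, (key n hn v).symm.trans ?_⟩
    rw [hne]
    exact congrArg (fun u : {u : fixA (a : MulAut P) // u ≠ 1} => ((u.1 : P) : G)) hi'

/-- An automizer of order nine. -/
theorem exists_nine (hP : Nat.card P = 16)
    (he : (centralizer (P : Set G)).relIndex (normalizer (P : Set G)) = 9) :
    ∃ V W, Nine P V W := by
  set A := P.normalizerMonoidHom.range with hA
  have hA9 : Nat.card A = 9 := by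
    rw [← Subgroup.index_ker, P.normalizerMonoidHom_ker]
    exact he
  obtain ⟨hc, a, b, ha, hb, hab, hba, ha4, hb4, hi⟩ := exists_two_fixed hP hA9
  obtain ⟨hL, hsa⟩ := split_of_fixed hA hA9 hP hc ha hb hab ha4 hi
  obtain ⟨hR, hsb⟩ := split_of_fixed hA hA9 hP hc hb ha hba hb4 (by rwa [inf_comm])
  set V := (fixA (a : MulAut P)).map P.subtype
  set W := (fixA (b : MulAut P)).map P.subtype
  have hdec : ∀ u ∈ P, ∃ v ∈ V, ∃ w ∈ W, v * w = u := by
    intro u hu
    let f : fixA (a : MulAut P) × fixA (b : MulAut P) → P := fun q => q.1 * q.2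
    have hf : Function.Bijective f := by
      haveI := Fintype.ofFinite (fixA (a : MulAut P))
      haveI := Fintype.ofFinite (fixA (b : MulAut P))
      haveI := Fintype.ofFinite P
      refine (Fintype.bijective_iff_injective_and_card f).2 ⟨?_, by
        rw [Fintype.card_prod, ← Nat.card_eq_fintype_card, ← Nat.card_eq_fintype_card,
          ← Nat.card_eq_fintype_card, ha4, hb4, hP]⟩
      intro q r h
      have hh : (r.1 : P)⁻¹ * q.1 = r.2 * (q.2 : P)⁻¹ := by
        rw [eq_mul_inv_iff_mul_eq, mul_assoc, inv_mul_eq_iff_eq_mul]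
        exact h
      have hmem : (r.1 : P)⁻¹ * q.1 ∈ fixA (a : MulAut P) ⊓ fixA (b : MulAut P) :=
        Subgroup.mem_inf.2 ⟨mul_mem (inv_mem r.1.2) q.1.2, hh ▸ mul_mem r.2.2 (inv_mem q.2.2)⟩
      rw [hi, mem_bot] at hmem
      refine Prod.ext (Subtype.ext (inv_mul_eq_one.1 hmem).symm) (Subtype.ext ?_)
      rw [hmem, eq_comm, mul_inv_eq_one] at hh
      exact hh.symm
    obtain ⟨⟨v, w⟩, hvw⟩ := hf.2 ⟨u, hu⟩
    exact ⟨_, ⟨v, v.2, rfl⟩, _, ⟨w, w.2, rfl⟩, congrArg Subtype.val hvw⟩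
  have hmixed : ∀ n ∈ normalizer (P : Set G), ∀ v ∈ V, v ≠ 1 → ∀ w ∈ W, w ≠ 1 → n * v = v * n →
      n * w = w * n → n ∈ centralizer (P : Set G) := by
    intro n hn v hv hv1 w hw hw1 hnv hnw
    rw [mem_centralizer_iff]
    intro u hu
    obtain ⟨v', hv', w', hw', rfl⟩ := hdec u hu
    rw [mul_assoc, ← hR.stab n hn w hw hw1 hnw w' hw', ← mul_assoc, ← hL.stab n hn v hv hv1 hnv v' hv',
      mul_assoc]
  have hparts : ∀ u v w : G, v ∈ V → w ∈ W → v * w = u → u ∉ V → u ∉ W → v ≠ 1 ∧ w ≠ 1 := by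
    intro u v w hv hw e hu hu'
    constructor <;> rintro rfl
    · exact hu' (by rw [← e, one_mul]; exact hw)
    · exact hu (by rw [← e, mul_one]; exact hv)
  have hfree : ∀ n ∈ normalizer (P : Set G), ∀ u ∈ P, u ∉ V → u ∉ W → n * u = u * n →
      n ∈ centralizer (P : Set G) := by
    intro n hn u hu hu1 hu2 hnu
    obtain ⟨v, hv, w, hw, e⟩ := hdec u hu
    obtain ⟨hv1, hw1⟩ := hparts u v w hv hw e hu1 hu2
    have hv' := hL.normal n hn v hv
    have hw' := hR.normal n hn w hw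
    have heq : n * v * n⁻¹ * (n * w * n⁻¹) = v * w := by
      rw [e, ← mul_inv_eq_iff_eq_mul.2 hnu, ← e]; group
    have hm : v⁻¹ * (n * v * n⁻¹) = w * (n * w * n⁻¹)⁻¹ := by
      rw [eq_mul_inv_iff_mul_eq, mul_assoc, inv_mul_eq_iff_eq_mul]
      exact heq
    have hmem : v⁻¹ * (n * v * n⁻¹) ∈ V ⊓ W :=
      Subgroup.mem_inf.2 ⟨mul_mem (inv_mem hv) hv', hm ▸ mul_mem hw (inv_mem hw')⟩
    rw [hL.inf, mem_bot] at hmem
    refine hmixed n hn v hv hv1 w hw hw1 (mul_inv_eq_iff_eq_mul.1 (inv_mul_eq_one.1 hmem).symm) ?_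
    rw [hmem, eq_comm, mul_inv_eq_one] at hm
    exact mul_inv_eq_iff_eq_mul.1 hm.symm
  refine ⟨V, W, hL, hR, hfree, hmixed, fun u hu u' hu' h1 h2 h1' h2' => ?_, hdec⟩
  obtain ⟨v, hv, w, hw, rfl⟩ := hdec u hu
  obtain ⟨v', hv', w', hw', rfl⟩ := hdec u' hu'
  obtain ⟨hv1, hw1⟩ := hparts _ v w hv hw rfl h1 h2
  obtain ⟨hv1', hw1'⟩ := hparts _ v' w' hv' hw' rfl h1' h2'
  obtain ⟨n, hn, hnv⟩ := hL.trans v hv v' hv' hv1 hv1'
  obtain ⟨e, he, hew, hev⟩ := hR.rot
  -- the powers of an element centralizing `V` move the image of `w` to all of `W`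
  have hwn : n * w * n⁻¹ ∈ W := hR.normal n hn w hw
  have hwn1 : n * w * n⁻¹ ≠ 1 := fun h => hw1 (conj_eq_one_iff.1 h)
  have hset : n * w * n⁻¹ = w' ∨ e * (n * w * n⁻¹) * e⁻¹ = w' ∨
      e * (e * (n * w * n⁻¹) * e⁻¹) * e⁻¹ = w' := by
    classical
    set w₀ := n * w * n⁻¹
    set w₁ := e * w₀ * e⁻¹ with hw₁
    set w₂ := e * w₁ * e⁻¹ with hw₂
    have m1 : w₁ ∈ W := hR.normal e he _ hwn
    have m2 : w₂ ∈ W := hR.normal e he _ m1
    have n1 : w₁ ≠ 1 := fun h => hwn1 (conj_eq_one_iff.1 h)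
    have n2 : w₂ ≠ 1 := fun h => n1 (conj_eq_one_iff.1 h)
    have d01 : w₁ ≠ w₀ := hev _ hwn hwn1
    have d12 : w₂ ≠ w₁ := hev _ m1 n1
    have d02 : w₂ ≠ w₀ := by
      intro h
      refine d01 ?_
      have h3 := congrArg Subtype.val (pow_three hP hA9 (⟨P.normalizerMonoidHom ⟨e, he⟩, _, rfl⟩ : A))
      simp only [SubmonoidClass.coe_pow, OneMemClass.coe_one] at h3
      rw [← map_pow] at h3
      have happ : e ^ 3 * w₀ * (e ^ 3)⁻¹ = w₀ :=
        congrArg (fun f : MulAut P => ((f ⟨w₀, hR.le hwn⟩ : P) : G)) h3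
      calc w₁ = e * w₂ * e⁻¹ := by rw [h]
        _ = e ^ 3 * w₀ * (e ^ 3)⁻¹ := by
          rw [hw₂, hw₁, pow_succ, pow_two, _root_.mul_inv_rev, _root_.mul_inv_rev]
          simp only [mul_assoc]
        _ = w₀ := happ
    haveI : Fintype W := Fintype.ofFinite W
    have hsub : ({⟨1, one_mem W⟩, ⟨w₀, hwn⟩, ⟨w₁, m1⟩, ⟨w₂, m2⟩} : Finset W) = Finset.univ := by
      refine Finset.eq_univ_of_card _ ?_
      rw [Finset.card_insert_of_notMem, Finset.card_insert_of_notMem, Finset.card_pair,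
        ← Nat.card_eq_fintype_card, hR.card]
      · exact fun h => d12 (congrArg Subtype.val h).symm
      · simp [d01.symm, d02.symm]
      · simp [Ne.symm hwn1, Ne.symm n1, Ne.symm n2]
    have := hsub ▸ Finset.mem_univ (⟨w', hw'⟩ : W)
    simp only [Finset.mem_insert, Finset.mem_singleton, Subtype.mk.injEq] at this
    rcases this with h | h | h | h
    · exact absurd h hw1'
    · exact Or.inl h.symm
    · exact Or.inr (Or.inl h.symm)
    · exact Or.inr (Or.inr h.symm)
  have hev' : e * v' * e⁻¹ = v' := mul_inv_eq_iff_eq_mul.2 (hew v' hv')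
  have hexp : ∀ g x z : G, g * (x * z) * g⁻¹ = g * x * g⁻¹ * (g * z * g⁻¹) := fun g x z => by group
  rcases hset with h | h | h
  · exact ⟨n, hn, by rw [hexp, hnv, h]⟩
  · refine ⟨e * n, mul_mem he hn, ?_⟩
    rw [show e * n * (v * w) * (e * n)⁻¹ = e * (n * v * n⁻¹ * (n * w * n⁻¹)) * e⁻¹ by group, hnv, hexp,
      hev', h]
  · refine ⟨e * e * n, mul_mem (mul_mem he he) hn, ?_⟩
    rw [show e * e * n * (v * w) * (e * e * n)⁻¹ =
      e * (e * (n * v * n⁻¹ * (n * w * n⁻¹)) * e⁻¹) * e⁻¹ by group, hnv, hexp e v', hev', hexp e v',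
      hev', h]

end Cfsg.Lib.Block.SixteenNine
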