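import Cfsg.Agent.Lib.Block.KleinStructure
import Cfsg.Agent.Lib.Block.CoverBasics
import Cfsg.Agent.Lib.Block.DihedralColumns
import Cfsg.Agent.Lib.Char.UniformCent
import Cfsg.Agent.Lib.Char.Linear

/-!
# A group with a central involution and a normal subgroup of index four with a four-group

`K` has index four, its Sylow subgroup is a four-group with one class of involutions, the central
involution `x` is outside `K`, and for some involution `a y` outside `⟨x⟩ K` the centralizer has a
normal two-complement and Sylow subgroups of order sixteen. Then all four characters of the principal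
block of `K` are invariant, and the principal block of the whole group has rank three.
-/

set_option autoImplicit false
set_option linter.unusedSectionVars false
set_option linter.style.haveILetI false
set_option maxHeartbeats 800000

namespace Cfsg.Lib.Block.SixteenNine

open Cfsg Cfsg.Lib Cfsg.Lib.Block
open scoped ComplexConjugate Classical

universe u

/-- The situation in the centralizer of an involution of one of the two four-groups. -/
structure Loc {H : Type u} [Group H] (K : Subgroup H) (Q : Sylow 2 K) (x a : H) (y : K) : Prop where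
  idx : K.index = 4
  central : ∀ h : H, h * x = x * h
  sq : x * x = 1
  x_notMem : x ∉ K
  a_notMem : a ∉ K
  xa_notMem : x * a ∉ K
  klein : KleinCond Q
  y_two : orderOf y = 2
  g_sq : a * y * (a * y) = 1
  comp : HasNormalPComplement 2 (Subgroup.centralizer ({a * (y : H)} : Set H))
  sixteen : ∀ R : Sylow 2 (Subgroup.centralizer ({a * (y : H)} : Set H)),
    Nat.card (R : Subgroup (Subgroup.centralizer ({a * (y : H)} : Set H))) = 16

variable {H : Type u} [Group H] [Fintype H] {K : Subgroup H} [hKn : K.Normal] [Fintype K]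
  {Q : Sylow 2 K} {x a : H} {y : K}

/-- The multiplicity of a character of `K` in the restriction of a character of `H`. -/
noncomputable def mult (η : IrrCharacter H) (θ : IrrCharacter K) : ℕ :=
  ((η.2.isCharacter.comp K.subtype).exists_nat_classInner θ.2.isCharacter).choose

theorem mult_spec (η : IrrCharacter H) (θ : IrrCharacter K) :
    classInner (fun k : K => (η : H → ℂ) k) (θ : K → ℂ) = (mult η θ : ℂ) :=
  ((η.2.isCharacter.comp K.subtype).exists_nat_classInner θ.2.isCharacter).choose_spec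

theorem mult_ne_iff (η : IrrCharacter H) (θ : IrrCharacter K) :
    classInner (fun k : K => (η : H → ℂ) k) (θ : K → ℂ) ≠ 0 ↔ mult η θ ≠ 0 := by
  rw [mult_spec, Nat.cast_ne_zero]

theorem classInner_indFun_irr (θ : IrrCharacter K) (η : IrrCharacter H) :
    classInner (indFun K (θ : K → ℂ)) (η : H → ℂ) = (mult η θ : ℂ) := by
  rw [Char.classInner_indFun K _ η.2.isClassFunction, ← Char.classInner_conj_symm, mult_spec,
    Complex.conj_natCast]

theorem sum_mult_mul (θ φ : IrrCharacter K) :
    classInner (indFun K (θ : K → ℂ)) (indFun K (φ : K → ℂ)) =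
      ∑ η : IrrCharacter H, (mult η θ : ℂ) * (mult η φ : ℂ) := by
  conv_lhs => arg 2; rw [Char.eq_sum_classInner (Char.isClassFunction_indFun K (φ : K → ℂ))]
  rw [Char.classInner_sum_right]
  refine Finset.sum_congr rfl fun η _ => ?_
  rw [Char.classInner_smul_right, classInner_indFun_irr, classInner_indFun_irr, Complex.conj_natCast]
  ring

namespace Loc

variable (L : Loc K Q x a y)
include L

theorem quot_comm (g h : H) : (g : H ⧸ K) * h = (h : H ⧸ K) * g := by
  haveI : Fact (Nat.Prime 2) := ⟨Nat.prime_two⟩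
  have hc : Nat.card (H ⧸ K) = 2 ^ 2 := by rw [← Subgroup.index_eq_card, L.idx]; norm_num
  exact (IsPGroup.isMulCommutative_of_card_eq_prime_sq hc).is_comm.comm _ _

theorem four (h : H) : h ∈ K ∨ x⁻¹ * h ∈ K ∨ a⁻¹ * h ∈ K ∨ (x * a)⁻¹ * h ∈ K := by
  haveI : Fintype (H ⧸ K) := Fintype.ofFinite _
  have hc : Fintype.card (H ⧸ K) = 4 := by
    rw [← Nat.card_eq_fintype_card, ← Subgroup.index_eq_card, L.idx]
  have h1 : ((1 : H) : H ⧸ K) ≠ x := fun e => L.x_notMem (by simpa using QuotientGroup.eq.1 e)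
  have h2 : ((1 : H) : H ⧸ K) ≠ a := fun e => L.a_notMem (by simpa using QuotientGroup.eq.1 e)
  have h3 : ((1 : H) : H ⧸ K) ≠ (x * a : H) := fun e =>
    L.xa_notMem (by simpa using QuotientGroup.eq.1 e)
  have h4 : (x : H ⧸ K) ≠ a := fun e => L.xa_notMem (by
    have := QuotientGroup.eq.1 e
    rwa [inv_eq_of_mul_eq_one_right L.sq] at this)
  have h5 : (x : H ⧸ K) ≠ (x * a : H) := fun e => L.a_notMem (by
    have := QuotientGroup.eq.1 e
    rwa [inv_mul_cancel_left] at this)
  have h6 : (a : H ⧸ K) ≠ (x * a : H) := fun e => L.x_notMem (by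
    have := QuotientGroup.eq.1 e
    rwa [← L.central a, inv_mul_cancel_left] at this)
  have hs : ({((1 : H) : H ⧸ K), (x : H ⧸ K), (a : H ⧸ K), ((x * a : H) : H ⧸ K)} : Finset (H ⧸ K)) =
      Finset.univ := by
    refine Finset.eq_univ_of_card _ ?_
    rw [Finset.card_insert_of_notMem (by simp only [Finset.mem_insert, Finset.mem_singleton, not_or]; exact ⟨h1, h2, h3⟩),
      Finset.card_insert_of_notMem (by simp only [Finset.mem_insert, Finset.mem_singleton, not_or]; exact ⟨h4, h5⟩),
      Finset.card_pair h6, hc]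
  have hm := hs ▸ Finset.mem_univ (h : H ⧸ K)
  simp only [Finset.mem_insert, Finset.mem_singleton] at hm
  rcases hm with e | e | e | e <;> have e' := QuotientGroup.eq.1 e.symm
  · left; simpa using e'
  · exact Or.inr (Or.inl e')
  · exact Or.inr (Or.inr (Or.inl e'))
  · exact Or.inr (Or.inr (Or.inr e'))

theorem g_two : orderOf (a * (y : H)) = 2 :=
  orderOf_eq_two_of_sq L.g_sq fun e => L.a_notMem (by
    rw [show a = (y : H)⁻¹ from eq_inv_of_mul_eq_one_left e]
    exact inv_mem y.2)

theorem a_sq_mem : a * a ∈ K := by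
  have e : ((a * (y : H) : H) : H ⧸ K) = (a : H ⧸ K) := QuotientGroup.eq.2 (by
    rw [_root_.mul_inv_rev, mul_assoc, inv_mul_cancel, mul_one]; exact inv_mem y.2)
  rw [← QuotientGroup.eq_one_iff, QuotientGroup.mk_mul, ← e, ← QuotientGroup.mk_mul, L.g_sq,
    QuotientGroup.mk_one]

/-! ### Conjugates of the characters of `K` -/

omit L in
theorem twist_of_mem {k : H} (hk : k ∈ K) (θ : IrrCharacter K) :
    Char.conjTwist K (θ : K → ℂ) k = (θ : K → ℂ) :=
  (Char.mem_inertia K).1 (Char.le_inertia K θ.2.isClassFunction hk)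

theorem twist_x (θ : IrrCharacter K) : Char.conjTwist K (θ : K → ℂ) x = (θ : K → ℂ) := by
  funext k
  rw [Char.conjTwist_apply]
  exact congrArg _ (Subtype.ext (mul_inv_eq_iff_eq_mul.2 (L.central k).symm))

theorem twist_or (θ : IrrCharacter K) (h : H) :
    Char.conjTwist K (θ : K → ℂ) h = (θ : K → ℂ) ∨
      Char.conjTwist K (θ : K → ℂ) h = Char.conjTwist K (θ : K → ℂ) a := by
  have key : ∀ (g k : H), k ∈ K → Char.conjTwist K (θ : K → ℂ) (g * k) =
      Char.conjTwist K (θ : K → ℂ) g := by
    intro g k hk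
    rw [← Char.conjTwist_conjTwist]
    exact twist_of_mem hk (twistIrr K g θ)
  rcases L.four h with e | e | e | e
  · exact Or.inl (twist_of_mem e θ)
  · left; rw [← mul_inv_cancel_left x h, key _ _ e, L.twist_x]
  · right; rw [← mul_inv_cancel_left a h, key _ _ e]
  · right
    rw [← mul_inv_cancel_left (x * a) h, key _ _ e, ← Char.conjTwist_conjTwist, L.twist_x]

theorem twist_twist (θ : IrrCharacter K) : twistIrr K a (twistIrr K a θ) = θ :=
  Subtype.ext (by rw [coe_twistIrr, coe_twistIrr, Char.conjTwist_conjTwist, twist_of_mem L.a_sq_mem])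

theorem inertia_cases (θ : IrrCharacter K) :
    (twistIrr K a θ = θ → Char.inertia K (θ : K → ℂ) = ⊤ ∧
      Char.twistOrbit K (θ : K → ℂ) = {(θ : K → ℂ)}) ∧
    (twistIrr K a θ ≠ θ → (Char.inertia K (θ : K → ℂ)).index = 2 ∧
      Char.twistOrbit K (θ : K → ℂ) = {(θ : K → ℂ), (twistIrr K a θ : K → ℂ)}) := by
  have horb : Char.twistOrbit K (θ : K → ℂ) = {(θ : K → ℂ), (twistIrr K a θ : K → ℂ)} := by
    ext φ
    rw [Char.mem_twistOrbit, Finset.mem_insert, Finset.mem_singleton, coe_twistIrr]
    constructor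
    · rintro ⟨g, rfl⟩; exact L.twist_or θ g
    · rintro (rfl | rfl)
      · exact ⟨1, Char.conjTwist_one K _⟩
      · exact ⟨a, rfl⟩
  refine ⟨fun e => ?_, fun e => ⟨?_, horb⟩⟩
  · have ha : Char.conjTwist K (θ : K → ℂ) a = (θ : K → ℂ) := congrArg Subtype.val e
    refine ⟨eq_top_iff.2 fun h _ => (Char.mem_inertia K).2 ?_, ?_⟩
    · rcases L.twist_or θ h with h' | h'
      · exact h'
      · exact h'.trans ha
    · rw [horb, coe_twistIrr, ha]; simp
  · rw [← Char.card_twistOrbit, horb, Finset.card_pair fun h => e (Subtype.ext h.symm)]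

theorem card_eq : Nat.card H = 4 * Nat.card K := by rw [← K.card_mul_index, L.idx, mul_comm]

theorem sum_mult_sq (θ : IrrCharacter K) :
    ∑ η : IrrCharacter H, mult η θ ^ 2 = if twistIrr K a θ = θ then 4 else 2 := by
  have h := Char.classInner_indFun_self K θ.2
  rw [sum_mult_mul] at h
  have hi : Nat.card (Char.inertia K (θ : K → ℂ)) =
      Nat.card K * if twistIrr K a θ = θ then 4 else 2 := by
    have hH := (Char.inertia K (θ : K → ℂ)).card_mul_index
    rw [L.card_eq] at hH
    obtain ⟨hfix, hmov⟩ := L.inertia_cases θ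
    split_ifs with e
    · rw [(hfix e).1, Subgroup.card_top, L.card_eq, mul_comm]
    · rw [(hmov e).1] at hH
      omega
  rw [hi, Nat.cast_mul] at h
  have h' := mul_left_cancel₀ (Nat.cast_ne_zero.2 Nat.card_pos.ne') h
  apply Nat.cast_injective (R := ℂ)
  push_cast
  rw [Nat.cast_ite] at h'
  push_cast at h'
  rw [← h']
  exact Finset.sum_congr rfl fun η _ => pow_two _

/-! ### The sign at `x` -/

theorem apply_x (η : IrrCharacter H) :
    (η : H → ℂ) x = (η : H → ℂ) 1 ∨ (η : H → ℂ) x = -(η : H → ℂ) 1 := by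
  have h := Char.irr_apply_central_mul η.2 L.central x
  rw [L.sq] at h
  exact mul_self_eq_mul_self_iff.1 h.symm

theorem apply_x_mul (η : IrrCharacter H) (h : H) :
    ((η : H → ℂ) x = (η : H → ℂ) 1 → (η : H → ℂ) (x * h) = (η : H → ℂ) h) ∧
      ((η : H → ℂ) x = -(η : H → ℂ) 1 → (η : H → ℂ) (x * h) = -(η : H → ℂ) h) := by
  have e := Char.irr_apply_central_mul η.2 L.central h
  constructor <;> intro hs <;> rw [hs] at e <;> apply mul_right_cancel₀ η.2.apply_one_ne_zero
  · rw [e, mul_comm]
  · rw [e]; ring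

/-- Above an invariant character the sign at `x` is balanced and the multiplicities are one. -/
theorem plus_facts {θ : IrrCharacter K} (hθ : twistIrr K a θ = θ) :
    (Finset.univ.filter fun η : IrrCharacter H =>
      (η : H → ℂ) x = (η : H → ℂ) 1 ∧ mult η θ ≠ 0).card = 2 ∧
    ∀ η : IrrCharacter H, mult η θ ≤ 1 := by
  have hsq := L.sum_mult_sq θ
  rw [if_pos hθ] at hsq
  obtain ⟨htop, horb⟩ := (L.inertia_cases θ).1 hθ
  have hdeg : ∀ η : IrrCharacter H, mult η θ ≠ 0 → (η : H → ℂ) 1 = (mult η θ : ℂ) * (θ : K → ℂ) 1 := by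
    intro η hη
    have h := Char.clifford_degree K η.2 θ.2 ((mult_ne_iff η θ).2 hη)
    rwa [htop, Subgroup.index_top, Nat.cast_one, mul_one, mult_spec] at h
  -- the induced character vanishes at `x`
  have hind : indFun K (θ : K → ℂ) x = 0 := by
    rw [indFun, Finset.sum_eq_zero, mul_zero]
    intro g _
    rw [mul_assoc, ← L.central g, inv_mul_cancel_left]
    exact Char.extendByZero_of_notMem K _ L.x_notMem
  rw [Char.eq_sum_classInner (Char.isClassFunction_indFun K (θ : K → ℂ))] at hind
  simp only [Finset.sum_apply, Pi.smul_apply, smul_eq_mul, classInner_indFun_irr] at hind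
  have hpm : ∀ η : IrrCharacter H, (mult η θ : ℂ) * (η : H → ℂ) x =
      (θ : K → ℂ) 1 * (((if (η : H → ℂ) x = (η : H → ℂ) 1 then 1 else -1 : ℤ) * mult η θ ^ 2 : ℤ) : ℂ) := by
    intro η
    by_cases hm : mult η θ = 0
    · simp [hm]
    split_ifs with hs
    · rw [hs, hdeg η hm]; push_cast; ring
    · rw [(L.apply_x η).resolve_left hs, hdeg η hm]; push_cast; ring
  rw [Finset.sum_congr rfl fun η _ => hpm η, ← Finset.mul_sum, mul_eq_zero,
    or_iff_right θ.2.apply_one_ne_zero, ← Int.cast_sum, Int.cast_eq_zero] at hind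
  set S := Finset.univ.filter fun η : IrrCharacter H => (η : H → ℂ) x = (η : H → ℂ) 1 with hS
  set T := Finset.univ.filter fun η : IrrCharacter H => ¬ (η : H → ℂ) x = (η : H → ℂ) 1 with hT
  have h1 : ∑ η ∈ S, mult η θ ^ 2 + ∑ η ∈ T, mult η θ ^ 2 = 4 := by
    rw [← hsq]; exact Finset.sum_filter_add_sum_filter_not _ _ _
  rw [← Finset.sum_filter_add_sum_filter_not Finset.univ
    (fun η : IrrCharacter H => (η : H → ℂ) x = (η : H → ℂ) 1), ← hS, ← hT] at hind
  rw [Finset.sum_congr rfl (g := fun η => ((mult η θ ^ 2 : ℕ) : ℤ)) (fun η hη => by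
      rw [if_pos (Finset.mem_filter.1 hη).2]; push_cast; ring),
    Finset.sum_congr rfl (s₁ := T) (g := fun η => -((mult η θ ^ 2 : ℕ) : ℤ)) (fun η hη => by
      rw [if_neg (Finset.mem_filter.1 hη).2]; push_cast; ring),
    Finset.sum_neg_distrib, ← Nat.cast_sum, ← Nat.cast_sum] at hind
  have h2 : ∑ η ∈ S, mult η θ ^ 2 = 2 ∧ ∑ η ∈ T, mult η θ ^ 2 = 2 := by omega
  have hle : ∀ η : IrrCharacter H, mult η θ ≤ 1 := by
    intro η
    by_contra hlt
    have h4 : 4 ≤ mult η θ ^ 2 := le_trans (by norm_num) (Nat.pow_le_pow_left (show 2 ≤ mult η θ by omega) 2)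
    by_cases hs : (η : H → ℂ) x = (η : H → ℂ) 1
    · have : mult η θ ^ 2 ≤ ∑ η ∈ S, mult η θ ^ 2 := Finset.single_le_sum
        (f := fun η => mult η θ ^ 2) (fun _ _ => Nat.zero_le _)
        (Finset.mem_filter.2 ⟨Finset.mem_univ η, hs⟩ : η ∈ S)
      omega
    · have : mult η θ ^ 2 ≤ ∑ η ∈ T, mult η θ ^ 2 := Finset.single_le_sum
        (f := fun η => mult η θ ^ 2) (fun _ _ => Nat.zero_le _)
        (Finset.mem_filter.2 ⟨Finset.mem_univ η, hs⟩ : η ∈ T)
      omega
  refine ⟨?_, hle⟩
  rw [← h2.1, ← Finset.filter_filter, ← hS, Finset.card_filter]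
  refine Finset.sum_congr rfl fun η _ => ?_
  have := hle η
  interval_cases mult η θ <;> simp

/-- A character over a moved one vanishes at `a y`. -/
theorem apply_eq_zero_of_moved {θ : IrrCharacter K} (hθ : twistIrr K a θ ≠ θ) {η : IrrCharacter H}
    (hη : mult η θ ≠ 0) : (η : H → ℂ) (a * y) = 0 := by
  obtain ⟨-, horb⟩ := (L.inertia_cases θ).2 hθ
  have hsq := L.sum_mult_sq θ
  rw [if_neg hθ] at hsq
  have hm1 : mult η θ = 1 := by
    have := Finset.single_le_sum (f := fun η => mult η θ ^ 2) (fun _ _ => Nat.zero_le _)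
      (Finset.mem_univ η)
    rw [hsq] at this
    by_contra hne
    have h4 : 4 ≤ mult η θ ^ 2 := le_trans (by norm_num) (Nat.pow_le_pow_left (show 2 ≤ mult η θ by omega) 2)
    omega
  have hres := Char.clifford_res K η.2 θ.2 ((mult_ne_iff η θ).2 hη)
  rw [mult_spec, hm1, Nat.cast_one, one_smul, horb,
    Finset.sum_pair (fun h => hθ (Subtype.ext h.symm))] at hres
  -- the norm on `K`
  have hK : ∑ k : K, (Complex.normSq ((η : H → ℂ) k) : ℂ) = (Nat.card K : ℂ) * 2 := by
    have h : classInner (fun k : K => (η : H → ℂ) k) (fun k : K => (η : H → ℂ) k) = 2 := by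
      rw [hres, Char.classInner_add_left, Char.classInner_add_right, Char.classInner_add_right,
        Char.classInner_irr_self θ.2, Char.classInner_irr_self (twistIrr K a θ).2,
        Char.classInner_irr_ne θ.2 (twistIrr K a θ).2 (fun h => hθ (Subtype.ext h.symm)),
        Char.classInner_irr_ne (twistIrr K a θ).2 θ.2 (fun h => hθ (Subtype.ext h))]
      norm_num
    rw [classInner, inv_mul_eq_iff_eq_mul₀ Char.card_cast_ne_zero] at h
    rw [← h]
    exact Finset.sum_congr rfl fun k _ => (Complex.mul_conj _).symm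
  have hH : ∑ g : H, (Complex.normSq ((η : H → ℂ) g) : ℂ) = (Nat.card H : ℂ) := by
    have h := Char.classInner_irr_self η.2
    rw [classInner, inv_mul_eq_iff_eq_mul₀ Char.card_cast_ne_zero, mul_one] at h
    rw [← h]
    exact Finset.sum_congr rfl fun k _ => (Complex.mul_conj _).symm
  rw [L.card_eq, Nat.cast_mul, Nat.cast_ofNat] at hH
  set f : H → ℝ := fun g => Complex.normSq ((η : H → ℂ) g) with hf
  set S₁ := Finset.univ.filter (fun g : H => g ∈ K) with hS₁
  set S₂ := Finset.univ.filter (fun g : H => x * g ∈ K) with hS₂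
  have h1 : ∑ g ∈ S₁, f g = ∑ k : K, f k :=
    Finset.sum_subtype _ (fun g => by simp [hS₁]) f
  have h2 : ∑ g ∈ S₂, f g = ∑ k : K, f k := by
    rw [← h1]
    refine Finset.sum_nbij' (x * ·) (x * ·) (fun g hg => ?_) (fun g hg => ?_) (fun g _ => ?_)
      (fun g _ => ?_) fun g _ => ?_
    · simpa [hS₁, hS₂] using hg
    · simpa [hS₁, hS₂, ← mul_assoc, L.sq] using hg
    · simp [← mul_assoc, L.sq]
    · simp [← mul_assoc, L.sq]
    · rcases L.apply_x η with hs | hs
      · simp only [hf, (L.apply_x_mul η g).1 hs]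
      · simp only [hf, (L.apply_x_mul η g).2 hs, Complex.normSq_neg]
  have hdis : Disjoint S₁ S₂ := Finset.disjoint_left.2 fun g hg hg' => by
    simp only [hS₁, hS₂, Finset.mem_filter, Finset.mem_univ, true_and] at hg hg'
    exact L.x_notMem (by simpa using mul_mem hg' (inv_mem hg))
  have hKr : ∑ k : K, f k = (Nat.card K : ℝ) * 2 := by
    apply Complex.ofReal_injective
    push_cast
    exact hK
  have hHr : ∑ g : H, f g = 4 * (Nat.card K : ℝ) := by
    apply Complex.ofReal_injective
    push_cast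
    exact hH
  have hrest : ∑ g ∈ (S₁ ∪ S₂)ᶜ, f g = 0 := by
    have := Finset.sum_add_sum_compl (S₁ ∪ S₂) f
    rw [Finset.sum_union hdis, h1, h2, hKr, hHr] at this
    linarith
  have hz := (Finset.sum_eq_zero_iff_of_nonneg fun g _ => Complex.normSq_nonneg _).1 hrest (a * y) (by
    simp only [hS₁, hS₂, Finset.mem_compl, Finset.mem_union, Finset.mem_filter, Finset.mem_univ,
      true_and, not_or]
    refine ⟨fun h => L.a_notMem ?_, fun h => L.xa_notMem ?_⟩
    · simpa using mul_mem h (inv_mem y.2)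
    · simpa [← mul_assoc] using mul_mem h (inv_mem y.2))
  exact Complex.normSq_eq_zero.1 hz

/-! ### The principal blocks -/

variable {M : Ideal AlgInt} (hM : IsPModular 2 M)
include hM

omit L in
theorem twist_mem {θ : IrrCharacter K} (hθ : θ ∈ principalBlock M K) (h : H) :
    twistIrr K h θ ∈ principalBlock M K := by
  have e : twistIrr K h (trivChar K) = trivChar K :=
    Subtype.ext (funext fun k => by rw [twistIrr_apply]; simp [trivChar_coe])
  have h1 := (sameBlock_twistIrr (M := M) K h (trivChar K) θ).2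
    (sameBlock_of_mem hM isPBlock_principal (trivChar_mem_principal hM) hθ)
  rw [e] at h1
  exact mem_of_sameBlock hM isPBlock_principal (trivChar_mem_principal hM) h1

omit L in
theorem classInner_triv_res :
    classInner (fun k : K => ((trivChar H : IrrCharacter H) : H → ℂ) k)
      ((trivChar K : IrrCharacter K) : K → ℂ) = 1 := by
  have : (fun k : K => ((trivChar H : IrrCharacter H) : H → ℂ) k) =
      ((trivChar K : IrrCharacter K) : K → ℂ) := funext fun k => by simp [trivChar_coe]
  rw [this, Char.classInner_irr_self (trivChar K).2]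

theorem mem_of_mult {θ : IrrCharacter K} (hθ : θ ∈ principalBlock M K) {η : IrrCharacter H}
    (hη : mult η θ ≠ 0) : η ∈ principalBlock M H := by
  haveI : Fact (Nat.Prime 2) := ⟨Nat.prime_two⟩
  have h := existsUnique_over K hM ⟨2, by rw [L.idx]; norm_num⟩ (isPBlock_principal (M := M) (G := K))
  have h1 : IsPBlock M (principalBlock M H) ∧ ∃ χ ∈ principalBlock M H, ∃ θ ∈ principalBlock M K,
      classInner (fun n : K => (χ : H → ℂ) n) (θ : K → ℂ) ≠ 0 :=
    ⟨isPBlock_principal, trivChar H, trivChar_mem_principal hM, trivChar K, trivChar_mem_principal hM,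
      by rw [classInner_triv_res hM]; exact one_ne_zero⟩
  have h2 : IsPBlock M (blockOf M (η : H → ℂ)) ∧ ∃ χ ∈ blockOf M (η : H → ℂ),
      ∃ θ ∈ principalBlock M K, classInner (fun n : K => (χ : H → ℂ) n) (θ : K → ℂ) ≠ 0 :=
    ⟨isPBlock_blockOf η, η, self_mem_blockOf hM η, θ, hθ, (mult_ne_iff η θ).2 hη⟩
  exact (h.unique h2 h1) ▸ self_mem_blockOf hM η

omit L in
theorem mem_of_mult_block {η : IrrCharacter H} (hη : η ∈ principalBlock M H) {θ : IrrCharacter K}
    (hθ : mult η θ ≠ 0) : θ ∈ principalBlock M K := by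
  haveI : Fact (Nat.Prime 2) := ⟨Nat.prime_two⟩
  obtain ⟨g, hg⟩ := constituent_conj K hM (isPBlock_principal (M := M) (G := H))
    (isPBlock_principal (M := M) (G := K)) (trivChar_mem_principal hM) (trivChar_mem_principal hM)
    (by rw [classInner_triv_res hM]; exact one_ne_zero) hη ((mult_ne_iff η θ).2 hθ)
  have := twist_mem hM hg g⁻¹
  rwa [twistIrr_inv] at this

omit L in
theorem exists_mult_ne {η : IrrCharacter H} (hη : η ∈ principalBlock M H) :
    ∃ θ ∈ principalBlock M K, mult η θ ≠ 0 := by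
  obtain ⟨θ, hθ⟩ := Char.exists_irr_constituent_res K η.2
  exact ⟨θ, mem_of_mult_block hM hη ((mult_ne_iff η θ).1 hθ), (mult_ne_iff η θ).1 hθ⟩

/-- Every character of the principal block of `K` is invariant. -/
theorem invariant {θ : IrrCharacter K} (hθ : θ ∈ principalBlock M K) : twistIrr K a θ = θ := by
  haveI : Fact (Nat.Prime 2) := ⟨Nat.prime_two⟩
  by_contra hmov
  set θ' := twistIrr K a θ with hθ'
  have hθ'B : θ' ∈ principalBlock M K := twist_mem hM hθ a
  have htriv : twistIrr K a (trivChar K) = trivChar K :=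
    Subtype.ext (funext fun k => by rw [twistIrr_apply]; simp [trivChar_coe])
  have hθt : θ ≠ trivChar K := fun e => hmov (by rw [hθ', e, htriv])
  have hθ't : θ' ≠ trivChar K := fun e => hθt (by
    rw [← L.twist_twist θ, ← hθ', e, htriv])
  obtain ⟨hsg, hcard⟩ := klein_signs hM L.klein L.y_two
  set B := (principalBlock M K).toFinset with hB
  have hB4 : B.card = 4 := by
    rw [← hcard, Nat.card_coe_set_eq, Set.ncard_eq_toFinset_card']
  obtain ⟨θ₁, hθ₁, hθ₁'⟩ : ∃ θ₁ ∈ B, θ₁ ∉ ({trivChar K, θ, θ'} : Finset (IrrCharacter K)) :=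
    Finset.exists_mem_notMem_of_card_lt_card (by
      rw [hB4, Finset.card_insert_of_notMem (by simp [hθt.symm, hθ't.symm]),
        Finset.card_pair (Ne.symm hmov)]
      norm_num)
  simp only [Finset.mem_insert, Finset.mem_singleton, not_or] at hθ₁'
  have hBeq : ({trivChar K, θ, θ', θ₁} : Finset (IrrCharacter K)) = B := by
    refine Finset.eq_of_subset_of_card_le ?_ ?_
    · intro φ hφ
      simp only [Finset.mem_insert, Finset.mem_singleton] at hφ
      rcases hφ with rfl | rfl | rfl | rfl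
      · exact Set.mem_toFinset.2 (trivChar_mem_principal hM)
      · exact Set.mem_toFinset.2 hθ
      · exact Set.mem_toFinset.2 hθ'B
      · exact hθ₁
    · rw [hB4, Finset.card_insert_of_notMem (by simp [hθt.symm, hθ't.symm, Ne.symm hθ₁'.1]),
        Finset.card_insert_of_notMem (by simp [Ne.symm hmov, Ne.symm hθ₁'.2.1]),
        Finset.card_pair (Ne.symm hθ₁'.2.2)]
  have hfix₁ : twistIrr K a θ₁ = θ₁ := by
    have hm : twistIrr K a θ₁ ∈ B := Set.mem_toFinset.2 (twist_mem hM (Set.mem_toFinset.1 hθ₁) a)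
    rw [← hBeq] at hm
    simp only [Finset.mem_insert, Finset.mem_singleton] at hm
    rcases hm with e | e | e | e
    · exact absurd (by rw [← L.twist_twist θ₁, e, htriv]) hθ₁'.1
    · exact absurd (by rw [← L.twist_twist θ₁, e]) hθ₁'.2.2
    · exact absurd (by rw [← L.twist_twist θ₁, e, L.twist_twist]) hθ₁'.2.1
    · exact e
  -- the columns at `a y` and `x a y`
  set g := a * (y : H) with hg
  have hg2 := L.g_two
  choose v hv using fun η : IrrCharacter H => int_value_involution η hg2
  have hxg : ¬ IsConj g (x * g) := by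
    intro hc
    obtain ⟨k, hk⟩ := isConj_iff.1 hc
    refine L.x_notMem ((QuotientGroup.eq_one_iff x).1 ?_)
    have h1 := congrArg (QuotientGroup.mk : H → H ⧸ K) hk
    rw [QuotientGroup.mk_mul, QuotientGroup.mk_mul, L.quot_comm k g, QuotientGroup.mk_inv,
      mul_inv_cancel_right, QuotientGroup.mk_mul] at h1
    exact right_eq_mul.1 h1
  have hxg2 : ∃ k : ℕ, orderOf (x * g) = 2 ^ k := ⟨1, by
    rw [pow_one]
    refine orderOf_eq_two_of_sq ?_ fun e => hxg ?_
    · rw [mul_assoc, ← mul_assoc g x, L.central g, mul_assoc x g g, L.g_sq, mul_one, L.sq]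
    · have : g = x := by rw [← mul_one x, ← e, ← mul_assoc, L.sq, one_mul]
      exact absurd (by
        rw [hg] at this
        rw [show x * a = x * x * (y : H)⁻¹ by rw [← this]; group, L.sq, one_mul]
        exact inv_mem y.2) L.xa_notMem⟩
  have hgk : ∃ k : ℕ, orderOf g = 2 ^ k := ⟨1, by rw [hg2, pow_one]⟩
  have hcol1 := principal_column hM hgk hgk (u := g) (v := g)
  rw [if_pos (IsConj.refl g)] at hcol1
  obtain ⟨R⟩ : Nonempty (Sylow 2 (Subgroup.centralizer ({g} : Set H))) := inferInstance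
  rw [principalDegSq_of_complement hM L.comp R, L.sixteen R, finsum_mem_eq_toFinset_sum] at hcol1
  have hcol2 := principal_column hM hgk hxg2 (u := g) (v := x * g)
  rw [if_neg hxg, finsum_mem_eq_toFinset_sum] at hcol2
  set B' := (principalBlock M H).toFinset with hB'
  set S := B'.filter fun η : IrrCharacter H => (η : H → ℂ) x = (η : H → ℂ) 1 with hS
  have hsum : ∑ η ∈ S, v η ^ 2 = 8 := by
    have e : ((2 * ∑ η ∈ S, v η ^ 2 : ℤ) : ℂ) = ((16 : ℤ) : ℂ) := by
      push_cast
      calc 2 * ∑ η ∈ S, (v η : ℂ) ^ 2 = ∑ η ∈ B', ((η : H → ℂ) g * conj ((η : H → ℂ) g) +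
            (η : H → ℂ) g * conj ((η : H → ℂ) (x * g))) := by
            rw [hS, Finset.sum_filter, Finset.mul_sum]
            refine Finset.sum_congr rfl fun η _ => ?_
            split_ifs with hs
            · rw [(L.apply_x_mul η g).1 hs, hv, map_intCast]; ring
            · rw [(L.apply_x_mul η g).2 ((L.apply_x η).resolve_left hs), hv, map_neg, map_intCast]
              ring
        _ = 16 := by rw [Finset.sum_add_distrib, hcol1, hcol2, add_zero]; norm_num
    have := Int.cast_injective e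
    omega
  have h0 : twistIrr K a (trivChar K) = trivChar K := htriv
  set S0 := Finset.univ.filter (fun η : IrrCharacter H =>
    (η : H → ℂ) x = (η : H → ℂ) 1 ∧ mult η (trivChar K) ≠ 0) with hS0
  set S1 := Finset.univ.filter (fun η : IrrCharacter H =>
    (η : H → ℂ) x = (η : H → ℂ) 1 ∧ mult η θ₁ ≠ 0) with hS1
  obtain ⟨hc0, hle0⟩ := L.plus_facts h0
  obtain ⟨hc1, -⟩ := L.plus_facts hfix₁
  have honly : ∀ (η : IrrCharacter H) (φ ψ : IrrCharacter K), twistIrr K a φ = φ → mult η φ ≠ 0 →
      mult η ψ ≠ 0 → ψ = φ := by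
    intro η φ ψ hφ h1 h2
    have := Char.mem_twistOrbit_of_constituent K η.2 φ.2 ψ.2 ((mult_ne_iff η φ).2 h1)
      ((mult_ne_iff η ψ).2 h2)
    rw [((L.inertia_cases φ).1 hφ).2, Finset.mem_singleton] at this
    exact Subtype.ext this
  have hdis : Disjoint S0 S1 := Finset.disjoint_left.2 fun η h1 h2 =>
    hθ₁'.1 (honly η _ _ h0 (Finset.mem_filter.1 h1).2.2 (Finset.mem_filter.1 h2).2.2)
  have hS01 : ∑ η ∈ S, v η ^ 2 = ∑ η ∈ S0 ∪ S1, v η ^ 2 := by
    refine (Finset.sum_subset ?_ ?_).symm
    · intro η hη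
      rcases Finset.mem_union.1 hη with h | h <;> obtain ⟨-, h1, h2⟩ := Finset.mem_filter.1 h
      · exact Finset.mem_filter.2 ⟨Set.mem_toFinset.2 (L.mem_of_mult hM (trivChar_mem_principal hM) h2), h1⟩
      · exact Finset.mem_filter.2 ⟨Set.mem_toFinset.2 (L.mem_of_mult hM (Set.mem_toFinset.1 hθ₁) h2), h1⟩
    · intro η hη hnot
      obtain ⟨hηB, hηx⟩ := Finset.mem_filter.1 hη
      obtain ⟨φ, hφ, hm⟩ := exists_mult_ne hM (K := K) (Set.mem_toFinset.1 hηB)
      have hφB : φ ∈ B := Set.mem_toFinset.2 hφ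
      rw [← hBeq] at hφB
      simp only [Finset.mem_insert, Finset.mem_singleton] at hφB
      have hz : (η : H → ℂ) g = 0 := by
        rcases hφB with rfl | rfl | rfl | rfl
        · exact absurd (Finset.mem_union_left _ (Finset.mem_filter.2 ⟨Finset.mem_univ _, hηx, hm⟩)) hnot
        · exact L.apply_eq_zero_of_moved hmov hm
        · exact L.apply_eq_zero_of_moved (fun e => hmov (by rw [← e, L.twist_twist])) hm
        · exact absurd (Finset.mem_union_right _ (Finset.mem_filter.2 ⟨Finset.mem_univ _, hηx, hm⟩)) hnot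
      rw [hv, Int.cast_eq_zero] at hz
      rw [hz]; rfl
  have hsum0 : ∑ η ∈ S0, v η ^ 2 = 2 := by
    rw [Finset.sum_congr rfl (g := fun _ => (1 : ℤ)), Finset.sum_const, hc0]
    · norm_num
    intro η hη
    obtain ⟨-, -, hm⟩ := Finset.mem_filter.1 hη
    have hd : (η : H → ℂ) 1 = 1 := by
      have h := Char.clifford_degree K η.2 (trivChar K).2 ((mult_ne_iff η _).2 hm)
      have h1 : mult η (trivChar K) = 1 := le_antisymm (hle0 η) (Nat.one_le_iff_ne_zero.2 hm)
      rw [((L.inertia_cases _).1 h0).1, Subgroup.index_top, Nat.cast_one, mul_one, mult_spec, h1,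
        Nat.cast_one, one_mul] at h
      rw [h]; simp [trivChar_coe]
    obtain ⟨φ, hφ⟩ := Char.exists_hom_of_degree_one η.2.isCharacter hd
    have e : ((v η ^ 2 : ℤ) : ℂ) = ((1 : ℤ) : ℂ) := by
      push_cast
      rw [← hv, show (η : H → ℂ) g = (φ g : ℂ) from congrFun hφ g, ← Units.val_pow_eq_pow_val,
        ← map_pow, pow_two, L.g_sq, map_one, Units.val_one]
    exact Int.cast_injective e
  rw [hS01, Finset.sum_union hdis, hsum0] at hsum
  obtain ⟨η₁, η₂, hne, heq⟩ := Finset.card_eq_two.1 hc1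
  rw [← hS1] at heq
  rw [heq, Finset.sum_pair hne] at hsum
  have hb : ∀ w : ℤ, w ^ 2 ≤ 6 → w ^ 2 = 0 ∨ w ^ 2 = 1 ∨ w ^ 2 = 4 := by
    intro w hw
    have h1 : -2 ≤ w := by nlinarith
    have h2 : w ≤ 2 := by nlinarith
    interval_cases w <;> norm_num
  rcases hb (v η₁) (by nlinarith [sq_nonneg (v η₂)]) with e | e | e <;>
    rcases hb (v η₂) (by nlinarith [sq_nonneg (v η₁)]) with e' | e' | e' <;> omega

/-- The restriction to `K` of a character of the principal block. -/
theorem res_eq {η : IrrCharacter H} {θ : IrrCharacter K} (hθ : θ ∈ principalBlock M K)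
    (hη : mult η θ ≠ 0) :
    (fun k : K => (η : H → ℂ) k) = (mult η θ : ℂ) • (θ : K → ℂ) := by
  have h := Char.clifford_res K η.2 θ.2 ((mult_ne_iff η θ).2 hη)
  rwa [((L.inertia_cases θ).1 (L.invariant hM hθ)).2, Finset.sum_singleton, mult_spec] at h

/-- The orthogonality of the multiplicities. -/
theorem sum_mult_eq {θ φ : IrrCharacter K} (hθ : θ ∈ principalBlock M K) :
    ∑ η ∈ (principalBlock M H).toFinset, (mult η θ : ℂ) * (mult η φ : ℂ) =
      if θ = φ then 4 else 0 := by
  rw [Finset.sum_subset (Finset.subset_univ _) fun η _ hη => by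
    rw [show mult η θ = 0 from by_contra fun h => hη (Set.mem_toFinset.2 (L.mem_of_mult hM hθ h)),
      Nat.cast_zero, zero_mul]]
  split_ifs with e
  · subst e
    have h := congrArg (Nat.cast : ℕ → ℂ) (L.sum_mult_sq θ)
    rw [if_pos (L.invariant hM hθ)] at h
    push_cast at h
    rw [← h]
    exact Finset.sum_congr rfl fun η _ => (pow_two _).symm
  · rw [← sum_mult_mul]
    have hnot : (φ : K → ℂ) ∉ Char.twistOrbit K (θ : K → ℂ) := by
      rw [((L.inertia_cases θ).1 (L.invariant hM hθ)).2, Finset.mem_singleton]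
      exact fun h => e (Subtype.ext h.symm)
    rw [← Char.classInner_conj_symm, Char.classInner_indFun_of_notMem K θ.2 φ.2 hnot, map_zero]

/-- The principal block has rank three. -/
theorem rank_eq : blockRank 2 (principalBlock M H) = 3 := by
  haveI : Fact (Nat.Prime 2) := ⟨Nat.prime_two⟩
  have hregK : ∀ h : H, IsPRegular 2 h → h ∈ K := by
    intro h hh
    rw [← QuotientGroup.eq_one_iff, ← orderOf_eq_one_iff]
    have h1 : orderOf (h : H ⧸ K) ∣ 2 ^ 2 := by
      have := orderOf_dvd_natCard (h : H ⧸ K)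
      rwa [← Subgroup.index_eq_card, L.idx] at this
    have h2 : orderOf (h : H ⧸ K) ∣ orderOf h := orderOf_map_dvd (QuotientGroup.mk' K) h
    exact Nat.eq_one_of_dvd_coprimes
      (Nat.Coprime.pow_left 2 ((Nat.prime_two).coprime_iff_not_dvd.2 hh)) h1 h2
  let e : (K → ℂ) →ₗ[ℂ] (H → ℂ) :=
    { toFun := extendByZero K
      map_add' := fun f f' => funext fun h => by
        by_cases hh : h ∈ K
        · simp [Char.extendByZero_of_mem _ _ hh]
        · simp [Char.extendByZero_of_notMem _ _ hh]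
      map_smul' := fun r f => funext fun h => by
        by_cases hh : h ∈ K
        · simp [Char.extendByZero_of_mem _ _ hh]
        · simp [Char.extendByZero_of_notMem _ _ hh] }
  have hinj : Function.Injective e := fun f f' h => funext fun k => by
    have := congrFun h (k : H)
    simpa [e, Char.extendByZero_coe] using this
  have hkey : ∀ η : IrrCharacter H, ∀ θ : IrrCharacter K, θ ∈ principalBlock M K → mult η θ ≠ 0 →
      pRegularPart 2 (η : H → ℂ) = (mult η θ : ℂ) • e (pRegularPart 2 (θ : K → ℂ)) := by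
    intro η θ hθ hm
    funext h
    show _ = (mult η θ : ℂ) * extendByZero K (pRegularPart 2 (θ : K → ℂ)) h
    by_cases hh : IsPRegular 2 h
    · have hr : IsPRegular 2 (⟨h, hregK h hh⟩ : K) := by rwa [IsPRegular, Subgroup.orderOf_mk]
      rw [pRegularPart_of_reg hh, Char.extendByZero_of_mem _ _ (hregK h hh), pRegularPart_of_reg hr]
      exact congrFun (L.res_eq hM hθ hm) ⟨h, hregK h hh⟩
    · rw [pRegularPart_of_sing hh]
      by_cases hk : h ∈ K
      · have hr : ¬ IsPRegular 2 (⟨h, hk⟩ : K) := by rwa [IsPRegular, Subgroup.orderOf_mk]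
        rw [Char.extendByZero_of_mem _ _ hk, pRegularPart_of_sing hr, mul_zero]
      · rw [Char.extendByZero_of_notMem _ _ hk, mul_zero]
  have hspan : Submodule.span ℂ ((fun η : IrrCharacter H => pRegularPart 2 (η : H → ℂ)) ''
      principalBlock M H) = (Submodule.span ℂ ((fun θ : IrrCharacter K => pRegularPart 2 (θ : K → ℂ)) ''
      principalBlock M K)).map e := by
    rw [Submodule.map_span]
    refine le_antisymm (Submodule.span_le.2 ?_) (Submodule.span_le.2 ?_)
    · rintro _ ⟨η, hη, rfl⟩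
      obtain ⟨θ, hθ, hm⟩ := exists_mult_ne hM (K := K) hη
      show pRegularPart 2 (η : H → ℂ) ∈ _
      rw [hkey η θ hθ hm]
      exact Submodule.smul_mem _ _ (Submodule.subset_span ⟨_, ⟨θ, hθ, rfl⟩, rfl⟩)
    · rintro _ ⟨_, ⟨θ, hθ, rfl⟩, rfl⟩
      obtain ⟨η, hη⟩ := exists_over K θ
      have hm := (mult_ne_iff η θ).1 hη
      have : e (pRegularPart 2 (θ : K → ℂ)) = (mult η θ : ℂ)⁻¹ • pRegularPart 2 (η : H → ℂ) := by
        rw [hkey η θ hθ hm, inv_smul_smul₀ (Nat.cast_ne_zero.2 hm)]
      rw [SetLike.mem_coe, this]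
      exact Submodule.smul_mem _ _ (Submodule.subset_span ⟨η, L.mem_of_mult hM hθ hm, rfl⟩)
  rw [blockRank, hspan, ← (Submodule.equivMapOfInjective e hinj _).finrank_eq]
  exact klein_rank hM L.klein L.y_two

end Loc

end Cfsg.Lib.Block.SixteenNine
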