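import Mathlib.Algebra.BigOperators.Fin
import Mathlib.Algebra.Order.BigOperators.Group.Finset
import Mathlib.Data.Fintype.Card
import Mathlib.Tactic.LinearCombination
import Mathlib.Tactic.Linarith
import Mathlib.Tactic

/-!
# Two orthogonal frames of norm four

Two families of four orthogonal integer vectors of norm four, all mixed products one, with the same
sum `c` without zero entries: with at least nine coordinates there are sixteen.
-/

set_option autoImplicit false
set_option linter.unusedSectionVars false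

namespace Cfsg.Lib.Block.SixteenNine

open Finset

/-- The six pairs as rows. -/
def pairRow : Fin 6 → Fin 4 → ℤ :=
  ![![1, 1, 0, 0], ![1, 0, 1, 0], ![1, 0, 0, 1], ![0, 1, 1, 0], ![0, 1, 0, 1], ![0, 0, 1, 1]]

/-- The twelve signed triples of sum one as rows. -/
def tripleRow : Fin 12 → Fin 4 → ℤ :=
  ![![-1, 1, 1, 0], ![1, -1, 1, 0], ![1, 1, -1, 0], ![-1, 1, 0, 1], ![1, -1, 0, 1], ![1, 1, 0, -1],
    ![-1, 0, 1, 1], ![1, 0, -1, 1], ![1, 0, 1, -1], ![0, -1, 1, 1], ![0, 1, -1, 1], ![0, 1, 1, -1]]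

set_option maxRecDepth 20000 in
set_option maxHeartbeats 4000000 in
theorem four_rows : ∀ p q : Fin 6, ∀ t u : Fin 12,
    (∀ a b : Fin 4, a < b →
      pairRow p a * pairRow p b + pairRow q a * pairRow q b + tripleRow t a * tripleRow t b +
        tripleRow u a * tripleRow u b = 0) →
    ∀ a, pairRow p a = 1 → pairRow q a = 1 ∧ tripleRow t a ≠ 0 ∧ tripleRow u a ≠ 0 := by
  decide

set_option maxRecDepth 20000 in
theorem two_rows : ∀ p : Fin 6, ∀ t : Fin 12,
    ∃ a b : Fin 4, a < b ∧ pairRow p a * pairRow p b + tripleRow t a * tripleRow t b ≠ 0 := by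
  decide

/-- The entries of a small row. -/
theorem abs_le_one {v : Fin 4 → ℤ} {n : ℤ} (hn : ∑ a, v a ^ 2 = n) (h3 : n ≤ 3) (a : Fin 4) :
    v a = -1 ∨ v a = 0 ∨ v a = 1 := by
  have h := Finset.single_le_sum (fun b _ => sq_nonneg (v b)) (Finset.mem_univ a)
  rw [hn] at h
  have h1 : -1 ≤ v a := by nlinarith
  have h2 : v a ≤ 1 := by nlinarith
  omega

theorem eq_pairRow {v : Fin 4 → ℤ} (hs : ∑ a, v a = 2) (hq : ∑ a, v a ^ 2 = 2) :
    ∃ p, v = pairRow p := by
  have h := abs_le_one hq (by norm_num)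
  rw [Fin.sum_univ_four] at hs hq
  have key : ∀ p : Fin 6, v 0 = pairRow p 0 → v 1 = pairRow p 1 → v 2 = pairRow p 2 →
      v 3 = pairRow p 3 → v = pairRow p := fun p a b c d => funext fun i => by
    fin_cases i <;> assumption
  rcases h 0 with a | a | a <;> rcases h 1 with b | b | b <;> rcases h 2 with c | c | c <;>
    rcases h 3 with d | d | d <;> simp only [a, b, c, d] at hs hq <;>
    first
      | omega
      | exact ⟨0, key 0 a b c d⟩
      | exact ⟨1, key 1 a b c d⟩
      | exact ⟨2, key 2 a b c d⟩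
      | exact ⟨3, key 3 a b c d⟩
      | exact ⟨4, key 4 a b c d⟩
      | exact ⟨5, key 5 a b c d⟩
      | (norm_num at hs hq)

theorem eq_tripleRow {v : Fin 4 → ℤ} (hs : ∑ a, v a = 1) (hq : ∑ a, v a ^ 2 = 3) :
    ∃ t, v = tripleRow t := by
  have h := abs_le_one hq le_rfl
  rw [Fin.sum_univ_four] at hs hq
  have key : ∀ t : Fin 12, v 0 = tripleRow t 0 → v 1 = tripleRow t 1 → v 2 = tripleRow t 2 →
      v 3 = tripleRow t 3 → v = tripleRow t := fun p a b c d => funext fun i => by
    fin_cases i <;> assumption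
  rcases h 0 with a | a | a <;> rcases h 1 with b | b | b <;> rcases h 2 with c | c | c <;>
    rcases h 3 with d | d | d <;> simp only [a, b, c, d] at hs hq <;>
    first
      | omega
      | exact ⟨0, key 0 a b c d⟩
      | exact ⟨1, key 1 a b c d⟩
      | exact ⟨2, key 2 a b c d⟩
      | exact ⟨3, key 3 a b c d⟩
      | exact ⟨4, key 4 a b c d⟩
      | exact ⟨5, key 5 a b c d⟩
      | exact ⟨6, key 6 a b c d⟩
      | exact ⟨7, key 7 a b c d⟩
      | exact ⟨8, key 8 a b c d⟩
      | exact ⟨9, key 9 a b c d⟩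
      | exact ⟨10, key 10 a b c d⟩
      | exact ⟨11, key 11 a b c d⟩
      | (norm_num at hs hq)

theorem mul_eq_zero_of_single {v : Fin 4 → ℤ} (h : ∑ a, v a ^ 2 = 1) {a b : Fin 4} (hab : a ≠ b) :
    v a * v b = 0 := by
  have h2 : v a ^ 2 + v b ^ 2 ≤ 1 := by
    rw [← h, ← Finset.sum_pair (f := fun i => v i ^ 2) hab]
    exact Finset.sum_le_univ_sum_of_nonneg fun i => sq_nonneg _
  by_contra hne
  have ha := mul_self_pos.2 (left_ne_zero_of_mul hne)
  have hb := mul_self_pos.2 (right_ne_zero_of_mul hne)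
  nlinarith

variable {ι : Type*} [Fintype ι]

/-- A pair of frames with the common sum `c`. -/
structure Frames (X Y : Fin 4 → ι → ℤ) (c : ι → ℤ) : Prop where
  gramX : ∀ a b, ∑ i, X a i * X b i = if a = b then 4 else 0
  gramY : ∀ a b, ∑ i, Y a i * Y b i = if a = b then 4 else 0
  cross : ∀ a b, ∑ i, X a i * Y b i = 1
  sumX : ∀ i, ∑ a, X a i = c i
  sumY : ∀ i, ∑ a, Y a i = c i

variable {X Y : Fin 4 → ι → ℤ} {c : ι → ℤ}

theorem Frames.swap (h : Frames X Y c) : Frames Y X c :=
  ⟨h.gramY, h.gramX, fun a b => by rw [← h.cross b a]; exact sum_congr rfl fun i _ => mul_comm _ _,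
    h.sumY, h.sumX⟩

theorem Frames.sum_sq (h : Frames X Y c) : ∑ i, c i ^ 2 = 16 := by
  simp only [← h.sumX, pow_two, Finset.mul_sum, Finset.sum_mul]
  rw [Finset.sum_comm, Finset.sum_congr rfl fun a _ => Finset.sum_comm]
  simp [h.gramX]

theorem Frames.sum_norm (h : Frames X Y c) : ∑ i, ∑ a, X a i ^ 2 = 16 := by
  rw [Finset.sum_comm]
  simp [pow_two, h.gramX]

theorem Frames.lin_sq (h : Frames X Y c) (u v : Fin 4 → ℤ) (huv : (∑ a, u a) * (∑ b, v b) = 0) :
    ∑ j, (∑ a, u a * X a j + ∑ b, v b * Y b j) ^ 2 = 4 * ∑ a, u a ^ 2 + 4 * ∑ b, v b ^ 2 := by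
  have key : ∀ (p q : Fin 4 → ι → ℤ) (s t : Fin 4 → ℤ),
      ∑ j, (∑ a, s a * p a j) * (∑ b, t b * q b j) = ∑ a, ∑ b, s a * t b * ∑ j, p a j * q b j := by
    intro p q s t
    simp only [Finset.sum_mul_sum]
    rw [Finset.sum_comm]
    refine sum_congr rfl fun a _ => ?_
    rw [Finset.sum_comm]
    refine sum_congr rfl fun b _ => ?_
    rw [Finset.mul_sum]
    exact sum_congr rfl fun j _ => by ring
  have e : ∀ j, (∑ a, u a * X a j + ∑ b, v b * Y b j) ^ 2 =
      (∑ a, u a * X a j) * (∑ a, u a * X a j) + 2 * ((∑ a, u a * X a j) * ∑ b, v b * Y b j) +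
        (∑ b, v b * Y b j) * (∑ b, v b * Y b j) := fun j => by ring
  simp only [e, Finset.sum_add_distrib, ← Finset.mul_sum, key, h.gramX, h.gramY, h.cross, mul_one,
    mul_ite, mul_zero, Finset.sum_ite_eq, Finset.mem_univ, if_true]
  rw [show (∑ x, u x * ∑ i, v i) = 0 by rw [← Finset.sum_mul, huv], mul_zero, add_zero,
    Finset.mul_sum, Finset.mul_sum]
  congr 1 <;> exact sum_congr rfl fun a _ => by ring

/-- The diagonal of the projection on the span of the frames is at most one. -/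
theorem Frames.bound (h : Frames X Y c) (i : ι) :
    4 * (∑ a, X a i ^ 2 + ∑ b, Y b i ^ 2) ≤ 16 + c i ^ 2 := by
  set n := ∑ a, X a i ^ 2 with hn
  set m := ∑ b, Y b i ^ 2 with hm
  let u : Fin 4 → ℤ := fun a => 4 * X a i - c i
  let v : Fin 4 → ℤ := fun b => 4 * Y b i
  have hu : ∑ a, u a = 0 := by
    simp only [u, Finset.sum_sub_distrib, ← Finset.mul_sum, h.sumX, Finset.sum_const, Finset.card_univ,
      Fintype.card_fin, nsmul_eq_mul, Nat.cast_ofNat, sub_self]
  have hs := h.lin_sq u v (by rw [hu, zero_mul])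
  have hu2 : ∑ a, u a ^ 2 = 16 * n - 4 * c i ^ 2 := by
    simp only [u, sub_sq, Finset.sum_add_distrib, Finset.sum_sub_distrib, mul_pow, ← Finset.mul_sum,
      ← Finset.sum_mul, h.sumX, Finset.sum_const, Finset.card_univ, Fintype.card_fin, nsmul_eq_mul,
      Nat.cast_ofNat, ← hn]
    ring
  have hv2 : ∑ b, v b ^ 2 = 16 * m := by
    simp only [v, mul_pow, ← Finset.mul_sum, ← hm]
    norm_num
  have hi : ∑ a, u a * X a i + ∑ b, v b * Y b i = 4 * n + 4 * m - c i ^ 2 := by
    simp only [u, v, sub_mul, Finset.sum_sub_distrib, mul_assoc, ← pow_two, ← Finset.mul_sum,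
      h.sumX, ← hn, ← hm]
    ring
  have hle := Finset.single_le_sum (f := fun j => (∑ a, u a * X a j + ∑ b, v b * Y b j) ^ 2)
    (fun j _ => sq_nonneg _) (Finset.mem_univ i)
  rw [hs, hu2, hv2, hi] at hle
  nlinarith

/-- The shapes of the rows after the signs are normalised. -/
structure Shape (X Y : Fin 4 → ι → ℤ) (c : ι → ℤ) : Prop where
  frames : Frames X Y c
  nine : 9 ≤ Fintype.card ι
  pos : ∀ i, c i = 1 ∨ c i = 2
  one : ∀ i, c i = 1 → (∑ a, X a i ^ 2 = 1 ∨ ∑ a, X a i ^ 2 = 3) ∧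
    (∑ a, X a i ^ 2 = 3 → ∑ b, Y b i ^ 2 = 1)
  two : ∀ i, c i = 2 → ∑ a, X a i ^ 2 = 2

theorem sq_parity (v : Fin 4 → ℤ) : 2 ∣ ∑ a, v a ^ 2 - ∑ a, v a := by
  rw [← Finset.sum_sub_distrib]
  refine Finset.dvd_sum fun a _ => ?_
  rw [show v a ^ 2 - v a = v a * (v a - 1) by ring]
  exact (Int.even_mul_pred_self _).two_dvd

theorem Frames.shape (h : Frames X Y c) (h9 : 9 ≤ Fintype.card ι) (hc : ∀ i, 0 < c i) :
    Shape X Y c := by
  have hpos : ∀ i, c i = 1 ∨ c i = 2 := by
    intro i
    have hcard : (Fintype.card ι : ℤ) - 1 + c i ^ 2 ≤ 16 := by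
      classical
      rw [← h.sum_sq, ← Finset.add_sum_erase _ _ (Finset.mem_univ i), add_comm]
      refine Int.add_le_add_left ?_ _
      rw [show (Fintype.card ι : ℤ) - 1 = ∑ _j ∈ Finset.univ.erase i, (1 : ℤ) by
        rw [Finset.sum_const, Finset.card_erase_of_mem (Finset.mem_univ i), Finset.card_univ,
          nsmul_eq_mul, mul_one, Nat.cast_sub (by omega)]
        simp]
      exact Finset.sum_le_sum fun j _ => by nlinarith [hc j]
    have h3 : c i < 3 := by nlinarith
    have := hc i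
    omega
  have hX : ∀ (X' Y' : Fin 4 → ι → ℤ), Frames X' Y' c → ∀ i, 1 ≤ ∑ a, X' a i ^ 2 := by
    intro X' Y' h' i
    have hnn : (0 : ℤ) ≤ ∑ a, X' a i ^ 2 := Finset.sum_nonneg fun a _ => sq_nonneg _
    by_contra hlt
    have h0 := (Finset.sum_eq_zero_iff_of_nonneg fun a _ => sq_nonneg (X' a i)).1
      (show ∑ a, X' a i ^ 2 = 0 by omega)
    have := h'.sumX i
    rw [Finset.sum_eq_zero fun a ha => pow_eq_zero_iff two_ne_zero |>.1 (h0 a ha)] at this
    have := hc i
    omega
  refine ⟨h, h9, hpos, fun i hi => ?_, fun i hi => ?_⟩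
  · have hb := h.bound i
    have p1 := sq_parity fun a => X a i
    have p2 := sq_parity fun a => Y a i
    rw [h.sumX, hi] at p1
    rw [h.sumY, hi] at p2
    rw [hi] at hb
    have := hX X Y h i
    have := hX Y X h.swap i
    obtain ⟨e1, he1⟩ := p1
    obtain ⟨e2, he2⟩ := p2
    norm_num at hb
    exact ⟨by omega, fun h3 => by omega⟩
  · have hb := h.bound i
    have p1 := sq_parity fun a => X a i
    have p2 := sq_parity fun a => Y a i
    rw [h.sumX, hi] at p1
    rw [h.sumY, hi] at p2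
    rw [hi] at hb
    have := hX X Y h i
    have := hX Y X h.swap i
    obtain ⟨e1, he1⟩ := p1
    obtain ⟨e2, he2⟩ := p2
    norm_num at hb
    omega

theorem Shape.gram_zero (h : Shape X Y c) {a b : Fin 4} (hab : a ≠ b) (S : Finset ι)
    (hS : ∀ i, i ∉ S → ∑ e, X e i ^ 2 = 1) : ∑ i ∈ S, X a i * X b i = 0 := by
  rw [Finset.sum_subset (Finset.subset_univ S) fun i _ hi => mul_eq_zero_of_single (hS i hi) hab,
    h.frames.gramX, if_neg hab]

/-- In the shape all the entries of `c` are one, or two of them are two and `X` has a column with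
support at them and at two triples. -/
theorem Shape.cases (h : Shape X Y c) [DecidableEq ι] :
    (Fintype.card ι = 16) ∨ ∃ A : Finset ι, A.card = 4 ∧ (∀ i ∈ A, c i = 1 → ∑ a, X a i ^ 2 = 3) ∧
      (∀ i, c i = 2 → i ∈ A) ∧ (∃ i ∈ A, ∃ j ∈ A, i ≠ j ∧ c i = 2 ∧ c j = 2) ∧
      (∀ i ∈ A, ∀ j ∈ A, ∀ k ∈ A, c i = 2 → c j = 2 → c k = 2 → i = j ∨ i = k ∨ j = k) ∧
      ∃ a, (∀ i, c i = 2 → X a i = 1) ∧ ∀ i, i ∉ A → X a i = 0 := by
  set W := Finset.univ.filter fun i : ι => c i = 2 with hW
  set T := Finset.univ.filter fun i : ι => c i = 1 ∧ ∑ a, X a i ^ 2 = 3 with hT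
  have hWm : ∀ i, i ∈ W ↔ c i = 2 := fun i => by simp [hW]
  have hTm : ∀ i, i ∈ T ↔ c i = 1 ∧ ∑ a, X a i ^ 2 = 3 := fun i => by simp [hT]
  have hd : Disjoint W T := Finset.disjoint_left.2 fun i hi hi' => by
    rw [hWm] at hi
    rw [hTm] at hi'
    omega
  have hcsq : ∀ i, c i ^ 2 = 1 + 3 * (if i ∈ W then 1 else 0) := fun i => by
    rcases h.pos i with e | e
    · rw [if_neg (by rw [hWm]; omega), e]; norm_num
    · rw [if_pos (by rw [hWm]; exact e), e]; norm_num
  have hnsq : ∀ i, ∑ a, X a i ^ 2 = 1 + (if i ∈ W then 1 else 0) + 2 * (if i ∈ T then 1 else 0) := by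
    intro i
    rcases h.pos i with e | e
    · rcases (h.one i e).1 with e' | e'
      · rw [if_neg (by rw [hWm]; omega), if_neg (by rw [hTm]; omega), e']; norm_num
      · rw [if_neg (by rw [hWm]; omega), if_pos ((hTm i).2 ⟨e, e'⟩), e']; norm_num
    · rw [if_pos ((hWm i).2 e), if_neg (by rw [hTm]; omega), h.two i e]; norm_num
  have e1 := h.frames.sum_sq
  have e2 := h.frames.sum_norm
  simp only [hcsq, Finset.sum_add_distrib, ← Finset.mul_sum, Finset.sum_ite_mem, Finset.univ_inter,
    Finset.sum_const, Finset.card_univ, nsmul_eq_mul, mul_one] at e1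
  simp only [hnsq, Finset.sum_add_distrib, ← Finset.mul_sum, Finset.sum_ite_mem, Finset.univ_inter,
    Finset.sum_const, Finset.card_univ, nsmul_eq_mul, mul_one] at e2
  have h9 := h.nine
  have hwt : W.card = T.card := by omega
  have hW2 : W.card ≤ 2 := by omega
  have hsingle : ∀ i, i ∉ W ∪ T → ∑ e, X e i ^ 2 = 1 := fun i hi => by
    rw [Finset.mem_union, not_or] at hi
    rw [hnsq, if_neg hi.1, if_neg hi.2]
    norm_num
  have hp : ∀ i ∈ W, ∃ p, (fun a => X a i) = pairRow p := fun i hi => by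
    rw [hWm] at hi
    exact eq_pairRow ((h.frames.sumX i).trans hi) (h.two i hi)
  have ht : ∀ i ∈ T, ∃ t, (fun a => X a i) = tripleRow t := fun i hi => by
    rw [hTm] at hi
    exact eq_tripleRow ((h.frames.sumX i).trans hi.1) hi.2
  rcases Nat.lt_or_ge W.card 1 with hw | hw
  · left; omega
  rcases eq_or_ne W.card 1 with hw1 | hw1
  · exfalso
    obtain ⟨w, hWe⟩ := Finset.card_eq_one.1 hw1
    obtain ⟨t, hTe⟩ := Finset.card_eq_one.1 (hwt.symm.trans hw1)
    obtain ⟨p, hp⟩ := hp w (hWe ▸ Finset.mem_singleton_self w)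
    obtain ⟨r, hr⟩ := ht t (hTe ▸ Finset.mem_singleton_self t)
    obtain ⟨a, b, hab, hne⟩ := two_rows p r
    refine hne ?_
    have h0 := h.gram_zero hab.ne (W ∪ T) hsingle
    rw [Finset.sum_union hd, hWe, hTe, Finset.sum_singleton, Finset.sum_singleton] at h0
    rwa [congrFun hp a, congrFun hp b, congrFun hr a, congrFun hr b] at h0
  right
  have hW2' : W.card = 2 := by omega
  obtain ⟨w, w', hww, hWe⟩ := Finset.card_eq_two.1 hW2'
  obtain ⟨t, t', htt, hTe⟩ := Finset.card_eq_two.1 (hwt.symm.trans hW2')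
  obtain ⟨p, hp1⟩ := hp w (by rw [hWe]; simp)
  obtain ⟨q, hq1⟩ := hp w' (by rw [hWe]; simp)
  obtain ⟨r, hr1⟩ := ht t (by rw [hTe]; simp)
  obtain ⟨u, hu1⟩ := ht t' (by rw [hTe]; simp)
  have hrows := four_rows p q r u fun a b hab => by
    have h0 := h.gram_zero hab.ne (W ∪ T) hsingle
    rw [Finset.sum_union hd, hWe, hTe, Finset.sum_pair hww, Finset.sum_pair htt, congrFun hp1 a,
      congrFun hp1 b, congrFun hq1 a, congrFun hq1 b, congrFun hr1 a, congrFun hr1 b, congrFun hu1 a,
      congrFun hu1 b] at h0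
    linarith
  obtain ⟨a, ha⟩ : ∃ a, pairRow p a = 1 := by
    fin_cases p <;> decide
  refine ⟨W ∪ T, by rw [Finset.card_union_of_disjoint hd]; omega, fun i hi hci => ?_,
    fun i hi => Finset.mem_union_left _ ((hWm i).2 hi), ?_, ?_, a, fun i hi => ?_, fun i hi => ?_⟩
  · rcases Finset.mem_union.1 hi with e | e
    · rw [hWm] at e; omega
    · exact ((hTm i).1 e).2
  · refine ⟨w, ?_, w', ?_, hww, ?_, ?_⟩
    · simp [hWe]
    · simp [hWe]
    · exact (hWm w).1 (by simp [hWe])
    · exact (hWm w').1 (by simp [hWe])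
  · intro i _ j _ k _ hi hj hk
    rw [← hWm, hWe, Finset.mem_insert, Finset.mem_singleton] at hi hj hk
    rcases hi with rfl | rfl <;> rcases hj with rfl | rfl <;> rcases hk with rfl | rfl <;> simp
  · rw [← hWm, hWe, Finset.mem_insert, Finset.mem_singleton] at hi
    rcases hi with rfl | rfl
    · exact (congrFun hp1 a).trans ha
    · exact (congrFun hq1 a).trans (hrows a ha).1
  · have hna := h.frames.gramX a a
    rw [if_pos rfl] at hna
    have hA : (∑ j ∈ W ∪ T, X a j * X a j) = 4 := by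
      have h1 : ∀ j ∈ W ∪ T, X a j * X a j = 1 := by
        intro j hj
        have hab := abs_le_one (v := fun e => X e j) rfl ?_ a
        · have hne : X a j ≠ 0 := by
            simp only [hWe, hTe, Finset.mem_union, Finset.mem_insert, Finset.mem_singleton] at hj
            rcases hj with (rfl | rfl) | (rfl | rfl)
            · rw [congrFun hp1 a, ha]; norm_num
            · rw [congrFun hq1 a, (hrows a ha).1]; norm_num
            · rw [congrFun hr1 a]; exact (hrows a ha).2.1
            · rw [congrFun hu1 a]; exact (hrows a ha).2.2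
          rcases hab with e | e | e <;> rw [show X a j = _ from e] at hne ⊢ <;> simp at hne ⊢
        · rw [hnsq]
          rcases Finset.mem_union.1 hj with e | e
          · rw [if_pos e, if_neg (Finset.disjoint_left.1 hd e)]; norm_num
          · rw [if_neg (Finset.disjoint_right.1 hd e), if_pos e]; norm_num
      rw [Finset.sum_congr rfl h1, Finset.sum_const, Finset.card_union_of_disjoint hd, hW2',
        hwt.symm.trans hW2']
      norm_num
    by_contra hne
    have := Finset.sum_le_sum_of_subset_of_nonneg (f := fun j => X a j * X a j)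
      (Finset.subset_univ (insert i (W ∪ T))) fun j _ _ => mul_self_nonneg _
    rw [Finset.sum_insert hi, hA, hna] at this
    linarith [mul_self_pos.2 hne]

/-- Two frames with a common sum without zeros in at least nine coordinates have sixteen. -/
theorem Frames.card_eq (h : Frames X Y c) (h9 : 9 ≤ Fintype.card ι) (hc : ∀ i, c i ≠ 0) :
    Fintype.card ι = 16 := by
  classical
  let e : ι → ℤ := fun i => if 0 < c i then 1 else -1
  have he : ∀ i, e i * e i = 1 := fun i => by simp only [e]; split_ifs <;> norm_num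
  set X' : Fin 4 → ι → ℤ := fun a i => e i * X a i with hX'
  set Y' : Fin 4 → ι → ℤ := fun a i => e i * Y a i with hY'
  set c' : ι → ℤ := fun i => e i * c i with hc'
  have key : ∀ (p q : Fin 4 → ι → ℤ) (a b : Fin 4),
      ∑ i, e i * p a i * (e i * q b i) = ∑ i, p a i * q b i := fun p q a b =>
    Finset.sum_congr rfl fun i _ => by rw [mul_mul_mul_comm, he, one_mul]
  have hf : Frames X' Y' c' :=
    ⟨fun a b => (key X X a b).trans (h.gramX a b), fun a b => (key Y Y a b).trans (h.gramY a b),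
      fun a b => (key X Y a b).trans (h.cross a b),
      fun i => by simp only [hX', hc', ← Finset.mul_sum, h.sumX],
      fun i => by simp only [hY', hc', ← Finset.mul_sum, h.sumY]⟩
  have hpos : ∀ i, 0 < c' i := fun i => by
    simp only [hc', e]
    split_ifs with hp
    · omega
    · have := hc i; omega
  have hsX := hf.shape h9 hpos
  have hsY := hf.swap.shape h9 hpos
  rcases hsX.cases with h16 | ⟨A, hA, hA3, hAW, ⟨w, hwA, w', hwA', hww, hw, hw'⟩, hA2, a, ha, ha0⟩
  · exact h16
  rcases hsY.cases with h16 | ⟨B, -, hB3, hBW, -, -, b, hb, hb0⟩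
  · exact h16
  exfalso
  have hx := hf.cross a b
  rw [← Finset.sum_subset (Finset.subset_univ ({w, w'} : Finset ι)), Finset.sum_pair hww,
    ha w hw, ha w' hw', hb w hw, hb w' hw'] at hx
  · norm_num at hx
  intro i _ hi
  rw [Finset.mem_insert, Finset.mem_singleton, not_or] at hi
  by_cases hiA : i ∈ A
  · by_cases hiB : i ∈ B
    · exfalso
      rcases hsX.pos i with e1 | e2
      · have := (hsX.one i e1).2 (hA3 i hiA e1)
        have := hB3 i hiB e1
        omega
      · rcases hA2 i hiA w hwA w' hwA' e2 hw hw' with e3 | e3 | e3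
        · exact hi.1 e3
        · exact hi.2 e3
        · exact hww e3
    · rw [hb0 i hiB, mul_zero]
  · rw [ha0 i hiA, zero_mul]

end Cfsg.Lib.Block.SixteenNine
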