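import Cfsg.Agent.Lib.Block.SixteenNineKlein
import Cfsg.Agent.Lib.Block.SixteenNineAction
import Cfsg.Agent.Lib.Block.SixteenNineLattice
import Cfsg.Agent.Lib.Block.AbelianSections
import Cfsg.Agent.Lib.Block.SectionCount
import Cfsg.Agent.Lib.Fusion.Abelian

/-!
# The sections of the principal block for an automizer of order nine

Classes of two-elements, the local situation at an involution of either four-group, and the frame
of four integral vectors it gives on the principal block.
-/

set_option autoImplicit false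
set_option linter.unusedSectionVars false
set_option linter.style.haveILetI false
set_option maxHeartbeats 800000

namespace Cfsg.Lib.Block.SixteenNine

open Cfsg Cfsg.Lib Cfsg.Lib.Block Subgroup
open scoped ComplexConjugate Classical commutatorElement

universe u

noncomputable local instance (priority := high) fintypeSubgroupSixteenNine {A : Type u} [Group A]
    [Fintype A] (B : Subgroup A) : Fintype B := Fintype.ofFinite B

variable {G : Type u} [Group G] [Fintype G] {P V W : Subgroup G}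

theorem Nine.swap (N : Nine P V W) (hcomm : ∀ a ∈ P, ∀ b ∈ P, a * b = b * a) : Nine P W V where
  left := N.right
  right := N.left
  free n hn u hu h1 h2 := N.free n hn u hu h2 h1
  mixed n hn w hw hw1 v hv hv1 h1 h2 := N.mixed n hn v hv hv1 w hw hw1 h2 h1
  trans u hu u' hu' h1 h2 h3 h4 := N.trans u hu u' hu' h2 h1 h4 h3
  decomp u hu := by
    obtain ⟨v, hv, w, hw, e⟩ := N.decomp u hu
    exact ⟨w, hw, v, hv, by rw [hcomm w (N.right.le hw) v (N.left.le hv), e]⟩

/-- A Sylow subgroup of a subgroup containing one of the whole group has the same order. -/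
theorem card_sylow_sub {A : Type u} [Group A] [Finite A] (S : Sylow 2 A) {C : Subgroup A}
    (hSC : (S : Subgroup A) ≤ C) (R : Sylow 2 C) :
    Nat.card (R : Subgroup C) = Nat.card (S : Subgroup A) := by
  haveI : Fact (Nat.Prime 2) := ⟨Nat.prime_two⟩
  calc Nat.card (R : Subgroup C) = Nat.card (S.subtype hSC : Subgroup C) :=
        Nat.card_congr (R.equiv (S.subtype hSC)).toEquiv
    _ = Nat.card ((S : Subgroup A).subgroupOf C) := by rw [Sylow.coe_subtype]
    _ = _ := Nat.card_congr (subgroupOfEquivOfLe hSC).toEquiv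

theorem mem_normalizer_of_subgroupOf {A : Type u} [Group A] [Finite A] {S C : Subgroup A}
    (hSC : S ≤ C) {n : C} (hn : n ∈ normalizer ((S.subgroupOf C : Subgroup C) : Set C)) :
    (n : A) ∈ normalizer (S : Set A) :=
  Fusion.le_normalizer_of_conj_mem fun v hv => by
    have h := (mem_normalizer_iff.1 hn ⟨v, hSC hv⟩).1 (mem_subgroupOf.2 hv)
    exact mem_subgroupOf.1 h

/-! ### The setting -/

/-- An elementary Sylow two-subgroup of order sixteen with an automizer of order nine. -/
structure Setup (P : Sylow 2 G) (V W : Subgroup G) : Prop where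
  card : Nat.card (P : Subgroup G) = 16
  sq : ∀ v ∈ (P : Subgroup G), v * v = 1
  nine : Nine (P : Subgroup G) V W

namespace Setup

variable {P : Sylow 2 G} (S : Setup P V W)
include S

theorem comm : ∀ a ∈ (P : Subgroup G), ∀ b ∈ (P : Subgroup G), a * b = b * a := by
  intro a ha b hb
  have h1 : a⁻¹ = a := inv_eq_of_mul_eq_one_right (S.sq a ha)
  have h2 : b⁻¹ = b := inv_eq_of_mul_eq_one_right (S.sq b hb)
  calc a * b = a⁻¹ * b⁻¹ := by rw [h1, h2]
    _ = (b * a)⁻¹ := by rw [_root_.mul_inv_rev]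
    _ = b * a := inv_eq_of_mul_eq_one_right (S.sq _ (mul_mem hb ha))

theorem swap : Setup P W V := ⟨S.card, S.sq, S.nine.swap S.comm⟩

theorem le_centralizer {u : G} (hu : u ∈ (P : Subgroup G)) :
    (P : Subgroup G) ≤ centralizer ({u} : Set G) := fun v hv =>
  mem_centralizer_singleton_iff.2 (S.comm v hv u hu)

theorem fuse {u g : G} (hu : u ∈ (P : Subgroup G)) (hg : g * u * g⁻¹ ∈ (P : Subgroup G)) :
    ∃ n ∈ normalizer ((P : Subgroup G) : Set G), n * u * n⁻¹ = g * u * g⁻¹ := by
  haveI : Fact (Nat.Prime 2) := ⟨Nat.prime_two⟩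
  haveI : IsMulCommutative (P : Subgroup G) :=
    ⟨⟨fun a b => Subtype.ext (S.comm a a.2 b b.2)⟩⟩
  exact Fusion.exists_normalizer_conj_of_abelian P hu hg

theorem mem_left_iff {u v : G} (hu : u ∈ (P : Subgroup G)) (hv : v ∈ (P : Subgroup G))
    (h : IsConj u v) : u ∈ V ↔ v ∈ V := by
  have key : ∀ {u v : G}, u ∈ (P : Subgroup G) → v ∈ (P : Subgroup G) → IsConj u v → u ∈ V → v ∈ V := by
    intro u v hu hv h huV
    obtain ⟨g, rfl⟩ := isConj_iff.1 h
    obtain ⟨n, hn, e⟩ := S.fuse hu hv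
    rw [← e]
    exact S.nine.left.normal n hn u huV
  exact ⟨key hu hv h, key hv hu h.symm⟩

theorem eq_one_of_mem {u : G} (h1 : u ∈ V) (h2 : u ∈ W) : u = 1 := by
  rw [← mem_bot, ← S.nine.left.inf]; exact mem_inf.2 ⟨h1, h2⟩

theorem mul_notMem {v w : G} (hv : v ∈ V) (hv1 : v ≠ 1) (hw : w ∈ W) (hw1 : w ≠ 1) :
    v * w ∈ (P : Subgroup G) ∧ v * w ∉ V ∧ v * w ∉ W := by
  refine ⟨mul_mem (S.nine.left.le hv) (S.nine.right.le hw), fun h => hw1 (S.eq_one_of_mem ?_ hw),
    fun h => hv1 (S.eq_one_of_mem hv ?_)⟩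
  · simpa using mul_mem (inv_mem hv) h
  · simpa using mul_mem h (inv_mem hw)

theorem complement {u : G} (hu : u ∈ (P : Subgroup G)) (h1 : u ∉ V) (h2 : u ∉ W) :
    HasNormalPComplement 2 (centralizer ({u} : Set G)) := by
  haveI : Fact (Nat.Prime 2) := ⟨Nat.prime_two⟩
  refine Fusion.hasNormalPComplement_of_normalizer_le_centralizer (P.subtype (S.le_centralizer hu))
    fun n hn => ?_
  rw [Sylow.coe_subtype] at hn ⊢
  have hc := S.nine.free n (mem_normalizer_of_subgroupOf (S.le_centralizer hu) hn) u hu h1 h2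
    (mem_centralizer_singleton_iff.1 n.2)
  exact mem_centralizer_iff.2 fun v hv => Subtype.ext (mem_centralizer_iff.1 hc v (mem_subgroupOf.1 hv))

theorem card_cent {u : G} (hu : u ∈ (P : Subgroup G)) (R : Sylow 2 (centralizer ({u} : Set G))) :
    Nat.card (R : Subgroup (centralizer ({u} : Set G))) = 16 :=
  (card_sylow_sub P (S.le_centralizer hu) R).trans S.card

theorem sq_eq {u : G} (hu : u ∈ (P : Subgroup G)) (hu1 : u ≠ 1) : orderOf u = 2 :=
  orderOf_eq_two_of_sq (S.sq u hu) hu1

theorem exists_ne (v₀ : G) : ∃ v ∈ V, v ≠ 1 ∧ v ≠ v₀ := by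
  by_contra h
  push Not at h
  have hle : (V : Set G) ⊆ {1, v₀} := fun v hv => by
    by_cases h1 : v = 1
    · exact Or.inl h1
    · exact Or.inr (h v hv h1)
  have := Set.ncard_le_ncard hle (Set.toFinite _)
  rw [← Nat.card_coe_set_eq] at this
  have h4 : Nat.card (V : Set G) = 4 := S.nine.left.card
  rw [h4] at this
  have h2 : ({1, v₀} : Set G).ncard ≤ 2 := (Set.ncard_insert_le _ _).trans (by rw [Set.ncard_singleton])
  omega

theorem conj_left {u v : G} (hu : u ∈ V) (hu1 : u ≠ 1) (hv : v ∈ V) (hv1 : v ≠ 1) : IsConj u v := by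
  obtain ⟨n, -, e⟩ := S.nine.left.trans u hu v hv hu1 hv1
  exact isConj_iff.2 ⟨n, e⟩

theorem conj_rest {u v : G} (hu : u ∈ (P : Subgroup G)) (hu1 : u ∉ V) (hu2 : u ∉ W)
    (hv : v ∈ (P : Subgroup G)) (hv1 : v ∉ V) (hv2 : v ∉ W) : IsConj u v := by
  obtain ⟨n, -, e⟩ := S.nine.trans u hu v hv hu1 hu2 hv1 hv2
  exact isConj_iff.2 ⟨n, e⟩

/-- An element acting regularly on the involutions of `W` and trivially on `V`. -/
theorem exists_rot : ∃ e ∈ normalizer ((P : Subgroup G) : Set G), (∀ v ∈ V, e * v = v * e) ∧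
    (∀ w ∈ W, w ≠ 1 → e * w * e⁻¹ ≠ w) ∧
    ∀ w ∈ W, w ≠ 1 → ∀ w' ∈ W, w' ≠ 1 →
      ∃ i : ℕ, (e ^ 4) ^ i * w * ((e ^ 4) ^ i)⁻¹ = w' := by
  obtain ⟨e, he, hev, hew⟩ := S.nine.right.rot
  refine ⟨e, he, hev, hew, fun w hw hw1 w' hw' hw1' => ?_⟩
  set f : G → G := fun s => e * s * e⁻¹ with hf
  have hfW : ∀ s ∈ W, f s ∈ W := fun s hs => S.nine.right.normal e he s hs
  have hf1 : ∀ s, f s = 1 → s = 1 := fun s h => conj_eq_one_iff.1 h
  have hfinj : ∀ s t, f s = f t → s = t := fun s t h => mul_left_cancel (mul_right_cancel h)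
  set w₁ := f w with hw₁
  set w₂ := f w₁ with hw₂
  have m1 := hfW w hw
  have m2 := hfW w₁ m1
  have n1 : w₁ ≠ 1 := fun h => hw1 (hf1 _ h)
  have n2 : w₂ ≠ 1 := fun h => n1 (hf1 _ h)
  have d01 : w₁ ≠ w := hew w hw hw1
  have d12 : w₂ ≠ w₁ := hew w₁ m1 n1
  have hPW : ∀ s ∈ W, s ∈ (P : Subgroup G) := fun s hs => S.nine.right.le hs
  have d02 : w₂ ≠ w := by
    intro h
    refine hew (w * w₁) (mul_mem hw m1) (fun hp => d01 ?_) ?_
    · rw [eq_inv_of_mul_eq_one_right hp]
      exact inv_eq_of_mul_eq_one_right (S.sq w (hPW w hw))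
    · calc e * (w * w₁) * e⁻¹ = f w * f w₁ := by rw [hf]; group
        _ = w₁ * w := by rw [← hw₁, ← hw₂, h]
        _ = w * w₁ := S.comm _ (hPW _ m1) _ (hPW _ hw)
  have hall : ∀ s ∈ W, s ≠ 1 → s = w ∨ s = w₁ ∨ s = w₂ := by
    intro s hs hs1
    by_contra hno
    simp only [not_or] at hno
    have h5 : ({1, s, w, w₁, w₂} : Finset G).card = 5 := by
      rw [Finset.card_insert_of_notMem (by simp [Ne.symm hs1, Ne.symm hw1, Ne.symm n1, Ne.symm n2]),
        Finset.card_insert_of_notMem (by simp [hno.1, hno.2.1, hno.2.2]),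
        Finset.card_insert_of_notMem (by simp [d01.symm, d02.symm]), Finset.card_pair d12.symm]
    have hsub : ({1, s, w, w₁, w₂} : Finset G) ⊆ (W : Set G).toFinset := by
      intro v hv
      simp only [Finset.mem_insert, Finset.mem_singleton] at hv
      rw [Set.mem_toFinset]
      rcases hv with rfl | rfl | rfl | rfl | rfl
      exacts [one_mem W, hs, hw, m1, m2]
    have := Finset.card_le_card hsub
    rw [h5, ← Set.ncard_eq_toFinset_card', ← Nat.card_coe_set_eq] at this
    have h4 : Nat.card (W : Set G) = 4 := S.nine.right.card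
    omega
  have h3 : f w₂ = w := by
    rcases hall _ (hfW _ m2) (fun h => n2 (hf1 _ h)) with h | h | h
    · exact h
    · exact absurd (hfinj _ _ h) d02
    · exact absurd h (hew w₂ m2 n2)
  have e4 : ∀ s, e ^ 4 * s * (e ^ 4)⁻¹ = f (f (f (f s))) := fun s => by
    simp only [hf, pow_succ, pow_zero, one_mul, _root_.mul_inv_rev, mul_assoc]
  have e4w : e ^ 4 * w * (e ^ 4)⁻¹ = w₁ := by rw [e4, ← hw₁, ← hw₂, h3]
  have e4w₁ : e ^ 4 * w₁ * (e ^ 4)⁻¹ = w₂ := by rw [e4, ← hw₂, h3]
  rcases hall w' hw' hw1' with rfl | rfl | rfl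
  · exact ⟨0, by simp⟩
  · exact ⟨1, by rw [pow_one]; exact e4w⟩
  · refine ⟨2, ?_⟩
    rw [pow_two, _root_.mul_inv_rev]
    calc e ^ 4 * e ^ 4 * w * ((e ^ 4)⁻¹ * (e ^ 4)⁻¹) = e ^ 4 * (e ^ 4 * w * (e ^ 4)⁻¹) * (e ^ 4)⁻¹ := by
          group
      _ = w₂ := by rw [e4w, e4w₁]

/-- The local situation at an involution of `V`. -/
theorem exists_local {x : G} (hx : x ∈ V) (hx1 : x ≠ 1) :
    ∃ (K : Subgroup (centralizer ({x} : Set G))) (_ : K.Normal) (Q : Sylow 2 K)
      (a : centralizer ({x} : Set G)) (y : K),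
      Loc K Q ⟨x, mem_centralizer_singleton_iff.2 rfl⟩ a y ∧
        ((y : centralizer ({x} : Set G)) : G) ∈ W ∧ ((y : centralizer ({x} : Set G)) : G) ≠ 1 := by
  haveI : Fact (Nat.Prime 2) := ⟨Nat.prime_two⟩
  have hxP : x ∈ (P : Subgroup G) := S.nine.left.le hx
  have hPH := S.le_centralizer hxP
  set H := centralizer ({x} : Set G) with hH
  set P' : Sylow 2 H := P.subtype hPH with hP'
  have hP'coe : (P' : Subgroup H) = (P : Subgroup G).subgroupOf H := Sylow.coe_subtype P hPH
  haveI : IsMulCommutative (P' : Subgroup H) := ⟨⟨fun p q => Subtype.ext (Subtype.ext (S.comm _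
    (mem_subgroupOf.1 (hP'coe ▸ p.2)) _ (mem_subgroupOf.1 (hP'coe ▸ q.2))))⟩⟩
  obtain ⟨e, he, hev, hew, horb⟩ := S.exists_rot
  have heH : e ∈ H := mem_centralizer_singleton_iff.2 (hev x hx)
  have heN : (⟨e, heH⟩ : H) ∈ normalizer ((P' : Subgroup H) : Set H) := by
    refine Fusion.le_normalizer_of_conj_mem fun v hv => ?_
    rw [hP'coe, mem_subgroupOf] at hv ⊢
    exact (mem_normalizer_iff.1 he _).1 hv
  set K := pResidual 2 H with hK
  have hKP : K ⊓ (P' : Subgroup H) = W.subgroupOf H := by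
    rw [hK, Fusion.pResidual_inf_eq_of_abelian P']
    refine le_antisymm (commutator_le.2 fun p hp n hn => ?_) fun w hw => ?_
    · rw [hP'coe] at hp hn
      have hpP := mem_subgroupOf.1 hp
      have hnN := mem_normalizer_of_subgroupOf hPH hn
      have hnV := S.nine.left.stab n hnN x hx hx1 (mem_centralizer_singleton_iff.1 n.2)
      obtain ⟨v, hv, w, hw, hvw⟩ := S.nine.decomp p hpP
      rw [mem_subgroupOf, commutatorElement_def]
      simp only [Subgroup.coe_mul, InvMemClass.coe_inv]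
      rw [← hvw]
      have hwn : (n : G) * w⁻¹ * (n : G)⁻¹ ∈ W := S.nine.right.normal n hnN _ (inv_mem hw)
      rw [show v * w * (n : G) * (v * w)⁻¹ * (n : G)⁻¹ =
        v * (w * ((n : G) * w⁻¹ * (n : G)⁻¹)) * ((n : G) * v⁻¹ * (n : G)⁻¹) by group,
        show (n : G) * v⁻¹ * (n : G)⁻¹ = v⁻¹ from mul_inv_eq_iff_eq_mul.2 (hnV v⁻¹ (inv_mem hv)),
        S.comm v (S.nine.left.le hv) _ (S.nine.right.le (mul_mem hw hwn)), mul_inv_cancel_right]
      exact mul_mem hw hwn
    · let φ : W → W := fun s => ⟨(s : G) * (e * (s : G)⁻¹ * e⁻¹),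
        mul_mem s.2 (S.nine.right.normal e he _ (inv_mem s.2))⟩
      have hφ : Function.Injective φ := fun s t h => by
        have h' : (s : G) * (e * (s : G)⁻¹ * e⁻¹) = (t : G) * (e * (t : G)⁻¹ * e⁻¹) :=
          congrArg Subtype.val h
        by_contra hne
        refine hew ((t : G)⁻¹ * s) (mul_mem (inv_mem t.2) s.2)
          (fun h1 => hne (Subtype.ext (inv_mul_eq_one.1 h1).symm)) ?_
        have hc := fun (p q : W) => S.comm (p : G) (S.nine.right.le p.2) q (S.nine.right.le q.2)
        calc e * ((t : G)⁻¹ * s) * e⁻¹ = (e * (t : G)⁻¹ * e⁻¹) * (e * (s : G)⁻¹ * e⁻¹)⁻¹ := by group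
          _ = (e * (t : G)⁻¹ * e⁻¹) * ((s : G)⁻¹ * ((s : G) * (e * (s : G)⁻¹ * e⁻¹)))⁻¹ := by group
          _ = (e * (t : G)⁻¹ * e⁻¹) * ((s : G)⁻¹ * ((t : G) * (e * (t : G)⁻¹ * e⁻¹)))⁻¹ := by rw [h']
          _ = (t : G)⁻¹ * s := by group
      obtain ⟨s, hs⟩ := (Finite.injective_iff_surjective.1 hφ) ⟨(w : G), mem_subgroupOf.1 hw⟩
      have hsH : (s : G) ∈ H := hPH (S.nine.right.le s.2)
      have e1 : w = ⁅(⟨s, hsH⟩ : H), (⟨e, heH⟩ : H)⁆ := Subtype.ext (by
        rw [commutatorElement_def]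
        simp only [Subgroup.coe_mul, InvMemClass.coe_inv]
        rw [← congrArg Subtype.val hs]
        show (s : G) * (e * (s : G)⁻¹ * e⁻¹) = (s : G) * e * (s : G)⁻¹ * e⁻¹
        group)
      rw [e1]
      exact commutator_mem_commutator (by rw [hP'coe]; exact mem_subgroupOf.2 (S.nine.right.le s.2)) heN
  have hmemW : ∀ g : H, g ∈ K → (g : G) ∈ (P : Subgroup G) → (g : G) ∈ W := fun g hg hgP => by
    have : g ∈ K ⊓ (P' : Subgroup H) := mem_inf.2 ⟨hg, hP'coe ▸ mem_subgroupOf.2 hgP⟩
    rw [hKP] at this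
    exact mem_subgroupOf.1 this
  have hWK : ∀ g : H, (g : G) ∈ W → g ∈ K := fun g hg => by
    have : g ∈ W.subgroupOf H := mem_subgroupOf.2 hg
    rw [← hKP] at this
    exact (mem_inf.1 this).1
  have hWH : W ≤ H := S.nine.right.le.trans hPH
  have hP'16 : Nat.card (P' : Subgroup H) = 16 := by
    rw [hP'coe, Nat.card_congr (subgroupOfEquivOfLe hPH).toEquiv, S.card]
  have hW4 : Nat.card (W.subgroupOf H) = 4 := by
    rw [Nat.card_congr (subgroupOfEquivOfLe hWH).toEquiv, S.nine.right.card]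
  have hidx : K.index = 4 := by
    have h2 := (K.subgroupOf (P' : Subgroup H)).card_mul_index
    have h3 : K.relIndex (P' : Subgroup H) = K.index := by
      rw [← relIndex_sup_right, hK, Fusion.sylow_sup_pResidual, relIndex_top_right]
    rw [← h3]
    have h4 : Nat.card (K.subgroupOf (P' : Subgroup H)) = 4 := by
      rw [← inf_subgroupOf_right, Nat.card_congr (subgroupOfEquivOfLe inf_le_right).toEquiv, hKP, hW4]
    rw [h4, hP'16] at h2
    rw [relIndex]
    omega
  -- the Sylow subgroup of `K`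
  set W₁ := (W.subgroupOf H).subgroupOf K with hW₁
  have hW₁4 : Nat.card W₁ = 2 ^ (Nat.card K).factorization 2 := by
    rw [hW₁, Nat.card_congr (subgroupOfEquivOfLe (fun g hg => hWK g (mem_subgroupOf.1 hg))).toEquiv, hW4]
    have hH2 := P'.card_eq_multiplicity
    rw [hP'16, ← K.card_mul_index, hidx, Nat.factorization_mul Nat.card_pos.ne' (by norm_num),
      Finsupp.add_apply, show (16 : ℕ) = 2 ^ 4 by norm_num, show (4 : ℕ) = 2 ^ 2 by norm_num,
      Nat.Prime.factorization_pow Nat.prime_two, Finsupp.single_eq_same] at hH2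
    have := Nat.pow_right_injective (le_refl 2) hH2
    rw [show (Nat.card K).factorization 2 = 2 by omega]
    norm_num
  set Q : Sylow 2 K := Sylow.ofCard W₁ hW₁4 with hQ
  have hQmem : ∀ s : K, s ∈ (Q : Subgroup K) ↔ ((s : H) : G) ∈ W := fun s => by
    simp [hQ, hW₁, mem_subgroupOf]
  have hQ4 : Nat.card Q = 4 := by
    show Nat.card W₁ = 4
    rw [hW₁, Nat.card_congr (subgroupOfEquivOfLe (fun g hg => hWK g (mem_subgroupOf.1 hg))).toEquiv, hW4]
  have hklein : KleinCond Q := by
    refine ⟨hQ4, fun s hs => Subtype.ext (Subtype.ext (S.sq _ (S.nine.right.le ((hQmem s).1 hs)))),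
      fun s t hs ht => ?_⟩
    have hq : ∀ s : K, orderOf s = 2 → ∃ s' : K, IsConj s s' ∧ ((s' : H) : G) ∈ W ∧ ((s' : H) : G) ≠ 1 := by
      intro s hs
      obtain ⟨k, hk⟩ := Invol.exists_conj_mem_sylow Q
        (IsPGroup.of_card (n := 1) (by rw [Nat.card_zpowers, hs, pow_one]) : IsPGroup 2 (zpowers s))
      refine ⟨k * s * k⁻¹, isConj_iff.2 ⟨k, rfl⟩, (hQmem _).1 (hk s (mem_zpowers s)), fun e1 => ?_⟩
      rw [← OneMemClass.coe_one H] at e1
      have e2 : k * s * k⁻¹ = 1 := Subtype.ext (Subtype.ext e1)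
      rw [conj_eq_one_iff] at e2
      rw [e2, orderOf_one] at hs
      omega
    obtain ⟨s', hss, hs', hs1⟩ := hq s hs
    obtain ⟨t', htt, ht', ht1⟩ := hq t ht
    obtain ⟨i, hi⟩ := horb _ hs' hs1 _ ht' ht1
    refine hss.trans ((isConj_iff.2 ⟨(⟨(⟨e, heH⟩ : H) ^ 4, ?_⟩ : K) ^ i, ?_⟩).trans htt.symm)
    · rw [← hidx]; exact pow_index_mem K _
    · exact Subtype.ext (Subtype.ext (by simpa using hi))
  obtain ⟨v, hv, hv1, hvx⟩ := S.exists_ne x
  obtain ⟨w, hw, hw1, -⟩ := S.swap.exists_ne 1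
  set a : H := ⟨v, hPH (S.nine.left.le hv)⟩
  set y : K := ⟨⟨w, hWH hw⟩, hWK _ hw⟩
  have hav : (a : G) = v := rfl
  obtain ⟨hgP, hgV, hgW⟩ := S.mul_notMem hv hv1 hw hw1
  refine ⟨K, inferInstance, Q, a, y, ⟨hidx, fun h => Subtype.ext
    (mem_centralizer_singleton_iff.1 h.2), Subtype.ext (S.sq x hxP), fun h => hx1 ?_, fun h => hv1 ?_,
    fun h => hvx ?_, hklein, ?_, Subtype.ext (S.sq _ hgP), ?_, ?_⟩, hw, hw1⟩
  · exact S.eq_one_of_mem hx (hmemW _ h hxP)
  · exact S.eq_one_of_mem hv (hmemW _ h (S.nine.left.le hv))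
  · have := S.eq_one_of_mem (mul_mem hx hv) (hmemW _ h (mul_mem hxP (S.nine.left.le hv)))
    rw [← inv_eq_of_mul_eq_one_right this]
    exact inv_eq_of_mul_eq_one_right (S.sq x hxP)
  · rw [← Subgroup.orderOf_coe, ← Subgroup.orderOf_coe]
    exact S.sq_eq (S.nine.right.le hw) hw1
  · haveI : Fact (Nat.Prime 2) := ⟨Nat.prime_two⟩
    refine Fusion.hasNormalPComplement_of_injective
      (G := centralizer ({v * w} : Set G))
      ({ toFun := fun c => ⟨((c : H) : G), mem_centralizer_singleton_iff.2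
            (congrArg Subtype.val (mem_centralizer_singleton_iff.1 c.2))⟩
         map_one' := rfl
         map_mul' := fun _ _ => rfl } : centralizer ({a * (y : H)} : Set H) →* _)
      (fun c d h => Subtype.ext (Subtype.ext (congrArg Subtype.val h :))) (S.complement hgP hgV hgW)
  · intro R
    refine (card_sylow_sub P' (fun p hp => ?_) R).trans hP'16
    rw [hP'coe, mem_subgroupOf] at hp
    exact mem_centralizer_singleton_iff.2 (Subtype.ext (S.comm _ hp _ hgP))

variable {M : Ideal AlgInt} (hM : IsPModular 2 M)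
include hM

theorem column {z : G} (hz : z ∈ (P : Subgroup G)) (hz1 : z ∉ V) (hz2 : z ∉ W) :
    ∑ χ ∈ (principalBlock M G).toFinset, (χ : G → ℂ) z * conj ((χ : G → ℂ) z) = 16 := by
  haveI : Fact (Nat.Prime 2) := ⟨Nat.prime_two⟩
  have hzne : z ≠ 1 := fun h => hz1 (h ▸ one_mem V)
  have hzk : ∃ k : ℕ, orderOf z = 2 ^ k := ⟨1, by rw [S.sq_eq hz hzne, pow_one]⟩
  have h := principal_column hM hzk hzk (u := z) (v := z)
  obtain ⟨R⟩ : Nonempty (Sylow 2 (centralizer ({z} : Set G))) := inferInstance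
  rw [if_pos (IsConj.refl z), principalDegSq_of_complement hM (S.complement hz hz1 hz2) R,
    S.card_cent hz R, finsum_mem_eq_toFinset_sum] at h
  rw [h]; norm_num

/-- The characters of the principal block do not vanish on `z`. -/
theorem apply_ne_zero {z : G} (hz : z ∈ (P : Subgroup G)) (hz1 : z ∉ V) (hz2 : z ∉ W)
    {χ : IrrCharacter G} (hχ : χ ∈ principalBlock M G) : (χ : G → ℂ) z ≠ 0 := by
  haveI : Fact (Nat.Prime 2) := ⟨Nat.prime_two⟩
  intro h0
  have hzne : z ≠ 1 := fun h => hz1 (h ▸ one_mem V)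
  have hzk : ∃ k : ℕ, orderOf z = 2 ^ k := ⟨1, by rw [S.sq_eq hz hzne, pow_one]⟩
  set C := centralizer ({z} : Set G) with hC
  have hcomp := S.complement hz hz1 hz2
  obtain ⟨R⟩ : Nonempty (Sylow 2 C) := inferInstance
  obtain ⟨O, hOn, hOc⟩ := (Fusion.hasNormalPComplement_iff_exists R).1 hcomp
  have hHu : ∀ h : C, Commute z (h : G) := fun h => (mem_centralizer_singleton_iff.1 h.2).symm
  have hval : ∀ {ψ : IrrCharacter G}, ψ ∈ principalBlock M G → ∀ g : G, IsConj (pPt 2 g) z →
      (ψ : G → ℂ) g = (ψ : G → ℂ) z := by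
    intro ψ hψ g hg
    obtain ⟨c, hc⟩ := isConj_iff.1 hg
    rw [← ψ.2.isClassFunction g c, ← pPt_mul_pReg (p := 2) (c * g * c⁻¹), pPt_conj, hc]
    have hcm : Commute z (pReg 2 (c * g * c⁻¹)) := by
      rw [← hc, ← pPt_conj]; exact pPt_commute_pReg _
    exact principal_value_of_complement hM hzk hcomp hψ hcm (not_dvd_orderOf_pReg _)
  set f : G → ℂ := fun g => if IsConj (pPt 2 g) z then 1 else 0 with hf
  have hfc : IsClassFunction G f := fun g c => by
    simp only [hf, pPt_conj]
    refine if_congr ?_ rfl rfl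
    have hc : IsConj (pPt 2 g) (c * pPt 2 g * c⁻¹) := isConj_iff.2 ⟨c, rfl⟩
    exact ⟨fun h => hc.trans h, fun h => hc.symm.trans h⟩
  have hfint : VInt hM (vec f) := fun g => by
    rw [zc_vec hfc]
    simp only [hf]
    split_ifs
    exacts [one_mem _, zero_mem _]
  set n := (Finset.univ.filter fun g : G => IsConj (pPt 2 g) z).card with hn
  have hvec : ∀ {ψ : IrrCharacter G}, ψ ∈ principalBlock M G →
      vec f ψ = (n : ℂ) * (ψ : G → ℂ) z / (ψ : G → ℂ) 1 := by
    intro ψ hψ
    simp only [vec, hf, ite_mul, one_mul, zero_mul, ← Finset.sum_filter]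
    rw [Finset.sum_congr rfl fun g hg => hval hψ g (Finset.mem_filter.1 hg).2, Finset.sum_const,
      nsmul_eq_mul]
  have h := apply_sub_apply_mem hM hfint
    (sameBlock_of_mem hM isPBlock_principal (trivChar_mem_principal hM) hχ)
  rw [hvec (trivChar_mem_principal hM), hvec hχ, h0, mul_zero, zero_div, sub_zero, trivChar_coe] at h
  simp only [mul_one, div_one] at h
  rw [memLocalIdeal_natCast_iff hM] at h
  -- the section has odd order
  have hO : ¬ 2 ∣ Nat.card O := by
    have := Fusion.coprime_card_of_complement hOc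
    exact (Nat.prime_two.coprime_iff_not_dvd).1 this.symm
  have hOi : O.index = 16 := by rw [hOc.symm.index_eq_card, S.card_cent hz R]
  have h1 := card_mul_sum_pPt_conj (p := 2) (F := fun _ => (1 : ℂ)) (fun _ _ => rfl) z
  rw [sum_pPt_eq hzk hHu le_rfl (fun _ => (1 : ℂ)), ← Finset.sum_filter, Finset.sum_const,
    Finset.sum_const, nsmul_eq_mul, nsmul_eq_mul, mul_one, mul_one] at h1
  have hreg : (Finset.univ.filter fun c : C => IsPRegular 2 c).card = Nat.card O := by
    rw [Nat.card_eq_fintype_card, ← Fintype.card_subtype]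
    exact Fintype.card_congr (Equiv.subtypeEquivRight fun c =>
      (mem_iff_isPRegular hM hO ⟨4, by rw [hOi]; norm_num⟩ c).symm)
  rw [hreg, ← Nat.cast_mul, ← Nat.cast_mul, Nat.cast_inj, ← hn, ← O.card_mul_index, hOi, mul_assoc,
    mul_comm (Nat.card G), mul_right_inj' Nat.card_pos.ne'] at h1
  have hidx := (P : Subgroup G).card_mul_index
  rw [S.card, ← h1] at hidx
  have h2 : n = (P : Subgroup G).index := by omega
  exact P.not_dvd_index (h2 ▸ h)

/-- The four vectors attached to an involution of `V`. -/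
theorem exists_frame {x z : G} (hx : x ∈ V) (hx1 : x ≠ 1) (hz : z ∈ (P : Subgroup G)) (hz1 : z ∉ V)
    (hz2 : z ∉ W) :
    (∀ b, IsInducedBlock M (centralizer ({x} : Set G)) b (principalBlock M G) → blockRank 2 b = 3) ∧
    ∃ (X : Fin 4 → {χ : IrrCharacter G // χ ∈ principalBlock M G} → ℤ) (w : Fin 4 → G → ℂ),
      (∀ a g, w a g ≠ 0 → IsConj (pPt 2 g) x) ∧
      (∀ a i, (X a i : ℂ) = (∑ g, w a g * (i.1 : G → ℂ) g) + (i.1 : G → ℂ) z / 4) ∧
      (∀ i, ((∑ a, X a i : ℤ) : ℂ) = (i.1 : G → ℂ) z) ∧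
      ∀ a b, ∑ i, X a i * X b i = if a = b then 4 else 0 := by
  haveI : Fact (Nat.Prime 2) := ⟨Nat.prime_two⟩
  obtain ⟨H, hH⟩ : ∃ H, H = centralizer ({x} : Set G) := ⟨_, rfl⟩
  subst hH
  obtain ⟨K, hKn, Q, av, y, L, hyW, hy1⟩ := S.exists_local hx hx1
  haveI := hKn
  let H := centralizer ({x} : Set G)
  have hxP := S.nine.left.le hx
  have hxk : ∃ k : ℕ, orderOf x = 2 ^ k := ⟨1, by rw [S.sq_eq hxP hx1, pow_one]⟩
  have hHu : ∀ h : H, Commute x (h : G) := fun h => (mem_centralizer_singleton_iff.1 h.2).symm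
  have hdef : InducedBlockDefined M H (principalBlock M H) := by
    obtain ⟨B, hB⟩ := exists_isInducedBlock_of_centralizer hM hxk hHu le_rfl
      (isPBlock_principal (M := M) (G := H))
    exact ⟨B, hB⟩
  refine ⟨fun b hb => ?_, ?_⟩
  · have hdef' : InducedBlockDefined M H b := ⟨_, hb⟩
    rw [(isInducedBlock_principal_iff hM hdef').1 hb]
    exact L.rank_eq hM
  -- the characters of `K`
  obtain ⟨hsg, hcard⟩ := klein_signs hM L.klein L.y_two
  let E : principalBlock M K ≃ Fin 4 := Finite.equivFinOfCardEq hcard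
  let θ : Fin 4 → IrrCharacter K := fun a => (E.symm a).1
  have hθ : ∀ a, θ a ∈ principalBlock M K := fun a => (E.symm a).2
  have hθinj : Function.Injective θ := fun a b h => E.symm.injective (Subtype.ext h)
  have hsumB : ∀ f : IrrCharacter K → ℂ, ∑ φ ∈ (principalBlock M K).toFinset, f φ = ∑ a, f (θ a) := by
    intro f
    rw [Finset.sum_subtype (p := fun φ => φ ∈ principalBlock M K) _ (fun _ => Set.mem_toFinset) f]
    exact (E.symm.sum_comp (fun φ : principalBlock M K => f φ.1)).symm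
  have hε : ∀ a, ∃ ε : ℤ, (θ a : K → ℂ) y = ε ∧ ε * ε = 1 := fun a => by
    rcases hsg _ (hθ a) with h | h
    · exact ⟨1, by rw [h]; norm_num, by norm_num⟩
    · exact ⟨-1, by rw [h]; norm_num, by norm_num⟩
  choose ε hεy hε2 using hε
  have hεc : ∀ a, (ε a : ℂ) * (ε a : ℂ) = 1 := fun a => by exact_mod_cast hε2 a
  have hsing : ∀ a, ∀ k : K, ¬ IsPRegular 2 k → (θ a : K → ℂ) k = ε a := fun a k hk => by
    rw [klein_apply_singular hM L.klein L.y_two (hθ a) hk, hεy]
  set sK := Finset.univ.filter (fun k : K => ¬ IsPRegular 2 k) with hsK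
  set rK := Finset.univ.filter (fun k : K => IsPRegular 2 k) with hrK
  have hsKcard : 4 * (sK.card : ℂ) = (Nat.card K : ℂ) := by
    have h := klein_sum_singular hM L.klein L.y_two (trivChar K)
    rw [if_pos (trivChar_mem_principal hM)] at h
    simpa [trivChar_coe, hsK] using h
  have hK0 : (Nat.card K : ℂ) ≠ 0 := Char.card_cast_ne_zero
  have hsingsum : ∀ a, ∑ k ∈ sK, conj ((θ a : K → ℂ) k) = (ε a : ℂ) * (Nat.card K : ℂ) / 4 := fun a => by
    rw [Finset.sum_congr rfl fun k hk => by rw [hsing a k (Finset.mem_filter.1 hk).2, map_intCast],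
      Finset.sum_const, nsmul_eq_mul, ← hsKcard]
    ring
  -- the values on the singular part
  have hpt : ∀ k : K, IsPRegular 2 k → pPt 2 (x * ((k : H) : G)) = x := fun k hk =>
    pPt_mul_reg hxk (hHu _) (by rwa [IsPRegular, orderOf_submonoid, orderOf_submonoid])
  have hval : ∀ {χ : IrrCharacter G}, χ ∈ principalBlock M G → ∀ k : K, ¬ IsPRegular 2 k →
      (χ : G → ℂ) (x * ((k : H) : G)) = (χ : G → ℂ) z := by
    intro χ hχ k hk
    have h2 := L.klein.orderOf_pPt hk
    obtain ⟨c, hc⟩ := isConj_iff.1 (L.klein.fuse _ _ h2 L.y_two)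
    set q := c * pReg 2 k * c⁻¹ with hq
    have hck : c * k * c⁻¹ = y * q := by
      conv_lhs => rw [← pPt_mul_pReg (p := 2) k]
      rw [← hc, hq]; group
    have hqy : Commute y q := by
      rw [← hc, hq]
      exact (pPt_commute_pReg (p := 2) k).map (MulAut.conj c).toMonoidHom
    have e1 : ((c : H) : G) * (x * ((k : H) : G)) * ((c : H) : G)⁻¹ =
        x * ((y : H) : G) * ((q : H) : G) := by
      rw [← mul_assoc, ← (hHu (c : H)).eq, mul_assoc x, mul_assoc x, mul_assoc x]
      congr 1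
      exact congrArg (fun v : K => ((v : H) : G)) hck
    rw [← χ.2.isClassFunction _ ((c : H) : G), e1]
    obtain ⟨hP1, hV1, hW1⟩ := S.mul_notMem hx hx1 hyW hy1
    have huk : ∃ j : ℕ, orderOf (x * ((y : H) : G)) = 2 ^ j :=
      ⟨1, by rw [S.sq_eq hP1 fun h => hV1 (h ▸ one_mem V), pow_one]⟩
    rw [principal_value_of_complement hM huk (S.complement hP1 hV1 hW1) hχ
      ((hHu (q : H)).mul_left (congrArg (fun v : K => ((v : H) : G)) hqy.eq :))
      (by
        have hr : ¬ 2 ∣ orderOf q := by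
          rw [hq, ← MulAut.conj_apply, MulEquiv.orderOf_eq]; exact not_dvd_orderOf_pReg k
        rwa [orderOf_submonoid, orderOf_submonoid])]
    obtain ⟨g, hg⟩ := isConj_iff.1 (S.conj_rest hP1 hV1 hW1 hz hz1 hz2)
    rw [← hg]
    exact (χ.2.isClassFunction _ g).symm
  -- the weights
  let u : Fin 4 → K → ℂ := fun a k => (ε a : ℂ) * (Nat.card K : ℂ)⁻¹ * conj ((θ a : K → ℂ) k)
  let w : Fin 4 → G → ℂ := fun a g => ∑ k ∈ rK, if x * ((k : H) : G) = g then u a k else 0
  have hw : ∀ a, ∀ F : G → ℂ, ∑ g, w a g * F g = ∑ k ∈ rK, u a k * F (x * ((k : H) : G)) := by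
    intro a F
    simp only [w, Finset.sum_mul, ite_mul, zero_mul]
    rw [Finset.sum_comm]
    simp
  let B := {χ : IrrCharacter G // χ ∈ principalBlock M G}
  let R : Fin 4 → B → ℂ := fun a i => ∑ k ∈ rK, u a k * (i.1 : G → ℂ) (x * ((k : H) : G))
  let Xc : Fin 4 → B → ℂ := fun a i =>
    (ε a : ℂ) * classInner (fun k : K => (i.1 : G → ℂ) (x * ((k : H) : G))) (θ a : K → ℂ)
  have hXR : ∀ a i, Xc a i = R a i + (i.1 : G → ℂ) z / 4 := by
    intro a i
    simp only [Xc, R, u, classInner]
    rw [← Finset.sum_filter_add_sum_filter_not Finset.univ (fun k : K => IsPRegular 2 k), ← hrK, ← hsK,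
      Finset.sum_congr rfl (s₁ := sK) fun k hk => by rw [hval i.2 k (Finset.mem_filter.1 hk).2],
      ← Finset.mul_sum, hsingsum, mul_add, mul_add, Finset.mul_sum, Finset.mul_sum]
    congr 1
    · exact Finset.sum_congr rfl fun k _ => by ring
    · field_simp
      linear_combination (i.1 : G → ℂ) z * hεc a
  have hint : ∀ a i, ∃ m : ℤ, Xc a i = m := by
    intro a i
    set χ := i.1
    have hres : IsCharacter H fun h : H => (χ : G → ℂ) h := χ.2.isCharacter.comp H.subtype
    choose nη hnη using fun η : IrrCharacter H => hres.exists_nat_classInner η.2.isCharacter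
    let xH : H := ⟨x, mem_centralizer_singleton_iff.2 rfl⟩
    let σ : IrrCharacter H → ℤ := fun η => if (η : H → ℂ) xH = (η : H → ℂ) 1 then 1 else -1
    have hσ : ∀ η : IrrCharacter H, ∀ h : H, (η : H → ℂ) (xH * h) = (σ η : ℂ) * (η : H → ℂ) h := by
      intro η h
      simp only [σ]
      split_ifs with hs
      · rw [(L.apply_x_mul η h).1 hs]; simp
      · rw [(L.apply_x_mul η h).2 ((L.apply_x η).resolve_left hs)]; simp
    have hfun : (fun k : K => (χ : G → ℂ) (x * ((k : H) : G))) =
        ∑ η : IrrCharacter H, ((nη η : ℂ) * σ η) • fun k : K => (η : H → ℂ) k := by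
      funext k
      have h := congrFun (Char.eq_sum_classInner hres.isClassFunction) (xH * (k : H))
      simp only [Finset.sum_apply, Pi.smul_apply, smul_eq_mul, hnη, hσ] at h ⊢
      exact h.trans (Finset.sum_congr rfl fun η _ => by ring)
    refine ⟨ε a * ∑ η : IrrCharacter H, (nη η : ℤ) * σ η * mult η (θ a), ?_⟩
    simp only [Xc]
    rw [hfun, Char.classInner_sum_left]
    push_cast
    congr 1
    exact Finset.sum_congr rfl fun η _ => by rw [Char.classInner_smul_left, mult_spec]
  choose X hX using hint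
  have hXw : ∀ a i, (X a i : ℂ) = (∑ g, w a g * (i.1 : G → ℂ) g) + (i.1 : G → ℂ) z / 4 := fun a i => by
    rw [hw, ← hX, hXR]
  refine ⟨X, w, fun a g hg => ?_, hXw, fun i => ?_, fun a b => ?_⟩
  · obtain ⟨k, hk, hne⟩ := Finset.exists_ne_zero_of_sum_ne_zero hg
    have hxg : x * ((k : H) : G) = g := by
      by_contra h
      exact hne (if_neg h)
    rw [← hxg, hpt k (Finset.mem_filter.1 hk).2]
  · push_cast
    simp only [← hX, hXR]
    rw [Finset.sum_add_distrib, Finset.sum_const, Finset.card_univ, Fintype.card_fin]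
    have hR0 : ∑ a, R a i = 0 := by
      simp only [R]
      rw [Finset.sum_comm]
      refine Finset.sum_eq_zero fun k hk => ?_
      have h := congrArg conj (klein_relation hM L.klein L.y_two (Finset.mem_filter.1 hk).2)
      rw [hsumB, map_sum, map_zero] at h
      rw [← Finset.sum_mul]
      simp only [u]
      rw [show (∑ a, (ε a : ℂ) * (Nat.card K : ℂ)⁻¹ * conj ((θ a : K → ℂ) k)) =
        (Nat.card K : ℂ)⁻¹ * ∑ a, conj ((θ a : K → ℂ) y * (θ a : K → ℂ) k) by
          rw [Finset.mul_sum]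
          exact Finset.sum_congr rfl fun a _ => by rw [map_mul, hεy, map_intCast]; ring,
        h, mul_zero, zero_mul]
    rw [hR0, zero_add, nsmul_eq_mul]
    ring
  -- the Gram matrix
  set c : B → ℂ := fun i => (i.1 : G → ℂ) z with hc
  have hcreal : ∀ i : B, conj (c i) = c i := fun i => by
    obtain ⟨m, hm⟩ := int_value_involution i.1 (S.sq_eq hz fun h => hz1 (h ▸ one_mem V))
    simp only [hc, hm, map_intCast]
  have hsumBG : ∀ f : IrrCharacter G → ℂ,
      ∑ χ ∈ (principalBlock M G).toFinset, f χ = ∑ i : B, f i.1 := fun f =>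
    Finset.sum_subtype (p := fun φ => φ ∈ principalBlock M G) _ (fun _ => Set.mem_toFinset) f
  have hxz : ¬ IsConj x z := fun h => hz1 ((S.mem_left_iff hxP hz h).1 hx)
  have hRc : ∀ a, ∑ i, R a i * conj (c i) = 0 := by
    intro a
    simp only [R, Finset.sum_mul]
    rw [Finset.sum_comm]
    refine Finset.sum_eq_zero fun k hk => ?_
    simp only [mul_assoc, ← Finset.mul_sum]
    have h := sum_block_mul_conj_eq_zero hM (vInt_indVec hM (isPBlock_principal (M := M) (G := G)))
      (g := x * ((k : H) : G)) (h := z) (by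
        have hzz : pPt 2 z = z := (eq_pPt (mul_one z) (Commute.one_right z)
          (k := 1) (by rw [S.sq_eq hz fun h => hz1 (h ▸ one_mem V), pow_one])
          (by rw [orderOf_one]; norm_num)).symm
        rwa [hpt k (Finset.mem_filter.1 hk).2, hzz])
    rw [finsum_mem_eq_toFinset_sum, hsumBG] at h
    rw [h, mul_zero]
  set b' := (principalBlock M H).toFinset with hb'
  let t : IrrCharacter H → ℂ := fun η => ∑ d, (mult η (θ d) : ℂ) * ε d
  let A : IrrCharacter H → Fin 4 → ℂ := fun η a => (ε a : ℂ) * (mult η (θ a) : ℂ) - t η / 4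
  have hA : ∀ η ∈ b', ∀ a, ∑ k ∈ rK, u a k * (η : H → ℂ) k = A η a := by
    intro η hη a
    obtain ⟨φ, hφ, hm⟩ := Loc.exists_mult_ne hM (K := K) (Set.mem_toFinset.1 hη)
    obtain ⟨d₀, rfl⟩ : ∃ d, θ d = φ := ⟨E ⟨φ, hφ⟩, by simp [θ]⟩
    have hres := L.res_eq hM hφ hm
    have hzero : ∀ d, d ≠ d₀ → mult η (θ d) = 0 := by
      intro d hd
      have h := mult_spec η (θ d)
      rw [hres, Char.classInner_smul_left,
        Char.classInner_irr_ne (θ d₀).2 (θ d).2 (fun e => hd (hθinj (Subtype.ext e)).symm), mul_zero] at h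
      exact_mod_cast h.symm
    have ht : t η = (mult η (θ d₀) : ℂ) * ε d₀ := by
      simp only [t]
      refine Finset.sum_eq_single d₀ (fun d _ hd => ?_) fun h => absurd (Finset.mem_univ _) h
      rw [hzero d hd, Nat.cast_zero, zero_mul]
    have hηs : ∀ k : K, ¬ IsPRegular 2 k → (η : H → ℂ) k = t η := fun k hk => by
      have := congrFun hres k
      rw [this, Pi.smul_apply, smul_eq_mul, hsing d₀ k hk, ht]
    have h := mult_spec η (θ a)
    rw [classInner, ← Finset.sum_filter_add_sum_filter_not Finset.univ (fun k : K => IsPRegular 2 k),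
      ← hrK, ← hsK, Finset.sum_congr rfl (s₁ := sK) fun k hk => by rw [hηs k (Finset.mem_filter.1 hk).2],
      ← Finset.mul_sum, hsingsum] at h
    simp only [A, u]
    rw [show (∑ k ∈ rK, (ε a : ℂ) * (Nat.card K : ℂ)⁻¹ * conj ((θ a : K → ℂ) k) * (η : H → ℂ) k) =
      (ε a : ℂ) * (Nat.card K : ℂ)⁻¹ * ∑ k ∈ rK, (η : H → ℂ) k * conj ((θ a : K → ℂ) k) by
        rw [Finset.mul_sum]; exact Finset.sum_congr rfl fun k _ => by ring, ← h]
    field_simp
    linear_combination -(t η * (Nat.card K : ℂ) ^ 2) * hεc a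
  have hAreal : ∀ η a, conj (A η a) = A η a := fun η a => by
    simp [A, t, map_sum, map_intCast, Complex.conj_ofNat]
  have hRR : ∀ a b, ∑ i, R a i * conj (R b i) = (if a = b then 4 else 0) - 1 := by
    intro a b
    calc ∑ i, R a i * conj (R b i)
        = ∑ k ∈ rK, ∑ k' ∈ rK, u a k * conj (u b k') *
            ∑ i : B, (i.1 : G → ℂ) (x * ((k : H) : G)) * conj ((i.1 : G → ℂ) (x * ((k' : H) : G))) := by
          simp only [R, map_sum, map_mul]
          simp only [Finset.sum_mul_sum]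
          simp only [Finset.mul_sum]
          rw [Finset.sum_comm]
          refine Finset.sum_congr rfl fun k _ => ?_
          rw [Finset.sum_comm]
          exact Finset.sum_congr rfl fun k' _ => Finset.sum_congr rfl fun i _ => by ring
      _ = ∑ k ∈ rK, ∑ k' ∈ rK, u a k * conj (u b k') *
            ∑ η ∈ b', (η : H → ℂ) k * conj ((η : H → ℂ) k') := by
          refine Finset.sum_congr rfl fun k hk => Finset.sum_congr rfl fun k' hk' => ?_
          congr 1
          rw [← hsumBG (fun χ => (χ : G → ℂ) (x * ((k : H) : G)) * conj ((χ : G → ℂ) (x * ((k' : H) : G)))),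
            sum_block_mul_conj hM hxk hHu le_rfl (isPBlock_principal (M := M) (G := G))
              (y := (k : H)) (y' := (k' : H))
              (by rw [IsPRegular, orderOf_submonoid]; exact (Finset.mem_filter.1 hk).2)
              (by rw [IsPRegular, orderOf_submonoid]; exact (Finset.mem_filter.1 hk').2),
            indSet_principal hM hxk hHu le_rfl, regKer]
      _ = ∑ η ∈ b', A η a * A η b := by
          rw [Finset.sum_congr rfl (s₂ := b') fun η hη => by
            rw [← hAreal η b, ← hA η hη a, ← hA η hη b]]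
          simp only [map_sum, map_mul]
          simp only [Finset.sum_mul_sum]
          simp only [Finset.mul_sum]
          rw [Finset.sum_comm (s := b')]
          refine Finset.sum_congr rfl fun k _ => ?_
          rw [Finset.sum_comm (s := b')]
          exact Finset.sum_congr rfl fun k' _ => Finset.sum_congr rfl fun η _ => by ring
      _ = _ := by
          have hmm : ∀ d e, ∑ η ∈ b', (mult η (θ d) : ℂ) * (mult η (θ e) : ℂ) =
              if d = e then 4 else 0 := fun d e => by
            rw [L.sum_mult_eq hM (hθ d)]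
            exact if_congr hθinj.eq_iff rfl rfl
          have hmt : ∀ d, ∑ η ∈ b', (mult η (θ d) : ℂ) * t η = 4 * ε d := fun d => by
            simp only [t, Finset.mul_sum, ← mul_assoc]
            rw [Finset.sum_comm]
            simp only [← Finset.sum_mul, hmm]
            simp
          have htt : ∑ η ∈ b', t η * t η = 16 := by
            calc ∑ η ∈ b', t η * t η = ∑ d, (ε d : ℂ) * ∑ η ∈ b', (mult η (θ d) : ℂ) * t η := by
                  simp only [Finset.mul_sum]
                  rw [Finset.sum_comm]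
                  refine Finset.sum_congr rfl fun η _ => ?_
                  rw [show t η = ∑ d, (mult η (θ d) : ℂ) * ε d from rfl, Finset.sum_mul]
                  exact Finset.sum_congr rfl fun d _ => by ring
              _ = 16 := by
                  simp only [hmt]
                  rw [Finset.sum_congr rfl (g := fun _ => (4 : ℂ)) fun d _ => by linear_combination 4 * hεc d]
                  simp
                  norm_num
          rw [Finset.sum_congr rfl (g := fun η => (ε a : ℂ) * ε b * ((mult η (θ a) : ℂ) * mult η (θ b)) -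
              (ε a : ℂ) / 4 * ((mult η (θ a) : ℂ) * t η) - (ε b : ℂ) / 4 * ((mult η (θ b) : ℂ) * t η) +
              1 / 16 * (t η * t η)) fun η _ => by simp only [A]; ring,
            Finset.sum_add_distrib, Finset.sum_sub_distrib, Finset.sum_sub_distrib, ← Finset.mul_sum,
            ← Finset.mul_sum, ← Finset.mul_sum, ← Finset.mul_sum, hmm, hmt, hmt, htt]
          by_cases hab : a = b
          · subst hab; rw [if_pos rfl]; linear_combination 2 * hεc a
          · rw [if_neg hab]; linear_combination -hεc a - hεc b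
  have hcc : ∑ i, c i * conj (c i) = 16 := by
    rw [← S.column hM hz hz1 hz2, hsumBG]
  have e : ((∑ i, X a i * X b i : ℤ) : ℂ) = ((if a = b then 4 else 0 : ℤ) : ℂ) := by
    push_cast
    rw [Finset.sum_congr rfl (g := fun i => R a i * conj (R b i) + R a i * conj (c i) / 4 +
        conj (R b i * conj (c i)) / 4 + c i * conj (c i) / 16) fun i _ => by
      have h : ∀ d, (X d i : ℂ) = R d i + c i / 4 := fun d => by rw [← hX, hXR]
      have hr : conj (R b i) = R b i := by
        have := congrArg conj (h b)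
        rw [map_intCast, map_add, map_div₀, hcreal, h b, Complex.conj_ofNat] at this
        exact (add_right_cancel this).symm
      rw [h a, h b, map_mul, Complex.conj_conj, hr, hcreal]
      ring,
      Finset.sum_add_distrib, Finset.sum_add_distrib, Finset.sum_add_distrib, ← Finset.sum_div,
      ← Finset.sum_div, ← Finset.sum_div, ← map_sum, hRR, hRc, hRc, map_zero, hcc]
    split_ifs <;> norm_num
  exact_mod_cast e

end Setup

end Cfsg.Lib.Block.SixteenNine
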