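import Cfsg.Agent.Lib.Block.TwoCharacters

/-!
# Blocks with one simple module and few characters

A local symmetric algebra whose commutators have codimension at most four is commutative.  So the
corner at an idempotent of rank one of a block with one simple module and at most four characters
is commutative, and its dimension is at most the number of characters.
-/

set_option autoImplicit false
set_option linter.unusedSectionVars false
set_option maxHeartbeats 1000000

namespace Cfsg.Lib.Block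

open Cfsg Module

universe u v

section Algebra

variable {k : Type*} [Field k] {R : Type v} [Ring R] [Algebra k R]

/-- The span of the commutators of a subspace. -/
def commSpan (J : Submodule k R) : Submodule k R :=
  Submodule.span k {w | ∃ a ∈ J, ∃ b ∈ J, w = a * b - b * a}

variable [FiniteDimensional k R] {J : Submodule k R} {N : ℕ}

omit [FiniteDimensional k R] in
theorem commSpan_le_mul : commSpan J ≤ J * J := by
  rw [commSpan, Submodule.span_le]
  rintro _ ⟨a, ha, b, hb, rfl⟩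
  exact sub_mem (Submodule.mul_mem_mul ha hb) (Submodule.mul_mem_mul hb ha)

omit [FiniteDimensional k R] in
theorem pow_succ_le_self (hJJ : J * J ≤ J) (n : ℕ) : J ^ (n + 1) ≤ J := by
  induction n with
  | zero => rw [pow_one]
  | succ n ih => rw [pow_succ]; exact (mul_le_mul_left ih J).trans hJJ

omit [FiniteDimensional k R] in
theorem pow_succ_succ_le (hJJ : J * J ≤ J) (n : ℕ) : J ^ (n + 2) ≤ J ^ (n + 1) := by
  induction n with
  | zero => simpa [pow_two] using hJJ
  | succ n ih =>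
    calc J ^ (n + 1 + 2) = J ^ (n + 2) * J := by rw [← pow_succ]
      _ ≤ J ^ (n + 1) * J := mul_le_mul_left ih J
      _ = J ^ (n + 1 + 1) := by rw [← pow_succ]

omit [FiniteDimensional k R] in
/-- A power equal to the next vanishes. -/
theorem pow_eq_bot_of_le (hJJ : J * J ≤ J) (hN : ∀ y ∈ J ^ N, y = 0) {n : ℕ}
    (h : J ^ (n + 1) ≤ J ^ (n + 2)) : J ^ (n + 1) = ⊥ := by
  have key : ∀ i : ℕ, J ^ (n + 1) ≤ J ^ (n + 1 + i) := by
    intro i
    induction i with
    | zero => exact le_of_eq (by simp)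
    | succ i ih =>
      calc J ^ (n + 1) ≤ J ^ (n + 2) := h
        _ = J ^ (n + 1) * J := by rw [← pow_succ]
        _ ≤ J ^ (n + 1 + i) * J := mul_le_mul_left ih J
        _ = J ^ (n + 1 + (i + 1)) := by rw [← pow_succ]; ring_nf
  rw [Submodule.eq_bot_iff]
  intro y hy
  have hy' := key N hy
  rw [add_comm, pow_add] at hy'
  exact Submodule.mul_induction_on hy' (fun a ha b _ => by rw [hN a ha, zero_mul])
    fun a b ha hb => by rw [ha, hb, add_zero]

omit [FiniteDimensional k R] in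
/-- If the square of the radical is a line modulo the cube and the cube does not vanish, products
commute modulo the cube. -/
theorem comm_mem_cube (hJJ : J * J ≤ J) (hN : ∀ y ∈ J ^ N, y = 0) {c : R} (hc : c ∈ J * J)
    (hline : J * J ≤ (k ∙ c) ⊔ J ^ 3) (h3 : J ^ 3 ≠ ⊥) {a b : R} (ha : a ∈ J) (hb : b ∈ J) :
    a * b - b * a ∈ J ^ 3 := by
  classical
  set Q : Submodule k R := J ^ 4 with hQ
  have hβ : ∀ a ∈ J, ∀ b ∈ J, ∃ β : k, a * b - β • c ∈ J ^ 3 := by
    intro a ha b hb
    obtain ⟨u, hu, v, hv, huv⟩ := Submodule.mem_sup.1 (hline (Submodule.mul_mem_mul ha hb))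
    obtain ⟨β, rfl⟩ := Submodule.mem_span_singleton.1 hu
    exact ⟨β, by rwa [← huv, add_sub_cancel_left]⟩
  choose! β hβ using hβ
  have hL : ∀ a ∈ J, ∀ y ∈ J ^ 3, a * y ∈ Q := fun a ha y hy => by
    rw [hQ, show (4 : ℕ) = 1 + 3 from rfl, pow_add, pow_one]
    exact Submodule.mul_mem_mul ha hy
  have hR : ∀ a ∈ J, ∀ y ∈ J ^ 3, y * a ∈ Q := fun a ha y hy => by
    rw [hQ, show (4 : ℕ) = 3 + 1 from rfl, pow_add, pow_one]
    exact Submodule.mul_mem_mul hy ha
  -- associativity
  have hass : ∀ a ∈ J, ∀ b ∈ J, ∀ z ∈ J, β a b • (c * z) - β b z • (a * c) ∈ Q := by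
    intro a ha b hb z hz
    have h1 := hR z hz _ (hβ a ha b hb)
    have h2 := hL a ha _ (hβ b hb z hz)
    have : β a b • (c * z) - β b z • (a * c) =
        a * (b * z - β b z • c) - (a * b - β a b • c) * z := by
      simp only [sub_mul, mul_sub, smul_mul_assoc, mul_smul_comm, mul_assoc]
      abel
    rw [this]
    exact sub_mem h2 h1
  obtain ⟨a₀, ha₀, b₀, hb₀, z₀, hz₀, h0⟩ :
      ∃ a ∈ J, ∃ b ∈ J, ∃ z ∈ J, a * b * z ∉ Q := by
    by_contra h
    refine h3 (pow_eq_bot_of_le hJJ hN (n := 2) ?_)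
    rw [pow_succ J 2, pow_two, Submodule.mul_le]
    intro y hy z hz
    refine Submodule.mul_induction_on hy (fun a ha b hb => ?_) fun y₁ y₂ h₁ h₂ => ?_
    · by_contra h'
      exact h ⟨a, ha, b, hb, z, hz, h'⟩
    · rw [add_mul]
      exact add_mem h₁ h₂
  set v := c * z₀ with hv
  have hsum : a₀ * b₀ * z₀ - β a₀ b₀ • v ∈ Q := by
    rw [hv, ← smul_mul_assoc, ← sub_mul]
    exact hR _ hz₀ _ (hβ a₀ ha₀ b₀ hb₀)
  have hvQ : v ∉ Q := fun h => h0 (by
    simpa using add_mem hsum (Q.smul_mem (β a₀ b₀) h))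
  have hβ0 : β a₀ b₀ ≠ 0 := fun h => h0 (by simpa [h] using hsum)
  have key : ∀ {s t : k}, s • v - t • v ∈ Q → s = t := by
    intro s t h
    by_contra hst
    rw [← sub_smul] at h
    have h' := Q.smul_mem (s - t)⁻¹ h
    rw [smul_smul, inv_mul_cancel₀ (sub_ne_zero.2 hst), one_smul] at h'
    exact hvQ h'
  set γ := β b₀ z₀ with hγ
  have hγ0 : γ ≠ 0 := by
    intro h
    have := hass a₀ ha₀ b₀ hb₀ z₀ hz₀
    rw [← hγ, h, zero_smul, sub_zero, ← hv] at this
    exact hvQ (by simpa [smul_smul, inv_mul_cancel₀ hβ0] using Q.smul_mem (β a₀ b₀)⁻¹ this)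
  set L : R → k := fun a => β a b₀ / γ with hLdef
  have hLc : ∀ a ∈ J, a * c - L a • v ∈ Q := by
    intro a ha
    have h := Q.smul_mem (-γ⁻¹) (hass a ha b₀ hb₀ z₀ hz₀)
    rw [← hγ, ← hv] at h
    have e : a * c - L a • v = (-γ⁻¹) • (β a b₀ • v - γ • (a * c)) := by
      simp only [hLdef, smul_sub, smul_smul]
      rw [show -γ⁻¹ * γ = -1 by rw [neg_mul, inv_mul_cancel₀ hγ0],
        show -γ⁻¹ * β a b₀ = -(β a b₀ / γ) by ring, neg_smul, neg_smul, one_smul]
      abel
    rwa [e]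
  -- the coefficient factors
  have hfac : ∀ a ∈ J, ∀ b ∈ J, β a b = β b z₀ * L a := by
    intro a ha b hb
    refine key ?_
    have h1 := hass a ha b hb z₀ hz₀
    have h2 := Q.smul_mem (β b z₀) (hLc a ha)
    have e : β a b • v - (β b z₀ * L a) • v =
        (β a b • (c * z₀) - β b z₀ • (a * c)) + β b z₀ • (a * c - L a • v) := by
      rw [hv, smul_sub, smul_smul]
      abel
    rw [e]
    exact add_mem h1 h2
  have hLa0 : L a₀ ≠ 0 := div_ne_zero hβ0 hγ0
  have hsymm : ∀ a ∈ J, ∀ b ∈ J, β a b = β z₀ z₀ * L b * L a := by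
    intro a ha b hb
    rw [hfac a ha b hb, hfac b hb z₀ hz₀]
  have e : a * b - b * a = (a * b - β a b • c) - (b * a - β b a • c) := by
    rw [hsymm a ha b hb, hsymm b hb a ha, mul_right_comm]
    abel
  rw [e]
  exact sub_mem (hβ a ha b hb) (hβ b hb a ha)

/-- A local symmetric algebra with commutators of small codimension is commutative. -/
theorem comm_of_small_codim (t : R →ₗ[k] k) (hcyc : ∀ x y, t (x * y) = t (y * x))
    (hJJ : J * J ≤ J) (hN : ∀ y ∈ J ^ N, y = 0)
    (hnd : ∀ I : Submodule k R, I ≤ J → I * J ≤ I → I ≠ ⊥ → ∃ y ∈ I, t y ≠ 0)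
    (hdim : finrank k J ≤ finrank k (commSpan J) + 3)
    (hline : ∀ x ∈ J, J ≤ (k ∙ x) ⊔ J * J → ∀ y ∈ J, ∀ z ∈ J, y * z = z * y) :
    ∀ y ∈ J, ∀ z ∈ J, y * z = z * y := by
  classical
  intro y hy z hz
  set K := commSpan J with hK
  have hKt : ∀ w ∈ K, t w = 0 := by
    intro w hw
    induction hw using Submodule.span_induction with
    | mem w hw =>
      obtain ⟨a, -, b, -, rfl⟩ := hw
      rw [map_sub, hcyc, sub_self]
    | zero => exact map_zero t
    | add a b _ _ ha hb => rw [map_add, ha, hb, add_zero]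
    | smul s a _ ha => rw [map_smul, ha, smul_zero]
  have hKJJ : K ≤ J * J := commSpan_le_mul
  by_cases h2 : J * J = ⊥
  · have e : ∀ a ∈ J, ∀ b ∈ J, a * b = 0 := fun a ha b hb =>
      (Submodule.mem_bot k).1 (h2 ▸ Submodule.mul_mem_mul ha hb)
    rw [e y hy z hz, e z hz y hy]
  obtain ⟨y₀, hy₀, hty₀⟩ := hnd (J * J) hJJ
    (by rw [mul_assoc]; exact mul_le_mul_right hJJ J) h2
  have hKlt : K < J * J := lt_of_le_of_ne hKJJ fun h => hty₀ (hKt _ (h ▸ hy₀))
  have hd1 := Submodule.finrank_lt_finrank_of_lt hKlt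
  by_cases hone : finrank k J ≤ finrank k ↥(J * J) + 1
  · obtain ⟨x, hxJ, hxJJ⟩ : ∃ x ∈ J, J ≤ (k ∙ x) ⊔ J * J := by
      by_cases hle : J ≤ J * J
      · exact ⟨0, zero_mem _, hle.trans le_sup_right⟩
      obtain ⟨x, hx, hxn⟩ := SetLike.not_le_iff_exists.1 hle
      refine ⟨x, hx, le_of_eq (Submodule.eq_of_le_of_finrank_le
        (sup_le ((Submodule.span_singleton_le_iff_mem x J).2 hx) hJJ) ?_).symm⟩
      have hlt : J * J < (k ∙ x) ⊔ J * J := lt_of_le_of_ne le_sup_right fun h => hxn (by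
        rw [h]; exact Submodule.mem_sup_left (Submodule.mem_span_singleton_self x))
      have := Submodule.finrank_lt_finrank_of_lt hlt
      omega
    exact hline x hxJ hxJJ y hy z hz
  have hcod : finrank k ↥(J * J) = finrank k K + 1 := by omega
  by_cases h3 : J ^ 3 = ⊥
  · have hsub : ∀ I : Submodule k R, I ≤ J * J → I * J = ⊥ := by
      intro I hI
      rw [← le_bot_iff, ← h3, pow_succ, pow_two]
      exact mul_le_mul_left hI J
    have hK0 : K = ⊥ := by
      by_contra h
      obtain ⟨w, hw, hwt⟩ := hnd K (hKJJ.trans hJJ) (by rw [hsub K hKJJ]; exact bot_le) h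
      exact hwt (hKt w hw)
    have hw : y * z - z * y ∈ K := Submodule.subset_span ⟨y, hy, z, hz, rfl⟩
    rw [hK0, Submodule.mem_bot, sub_eq_zero] at hw
    exact hw
  exfalso
  have h3le : J ^ 3 ≤ J * J := by simpa [pow_two] using pow_succ_succ_le hJJ 1
  obtain ⟨w₀, hw₀, htw₀⟩ := hnd (J ^ 3) (h3le.trans hJJ)
    (by rw [← pow_succ]; exact pow_succ_succ_le hJJ 2) h3
  have hJJsup : J * J ≤ K ⊔ J ^ 3 := by
    have hlt : K < K ⊔ (k ∙ w₀) := lt_of_le_of_ne le_sup_left fun h => htw₀ (hKt w₀ (by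
      rw [h]; exact Submodule.mem_sup_right (Submodule.mem_span_singleton_self w₀)))
    have h := Submodule.finrank_lt_finrank_of_lt hlt
    have heq : K ⊔ (k ∙ w₀) = J * J := Submodule.eq_of_le_of_finrank_le
      (sup_le hKJJ ((Submodule.span_singleton_le_iff_mem _ _).2 (h3le hw₀))) (by omega)
    rw [← heq]
    exact sup_le_sup_left ((Submodule.span_singleton_le_iff_mem _ _).2 hw₀) _
  -- the radical has two generators
  obtain ⟨x₁, hx₁, x₂, hx₂, hgen⟩ : ∃ x₁ ∈ J, ∃ x₂ ∈ J, J ≤ (k ∙ x₁) ⊔ (k ∙ x₂) ⊔ J * J := by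
    obtain ⟨x₁, hx₁, hn₁⟩ := SetLike.not_le_iff_exists.1 (show ¬ J ≤ J * J from fun h => by
      have := Submodule.finrank_mono h; omega)
    set W := (k ∙ x₁) ⊔ J * J with hW
    have hWJ : W ≤ J := sup_le ((Submodule.span_singleton_le_iff_mem x₁ J).2 hx₁) hJJ
    have hlt1 := Submodule.finrank_lt_finrank_of_lt (show J * J < W from
      lt_of_le_of_ne le_sup_right fun h => hn₁ (by
        rw [h]; exact Submodule.mem_sup_left (Submodule.mem_span_singleton_self x₁)))
    by_cases hle : J ≤ W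
    · exact ⟨x₁, hx₁, 0, zero_mem _, hle.trans (sup_le_sup_right le_sup_left _)⟩
    obtain ⟨x₂, hx₂, hn₂⟩ := SetLike.not_le_iff_exists.1 hle
    refine ⟨x₁, hx₁, x₂, hx₂, ?_⟩
    have hlt2 := Submodule.finrank_lt_finrank_of_lt (show W < (k ∙ x₂) ⊔ W from
      lt_of_le_of_ne le_sup_right fun h => hn₂ (by
        rw [h]; exact Submodule.mem_sup_left (Submodule.mem_span_singleton_self x₂)))
    have heq : (k ∙ x₂) ⊔ W = J := Submodule.eq_of_le_of_finrank_le
      (sup_le ((Submodule.span_singleton_le_iff_mem x₂ J).2 hx₂) hWJ) (by omega)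
    rw [hW, ← sup_assoc, sup_comm (k ∙ x₂)] at heq
    exact heq.ge
  set c := x₁ * x₂ - x₂ * x₁ with hc
  have hmem3 : ∀ a ∈ J, ∀ r ∈ J * J, a * r - r * a ∈ J ^ 3 := by
    intro a ha r hr
    refine sub_mem ?_ ?_
    · rw [show (3 : ℕ) = 1 + 2 from rfl, pow_add, pow_one, pow_two]
      exact Submodule.mul_mem_mul ha hr
    · rw [show (3 : ℕ) = 2 + 1 from rfl, pow_add, pow_one, pow_two]
      exact Submodule.mul_mem_mul hr ha
  have hKc : K ≤ (k ∙ c) ⊔ J ^ 3 := by
    rw [hK, commSpan, Submodule.span_le]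
    rintro _ ⟨a, ha, b, hb, rfl⟩
    obtain ⟨u, hu, r, hr, rfl⟩ := Submodule.mem_sup.1 (hgen ha)
    obtain ⟨_, h₁, _, h₂, rfl⟩ := Submodule.mem_sup.1 hu
    obtain ⟨α₁, rfl⟩ := Submodule.mem_span_singleton.1 h₁
    obtain ⟨α₂, rfl⟩ := Submodule.mem_span_singleton.1 h₂
    obtain ⟨u', hu', r', hr', rfl⟩ := Submodule.mem_sup.1 (hgen hb)
    obtain ⟨_, h₁', _, h₂', rfl⟩ := Submodule.mem_sup.1 hu'
    obtain ⟨β₁, rfl⟩ := Submodule.mem_span_singleton.1 h₁'
    obtain ⟨β₂, rfl⟩ := Submodule.mem_span_singleton.1 h₂'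
    have hin : ∀ s₁ s₂ : k, s₁ • x₁ + s₂ • x₂ ∈ J := fun s₁ s₂ =>
      add_mem (J.smul_mem _ hx₁) (J.smul_mem _ hx₂)
    have e : (α₁ • x₁ + α₂ • x₂ + r) * (β₁ • x₁ + β₂ • x₂ + r') -
        (β₁ • x₁ + β₂ • x₂ + r') * (α₁ • x₁ + α₂ • x₂ + r) =
        (α₁ * β₂ - α₂ * β₁) • c +
          (((α₁ • x₁ + α₂ • x₂) * r' - r' * (α₁ • x₁ + α₂ • x₂)) -
            ((β₁ • x₁ + β₂ • x₂) * r - r * (β₁ • x₁ + β₂ • x₂)) + (r * r' - r' * r)) := by
      simp only [hc, add_mul, mul_add, smul_mul_assoc, mul_smul_comm, smul_smul, smul_sub, sub_smul]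
      module
    rw [SetLike.mem_coe, e]
    exact Submodule.add_mem_sup (Submodule.smul_mem _ _ (Submodule.mem_span_singleton_self c))
      (add_mem (sub_mem (hmem3 _ (hin α₁ α₂) r' hr') (hmem3 _ (hin β₁ β₂) r hr))
        (hmem3 r (hJJ hr) r' hr'))
  have hcJ : c ∈ J * J :=
    sub_mem (Submodule.mul_mem_mul hx₁ hx₂) (Submodule.mul_mem_mul hx₂ hx₁)
  have hK3 : K ≤ J ^ 3 := by
    rw [hK, commSpan, Submodule.span_le]
    rintro _ ⟨a, ha, b, hb, rfl⟩
    exact comm_mem_cube hJJ hN hcJ (hJJsup.trans (sup_le hKc le_sup_right)) h3 ha hb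
  refine h2 ?_
  rw [← pow_two]
  refine pow_eq_bot_of_le hJJ hN (n := 1) ?_
  rw [show (1 : ℕ) + 1 = 2 from rfl, pow_two]
  exact hJJsup.trans (sup_le hK3 le_rfl)

end Algebra

/-! ## The corner -/

open scoped MonoidAlgebra

variable {p : ℕ} [Fact p.Prime] {M : Ideal AlgInt} {A : Type u} [Group A] [Fintype A]
  (hM : IsPModular p M) {B : Set (IrrCharacter A)}

/-- The coefficient at the identity. -/
noncomputable def coeffOne : KGA hM A →ₗ[resField hM] resField hM where
  toFun x := x.coeff 1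
  map_add' x y := by rw [MonoidAlgebra.coeff_add, Finsupp.add_apply]
  map_smul' c x := by
    rw [MonoidAlgebra.coeff_smul, Finsupp.smul_apply, RingHom.id_apply]

theorem coeffOne_apply (x : KGA hM A) : coeffOne hM x = x.coeff 1 := rfl

theorem coeffOne_mul_comm (x y : KGA hM A) : coeffOne hM (x * y) = coeffOne hM (y * x) := by
  classical
  rw [coeffOne_apply, coeffOne_apply, coeff_mul_sum, coeff_mul_sum]
  refine Fintype.sum_equiv (Equiv.inv A) _ _ fun a => ?_
  simp only [Equiv.inv_apply, inv_inv, mul_one, mul_comm]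

/-- The coefficient at the identity is nondegenerate. -/
theorem eq_zero_of_coeffOne {y : KGA hM A} (h : ∀ x, coeffOne hM (y * x) = 0) : y = 0 := by
  refine MonoidAlgebra.ext (Finsupp.ext fun g => ?_)
  have h1 := h (MonoidAlgebra.single g⁻¹ 1)
  rw [coeffOne_apply, coeff_mul_single', one_mul, inv_inv] at h1
  simpa using h1

include hM in
/-- The corner at an idempotent of rank one of a block with one simple module and at most four
characters. -/
theorem finrank_corner_le_card (hB : IsPBlock M B) (hk : Nat.card B ≤ 4) (hl : blockRank p B ≤ 1)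
    {m : ℕ} {σ : Representation (resField hM) A (Fin m → resField hM)}
    (hσ : σ.IsIrreducible) (hσb : blockOp hM B σ = 1) {i₀ : Fin m} {e : KGA hM A}
    (he : IsIdempotentElem e) (heB : blkA hM B * e = e)
    (hσe : σ.asAlgebraHom e = (LinearMap.proj i₀).smulRight (Pi.single i₀ (1 : resField hM))) :
    finrank (resField hM) (cornerSub e) ≤ Nat.card B := by
  classical
  have hr : finrank (resField hM) (LinearMap.range (σ.asAlgebraHom e)) = 1 := by
    rw [hσe, LinearMap.range_smulRight_apply (by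
      intro h
      have := LinearMap.congr_fun h (Pi.single i₀ 1)
      simp at this),
      finrank_span_singleton (Pi.single_ne_zero_iff.2 one_ne_zero)]
  obtain ⟨N, a, b, hab⟩ := exists_full hM hB hl hσ hσb he heB hr
  set S : Submodule (resField hM) (KGA hM A) := cornerSub e with hS
  set J : Submodule (resField hM) (KGA hM A) := S ⊓ LinearMap.ker σ.asAlgebraHom.toLinearMap with hJ
  have hmem : ∀ x, x ∈ S ↔ e * x * e = x := fun x => mem_cornerSub he
  have heS : e ∈ S := (hmem e).2 (by rw [he.eq, he.eq])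
  have hJmem : ∀ x, x ∈ J ↔ e * x * e = x ∧ σ.asAlgebraHom x = 0 := fun x => by
    rw [hJ, Submodule.mem_inf, hmem, LinearMap.mem_ker, AlgHom.toLinearMap_apply]
  have hid : ∀ x, e * (e * x * e) * e = e * x * e := fun x => by
    calc e * (e * x * e) * e = (e * e) * x * (e * e) := by simp only [mul_assoc]
      _ = _ := by rw [he.eq]
  have hei : ∀ j ∈ J, e * j = j ∧ j * e = j := by
    intro j hj
    have h := ((hJmem j).1 hj).1
    constructor
    · conv_lhs => rw [← h, ← mul_assoc, ← mul_assoc, he.eq]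
      exact h
    · conv_lhs => rw [← h, mul_assoc, he.eq]
      exact h
  have hJJ : J * J ≤ J := by
    rw [Submodule.mul_le]
    intro y hy z hz
    rw [hJmem]
    refine ⟨?_, by rw [map_mul, ((hJmem y).1 hy).2, zero_mul]⟩
    rw [← mul_assoc, (hei y hy).1, mul_assoc, (hei z hz).2]
  have hdec : ∀ x, e * x * e = x → ∃ c : resField hM, x - c • e ∈ J := fun x hx => by
    refine ⟨σ.asAlgebraHom x (Pi.single i₀ 1) i₀, (hJmem _).2 ⟨?_, sub_smul_mem_ker hσe hx⟩⟩
    rw [mul_sub, sub_mul, hx, mul_smul_comm, smul_mul_assoc, he.eq, he.eq]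
  have hK : cornerComm e ≤ commSpan J := by
    rw [cornerComm, Submodule.span_le]
    rintro _ ⟨x, y, rfl⟩
    obtain ⟨c, hc⟩ := hdec _ (hid x)
    obtain ⟨d, hd⟩ := hdec _ (hid y)
    refine Submodule.subset_span ⟨_, hc, _, hd, ?_⟩
    obtain ⟨u, hu⟩ : ∃ u, e * x * e - c • e = u := ⟨_, rfl⟩
    obtain ⟨w, hw⟩ : ∃ w, e * y * e - d • e = w := ⟨_, rfl⟩
    rw [hu] at hc ⊢
    rw [hw] at hd ⊢
    rw [show e * x * e = u + c • e by rw [← hu, sub_add_cancel],
      show e * y * e = w + d • e by rw [← hw, sub_add_cancel]]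
    simp only [add_mul, mul_add, mul_smul_comm, smul_mul_assoc, he.eq, (hei u hc).1,
      (hei u hc).2, (hei w hd).1, (hei w hd).2]
    module
  -- nilpotence
  obtain ⟨N', hN', hnil⟩ := pow_submodule_mul_blk hM hB J fun c hc n τ hτ hτb => by
    obtain ⟨φ, hφ⟩ := simple_data hM hB hl hσ hσb τ hτ hτb
    refine LinearMap.ext fun v => ?_
    obtain ⟨v, rfl⟩ := φ.surjective v
    rw [← LinearEquiv.coe_coe, ← map_asAlgebraHom φ.toLinearMap hφ, ((hJmem c).1 hc).2]
    simp
  have hzero : ∀ y ∈ J ^ N', y = 0 := by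
    intro y hy
    obtain ⟨n, rfl⟩ := Nat.exists_eq_add_one.2 hN'
    have hyJ := hei y (pow_succ_le_self hJJ n hy)
    have h1 : e * blkA hM B = e := (cV_commute hM (indVec B) e).eq.symm.trans heB
    have h2 : y * blkA hM B = y := by
      conv_rhs => rw [← hyJ.2, ← h1, ← mul_assoc, hyJ.2]
    rw [← h2]
    exact hnil y hy
  have hnd : ∀ I : Submodule (resField hM) (KGA hM A), I ≤ J → I * J ≤ I → I ≠ ⊥ →
      ∃ y ∈ I, coeffOne hM y ≠ 0 := by
    intro I hIJ hI hne
    obtain ⟨y, hy, hy0⟩ := Submodule.exists_mem_ne_zero_of_ne_bot hne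
    by_contra! h
    refine hy0 (eq_zero_of_coeffOne hM fun x => ?_)
    obtain ⟨c, hc⟩ := hdec _ (hid x)
    have hye := (hei y (hIJ hy))
    have e1 : coeffOne hM (y * x) = coeffOne hM (y * (e * x * e)) := by
      conv_lhs => rw [← hye.1, mul_assoc, coeffOne_mul_comm, ← hye.2]
      simp only [mul_assoc]
    rw [e1, show e * x * e = (e * x * e - c • e) + c • e by rw [sub_add_cancel], mul_add, map_add,
      mul_smul_comm, map_smul, hye.2, h y hy, h _ (hI (Submodule.mul_mem_mul hy hc)), smul_zero,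
      add_zero]
  -- dimensions
  have hlt : J < S := lt_of_le_of_ne inf_le_left fun h => by
    have h0 := ((hJmem e).1 (h ▸ heS)).2
    rw [h0] at hσe
    have := congrFun (LinearMap.congr_fun hσe (Pi.single i₀ 1)) i₀
    simp at this
  have hcd := finrank_corner_le hB he heB hab
  rw [← hS] at hcd
  have hJS := Submodule.finrank_lt_finrank_of_lt hlt
  have hKle := Submodule.finrank_mono hK
  have hcomm := comm_of_small_codim (coeffOne hM) (coeffOne_mul_comm hM) hJJ hzero hnd (by omega)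
    fun x hx hxJ => mul_comm_of_line_add_sq hM hx hxJ hzero
  have hK0 : commSpan J = ⊥ := by
    rw [← le_bot_iff, commSpan, Submodule.span_le]
    rintro _ ⟨y, hy, z, hz, rfl⟩
    rw [SetLike.mem_coe, Submodule.mem_bot, hcomm y hy z hz, sub_self]
  rw [hK0, finrank_bot] at hKle
  omega

include hM in
open Classical in
/-- In a block with one simple module and at most four characters the defect group has as many
elements as the block has characters. -/
theorem pow_defect_eq_card (hB : IsPBlock M B) (hk : Nat.card B ≤ 4) (hl : blockRank p B = 1) :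
    p ^ blockDefect p B = Nat.card B := by
  obtain ⟨m, σ, hσ, hσb⟩ := exists_simple hM hB
  obtain ⟨e, he, -, heB, hσe⟩ :=
    exists_rank_one_idem hM hB hl.le hσ hσb ⟨0, simple_dim_pos hM hσ⟩
  have h1 := finrank_corner_le_card hM hB hk hl.le hσ hσb he heB hσe
  have h2 := pow_defect_dvd_finrank_corner hM hB hl hσ hσb he heB hσe
  have h5 : Module.finrank (resField hM) (cornerSub e) ≠ 0 := fun h => by
    rw [Submodule.finrank_eq_zero, Submodule.eq_bot_iff] at h
    have h6 := h e ((mem_cornerSub he).2 (by rw [he.eq, he.eq]))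
    rw [h6, map_zero] at hσe
    have := congrFun (LinearMap.congr_fun hσe
      (Pi.single ⟨0, simple_dim_pos hM hσ⟩ 1)) ⟨0, simple_dim_pos hM hσ⟩
    simp at this
  have h7 := Nat.le_of_dvd (Nat.pos_of_ne_zero h5) h2
  refine le_antisymm (h7.trans h1) ?_
  -- the square sum
  set g := B.toFinset.gcd fun χ : IrrCharacter A => charDegree (χ : A → ℂ) with hg
  obtain ⟨χ, hχ⟩ := nonempty_of_isPBlock hM hB
  have hg0 : g ≠ 0 := fun h => (charDegree_pos χ).ne'
    (Nat.eq_zero_of_zero_dvd (h ▸ Finset.gcd_dvd (Set.mem_toFinset.2 hχ)))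
  have hsum : Nat.card B * g ^ 2 ≤ p ^ blockDefect p B * g ^ 2 := by
    rw [← sum_sq_rank_one hM hB hl, Nat.card_eq_fintype_card, ← Set.toFinset_card, ← smul_eq_mul,
      ← Finset.sum_const]
    exact Finset.sum_le_sum fun η hη => Nat.pow_le_pow_left
      (Nat.le_of_dvd (charDegree_pos η) (hg ▸ Finset.gcd_dvd hη)) 2
  exact Nat.le_of_mul_le_mul_right hsum (pow_pos (Nat.pos_of_ne_zero hg0) 2)

end Cfsg.Lib.Block
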