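import Cfsg.Agent.Lib.Block.CyclicPrimeApps
import Cfsg.Agent.Lib.Block.CyclicPrimeStructure
import Cfsg.Agent.Lib.Block.CyclicPrimeValues
import Cfsg.Agent.Lib.Block.CyclicPrimeGalois
import Cfsg.Agent.Lib.Char.Gallagher

/-!
# Characters of small degree of groups with a Sylow subgroup of order `p`

If every proper subgroup containing the Sylow subgroup `P` of order `p` normalizes it and `P` is
not normal, every faithful character has degree at least `(p - 1) / 2`.
-/

set_option autoImplicit false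
set_option linter.unusedSectionVars false
set_option linter.style.haveILetI false

namespace Cfsg.Lib.Block

open Cfsg
open scoped ComplexConjugate

universe u

noncomputable local instance (priority := high) fintypeSubgroupSmallDegree {A : Type u}
    [Group A] [Fintype A] (H : Subgroup A) : Fintype H := Fintype.ofFinite H

local notation "C[" P "]" => Subgroup.centralizer (SetLike.coe P)

variable {p : ℕ} [hp : Fact p.Prime] {G : Type u} [Group G] [Fintype G] {P : Subgroup G}
  (hcard : Nat.card P = p)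

/-- An element of `P` inside the centralizer. -/
def inC (hcard : Nat.card P = p) (z : P) : C[P] := ⟨(z : G), le_centralizer_self hcard z.2⟩

theorem inC_coe (z : P) : ((inC hcard z : C[P]) : G) = (z : G) := rfl

theorem inC_mul (z w : P) : inC hcard (z * w) = inC hcard z * inC hcard w := rfl

theorem inC_one : inC hcard (1 : P) = 1 := rfl

theorem inC_mem_center (z : P) : inC hcard z ∈ Subgroup.center C[P] :=
  subgroupOf_le_center_centralizer (Subgroup.mem_subgroupOf.2 z.2)

/-- Irreducible characters of the centralizer are multiplied by scalars along `P`. -/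
theorem scalar_on_P (η : IrrCharacter C[P]) (z : P) (k : C[P]) :
    (η : C[P] → ℂ) (inC hcard z * k) =
      ((η : C[P] → ℂ) (inC hcard z) / (η : C[P] → ℂ) 1) * (η : C[P] → ℂ) k := by
  obtain ⟨c, -, hc⟩ := exists_central_scalar η (inC_mem_center hcard z)
  have h1 := hc 1
  rw [mul_one] at h1
  rw [hc k, h1, mul_div_assoc, div_self η.2.apply_one_ne_zero, mul_one]

/-- The sum over `P` of a character of the centralizer. -/
theorem sum_P_eq (η : IrrCharacter C[P]) :
    (∀ z : P, (η : C[P] → ℂ) (inC hcard z) = (η : C[P] → ℂ) 1) ∨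
      ∑ z : P, (η : C[P] → ℂ) (inC hcard z) = 0 := by
  refine or_iff_not_imp_left.2 fun h => ?_
  push Not at h
  obtain ⟨z₀, hz₀⟩ := h
  have hne : (η : C[P] → ℂ) (inC hcard z₀) / (η : C[P] → ℂ) 1 - 1 ≠ 0 := fun he =>
    hz₀ ((div_eq_one_iff_eq η.2.apply_one_ne_zero).1 (sub_eq_zero.1 he))
  refine (mul_eq_zero.1 ?_).resolve_left hne
  rw [sub_mul, one_mul, sub_eq_zero, Finset.mul_sum]
  conv_rhs => rw [← Equiv.sum_comp (Equiv.mulLeft z₀) (fun z : P => (η : C[P] → ℂ) (inC hcard z))]
  refine Finset.sum_congr rfl fun z _ => ?_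
  rw [Equiv.coe_mulLeft, inC_mul, scalar_on_P hcard η z₀]

/-- Numbers of absolute value one whose sum has the largest absolute value are equal. -/
theorem eq_avg_of_norm_sum {m n : ℕ} {μ : Fin m → ℂ} (hμ : ∀ i, ‖μ i‖ = 1) (hmn : m = n)
    (h : ‖∑ i, μ i‖ = n) (i : Fin m) : μ i = (∑ j, μ j) / (n : ℂ) := by
  subst hmn
  have hm : (m : ℝ) ≠ 0 := by exact_mod_cast i.pos.ne'
  set c := (∑ j, μ j) / (m : ℂ) with hc
  have hc1 : ‖c‖ = 1 := by rw [hc, norm_div, h, Complex.norm_natCast, div_self hm]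
  have hle : ∀ j, (μ j * conj c).re ≤ 1 := fun j => by
    refine (Complex.re_le_norm _).trans ?_
    rw [norm_mul, Complex.norm_conj, hμ, hc1, one_mul]
  have hsum : ∑ j, (1 - (μ j * conj c).re) = 0 := by
    rw [Finset.sum_sub_distrib, ← Complex.re_sum, ← Finset.sum_mul,
      show (∑ j, μ j) = (m : ℂ) * c by rw [hc, mul_div_cancel₀ _ (by exact_mod_cast hm)],
      mul_assoc, Complex.mul_conj, Complex.normSq_eq_norm_sq, hc1]
    simp
  have hi := (Finset.sum_eq_zero_iff_of_nonneg fun j _ => sub_nonneg.2 (hle j)).1 hsum i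
    (Finset.mem_univ i)
  have hsq : ‖μ i * conj c‖ = 1 := by rw [norm_mul, Complex.norm_conj, hμ, hc1, one_mul]
  have hone : μ i * conj c = 1 := by
    have h2 : (μ i * conj c).re = 1 := by linarith
    have h3 := Complex.sq_norm (μ i * conj c)
    rw [hsq, Complex.normSq_apply, h2] at h3
    exact Complex.ext h2 (by simpa using h3)
  calc μ i = μ i * (conj c * c) := by
        rw [mul_comm (conj c), Complex.mul_conj, Complex.normSq_eq_norm_sq, hc1]; simp
    _ = c := by rw [← mul_assoc, hone, one_mul]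

section Root

variable {M : Ideal AlgInt} (hM : IsPModular p M)
  {B : Set (IrrCharacter G)} {b : Set (IrrCharacter C[P])}
  (hB : IsPBlock M B) (hD : IsDefectGroup p M B P) (hind : IsInducedBlock M C[P] b B)

include hcard hM hB hD hind

open Classical in
/-- The sum over `P` of a member of the root. -/
theorem sum_P_root {θ ξ : IrrCharacter C[P]} (hθ : θ ∈ b) (hξ : ξ ∈ b)
    (hθP : ∀ z : C[P], (z : G) ∈ P → (θ : C[P] → ℂ) z = (θ : C[P] → ℂ) 1) :
    ∑ z : P, (ξ : C[P] → ℂ) (inC hcard z) =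
      if ξ = θ then (p : ℂ) * (θ : C[P] → ℂ) 1 else 0 := by
  split_ifs with h
  · subst h
    rw [Finset.sum_congr rfl fun z _ => hθP (inC hcard z) z.2, Finset.sum_const, Finset.card_univ,
      nsmul_eq_mul, ← Nat.card_eq_fintype_card, hcard]
  · refine (sum_P_eq hcard ξ).resolve_left fun hP => h ?_
    refine root_trivial_unique hM hB hD hcard hind hξ hθ (fun z hz => ?_) hθP
    exact hP ⟨(z : G), hz⟩

open Classical in
/-- The sum over the nonidentity elements of `P` of a character of a block with defect group `P`. -/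
theorem sum_P_block {θ : IrrCharacter C[P]} (hθ : θ ∈ b)
    (hθP : ∀ z : C[P], (z : G) ∈ P → (θ : C[P] → ℂ) z = (θ : C[P] → ℂ) 1) (T : Subgroup G)
    (hT : ∀ g : G, g ∈ T ↔ g ∈ Subgroup.normalizer (P : Set G) ∧ StabilizesBlock C[P] b g)
    (a : IrrCharacter C[P] → ℕ) {ψ : IrrCharacter G} (hψ : ψ ∈ B)
    (ha : ∀ η : IrrCharacter C[P], classInner (fun k : C[P] => (ψ : G → ℂ) k) (η : C[P] → ℂ) = (a η : ℂ)) :
    ∑ z ∈ Finset.univ.erase (1 : P), (ψ : G → ℂ) z =
        -((T.relIndex (Subgroup.normalizer (P : Set G)) : ℂ) * (θ : C[P] → ℂ) 1 *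
          ((∑ ξ ∈ b.toFinset, (a ξ : ℂ)) - (p : ℂ) * a θ)) ∧
      ∑ η ∈ (indSet M C[P] B).toFinset, (a η : ℂ) * (η : C[P] → ℂ) 1 =
        (T.relIndex (Subgroup.normalizer (P : Set G)) : ℂ) * (θ : C[P] → ℂ) 1 *
          ∑ ξ ∈ b.toFinset, (a ξ : ℂ) := by
  have D := cycSystem hM hB hD hcard hind
  have hinva : ∀ g ∈ Subgroup.normalizer (P : Set G), ∀ (hg : ConjMaps g C[P] C[P])
      (η : IrrCharacter C[P]), (a (compIrr (conjIso hg) η) : ℂ) = a η := by
    intro g _ hg η
    rw [← ha, ← ha]
    have e : (fun k : C[P] => (ψ : G → ℂ) k) = fun k => (ψ : G → ℂ) (conjIso hg k : G) :=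
      funext fun k => (ψ.2.isClassFunction (k : G) g).symm
    conv_lhs => rw [e]
    exact Char.classInner_comp_equiv (conjIso hg) (fun k : C[P] => (ψ : G → ℂ) k) (η : C[P] → ℂ)
  constructor
  · have hval : ∀ z ∈ Finset.univ.erase (1 : P), (ψ : G → ℂ) z =
        ∑ η ∈ (indSet M C[P] B).toFinset, (a η : ℂ) * (η : C[P] → ℂ) (inC hcard z) := by
      intro z hz
      have hz1 : (z : G) ≠ 1 := fun h => Finset.ne_of_mem_erase hz (Subtype.ext h)
      have hord : orderOf (z : G) = p := by
        have h := Subgroup.orderOf_dvd_natCard P z.2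
        rw [hcard] at h
        exact ((Nat.dvd_prime hp.out).1 h).resolve_left fun h1 => hz1 (orderOf_eq_one_iff.1 h1)
      have hk1 : ¬ IsPRegular p ((inC hcard z : C[P]) : G) := fun h => h (by
        rw [inC_coe, hord])
      have hk : pPt p ((inC hcard z : C[P]) : G) ∈ P :=
        (Subgroup.zpowers_le.2 z.2) (pPt_mem_zpowers _)
      have h := apply_section_eq hM hB hD hcard hind ψ hψ (inC hcard z) hk hk1
      rw [inC_coe] at h
      rw [h]
      exact Finset.sum_congr rfl fun η _ => by rw [ha]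
    rw [Finset.sum_congr rfl hval, Finset.sum_comm]
    simp only [← Finset.mul_sum]
    rw [sum_indSet_of_inv hM hB hD hcard hind hθ T hT (fun η =>
      (a η : ℂ) * ∑ z ∈ Finset.univ.erase (1 : P), (η : C[P] → ℂ) (inC hcard z)) ?_]
    · rw [Finset.sum_congr rfl fun ξ hξ => by
        rw [Finset.sum_erase_eq_sub (Finset.mem_univ _),
          sum_P_root hcard hM hB hD hind hθ (Set.mem_toFinset.1 hξ) hθP, inC_one,
          root_apply_one hM hB hD hcard hind (Set.mem_toFinset.1 hξ) hθ, mul_sub]]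
      rw [Finset.sum_sub_distrib]
      simp only [mul_ite, mul_zero, Finset.sum_ite_eq', Set.mem_toFinset, if_pos hθ]
      rw [← Finset.sum_mul]
      ring
    · intro g hg hgm η
      show (a (compIrr (conjIso hgm) η) : ℂ) * _ = _
      rw [hinva g hg hgm η]
      congr 1
      refine Finset.sum_bij' (fun z _ => ⟨g * z * g⁻¹, (Subgroup.mem_normalizer_iff.1 hg _).1 z.2⟩)
        (fun z _ => ⟨g⁻¹ * z * g, (Subgroup.mem_normalizer_iff.1 hg _).2 (by
          rw [show g * (g⁻¹ * (z : G) * g) * g⁻¹ = z by group]; exact z.2)⟩) ?_ ?_ ?_ ?_ ?_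
      · intro z hz
        refine Finset.mem_erase.2 ⟨fun h => Finset.ne_of_mem_erase hz (Subtype.ext ?_),
          Finset.mem_univ _⟩
        exact conj_eq_one_iff.1 (congrArg Subtype.val h)
      · intro z hz
        refine Finset.mem_erase.2 ⟨fun h => Finset.ne_of_mem_erase hz (Subtype.ext ?_),
          Finset.mem_univ _⟩
        have h1 : g⁻¹ * (z : G) * g = 1 := congrArg Subtype.val h
        calc (z : G) = g * (g⁻¹ * (z : G) * g) * g⁻¹ := by group
          _ = 1 := by rw [h1]; group
      · intro z _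
        exact Subtype.ext (show g⁻¹ * (g * (z : G) * g⁻¹) * g = z by group)
      · intro z _
        exact Subtype.ext (show g * (g⁻¹ * (z : G) * g) * g⁻¹ = z by group)
      · intro z _
        rw [compIrr_apply]
        congr 1
  · rw [sum_indSet_of_inv hM hB hD hcard hind hθ T hT (fun η => (a η : ℂ) * (η : C[P] → ℂ) 1) ?_,
      Finset.sum_congr rfl fun ξ hξ => by
        rw [root_apply_one hM hB hD hcard hind (Set.mem_toFinset.1 hξ) hθ], ← Finset.sum_mul]
    · ring
    · intro g hg hgm η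
      show (a (compIrr (conjIso hgm) η) : ℂ) * _ = _
      rw [hinva g hg hgm η, compIrr_apply, map_one]

open Classical in
/-- The possible sums of the coefficients along the root. -/
theorem root_coeff_cases {θ : IrrCharacter C[P]} (hθ : θ ∈ b)
    (hθP : ∀ z : C[P], (z : G) ∈ P → (θ : C[P] → ℂ) z = (θ : C[P] → ℂ) 1) (T : Subgroup G)
    (hT : ∀ g : G, g ∈ T ↔ g ∈ Subgroup.normalizer (P : Set G) ∧ StabilizesBlock C[P] b g)
    (a : IrrCharacter C[P] → ℕ) {ψ : IrrCharacter G} (hψ : ψ ∈ B)
    (ha : ∀ η : IrrCharacter C[P], classInner (fun k : C[P] => (ψ : G → ℂ) k) (η : C[P] → ℂ) = (a η : ℂ)) :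
    ∃ k : ℕ, k ∣ p - 1 ∧ (k = p - 1 ∨ k = (C[P]).relIndex T) ∧
      ((∑ ξ ∈ b.toFinset, (a ξ : ℤ)) - (p : ℤ) * a θ = (k : ℤ) ∨
        (∑ ξ ∈ b.toFinset, (a ξ : ℤ)) - (p : ℤ) * a θ = -(k : ℤ)) := by
  obtain ⟨X, Y, δ, δ₀, hdvd, hBXY, -, -, -, -, -, hδ, hδ₀, -, -, -, -, hcX, hcY, -⟩ :=
    prime_structure hM hB hD hcard hind hθ hθP T hT
  rw [hBXY] at hψ
  have hcardb : b.toFinset.card = p := by
    rw [Set.toFinset_card, ← Nat.card_eq_fintype_card, root_card hM hB hD hcard hind]
  rcases hψ with hX | hY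
  · have hdiff : ∀ ξ ∈ b.toFinset.erase θ, (a ξ : ℤ) = (a θ : ℤ) + δ ψ := by
      intro ξ hξ
      have h := hcX ψ hX ξ (Set.mem_toFinset.1 (Finset.mem_of_mem_erase hξ))
        (Finset.ne_of_mem_erase hξ)
      rw [ha, ha] at h
      exact_mod_cast h
    refine ⟨p - 1, dvd_rfl, Or.inl rfl, ?_⟩
    rw [← Finset.add_sum_erase _ _ (Set.mem_toFinset.2 hθ), Finset.sum_congr rfl hdiff,
      Finset.sum_const, Finset.card_erase_of_mem (Set.mem_toFinset.2 hθ), hcardb, nsmul_eq_mul,
      Nat.cast_sub hp.out.one_lt.le]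
    rcases hδ ψ hX with h | h <;> rw [h]
    · left; push_cast; ring
    · right; push_cast; ring
  · refine ⟨(C[P]).relIndex T, hdvd, Or.inr rfl, ?_⟩
    have h := hcY ψ hY
    simp only [ha, Finset.sum_sub_distrib, Finset.sum_const, hcardb, nsmul_eq_mul] at h
    have h' : (∑ ξ ∈ b.toFinset, (a ξ : ℤ)) - (p : ℤ) * a θ =
        ((C[P]).relIndex T : ℤ) * δ₀ := by exact_mod_cast h
    rcases hδ₀ with e | e <;> rw [h', e] <;> simp

end Root

/-! ## The setting of a minimal counterexample -/

/-- `P` is a Sylow subgroup of order `p`, not normal, normalized by every proper subgroup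
containing it. -/
structure SmallDegSetting (p : ℕ) {G : Type u} [Group G] (P : Subgroup G) : Prop where
  card : Nat.card P = p
  sylow : (Nat.card G).factorization p = 1
  notNormal : ¬ P.Normal
  maxi : ∀ H : Subgroup G, H ≠ ⊤ → P ≤ H → H ≤ Subgroup.normalizer (P : Set G)

variable (hS : SmallDegSetting p P)

include hS

theorem SmallDegSetting.isPGroup : IsPGroup p P :=
  IsPGroup.of_card (n := 1) (by rw [hS.card, pow_one])

/-- The Sylow subgroup, as such. -/
theorem SmallDegSetting.exists_sylow : ∃ S : Sylow p G, (S : Subgroup G) = P :=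
  ⟨Sylow.ofCard P (by rw [hS.sylow, hS.card, pow_one]), rfl⟩

theorem SmallDegSetting.eq_of_le_normalizer {Q : Subgroup G} (hQ : Nat.card Q = p)
    (hle : Q ≤ Subgroup.normalizer (P : Set G)) : Q = P := by
  have hQp : IsPGroup p Q := IsPGroup.of_card (n := 1) (by rw [hQ, pow_one])
  have hsup : IsPGroup p (Q ⊔ P : Subgroup G) := hQp.to_sup_of_normal_right' hS.isPGroup hle
  obtain ⟨S, hSP⟩ := hS.exists_sylow
  have he : (Q ⊔ P : Subgroup G) = P := by
    rw [← hSP] at hsup ⊢
    exact S.is_maximal' hsup le_sup_right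
  exact Subgroup.eq_of_le_of_card_ge (he ▸ le_sup_left) (le_of_eq (by rw [hQ, hS.card]))

theorem SmallDegSetting.mem_normalizer_of_conj {H : Subgroup G}
    (hH : H ≤ Subgroup.normalizer (P : Set G)) {g : G}
    (hg : P.map (MulAut.conj g).toMonoidHom ≤ H) : g ∈ Subgroup.normalizer (P : Set G) := by
  have h := hS.eq_of_le_normalizer (Q := P.map (MulAut.conj g).toMonoidHom)
    (by rw [Subgroup.card_map_of_injective (MulAut.conj g).injective, hS.card]) (hg.trans hH)
  rw [Subgroup.mem_normalizer_iff]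
  intro z
  constructor
  · exact fun hz => h ▸ ⟨z, hz, rfl⟩
  · intro hz
    rw [← h] at hz
    obtain ⟨w, hw, hwz⟩ := hz
    rw [← (MulAut.conj g).injective hwz]
    exact hw

theorem SmallDegSetting.normalClosure_eq_top : Subgroup.normalClosure (P : Set G) = ⊤ := by
  by_contra hne
  have hle := hS.maxi _ hne Subgroup.subset_normalClosure
  refine hS.notNormal ⟨fun z hz g => ?_⟩
  refine (Subgroup.mem_normalizer_iff.1 ?_ z).1 hz
  refine hS.mem_normalizer_of_conj hle ?_
  rintro _ ⟨w, hw, rfl⟩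
  exact Subgroup.normalClosure_normal.conj_mem w (Subgroup.subset_normalClosure hw) g

theorem SmallDegSetting.inf_center : P ⊓ Subgroup.center G = ⊥ := by
  refine eq_bot_iff.2 fun z hz => ?_
  by_contra h1
  have he : Subgroup.zpowers z = P := zpowers_eq_of_mem hS.card hz.1 h1
  have hle : P ≤ Subgroup.center G := he ▸ Subgroup.zpowers_le.2 hz.2
  exact hS.notNormal ⟨fun w hw g => by
    rwa [(Subgroup.mem_center_iff.1 (hle hw) g), mul_inv_cancel_right]⟩

theorem SmallDegSetting.eq_top_of_le {H : Subgroup G} [H.Normal] (h : P ≤ H) : H = ⊤ :=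
  top_le_iff.1 (hS.normalClosure_eq_top ▸ Subgroup.normalClosure_le_normal h)

/-- A character trivial on `P` is constant. -/
theorem SmallDegSetting.const_of_ker {ψ : G → ℂ} (hψ : IsCharacter G ψ)
    (h : ∀ z : P, ψ z = ψ 1) (g : G) : ψ g = ψ 1 := by
  haveI := Char.charKer_normal hψ
  exact (Char.mem_charKer hψ).1 ((hS.eq_top_of_le (H := Char.charKer hψ)
    fun z hz => (Char.mem_charKer hψ).2 (h ⟨z, hz⟩)) ▸ Subgroup.mem_top g)

theorem SmallDegSetting.isDefectGroup_of_not_dvd {M : Ideal AlgInt} (hM : IsPModular p M)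
    {φ : IrrCharacter G} (h : ¬ p ∣ charDegree (φ : G → ℂ)) :
    IsDefectGroup p M (blockOf M (φ : G → ℂ)) P := by
  have hB : IsPBlock M (blockOf M (φ : G → ℂ)) := isPBlock_blockOf φ
  have h0 : minVal p (blockOf M (φ : G → ℂ)) = 0 := by
    have h1 := minVal_le (p := p) (self_mem_blockOf hM φ)
    rw [Nat.factorization_eq_zero_of_not_dvd h] at h1
    omega
  have hd := blockDefect_add_minVal (p := p) (nonempty_of_isPBlock hM hB)
  rw [h0, add_zero] at hd
  obtain ⟨D, hD⟩ := exists_defectGroup hM hB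
  have hc := card_defectGroup hM hB hD
  rw [hd] at hc
  obtain ⟨S, hSP⟩ := hS.exists_sylow
  let D' : Sylow p G := Sylow.ofCard D hc
  obtain ⟨x, hx⟩ := MulAction.exists_smul_eq G D' S
  have h2 := isDefectGroup_conj hM hB hD x
  rw [← hSP, ← hx, Sylow.coe_subgroup_smul]
  exact h2

open Classical in
/-- A nontrivial irreducible character of degree less than `(p - 1) / 2` has no fixed vectors of
`P`, and restricts to `C(P)` as a single orbit of constituents. -/
theorem SmallDegSetting.no_fixed {φ : IrrCharacter G} {n : ℕ} (hn : charDegree (φ : G → ℂ) = n)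
    (h2 : 2 ≤ n) (hsmall : 2 * n + 1 < p) :
    ∃ (θ₀ : IrrCharacter C[P]) (t : ℕ) (a : IrrCharacter C[P] → ℕ),
      (θ₀ : C[P] → ℂ) 1 = (t : ℂ) ∧
      n = (C[P]).relIndex (Subgroup.normalizer (P : Set G)) * t ∧
      2 ≤ (C[P]).relIndex (Subgroup.normalizer (P : Set G)) ∧
      (∀ η : IrrCharacter C[P], classInner (fun k : C[P] => (φ : G → ℂ) k) (η : C[P] → ℂ) = (a η : ℂ)) ∧
      ∑ η, a η = (C[P]).relIndex (Subgroup.normalizer (P : Set G)) := by
  haveI : Fact p.Prime := hp
  obtain ⟨M, hM⟩ := exists_isPModular hp.out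
  have hnd : ¬ p ∣ charDegree (φ : G → ℂ) := by
    rw [hn]; exact fun h => absurd (Nat.le_of_dvd (by omega) h) (by omega)
  have hD := hS.isDefectGroup_of_not_dvd hM hnd
  have hB : IsPBlock M (blockOf M (φ : G → ℂ)) := isPBlock_blockOf φ
  obtain ⟨b, hb⟩ := (exists_pair_iff hM hB hD hS.isPGroup).2 ⟨1, by
    rintro _ ⟨z, hz, rfl⟩; simpa using hz⟩
  have hind := isInducedBlock_of_isBrauerPairOf hM (le_centralizer_self hS.card) hb
  obtain ⟨θ, hθ, hθP⟩ := root_exists_trivial hM hB hD hS.card hind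
  obtain ⟨T, hT⟩ := exists_stabilizer_subgroup hM hB hD hS.card hind
  choose a ha using fun η : IrrCharacter C[P] =>
    (φ.2.isCharacter.comp (C[P]).subtype).exists_nat_classInner η.2.isCharacter
  have ha' : ∀ η : IrrCharacter C[P], classInner (fun k : C[P] => (φ : G → ℂ) k) (η : C[P] → ℂ) = (a η : ℂ) := ha
  obtain ⟨hsum, hind_sum⟩ := sum_P_block hS.card hM hB hD hind hθ hθP T hT a
    (self_mem_blockOf hM φ) ha'
  obtain ⟨k, hkd, hk, hc⟩ := root_coeff_cases hS.card hM hB hD hind hθ hθP T hT a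
    (self_mem_blockOf hM φ) ha'
  obtain ⟨t, -, ht⟩ := θ.2.exists_degree
  set r := T.relIndex (Subgroup.normalizer (P : Set G)) with hr
  have hTN : T ≤ Subgroup.normalizer (P : Set G) := fun g hg => ((hT g).1 hg).1
  have hCT : C[P] ≤ T := fun g hg => (hT g).2 ⟨Subgroup.centralizer_le_normalizer _ hg,
    (stabilizes_iff_fix hM hB hD hS.card hind hθ hθP (Subgroup.centralizer_le_normalizer _ hg)).2
      fun c c' e => by
        rw [show c' = ⟨g, hg⟩ * c * ⟨g, hg⟩⁻¹ from Subtype.ext e]
        exact θ.2.isClassFunction c _⟩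
  have htower : (C[P]).relIndex T * r = (C[P]).relIndex (Subgroup.normalizer (P : Set G)) :=
    Subgroup.relIndex_mul_relIndex _ _ _ hCT hTN
  have hr0 : 1 ≤ r := Nat.one_le_iff_ne_zero.2 Subgroup.index_ne_zero_of_finite
  have he0 : 1 ≤ (C[P]).relIndex T := Nat.one_le_iff_ne_zero.2 Subgroup.index_ne_zero_of_finite
  have ht0 : 1 ≤ t := Nat.one_le_iff_ne_zero.2 fun h => θ.2.apply_one_ne_zero (by rw [ht, h]; simp)
  set s := ∑ ξ ∈ b.toFinset, a ξ with hs
  have hsc : (∑ ξ ∈ b.toFinset, (a ξ : ℂ)) = (s : ℂ) := by rw [hs, Nat.cast_sum]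
  rw [hsc, ht] at hsum hind_sum
  have hsz : (∑ ξ ∈ b.toFinset, (a ξ : ℤ)) = (s : ℤ) := by rw [hs, Nat.cast_sum]
  rw [hsz] at hc
  have hφ1 : (φ : G → ℂ) 1 = (n : ℂ) := by rw [apply_one_eq_charDegree, hn]
  -- the degree through the centralizer
  have hexp : (φ : G → ℂ) 1 = ∑ η : IrrCharacter C[P], (a η : ℂ) * (η : C[P] → ℂ) 1 := by
    have h := congrFun (Char.eq_sum_classInner (f := fun k : C[P] => (φ : G → ℂ) k)
      (φ.2.isCharacter.comp (C[P]).subtype).isClassFunction) 1
    simp only [Finset.sum_apply, Pi.smul_apply, smul_eq_mul, ha', OneMemClass.coe_one] at h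
    exact h
  choose d hd0 hd using fun η : IrrCharacter C[P] => η.2.exists_degree
  have hnexp : n = ∑ η, a η * d η := by
    rw [hφ1] at hexp
    simp only [hd] at hexp
    exact_mod_cast hexp
  have hindN : ∑ η ∈ (indSet M C[P] (blockOf M (φ : G → ℂ))).toFinset, a η * d η = r * t * s := by
    simp only [hd] at hind_sum
    exact_mod_cast hind_sum
  have hle : r * t * s ≤ n := by
    rw [← hindN, hnexp]
    exact Finset.sum_le_univ_sum_of_nonneg fun _ => Nat.zero_le _
  -- the multiplicity of the trivial character of `P`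
  obtain ⟨m, hm⟩ := (φ.2.isCharacter.comp P.subtype).exists_nat_classInner
    (Char.isIrrCharacter_one (G := P)).isCharacter
  have hm' : ∑ z : P, (φ : G → ℂ) z = (p : ℂ) * m := by
    have h : classInner (fun z : P => (φ : G → ℂ) z) (fun _ => 1) = (m : ℂ) := hm
    rw [Char.classInner_one_right, hS.card] at h
    rw [← h, ← mul_assoc, mul_inv_cancel₀ (Nat.cast_ne_zero.2 hp.out.ne_zero), one_mul]
  have hmz : (p : ℤ) * m = n - r * t * ((s : ℤ) - p * a θ) := by
    have h : (p : ℂ) * m = (n : ℂ) + -((r : ℂ) * t * ((s : ℂ) - p * a θ)) := by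
      rw [← hm', ← Finset.add_sum_erase _ _ (Finset.mem_univ (1 : P)), hsum, OneMemClass.coe_one,
        hφ1]
    have h' : ((p : ℤ) * m : ℤ) = (n : ℤ) + -((r : ℤ) * t * ((s : ℤ) - p * a θ)) := by exact_mod_cast h
    linarith
  have hDpos : 1 ≤ r * t := Nat.one_le_iff_ne_zero.2 (Nat.mul_ne_zero (by omega) (by omega))
  have hsn : s ≤ n := le_trans (Nat.le_mul_of_pos_left s (by omega)) hle
  have heq : n = r * t * s := by
    have hdiv : (p : ℤ) ∣ ((n - r * t * s : ℕ) : ℤ) := ⟨(m : ℤ) - r * t * a θ, by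
      rw [Nat.cast_sub hle]; push_cast; linarith⟩
    have h := Nat.eq_zero_of_dvd_of_lt (Int.natCast_dvd_natCast.1 hdiv) (by omega)
    omega
  have hm2 : m = r * t * a θ := by
    have h : (p : ℤ) * m = (p : ℤ) * ((r * t * a θ : ℕ) : ℤ) := by
      rw [hmz, show (n : ℤ) = ((r * t * s : ℕ) : ℤ) by rw [← heq]]; push_cast; ring
    exact_mod_cast mul_left_cancel₀ (by exact_mod_cast hp.out.ne_zero) h
  have hnotm : m ≠ n := by
    intro hmn
    have hP1 : ∀ z : P, (φ : G → ℂ) z = (φ : G → ℂ) 1 := by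
      have hre : ∀ z : P, ((φ : G → ℂ) z).re ≤ (n : ℝ) := fun z => by
        have h := φ.2.isCharacter.norm_le (z : G)
        rw [hφ1] at h
        exact (Complex.re_le_norm _).trans (by simpa using h)
      have hsum' : ∑ z : P, ((n : ℝ) - ((φ : G → ℂ) z).re) = 0 := by
        rw [Finset.sum_sub_distrib, ← Complex.re_sum, hm', hmn, Finset.sum_const, Finset.card_univ,
          ← Nat.card_eq_fintype_card, hS.card, nsmul_eq_mul]
        simp
      intro z
      have h := (Finset.sum_eq_zero_iff_of_nonneg fun z _ => sub_nonneg.2 (hre z)).1 hsum' z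
        (Finset.mem_univ z)
      have hn' := φ.2.isCharacter.norm_le (z : G)
      rw [hφ1] at hn' ⊢
      rw [Complex.natCast_re] at hn'
      have h5 : ((φ : G → ℂ) z).re ^ 2 + ((φ : G → ℂ) z).im ^ 2 = ‖(φ : G → ℂ) z‖ ^ 2 := by
        rw [← Complex.normSq_eq_norm_sq, Complex.normSq_apply]; ring
      have h6 : ((φ : G → ℂ) z).im = 0 := by
        have h7 := pow_le_pow_left₀ (norm_nonneg _) hn' 2
        rw [show ((φ : G → ℂ) z).re = (n : ℝ) by linarith] at h5
        nlinarith
      exact Complex.ext (by simp; linarith) (by simp [h6])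
    have hconst := hS.const_of_ker φ.2.isCharacter hP1
    have h := Char.classInner_irr_self φ.2
    rw [classInner, Finset.sum_congr rfl fun g _ => by rw [hconst g, hφ1, Complex.conj_natCast],
      Finset.sum_const, Finset.card_univ, nsmul_eq_mul, ← Nat.card_eq_fintype_card, ← mul_assoc,
      inv_mul_cancel₀ Char.card_cast_ne_zero, one_mul] at h
    have : n * n = 1 := by exact_mod_cast h
    nlinarith
  have hkp : 1 ≤ k := Nat.pos_of_ne_zero fun h0 => by
    rw [h0, zero_dvd_iff] at hkd
    omega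
  have hkle : k ≤ p - 1 := Nat.le_of_dvd (by omega) hkd
  have haθ : a θ = 0 := by
    rcases Nat.lt_or_ge (a θ) 1 with h | h
    · omega
    exfalso
    rcases Nat.lt_or_ge (a θ) 2 with h' | h'
    · have h1 : a θ = 1 := by omega
      rw [h1, Nat.cast_one, mul_one] at hc
      rw [h1, mul_one] at hm2
      have hkeq : k = p - 1 := by
        obtain ⟨c, hc'⟩ := hkd
        rcases c with _ | _ | c
        · omega
        · omega
        · exfalso
          have h3 : k * 2 ≤ p - 1 := hc' ▸ Nat.mul_le_mul_left k (by omega)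
          rcases hc with hc | hc <;> omega
      rcases hc with hc | hc
      · omega
      · have hs1 : s = 1 := by omega
        rw [hs1, mul_one] at heq
        exact hnotm (hm2.trans heq.symm)
    · have hp2 : (p : ℤ) * 2 ≤ (p : ℤ) * a θ :=
        mul_le_mul_of_nonneg_left (by exact_mod_cast h') (by positivity)
      rcases hc with hc | hc <;> omega
  rw [haθ, Nat.cast_zero, mul_zero, sub_zero] at hc
  have hsk : s = k := by omega
  have hkT : k = (C[P]).relIndex T := hk.resolve_left fun h => by omega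
  have hrs : r * s = (C[P]).relIndex (Subgroup.normalizer (P : Set G)) := by
    rw [hsk, hkT, mul_comm, htower]
  have hnE : n = (C[P]).relIndex (Subgroup.normalizer (P : Set G)) * t := by
    rw [← hrs, heq]; ring
  -- all constituents have the degree `t`
  have hout : ∀ η ∉ (indSet M C[P] (blockOf M (φ : G → ℂ))).toFinset, a η = 0 := by
    intro η hη
    have h := Finset.sum_add_sum_compl (indSet M C[P] (blockOf M (φ : G → ℂ))).toFinset
      fun η => a η * d η
    rw [hindN, ← hnexp, ← heq, add_eq_left, Finset.sum_eq_zero_iff] at h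
    have h1 := h η (Finset.mem_compl.2 hη)
    exact (mul_eq_zero.1 h1).resolve_right fun h2 => η.2.apply_one_ne_zero (by rw [hd, h2]; simp)
  have hdeg : ∀ η ∈ (indSet M C[P] (blockOf M (φ : G → ℂ))).toFinset, d η = t := by
    intro η hη
    have h := (cycSystem hM hB hD hS.card hind).degree_eq (Set.mem_toFinset.1 hη) hθ
    rw [hd, ht] at h
    exact_mod_cast h
  have hsumE : ∑ η, a η = (C[P]).relIndex (Subgroup.normalizer (P : Set G)) := by
    rw [← Finset.sum_subset (Finset.subset_univ
      (indSet M C[P] (blockOf M (φ : G → ℂ))).toFinset) fun η _ h => hout η h]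
    apply Nat.eq_of_mul_eq_mul_right (show 0 < t by omega)
    rw [← hnE, Finset.sum_mul, Finset.sum_congr rfl fun η hη => by rw [← hdeg η hη], hindN, ← heq]
  refine ⟨θ, t, a, ht, hnE, ?_, ha', hsumE⟩
  by_contra hE
  -- a single constituent makes `P` scalar
  have hE1 : (C[P]).relIndex (Subgroup.normalizer (P : Set G)) = 1 := by
    have : (C[P]).relIndex (Subgroup.normalizer (P : Set G)) ≠ 0 :=
      Subgroup.index_ne_zero_of_finite
    omega
  have hex : ∃ η₁, a η₁ ≠ 0 := by
    by_contra hc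
    push Not at hc
    simp [hc, hE1] at hsumE
  obtain ⟨η₁, hη₁⟩ := hex
  have hone : ∀ η, η ≠ η₁ → a η = 0 := by
    intro η hne
    have h : a η₁ + a η ≤ ∑ η, a η := by
      rw [← Finset.sum_pair (Ne.symm hne)]
      exact Finset.sum_le_univ_sum_of_nonneg fun _ => Nat.zero_le _
    omega
  have hscal : ∀ z : P, ‖(φ : G → ℂ) z‖ = n := by
    intro z
    have h := congrFun (Char.eq_sum_classInner (f := fun k : C[P] => (φ : G → ℂ) k)
      (φ.2.isCharacter.comp (C[P]).subtype).isClassFunction) (inC hS.card z)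
    simp only [Finset.sum_apply, Pi.smul_apply, smul_eq_mul, ha', inC_coe] at h
    rw [Finset.sum_eq_single η₁ (fun η _ hne => by simp [hone η hne]) (by simp)] at h
    obtain ⟨c, hc1, hc2⟩ := exists_central_scalar η₁ (inC_mem_center hS.card z)
    have h1 := hc2 1
    rw [mul_one] at h1
    have hnn : (n : ℕ) = a η₁ * d η₁ := by
      rw [hnexp, Finset.sum_eq_single η₁ (fun η _ hne => by simp [hone η hne]) (by simp)]
    have hcn : ‖c‖ = 1 := Complex.norm_eq_one_of_pow_eq_one hc1 (orderOf_pos _).ne'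
    rw [h, h1, hd, norm_mul, norm_mul, hcn, one_mul, Complex.norm_natCast, Complex.norm_natCast,
      hnn, Nat.cast_mul]
  -- the elements acting as scalars form a normal subgroup containing `P`
  obtain ⟨nn, ρ, hirr, hρ⟩ := φ.2
  have hnn : nn = n := by
    have h := congrFun hρ 1
    rw [hφ1, Representation.char_one, Module.finrank_fin_fun] at h
    exact_mod_cast h
  subst hnn
  let K : Subgroup G :=
    { carrier := {g | ∃ c : ℂ, ρ g = c • LinearMap.id}
      one_mem' := ⟨1, by rw [map_one, one_smul]; rfl⟩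
      mul_mem' := by
        rintro x y ⟨c, hx⟩ ⟨e, hy⟩
        refine ⟨c * e, ?_⟩
        rw [map_mul, hx, hy]
        ext v
        simp [Module.End.mul_apply, smul_smul, mul_comm]
      inv_mem' := by
        rintro x ⟨c, hx⟩
        have h : ρ x⁻¹ * ρ x = 1 := by rw [← map_mul, inv_mul_cancel, map_one]
        refine ⟨c⁻¹, ?_⟩
        rw [hx] at h
        have hc0 : c ≠ 0 := by
          rintro rfl
          rw [zero_smul, mul_zero] at h
          have h1 := congrArg (fun f : Module.End ℂ (Fin nn → ℂ) => f (fun _ => 1) ⟨0, by omega⟩) h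
          simp at h1
        apply smul_right_injective (Module.End ℂ (Fin nn → ℂ)) hc0
        simp only [smul_smul, mul_inv_cancel₀ hc0, one_smul]
        rw [← Module.End.one_eq_id, mul_smul_comm, mul_one] at h
        rw [h, Module.End.one_eq_id] }
  haveI : K.Normal := ⟨by
    rintro x ⟨c, hx⟩ g
    refine ⟨c, ?_⟩
    rw [map_mul, map_mul, hx, ← Module.End.one_eq_id, mul_smul_comm, mul_one, smul_mul_assoc,
      ← map_mul, mul_inv_cancel, map_one]⟩
  have hPK : P ≤ K := by
    intro z hz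
    obtain ⟨μ, hμ, hsum', -, -, -, hscal'⟩ := Char.character_eq_sum_roots ρ z
    have h := hscal ⟨z, hz⟩
    rw [← hρ, hsum'] at h
    refine ⟨(∑ i, μ i) / (nn : ℂ), hscal' _ fun i => ?_⟩
    exact eq_avg_of_norm_sum (fun i => Char.norm_eq_one_of_pow_orderOf (hμ i))
      (Module.finrank_fin_fun ℂ) h i
  have hKtop := hS.eq_top_of_le (H := K) hPK
  have hall : ∀ g : G, ‖(φ : G → ℂ) g‖ = nn := by
    intro g
    obtain ⟨c, hc⟩ : g ∈ K := hKtop ▸ Subgroup.mem_top g
    have h1 : ρ (g ^ orderOf g) = 1 := by rw [pow_orderOf_eq_one, map_one]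
    rw [map_pow, hc, smul_pow, ← Module.End.one_eq_id, one_pow] at h1
    have hc1 : c ^ orderOf g = 1 := by
      have h2 := congrArg (fun f : Module.End ℂ (Fin nn → ℂ) => f (fun _ => 1) ⟨0, by omega⟩) h1
      simpa using h2
    rw [← hρ, Representation.character, hc, map_smul, LinearMap.trace_id, smul_eq_mul, norm_mul,
      Complex.norm_eq_one_of_pow_eq_one hc1 (orderOf_pos g).ne']
    simp
  have h := Char.classInner_irr_self φ.2
  rw [classInner, Finset.sum_congr rfl fun g _ => by
    rw [Complex.mul_conj, Complex.normSq_eq_norm_sq, hall g], Finset.sum_const, Finset.card_univ,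
    nsmul_eq_mul, ← Nat.card_eq_fintype_card, ← mul_assoc, inv_mul_cancel₀ Char.card_cast_ne_zero,
    one_mul] at h
  have h' : (nn : ℝ) ^ 2 = 1 := by exact_mod_cast h
  have h2' : (2 : ℝ) ≤ nn := by exact_mod_cast h2
  nlinarith

end Cfsg.Lib.Block
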