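import Cfsg.Agent.Lib.Block.SmallDegree
import Cfsg.Agent.Lib.Char.Linear
import Cfsg.Agent.Lib.Char.Constituents

/-!
# The bound on the degree of a faithful character

A finite group with a Sylow subgroup of order `p` which is not normal has no faithful character of
degree less than `(p - 1) / 2`. The constituents of `φ * conj φ` for a small irreducible character
`φ` are bounded below in degree, using the trivial intersection of the centralizer.
-/

set_option autoImplicit false
set_option linter.unusedSectionVars false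
set_option linter.style.haveILetI false

namespace Cfsg.Lib.Block

open Cfsg
open scoped ComplexConjugate

universe u

noncomputable local instance (priority := high) fintypeSubgroupSmallDegreeMain {A : Type u}
    [Group A] [Fintype A] (H : Subgroup A) : Fintype H := Fintype.ofFinite H

local notation "C[" P "]" => Subgroup.centralizer (SetLike.coe P)

section Generic

variable {H : Type u} [Group H] [Fintype H]

/-- The squared degree is bounded by the index of the center. -/
theorem card_center_mul_sq_le (η : IrrCharacter H) {d : ℕ} (hd : (η : H → ℂ) 1 = d) :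
    Nat.card (Subgroup.center H) * d ^ 2 ≤ Nat.card H := by
  classical
  have h1 := Char.classInner_irr_self η.2
  rw [Char.classInner_self, Complex.ofReal_eq_one,
    inv_mul_eq_one₀ (by exact_mod_cast Nat.card_pos.ne')] at h1
  have h2 : ∀ g ∈ Finset.univ.filter (fun g : H => g ∈ Subgroup.center H),
      ‖(η : H → ℂ) g‖ ^ 2 = (d : ℝ) ^ 2 := by
    intro g hg
    obtain ⟨c, hc, hcg⟩ := exists_central_scalar η (Finset.mem_filter.1 hg).2
    have h := hcg 1
    rw [mul_one] at h
    rw [h, hd, norm_mul, Complex.norm_eq_one_of_pow_eq_one hc (orderOf_pos g).ne', one_mul,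
      Complex.norm_natCast]
  have h3 : ∑ g ∈ Finset.univ.filter (fun g : H => g ∈ Subgroup.center H),
      ‖(η : H → ℂ) g‖ ^ 2 ≤ ∑ g, ‖(η : H → ℂ) g‖ ^ 2 :=
    Finset.sum_le_univ_sum_of_nonneg fun g => by positivity
  rw [Finset.sum_congr rfl h2, Finset.sum_const, nsmul_eq_mul, ← h1,
    ← Fintype.card_subtype, ← Nat.card_eq_fintype_card] at h3
  exact_mod_cast h3

end Generic

/-- The inequality used against small constituents. -/
theorem ti_arith (p E q B : ℤ) (hE : 0 ≤ E) (hB : 0 ≤ B) (hq : p = 2 * E + q)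
    (hp : 2 * (E * (B + 1)) + 3 ≤ p) : (p * B + 1) ^ 2 ≤ p * (B + 1) ^ 2 * q := by
  have hp1 : 1 ≤ p := by nlinarith
  have hq' : q = p - 2 * E := by linarith
  rw [hq']
  nlinarith [mul_nonneg (mul_nonneg (by linarith : (0 : ℤ) ≤ p) (by linarith : (0 : ℤ) ≤ B + 1))
      (sub_nonneg.2 hp), mul_nonneg (mul_nonneg (by linarith : (0 : ℤ) ≤ p)
      (by linarith : (0 : ℤ) ≤ p)) hB, mul_nonneg (by linarith : (0 : ℤ) ≤ p) hB]

/-- The final inequality. -/
theorem small_degree_arith (p E t : ℤ) (hE : 2 ≤ E) (ht : 1 ≤ t) (hp : 2 * (E * t) + 3 ≤ p)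
    (h : (p * E - E * E - (p - 1)) * (p * t + 1) ≤ (p - 1) * (E * t * (E * t) - 1)) : False := by
  have hp1 : (0 : ℤ) < p - 1 := by nlinarith
  have h1 : (p - 1) * (2 * t - 1) ≤ 2 * t * (p - 1 - E) := by nlinarith
  have hLpos : (0 : ℤ) ≤ (2 * t - 1) * (E - 1) := mul_nonneg (by linarith) (by linarith)
  have h2 : 2 * E * t ^ 2 + 3 * t + 1 ≤ p * t + 1 := by nlinarith
  have h3 : 2 * t * (E * t * (E * t) - 1) < (2 * t - 1) * (E - 1) * (2 * E * t ^ 2 + 3 * t + 1) := by
    nlinarith [mul_nonneg (mul_nonneg (sub_nonneg.2 hE) (sub_nonneg.2 ht))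
        (mul_nonneg (mul_nonneg (by linarith : (0 : ℤ) ≤ 2) (by linarith : (0 : ℤ) ≤ E))
          (sq_nonneg t)),
      mul_nonneg (by linarith : (0 : ℤ) ≤ E - 1) (mul_nonneg (by linarith : (0 : ℤ) ≤ 2 * t + 1)
        (sub_nonneg.2 ht)),
      mul_nonneg (sub_nonneg.2 hE) (sq_nonneg t)]
  have h4 : (p - 1) * ((2 * t - 1) * (E - 1) * (2 * E * t ^ 2 + 3 * t + 1)) ≤
      (p - 1) * (2 * t - 1) * ((E - 1) * (p * t + 1)) := by
    rw [show (p - 1) * (2 * t - 1) * ((E - 1) * (p * t + 1)) =
      (p - 1) * ((2 * t - 1) * (E - 1) * (p * t + 1)) by ring]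
    exact mul_le_mul_of_nonneg_left (mul_le_mul_of_nonneg_left h2 hLpos) hp1.le
  have h5 : (p - 1) * (2 * t - 1) * ((E - 1) * (p * t + 1)) ≤
      2 * t * (p - 1 - E) * ((E - 1) * (p * t + 1)) :=
    mul_le_mul_of_nonneg_right h1 (mul_nonneg (by linarith) (by nlinarith))
  have h6 : 2 * t * ((p * E - E * E - (p - 1)) * (p * t + 1)) ≤
      2 * t * ((p - 1) * (E * t * (E * t) - 1)) :=
    mul_le_mul_of_nonneg_left h (by linarith)
  have h7 := mul_lt_mul_of_pos_left h3 hp1
  nlinarith

variable {p : ℕ} [hp : Fact p.Prime] {G : Type u} [Group G] [Fintype G] {P : Subgroup G}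
  (hS : SmallDegSetting p P)

include hS

/-- The center of the centralizer contains `P` and the center. -/
theorem SmallDegSetting.card_center_centralizer :
    p * Nat.card (Subgroup.center G) ≤ Nat.card (Subgroup.center C[P]) := by
  have hmem : ∀ (z : P) (c : Subgroup.center G), (z : G) * c ∈ C[P] := fun z c =>
    mul_mem (le_centralizer_self hS.card z.2) (Subgroup.center_le_centralizer _ c.2)
  have hcen : ∀ (z : P) (c : Subgroup.center G),
      (⟨_, hmem z c⟩ : C[P]) ∈ Subgroup.center C[P] := by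
    intro z c
    refine Subgroup.mem_center_iff.2 fun g => Subtype.ext ?_
    show (g : G) * ((z : G) * c) = (z : G) * c * g
    rw [← mul_assoc, ← Subgroup.mem_centralizer_iff.1 g.2 z z.2, mul_assoc, mul_assoc,
      Subgroup.mem_center_iff.1 c.2 g]
  have h := Nat.card_le_card_of_injective
    (fun q : P × Subgroup.center G => (⟨_, hcen q.1 q.2⟩ : Subgroup.center C[P])) (fun q q' h => by
      have h1 : (q.1 : G) * q.2 = q'.1 * q'.2 :=
        congrArg (fun x : Subgroup.center C[P] => ((x : C[P]) : G)) h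
      have h2 : (q'.1 : G)⁻¹ * q.1 = (q'.2 : G) * (q.2 : G)⁻¹ := by
        rw [eq_mul_inv_iff_mul_eq, mul_assoc, h1, inv_mul_cancel_left]
      have h3 : (q'.1 : G)⁻¹ * q.1 ∈ P ⊓ Subgroup.center G :=
        Subgroup.mem_inf.2 ⟨mul_mem (inv_mem q'.1.2) q.1.2,
          h2 ▸ mul_mem q'.2.2 (inv_mem q.2.2)⟩
      rw [hS.inf_center, Subgroup.mem_bot] at h3
      have h4 : q.1 = q'.1 := Subtype.ext (inv_mul_eq_one.1 h3).symm
      rw [h4] at h1
      exact Prod.ext h4 (Subtype.ext (mul_left_cancel h1)))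
  rwa [Nat.card_prod, hS.card] at h

open Classical in
/-- The norm bound from the trivial intersection of the centralizer. -/
theorem SmallDegSetting.ti_bound {ψ : IrrCharacter G}
    (hψZ : ∀ c ∈ Subgroup.center G, ∀ g, (ψ : G → ℂ) (c * g) = (ψ : G → ℂ) g)
    {d : ℕ} (hd : (ψ : G → ℂ) 1 = d) (a : IrrCharacter C[P] → ℕ)
    (ha : ∀ η : IrrCharacter C[P],
      classInner (fun k : C[P] => (ψ : G → ℂ) k) (η : C[P] → ℂ) = (a η : ℂ)) :
    Nat.card C[P] * ∑ η, a η ^ 2 <
      (C[P]).relIndex (Subgroup.normalizer (P : Set G)) * Nat.card C[P] +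
        Nat.card (Subgroup.center G) * d ^ 2 := by
  set N := Subgroup.normalizer (P : Set G) with hN
  have hCN : C[P] ≤ N := Subgroup.centralizer_le_normalizer _
  have hZC : Subgroup.center G ≤ C[P] := Subgroup.center_le_centralizer _
  haveI : Fintype (G ⧸ N) := Fintype.ofFinite _
  set w : G → ℝ := fun g => ‖(ψ : G → ℂ) g‖ ^ 2 with hw
  have hwconj : ∀ x g : G, w (x * g * x⁻¹) = w g := fun x g => by
    simp only [hw, ψ.2.isClassFunction g x]
  have hG : ∑ g, w g = (Nat.card G : ℝ) := by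
    have h1 := Char.classInner_irr_self ψ.2
    rw [Char.classInner_self, Complex.ofReal_eq_one,
      inv_mul_eq_one₀ (by exact_mod_cast Nat.card_pos.ne')] at h1
    exact h1.symm
  have hC : ∑ k : C[P], w k = (Nat.card C[P] : ℝ) * (∑ η, a η ^ 2 : ℕ) := by
    have h1 := Char.classInner_eq_sum (f' := fun k : C[P] => (ψ : G → ℂ) k)
      (ψ.2.isCharacter.comp (C[P]).subtype).isClassFunction
    simp only [MonoidHom.coe_mk, Subgroup.coe_subtype, ha, Complex.conj_natCast] at h1
    rw [Char.classInner_self] at h1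
    have h2 : ((Nat.card C[P] : ℝ))⁻¹ * ∑ k : C[P], w k = ((∑ η, a η ^ 2 : ℕ) : ℝ) := by
      apply Complex.ofReal_injective
      rw [h1]
      push_cast
      exact Finset.sum_congr rfl fun η _ => by ring
    rw [← h2, ← mul_assoc, mul_inv_cancel₀ (by exact_mod_cast Nat.card_pos.ne'), one_mul]
  set Zs := Finset.univ.filter (fun g : G => g ∈ Subgroup.center G) with hZs
  have hZw : ∑ g ∈ Zs, w g = (Nat.card (Subgroup.center G) : ℝ) * (d : ℝ) ^ 2 := by
    rw [Finset.sum_congr rfl fun g hg => show w g = (d : ℝ) ^ 2 by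
      have h := hψZ g (Finset.mem_filter.1 hg).2 1
      rw [mul_one] at h
      simp only [hw, h, hd, Complex.norm_natCast]]
    rw [Finset.sum_const, nsmul_eq_mul, ← Fintype.card_subtype, ← Nat.card_eq_fintype_card]
  set A := Finset.univ.filter (fun k : C[P] => (k : G) ∉ Subgroup.center G) with hA
  have hAw : ∑ k ∈ A, w k =
      (Nat.card C[P] : ℝ) * (∑ η, a η ^ 2 : ℕ) -
        (Nat.card (Subgroup.center G) : ℝ) * (d : ℝ) ^ 2 := by
    rw [← hC, ← hZw, ← Finset.sum_filter_add_sum_filter_not Finset.univ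
      (fun k : C[P] => (k : G) ∈ Subgroup.center G) (fun k => w k), ← hA]
    have e : ∑ k ∈ Finset.univ.filter (fun k : C[P] => (k : G) ∈ Subgroup.center G), w k =
        ∑ g ∈ Zs, w g := by
      refine Finset.sum_bij (fun k _ => (k : G)) (fun k hk => ?_) (fun k _ l _ h => Subtype.ext h)
        (fun g hg => ⟨⟨g, hZC (Finset.mem_filter.1 hg).2⟩, ?_, rfl⟩) (fun k _ => rfl)
      · exact Finset.mem_filter.2 ⟨Finset.mem_univ _, (Finset.mem_filter.1 hk).2⟩
      · exact Finset.mem_filter.2 ⟨Finset.mem_univ _, (Finset.mem_filter.1 hg).2⟩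
    rw [e]
    ring
  set f : (G ⧸ N) × C[P] → G := fun q => q.1.out * (q.2 : G) * q.1.out⁻¹ with hf
  have hinj : Set.InjOn f ((Finset.univ ×ˢ A : Finset ((G ⧸ N) × C[P])) : Set _) := by
    rintro ⟨x, k⟩ hk ⟨y, l⟩ hl he
    rw [Finset.mem_coe, Finset.mem_product] at hk hl
    simp only [hf] at he
    have hl' := (Finset.mem_filter.1 hl.2).2
    set g := y.out⁻¹ * x.out with hg
    have hconj : g * (k : G) * g⁻¹ = l := by
      calc g * (k : G) * g⁻¹ = y.out⁻¹ * (x.out * k * x.out⁻¹) * y.out := by rw [hg]; group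
        _ = l := by rw [he]; group
    have hne : Subgroup.centralizer ({(l : G)} : Set G) ≠ ⊤ := fun h => hl' (by
      refine Subgroup.mem_center_iff.2 fun z => ?_
      have hz : z ∈ Subgroup.centralizer ({(l : G)} : Set G) := h ▸ Subgroup.mem_top z
      exact (Subgroup.mem_centralizer_iff.1 hz _ (Set.mem_singleton _)).symm)
    have hPH : P ≤ Subgroup.centralizer ({(l : G)} : Set G) := fun z hz =>
      Subgroup.mem_centralizer_iff.2 fun m hm => by
        rw [Set.mem_singleton_iff] at hm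
        rw [hm, Subgroup.mem_centralizer_iff.1 l.2 z hz]
    have hgN : g ∈ N := by
      refine hS.mem_normalizer_of_conj (hS.maxi _ hne hPH) ?_
      rintro _ ⟨z, hz, rfl⟩
      refine Subgroup.mem_centralizer_iff.2 fun m hm => ?_
      rw [Set.mem_singleton_iff] at hm
      show m * (g * z * g⁻¹) = g * z * g⁻¹ * m
      rw [hm, ← hconj]
      have hc : (k : G) * z = z * k := (Subgroup.mem_centralizer_iff.1 k.2 z hz).symm
      calc g * (k : G) * g⁻¹ * (g * z * g⁻¹) = g * ((k : G) * z) * g⁻¹ := by group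
        _ = g * z * g⁻¹ * (g * (k : G) * g⁻¹) := by rw [hc]; group
    have hxy : y = x := by
      rw [← QuotientGroup.out_eq' y, ← QuotientGroup.out_eq' x]
      exact QuotientGroup.eq.2 hgN
    subst hxy
    rw [mul_left_inj, mul_right_inj] at he
    exact Prod.ext rfl (Subtype.ext he)
  have hdisj : Disjoint ((Finset.univ ×ˢ A).image f) Zs := by
    rw [Finset.disjoint_left]
    intro g hg hgZ
    obtain ⟨⟨x, k⟩, hk, rfl⟩ := Finset.mem_image.1 hg
    refine (Finset.mem_filter.1 (Finset.mem_product.1 hk).2).2 ?_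
    have h := (Finset.mem_filter.1 hgZ).2
    have h2 := (inferInstance : (Subgroup.center G).Normal).conj_mem _ h x.out⁻¹
    simpa [hf, mul_assoc] using h2
  have hle : ((N.index : ℕ) : ℝ) * ∑ k ∈ A, w k + ∑ g ∈ Zs, w g ≤ (Nat.card G : ℝ) := by
    have h1 : ∑ g ∈ (Finset.univ ×ˢ A).image f, w g = ((N.index : ℕ) : ℝ) * ∑ k ∈ A, w k := by
      rw [Finset.sum_image hinj, Finset.sum_product]
      simp only [hf, hwconj]
      rw [Finset.sum_const, Finset.card_univ, nsmul_eq_mul, Subgroup.index,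
        Nat.card_eq_fintype_card]
    rw [← h1, ← Finset.sum_union hdisj, ← hG]
    exact Finset.sum_le_univ_sum_of_nonneg fun g => by positivity
  have hcardG : Nat.card G = (C[P]).relIndex N * Nat.card C[P] * N.index := by
    rw [← (C[P]).card_mul_index, ← Subgroup.relIndex_mul_index hCN]
    ring
  rw [hAw, hZw, hcardG] at hle
  by_contra hcon
  push Not at hcon
  have hcon' : ((C[P]).relIndex N : ℝ) * Nat.card C[P] +
      (Nat.card (Subgroup.center G) : ℝ) * (d : ℝ) ^ 2 ≤
      (Nat.card C[P] : ℝ) * (∑ η, a η ^ 2 : ℕ) := by exact_mod_cast hcon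
  have hd0 : 0 < d := Nat.pos_of_ne_zero fun h => ψ.2.apply_one_ne_zero (by rw [hd, h]; simp)
  have hpos : (0 : ℝ) < (Nat.card (Subgroup.center G) : ℝ) * (d : ℝ) ^ 2 := by
    have : 0 < Nat.card (Subgroup.center G) := Nat.card_pos
    positivity
  have hidx : (0 : ℝ) ≤ ((N.index : ℕ) : ℝ) := Nat.cast_nonneg _
  have h5 := mul_le_mul_of_nonneg_left hcon' hidx
  push_cast at hle h5
  linarith

open Classical in
/-- A character equal to one on the nonidentity elements of `P` has many constituents. -/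
theorem SmallDegSetting.many_constituents {ψ : G → ℂ} (hψ : IsCharacter G ψ) {d : ℕ}
    (hd : ψ 1 = d) (hd2 : 2 ≤ d) (hval : ∀ z : P, z ≠ 1 → ψ z = 1) (a : IrrCharacter C[P] → ℕ)
    (ha : ∀ η : IrrCharacter C[P], classInner (fun k : C[P] => ψ k) (η : C[P] → ℂ) = (a η : ℂ)) :
    p ≤ ∑ η, a η ^ 2 := by
  have hcomm : ∀ x y : P, x * y = y * x := fun x y =>
    Subtype.ext (comm_of_card_prime hS.card x x.2 y y.2)
  have hne : ∀ μ : IrrCharacter P, classInner (fun z : P => ψ z) (μ : P → ℂ) ≠ 0 := by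
    intro μ h
    have hμ1 := Char.degree_eq_one_of_comm hcomm μ.2
    have h1 := Char.classInner_irr Char.isIrrCharacter_one μ.2
    have hsum : ∑ z : P, ψ z * conj ((μ : P → ℂ) z) =
        ((d : ℂ) - 1) + ∑ z : P, (1 : ℂ) * conj ((μ : P → ℂ) z) := by
      rw [← Finset.add_sum_erase _ _ (Finset.mem_univ (1 : P)),
        ← Finset.add_sum_erase _ (fun z : P => (1 : ℂ) * conj ((μ : P → ℂ) z))
          (Finset.mem_univ (1 : P)),
        Finset.sum_congr rfl fun z hz => by rw [hval z (Finset.ne_of_mem_erase hz)],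
        OneMemClass.coe_one, hd, hμ1, map_one]
      ring
    have hcne : ((Nat.card P : ℂ)) ≠ 0 := Char.card_cast_ne_zero
    simp only [classInner, mul_eq_zero, inv_eq_zero, hcne, false_or] at h
    simp only [classInner, inv_mul_eq_iff_eq_mul₀ hcne] at h1
    rw [hsum, h1, hS.card] at h
    split_ifs at h
    · have h4 : ((d : ℂ) - 1 + p * 1) = ((d + p - 1 : ℕ) : ℂ) := by
        rw [Nat.cast_sub (by omega)]; push_cast; ring
      rw [h4, Nat.cast_eq_zero] at h
      omega
    · have h4 : ((d : ℂ) - 1 + p * 0) = ((d - 1 : ℕ) : ℂ) := by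
        rw [Nat.cast_sub (by omega)]; push_cast; ring
      rw [h4, Nat.cast_eq_zero] at h
      omega
  have hexp : ∀ z : P, ψ z = ∑ η : IrrCharacter C[P],
      (a η : ℂ) * (η : C[P] → ℂ) (inC hS.card z) := by
    intro z
    have h := congrFun (Char.eq_sum_classInner (f := fun k : C[P] => ψ k)
      (hψ.comp (C[P]).subtype).isClassFunction) (inC hS.card z)
    simp only [Finset.sum_apply, Pi.smul_apply, smul_eq_mul, ha, inC_coe] at h
    exact h
  have hex : ∀ μ : IrrCharacter P, ∃ η : IrrCharacter C[P], a η ≠ 0 ∧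
      ∀ z : P, (μ : P → ℂ) z = (η : C[P] → ℂ) (inC hS.card z) / (η : C[P] → ℂ) 1 := by
    intro μ
    obtain ⟨l, hl⟩ := Char.exists_hom_of_degree_one μ.2.isCharacter
      (Char.degree_eq_one_of_comm hcomm μ.2)
    by_contra hcon
    push Not at hcon
    refine hne μ ?_
    simp only [classInner]
    rw [Finset.sum_congr rfl fun z _ => by rw [hexp z, Finset.sum_mul], Finset.sum_comm,
      Finset.sum_eq_zero (fun η _ => ?_), mul_zero]
    rcases eq_or_ne (a η) 0 with h0 | h0
    · simp [h0]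
    obtain ⟨w, hw⟩ := hcon η h0
    simp only [mul_assoc, ← Finset.mul_sum]
    refine mul_eq_zero_of_right _ ?_
    set c := (η : C[P] → ℂ) (inC hS.card w) / (η : C[P] → ℂ) 1 with hc
    set I := ∑ z : P, (η : C[P] → ℂ) (inC hS.card z) * conj ((μ : P → ℂ) z) with hI
    have hm : ∀ z, (μ : P → ℂ) (w * z) = (μ : P → ℂ) w * (μ : P → ℂ) z := fun z => by
      simp only [hl, map_mul, Units.val_mul]
    have hI' : I = c * conj ((μ : P → ℂ) w) * I := by
      conv_lhs => rw [hI, ← Equiv.sum_comp (Equiv.mulLeft w)]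
      rw [hI, Finset.mul_sum]
      refine Finset.sum_congr rfl fun z _ => ?_
      rw [Equiv.coe_mulLeft, inC_mul, scalar_on_P hS.card η w, hm, map_mul, ← hc]
      ring
    have hμw : (μ : P → ℂ) w * conj ((μ : P → ℂ) w) = 1 := by
      rw [Complex.mul_conj, Complex.normSq_eq_norm_sq, hl]
      rw [Complex.norm_eq_one_of_pow_eq_one (n := orderOf w) (by
        rw [← Units.val_pow_eq_pow_val, ← map_pow, pow_orderOf_eq_one, map_one, Units.val_one])
        (orderOf_pos w).ne']
      simp
    by_contra hI0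
    have h1 : c * conj ((μ : P → ℂ) w) = 1 := (mul_eq_right₀ hI0).1 hI'.symm
    exact hw (by linear_combination c * hμw - (μ : P → ℂ) w * h1)
  choose f hf0 hf using hex
  have hfinj : Function.Injective f := fun μ ν h =>
    Subtype.ext (funext fun z => by rw [hf μ z, hf ν z, h])
  have hmk : Function.Bijective (ConjClasses.mk : P → ConjClasses P) := by
    refine ⟨fun x y h => ?_, ConjClasses.mk_surjective⟩
    obtain ⟨c, hc⟩ := isConj_iff.1 (ConjClasses.mk_eq_mk_iff_isConj.1 h)
    rwa [hcomm c x, mul_inv_cancel_right] at hc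
  have hcardP : (Finset.univ : Finset (IrrCharacter P)).card = p := by
    rw [Finset.card_univ, ← Nat.card_eq_fintype_card, Char.card_irr_eq_card_conjClasses,
      ← Nat.card_congr (Equiv.ofBijective _ hmk), hS.card]
  calc p = ∑ μ : IrrCharacter P, 1 := by rw [Finset.sum_const, smul_eq_mul, mul_one, hcardP]
    _ ≤ ∑ μ : IrrCharacter P, a (f μ) ^ 2 := Finset.sum_le_sum fun μ _ =>
        Nat.one_le_pow _ _ (Nat.pos_of_ne_zero (hf0 μ))
    _ = ∑ η ∈ Finset.univ.image f, a η ^ 2 :=
        (Finset.sum_image (f := fun η => a η ^ 2) hfinj.injOn).symm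
    _ ≤ ∑ η, a η ^ 2 := Finset.sum_le_univ_sum_of_nonneg fun _ => Nat.zero_le _

open Classical in
/-- The contribution of a constituent is small compared to its degree. -/
theorem SmallDegSetting.contribution_bound {M : Ideal AlgInt} (hM : IsPModular p M)
    {θ₀ : IrrCharacter C[P]} {t : ℕ} (ht : (θ₀ : C[P] → ℂ) 1 = t)
    (hE : 2 ≤ (C[P]).relIndex (Subgroup.normalizer (P : Set G)))
    (hsmall : 2 * ((C[P]).relIndex (Subgroup.normalizer (P : Set G)) * t) + 3 ≤ p)
    {ψ : IrrCharacter G} (hψ1 : ψ ≠ trivChar G)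
    (hψZ : ∀ c ∈ Subgroup.center G, ∀ g, (ψ : G → ℂ) (c * g) = (ψ : G → ℂ) g)
    {d : ℕ} (hd : (ψ : G → ℂ) 1 = d) (a : IrrCharacter C[P] → ℕ)
    (ha : ∀ η : IrrCharacter C[P],
      classInner (fun k : C[P] => (ψ : G → ℂ) k) (η : C[P] → ℂ) = (a η : ℂ)) :
    ((p : ℤ) * a (trivChar C[P]) - ∑ ξ ∈ (principalBlock M C[P]).toFinset, (a ξ : ℤ)) *
        ((p : ℤ) * t + 1) ≤ ((p : ℤ) - 1) * d := by
  have hPp := hS.isPGroup
  have hPC := le_centralizer_self hS.card
  obtain ⟨hind, huniq⟩ := principal_root hM hPp hPC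
  obtain ⟨S, hSP⟩ := hS.exists_sylow
  have hD : IsDefectGroup p M (principalBlock M G) P := hSP ▸ isDefectGroup_principal_sylow hM S
  have hB : IsPBlock M (principalBlock M G) := isPBlock_principal (M := M) (G := G)
  set b := principalBlock M C[P] with hb
  set θ := trivChar C[P] with hθdef
  have hθ : θ ∈ b := trivChar_mem_principal hM
  have hθ1 : ∀ k, (θ : C[P] → ℂ) k = 1 := fun k => rfl
  have hθP : ∀ z : C[P], (z : G) ∈ P → (θ : C[P] → ℂ) z = (θ : C[P] → ℂ) 1 := fun _ _ => rfl
  have hξ1 : ∀ ξ ∈ b, (ξ : C[P] → ℂ) 1 = 1 := fun ξ hξ => by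
    rw [root_apply_one hM hB hD hS.card hind hξ hθ, hθ1]
  have hp2 : (0 : ℤ) ≤ ((p : ℤ) - 1) * d := by
    have := hp.out.two_le
    exact mul_nonneg (by omega) (Nat.cast_nonneg _)
  by_cases hψB : ψ ∈ principalBlock M G
  swap
  · -- outside the principal block the contribution vanishes
    have hzero : ∀ z ∈ Finset.univ.erase (1 : P),
        ∑ ξ ∈ b.toFinset, (a ξ : ℂ) * (ξ : C[P] → ℂ) (inC hS.card z) = 0 := by
      intro z hz
      have hz1 : (z : G) ≠ 1 := fun h => Finset.ne_of_mem_erase hz (Subtype.ext h)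
      have hord : orderOf (z : G) = p ^ 1 := by
        have h := Subgroup.orderOf_dvd_natCard P z.2
        rw [hS.card] at h
        rw [pow_one]
        exact ((Nat.dvd_prime hp.out).1 h).resolve_left fun h1 => hz1 (orderOf_eq_one_iff.1 h1)
      have hHu : ∀ h : C[P], Commute (z : G) (h : G) := fun h =>
        Subgroup.mem_centralizer_iff.1 h.2 z z.2
      have hCH : Subgroup.centralizer ({(z : G)} : Set G) ≤ C[P] := fun x hx =>
        Subgroup.mem_centralizer_iff.2 fun w hw => by
          rw [SetLike.mem_coe, ← zpowers_eq_of_mem hS.card z.2 hz1] at hw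
          obtain ⟨j, rfl⟩ := hw
          exact ((show Commute (z : G) x from
            Subgroup.mem_centralizer_iff.1 hx _ (Set.mem_singleton _)).zpow_left j).eq
      have h := blockPart_secFn_eq_zero hM ⟨1, hord⟩ hHu hCH hind hψB
        (y := (1 : C[P])) (by simp [IsPRegular, hp.out.ne_one])
      rw [blockPart, finsum_mem_eq_toFinset_sum] at h
      rw [← h]
      refine Finset.sum_congr rfl fun ξ hξ => ?_
      have hξ' := hξ1 ξ (Set.mem_toFinset.1 hξ)
      rw [hξ', mul_one]
      obtain ⟨l, hl⟩ := Char.exists_hom_of_degree_one ξ.2.isCharacter hξ'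
      have hnorm : (ξ : C[P] → ℂ) (inC hS.card z) * conj ((ξ : C[P] → ℂ) (inC hS.card z)) = 1 := by
        rw [Complex.mul_conj, Complex.normSq_eq_norm_sq, hl]
        rw [Complex.norm_eq_one_of_pow_eq_one (n := orderOf (inC hS.card z)) (by
          rw [← Units.val_pow_eq_pow_val, ← map_pow, pow_orderOf_eq_one, map_one, Units.val_one])
          (orderOf_pos _).ne']
        simp
      rw [← ha ξ]
      simp only [classInner, Finset.mul_sum, Finset.sum_mul]
      refine (Equiv.sum_comp (Equiv.mulLeft (inC hS.card z)) _).symm.trans ?_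
      refine Finset.sum_congr rfl fun k _ => ?_
      simp only [Equiv.coe_mulLeft, secFn, Subgroup.coe_mul, inC_coe]
      have hm : (ξ : C[P] → ℂ) (inC hS.card z * k) =
          (ξ : C[P] → ℂ) (inC hS.card z) * (ξ : C[P] → ℂ) k := by
        simp only [hl, map_mul, Units.val_mul]
      rw [hm, map_mul]
      linear_combination ((Nat.card C[P] : ℂ)⁻¹ * (ψ : G → ℂ) ((z : G) * k) *
        conj ((ξ : C[P] → ℂ) k)) * hnorm
    have hall : ∑ z : P, ∑ ξ ∈ b.toFinset, (a ξ : ℂ) * (ξ : C[P] → ℂ) (inC hS.card z) =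
        (p : ℂ) * a θ := by
      rw [Finset.sum_comm]
      simp only [← Finset.mul_sum]
      rw [Finset.sum_congr rfl fun ξ hξ => by
        rw [sum_P_root hS.card hM hB hD hind hθ (Set.mem_toFinset.1 hξ) hθP, hθ1, mul_one]]
      simp only [mul_ite, mul_zero, Finset.sum_ite_eq', Set.mem_toFinset, if_pos hθ]
      ring
    rw [← Finset.add_sum_erase _ _ (Finset.mem_univ (1 : P)), Finset.sum_eq_zero hzero, add_zero,
      inC_one, Finset.sum_congr rfl fun ξ hξ => by rw [hξ1 ξ (Set.mem_toFinset.1 hξ), mul_one]]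
      at hall
    have hz : (∑ ξ ∈ b.toFinset, (a ξ : ℤ)) = (p : ℤ) * a θ := by exact_mod_cast hall
    rw [hz, sub_self, zero_mul]
    exact hp2
  -- inside
  set N := Subgroup.normalizer (P : Set G) with hN
  set E := (C[P]).relIndex N with hEdef
  have hT : ∀ g : G, g ∈ N ↔ g ∈ N ∧ StabilizesBlock C[P] b g := fun g =>
    ⟨fun hg => ⟨hg, (stabilizes_iff_fix hM hB hD hS.card hind hθ hθP hg).2 fun _ _ _ => rfl⟩,
      And.left⟩
  obtain ⟨hsum, -⟩ := sum_P_block hS.card hM hB hD hind hθ hθP N hT a hψB ha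
  obtain ⟨k, hkd, hk, hc⟩ := root_coeff_cases hS.card hM hB hD hind hθ hθP N hT a hψB ha
  rw [Subgroup.relIndex_self, Nat.cast_one, one_mul, hθ1, one_mul] at hsum
  set s := ∑ ξ ∈ b.toFinset, a ξ with hs
  have hsz : (∑ ξ ∈ b.toFinset, (a ξ : ℤ)) = (s : ℤ) := by rw [hs, Nat.cast_sum]
  have hsc : (∑ ξ ∈ b.toFinset, (a ξ : ℂ)) = (s : ℂ) := by rw [hs, Nat.cast_sum]
  rw [hsz] at hc ⊢
  rw [hsc] at hsum
  rcases hc with hc | hc
  · have h0 : (p : ℤ) * a θ - s ≤ 0 := by omega
    exact (mul_nonpos_of_nonpos_of_nonneg h0 (by positivity)).trans hp2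
  have hF : (p : ℤ) * a θ - s = k := by omega
  rw [hF]
  have hkp : 1 ≤ k := Nat.pos_of_ne_zero fun h0 => by
    rw [h0, zero_dvd_iff] at hkd
    have := hp.out.two_le
    omega
  have hd0 : 0 < d := Nat.pos_of_ne_zero fun h => ψ.2.apply_one_ne_zero (by rw [hd, h]; simp)
  have ht0 : 1 ≤ t := Nat.one_le_iff_ne_zero.2 fun h => θ₀.2.apply_one_ne_zero (by rw [ht, h]; simp)
  -- the multiplicity of the trivial character
  obtain ⟨m, hm⟩ := (ψ.2.isCharacter.comp P.subtype).exists_nat_classInner
    (Char.isIrrCharacter_one (G := P)).isCharacter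
  have hm' : ∑ z : P, (ψ : G → ℂ) z = (p : ℂ) * m := by
    have h : classInner (fun z : P => (ψ : G → ℂ) z) (fun _ => 1) = (m : ℂ) := hm
    rw [Char.classInner_one_right, hS.card] at h
    rw [← h, ← mul_assoc, mul_inv_cancel₀ (Nat.cast_ne_zero.2 hp.out.ne_zero), one_mul]
  have hdm : (d : ℤ) + k = p * m := by
    rw [← Finset.add_sum_erase _ _ (Finset.mem_univ (1 : P)), hsum, OneMemClass.coe_one, hd] at hm'
    have h' : (d : ℤ) + -((s : ℤ) - p * a θ) = p * m := by exact_mod_cast hm'
    omega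
  -- many constituents
  have hp3 : E + 3 ≤ p := by
    have : E * 1 ≤ E * t := Nat.mul_le_mul_left _ ht0
    omega
  have hSum : p ≤ ∑ η, a η ^ 2 + E := by
    have hsS : s ≤ ∑ η, a η ^ 2 :=
      (Finset.sum_le_sum fun ξ _ => Nat.le_self_pow two_ne_zero (a ξ)).trans
        (Finset.sum_le_univ_sum_of_nonneg fun _ => Nat.zero_le _)
    have haθ : 1 ≤ a θ := Nat.one_le_iff_ne_zero.2 fun h0 => by
      rw [h0, Nat.cast_zero, mul_zero] at hF
      omega
    rcases Nat.lt_or_ge (a θ) 2 with h' | h'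
    · have h1 : a θ = 1 := by omega
      rw [h1, Nat.cast_one, mul_one] at hF
      rcases hk with hk | hk
      swap
      · omega
      have hs1 : s = 1 := by omega
      have hrest : ∀ ξ ∈ b, ξ ≠ θ → a ξ = 0 := by
        intro ξ hξ hne
        have h : a θ + a ξ ≤ s := by
          rw [hs, ← Finset.sum_pair (Ne.symm hne)]
          refine Finset.sum_le_sum_of_subset fun x hx => ?_
          rcases Finset.mem_insert.1 hx with hx | hx
          · rw [Set.mem_toFinset, hx]; exact hθ
          · rw [Set.mem_toFinset, Finset.mem_singleton.1 hx]; exact hξ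
        omega
      have hval : ∀ z : P, z ≠ 1 → (ψ : G → ℂ) z = 1 := by
        intro z hz
        have hz1 : (z : G) ≠ 1 := fun h => hz (Subtype.ext h)
        have hord : orderOf (z : G) = p := by
          have h := Subgroup.orderOf_dvd_natCard P z.2
          rw [hS.card] at h
          exact ((Nat.dvd_prime hp.out).1 h).resolve_left fun h1 => hz1 (orderOf_eq_one_iff.1 h1)
        have hk1 : ¬ IsPRegular p ((inC hS.card z : C[P]) : G) := fun h => h (by
          rw [inC_coe, hord])
        have hkP : pPt p ((inC hS.card z : C[P]) : G) ∈ P :=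
          (Subgroup.zpowers_le.2 z.2) (pPt_mem_zpowers _)
        have h := apply_section_single hM hB hD hS.card hind hθ huniq hψB (d := -1)
          (fun ξ hξ hne => by rw [ha, ha, hrest ξ hξ hne, h1]; simp)
          (inC hS.card z) hkP hk1
        rw [inC_coe, hθ1] at h
        rw [h]
        norm_num
      rcases Nat.lt_or_ge d 2 with hd1 | hd1
      · exfalso
        have hd1' : d = 1 := by omega
        have hP1 : ∀ z : P, (ψ : G → ℂ) z = (ψ : G → ℂ) 1 := by
          intro z
          rcases eq_or_ne z 1 with rfl | hz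
          · simp
          · rw [hval z hz, hd, hd1', Nat.cast_one]
        refine hψ1 (Subtype.ext (funext fun g => ?_))
        rw [hS.const_of_ker ψ.2.isCharacter hP1 g, hd, hd1', Nat.cast_one, trivChar_coe]
      · exact le_add_right (hS.many_constituents ψ.2.isCharacter hd hd1 hval a ha)
    · have hp2' : (p : ℤ) * 2 ≤ (p : ℤ) * a θ :=
        mul_le_mul_of_nonneg_left (by exact_mod_cast h') (by positivity)
      rcases hk with hk | hk <;> omega
  -- the degree is large
  have hbig : p * (t - 1) + 2 ≤ d := by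
    by_contra hlt
    push Not at hlt
    have hTI := hS.ti_bound hψZ hd a ha
    rw [← hN, ← hEdef] at hTI
    have hcc := card_center_mul_sq_le θ₀ ht
    have hcc' := hS.card_center_centralizer
    have hZ : 0 < Nat.card (Subgroup.center G) := Nat.card_pos
    have h3 : p * Nat.card (Subgroup.center G) * t ^ 2 ≤ Nat.card C[P] :=
      le_trans (Nat.mul_le_mul_right _ hcc') hcc
    have h4 : Nat.card C[P] * p ≤ Nat.card C[P] * ∑ η, a η ^ 2 + Nat.card C[P] * E := by
      rw [← mul_add]; exact Nat.mul_le_mul_left _ hSum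
    have h2E : 2 * E + 3 ≤ p := by
      have : E * 1 ≤ E * t := Nat.mul_le_mul_left _ ht0
      omega
    obtain ⟨q, hq⟩ : ∃ q, p = 2 * E + q := ⟨p - 2 * E, by omega⟩
    have h5 : p * t ^ 2 * q * Nat.card (Subgroup.center G) <
        d ^ 2 * Nat.card (Subgroup.center G) := by
      have h6 : Nat.card C[P] * q < Nat.card (Subgroup.center G) * d ^ 2 := by
        have e : Nat.card C[P] * p = 2 * (E * Nat.card C[P]) + Nat.card C[P] * q := by rw [hq]; ring
        rw [mul_comm (Nat.card C[P]) E] at h4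
        omega
      have h7 := Nat.mul_le_mul_right q h3
      calc p * t ^ 2 * q * Nat.card (Subgroup.center G)
          = p * Nat.card (Subgroup.center G) * t ^ 2 * q := by ring
        _ < Nat.card (Subgroup.center G) * d ^ 2 := h7.trans_lt h6
        _ = _ := mul_comm _ _
    have h8 : p * t ^ 2 * q < d ^ 2 := Nat.lt_of_mul_lt_mul_right h5
    obtain ⟨B, hB'⟩ : ∃ B, t = B + 1 := ⟨t - 1, by omega⟩
    subst hB'
    have hle : d ≤ p * B + 1 := by simp only [Nat.add_sub_cancel] at hlt; omega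
    have h9 : d ^ 2 ≤ (p * B + 1) ^ 2 := Nat.pow_le_pow_left hle 2
    have h10 : (p * (B + 1) ^ 2 * q : ℤ) < (p * B + 1) ^ 2 := by exact_mod_cast h8.trans_le h9
    exact absurd (ti_arith (p : ℤ) E q B (Nat.cast_nonneg _) (Nat.cast_nonneg _)
      (by exact_mod_cast hq) (by exact_mod_cast hsmall)) (not_le.2 h10)
  obtain ⟨B, hB'⟩ : ∃ B, t = B + 1 := ⟨t - 1, by omega⟩
  subst hB'
  simp only [Nat.add_sub_cancel] at hbig
  have hmB : B + 1 ≤ m := by
    by_contra hc'
    push Not at hc'
    have h : (p : ℤ) * m ≤ p * B :=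
      mul_le_mul_of_nonneg_left (by exact_mod_cast Nat.lt_succ_iff.1 hc') (by positivity)
    have hbig' : (p : ℤ) * B + 2 ≤ d := by exact_mod_cast hbig
    omega
  have hsmall' : (2 * (E * (B + 1)) + 3 : ℤ) ≤ p := by exact_mod_cast hsmall
  push_cast
  rcases hk with hk | hk
  · have hk' : (k : ℤ) = p - 1 := by
      have := hp.out.two_le
      omega
    have hm1 : B + 2 ≤ m := by
      by_contra hc'
      push Not at hc'
      have : m = B + 1 := by omega
      subst this
      push_cast at hdm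
      have hbig' : (p : ℤ) * B + 2 ≤ d := by exact_mod_cast hbig
      rw [mul_add, mul_one] at hdm
      omega
    have h : (p : ℤ) * (B + 2) ≤ p * m :=
      mul_le_mul_of_nonneg_left (by exact_mod_cast hm1) (by positivity)
    rw [hk']
    exact mul_le_mul_of_nonneg_left (by nlinarith) (by omega)
  · rw [← hEdef] at hk
    subst hk
    have h : (p : ℤ) * (B + 1) ≤ p * m :=
      mul_le_mul_of_nonneg_left (by exact_mod_cast hmB) (by positivity)
    have hdlow : (p : ℤ) * (B + 1) - E ≤ d := by omega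
    have h2 : ((p : ℤ) - 1) * (p * (B + 1) - E) ≤ ((p : ℤ) - 1) * d :=
      mul_le_mul_of_nonneg_left hdlow (by omega)
    nlinarith [mul_nonneg (Nat.cast_nonneg (α := ℤ) p) (Nat.cast_nonneg (α := ℤ) B),
      mul_nonneg (mul_nonneg (Nat.cast_nonneg (α := ℤ) p) (Nat.cast_nonneg (α := ℤ) E))
        (Nat.cast_nonneg (α := ℤ) B),
      mul_nonneg (Nat.cast_nonneg (α := ℤ) p) (sub_nonneg.2 hsmall')]

open Classical in
/-- There is no nonlinear irreducible character of degree less than `(p - 1) / 2`. -/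
theorem SmallDegSetting.not_small (φ : IrrCharacter G) {n : ℕ}
    (hn : charDegree (φ : G → ℂ) = n) (h2 : 2 ≤ n) : p ≤ 2 * n + 1 := by
  by_contra hcon
  push Not at hcon
  obtain ⟨θ₀, t, a, ht, hnE, hE, ha, hasum⟩ := hS.no_fixed hn h2 hcon
  obtain ⟨M, hM⟩ := exists_isPModular hp.out
  set E := (C[P]).relIndex (Subgroup.normalizer (P : Set G)) with hEdef
  have hp3 : 2 * n + 3 ≤ p := by
    rcases hp.out.eq_two_or_odd' with h | ⟨j, hj⟩
    · omega
    · omega
  have hPp := hS.isPGroup
  obtain ⟨hind, -⟩ := principal_root hM hPp (le_centralizer_self hS.card)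
  obtain ⟨S, hSP⟩ := hS.exists_sylow
  have hD : IsDefectGroup p M (principalBlock M G) P := hSP ▸ isDefectGroup_principal_sylow hM S
  have hB : IsPBlock M (principalBlock M G) := isPBlock_principal (M := M) (G := G)
  set b := principalBlock M C[P] with hb
  set θ := trivChar C[P] with hθdef
  have hθ : θ ∈ b := trivChar_mem_principal hM
  have hθP : ∀ z : C[P], (z : G) ∈ P → (θ : C[P] → ℂ) z = (θ : C[P] → ℂ) 1 := fun _ _ => rfl
  have hlin : ∀ ξ ∈ b, ∃ l : C[P] →* ℂˣ, (ξ : C[P] → ℂ) = fun g => (l g : ℂ) := fun ξ hξ =>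
    Char.exists_hom_of_degree_one ξ.2.isCharacter
      ((root_apply_one hM hB hD hS.card hind hξ hθ).trans rfl)
  have hφ1 : (φ : G → ℂ) 1 = (n : ℂ) := by rw [apply_one_eq_charDegree, hn]
  set f : G → ℂ := fun g => (φ : G → ℂ) g * conj ((φ : G → ℂ) g) with hf
  have hfc : IsCharacter G f := φ.2.isCharacter.mul φ.2.isCharacter.conjFn
  choose c hc using fun ψ : IrrCharacter G => hfc.exists_nat_classInner ψ.2.isCharacter
  choose A hA using fun (ψ : IrrCharacter G) (η : IrrCharacter C[P]) =>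
    (ψ.2.isCharacter.comp (C[P]).subtype).exists_nat_classInner η.2.isCharacter
  choose d hd0 hd using fun ψ : IrrCharacter G => ψ.2.exists_degree
  -- constituents are trivial on the center
  have hZ : ∀ ψ : IrrCharacter G, c ψ ≠ 0 → ∀ z ∈ Subgroup.center G, ∀ g,
      (ψ : G → ℂ) (z * g) = (ψ : G → ℂ) g := by
    intro ψ hψ z hz g
    obtain ⟨e, -, heg⟩ := exists_central_scalar ψ hz
    obtain ⟨e', he1, heg'⟩ := exists_central_scalar φ hz
    have hfz : ∀ g, f (z * g) = f g := fun g => by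
      simp only [hf, heg', map_mul]
      have : e' * conj e' = 1 := by
        rw [Complex.mul_conj, Complex.normSq_eq_norm_sq,
          Complex.norm_eq_one_of_pow_eq_one he1 (orderOf_pos z).ne']
        simp
      linear_combination ((φ : G → ℂ) g * conj ((φ : G → ℂ) g)) * this
    have h1 : (c ψ : ℂ) = conj e * c ψ := by
      rw [← hc ψ]
      simp only [classInner, Finset.mul_sum]
      conv_lhs => rw [← Equiv.sum_comp (Equiv.mulLeft z)]
      refine Finset.sum_congr rfl fun g _ => ?_
      rw [Equiv.coe_mulLeft, hfz, heg, map_mul]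
      ring
    have h2' : conj e = 1 := (mul_eq_right₀ (Nat.cast_ne_zero.2 hψ)).1 h1.symm
    rw [heg g, ← Complex.conj_conj e, h2', map_one, one_mul]
  -- the expansion
  have hfexp : ∀ g, f g = ∑ ψ : IrrCharacter G, (c ψ : ℂ) * (ψ : G → ℂ) g := by
    intro g
    have h := congrFun (Char.eq_sum_classInner hfc.isClassFunction) g
    simp only [Finset.sum_apply, Pi.smul_apply, smul_eq_mul, hc] at h
    exact h
  have hdeg : n * n = ∑ ψ, c ψ * d ψ := by
    have h := hfexp 1
    simp only [hf] at h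
    rw [hφ1] at h
    simp only [hd, Complex.conj_natCast] at h
    exact_mod_cast h
  have hres : ∀ η : IrrCharacter C[P],
      classInner (fun k : C[P] => f k) (η : C[P] → ℂ) = ((∑ ψ, c ψ * A ψ η : ℕ) : ℂ) := by
    intro η
    rw [show (fun k : C[P] => f k) = ∑ ψ : IrrCharacter G, (c ψ : ℂ) •
      (fun k : C[P] => (ψ : G → ℂ) k) from funext fun k => by
        simp [hfexp, Finset.sum_apply], Char.classInner_sum_left]
    push_cast
    refine Finset.sum_congr rfl fun ψ _ => ?_
    rw [Char.classInner_smul_left]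
    exact congrArg _ (hA ψ η)
  -- the norm of the restriction
  have hnorm : (∑ η, a η ^ 2 : ℕ) = ∑ ψ, c ψ * A ψ θ := by
    have h1 := Char.classInner_eq_sum (f' := fun k : C[P] => (φ : G → ℂ) k)
      (φ.2.isCharacter.comp (C[P]).subtype).isClassFunction
    simp only [Subgroup.coe_subtype, ha, Complex.conj_natCast] at h1
    have h2' := hres θ
    have h3 : classInner (fun k : C[P] => f k) (θ : C[P] → ℂ) =
        classInner (fun k : C[P] => (φ : G → ℂ) k) (fun k : C[P] => (φ : G → ℂ) k) := by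
      simp only [classInner, hf, hθdef, trivChar_coe, map_one, mul_one]
    rw [h3, h1] at h2'
    have h4 : ((∑ η, a η ^ 2 : ℕ) : ℂ) = ((∑ ψ, c ψ * A ψ θ : ℕ) : ℂ) := by
      rw [← h2', Nat.cast_sum]
      exact Finset.sum_congr rfl fun η _ => by push_cast; ring
    exact_mod_cast h4
  -- the sum over the block
  have hblock : ∑ ξ ∈ b.toFinset, (∑ ψ, c ψ * A ψ ξ) ≤ E * E := by
    have hmem : ∀ ξ ∈ b.toFinset, ∀ η : IrrCharacter C[P],
        IsIrrCharacter C[P] (fun k => (ξ : C[P] → ℂ) k * (η : C[P] → ℂ) k) := by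
      intro ξ hξ η
      refine Char.isIrrCharacter_of_norm_one (ξ.2.isCharacter.mul η.2.isCharacter) ?_
      rw [← Char.classInner_irr_self η.2]
      simp only [classInner]
      congr 1
      refine Finset.sum_congr rfl fun k _ => ?_
      obtain ⟨l, hl⟩ := hlin ξ (Set.mem_toFinset.1 hξ)
      have : (l k : ℂ) * conj (l k : ℂ) = 1 := by
        rw [Complex.mul_conj, Complex.normSq_eq_norm_sq,
          Complex.norm_eq_one_of_pow_eq_one (n := orderOf k) (by
            rw [← Units.val_pow_eq_pow_val, ← map_pow, pow_orderOf_eq_one, map_one, Units.val_one])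
            (orderOf_pos k).ne']
        simp
      rw [map_mul, hl]
      linear_combination ((η : C[P] → ℂ) k * conj ((η : C[P] → ℂ) k)) * this
    have hinj : ∀ η : IrrCharacter C[P], ∀ ξ ∈ b.toFinset, ∀ ξ' ∈ b.toFinset,
        (fun k => (ξ : C[P] → ℂ) k * (η : C[P] → ℂ) k) =
          (fun k => (ξ' : C[P] → ℂ) k * (η : C[P] → ℂ) k) → ξ = ξ' := by
      intro η ξ hξ ξ' hξ' h
      obtain ⟨l, hl⟩ := hlin ξ (Set.mem_toFinset.1 hξ)
      obtain ⟨l', hl'⟩ := hlin ξ' (Set.mem_toFinset.1 hξ')
      have hP : ∀ z : P, (ξ : C[P] → ℂ) (inC hS.card z) = (ξ' : C[P] → ℂ) (inC hS.card z) := by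
        intro z
        refine mul_right_cancel₀ ?_ (congrFun h (inC hS.card z))
        obtain ⟨e, he1, he2⟩ := exists_central_scalar η (inC_mem_center hS.card z)
        have h1 := he2 1
        rw [mul_one] at h1
        rw [h1]
        refine mul_ne_zero (fun h0 => ?_) η.2.apply_one_ne_zero
        rw [h0, zero_pow (orderOf_pos _).ne'] at he1
        exact zero_ne_one he1
      refine Subtype.ext (funext fun k => ?_)
      by_cases hk : pPt p (k : G) ∈ P
      · have hr := root_reg hM hB hD hS.card hind (Set.mem_toFinset.1 hξ) (Set.mem_toFinset.1 hξ')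
          (not_dvd_orderOf_pReg (p := p) k)
        have hz := hP ⟨pPt p (k : G), hk⟩
        have he : inC hS.card ⟨pPt p (k : G), hk⟩ = pPt p k :=
          Subtype.ext (coe_pPt k).symm
        rw [he] at hz
        rw [hl, hl'] at hr hz ⊢
        simp only at hr hz ⊢
        rw [← pPt_mul_pReg (p := p) k, map_mul, map_mul, Units.val_mul, Units.val_mul, hz, hr]
      · have h1 : (ξ : C[P] → ℂ) k = 0 :=
          not_not.1 fun h0 => hk (root_pPt_mem hM hB hD hS.card hind (Set.mem_toFinset.1 hξ) h0)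
        have h2' : (ξ' : C[P] → ℂ) k = 0 :=
          not_not.1 fun h0 => hk (root_pPt_mem hM hB hD hS.card hind (Set.mem_toFinset.1 hξ') h0)
        rw [h1, h2']
    let tw : IrrCharacter C[P] → IrrCharacter C[P] → IrrCharacter C[P] := fun η ξ =>
      if h : ξ ∈ b.toFinset then ⟨_, hmem ξ h η⟩ else ξ
    have key : ∀ ξ ∈ b.toFinset,
        (∑ ψ, c ψ * A ψ ξ) = ∑ η, a η * a (tw η ξ) := by
      intro ξ hξ
      have h4 : ((∑ ψ, c ψ * A ψ ξ : ℕ) : ℂ) = ((∑ η, a η * a (tw η ξ) : ℕ) : ℂ) := by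
        rw [← hres ξ]
        have hexp : (fun k : C[P] => (φ : G → ℂ) k) =
            ∑ η : IrrCharacter C[P], (a η : ℂ) • (η : C[P] → ℂ) := by
          have h := Char.eq_sum_classInner (f := fun k : C[P] => (φ : G → ℂ) k)
            (φ.2.isCharacter.comp (C[P]).subtype).isClassFunction
          simp only [ha] at h
          exact h
        have h3 : classInner (fun k : C[P] => f k) (ξ : C[P] → ℂ) =
            classInner (fun k : C[P] => (φ : G → ℂ) k)
              (∑ η : IrrCharacter C[P], (a η : ℂ) • (tw η ξ : C[P] → ℂ)) := by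
          simp only [classInner, hf]
          congr 1
          refine Finset.sum_congr rfl fun k _ => ?_
          have hk := congrFun hexp k
          simp only [Finset.sum_apply, Pi.smul_apply, smul_eq_mul] at hk ⊢
          rw [mul_assoc]
          congr 1
          rw [hk, ← map_mul, Finset.sum_mul]
          congr 1
          refine Finset.sum_congr rfl fun η _ => ?_
          simp only [tw, dif_pos hξ]
          ring
        rw [h3, Char.classInner_sum_right, Nat.cast_sum]
        refine Finset.sum_congr rfl fun η _ => ?_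
        rw [Char.classInner_smul_right, ha, Complex.conj_natCast, Nat.cast_mul]
      exact_mod_cast h4
    rw [Finset.sum_congr rfl key, Finset.sum_comm]
    calc ∑ η, ∑ ξ ∈ b.toFinset, a η * a (tw η ξ) = ∑ η, a η * ∑ ξ ∈ b.toFinset, a (tw η ξ) := by
          simp only [Finset.mul_sum]
      _ ≤ ∑ η, a η * E := Finset.sum_le_sum fun η _ => Nat.mul_le_mul_left _ (by
          rw [← hasum, ← Finset.sum_image (f := a) (g := fun ξ => tw η ξ) (s := b.toFinset)
            fun ξ hξ ξ' hξ' h => hinj η ξ hξ ξ' hξ' (by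
              simp only [tw, dif_pos (Finset.mem_coe.1 hξ), dif_pos (Finset.mem_coe.1 hξ')] at h
              exact congrArg Subtype.val h)]
          exact Finset.sum_le_univ_sum_of_nonneg fun _ => Nat.zero_le _)
      _ = E * E := by rw [← Finset.sum_mul, hasum]
  -- each constituent
  let F : IrrCharacter G → ℤ := fun ψ =>
    (p : ℤ) * A ψ θ - ∑ ξ ∈ b.toFinset, (A ψ ξ : ℤ)
  have hlow : (p : ℤ) * E - E * E ≤ ∑ ψ, (c ψ : ℤ) * F ψ := by
    have e1 : ∑ ψ, (c ψ : ℤ) * F ψ = (p : ℤ) * ((∑ ψ, c ψ * A ψ θ : ℕ) : ℤ) -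
        ((∑ ξ ∈ b.toFinset, ∑ ψ, c ψ * A ψ ξ : ℕ) : ℤ) := by
      push_cast
      rw [Finset.sum_comm (s := b.toFinset), Finset.mul_sum, ← Finset.sum_sub_distrib]
      refine Finset.sum_congr rfl fun ψ _ => ?_
      rw [← Finset.mul_sum]
      simp only [F]
      ring
    rw [e1, ← hnorm]
    have hE2 : E ≤ ∑ η, a η ^ 2 :=
      hasum ▸ Finset.sum_le_sum fun η _ => Nat.le_self_pow two_ne_zero (a η)
    have h1 : (p : ℤ) * E ≤ p * ((∑ η, a η ^ 2 : ℕ) : ℤ) :=
      mul_le_mul_of_nonneg_left (by exact_mod_cast hE2) (by positivity)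
    have h2' : ((∑ ξ ∈ b.toFinset, ∑ ψ, c ψ * A ψ ξ : ℕ) : ℤ) ≤ (E : ℤ) * E := by
      exact_mod_cast hblock
    linarith
  -- the trivial character
  have hc1 : c (trivChar G) = 1 := by
    have h : (c (trivChar G) : ℂ) = 1 := by
      rw [← hc, ← Char.classInner_irr_self φ.2]
      simp only [classInner, hf, trivChar_coe, map_one, mul_one]
    exact_mod_cast h
  have hA1 : ∀ η : IrrCharacter C[P], A (trivChar G) η = if η = θ then 1 else 0 := by
    intro η
    have h : (A (trivChar G) η : ℂ) = classInner (θ : C[P] → ℂ) (η : C[P] → ℂ) := (hA _ η).symm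
    split_ifs with he
    · subst he
      rw [Char.classInner_irr_self θ.2] at h
      exact_mod_cast h
    · rw [Char.classInner_irr_ne θ.2 η.2 fun h' => he (Subtype.ext h'.symm)] at h
      exact_mod_cast h
  have hd1 : d (trivChar G) = 1 := by
    have h := hd (trivChar G)
    simp only [trivChar_coe] at h
    exact_mod_cast h.symm
  have hF1 : F (trivChar G) = (p : ℤ) - 1 := by
    simp only [F, hA1]
    simp [hθ]
  have hup : (∑ ψ, (c ψ : ℤ) * F ψ - ((p : ℤ) - 1)) * ((p : ℤ) * t + 1) ≤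
      ((p : ℤ) - 1) * ((n : ℤ) * n - 1) := by
    rw [show ((n : ℤ) * n) = ((n * n : ℕ) : ℤ) by push_cast; ring, hdeg,
      ← Finset.add_sum_erase _ _ (Finset.mem_univ (trivChar G)), hc1, hF1, Nat.cast_one, one_mul,
      add_sub_cancel_left, ← Finset.add_sum_erase _ _ (Finset.mem_univ (trivChar G)), hc1, hd1,
      mul_one, Nat.cast_add, Nat.cast_one, add_sub_cancel_left, Nat.cast_sum, Finset.sum_mul,
      Finset.mul_sum]
    refine Finset.sum_le_sum fun ψ hψ => ?_
    rcases eq_or_ne (c ψ) 0 with h0 | h0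
    · simp [h0]
    have h := hS.contribution_bound hM ht hE (by rw [← hEdef, ← hnE]; exact hp3)
      (Finset.ne_of_mem_erase hψ) (hZ ψ h0) (hd ψ) (A ψ) (hA ψ)
    have h' := mul_le_mul_of_nonneg_left h (Nat.cast_nonneg (α := ℤ) (c ψ))
    simp only [F]
    rw [Nat.cast_mul, mul_assoc, mul_left_comm ((p : ℤ) - 1)]
    exact h'
  -- the arithmetic
  have hpt : (0 : ℤ) ≤ (p : ℤ) * t + 1 := by positivity
  have hmain : ((p : ℤ) * E - E * E - ((p : ℤ) - 1)) * ((p : ℤ) * t + 1) ≤
      ((p : ℤ) - 1) * ((n : ℤ) * n - 1) :=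
    (mul_le_mul_of_nonneg_right (by linarith) hpt).trans hup
  have hp3' : 2 * ((E : ℤ) * t) + 3 ≤ p := by rw [hnE] at hp3; exact_mod_cast hp3
  have hnn : (n : ℤ) = E * t := by exact_mod_cast hnE
  rw [hnn] at hmain
  have ht0 : (1 : ℤ) ≤ t := by
    exact_mod_cast Nat.one_le_iff_ne_zero.2 fun h : t = 0 => by rw [h, mul_zero] at hnE; omega
  exact small_degree_arith (p : ℤ) E t (by exact_mod_cast hE) ht0 hp3' hmain

end Cfsg.Lib.Block
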