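import Cfsg.Agent.Lib.Char.Constituents
import Mathlib.RingTheory.Valuation.LocalSubring
import Mathlib.RingTheory.Nakayama
import Mathlib.GroupTheory.PGroup
import Mathlib.GroupTheory.Sylow
import Mathlib.RingTheory.Valuation.ValuationSubring

/-!
# Fixed vectors of small representations under a subgroup containing a TI Sylow normalizer

If a Sylow `p`-subgroup `P` is a TI set and `H` contains its normalizer, a representation
without fixed vectors of dimension less than `#P` has no nonzero vector fixed by `H`.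
-/

set_option autoImplicit false
set_option linter.unusedSectionVars false
set_option linter.style.haveILetI false

namespace Cfsg.Lib.Block

open Cfsg
open scoped Pointwise

universe u

/-- A valuation ring of the complex numbers in which `p` is not a unit. -/
theorem exists_valuationSubring_natCast (p : ℕ) [hp : Fact p.Prime] :
    ∃ V : ValuationSubring ℂ, ((p : ℂ)) ∈ V.nonunits := by
  let A : Subring ℂ := (Int.castRingHom ℂ).range
  have hI : Ideal.span {(p : A)} ≠ ⊤ := by
    rw [Ne, Ideal.eq_top_iff_one, Ideal.mem_span_singleton']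
    rintro ⟨⟨a, z, hz⟩, ha⟩
    have h1 := congrArg Subtype.val ha
    simp only [Subring.coe_mul, SubringClass.coe_natCast, Subring.coe_one] at h1
    rw [← hz] at h1
    have h2 : z * (p : ℤ) = 1 := by
      have h3 : ((z * (p : ℤ) : ℤ) : ℂ) = ((1 : ℤ) : ℂ) := by
        push_cast
        simpa using h1
      exact_mod_cast h3
    have h4 : (p : ℤ) ∣ 1 := Dvd.intro_left z h2
    exact hp.out.not_dvd_one (Int.natCast_dvd_natCast.mp (by simpa using h4))
  obtain ⟨V, -, hV⟩ := Ideal.image_subset_nonunits_valuationSubring _ hI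
  exact ⟨V, hV ⟨(p : A), Ideal.mem_span_singleton_self _, by simp⟩⟩

/-- A nonzero vector over a residue field has, in its span of translates, a nonzero constant. -/
theorem exists_const_in_translates {p : ℕ} [hp : Fact p.Prime] {P : Type*} [Group P] [Fintype P]
    (hP : IsPGroup p P) {k : Type*} [CommRing k] [CharP k p] (S : AddSubgroup (P → k))
    (hS : ∀ a ∈ S, ∀ y : P, (fun x => a (y⁻¹ * x)) ∈ S) {a : P → k} (ha : a ∈ S) (ha0 : a ≠ 0) :
    ∃ c : k, c ≠ 0 ∧ (fun _ => c) ∈ S := by
  classical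
  let φ : (P → ZMod p) →+ (P → k) :=
    { toFun := fun b x => ∑ y, ZMod.castHom (dvd_refl p) k (b y) * a (y⁻¹ * x)
      map_zero' := by funext x; simp only [Pi.zero_apply, map_zero, zero_mul, Finset.sum_const_zero]
      map_add' := fun b b' => by
        funext x
        simp only [Pi.add_apply, map_add, add_mul, Finset.sum_add_distrib] }
  have hφS : ∀ b, φ b ∈ S := by
    intro b
    have : φ b = ∑ y, (b y).val • (fun x => a (y⁻¹ * x)) := by
      funext x
      show ∑ y, _ = _
      rw [Finset.sum_apply]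
      refine Finset.sum_congr rfl fun y _ => ?_
      rw [Pi.smul_apply, nsmul_eq_mul]
      congr 1
      rw [← map_natCast (ZMod.castHom (dvd_refl p) k), ZMod.natCast_zmod_val]
    rw [this]
    exact sum_mem fun y _ => nsmul_mem (hS a ha y) _
  have ha' : φ (Pi.single 1 1) = a := by
    funext x
    show ∑ y, _ = _
    rw [Finset.sum_eq_single 1 (fun y _ hy => by
      rw [Pi.single_eq_of_ne hy, map_zero, zero_mul]) (fun h => absurd (Finset.mem_univ _) h),
      Pi.single_eq_same, map_one, one_mul, inv_one, one_mul]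
  let T := φ.range
  letI : MulAction P T :=
    { smul := fun z t => ⟨fun x => t.1 (z⁻¹ * x), by
        obtain ⟨b, hb⟩ := t.2
        refine ⟨fun y => b (z⁻¹ * y), ?_⟩
        funext x
        rw [← hb]
        show ∑ y, _ = ∑ y, _
        refine Fintype.sum_equiv (Equiv.mulLeft z⁻¹) _ _ fun y => ?_
        simp only [Equiv.coe_mulLeft]
        congr 2
        group⟩
      one_smul := fun t => Subtype.ext (funext fun x => by
        show t.1 ((1 : P)⁻¹ * x) = t.1 x
        rw [inv_one, one_mul])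
      mul_smul := fun z w t => Subtype.ext (funext fun x => by
        show t.1 ((z * w)⁻¹ * x) = t.1 (w⁻¹ * (z⁻¹ * x))
        rw [mul_inv_rev, mul_assoc]) }
  haveI : Finite T := Finite.of_surjective φ.rangeRestrict φ.rangeRestrict_surjective
  have hdvd : p ∣ Nat.card T := by
    have h1 : Nat.card T ∣ p ^ Fintype.card P := by
      have := AddSubgroup.card_range_dvd φ
      rwa [Nat.card_fun, Nat.card_zmod, Nat.card_eq_fintype_card (α := P)] at this
    obtain ⟨i, -, hi⟩ := (Nat.dvd_prime_pow hp.out).mp h1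
    rw [hi]
    refine dvd_pow_self p fun h0 => ha0 ?_
    rw [h0, pow_zero] at hi
    have hs := (Nat.card_eq_one_iff_unique.mp hi).1
    exact congrArg Subtype.val (hs.elim (⟨a, ⟨_, ha'⟩⟩ : T) 0)
  obtain ⟨t, ht, ht0⟩ := hP.exists_fixed_point_of_prime_dvd_card_of_fixed_point T hdvd
    (a := (0 : T)) (fun z => Subtype.ext (funext fun x => rfl))
  have hconst : ∀ x : P, t.1 x = t.1 1 := fun x => by
    have := congrFun (congrArg Subtype.val (ht x)) x
    rw [← this]
    show t.1 (x⁻¹ * x) = t.1 1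
    rw [inv_mul_cancel]
  obtain ⟨b, hb⟩ := t.2
  refine ⟨t.1 1, fun h => ht0 (Subtype.ext (funext fun x => ?_)), ?_⟩
  · rw [hconst x, h]; rfl
  · have : (fun _ : P => t.1 1) = φ b := by rw [hb]; exact funext fun x => (hconst x).symm
    rw [this]
    exact hφS b

variable {p : ℕ} [hp : Fact p.Prime] {G : Type u} [Group G] [Fintype G]

/-- The sum over a `p`-subgroup of order above the dimension lands in the radical of a lattice. -/
theorem sum_smul_mem_of_finrank_lt {W : Type*} [AddCommGroup W] [Module ℂ W]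
    [FiniteDimensional ℂ W] (V : ValuationSubring ℂ) (hV : (p : ℂ) ∈ V.nonunits)
    (ρ : Representation ℂ G W) (P : Subgroup G) (hP : IsPGroup p P)
    (hlt : Module.finrank ℂ W < Nat.card P) (L : Submodule V W)
    (hL : ∀ g : G, ∀ w ∈ L, ρ g w ∈ L) [Fintype P] {w : W} (hw : w ∈ L) :
    ∑ x : P, ρ (x : G) w ∈ IsLocalRing.maximalIdeal V • L := by
  classical
  set m := IsLocalRing.maximalIdeal V with hm
  by_contra hN
  haveI : CharP (V ⧸ m) p := by
    have hpm : (p : V) ∈ m := by
      rw [hm, ← ValuationSubring.coe_mem_nonunits_iff]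
      simpa using hV
    haveI : m.IsMaximal := IsLocalRing.maximalIdeal.isMaximal V
    refine (CharP.charP_iff_prime_eq_zero hp.out).mpr ?_
    rw [← map_natCast (Ideal.Quotient.mk m), Ideal.Quotient.eq_zero_iff_mem]
    exact hpm
  have hmL : ∀ (g : G), ∀ u ∈ m • L, ρ g u ∈ m • L := by
    intro g u hu
    refine Submodule.smul_induction_on hu (fun r hr v hv => ?_) (fun a b ha hb => ?_)
    · rw [show ρ g (r • v) = r • ρ g v from (ρ g).map_smul (r : ℂ) v]
      exact Submodule.smul_mem_smul hr (hL g v hv)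
    · rw [map_add]; exact add_mem ha hb
  -- relations modulo the radical
  let S : AddSubgroup (P → V ⧸ m) :=
    { carrier := {a | ∃ b : P → V, (∀ x, Ideal.Quotient.mk m (b x) = a x) ∧
        ∑ x : P, b x • ρ (x : G) w ∈ m • L}
      zero_mem' := ⟨0, fun x => by simp, by simp⟩
      add_mem' := by
        rintro a a' ⟨b, hb, hb'⟩ ⟨c, hc, hc'⟩
        refine ⟨b + c, fun x => by simp [hb, hc], ?_⟩
        simp only [Pi.add_apply, add_smul, Finset.sum_add_distrib]
        exact add_mem hb' hc'
      neg_mem' := by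
        rintro a ⟨b, hb, hb'⟩
        refine ⟨-b, fun x => by simp [hb], ?_⟩
        simp only [Pi.neg_apply, neg_smul, Finset.sum_neg_distrib]
        exact neg_mem hb' }
  have hS : ∀ a ∈ S, ∀ y : P, (fun x => a (y⁻¹ * x)) ∈ S := by
    rintro a ⟨b, hb, hb'⟩ y
    refine ⟨fun x => b (y⁻¹ * x), fun x => hb _, ?_⟩
    have he : ∑ x : P, b (y⁻¹ * x) • ρ (x : G) w = ρ (y : G) (∑ x : P, b x • ρ (x : G) w) := by
      rw [map_sum]
      refine Fintype.sum_equiv (Equiv.mulLeft y⁻¹) _ _ fun x => ?_
      rw [show ∀ (r : V) (u : W), ρ (y : G) (r • u) = r • ρ (y : G) u from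
        fun r u => (ρ (y : G)).map_smul (r : ℂ) u]
      simp only [Equiv.coe_mulLeft]
      congr 1
      rw [← Module.End.mul_apply, ← map_mul]
      simp
    rw [he]
    exact hmL _ _ hb'
  have hkey : ∀ a ∈ S, a = 0 := by
    intro a ha
    by_contra ha0
    obtain ⟨c, hc0, b, hb, hb'⟩ := exists_const_in_translates hP S hS ha ha0
    haveI : m.IsMaximal := IsLocalRing.maximalIdeal.isMaximal V
    obtain ⟨c₀, rfl⟩ := Ideal.Quotient.mk_surjective c
    have hu : IsUnit c₀ := by
      by_contra h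
      exact hc0 (Ideal.Quotient.eq_zero_iff_mem.mpr h)
    obtain ⟨c₁, rfl⟩ := hu
    apply hN
    have h1 : ∑ x : P, (c₁ : V) • ρ (x : G) w ∈ m • L := by
      have h2 : ∑ x : P, ((c₁ : V) - b x) • ρ (x : G) w ∈ m • L :=
        sum_mem fun x _ => Submodule.smul_mem_smul (Ideal.Quotient.eq.mp (hb x).symm) (hL _ _ hw)
      have h3 := add_mem h2 hb'
      rw [← Finset.sum_add_distrib] at h3
      simpa [← add_smul] using h3
    rw [← Finset.smul_sum] at h1
    have h4 := Submodule.smul_mem _ (c₁⁻¹ : Vˣ).1 h1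
    rwa [smul_smul, ← Units.val_mul, inv_mul_cancel, Units.val_one, one_smul] at h4
  -- the translates are linearly independent
  have hli : LinearIndependent ℂ fun x : P => ρ (x : G) w := by
    rw [Fintype.linearIndependent_iff]
    intro c hc
    by_contra hne
    push Not at hne
    obtain ⟨x₀, hx₀, hmax⟩ := Finset.exists_max_image (Finset.univ.filter fun x : P => c x ≠ 0)
      (fun x => V.valuation (c x)) (by obtain ⟨i, hi⟩ := hne; exact ⟨i, by simp [hi]⟩)
    have hx₀' : c x₀ ≠ 0 := (Finset.mem_filter.mp hx₀).2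
    have hmem : ∀ x, c x / c x₀ ∈ V := by
      intro x
      rw [← V.valuation_le_one_iff, map_div₀]
      by_cases h : c x = 0
      · simp [h]
      · exact div_le_one_of_le₀ (hmax x (by simp [h])) zero_le'
    let b : P → V := fun x => ⟨c x / c x₀, hmem x⟩
    have hb0 : ∑ x : P, b x • ρ (x : G) w = 0 := by
      have : ∀ x : P, b x • ρ (x : G) w = (c x₀)⁻¹ • (c x • ρ (x : G) w) := fun x => by
        rw [smul_smul, ← div_eq_inv_mul]
        rfl
      simp only [this, ← Finset.smul_sum, hc, smul_zero]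
    have h := congrFun (hkey (fun x => Ideal.Quotient.mk m (b x))
      ⟨b, fun x => rfl, by rw [hb0]; exact zero_mem _⟩) x₀
    have h1 : b x₀ = 1 := Subtype.ext (div_self hx₀')
    rw [Pi.zero_apply, h1, map_one] at h
    haveI : m.IsMaximal := IsLocalRing.maximalIdeal.isMaximal V
    exact one_ne_zero h
  have h5 := hli.fintype_card_le_finrank
  rw [← Nat.card_eq_fintype_card] at h5
  omega

/-- No fixed vectors for an overgroup of a TI Sylow normalizer in a small representation. -/
theorem eq_zero_of_small_fixed {W : Type*} [AddCommGroup W] [Module ℂ W]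
    [FiniteDimensional ℂ W] (ρ : Representation ℂ G W) (P : Sylow p G)
    (hTI : ∀ g : G, g ∉ Subgroup.normalizer ((P : Subgroup G) : Set G) →
      (P : Subgroup G) ⊓ (MulAut.conj g • (P : Subgroup G)) = ⊥)
    (H : Subgroup G) (hH : Subgroup.normalizer ((P : Subgroup G) : Set G) ≤ H)
    (hlt : Module.finrank ℂ W < Nat.card (P : Subgroup G))
    (hnofix : ∀ v : W, (∀ g : G, ρ g v = v) → v = 0)
    {v : W} (hv : ∀ h ∈ H, ρ h v = v) : v = 0 := by
  classical
  obtain ⟨V, hV⟩ := exists_valuationSubring_natCast p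
  have hPH : (P : Subgroup G) ≤ H := Subgroup.le_normalizer.trans hH
  haveI := Fintype.ofFinite ↥(P : Subgroup G)
  let u : G ⧸ H → W := Quotient.lift (fun g => ρ g v) (by
    intro a b hab
    have h1 : a⁻¹ * b ∈ H := QuotientGroup.leftRel_apply.mp hab
    show ρ a v = ρ b v
    conv_rhs => rw [show b = a * (a⁻¹ * b) by group, map_mul, Module.End.mul_apply, hv _ h1])
  haveI : Fintype (G ⧸ H) := Fintype.ofFinite _
  have hu : ∀ (g : G) (c : G ⧸ H), ρ g (u c) = u (g • c) := by
    intro g c
    obtain ⟨a, rfl⟩ := QuotientGroup.mk_surjective c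
    show ρ g (ρ a v) = ρ (g * a) v
    rw [map_mul, Module.End.mul_apply]
  have htot : ∑ c, u c = 0 := hnofix _ fun g => by
    rw [map_sum]
    exact Fintype.sum_equiv (MulAction.toPerm g) _ _ fun c => hu g c
  -- the action on the other cosets is free
  have hfree : ∀ (x : ↥(P : Subgroup G)) (c : G ⧸ H), c ≠ ((1 : G) : G ⧸ H) →
      (x : G) • c = c → x = 1 := by
    intro x c hc hxc
    obtain ⟨g, rfl⟩ := QuotientGroup.mk_surjective c
    have hg : g ∉ H := fun h => hc (QuotientGroup.eq.mpr (by simpa using h))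
    have hy : g⁻¹ * x * g ∈ H := by
      have h1 : (((x : G) * g : G) : G ⧸ H) = (g : G ⧸ H) := hxc
      rw [QuotientGroup.eq] at h1
      have := inv_mem h1
      simpa [mul_assoc] using this
    have hyp : IsPGroup p ((Subgroup.zpowers (g⁻¹ * x * g)).subgroupOf H) := by
      refine IsPGroup.of_equiv ?_ (Subgroup.subgroupOfEquivOfLe
        (Subgroup.zpowers_le.mpr hy)).symm
      rw [IsPGroup.iff_card, Nat.card_zpowers]
      obtain ⟨i, hi⟩ := (IsPGroup.iff_orderOf.mp P.isPGroup') x
      refine ⟨i, ?_⟩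
      rw [← hi, show g⁻¹ * (x : G) * g = MulAut.conj g⁻¹ (x : G) by simp,
        MulEquiv.orderOf_eq, Subgroup.orderOf_coe]
    obtain ⟨Q, hQ⟩ := hyp.exists_le_sylow
    obtain ⟨h, hh⟩ := MulAction.exists_smul_eq H Q (P.subtype hPH)
    have hm : h * ⟨g⁻¹ * x * g, hy⟩ * h⁻¹ ∈ (P.subtype hPH : Subgroup H) := by
      rw [← hh, Sylow.coe_subgroup_smul]
      refine ⟨⟨g⁻¹ * x * g, hy⟩, hQ (Subgroup.mem_zpowers (g⁻¹ * (x : G) * g)), rfl⟩
    have hm' : (h : G) * (g⁻¹ * x * g) * (h : G)⁻¹ ∈ (P : Subgroup G) := hm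
    have hgh : g * (h : G)⁻¹ ∉ Subgroup.normalizer ((P : Subgroup G) : Set G) := fun hn =>
      hg (by simpa using H.mul_mem (hH hn) h.2)
    have hbot := hTI _ hgh
    apply Subtype.ext
    show (x : G) = 1
    rw [← Subgroup.mem_bot, ← hbot, Subgroup.mem_inf]
    refine ⟨x.2, ⟨_, hm', ?_⟩⟩
    show MulAut.conj (g * (h : G)⁻¹) _ = _
    simp [MulAut.conj_apply]
    group
  -- orbit representatives
  let o : G ⧸ H → G ⧸ H := fun c =>
    (Quotient.mk (MulAction.orbitRel ↥(P : Subgroup G) (G ⧸ H)) c).out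
  have ho : ∀ c, ∃ x : ↥(P : Subgroup G), x • o c = c := by
    intro c
    have h := Quotient.mk_out (s := MulAction.orbitRel ↥(P : Subgroup G) (G ⧸ H)) c
    obtain ⟨x, hx⟩ : o c ∈ MulAction.orbit ↥(P : Subgroup G) c := h
    exact ⟨x⁻¹, by rw [← hx, inv_smul_smul]⟩
  have ho_smul : ∀ (x : ↥(P : Subgroup G)) c, o (x • c) = o c := fun x c =>
    congrArg Quotient.out (Quotient.sound (s := MulAction.orbitRel ↥(P : Subgroup G) (G ⧸ H))
      (MulAction.mem_orbit c x))
  have hfix1 : ∀ x : ↥(P : Subgroup G), x • ((1 : G) : G ⧸ H) = ((1 : G) : G ⧸ H) := fun x => by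
    show (((x : G) * 1 : G) : G ⧸ H) = _
    rw [QuotientGroup.eq]
    simpa using H.inv_mem (hPH x.2)
  let R : Finset (G ⧸ H) := Finset.univ.filter fun c => o c = c ∧ c ≠ ((1 : G) : G ⧸ H)
  set w : W := ∑ c ∈ R, u c with hw
  have hsum : ∑ x : ↥(P : Subgroup G), ρ (x : G) w =
      ∑ c ∈ Finset.univ.erase ((1 : G) : G ⧸ H), u c := by
    simp only [hw, map_sum, hu]
    rw [← Finset.sum_product']
    refine Finset.sum_bij (fun xc _ => xc.1 • xc.2) ?_ ?_ ?_ ?_
    · intro xc hxc
      simp only [R, Finset.mem_product, Finset.mem_filter] at hxc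
      refine Finset.mem_erase.mpr ⟨fun h => hxc.2.2.2 ?_, Finset.mem_univ _⟩
      rw [← inv_smul_smul xc.1 xc.2, h, hfix1]
    · intro a ha b hb hab
      simp only [R, Finset.mem_product, Finset.mem_filter] at ha hb
      have h2 : a.2 = b.2 := by
        rw [← ha.2.2.1, ← hb.2.2.1, ← ho_smul a.1 a.2, hab, ho_smul]
      refine Prod.ext ?_ h2
      rw [← h2] at hab
      have h3 : (b.1⁻¹ * a.1) • a.2 = a.2 := by rw [mul_smul, hab, inv_smul_smul]
      exact (inv_mul_eq_one.mp (hfree _ _ ha.2.2.2 h3)).symm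
    · intro c hc
      obtain ⟨x, hx⟩ := ho c
      refine ⟨(x, o c), ?_, hx⟩
      simp only [R, Finset.mem_product, Finset.mem_filter, Finset.mem_univ, true_and]
      refine ⟨by conv_lhs => rw [← ho_smul x (o c), hx], fun h => ?_⟩
      rw [h, hfix1] at hx
      exact Finset.ne_of_mem_erase hc hx.symm
    · intro xc _; rfl
  let L : Submodule V W := Submodule.span V (Set.range u)
  have hL : ∀ g : G, ∀ z ∈ L, ρ g z ∈ L := by
    intro g z hz
    induction hz using Submodule.span_induction with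
    | mem x hx =>
      obtain ⟨c, rfl⟩ := hx
      rw [hu]; exact Submodule.subset_span ⟨_, rfl⟩
    | zero => rw [map_zero]; exact zero_mem _
    | add x y _ _ hx hy => rw [map_add]; exact add_mem hx hy
    | smul r x _ hx =>
      rw [show ρ g (r • x) = r • ρ g x from (ρ g).map_smul (r : ℂ) x]
      exact Submodule.smul_mem _ r hx
  have hNw := sum_smul_mem_of_finrank_lt V hV ρ (P : Subgroup G) P.isPGroup' hlt L hL
    (sum_mem fun c _ => Submodule.subset_span ⟨c, rfl⟩ : w ∈ L)
  have hu1 : u ((1 : G) : G ⧸ H) ∈ IsLocalRing.maximalIdeal V • L := by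
    rw [← Finset.add_sum_erase _ u (Finset.mem_univ ((1 : G) : G ⧸ H)), ← hsum] at htot
    rw [eq_neg_of_add_eq_zero_left htot]
    exact neg_mem hNw
  have hLle : L ≤ IsLocalRing.maximalIdeal V • L := by
    refine Submodule.span_le.mpr ?_
    rintro z ⟨c, rfl⟩
    obtain ⟨g, rfl⟩ := QuotientGroup.mk_surjective c
    rw [show ((g : G ⧸ H)) = g • ((1 : G) : G ⧸ H) by
      show _ = (((g * 1 : G)) : G ⧸ H); rw [mul_one], ← hu]
    refine Submodule.smul_induction_on hu1 (fun r hr z hz => ?_) (fun a b ha hb => ?_)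
    · rw [show ρ g (r • z) = r • ρ g z from (ρ g).map_smul (r : ℂ) z]
      exact Submodule.smul_mem_smul hr (hL g z hz)
    · rw [map_add]; exact add_mem ha hb
  have hbot := Submodule.eq_bot_of_le_smul_of_le_jacobson_bot _ L
    (Submodule.fg_span (Set.finite_range u)) hLle (IsLocalRing.maximalIdeal_le_jacobson ⊥)
  have : u ((1 : G) : G ⧸ H) ∈ L := Submodule.subset_span ⟨_, rfl⟩
  rw [hbot, Submodule.mem_bot] at this
  rw [← this]
  show v = ρ 1 v
  rw [map_one]; rfl

end Cfsg.Lib.Block
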