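import Cfsg.Agent.Lib.Block.MaxPairs

/-!
# Blocks of stabilizers

The idempotent of a block of the centralizer of a `p`-group is a block idempotent of its
stabilizer, and the sum of an orbit of such blocks is a block idempotent of the group permuting
them.
-/

set_option autoImplicit false
set_option linter.unusedSectionVars false
set_option maxHeartbeats 400000

namespace Cfsg.Lib.Block

open Cfsg
open scoped ComplexConjugate

universe u

noncomputable local instance (priority := high) fintypeSubgroupStabBlock {G : Type u} [Group G]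
    [Fintype G] (H : Subgroup G) : Fintype H := Fintype.ofFinite H

local notation "C[" Q "]" => Subgroup.centralizer (SetLike.coe Q)

variable {p : ℕ} {M : Ideal AlgInt} {G : Type u} [Group G] [Fintype G] [Fact p.Prime]
  (hM : IsPModular p M)

/-- The elements fixing a central element of the group ring of a subgroup under conjugation. -/
noncomputable def invStab {C : Subgroup G} (v : IrrCharacter C → ℂ) : Subgroup G where
  carrier := {x | ∀ g : G, extF C v (x * g * x⁻¹) = extF C v g}
  one_mem' g := by simp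
  mul_mem' {a b} ha hb g := by
    rw [show a * b * g * (a * b)⁻¹ = a * (b * g * b⁻¹) * a⁻¹ by group, ha, hb]
  inv_mem' {a} ha g := by
    conv_rhs => rw [show g = a * (a⁻¹ * g * a⁻¹⁻¹) * a⁻¹ by group, ha]

theorem invOn_iff_le_invStab {S C : Subgroup G} {v : IrrCharacter C → ℂ} :
    InvOn S C v ↔ S ≤ invStab v := Iff.rfl

theorem le_invStab_self {C : Subgroup G} (v : IrrCharacter C → ℂ) : C ≤ invStab v := invOn_self v

theorem invOn_centralized {C Q : Subgroup G} (hCQ : C ≤ C[Q]) (v : IrrCharacter C → ℂ) :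
    InvOn Q C v := fun x hx g => by
  have hfix : ∀ k ∈ C, x * k * x⁻¹ = k := fun k hk => by
    rw [Subgroup.mem_centralizer_iff.1 (hCQ hk) x hx, mul_inv_cancel_right]
  by_cases h : g ∈ C
  · rw [hfix g h]
  · rw [extF_of_notMem _ h, extF_of_notMem]
    intro h'
    have h2 := hfix _ h'
    have h3 : x * g * x⁻¹ = g := mul_left_cancel (a := x) (mul_right_cancel (b := x⁻¹) h2)
    rw [h3] at h'
    exact h h'

theorem conjSet_eq_of_invOn {C : Subgroup G} {U : Set (IrrCharacter C)} {x : G}
    (hx : ConjMaps x C C) (h : ∀ g, extF C (indVec U) (x * g * x⁻¹) = extF C (indVec U) g) :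
    conjSet hx U = U := by
  refine eq_of_subgroupBlockCoeff_eq fun g => ?_
  obtain ⟨k, rfl⟩ : ∃ k, x * k * x⁻¹ = g := ⟨x⁻¹ * g * x, by group⟩
  rw [subgroupBlockCoeff_conjSet, ← extF_indVec, h]

/-- A central element of the group ring of `C` invariant under `T`, seen in the group ring
of `T`. -/
noncomputable def liftV (T : Subgroup G) {C : Subgroup G} (v : IrrCharacter C → ℂ) :
    IrrCharacter T → ℂ :=
  vec fun t : T => extF C v (t : G)

variable {C T Q : Subgroup G}

theorem zc_liftV {v : IrrCharacter C → ℂ} (hv : InvOn T C v) (t : T) :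
    zc (liftV T v) t = extF C v (t : G) :=
  zc_vec (f := fun t : T => extF C v (t : G)) (fun (a k : T) => hv (k : G) k.2 (a : G)) t

theorem extF_liftV {v : IrrCharacter C → ℂ} (hCT : C ≤ T) (hv : InvOn T C v) (g : G) :
    extF T (liftV T v) g = extF C v g := by
  by_cases h : g ∈ T
  · rw [extF_of_mem _ h, zc_liftV hv]
  · rw [extF_of_notMem _ h, extF_of_notMem _ fun h' => h (hCT h')]

theorem eq_of_extF_eq {v w : IrrCharacter C → ℂ} (h : ∀ g, extF C v g = extF C w g) : v = w :=
  zc_injective fun c => by rw [← extF_coe, ← extF_coe, h]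

theorem extF_smul (c : ℂ) (v : IrrCharacter C → ℂ) (g : G) :
    extF C (c • v) g = c * extF C v g := by
  by_cases h : g ∈ C
  · simp only [extF_of_mem _ h, zc_smul]
  · simp [extF_of_notMem _ h]

theorem indVec_inj {A : Type u} [Group A] {b b' : Set (IrrCharacter A)}
    (h : indVec b = indVec b') : b = b' := by
  classical
  ext χ
  have := congrFun h χ
  simp only [indVec] at this
  by_cases h1 : χ ∈ b <;> by_cases h2 : χ ∈ b' <;> simp_all

theorem exists_eq_indVec {A : Type u} [Group A] {v : IrrCharacter A → ℂ} (h : v * v = v) :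
    v = indVec {χ | v χ = 1} := by
  classical
  funext χ
  have h1 : v χ * v χ = v χ := congrFun h χ
  by_cases h0 : v χ = 0
  · simp [indVec, h0]
  · have : v χ = 1 := mul_left_cancel₀ h0 (h1.trans (mul_one _).symm)
    simp [indVec, this]

include hM in
theorem closed_of_vInt {A : Type u} [Group A] [Fintype A] {v : IrrCharacter A → ℂ}
    (hv : VInt hM v) (h : v * v = v) :
    ∀ χ ∈ {χ | v χ = 1}, blockOf M (χ : A → ℂ) ⊆ {χ | v χ = 1} := fun χ hχ => by
  refine blockOf_subset_of_vInt hM ?_ hχ
  rwa [← exists_eq_indVec h]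

include hM in
/-- An invariant union of blocks of the centralizer that is minimal is the idempotent of a block
of the group. -/
theorem exists_block_of_closed (hQ : IsPGroup p Q) (hQT : Q ≤ T) (hCQ : C = C[Q]) (hCT : C ≤ T)
    (hTN : T ≤ Subgroup.normalizer (Q : Set G)) {U : Set (IrrCharacter C)}
    (hU : ∀ η ∈ U, blockOf M (η : C → ℂ) ⊆ U) (hne : U.Nonempty) (hinv : InvOn T C (indVec U))
    (hmin : ∀ U' ⊆ U, U'.Nonempty → (∀ η ∈ U', blockOf M (η : C → ℂ) ⊆ U') →
      InvOn T C (indVec U') → U' = U) :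
    ∃ A : Set (IrrCharacter T), IsPBlock M A ∧
      ∀ g : G, subgroupBlockCoeff T A g = subgroupBlockCoeff C U g := by
  classical
  set v := indVec U with hvdef
  have hvv : v * v = v := by rw [hvdef, indVec_mul_indVec, Set.inter_self]
  have hvI : VInt hM v := vInt_indVec_closed hM hU
  set w := liftV T v with hw
  have hext : ∀ g, extF T w g = extF C v g := extF_liftV hCT hinv
  have hww : w * w = w := by
    refine eq_of_extF_eq fun g => ?_
    rw [extF_mul]
    simp only [hext]
    rw [← extF_mul, hvv]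
  have hwI : VInt hM w := fun t => by rw [hw, zc_liftV hinv]; exact extF_mem_locRing hM hvI _
  set A := {χ | w χ = 1} with hA
  have hwA : w = indVec A := exists_eq_indVec hww
  have hAne : A.Nonempty := by
    rw [Set.nonempty_iff_ne_empty]
    intro h0
    have hw0 : w = 0 := by rw [hwA, h0]; funext χ; simp [indVec]
    obtain ⟨η, hη⟩ := hne
    have hv0 : v = 0 := eq_of_extF_eq fun g => by
      rw [← hext, hw0]
      have e : ∀ (K : Subgroup G) (g : G), extF K (0 : IrrCharacter K → ℂ) g = 0 := fun K g => by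
        have := extF_smul (C := K) 0 0 g
        simpa using this
      rw [e, e]
    have := congrFun hv0 η
    rw [hvdef, indVec, if_pos hη] at this
    exact one_ne_zero this
  obtain ⟨χ, hχ⟩ := hAne
  set B' := blockOf M (χ : T → ℂ) with hB'
  have hB'P : IsPBlock M B' := isPBlock_blockOf χ
  have hsub : B' ⊆ A := closed_of_vInt hM hwI hww χ hχ
  have hnor : (Q.subgroupOf T).Normal := ⟨fun q hq t => by
    have := (Subgroup.mem_normalizer_iff.1 (hTN t.2) (q : G)).1 hq
    simpa [Subgroup.mem_subgroupOf] using this⟩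
  have hsupp : ∀ t : T, (t : G) ∉ C → blockCoeff B' t = 0 := fun t ht => by
    refine blockCoeff_eq_zero_of_notMem hM (Q := Q.subgroupOf T) hQ.comap_subtype hB'P ?_
    intro hc
    refine ht ?_
    rw [hCQ]
    refine Subgroup.mem_centralizer_iff.2 fun q hq => ?_
    have := Subgroup.mem_centralizer_iff.1 hc ⟨q, hQT hq⟩ (Subgroup.mem_subgroupOf.2 hq)
    exact congrArg (fun z : T => (z : G)) this
  set u := trV C T (indVec B') with hu
  have hextu : ∀ g, extF C u g = extF T (indVec B') g := by
    intro g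
    by_cases h : g ∈ C
    · exact extF_trV_of_mem hCT _ h
    · rw [extF_of_notMem _ h]
      by_cases h2 : g ∈ T
      · rw [extF_of_mem _ h2, zc_indVec, hsupp ⟨g, h2⟩ h]
      · rw [extF_of_notMem _ h2]
  have huu : u * u = u := by
    refine eq_of_extF_eq fun g => ?_
    rw [extF_mul]
    simp only [hextu]
    rw [← extF_mul, indVec_mul_indVec, Set.inter_self]
  have huI : VInt hM u := vInt_trV hM hCT (vInt_indVec hM hB'P)
  have huv : u * v = u := by
    refine eq_of_extF_eq fun g => ?_
    rw [extF_mul]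
    simp only [hextu, ← hext]
    rw [← extF_mul, hwA, indVec_mul_indVec, Set.inter_eq_self_of_subset_left hsub]
  set U' := {η | u η = 1} with hU'
  have huU : u = indVec U' := exists_eq_indVec huu
  have hU'ne : U'.Nonempty := by
    rw [Set.nonempty_iff_ne_empty]
    intro h0
    have hu0 : u = 0 := by rw [huU, h0]; funext χ; simp [indVec]
    have hB0 : indVec B' = (0 : IrrCharacter T → ℂ) := eq_of_extF_eq fun g => by
      rw [← hextu, hu0]
      have e : ∀ (K : Subgroup G) (g : G), extF K (0 : IrrCharacter K → ℂ) g = 0 := fun K g => by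
        have := extF_smul (C := K) 0 0 g
        simpa using this
      rw [e, e]
    have := congrFun hB0 χ
    rw [indVec, if_pos (self_mem_blockOf hM χ)] at this
    exact one_ne_zero this
  have hU'sub : U' ⊆ U := fun η hη => by
    have h1 : u η * v η = u η := congrFun huv η
    rw [show u η = 1 from hη, one_mul, hvdef, indVec] at h1
    by_contra hn
    rw [if_neg hn] at h1
    exact zero_ne_one h1
  have hU'inv : InvOn T C (indVec U') := by
    rw [← huU]
    intro x hx g
    rw [hextu, hextu]
    exact invOn_self (indVec B') x hx g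
  have hU'eq : U' = U := hmin U' hU'sub hU'ne (closed_of_vInt hM huI huu) hU'inv
  refine ⟨B', hB'P, fun g => ?_⟩
  rw [← extF_indVec, ← extF_indVec, ← hextu, huU, hU'eq]

include hM in
/-- The idempotent of a block of the centralizer of a `p`-group is a block idempotent of its
stabilizer. -/
theorem exists_stabilizer_block (hQ : IsPGroup p Q) (hQT : Q ≤ T) (hCT : C[Q] ≤ T)
    (hTN : T ≤ Subgroup.normalizer (Q : Set G)) {f : Set (IrrCharacter C[Q])} (hf : IsPBlock M f)
    (hinv : InvOn T C[Q] (indVec f)) :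
    ∃ F : Set (IrrCharacter T), IsPBlock M F ∧
      (∀ t : T, blockCoeff F t = subgroupBlockCoeff C[Q] f (t : G)) ∧
      ∀ g : G, subgroupBlockCoeff T F g = subgroupBlockCoeff C[Q] f g := by
  obtain ⟨F, hF, hcoeff⟩ := exists_block_of_closed hM hQ hQT rfl hCT hTN
    (fun η hη => (eq_blockOf_of_mem hM hf hη).ge) (nonempty_of_isPBlock hM hf) hinv
    (fun U' hsub hne hcl _ => by
      refine Set.Subset.antisymm hsub ?_
      obtain ⟨η, hη⟩ := hne
      rw [eq_blockOf_of_mem hM hf (hsub hη)]
      exact hcl η hη)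
  refine ⟨F, hF, fun t => ?_, hcoeff⟩
  rw [← hcoeff]
  simp [subgroupBlockCoeff]

include hM in
/-- A pair belongs to one block only. -/
theorem block_eq_of_pair {P : Subgroup G} {e : Set (IrrCharacter C[P])}
    {B B' : Set (IrrCharacter G)} (h : IsBrauerPairOf p M B P e)
    (h' : IsBrauerPairOf p M B' P e) : B = B' := by
  by_contra hne
  obtain ⟨hP, hB, hs⟩ := (isBrauerPairOf_iff_brU hM B P e).1 h
  obtain ⟨-, hB', hs'⟩ := (isBrauerPairOf_iff_brU hM B' P e).1 h'
  obtain ⟨ξ, hξ⟩ := nonempty_of_isPBlock hM hP.2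
  obtain ⟨χ, hχ⟩ := nonempty_of_isPBlock hM hB
  obtain ⟨χ', hχ'⟩ := nonempty_of_isPBlock hM hB'
  have hHN : C[P] ≤ Subgroup.normalizer (P : Set G) := Subgroup.centralizer_le_normalizer _
  have h1 := (brRel_iff_mem hM hP.1 le_rfl hHN ξ hB hχ).2 (hs ξ hξ)
  have h2 := (brRel_iff_mem hM hP.1 le_rfl hHN ξ hB' hχ').2 (hs' ξ hξ)
  exact hne (isPBlock_eq_of_mem hM hB hB'
    (by rw [eq_blockOf_of_mem hM hB hχ]; exact brRel_unique hM h1 h2) hχ')

open Classical in
/-- The orbit idempotent as an average of the conjugates of the block. -/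
theorem extF_orbitU_eq {P : Subgroup G} [P.Normal] (hM : IsPModular p M)
    {e : Set (IrrCharacter C[P])} (he : IsPBlock M e) {T : Subgroup G}
    (hT : ∀ x : G, x ∈ T ↔ StabilizesBlock C[P] e x) (g : G) :
    (Nat.card T : ℂ) * extF C[P] (indVec (orbitU P e)) g =
      ∑ x : G, subgroupBlockCoeff C[P] e (x⁻¹ * g * x) := by
  have hN : ∀ x : G, x ∈ Subgroup.normalizer (P : Set G) := fun x => by
    rw [Subgroup.normalizer_eq_top]; exact Subgroup.mem_top x
  set hc : ∀ x : G, ConjMaps x C[P] C[P] := fun x => normalizer_le_conjMaps (hN x)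
  have e1 : ∀ x, subgroupBlockCoeff C[P] e (x⁻¹ * g * x) =
      extF C[P] (indVec (conjSet (hc x) e)) g := fun x => by
    conv_rhs => rw [extF_indVec, show g = x * (x⁻¹ * g * x) * x⁻¹ by group,
      subgroupBlockCoeff_conjSet]
  rw [Finset.sum_congr rfl fun x _ => e1 x, ← extF_sum, ← extF_smul]
  congr 1
  funext η
  rw [Finset.sum_apply, Pi.smul_apply, smul_eq_mul]
  simp only [indVec, Finset.sum_boole]
  split_ifs with hη
  · obtain ⟨x₀, h₀, hx₀⟩ := hη
    have hiff : ∀ x, η ∈ conjSet (hc x) e ↔ x₀⁻¹ * x ∈ T := fun x => by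
      have hblk : ∀ y, IsPBlock M (conjSet (hc y) e) := fun y => isPBlock_conjSet _ he
      have hmm : η ∈ conjSet (hc x) e ↔ conjSet (hc x) e = conjSet (hc x₀) e := by
        refine ⟨fun h => isPBlock_eq_of_mem hM (hblk x) (hblk x₀) h hx₀, fun h => ?_⟩
        rw [h]; exact hx₀
      have hst := stabilizesBlock_iff (f := e) (mem_normalizer_centralizer (hN (x₀⁻¹ * x)))
      rw [hmm, hT, hst]
      constructor
      · intro h
        have h2 := congrArg (conjSet (hc x₀⁻¹)) h
        rw [conjSet_mul, conjSet_mul] at h2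
        rw [h2]
        exact conjSet_of_mem _ (by rw [inv_mul_cancel]; exact one_mem _) e
      · intro h
        have h2 := congrArg (conjSet (hc x₀)) h
        rw [conjSet_mul] at h2
        rw [← h2]
        exact conjSet_congr _ _ (mul_inv_cancel_left x₀ x).symm e
    rw [mul_one, Nat.cast_inj, Finset.filter_congr fun x _ => hiff x, ← Fintype.card_subtype,
      ← Nat.card_eq_fintype_card]
    exact Nat.card_congr (Equiv.subtypeEquiv (Equiv.mulLeft x₀) fun x => by simp)
  · rw [mul_zero, eq_comm, Nat.cast_eq_zero, Finset.card_eq_zero, Finset.filter_eq_empty_iff]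
    exact fun x _ h => hη ⟨x, map_conj_eq_self (hN x), h⟩

include hM in
/-- For a normal `p`-subgroup the orbit sum is the idempotent of the block. -/
theorem blockCoeff_eq_orbitU {P : Subgroup G} [P.Normal] {B : Set (IrrCharacter G)}
    {e : Set (IrrCharacter C[P])} (h : IsBrauerPairOf p M B P e) (g : G) :
    blockCoeff B g = extF C[P] (indVec (orbitU P e)) g := by
  classical
  obtain ⟨⟨hP, he⟩, hB, -⟩ := id h
  have hN : Subgroup.normalizer (P : Set G) = ⊤ := Subgroup.normalizer_eq_top P
  obtain ⟨η₀, hη₀⟩ := nonempty_of_isPBlock hM he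
  have hinv : InvOn ⊤ C[P] (indVec (orbitU P e)) := hN ▸ invOn_orbitU P e
  obtain ⟨A, hA, hcoeff⟩ := exists_block_of_closed hM (T := (⊤ : Subgroup G)) hP le_top rfl le_top
    (by rw [hN]) (orbitU_closed hM he) ⟨η₀, subset_orbitU P e hη₀⟩ hinv
    (fun U' hsub hne hcl hi => by
      refine Set.Subset.antisymm hsub fun η hη => ?_
      obtain ⟨ξ, hξ⟩ := hne
      obtain ⟨x, hx, hξx⟩ := hsub hξ
      obtain ⟨y, hy, hηy⟩ := hη
      have hbx : conjSet (conjMaps_centralizer hx) e ⊆ U' := by
        rw [eq_blockOf_of_mem hM (isPBlock_conjSet _ he) hξx]; exact hcl ξ hξ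
      have hm : y * x⁻¹ ∈ Subgroup.normalizer (P : Set G) := by rw [hN]; exact Subgroup.mem_top _
      rw [← conjSet_eq_of_invOn (normalizer_le_conjMaps hm) (hi _ (Subgroup.mem_top _))]
      refine conjSet_mono _ hbx ?_
      rw [conjSet_mul]
      rwa [conjSet_congr _ (conjMaps_centralizer hy) (inv_mul_cancel_right y x)])
  set e₀ : (⊤ : Subgroup G) ≃* G := Subgroup.topEquiv
  set A' := pullSet e₀.symm A with hA'def
  have hA' : IsPBlock M A' := isPBlock_pullSet _ hA
  have hcoeff' : ∀ g, blockCoeff A' g = extF C[P] (indVec (orbitU P e)) g := fun g => by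
    rw [hA'def, blockCoeff_pullSet, extF_indVec, ← hcoeff]
    simp only [subgroupBlockCoeff, Subgroup.mem_top, dif_pos]
    congr 1
  suffices A' = B by rw [← this, hcoeff']
  refine block_eq_of_pair hM ((isBrauerPairOf_iff_brU hM A' P e).2 ⟨⟨hP, he⟩, hA', fun ξ hξ => ?_⟩) h
  have hbr : brU P A' = indVec (orbitU P e) := eq_of_extF_eq fun g => by
    rw [extF_brU]
    split_ifs with hg
    · exact hcoeff' g
    · rw [extF_of_notMem _ hg]
  rw [hbr, indVec, if_pos (subset_orbitU P e hξ), res_one]

end Cfsg.Lib.Block
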