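import Cfsg.Agent.Lib.Block.GreenPoints
import Cfsg.Agent.Lib.Block.Subsection
import Cfsg.Agent.Lib.Block.DefectPairs

/-!
# Block idempotents in the group algebra and the pair of a point

The idempotents of the blocks of centralizers as elements of the group algebra, and the Brauer
pairs selected by a point with nonzero Brauer image.
-/

set_option autoImplicit false
set_option linter.unusedSectionVars false
set_option maxHeartbeats 800000

namespace Cfsg.Lib.Block

open Cfsg
open scoped MonoidAlgebra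

universe u

variable {p : ℕ} {M : Ideal AlgInt} (hM : IsPModular p M) {G : Type u} [Group G] [Fintype G]
  [Fact p.Prime]

noncomputable local instance (priority := high) fintypeSubgroupStarBase {A : Type u} [Group A]
    [Fintype A] (H : Subgroup A) : Fintype H := Fintype.ofFinite H

local notation "C[" Q "]" => Subgroup.centralizer (SetLike.coe Q)

/-- A central vector of a subgroup in the group algebra over the residue field. -/
noncomputable def vK (C : Subgroup G) (v : IrrCharacter C → ℂ) : KGA hM G :=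
  MonoidAlgebra.ofCoeff (Finsupp.equivFunOnFinite.symm fun g => res hM (extF C v g))

open Classical in
/-- A central vector of a subgroup in the group algebra over the local ring. -/
noncomputable def vO (C : Subgroup G) (v : IrrCharacter C → ℂ) : OGA hM G :=
  MonoidAlgebra.ofCoeff (Finsupp.equivFunOnFinite.symm fun g =>
    if h : extF C v g ∈ locRing hM then ⟨_, h⟩ else 0)

theorem coeff_vK (C : Subgroup G) (v : IrrCharacter C → ℂ) (g : G) :
    (vK hM C v).coeff g = res hM (extF C v g) := rfl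

theorem coeff_vO {C : Subgroup G} {v : IrrCharacter C → ℂ} (hv : VInt hM v) (g : G) :
    ((vO hM C v).coeff g : ℂ) = extF C v g := by
  classical
  show ((if h : extF C v g ∈ locRing hM then (⟨_, h⟩ : locRing hM) else 0 : locRing hM) : ℂ) = _
  rw [dif_pos (extF_mem_locRing hM hv g)]

theorem red_vO {C : Subgroup G} {v : IrrCharacter C → ℂ} (hv : VInt hM v) :
    red hM (vO hM C v) = vK hM C v := by
  refine MonoidAlgebra.ext (Finsupp.ext fun g => ?_)
  rw [coeff_red, coeff_vK, ← res_coe, coeff_vO hM hv]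

theorem vK_mul {C : Subgroup G} {v w : IrrCharacter C → ℂ} (hv : VInt hM v) (hw : VInt hM w) :
    vK hM C (v * w) = vK hM C v * vK hM C w := by
  refine MonoidAlgebra.ext (Finsupp.ext fun g => ?_)
  rw [coeff_vK, coeff_mul_sum, extF_mul,
    res_sum hM _ _ fun x _ => mul_mem (extF_mem_locRing hM hv _) (extF_mem_locRing hM hw _)]
  exact Finset.sum_congr rfl fun x _ =>
    res_mul hM (extF_mem_locRing hM hv _) (extF_mem_locRing hM hw _)

theorem vO_mul {C : Subgroup G} {v w : IrrCharacter C → ℂ} (hv : VInt hM v) (hw : VInt hM w) :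
    vO hM C (v * w) = vO hM C v * vO hM C w := by
  refine MonoidAlgebra.ext (Finsupp.ext fun g => Subtype.ext ?_)
  rw [coeff_vO hM (vInt_mul hM hv hw), coeff_mul_sum, extF_mul]
  push_cast
  exact Finset.sum_congr rfl fun x _ => by rw [coeff_vO hM hv, coeff_vO hM hw]

theorem vK_sub {C : Subgroup G} {v w : IrrCharacter C → ℂ} (hv : VInt hM v) (hw : VInt hM w) :
    vK hM C (v - w) = vK hM C v - vK hM C w := by
  refine MonoidAlgebra.ext (Finsupp.ext fun g => ?_)
  rw [MonoidAlgebra.coeff_sub, Finsupp.sub_apply, coeff_vK, coeff_vK, coeff_vK, extF_sub,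
    res_sub hM (extF_mem_locRing hM hv g) (extF_mem_locRing hM hw g)]

theorem vK_one (C : Subgroup G) : vK hM C (1 : IrrCharacter C → ℂ) = 1 := by
  classical
  refine MonoidAlgebra.ext (Finsupp.ext fun g => ?_)
  rw [coeff_vK, extF_one, MonoidAlgebra.one_def, MonoidAlgebra.coeff_single, Finsupp.single_apply]
  by_cases h : g = 1
  · rw [if_pos h, if_pos h.symm, res_one]
  · rw [if_neg h, if_neg (Ne.symm h), res_zero]

theorem vK_sum {C : Subgroup G} {ι : Type*} (s : Finset ι) (v : ι → IrrCharacter C → ℂ)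
    (hv : ∀ i ∈ s, VInt hM (v i)) : vK hM C (∑ i ∈ s, v i) = ∑ i ∈ s, vK hM C (v i) := by
  refine MonoidAlgebra.ext (Finsupp.ext fun g => ?_)
  rw [MonoidAlgebra.coeff_sum, Finsupp.finset_sum_apply, coeff_vK, extF_sum,
    res_sum hM _ _ fun i hi => extF_mem_locRing hM (hv i hi) g]
  rfl

theorem vK_eq_zero_iff {C : Subgroup G} {v : IrrCharacter C → ℂ} (hv : VInt hM v) :
    vK hM C v = 0 ↔ VSmall M v := by
  constructor
  · intro h c
    rw [← res_eq_zero_iff hM (hv c), ← extF_coe v c, ← coeff_vK, h]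
    rfl
  · intro h
    refine MonoidAlgebra.ext (Finsupp.ext fun g => ?_)
    rw [coeff_vK]
    show res hM (extF C v g) = 0
    by_cases hg : g ∈ C
    · rw [extF_of_mem _ hg, res_eq_zero_iff hM (hv _)]
      exact h _
    · rw [extF_of_notMem _ hg, res_zero]

theorem vK_mem_invAlg {S C : Subgroup G} {v : IrrCharacter C → ℂ} (h : InvOn S C v) :
    vK hM C v ∈ invAlg (resField hM) S :=
  mem_invAlg.2 fun x hx g => by rw [coeff_vK, coeff_vK, h x hx g]

theorem vO_mem_invAlg {S C : Subgroup G} {v : IrrCharacter C → ℂ} (hv : VInt hM v)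
    (h : InvOn S C v) : vO hM C v ∈ invAlg (locRing hM) S :=
  mem_invAlg.2 fun x hx g => Subtype.ext (by rw [coeff_vO hM hv, coeff_vO hM hv, h x hx g])

theorem brK_vK_self (Q : Subgroup G) (v : IrrCharacter C[Q] → ℂ) :
    brK Q (vK hM C[Q] v) = vK hM C[Q] v := by
  refine MonoidAlgebra.ext (Finsupp.ext fun g => ?_)
  by_cases hg : g ∈ C[Q]
  · rw [coeff_brK_of_mem _ hg]
  · rw [coeff_brK_of_notMem _ hg, coeff_vK, extF_of_notMem _ hg, res_zero]

theorem brK_vK {R W : Subgroup G} (h : R ≤ W) (v : IrrCharacter C[R] → ℂ) :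
    brK W (vK hM C[R] v) = vK hM C[W] (trV C[W] C[R] v) := by
  refine MonoidAlgebra.ext (Finsupp.ext fun g => ?_)
  by_cases hg : g ∈ C[W]
  · rw [coeff_brK_of_mem _ hg, coeff_vK, coeff_vK, extF_trV_of_mem (Subgroup.centralizer_le h) v hg]
  · rw [coeff_brK_of_notMem _ hg, coeff_vK, extF_of_notMem _ hg, res_zero]

theorem commute_of_supported {R : Type*} [CommRing R] {H : Subgroup G} {a x : R[G]}
    (ha : a ∈ invAlg R H) (hx : ∀ g, g ∉ H → x.coeff g = 0) : Commute a x := by
  refine MonoidAlgebra.ext (Finsupp.ext fun g => ?_)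
  rw [coeff_mul_sum, coeff_mul_sum]
  refine (Fintype.sum_equiv (((Equiv.inv G).trans (Equiv.mulRight g)))
    (fun h : G => x.coeff h * a.coeff (h⁻¹ * g))
    (fun h' : G => x.coeff (g * h'⁻¹) * a.coeff h') fun h => ?_).trans ?_ |>.symm
  · simp only [Equiv.trans_apply, Equiv.inv_apply, Equiv.coe_mulRight, mul_inv_rev, inv_inv]
    rw [mul_inv_cancel_left]
  · refine Fintype.sum_equiv (MulAut.conj g).toEquiv _ _ fun h' => ?_
    simp only [MulEquiv.toEquiv_eq_coe, MulEquiv.coe_toEquiv, MulAut.conj_apply]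
    rw [show (g * h' * g⁻¹)⁻¹ * g = g * h'⁻¹ by group, mul_comm]
    by_cases hy : g * h'⁻¹ ∈ H
    · congr 1
      rw [show g * h' * g⁻¹ = g * h'⁻¹ * h' * (g * h'⁻¹)⁻¹ by group, mem_invAlg.1 ha _ hy]
    · rw [hx _ hy, mul_zero, mul_zero]

theorem supported_brK {Q : Subgroup G} {k : Type*} [Field k] (x : k[G]) :
    ∀ g, g ∉ C[Q] → (brK Q x).coeff g = 0 := fun _ hg => coeff_brK_of_notMem x hg

/-- The idempotent of a block of a centralizer in the group algebra over the residue field. -/
noncomputable def blkK (Q : Subgroup G) (f : Set (IrrCharacter C[Q])) : KGA hM G :=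
  vK hM C[Q] (indVec f)

theorem brK_blkK (Q : Subgroup G) (f : Set (IrrCharacter C[Q])) :
    brK Q (blkK hM Q f) = blkK hM Q f := brK_vK_self hM Q _

theorem blkK_commute {Q : Subgroup G} (f : Set (IrrCharacter C[Q])) {x : KGA hM G}
    (hx : brK Q x = x) : Commute (blkK hM Q f) x :=
  commute_of_supported (vK_mem_invAlg hM (invOn_self _)) fun g hg => by
    rw [← hx]; exact coeff_brK_of_notMem x hg

theorem blkK_idem {Q : Subgroup G} {f : Set (IrrCharacter C[Q])} (hf : IsPBlock M f) :
    IsIdempotentElem (blkK hM Q f) := by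
  show _ * _ = _
  rw [blkK, ← vK_mul hM (vInt_indVec hM hf) (vInt_indVec hM hf), indVec_mul_indVec, Set.inter_self]

open Classical in
/-- The blocks of a group, as a finite set. -/
noncomputable def blocksOf (M : Ideal AlgInt) (A : Type u) [Group A] [Fintype A] :
    Finset (Set (IrrCharacter A)) :=
  Finset.univ.image fun η : IrrCharacter A => blockOf M (η : A → ℂ)

include hM in
theorem mem_blocksOf {A : Type u} [Group A] [Fintype A] {b : Set (IrrCharacter A)} :
    b ∈ blocksOf M A ↔ IsPBlock M b := by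
  classical
  rw [blocksOf, Finset.mem_image]
  constructor
  · rintro ⟨η, -, rfl⟩
    exact isPBlock_blockOf η
  · intro hb
    obtain ⟨η, hη⟩ := nonempty_of_isPBlock hM hb
    exact ⟨η, Finset.mem_univ _, (eq_blockOf_of_mem hM hb hη).symm⟩

include hM in
theorem sum_indVec_blocksOf (A : Type u) [Group A] [Fintype A] :
    ∑ b ∈ blocksOf M A, indVec b = (1 : IrrCharacter A → ℂ) := by
  classical
  funext η
  rw [Finset.sum_apply, Finset.sum_eq_single_of_mem (blockOf M (η : A → ℂ))
    ((mem_blocksOf hM).2 (isPBlock_blockOf η))]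
  · rw [indVec, if_pos (self_mem_blockOf hM η), Pi.one_apply]
  · intro b hb hne
    rw [indVec, if_neg]
    exact fun h => hne (eq_blockOf_of_mem hM ((mem_blocksOf hM).1 hb) h)

theorem sum_blkK (Q : Subgroup G) :
    ∑ f ∈ blocksOf M C[Q], blkK hM Q f = 1 := by
  rw [← vK_one hM C[Q], ← sum_indVec_blocksOf hM, vK_sum hM _ _ fun f hf =>
    vInt_indVec hM ((mem_blocksOf hM).1 hf)]
  rfl

include hM in
/-- The truncated idempotent of the lower block contains that of a normal pair above it. -/
theorem brK_blkK_mul_of_normal {R W : Subgroup G} {b : Set (IrrCharacter C[R])}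
    {w : Set (IrrCharacter C[W])} (h : IsNormalSubpair p M R b W w) :
    brK W (blkK hM R b) * blkK hM W w = blkK hM W w := by
  obtain ⟨hRb, hWw, hle, hWN, hinv, hsel⟩ := (isNormalSubpair_iff hM).1 h
  set t := trV C[W] C[R] (indVec b) with ht
  have htI : VInt hM t := vInt_trV hM (Subgroup.centralizer_le hle) (vInt_indVec hM hRb.2)
  have hwI := vInt_indVec hM hWw.2
  have hbr : brK W (blkK hM R b) = vK hM C[W] t := brK_vK hM hle _
  have hmem : blkK hM R b ∈ invAlg (resField hM) W := vK_mem_invAlg hM hinv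
  have hti : IsIdempotentElem (vK hM C[W] t) := hbr ▸ brK_isIdem hWw.1 hmem (blkK_idem hM hRb.2)
  have hcomm : Commute (blkK hM W w) (vK hM C[W] t) := blkK_commute hM w (brK_vK_self hM W t)
  set x := indVec w - t * indVec w with hx
  have hxI : VInt hM x := vInt_sub hM hwI (vInt_mul hM htI hwI)
  have hxK : vK hM C[W] x = blkK hM W w - vK hM C[W] t * blkK hM W w := by
    rw [hx, vK_sub hM hwI (vInt_mul hM htI hwI), vK_mul hM htI hwI]
    rfl
  have hxi : IsIdempotentElem (vK hM C[W] x) := by
    rw [hxK, ← one_sub_mul]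
    exact IsIdempotentElem.mul_of_commute
      ((Commute.one_left _).sub_left hcomm.symm) hti.one_sub (blkK_idem hM hWw.2)
  have hsmall : VSmall M x := by
    refine vSmall_of_idem hM hxI ?_ fun ξ => ?_
    · rw [← vK_eq_zero_iff hM (vInt_sub hM (vInt_mul hM hxI hxI) hxI),
        vK_sub hM (vInt_mul hM hxI hxI) hxI, vK_mul hM hxI hxI, hxi.eq, sub_self]
    · rw [← res_eq_zero_iff hM (apply_mem_locRing hM hxI ξ)]
      simp only [x, Pi.sub_apply, Pi.mul_apply, indVec]
      split_ifs with hξ
      · rw [mul_one, res_sub hM (one_mem _) (apply_mem_locRing hM htI ξ), res_one, hsel ξ hξ,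
          sub_self]
      · rw [mul_zero, sub_zero, res_zero]
  rw [← vK_eq_zero_iff hM hxI, hxK, sub_eq_zero] at hsmall
  rw [hbr]
  exact hsmall.symm

include hM in
/-- A point with nonzero Brauer image selects a pair and all the pairs below it. -/
theorem exists_point_pair [IsAlgClosed (resField hM)] {Q R : Subgroup G} (hQ : IsPGroup p Q)
    (hQR : ∀ q ∈ Q, ∀ r ∈ R, q * r = r * q) {e : KGA hM G}
    (he : IsPrim (invAlg (resField hM) (Q ⊔ R)) e) (hne : brK Q e ≠ 0) :
    ∃ f : Set (IrrCharacter C[Q]), IsPBlock M f ∧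
      ∀ (R' : Subgroup G) (b : Set (IrrCharacter C[R'])), SubpairLE p M R' b Q f →
        brK R' e * blkK hM R' b = brK R' e := by
  classical
  have hRC : R ≤ C[Q] := fun r hr => Subgroup.mem_centralizer_iff.2 fun q hq => hQR q hq r hr
  have hblkE : ∀ f, blkK hM Q f ∈ invAlg (resField hM) (Q ⊔ R) := fun f =>
    mem_invAlg_sup.2 ⟨by rw [← brK_blkK hM Q f]; exact brK_mem_invAlg_self Q _,
      vK_mem_invAlg hM (invOn_mono hRC (invOn_self _))⟩
  have hor : ∀ f, IsPBlock M f → brK Q e * blkK hM Q f = 0 ∨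
      brK Q e * blkK hM Q f = brK Q e := fun f hf =>
    he.brK_mul_eq_or hQ le_sup_left (hblkE f) (brK_blkK hM Q f) (blkK_idem hM hf)
      (blkK_commute hM f (brK_idempotent Q e)).symm
  obtain ⟨f, hf, hfe⟩ : ∃ f, IsPBlock M f ∧ brK Q e * blkK hM Q f = brK Q e := by
    by_contra hno
    refine hne ?_
    rw [← mul_one (brK Q e), ← sum_blkK hM Q, Finset.mul_sum]
    refine Finset.sum_eq_zero fun f hf => (hor f ((mem_blocksOf hM).1 hf)).resolve_right ?_
    exact fun h => hno ⟨f, (mem_blocksOf hM).1 hf, h⟩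
  refine ⟨f, hf, fun R' b hle => ?_⟩
  have hPe : IsBrauerPair p M Q f := ⟨hQ, hf⟩
  induction hn : Nat.card Q - Nat.card R' using Nat.strong_induction_on generalizing R' b with
  | _ n ih =>
  have hR'Q := subpairLE_le hle
  rcases eq_or_lt_of_le hR'Q with rfl | hlt
  · obtain rfl : b = f := subpair_unique hM hPe hle Relation.ReflTransGen.refl
    exact hfe
  set T := Q ⊓ Subgroup.normalizer (R' : Set G) with hT
  obtain ⟨t, -, hbt⟩ := normalSubpair_below hM hPe hle
    (le_inf hR'Q Subgroup.le_normalizer : R' ≤ T) inf_le_left inf_le_right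
  obtain ⟨hRb, -, -, -, hinvT, -⟩ := (isNormalSubpair_iff hM).1 hbt
  have hQN : T ≤ Subgroup.normalizer (R' : Set G) := inf_le_right
  have hRC' : R ≤ C[R'] := hRC.trans (Subgroup.centralizer_le hR'Q)
  have heQ := invAlg_anti (le_sup_left (b := R)) he.mem
  have heR := invAlg_anti (le_sup_right (a := Q)) he.mem
  have heR' := invAlg_anti hR'Q heQ
  set y := brK R' e - brK R' e * blkK hM R' b with hy
  suffices hy0 : y = 0 from (sub_eq_zero.1 hy0).symm
  have hcomm : Commute (brK R' e) (blkK hM R' b) :=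
    (blkK_commute hM b (brK_idempotent R' e)).symm
  have hbi := brK_isIdem (hQ.to_le hR'Q) heR' he.idem
  have hblkT : blkK hM R' b ∈ invAlg (resField hM) T := vK_mem_invAlg hM hinvT
  have hyT : y ∈ invAlg (resField hM) T :=
    sub_mem (brK_mem_invAlg hQN (invAlg_anti inf_le_left heQ))
      (mul_mem (brK_mem_invAlg hQN (invAlg_anti inf_le_left heQ)) hblkT)
  have hRN : R ≤ Subgroup.normalizer (R' : Set G) :=
    hRC'.trans (Subgroup.centralizer_le_normalizer _)
  have hyR : y ∈ invAlg (resField hM) R :=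
    sub_mem (brK_mem_invAlg hRN heR) (mul_mem (brK_mem_invAlg hRN heR)
      (vK_mem_invAlg hM (invOn_mono hRC' (invOn_self _))))
  have hy_eq : y = brK R' e * (1 - blkK hM R' b) := by rw [mul_sub, mul_one]
  have hyi : IsIdempotentElem y := by
    rw [hy_eq]
    exact IsIdempotentElem.mul_of_commute ((Commute.one_right _).sub_right hcomm) hbi
      (blkK_idem hM hRb.2).one_sub
  have hblkR' : blkK hM R' b ∈ invAlg (resField hM) R' := by
    rw [← brK_blkK hM R' b]; exact brK_mem_invAlg_self R' _
  have hyb : brK R' y = y := by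
    rw [hy, brK_sub, brK_mul (hQ.to_le hR'Q) (brK_mem_invAlg_self R' e) hblkR', brK_idempotent,
      brK_blkK]
  have hl : brK R' e * y = y := by rw [hy_eq, ← mul_assoc, hbi.eq]
  have hr : y * brK R' e = y := by
    rw [hy_eq, mul_assoc, ← ((Commute.one_right _).sub_right hcomm).eq, ← mul_assoc, hbi.eq]
  refine eq_zero_of_brK_vanish hQ hQR hlt he hne hyT hyR hyi hyb hl hr fun W hW hWT => ?_
  obtain ⟨w, hwle, hbw⟩ := normalSubpair_below hM hPe hle hW.le (hWT.trans inf_le_left)
    (hWT.trans inf_le_right)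
  have hWp : IsPGroup p W := hQ.to_le (hWT.trans inf_le_left)
  have hcard : Nat.card Q - Nat.card W < n := by
    have h1 : Nat.card R' < Nat.card W :=
      lt_of_not_ge fun h => hW.ne (Subgroup.eq_of_le_of_card_ge hW.le h)
    have h2 := Subgroup.card_le_of_le (hWT.trans (inf_le_left : T ≤ Q))
    omega
  have hih := ih _ hcard W w hwle rfl
  have hblkW := invAlg_anti hWT hblkT
  have hbW := invAlg_anti (hWT.trans inf_le_left) heQ
  have hsel := brK_blkK_mul_of_normal hM hbw
  have hcw : Commute (blkK hM W w) (brK W (blkK hM R' b)) :=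
    blkK_commute hM w (brK_idempotent W _)
  rw [hy, brK_sub, brK_mul hWp (brK_mem_invAlg (hWT.trans inf_le_right) hbW) hblkW,
    brK_brK_of_le hW.le]
  conv_lhs => rw [← hih]
  rw [mul_assoc (brK W e) (blkK hM W w), hcw.eq, hsel, sub_self]

end Cfsg.Lib.Block
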