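import Cfsg.Agent.Lib.Block.StarStab
import Cfsg.Agent.Lib.Char.Linear
import Mathlib.GroupTheory.GroupAction.Quotient
import Mathlib.GroupTheory.Commutator.Basic

/-!
# The action of the linear characters of the defect group modulo the focal subgroup

The star product makes the group of linear characters of `P / foc` act on the block, preserving
heights; the orbits give divisibilities of the numbers of characters of given height.
-/

set_option autoImplicit false
set_option linter.unusedSectionVars false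
set_option linter.style.haveILetI false
set_option maxHeartbeats 800000

namespace Cfsg.Lib.Block

open Cfsg
open scoped ComplexConjugate commutatorElement

universe u

noncomputable local instance (priority := high) fintypeSubgroupStarCount {A : Type u} [Group A]
    [Fintype A] (H : Subgroup A) : Fintype H := Fintype.ofFinite H

local notation "C[" Q "]" => Subgroup.centralizer (SetLike.coe Q)

/-- Orbits of stabilisers inside a subgroup have cardinality divisible by its index. -/
theorem index_dvd_card_of_stabilizer {L S : Type*} [Group L] [MulAction L S] [Finite S]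
    {K : Subgroup L} (h : ∀ s : S, MulAction.stabilizer L s ≤ K) : K.index ∣ Nat.card S := by
  classical
  haveI : Finite (Quotient (MulAction.orbitRel L S)) := Quotient.finite _
  haveI := Fintype.ofFinite (Quotient (MulAction.orbitRel L S))
  rw [Nat.card_congr (MulAction.selfEquivSigmaOrbitsQuotientStabilizer L S)]
  by_cases hfin : ∀ ω : Quotient (MulAction.orbitRel L S),
      Finite (L ⧸ MulAction.stabilizer L ω.out)
  · rw [Nat.card_sigma]
    exact Finset.dvd_sum fun ω _ => Subgroup.index_dvd_of_le (h _)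
  · simp only [not_forall] at hfin
    obtain ⟨ω, hω⟩ := hfin
    exact absurd (Finite.of_injective (MulAction.orbitEquivQuotientStabilizer L ω.out).symm
      (Equiv.injective _)) hω

/-- The characters of a finite abelian group trivial on a subgroup. -/
theorem index_annihilator {A : Type u} [CommGroup A] [Finite A] (Z : Subgroup A)
    {K : Subgroup (A →* ℂˣ)} (hK : ∀ φ, φ ∈ K ↔ Z ≤ φ.ker) : K.index = Nat.card Z := by
  haveI : Finite (A →* ℂˣ) := by
    apply Nat.finite_of_card_ne_zero
    rw [Char.card_monoidHom_units]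
    exact Nat.card_pos.ne'
  have e : Nat.card K = Nat.card ((A ⧸ Z) →* ℂˣ) := Nat.card_congr
    { toFun := fun φ => QuotientGroup.lift Z φ.1 ((hK φ.1).1 φ.2)
      invFun := fun ψ => ⟨ψ.comp (QuotientGroup.mk' Z), (hK _).2 fun z hz => by
        rw [MonoidHom.mem_ker, MonoidHom.comp_apply, QuotientGroup.mk'_apply,
          (QuotientGroup.eq_one_iff z).2 hz, map_one]⟩
      left_inv := fun φ => Subtype.ext (MonoidHom.ext fun a => rfl)
      right_inv := fun ψ => QuotientGroup.monoidHom_ext Z (MonoidHom.ext fun a => rfl) }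
  have h1 := K.card_mul_index
  rw [e, Char.card_monoidHom_units, Char.card_monoidHom_units,
    ← Z.card_mul_index, Subgroup.index, mul_comm (Nat.card Z)] at h1
  exact Nat.eq_of_mul_eq_mul_left Nat.card_pos h1

variable {p : ℕ} {M : Ideal AlgInt} (hM : IsPModular p M) {G : Type u} [Group G] [Fintype G]
  [Fact p.Prime] {B : Set (IrrCharacter G)} {P : Subgroup G} {e : Set (IrrCharacter C[P])}
  {F : FusionSystem P}

/-- The linear character of the group belonging to one of the quotient. -/
noncomputable def lamOf {N : Subgroup P} [N.Normal] (φ : (P ⧸ N) →* ℂˣ) (g : G) : ℂ :=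
  open Classical in if h : g ∈ P then ((φ ((⟨g, h⟩ : P) : P ⧸ N) : ℂˣ) : ℂ) else 0

theorem lamOf_mem {N : Subgroup P} [N.Normal] (φ : (P ⧸ N) →* ℂˣ) {g : G} (h : g ∈ P) :
    lamOf φ g = ((φ ((⟨g, h⟩ : P) : P ⧸ N) : ℂˣ) : ℂ) := by
  rw [lamOf, dif_pos h]

theorem commutator_le_focal (hF : IsBlockFusionSystemOn p M B P e F) :
    commutator P ≤ F.focalSubgroup.subgroupOf P := by
  rw [commutator_def, Subgroup.commutator_le]
  intro a _ b _
  rw [Subgroup.mem_subgroupOf]
  refine Subgroup.subset_closure ⟨P, conjHom P (b : G), a⁻¹, F.conj_mem le_rfl b.2, ?_⟩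
  show ((⁅a, b⁆ : P) : G) = ((a⁻¹ : P) : G)⁻¹ * ((b : G) * ((a⁻¹ : P) : G) * (b : G)⁻¹)
  simp only [commutatorElement_def, Subgroup.coe_mul, InvMemClass.coe_inv, inv_inv, mul_assoc]

include hM in
theorem isFocChar_lamOf (hF : IsBlockFusionSystemOn p M B P e F) {N : Subgroup P} [N.Normal]
    (hN : F.focalSubgroup.subgroupOf P ≤ N) (φ : (P ⧸ N) →* ℂˣ) :
    IsFocChar p M P e (lamOf φ) where
  map_mul x hx y hy := by
    rw [lamOf_mem φ hx, lamOf_mem φ hy, lamOf_mem φ (mul_mem hx hy), ← Units.val_mul, ← map_mul]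
    rfl
  map_one := by
    rw [lamOf_mem φ (one_mem P), show ((⟨1, one_mem P⟩ : P) : P ⧸ N) = 1 from rfl, map_one,
      Units.val_one]
  fusion v g b h1 h2 := by
    have hv : v ∈ P := subpairLE_le h1 (Subgroup.mem_zpowers v)
    have hgv : g * v * g⁻¹ ∈ P := le_of_rel h2 ⟨v, Subgroup.mem_zpowers v, rfl⟩
    rw [lamOf_mem φ hgv, lamOf_mem φ hv]
    congr 2
    rw [eq_comm, QuotientGroup.eq]
    refine hN (Subgroup.mem_subgroupOf.2 ?_)
    push_cast
    refine Subgroup.subset_closure ⟨Subgroup.zpowers v, conjHom _ g,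
      ⟨v, Subgroup.mem_zpowers v⟩, ?_, rfl⟩
    exact (hF.2 _ _).2 ⟨subpairLE_le h1, g, fun u => rfl, le_of_rel h2, b, h1, h2⟩

variable (hF : IsBlockFusionSystemOn p M B P e F) {N : Subgroup P} [N.Normal]
  (hN : F.focalSubgroup.subgroupOf P ≤ N)

/-- The action of a linear character on the block. -/
noncomputable def starAct (φ : (P ⧸ N) →* ℂˣ) (χ : B) : B :=
  ⟨(exists_starIrr hM hF.1 (isFocChar_lamOf hM hF hN φ) χ.2).choose,
    (exists_starIrr hM hF.1 (isFocChar_lamOf hM hF hN φ) χ.2).choose_spec.1⟩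

theorem starAct_spec (φ : (P ⧸ N) →* ℂˣ) (χ : B) :
    (((starAct hM hF hN φ χ : B) : IrrCharacter G) : G → ℂ) =
      starFn hM P e (lamOf φ) (χ : IrrCharacter G) :=
  (exists_starIrr hM hF.1 (isFocChar_lamOf hM hF hN φ) χ.2).choose_spec.2

/-- The linear characters act on the block. -/
noncomputable def starMulAction : MulAction ((P ⧸ N) →* ℂˣ) B where
  smul φ χ := starAct hM hF hN φ χ
  one_smul χ := by
    refine Subtype.ext (Subtype.ext ?_)
    show (((starAct hM hF hN 1 χ : B) : IrrCharacter G) : G → ℂ) = _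
    rw [starAct_spec, starFn_trivial hM hF.1 (isFocChar_lamOf hM hF hN 1) χ.2 fun x hx => by
      rw [lamOf_mem _ hx]; rfl]
  mul_smul φ ψ χ := by
    refine Subtype.ext (Subtype.ext ?_)
    show (((starAct hM hF hN (φ * ψ) χ : B) : IrrCharacter G) : G → ℂ) =
      (((starAct hM hF hN φ (starAct hM hF hN ψ χ) : B) : IrrCharacter G) : G → ℂ)
    rw [starAct_spec, starAct_spec,
      starFn_comp hM hF.1 (isFocChar_lamOf hM hF hN ψ) χ.2 (isFocChar_lamOf hM hF hN φ)
        (starAct_spec hM hF hN ψ χ)]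
    congr 1
    funext g
    by_cases hg : g ∈ P
    · simp [lamOf_mem _ hg]
    · simp [lamOf, hg]

include hM hF in
theorem blockHeight_starAct (φ : (P ⧸ N) →* ℂˣ) (χ : B) :
    blockHeight p B (((starAct hM hF hN φ χ : B) : IrrCharacter G) : G → ℂ) =
      blockHeight p B ((χ : IrrCharacter G) : G → ℂ) := by
  have h1 : (((starAct hM hF hN φ χ : B) : IrrCharacter G) : G → ℂ) 1 =
      ((χ : IrrCharacter G) : G → ℂ) 1 := by
    rw [starAct_spec]
    exact starFn_reg hM hF.1 (isFocChar_lamOf hM hF hN φ) χ.2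
      (by simp [IsPRegular, (Fact.out : p.Prime).ne_one])
  simp only [blockHeight, charDegree, h1]

include hM hF hN in
/-- The divisibility attached to a subgroup containing all stabilisers. -/
theorem index_dvd_card_height (h : ℕ) {K : Subgroup ((P ⧸ N) →* ℂˣ)}
    (hK : ∀ (φ : (P ⧸ N) →* ℂˣ) (χ : IrrCharacter G), χ ∈ B → blockHeight p B (χ : G → ℂ) = h →
      starFn hM P e (lamOf φ) χ = χ → φ ∈ K) :
    K.index ∣ Nat.card {χ : IrrCharacter G // χ ∈ B ∧ blockHeight p B (χ : G → ℂ) = h} := by
  letI := starMulAction hM hF hN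
  let S := {χ : B // blockHeight p B ((χ : IrrCharacter G) : G → ℂ) = h}
  letI : MulAction ((P ⧸ N) →* ℂˣ) S :=
    { smul := fun φ χ => ⟨φ • χ.1, by
        show blockHeight p B (((starAct hM hF hN φ χ.1 : B) : IrrCharacter G) : G → ℂ) = h
        rw [blockHeight_starAct, χ.2]⟩
      one_smul := fun χ => Subtype.ext (one_smul _ χ.1)
      mul_smul := fun φ ψ χ => Subtype.ext (mul_smul φ ψ χ.1) }
  have e : Nat.card S = Nat.card {χ : IrrCharacter G // χ ∈ B ∧ blockHeight p B (χ : G → ℂ) = h} :=
    Nat.card_congr ⟨fun χ => ⟨χ.1.1, χ.1.2, χ.2⟩, fun χ => ⟨⟨χ.1, χ.2.1⟩, χ.2.2⟩,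
      fun _ => rfl, fun _ => rfl⟩
  rw [← e]
  refine index_dvd_card_of_stabilizer fun s φ hφ => hK φ s.1.1 s.1.2 s.2 ?_
  have hs : φ • s = s := hφ
  have h1 : ((((starAct hM hF hN φ s.1 : B)) : IrrCharacter G) : G → ℂ) = (s.1.1 : G → ℂ) :=
    congrArg (fun t : S => ((t.1 : IrrCharacter G) : G → ℂ)) hs
  rwa [starAct_spec] at h1

end Cfsg.Lib.Block
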