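import Mathlib

/-!
# The arithmetic of blocks with quaternion or semidihedral defect group

The pairings at the central involution give integers `s, y, y'` with known sums of squares and
products; together with a column `F` of norm four which is odd at height zero they determine the
number of characters and their heights.
-/

set_option autoImplicit false
set_option linter.unusedSectionVars false
set_option maxHeartbeats 1600000

namespace Cfsg.Lib.Block

open Finset

variable {α : Type*}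

/-- A sum of squares of nonzero integers exceeds their number by zero or at least three. -/
theorem sum_sq_cases (s : Finset α) (c : α → ℤ) (h : ∀ x ∈ s, c x ≠ 0) :
    ((∑ x ∈ s, c x * c x = s.card) ∧ ∀ x ∈ s, c x = 1 ∨ c x = -1) ∨
      (s.card : ℤ) + 3 ≤ ∑ x ∈ s, c x * c x := by
  classical
  have h1 : ∀ x ∈ s, 1 ≤ c x * c x := fun x hx => by
    rcases lt_or_gt_of_ne (h x hx) with a | a <;> nlinarith
  by_cases hall : ∀ x ∈ s, c x = 1 ∨ c x = -1
  · left
    refine ⟨?_, hall⟩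
    rw [Finset.sum_congr rfl (g := fun _ => (1 : ℤ)) fun x hx => by
      rcases hall x hx with a | a <;> rw [a] <;> norm_num]
    simp
  · right
    simp only [not_forall] at hall
    obtain ⟨x, hx, hne⟩ := hall
    have h4 : 4 ≤ c x * c x := by
      simp only [not_or] at hne
      have h0 := h x hx
      rcases lt_or_gt_of_ne h0 with a | a
      · have : c x ≤ -2 := by omega
        nlinarith
      · have : 2 ≤ c x := by omega
        nlinarith
    rw [← Finset.add_sum_erase s _ hx, ← Finset.card_erase_add_one hx]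
    have h2 : ((s.erase x).card : ℤ) ≤ ∑ z ∈ s.erase x, c z * c z := by
      rw [Finset.card_eq_sum_ones]
      push_cast
      exact Finset.sum_le_sum fun z hz => h1 z (Finset.mem_of_mem_erase hz)
    push_cast
    linarith

/-- Exact divisibility by a power of two. -/
def TwoExact (u : ℤ) (t : ℕ) : Prop := ∃ r : ℤ, Odd r ∧ u = 2 ^ t * r

theorem TwoExact.ne_zero {u : ℤ} {t : ℕ} (h : TwoExact u t) : u ≠ 0 := by
  obtain ⟨r, hr, rfl⟩ := h
  exact mul_ne_zero (pow_ne_zero _ two_ne_zero) (fun e => by rw [e] at hr; simp at hr)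

theorem TwoExact.unique {u : ℤ} {t t' : ℕ} (h : TwoExact u t) (h' : TwoExact u t') : t = t' := by
  obtain ⟨r, hr, rfl⟩ := h
  obtain ⟨r', hr', he⟩ := h'
  wlog hle : t ≤ t' generalizing t t' r r'
  · exact (this r' hr' r hr he.symm (by omega)).symm
  obtain ⟨d, rfl⟩ := Nat.exists_eq_add_of_le hle
  rw [pow_add, mul_assoc] at he
  have e := mul_left_cancel₀ (pow_ne_zero _ two_ne_zero) he
  rcases Nat.eq_zero_or_pos d with rfl | hd
  · rfl
  · exfalso
    obtain ⟨d', rfl⟩ := Nat.exists_eq_add_of_le hd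
    rw [pow_add, pow_one, mul_assoc] at e
    rw [e, Int.odd_iff] at hr
    omega

theorem TwoExact.odd_iff {u : ℤ} {t : ℕ} (h : TwoExact u t) : t = 0 ↔ Odd u := by
  obtain ⟨r, hr, rfl⟩ := h
  rcases t with _ | t
  · simpa using hr
  · refine iff_of_false (Nat.succ_ne_zero t) (Int.not_odd_iff_even.2 ⟨2 ^ t * r, ?_⟩)
    ring

theorem twoExact_two_mul {r : ℤ} (hr : Odd r) : TwoExact (2 * r) 1 := ⟨r, hr, by norm_num⟩

theorem eq_of_two_pow_sum : ∀ (m x y c : ℕ), 0 < x → x + y = 2 ^ m → 0 < y → x * y = c * c →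
    x = y := by
  intro m
  induction m with
  | zero => intro x y c hx hsum hy _; simp at hsum; omega
  | succ m ih =>
    intro x y c hx hsum hy hmul
    rw [pow_succ] at hsum
    rcases Nat.even_or_odd x with ⟨x', rfl⟩ | hxo
    · obtain ⟨y', rfl⟩ : ∃ y', y = y' + y' := ⟨y / 2, by omega⟩
      obtain ⟨c', rfl⟩ : ∃ c', c = c' + c' := by
        have h2 : Even (c * c) := ⟨x' * (y' + y'), by rw [← hmul]; ring⟩
        exact (Nat.even_mul.1 h2).elim id id
      rw [ih x' y' c' (by omega) (by omega) (by omega) (by nlinarith)]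
    · have hco : Nat.Coprime x y := by
        have h1 : Nat.gcd x y ∣ 2 ^ m * 2 := hsum ▸ dvd_add (Nat.gcd_dvd_left x y) (Nat.gcd_dvd_right x y)
        rw [← pow_succ] at h1
        obtain ⟨j, -, hj⟩ := (Nat.dvd_prime_pow Nat.prime_two).1 h1
        rcases j with _ | j
        · exact hj
        · exfalso
          have h2 : 2 ∣ x := (dvd_pow_self 2 (Nat.succ_ne_zero j)).trans (hj ▸ Nat.gcd_dvd_left x y)
          rw [Nat.odd_iff] at hxo
          omega
      obtain ⟨a, ha⟩ := exists_eq_pow_of_mul_eq_pow (Nat.isUnit_iff.2 hco) (k := 2)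
        (show x * y = c ^ 2 by rw [hmul, sq])
      obtain ⟨b, hb⟩ := exists_eq_pow_of_mul_eq_pow (Nat.isUnit_iff.2 (Nat.Coprime.symm hco)) (k := 2)
        (show y * x = c ^ 2 by rw [mul_comm, hmul, sq])
      rcases m with _ | m
      · omega
      · exfalso
        rw [pow_succ] at hsum
        have hyo : Odd y := by rw [Nat.odd_iff] at hxo ⊢; omega
        have h8 : ∀ d : ℕ, Odd (d ^ 2) → d ^ 2 % 4 = 1 := by
          intro d hd
          obtain ⟨e, rfl⟩ := (Nat.odd_pow_iff two_ne_zero).1 hd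
          ring_nf
          omega
        have := h8 a (ha ▸ hxo)
        have := h8 b (hb ▸ hyo)
        rw [← ha] at *
        rw [← hb] at *
        omega

/-- The possible forms. -/
theorem tame_form_cases {h m : ℕ} (hh : h = 2 ^ m) {A B C : ℤ} (hA : Even A) (h1 : A * A + C * C = h * A)
    (h2 : B * B + C * C = h * B) (h3 : C * (A + B) = h * C) :
    (A = 0 ∧ B = 0 ∧ C = 0) ∨ (A = h ∧ B = 0 ∧ C = 0) ∨ (A = 0 ∧ B = h ∧ C = 0) ∨
      (A = h ∧ B = h ∧ C = 0) ∨
      (∃ q : ℤ, Even q ∧ (h : ℤ) = 2 * q ∧ A = q ∧ B = q ∧ (C = q ∨ C = -q)) := by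
  by_cases hC : C = 0
  · subst hC
    have a : A = 0 ∨ A = h := by
      rcases mul_eq_zero.1 (show A * (A - h) = 0 by linarith) with e | e
      · exact Or.inl e
      · exact Or.inr (by linarith)
    have b : B = 0 ∨ B = h := by
      rcases mul_eq_zero.1 (show B * (B - h) = 0 by linarith) with e | e
      · exact Or.inl e
      · exact Or.inr (by linarith)
    rcases a with rfl | rfl <;> rcases b with rfl | rfl <;> simp
  · have hAB : A + B = h := mul_left_cancel₀ hC (by rw [h3]; ring)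
    have hpos : 0 < C * C := mul_self_pos.2 hC
    have hApos : 0 < A := by
      rcases le_or_gt A 0 with a | a
      · nlinarith [mul_self_nonneg A]
      · exact a
    have hBpos : 0 < B := by
      rcases le_or_gt B 0 with a | a
      · nlinarith [mul_self_nonneg B]
      · exact a
    have hprod : A * B = C * C := by
      have : B = h - A := by linarith
      rw [this]; linarith
    obtain ⟨x, rfl⟩ := Int.eq_ofNat_of_zero_le hApos.le
    obtain ⟨y, rfl⟩ := Int.eq_ofNat_of_zero_le hBpos.le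
    have hxy : x = y := eq_of_two_pow_sum m x y C.natAbs (by omega) (by omega) (by omega) (by
      have := congrArg Int.natAbs hprod
      rwa [Int.natAbs_mul, Int.natAbs_mul, Int.natAbs_natCast, Int.natAbs_natCast] at this)
    subst hxy
    refine Or.inr (Or.inr (Or.inr (Or.inr ⟨x, hA, by linarith, rfl, rfl, ?_⟩)))
    exact mul_self_eq_mul_self_iff.1 hprod.symm

/-- The invariants to be proved. -/
def TameShape (B : Finset α) (h m : ℕ) (ht : α → ℕ) : Prop :=
  (B.filter fun x => ht x = 0).card = 4 ∧ (∀ x ∈ B, ht x = 0 ∨ ht x = 1 ∨ ht x = m) ∧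
    (4 ≤ h → (B.filter fun x => ht x = 1).card = h - 1)

/-- Four signs and no others. -/
theorem four_sq [DecidableEq α] (B : Finset α) (y : α → ℤ) (h : ∑ x ∈ B, y x * y x = 4) :
    (∀ x ∈ B, y x = 0 ∨ y x = 1 ∨ y x = -1) ∧ (B.filter fun x => y x ≠ 0).card = 4 ∨
      ∃ R ∈ B, (y R = 2 ∨ y R = -2) ∧ ∀ x ∈ B, x ≠ R → y x = 0 := by
  have hb : ∀ x ∈ B, y x * y x ≤ 4 := fun x hx =>
    h ▸ Finset.single_le_sum (f := fun z => y z * y z) (fun z _ => mul_self_nonneg _) hx
  by_cases hR : ∃ R ∈ B, y R = 2 ∨ y R = -2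
  · obtain ⟨R, hR, hv⟩ := hR
    refine Or.inr ⟨R, hR, hv, fun x hx hne => ?_⟩
    rw [← Finset.add_sum_erase B _ hR] at h
    have e : y R * y R = 4 := by rcases hv with a | a <;> rw [a] <;> norm_num
    have h0 : ∑ z ∈ B.erase R, y z * y z = 0 := by linarith
    exact mul_self_eq_zero.1 ((Finset.sum_eq_zero_iff_of_nonneg fun z _ => mul_self_nonneg (y z)).1 h0 x
      (Finset.mem_erase.2 ⟨hne, hx⟩))
  · have hv : ∀ x ∈ B, y x = 0 ∨ y x = 1 ∨ y x = -1 := fun x hx => by
      have h1 : -2 ≤ y x ∧ y x ≤ 2 := ⟨by nlinarith [hb x hx], by nlinarith [hb x hx]⟩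
      have h2 : y x ≠ 2 ∧ y x ≠ -2 :=
        ⟨fun e => hR ⟨x, hx, Or.inl e⟩, fun e => hR ⟨x, hx, Or.inr e⟩⟩
      omega
    refine Or.inl ⟨hv, ?_⟩
    have e : ∑ x ∈ B.filter (fun x => y x ≠ 0), y x * y x = 4 := by
      rw [← h]
      exact Finset.sum_filter_of_ne fun x _ hne h0 => hne (by rw [h0, zero_mul])
    rw [Finset.sum_congr rfl (g := fun _ => (1 : ℤ)) fun x hx => by
      obtain ⟨hx, hne⟩ := Finset.mem_filter.1 hx
      rcases hv x hx with a | a | a
      · exact absurd a hne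
      all_goals rw [a]; norm_num, Finset.sum_const, nsmul_eq_mul, mul_one] at e
    exact_mod_cast e

theorem even_sum_signs (s : Finset α) (f : α → ℤ) (hf : ∀ x ∈ s, f x = 1 ∨ f x = -1)
    (h0 : ∑ x ∈ s, f x = 0) : Even s.card := by
  have e : Even (∑ x ∈ s, (f x + 1)) := Finset.even_sum _ fun x hx => by
    rcases hf x hx with a | a <;> rw [a] <;> decide
  rw [Finset.sum_add_distrib, h0, Finset.sum_const, nsmul_eq_mul, mul_one, zero_add] at e
  exact_mod_cast e

theorem odd_sq_ge {u : ℤ} (hu : Odd u) : u * u = 1 ∨ 9 ≤ u * u := by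
  obtain ⟨e, rfl⟩ := hu
  rcases lt_trichotomy e 0 with a | a | a
  · rcases eq_or_lt_of_le (show e ≤ -1 by omega) with b | b
    · subst b; norm_num
    · right; nlinarith
  · subst a; norm_num
  · right; nlinarith

theorem sq_eq_or_add_ne (x y : ℤ) : x + y ≠ 0 ∨ x * x = y * y := by
  by_cases h : x + y = 0
  · right
    rw [show y = -x by omega]
    ring
  · exact Or.inl h

/-- Four odd numbers cannot have sum of squares twelve under two balanced sign conditions. -/
theorem no_twelve {t₁ t₂ t₃ t₄ g₁ g₂ g₃ g₄ : ℤ} (o₁ : Odd t₁) (o₂ : Odd t₂) (o₃ : Odd t₃)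
    (o₄ : Odd t₄) (hg₁ : g₁ = 1 ∨ g₁ = -1) (hg₂ : g₂ = 1 ∨ g₂ = -1) (hg₃ : g₃ = 1 ∨ g₃ = -1)
    (hg₄ : g₄ = 1 ∨ g₄ = -1) (hg : g₁ + g₂ + g₃ + g₄ = 0) (ht : t₁ + t₂ + t₃ + t₄ = 0)
    (hgt : g₁ * t₁ + g₂ * t₂ + g₃ * t₃ + g₄ * t₄ = 0)
    (h12 : t₁ * t₁ + t₂ * t₂ + t₃ * t₃ + t₄ * t₄ = 12) : False := by
  have s₁ := odd_sq_ge o₁
  have s₂ := odd_sq_ge o₂
  have s₃ := odd_sq_ge o₃
  have s₄ := odd_sq_ge o₄
  have p12 := sq_eq_or_add_ne t₁ t₂
  have p34 := sq_eq_or_add_ne t₃ t₄
  have p13 := sq_eq_or_add_ne t₁ t₃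
  have p24 := sq_eq_or_add_ne t₂ t₄
  have p14 := sq_eq_or_add_ne t₁ t₄
  have p23 := sq_eq_or_add_ne t₂ t₃
  rcases hg₁ with rfl | rfl <;> rcases hg₂ with rfl | rfl <;> rcases hg₃ with rfl | rfl <;>
    rcases hg₄ with rfl | rfl <;> omega

/-- The corrections at the two rows where both sign functions are nonzero. -/
theorem pair_corrections {t₁ t₂ u₁ u₂ a₁ a₂ δ : ℤ} (o₁ : Odd t₁) (o₂ : Odd t₂) (o₃ : Odd u₁)
    (o₄ : Odd u₂) (hδ : δ = 1 ∨ δ = -1) (e₁ : t₁ + t₂ + 2 * (a₁ + a₂) = 0)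
    (e₂ : u₁ + u₂ + 2 * (δ * (a₁ - a₂)) = 0)
    (hle : t₁ * t₁ + t₂ * t₂ + (u₁ * u₁ + u₂ * u₂) + 4 * (a₁ * a₁) + 4 * (a₂ * a₂) ≤ 12) :
    t₁ * t₁ = 1 ∧ t₂ * t₂ = 1 ∧ u₁ * u₁ = 1 ∧ u₂ * u₂ = 1 ∧
      (a₁ = 0 ∧ a₂ = 0 ∨ (a₁ = 1 ∨ a₁ = -1) ∧ a₂ = 0 ∨ a₁ = 0 ∧ (a₂ = 1 ∨ a₂ = -1)) := by
  have s₁ := odd_sq_ge o₁
  have s₂ := odd_sq_ge o₂
  have s₃ := odd_sq_ge o₃
  have s₄ := odd_sq_ge o₄
  have p := sq_eq_or_add_ne t₁ t₂
  have q := sq_eq_or_add_ne u₁ u₂
  have b₁ : -1 ≤ a₁ ∧ a₁ ≤ 1 := ⟨by nlinarith [mul_self_nonneg a₂, mul_self_nonneg t₁],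
    by nlinarith [mul_self_nonneg a₂, mul_self_nonneg t₁]⟩
  have b₂ : -1 ≤ a₂ ∧ a₂ ≤ 1 := ⟨by nlinarith [mul_self_nonneg a₁, mul_self_nonneg t₁],
    by nlinarith [mul_self_nonneg a₁, mul_self_nonneg t₁]⟩
  have r : ∀ v : ℤ, v * v = 1 → v = 1 ∨ v = -1 := fun v hv => mul_self_eq_one_iff.1 hv
  obtain ⟨b₁, b₁'⟩ := b₁
  obtain ⟨b₂, b₂'⟩ := b₂
  interval_cases a₁ <;> interval_cases a₂ <;> rcases hδ with rfl | rfl <;>
    norm_num at e₁ e₂ hle <;> norm_num <;>
    (first
      | omega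
      | (have := r t₁ (by omega); have := r t₂ (by omega); have := r u₁ (by omega)
         have := r u₂ (by omega); omega))

theorem card_odd_mul_le (B : Finset α) (F : α → ℤ) (p : α → Prop) [DecidablePred p]
    (hF : ∑ x ∈ B, F x * F x = 4) (hodd : ∀ x ∈ B, p x → Odd (F x)) :
    (B.filter p).card ≤ 4 := by
  have h : ((B.filter p).card : ℤ) ≤ 4 := by
    rw [← hF, Finset.card_eq_sum_ones]
    push_cast
    refine (Finset.sum_le_sum fun x hx => ?_).trans
      (Finset.sum_le_sum_of_subset_of_nonneg (Finset.filter_subset p B) fun x _ _ => mul_self_nonneg _)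
    obtain ⟨hx, hp⟩ := Finset.mem_filter.1 hx
    have : F x ≠ 0 := fun e => by simpa [e] using hodd x hx hp
    rcases lt_or_gt_of_ne this with a | a <;> nlinarith
  exact_mod_cast h

/-- Sums of odd squares are congruent to their number modulo eight. -/
theorem sum_odd_sq (s : Finset α) (u : α → ℤ) (h : ∀ x ∈ s, Odd (u x)) :
    ∃ j : ℤ, 0 ≤ j ∧ ∑ x ∈ s, u x * u x = s.card + 8 * j ∧
      (j = 0 → ∀ x ∈ s, u x = 1 ∨ u x = -1) := by
  have hd : ∀ x ∈ s, ∃ j : ℤ, 0 ≤ j ∧ u x * u x = 1 + 8 * j := by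
    intro x hx
    obtain ⟨e, he⟩ := h x hx
    obtain ⟨f, hf⟩ := Int.even_mul_succ_self e
    refine ⟨f, ?_, by rw [he]; linarith⟩
    rcases le_or_gt 0 e with a | a
    · nlinarith
    · have : e + 1 ≤ 0 := by omega
      nlinarith [mul_nonneg (neg_nonneg.2 a.le) (neg_nonneg.2 this)]
  choose! j hj0 hj using hd
  refine ⟨∑ x ∈ s, j x, Finset.sum_nonneg hj0, ?_, fun h0 x hx => ?_⟩
  · rw [Finset.sum_congr rfl hj, Finset.sum_add_distrib, Finset.mul_sum]
    simp
  · have := (Finset.sum_eq_zero_iff_of_nonneg hj0).1 h0 x hx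
    exact mul_self_eq_one_iff.1 (by rw [hj x hx, this]; norm_num)

section Cases

variable [DecidableEq α] {B : Finset α} {h m : ℕ} {ht : α → ℕ} {s F : α → ℤ}
  (hh : h = 2 ^ m) (hm : 1 ≤ m) (hF : ∑ x ∈ B, F x * F x = 4)
  (hFo : ∀ x ∈ B, ht x = 0 → Odd (F x)) (hne : ∃ x ∈ B, ht x = 0)
  (hss : ∑ x ∈ B, s x * s x = 4 * h) (hpar : ∀ x ∈ B, ht x = 0 ↔ Odd (s x))

include hpar in
theorem exists_half : ∀ x ∈ B, ht x ≠ 0 → ∃ c : ℤ, s x = 2 * c := fun x hx h0 => by
  have : ¬ Odd (s x) := fun e => h0 ((hpar x hx).2 e)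
  obtain ⟨c, hc⟩ := Int.not_odd_iff_even.1 this
  exact ⟨c, by omega⟩

include hh hm hF hFo hne hss hpar in
/-- One regular restriction. -/
theorem tame_shape_one (hx : ∀ x ∈ B, TwoExact (s x) (ht x)) (hk : h + 2 ≤ B.card) :
    B.card = h + 3 ∧ TameShape B h m ht := by
  classical
  set S := B.filter fun x => ht x = 0 with hS
  set R := B.filter fun x => ¬ ht x = 0 with hR
  have hc : S.card + R.card = B.card :=
    Finset.card_filter_add_card_filter_not (s := B) (fun x => ht x = 0)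
  have hsum : ∑ x ∈ S, s x * s x + ∑ x ∈ R, s x * s x = ∑ x ∈ B, s x * s x :=
    Finset.sum_filter_add_sum_filter_not B (fun x => ht x = 0) fun x => s x * s x
  have ha : S.card ≤ 4 := card_odd_mul_le B F _ hF hFo
  have ha0 : 0 < S.card := Finset.card_pos.2 (hne.imp fun x hx => Finset.mem_filter.2 hx)
  obtain ⟨j, hj0, hj, hj1⟩ := sum_odd_sq S s fun x hx =>
    (hpar x (Finset.mem_filter.1 hx).1).1 (Finset.mem_filter.1 hx).2
  choose! c hcs using exists_half hpar
  have hc0 : ∀ x ∈ R, c x ≠ 0 := fun x hx' e => by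
    obtain ⟨hxB, hx0⟩ := Finset.mem_filter.1 hx'
    exact (hx x hxB).ne_zero (by rw [hcs x hxB hx0, e, mul_zero])
  have hRs : ∑ x ∈ R, s x * s x = 4 * ∑ x ∈ R, c x * c x := by
    rw [Finset.mul_sum]
    exact Finset.sum_congr rfl fun x hx' => by
      rw [hcs x (Finset.mem_filter.1 hx').1 (Finset.mem_filter.1 hx').2]; ring
  rw [hj, hRs, hss] at hsum
  have h2 : Even (h : ℤ) := by
    obtain ⟨m', rfl⟩ := Nat.exists_eq_add_of_le hm
    rw [hh, pow_add]; exact ⟨2 ^ m', by push_cast; ring⟩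
  obtain ⟨q, hq⟩ := h2
  rcases sum_sq_cases R c hc0 with ⟨hcc, hone⟩ | hbig
  · have hS4 : S.card = 4 := by omega
    have hj' : j = 0 := by omega
    refine ⟨by omega, hS4, fun x hxB => ?_, fun _ => ?_⟩
    · by_cases h0 : ht x = 0
      · exact Or.inl h0
      · refine Or.inr (Or.inl ((hx x hxB).unique ?_))
        rw [hcs x hxB h0]
        refine twoExact_two_mul ?_
        rcases hone x (Finset.mem_filter.2 ⟨hxB, h0⟩) with a | a <;> rw [a] <;> decide
    · have e : (B.filter fun x => ht x = 1) = R := by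
        refine Finset.filter_congr fun x hxB => ⟨fun e => by omega, fun h0 => (hx x hxB).unique ?_⟩
        rw [hcs x hxB h0]
        refine twoExact_two_mul ?_
        rcases hone x (Finset.mem_filter.2 ⟨hxB, h0⟩) with a | a <;> rw [a] <;> decide
      rw [e]
      omega
  · omega

include hh hF hFo hne hss hpar in
/-- Two regular restrictions. -/
theorem tame_shape_two {q : ℤ} (hq : (h : ℤ) = 2 * q) (hqe : Even q) {y : α → ℤ}
    (hyy : ∑ x ∈ B, y x * y x = 8) (hsy : ∑ x ∈ B, s x * y x = 0)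
    (hFy : ∑ x ∈ B, F x * y x = 0) (hFs : ∑ x ∈ B, F x * s x = 0)
    (hysp : ∀ x ∈ B, Even (s x + y x)) (hp : ∀ x ∈ B, TwoExact (s x + q * y x) (ht x))
    (hk : h + 2 ≤ B.card) : (B.card = h + 3 ∨ B.card = h + 4) ∧ TameShape B h m ht := by
  classical
  set S := B.filter fun x => ht x = 0 with hS
  have ha : S.card ≤ 4 := card_odd_mul_le B F _ hF hFo
  have ha0 : 0 < S.card := Finset.card_pos.2 (hne.imp fun x hx => Finset.mem_filter.2 hx)
  have hyodd : ∀ x ∈ B, ht x = 0 ↔ Odd (y x) := fun x hx => by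
    rw [hpar x hx]
    have := hysp x hx
    rw [Int.even_add] at this
    rw [← Int.not_even_iff_odd, ← Int.not_even_iff_odd, this]
  obtain ⟨j, hj0, hj, hj1⟩ := sum_odd_sq S y fun x hx =>
    (hyodd x (Finset.mem_filter.1 hx).1).1 (Finset.mem_filter.1 hx).2
  set R := B.filter fun x => ¬ ht x = 0 with hR
  have hyR : ∀ x ∈ R, ∃ e : ℤ, y x = 2 * e := fun x hx => by
    obtain ⟨hxB, h0⟩ := Finset.mem_filter.1 hx
    have : ¬ Odd (y x) := fun e => h0 ((hyodd x hxB).2 e)
    obtain ⟨e, he⟩ := Int.not_odd_iff_even.1 this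
    exact ⟨e, by omega⟩
  choose! e he using hyR
  have hsum : ∑ x ∈ S, y x * y x + ∑ x ∈ R, y x * y x = ∑ x ∈ B, y x * y x :=
    Finset.sum_filter_add_sum_filter_not B (fun x => ht x = 0) fun x => y x * y x
  rw [hj, hyy, Finset.sum_congr rfl (g := fun x => 4 * (e x * e x)) (s₁ := R) fun x hx => by
    rw [he x hx]; ring, ← Finset.mul_sum] at hsum
  have he0 : 0 ≤ ∑ x ∈ R, e x * e x := Finset.sum_nonneg fun x _ => mul_self_nonneg _
  have hS4 : S.card = 4 := by omega
  have hj' : j = 0 := by omega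
  have he1 : ∑ x ∈ R, e x * e x = 1 := by omega
  obtain ⟨T, hT, hTy⟩ : ∃ T ∈ R, e T ≠ 0 := by
    by_contra hn
    simp only [not_exists, not_and, not_not] at hn
    rw [Finset.sum_eq_zero fun x hx => by rw [hn x hx, zero_mul]] at he1
    exact zero_ne_one he1
  have hrest : ∀ x ∈ R, x ≠ T → e x = 0 := fun x hx hxT => by
    rw [← Finset.add_sum_erase R _ hT] at he1
    have h1 : 1 ≤ e T * e T := by rcases lt_or_gt_of_ne hTy with a | a <;> nlinarith
    have h0 : ∑ z ∈ R.erase T, e z * e z = 0 :=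
      le_antisymm (by linarith) (Finset.sum_nonneg fun z _ => mul_self_nonneg _)
    exact mul_self_eq_zero.1 ((Finset.sum_eq_zero_iff_of_nonneg fun z _ => mul_self_nonneg (e z)).1 h0 x
      (Finset.mem_erase.2 ⟨hxT, hx⟩))
  have heT : e T = 1 ∨ e T = -1 := by
    rw [← Finset.add_sum_erase R _ hT, Finset.sum_eq_zero fun z hz => by
      rw [hrest z (Finset.mem_of_mem_erase hz) (Finset.ne_of_mem_erase hz), zero_mul], add_zero] at he1
    exact mul_self_eq_one_iff.1 he1
  choose! c hc using exists_half hpar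
  set O := R.erase T with hO
  have hOmem : ∀ x ∈ O, x ∈ B ∧ ht x ≠ 0 ∧ y x = 0 := fun x hx => by
    obtain ⟨hxT, hxR⟩ := Finset.mem_erase.1 hx
    exact ⟨(Finset.mem_filter.1 hxR).1, (Finset.mem_filter.1 hxR).2,
      by rw [he x hxR, hrest x hxR hxT, mul_zero]⟩
  have hOc : ∀ x ∈ O, c x ≠ 0 := fun x hx hcx => by
    obtain ⟨hxB, h0, hy0⟩ := hOmem x hx
    exact (hp x hxB).ne_zero (by rw [hc x hxB h0, hcx, hy0]; ring)
  obtain ⟨hTB, hT0⟩ := Finset.mem_filter.1 hT
  obtain ⟨i, hi0, hi, hi1⟩ := sum_odd_sq S s fun x hx =>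
    (hpar x (Finset.mem_filter.1 hx).1).1 (Finset.mem_filter.1 hx).2
  have hsum2 : ∑ x ∈ S, s x * s x + ∑ x ∈ R, s x * s x = ∑ x ∈ B, s x * s x :=
    Finset.sum_filter_add_sum_filter_not B (fun x => ht x = 0) fun x => s x * s x
  rw [hi, hss, ← Finset.add_sum_erase R _ hT,
    Finset.sum_congr rfl (g := fun x => 4 * (c x * c x)) (s₁ := O) fun x hx => by
      rw [hc x (hOmem x hx).1 (hOmem x hx).2.1]; ring,
    ← Finset.mul_sum, hc T hTB hT0,
    show 2 * c T * (2 * c T) = 4 * (c T * c T) by ring] at hsum2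
  have hcard : S.card + R.card = B.card :=
    Finset.card_filter_add_card_filter_not (s := B) (fun x => ht x = 0)
  have hOcard : O.card + 1 = R.card := Finset.card_erase_add_one hT
  have hOone : (∀ x ∈ O, c x = 1 ∨ c x = -1) → ∀ x ∈ O, ht x = 1 := fun hall x hx => by
    obtain ⟨hxB, h0, hy0⟩ := hOmem x hx
    refine (hp x hxB).unique ?_
    rw [hc x hxB h0, hy0, mul_zero, add_zero]
    exact twoExact_two_mul (by rcases hall x hx with a | a <;> rw [a] <;> decide)
  have hsplit : ∀ x ∈ B, ht x = 0 ∨ x = T ∨ x ∈ O := fun x hx => by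
    by_cases h0 : ht x = 0
    · exact Or.inl h0
    · by_cases hxT : x = T
      · exact Or.inr (Or.inl hxT)
      · exact Or.inr (Or.inr (Finset.mem_erase.2 ⟨hxT, Finset.mem_filter.2 ⟨hx, h0⟩⟩))
  have hTm : ∀ t, TwoExact (s T + q * y T) t → ht T = t := fun t h' => (hp T hTB).unique h'
  obtain ⟨q', hq'⟩ := hqe
  rcases sum_sq_cases O c hOc with ⟨hcc, hone⟩ | hbig
  · rw [hcc] at hsum2
    rcases eq_or_ne (c T) 0 with hT2 | hT2
    · rw [hT2, mul_zero, mul_zero, zero_add] at hsum2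
      have hT1 : ht T = m := hTm m ⟨e T, by rcases heT with a | a <;> rw [a] <;> decide, by
        rw [hc T hTB hT0, hT2, he T hT, show (2 : ℤ) ^ m = ((h : ℕ) : ℤ) by rw [hh]; push_cast; rfl,
          hq]
        ring⟩
      by_cases hi' : i = 0
      · refine ⟨Or.inr (by omega), hS4, fun x hx => ?_, fun h4 => ?_⟩
        · rcases hsplit x hx with a | rfl | a
          · exact Or.inl a
          · exact Or.inr (Or.inr hT1)
          · exact Or.inr (Or.inl (hOone hone x a))
        · have e1 : (B.filter fun x => ht x = 1) = O := by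
            ext x
            rw [Finset.mem_filter]
            refine ⟨fun ⟨hx, h1⟩ => ?_, fun hx => ⟨(hOmem x hx).1, hOone hone x hx⟩⟩
            rcases hsplit x hx with a | rfl | a
            · omega
            · exfalso
              have : m ≠ 1 := fun e => by rw [hh, e] at h4; norm_num at h4
              omega
            · exact a
          rw [e1]
          omega
      · -- twelve as four odd squares contradicts the orthogonality to `F` and `y`
        exfalso
        have hi2 : i = 1 := by omega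
        have hB4 : ∀ x ∈ B, F x ≠ 0 → ht x = 0 := by
          intro x hx hFx
          by_contra h0
          have h2 : ∑ z ∈ S, F z * F z + ∑ z ∈ R, F z * F z = ∑ z ∈ B, F z * F z :=
            Finset.sum_filter_add_sum_filter_not B (fun x => ht x = 0) fun x => F x * F x
          obtain ⟨l, hl0, hl, -⟩ := sum_odd_sq S F fun z hz =>
            hFo z (Finset.mem_filter.1 hz).1 (Finset.mem_filter.1 hz).2
          rw [hF, hl] at h2
          have h3 : F x * F x ≤ ∑ z ∈ R, F z * F z :=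
            Finset.single_le_sum (f := fun z => F z * F z) (fun z _ => mul_self_nonneg _)
              (Finset.mem_filter.2 ⟨hx, h0⟩)
          have h4 : 1 ≤ F x * F x := by rcases lt_or_gt_of_ne hFx with a | a <;> nlinarith
          omega
        have hFS : ∀ f : α → ℤ, ∑ x ∈ B, F x * f x = ∑ x ∈ S, F x * f x := fun f => by
          refine (Finset.sum_subset (Finset.filter_subset _ B) fun x hx hn => ?_).symm
          have : F x = 0 := by_contra fun hFx => hn (Finset.mem_filter.2 ⟨hx, hB4 x hx hFx⟩)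
          rw [this, zero_mul]
        have hyS : ∑ x ∈ S, s x * y x = 0 := by
          rw [← hsy]
          refine Finset.sum_subset (Finset.filter_subset _ B) fun x hx hn => ?_
          rcases hsplit x hx with a | rfl | a
          · exact absurd (Finset.mem_filter.2 ⟨hx, a⟩) hn
          · rw [hc x hTB hT0, hT2]; ring
          · rw [(hOmem x a).2.2, mul_zero]
        obtain ⟨a, b, c', d, hab, hac, had, hbc, hbd, hcd, hset⟩ := Finset.card_eq_four.1 hS4
        have hmem : a ∈ S ∧ b ∈ S ∧ c' ∈ S ∧ d ∈ S := by rw [hset]; simp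
        have hl : ∑ x ∈ S, F x * F x ≤ 4 :=
          hF ▸ Finset.sum_le_sum_of_subset_of_nonneg (Finset.filter_subset _ B)
            (fun _ _ _ => mul_self_nonneg _)
        have four : ∀ f : α → ℤ, ∑ x ∈ S, f x = f a + f b + f c' + f d := fun f => by
          rw [hset, Finset.sum_insert (by simp [hab, hac, had]), Finset.sum_insert (by simp [hbc, hbd]),
            Finset.sum_pair hcd]
          ring
        have hodd : ∀ x ∈ S, (F x * F x = 1 ∨ 9 ≤ F x * F x) ∧ (s x * s x = 1 ∨ 9 ≤ s x * s x) :=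
          fun x hx => ⟨odd_sq_ge (hFo x (Finset.mem_filter.1 hx).1 (Finset.mem_filter.1 hx).2),
            odd_sq_ge ((hpar x (Finset.mem_filter.1 hx).1).1 (Finset.mem_filter.1 hx).2)⟩
        rw [four] at hl hyS
        rw [hFS, four] at hFy hFs
        rw [four] at hi
        obtain ⟨pa, sa⟩ := hodd a hmem.1
        obtain ⟨pb, sb⟩ := hodd b hmem.2.1
        obtain ⟨pc, sc⟩ := hodd c' hmem.2.2.1
        obtain ⟨pd, sd⟩ := hodd d hmem.2.2.2
        have hy1 : ∀ x ∈ S, y x = 1 ∨ y x = -1 := hj1 hj'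
        have hFone : ∀ x ∈ S, F x = 1 ∨ F x = -1 := fun x hx => by
          refine mul_self_eq_one_iff.1 ?_
          obtain ⟨pa, -⟩ := hodd a hmem.1
          obtain ⟨pb, -⟩ := hodd b hmem.2.1
          obtain ⟨pc, -⟩ := hodd c' hmem.2.2.1
          obtain ⟨pd, -⟩ := hodd d hmem.2.2.2
          rw [hset] at hx
          simp only [Finset.mem_insert, Finset.mem_singleton] at hx
          rcases hx with rfl | rfl | rfl | rfl <;> omega
        have hgo : ∀ x ∈ S, Odd (s x * y x) ∧ (F x * y x = 1 ∨ F x * y x = -1) ∧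
            F x * y x * (s x * y x) = F x * s x ∧ s x * y x * (s x * y x) = s x * s x := fun x hx => by
          have ho : Odd (s x) := (hpar x (Finset.mem_filter.1 hx).1).1 (Finset.mem_filter.1 hx).2
          rcases hy1 x hx with e | e <;> rcases hFone x hx with e' | e' <;> rw [e, e'] <;>
            refine ⟨?_, by norm_num, by ring, by ring⟩ <;> simpa using ho
        obtain ⟨o₁, g₁, k₁, n₁⟩ := hgo a hmem.1
        obtain ⟨o₂, g₂, k₂, n₂⟩ := hgo b hmem.2.1
        obtain ⟨o₃, g₃, k₃, n₃⟩ := hgo c' hmem.2.2.1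
        obtain ⟨o₄, g₄, k₄, n₄⟩ := hgo d hmem.2.2.2
        exact no_twelve o₁ o₂ o₃ o₄ g₁ g₂ g₃ g₄ hFy hyS (by rw [k₁, k₂, k₃, k₄]; exact hFs)
          (by rw [n₁, n₂, n₃, n₄]; omega)
    · obtain hT3 : 1 ≤ c T * c T := by rcases lt_or_gt_of_ne hT2 with a | a <;> nlinarith
      have hk3 : B.card ≤ h + 3 := by
        have : 0 ≤ i := hi0
        omega
      have hcT : c T * c T = 1 := by
        have h4 : c T * c T = 1 ∨ 4 ≤ c T * c T := by
          rcases lt_trichotomy (c T) 0 with a | a | a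
          · rcases eq_or_lt_of_le (show c T ≤ -1 by omega) with b | b
            · rw [b]; norm_num
            · right; nlinarith
          · exact absurd a hT2
          · rcases eq_or_lt_of_le (show 1 ≤ c T by omega) with b | b
            · rw [← b]; norm_num
            · right; nlinarith
        omega
      have hT1 : ht T = 1 := hTm 1 ⟨c T + q * e T, by
        rw [Int.odd_add]
        refine iff_of_true ?_ ⟨q' * e T, by rw [hq']; ring⟩
        rcases mul_self_eq_one_iff.1 hcT with a | a <;> rw [a] <;> decide, by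
        rw [hc T hTB hT0, he T hT]; ring⟩
      refine ⟨Or.inl (by omega), hS4, fun x hx => ?_, fun _ => ?_⟩
      · rcases hsplit x hx with a | rfl | a
        · exact Or.inl a
        · exact Or.inr (Or.inl hT1)
        · exact Or.inr (Or.inl (hOone hone x a))
      · have e1 : (B.filter fun x => ht x = 1) = R := by
          refine Finset.filter_congr fun x hx => ⟨fun e => by omega, fun h0 => ?_⟩
          rcases hsplit x hx with a | rfl | a
          · exact absurd a h0
          · exact hT1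
          · exact hOone hone x a
        rw [e1]
        omega
  · have : 0 ≤ i := hi0
    have := mul_self_nonneg (c T)
    omega

include hh hm hF hFo hne hss hpar in
/-- Three regular restrictions. -/
theorem tame_shape_three {y z : α → ℤ} (hyy : ∑ x ∈ B, y x * y x = 4)
    (hzz : ∑ x ∈ B, z x * z x = 4) (hyz : ∑ x ∈ B, y x * z x = 0)
    (hsy : ∑ x ∈ B, s x * y x = 0) (hsz : ∑ x ∈ B, s x * z x = 0)
    (hp : ∀ x ∈ B, TwoExact (s x + h * y x) (ht x) ∧ TwoExact (s x - h * y x) (ht x) ∧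
      TwoExact (-s x + h * z x) (ht x))
    (hysp : ∀ x ∈ B, Even (s x + y x + z x)) (hk : h + 3 ≤ B.card) :
    (B.card = h + 4 ∨ B.card = h + 5) ∧ TameShape B h m ht := by
  classical
  set S := B.filter fun x => ht x = 0 with hS
  have ha : S.card ≤ 4 := card_odd_mul_le B F _ hF hFo
  have ha0 : 0 < S.card := Finset.card_pos.2 (hne.imp fun x hx => Finset.mem_filter.2 hx)
  have hodd : ∀ x ∈ B, ht x = 0 ↔ Odd (y x + z x) := fun x hx => by
    rw [hpar x hx]
    have := hysp x hx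
    rw [add_assoc, Int.even_add] at this
    rw [← Int.not_even_iff_odd, ← Int.not_even_iff_odd, this]
  -- both are four signs
  have hy4 : (∀ x ∈ B, y x = 0 ∨ y x = 1 ∨ y x = -1) ∧ (B.filter fun x => y x ≠ 0).card = 4 ∧
      (∀ x ∈ B, z x = 0 ∨ z x = 1 ∨ z x = -1) ∧ (B.filter fun x => z x ≠ 0).card = 4 := by
    rcases four_sq B y hyy with ⟨y1, y2⟩ | ⟨R, hR, hRy, hRo⟩ <;>
      rcases four_sq B z hzz with ⟨z1, z2⟩ | ⟨T, hT, hTz, hTo⟩
    · exact ⟨y1, y2, z1, z2⟩
    · exfalso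
      rw [Finset.sum_eq_single_of_mem T hT fun x hx hne => by rw [hTo x hx hne, mul_zero]] at hyz hsz
      have hz0 : z T ≠ 0 := by omega
      have hy0 : y T = 0 := (mul_eq_zero.1 hyz).resolve_right hz0
      have hs0 : s T = 0 := (mul_eq_zero.1 hsz).resolve_right hz0
      exact (hp T hT).1.ne_zero (by rw [hy0, hs0]; ring)
    · exfalso
      rw [Finset.sum_eq_single_of_mem R hR fun x hx hne => by rw [hRo x hx hne, zero_mul]] at hyz
      rw [Finset.sum_eq_single_of_mem R hR fun x hx hne => by rw [hRo x hx hne, mul_zero]] at hsy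
      have hy0 : y R ≠ 0 := by omega
      have hz0 : z R = 0 := (mul_eq_zero.1 hyz).resolve_left hy0
      have hs0 : s R = 0 := (mul_eq_zero.1 hsy).resolve_right hy0
      exact (hp R hR).2.2.ne_zero (by rw [hz0, hs0]; ring)
    · exfalso
      obtain ⟨x, hx⟩ := Finset.card_pos.1 ha0
      obtain ⟨hxB, h0⟩ := Finset.mem_filter.1 hx
      have h1 := (hodd x hxB).1 h0
      rw [Int.odd_iff] at h1
      have : (x = R ∧ (y x = 2 ∨ y x = -2) ∨ y x = 0) ∧ (x = T ∧ (z x = 2 ∨ z x = -2) ∨ z x = 0) := by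
        constructor
        · by_cases hxR : x = R
          · exact Or.inl ⟨hxR, hxR ▸ hRy⟩
          · exact Or.inr (hRo x hxB hxR)
        · by_cases hxT : x = T
          · exact Or.inl ⟨hxT, hxT ▸ hTz⟩
          · exact Or.inr (hTo x hxB hxT)
      omega
  obtain ⟨hy1, hycard, hz1, hzcard⟩ := hy4
  set Y := B.filter fun x => y x ≠ 0 with hY
  set Z := B.filter fun x => z x ≠ 0 with hZ
  set C := Y ∩ Z with hC
  set P := Y \ Z with hP
  set Q := Z \ Y with hQ
  have hSPQ : S = P ∪ Q := by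
    ext x
    simp only [hS, hP, hQ, hY, hZ, Finset.mem_filter, Finset.mem_union, Finset.mem_sdiff, not_and,
      not_not]
    refine ⟨fun ⟨hx, h0⟩ => ?_, fun h' => ?_⟩
    · have h1 := (hodd x hx).1 h0
      rw [Int.odd_iff] at h1
      rcases hy1 x hx with a | a | a <;> rcases hz1 x hx with b | b | b <;> rw [a, b] at h1 ⊢ <;>
        simp_all
    · rcases h' with ⟨⟨hx, a⟩, b⟩ | ⟨⟨hx, a⟩, b⟩
      · refine ⟨hx, (hodd x hx).2 ?_⟩
        rw [b hx, add_zero]
        rcases (hy1 x hx).resolve_left a with e | e <;> rw [e] <;> decide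
      · refine ⟨hx, (hodd x hx).2 ?_⟩
        rw [b hx, zero_add]
        rcases (hz1 x hx).resolve_left a with e | e <;> rw [e] <;> decide
  have hdis : Disjoint P Q := Finset.disjoint_left.2 fun x hx hx' =>
    (Finset.mem_sdiff.1 hx').2 (Finset.mem_sdiff.1 hx).1
  have hPC : P.card + C.card = 4 := by rw [← hycard, hP, hC, Finset.card_sdiff_add_card_inter]
  have hQC : Q.card + C.card = 4 := by
    rw [← hzcard, hQ, hC, Finset.inter_comm, Finset.card_sdiff_add_card_inter]
  have hCeven : Even C.card := by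
    refine even_sum_signs C (fun x => y x * z x) (fun x hx => ?_) ?_
    · rw [hC, Finset.mem_inter, hY, hZ, Finset.mem_filter, Finset.mem_filter] at hx
      rcases (hy1 x hx.1.1).resolve_left hx.1.2 with a | a <;>
        rcases (hz1 x hx.1.1).resolve_left hx.2.2 with b | b <;> rw [a, b] <;> norm_num
    · rw [← hyz]
      refine Finset.sum_subset (fun x hx => (Finset.mem_filter.1 (Finset.mem_inter.1 hx).1).1)
        fun x hx hn => ?_
      rcases eq_or_ne (y x) 0 with a | a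
      · rw [a, zero_mul]
      · rcases eq_or_ne (z x) 0 with b | b
        · rw [b, mul_zero]
        · exact absurd (Finset.mem_inter.2 ⟨Finset.mem_filter.2 ⟨hx, a⟩,
            Finset.mem_filter.2 ⟨hx, b⟩⟩) hn
  rw [hSPQ, Finset.card_union_of_disjoint hdis] at ha ha0
  obtain ⟨u, hu⟩ := hCeven
  obtain ⟨p₁, p₂, hp12, hP2⟩ := Finset.card_eq_two.1 (show P.card = 2 by omega)
  obtain ⟨q₁, q₂, hq12, hQ2⟩ := Finset.card_eq_two.1 (show Q.card = 2 by omega)
  obtain ⟨r₁, r₂, hr12, hC2⟩ := Finset.card_eq_two.1 (show C.card = 2 by omega)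
  set O := B.filter fun x => y x = 0 ∧ z x = 0 with hO
  have memP : ∀ x ∈ P, x ∈ B ∧ (y x = 1 ∨ y x = -1) ∧ z x = 0 := fun x hx => by
    simp only [hP, hY, hZ, Finset.mem_sdiff, Finset.mem_filter, not_and, not_not] at hx
    exact ⟨hx.1.1, (hy1 x hx.1.1).resolve_left hx.1.2, hx.2 hx.1.1⟩
  have memQ : ∀ x ∈ Q, x ∈ B ∧ y x = 0 ∧ (z x = 1 ∨ z x = -1) := fun x hx => by
    simp only [hQ, hY, hZ, Finset.mem_sdiff, Finset.mem_filter, not_and, not_not] at hx
    exact ⟨hx.1.1, hx.2 hx.1.1, (hz1 x hx.1.1).resolve_left hx.1.2⟩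
  have memC : ∀ x ∈ C, x ∈ B ∧ (y x = 1 ∨ y x = -1) ∧ (z x = 1 ∨ z x = -1) := fun x hx => by
    simp only [hC, hY, hZ, Finset.mem_inter, Finset.mem_filter] at hx
    exact ⟨hx.1.1, (hy1 x hx.1.1).resolve_left hx.1.2, (hz1 x hx.1.1).resolve_left hx.2.2⟩
  have hunion : B = P ∪ Q ∪ C ∪ O := by
    ext x
    simp only [hP, hQ, hC, hO, hY, hZ, Finset.mem_union, Finset.mem_sdiff, Finset.mem_inter,
      Finset.mem_filter]
    tauto
  have d1 : Disjoint (P ∪ Q) C := Finset.disjoint_left.2 fun x hx hx' => by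
    simp only [hP, hQ, hC, Finset.mem_union, Finset.mem_sdiff, Finset.mem_inter] at hx hx'
    tauto
  have d2 : Disjoint (P ∪ Q ∪ C) O := Finset.disjoint_left.2 fun x hx hx' => by
    simp only [hP, hQ, hC, hO, hY, hZ, Finset.mem_union, Finset.mem_sdiff, Finset.mem_inter,
      Finset.mem_filter] at hx hx'
    tauto
  have six : ∀ f : α → ℤ, ∑ x ∈ B, f x =
      f p₁ + f p₂ + (f q₁ + f q₂) + (f r₁ + f r₂) + ∑ x ∈ O, f x := fun f => by
    rw [hunion, Finset.sum_union d2, Finset.sum_union d1, Finset.sum_union hdis, hP2, hQ2, hC2,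
      Finset.sum_pair hp12, Finset.sum_pair hq12, Finset.sum_pair hr12]
  have hcard : B.card = 6 + O.card := by
    rw [hunion, Finset.card_union_of_disjoint d2, Finset.card_union_of_disjoint d1,
      Finset.card_union_of_disjoint hdis]
    omega
  obtain ⟨p₁B, yp₁, zp₁⟩ := memP p₁ (by rw [hP2]; simp)
  obtain ⟨p₂B, yp₂, zp₂⟩ := memP p₂ (by rw [hP2]; simp)
  obtain ⟨q₁B, yq₁, zq₁⟩ := memQ q₁ (by rw [hQ2]; simp)
  obtain ⟨q₂B, yq₂, zq₂⟩ := memQ q₂ (by rw [hQ2]; simp)
  obtain ⟨r₁B, yr₁, zr₁⟩ := memC r₁ (by rw [hC2]; simp)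
  obtain ⟨r₂B, yr₂, zr₂⟩ := memC r₂ (by rw [hC2]; simp)
  have hOmem : ∀ x ∈ O, x ∈ B ∧ y x = 0 ∧ z x = 0 := fun x hx => Finset.mem_filter.1 hx
  have hO0 : ∀ f : α → ℤ, (∀ x ∈ O, f x = 0) → ∑ x ∈ O, f x = 0 := fun f hf => Finset.sum_eq_zero hf
  rw [six, hO0 _ fun x hx => by rw [(hOmem x hx).2.1, zero_mul], zp₁, zp₂, yq₁, yq₂] at hyz
  rw [six, hO0 _ fun x hx => by rw [(hOmem x hx).2.1, mul_zero], yq₁, yq₂] at hsy
  rw [six, hO0 _ fun x hx => by rw [(hOmem x hx).2.2, mul_zero], zp₁, zp₂] at hsz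
  have hPodd : ∀ x ∈ B, Odd (y x + z x) → Odd (s x) := fun x hx ho =>
    (hpar x hx).1 ((hodd x hx).2 ho)
  have op : Odd (s p₁) ∧ Odd (s p₂) ∧ Odd (s q₁) ∧ Odd (s q₂) :=
    ⟨hPodd _ p₁B (by rcases yp₁ with a | a <;> rw [a, zp₁] <;> decide),
      hPodd _ p₂B (by rcases yp₂ with a | a <;> rw [a, zp₂] <;> decide),
      hPodd _ q₁B (by rcases zq₁ with a | a <;> rw [a, yq₁] <;> decide),
      hPodd _ q₂B (by rcases zq₂ with a | a <;> rw [a, yq₂] <;> decide)⟩
  obtain ⟨op₁, op₂, oq₁, oq₂⟩ := op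
  have hhalf : ∀ x ∈ B, Even (y x + z x) → ∃ c : ℤ, s x = 2 * c := fun x hx he => by
    refine exists_half hpar x hx fun h0 => ?_
    exact Int.not_odd_iff_even.2 he ((hodd x hx).1 h0)
  obtain ⟨c₁, hc₁⟩ := hhalf r₁ r₁B (by rcases yr₁ with a | a <;> rcases zr₁ with b | b <;> rw [a, b] <;> decide)
  obtain ⟨c₂, hc₂⟩ := hhalf r₂ r₂B (by rcases yr₂ with a | a <;> rcases zr₂ with b | b <;> rw [a, b] <;> decide)
  have hOhalf : ∀ x ∈ O, ∃ c : ℤ, s x = 2 * c := fun x hx =>
    hhalf x (hOmem x hx).1 (by rw [(hOmem x hx).2.1, (hOmem x hx).2.2]; decide)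
  choose! c hc using hOhalf
  have hOc : ∀ x ∈ O, c x ≠ 0 := fun x hx hcx =>
    (hp x (hOmem x hx).1).1.ne_zero (by rw [hc x hx, hcx, (hOmem x hx).2.1]; ring)
  rw [six, Finset.sum_congr rfl (g := fun x => 4 * (c x * c x)) (s₁ := O) fun x hx => by
    rw [hc x hx]; ring, ← Finset.mul_sum, hc₁, hc₂] at hss
  rw [show 2 * c₁ * (2 * c₁) = 4 * (c₁ * c₁) by ring,
    show 2 * c₂ * (2 * c₂) = 4 * (c₂ * c₂) by ring] at hss
  rw [hc₁, hc₂] at hsy hsz
  have hhm : (h : ℤ) = 2 ^ m := by rw [hh]; push_cast; rfl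
  have sp₁ := odd_sq_ge op₁
  have sp₂ := odd_sq_ge op₂
  have sq₁ := odd_sq_ge oq₁
  have sq₂ := odd_sq_ge oq₂
  have c1 := mul_self_nonneg c₁
  have c2 := mul_self_nonneg c₂
  have hCm : ∀ (r : α) (cr : ℤ), r ∈ B → (y r = 1 ∨ y r = -1) → s r = 2 * cr → cr = 0 →
      ht r = m := by
    intro r cr hr hyr hsr h0
    refine (hp r hr).1.unique ⟨y r, by rcases hyr with a | a <;> rw [a] <;> decide, ?_⟩
    rw [hsr, h0, hhm]; ring
  have hC1 : ∀ (r : α) (cr : ℤ), r ∈ B → s r = 2 * cr → (cr = 1 ∨ cr = -1) → 4 ≤ h →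
      ht r = 1 := by
    intro r cr hr hsr h1 h4
    obtain ⟨m', rfl⟩ : ∃ m', m = m' + 2 := ⟨m - 2, by
      by_contra hcon
      have : m ≤ 1 := by omega
      interval_cases m <;> omega⟩
    refine (hp r hr).1.unique ⟨cr + 2 ^ (m' + 1) * y r, ?_, ?_⟩
    · rw [Int.odd_add]
      refine iff_of_true ?_ ⟨2 ^ m' * y r, by ring⟩
      rcases h1 with a | a <;> rw [a] <;> decide
    · rw [hsr, hh]; push_cast; ring
  have hOone : (∀ x ∈ O, c x = 1 ∨ c x = -1) → ∀ x ∈ O, ht x = 1 := fun hall x hx => by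
    refine (hp x (hOmem x hx).1).1.unique ?_
    rw [hc x hx, (hOmem x hx).2.1, mul_zero, add_zero]
    exact twoExact_two_mul (by rcases hall x hx with a | a <;> rw [a] <;> decide)
  have hS4 : S.card = 4 := by rw [hSPQ, Finset.card_union_of_disjoint hdis]; omega
  have hne1 : ∀ x ∈ P ∪ Q, ht x = 0 := fun x hx => (Finset.mem_filter.1 (hSPQ ▸ hx : x ∈ S)).2
  have hsplit : ∀ x ∈ B, ht x = 0 ∨ x = r₁ ∨ x = r₂ ∨ x ∈ O := fun x hx => by
    rw [hunion] at hx
    simp only [Finset.mem_union, hC2, Finset.mem_insert, Finset.mem_singleton] at hx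
    rcases hx with ((h' | h') | h' | h') | h'
    · exact Or.inl (hne1 x (Finset.mem_union_left _ h'))
    · exact Or.inl (hne1 x (Finset.mem_union_right _ h'))
    · exact Or.inr (Or.inl h')
    · exact Or.inr (Or.inr (Or.inl h'))
    · exact Or.inr (Or.inr (Or.inr h'))
  have hrO : r₁ ∉ O ∧ r₂ ∉ O :=
    ⟨fun h' => by have := (hOmem _ h').2.1; omega, fun h' => by have := (hOmem _ h').2.1; omega⟩
  have r0 : ht r₁ ≠ 0 ∧ ht r₂ ≠ 0 := by
    constructor <;> intro h0
    · have := (hpar r₁ r₁B).1 h0; rw [hc₁, Int.odd_iff] at this; omega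
    · have := (hpar r₂ r₂B).1 h0; rw [hc₂, Int.odd_iff] at this; omega
  obtain ⟨δ, hδ, hz₁, hz₂⟩ : ∃ δ : ℤ, (δ = 1 ∨ δ = -1) ∧ z r₁ = δ * y r₁ ∧ z r₂ = -(δ * y r₂) := by
    refine ⟨y r₁ * z r₁, ?_, ?_, ?_⟩
    · rcases yr₁ with e | e <;> rcases zr₁ with e' | e' <;> rw [e, e'] <;> decide
    · rcases yr₁ with e | e <;> rw [e] <;> ring
    · have hneg : y r₁ * z r₁ = -(y r₂ * z r₂) := by linarith
      rw [hneg]
      rcases yr₂ with e | e <;> rw [e] <;> ring
  rw [hz₁, hz₂] at hsz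
  have hOcard : (O.card : ℤ) + 3 ≥ h := by omega
  have hmulsq : ∀ {u v : ℤ}, (v = 1 ∨ v = -1) → u * v * (u * v) = u * u := fun {u v} hv => by
    rcases hv with a | a <;> rw [a] <;> ring
  have hoddmul : ∀ {u v : ℤ}, Odd u → (v = 1 ∨ v = -1) → Odd (u * v) := fun {u v} hu hv => by
    rcases hv with a | a <;> rw [a] <;> simpa using hu
  rcases sum_sq_cases O c hOc with ⟨hcc, hone⟩ | hbig
  · rw [hcc] at hss
    obtain ⟨w₁, w₂, w₃, w₄, hcor⟩ := pair_corrections (hoddmul op₁ yp₁) (hoddmul op₂ yp₂)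
      (hoddmul oq₁ zq₁) (hoddmul oq₂ zq₂) hδ (a₁ := c₁ * y r₁) (a₂ := c₂ * y r₂)
      (by linear_combination hsy) (by linear_combination hsz)
      (by rw [hmulsq yp₁, hmulsq yp₂, hmulsq zq₁, hmulsq zq₂, hmulsq yr₁, hmulsq yr₂]; omega)
    rw [hmulsq yp₁] at w₁
    rw [hmulsq yp₂] at w₂
    rw [hmulsq zq₁] at w₃
    rw [hmulsq zq₂] at w₄
    have hz : ∀ {r : α} {cr : ℤ}, (y r = 1 ∨ y r = -1) → cr * y r = 0 → cr = 0 := fun {r cr} hy e =>
      (mul_eq_zero.1 e).resolve_right (by omega)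
    have ho : ∀ {r : α} {cr : ℤ}, (y r = 1 ∨ y r = -1) → (cr * y r = 1 ∨ cr * y r = -1) →
        cr = 1 ∨ cr = -1 := fun {r cr} hy e => by
      rcases hy with a | a <;> rw [a] at e <;> omega
    have h4 : ∀ {r : α} {cr : ℤ}, r ∈ B → (y r = 1 ∨ y r = -1) → s r = 2 * cr →
        (cr = 1 ∨ cr = -1) → 4 ≤ h := fun {r cr} hr hy hs hc => by
      by_contra hlt
      have hh2 : h = 2 := by
        rcases m with _ | _ | m'
        · omega
        · simpa using hh
        · exfalso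
          have : 2 ^ 2 ≤ 2 ^ (m' + 1 + 1) := Nat.pow_le_pow_right two_pos (by omega)
          omega
      have h1 := (hp r hr).1.ne_zero
      have h2 := (hp r hr).2.1.ne_zero
      rw [hs, hh2] at h1 h2
      rcases hc with a | a <;> rcases hy with f | f <;> rw [a, f] at h1 h2 <;> omega
    -- one corrected row
    have hone' : ∀ {r r' : α} {cr cr' : ℤ}, r ∈ B → (y r = 1 ∨ y r = -1) → s r = 2 * cr →
        (cr = 1 ∨ cr = -1) → r' ∈ B → (y r' = 1 ∨ y r' = -1) → s r' = 2 * cr' → cr' = 0 →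
        r ∉ O → (∀ x ∈ B, ht x = 0 ∨ x = r ∨ x = r' ∨ x ∈ O) →
        O.card + 2 = h → (B.card = h + 4 ∨ B.card = h + 5) ∧ TameShape B h m ht := by
      intro r r' cr cr' hr hy hs hc hr' hy' hs' hc' hrn hsp hOh
      have h4' := h4 hr hy hs hc
      have e1 := hC1 r cr hr hs hc h4'
      have e2 := hCm r' cr' hr' hy' hs' hc'
      refine ⟨Or.inl (by omega), hS4, fun x hx => ?_, fun _ => ?_⟩
      · rcases hsp x hx with a | rfl | rfl | a
        · exact Or.inl a
        · exact Or.inr (Or.inl e1)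
        · exact Or.inr (Or.inr e2)
        · exact Or.inr (Or.inl (hOone hone x a))
      · have hm1 : m ≠ 1 := fun e => by rw [hh, e] at h4'; norm_num at h4'
        have e : (B.filter fun x => ht x = 1) = insert r O := by
          ext x
          rw [Finset.mem_filter, Finset.mem_insert]
          refine ⟨fun ⟨hx, h1⟩ => ?_, ?_⟩
          · rcases hsp x hx with a | rfl | rfl | a
            · omega
            · exact Or.inl rfl
            · omega
            · exact Or.inr a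
          · rintro (rfl | hx)
            · exact ⟨hr, e1⟩
            · exact ⟨(hOmem x hx).1, hOone hone x hx⟩
        rw [e, Finset.card_insert_of_notMem hrn]
        omega
    rcases hcor with ⟨a, b⟩ | ⟨a, b⟩ | ⟨a, b⟩
    · have ha' := hz yr₁ a
      have hb' := hz yr₂ b
      subst ha' hb'
      have e1 := hCm r₁ 0 r₁B yr₁ hc₁ rfl
      have e2 := hCm r₂ 0 r₂B yr₂ hc₂ rfl
      refine ⟨Or.inr (by omega), hS4, fun x hx => ?_, fun h4' => ?_⟩
      · rcases hsplit x hx with a | rfl | rfl | a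
        · exact Or.inl a
        · exact Or.inr (Or.inr e1)
        · exact Or.inr (Or.inr e2)
        · exact Or.inr (Or.inl (hOone hone x a))
      · have hm1 : m ≠ 1 := fun e => by rw [hh, e] at h4'; norm_num at h4'
        have e : (B.filter fun x => ht x = 1) = O := by
          ext x
          rw [Finset.mem_filter]
          refine ⟨fun ⟨hx, h1⟩ => ?_, fun hx => ⟨(hOmem x hx).1, hOone hone x hx⟩⟩
          rcases hsplit x hx with a | rfl | rfl | a
          · omega
          · omega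
          · omega
          · exact a
        rw [e]
        omega
    · have ha' := ho yr₁ a
      have hb' := hz yr₂ b
      refine hone' r₁B yr₁ hc₁ ha' r₂B yr₂ hc₂ hb' hrO.1 hsplit ?_
      subst hb'
      rcases ha' with rfl | rfl <;> omega
    · have ha' := hz yr₁ a
      have hb' := ho yr₂ b
      refine hone' r₂B yr₂ hc₂ hb' r₁B yr₁ hc₁ ha' hrO.2
        (fun x hx => (hsplit x hx).imp_right or_left_comm.1) ?_
      subst ha'
      rcases hb' with rfl | rfl <;> omega
  · omega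

end Cases

/-! ## The members not trivial on the involution -/

variable [DecidableEq α] {W : Finset α} {h : ℕ} {s : α → ℤ}

/-- One regular restriction: the faithful members. -/
theorem split_one (hs : ∀ x ∈ W, ∃ c : ℤ, s x = 2 * c ∧ c ≠ 0) (hss : ∑ x ∈ W, s x * s x = 2 * h)
    (hh : Even h) : W.card ≤ h / 2 ∧ (h / 2 ≤ W.card + 2 → W.card = h / 2) := by
  choose! c hc hc0 using hs
  rw [Finset.sum_congr rfl (g := fun x => 4 * (c x * c x)) fun x hx => by rw [hc x hx]; ring,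
    ← Finset.mul_sum] at hss
  obtain ⟨q, rfl⟩ := hh
  rcases sum_sq_cases W c hc0 with ⟨e, -⟩ | e <;> constructor <;> omega

/-- No second sign function lives on the faithful members. -/
theorem split_axis {y : α → ℤ} (hpar : ∀ x ∈ W, Even (y x)) (hyy : ∑ x ∈ W, y x * y x = 2) : False := by
  choose! e he using hpar
  rw [Finset.sum_congr rfl (g := fun x => 4 * (e x * e x)) fun x hx => by rw [he x hx]; ring,
    ← Finset.mul_sum] at hyy
  omega

/-- Two regular restrictions: the faithful members. -/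
theorem split_two {y : α → ℤ} (hs : ∀ x ∈ W, Even (s x)) (hy : ∀ x ∈ W, Even (y x))
    (hne : ∀ x ∈ W, s x = 0 → y x ≠ 0) (hss : ∑ x ∈ W, s x * s x = 2 * h)
    (hyy : ∑ x ∈ W, y x * y x = 4) (hsy : ∑ x ∈ W, s x * y x = 0) (hh : Even h) :
    W.card ≤ h / 2 + 1 ∧ W.card ≠ h / 2 := by
  rcases four_sq W y hyy with ⟨hv, hcard⟩ | ⟨R, hR, hRy, hRo⟩
  · exfalso
    obtain ⟨x, hx⟩ := Finset.card_pos.1 (hcard ▸ four_pos)
    obtain ⟨hxW, hx0⟩ := Finset.mem_filter.1 hx
    have := Int.even_iff.1 (hy x hxW)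
    rcases hv x hxW with a | a | a <;> omega
  rw [Finset.sum_eq_single_of_mem R hR fun x hx hne => by rw [hRo x hx hne, mul_zero]] at hsy
  have hy0 : y R ≠ 0 := by omega
  have hs0 : s R = 0 := (mul_eq_zero.1 hsy).resolve_right hy0
  choose! c hc using hs
  rw [← Finset.add_sum_erase W _ hR, hs0, mul_zero, zero_add,
    Finset.sum_congr rfl (g := fun x => 4 * (c x * c x)) fun x hx => by
      rw [hc x (Finset.mem_of_mem_erase hx)]; ring, ← Finset.mul_sum] at hss
  have h0 : ∀ x ∈ W.erase R, c x ≠ 0 := fun x hx e => by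
    obtain ⟨hxR, hxW⟩ := Finset.mem_erase.1 hx
    exact hne x hxW (by rw [hc x hxW, e]; norm_num) (hRo x hxW hxR)
  have hcard := Finset.card_erase_add_one hR
  obtain ⟨q, rfl⟩ := hh
  rcases sum_sq_cases _ c h0 with ⟨e, -⟩ | e <;> constructor <;> omega

/-- Three regular restrictions: the faithful members. -/
theorem split_three {y : α → ℤ} (hs : ∀ x ∈ W, Even (s x))
    (hne : ∀ x ∈ W, s x = 0 → y x ≠ 0) (hss : ∑ x ∈ W, s x * s x = 2 * h)
    (hyy : ∑ x ∈ W, y x * y x = 2) : W.card ≤ h / 2 + 2 := by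
  choose! c hc using hs
  rw [Finset.sum_congr rfl (g := fun x => 4 * (c x * c x)) fun x hx => by rw [hc x hx]; ring,
    ← Finset.mul_sum] at hss
  have h1 : ∀ x ∈ W, 1 ≤ c x * c x + y x * y x := fun x hx => by
    by_cases h0 : c x = 0
    · have := hne x hx (by rw [hc x hx, h0]; norm_num)
      rw [h0]
      rcases lt_or_gt_of_ne this with a | a <;> nlinarith
    · rcases lt_or_gt_of_ne h0 with a | a <;> nlinarith [mul_self_nonneg (y x)]
  have hle : (W.card : ℤ) ≤ ∑ x ∈ W, c x * c x + ∑ x ∈ W, y x * y x := by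
    rw [← Finset.sum_add_distrib, Finset.card_eq_sum_ones]
    push_cast
    exact Finset.sum_le_sum h1
  omega

end Cfsg.Lib.Block
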