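import Cfsg.Agent.Lib.Block.TameFusion
import Cfsg.Agent.Lib.Block.SecTOrth
import Cfsg.Agent.Lib.Block.AbelianKlein
import Cfsg.Agent.Lib.Block.MajorBound
import Cfsg.Agent.Lib.Block.StarNorm

/-!
# The rotation columns of a block with quaternion or semidihedral defect group

The block at the rotation has a cyclic defect group and one regular restriction. Its pairings give
integral vectors; one of them has norm four and is odd at height zero.
-/

set_option autoImplicit false
set_option linter.unusedSectionVars false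
set_option maxHeartbeats 800000

namespace Cfsg.Lib.Block

open Cfsg
open scoped ComplexConjugate

universe u

noncomputable local instance (priority := high) fintypeSubgroupTameRot {A : Type u}
    [Group A] [Fintype A] (H : Subgroup A) : Fintype H := Fintype.ofFinite H

local notation "C[" Q "]" => Subgroup.centralizer (SetLike.coe Q)

/-- The sum over the odd residues. -/
theorem sum_odd_zpow {ζ : ℂ} {h : ℕ} (hζ : IsPrimitiveRoot ζ (2 * h)) (hh : 0 < h) (a : ℤ) :
    ∑ i ∈ Finset.range h, ζ ^ (a * (2 * i + 1)) =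
      if (2 * h : ℤ) ∣ a then (h : ℂ) else if (2 * h : ℤ) ∣ a - h then -(h : ℂ) else 0 := by
  have h0 : ζ ≠ 0 := hζ.ne_zero (by omega)
  have e1 : ∀ i : ℕ, ζ ^ (a * (2 * i + 1)) = ζ ^ a * (ζ ^ (2 * a)) ^ i := fun i => by
    rw [← zpow_natCast, ← zpow_mul, ← zpow_add₀ h0]
    congr 1
    ring
  simp only [e1, ← Finset.mul_sum]
  have hneg : ζ ^ (h : ℤ) = -1 := by
    rw [zpow_natCast]
    exact (hζ.pow (a := h) (by omega) (mul_comm 2 h)).eq_neg_one_of_two_right
  have hN : ∀ k : ℤ, ζ ^ k = 1 ↔ (2 * h : ℤ) ∣ k := fun k => by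
    rw [hζ.zpow_eq_one_iff_dvd]; norm_num
  split_ifs with h1 h2
  · rw [(hN a).2 h1, (hN (2 * a)).2 (h1.mul_left 2)]
    simp
  · have ha : ζ ^ a = -1 := by
      rw [show a = (a - h) + h by ring, zpow_add₀ h0, (hN _).2 h2, hneg, one_mul]
    have h2a : ζ ^ (2 * a) = 1 := by rw [two_mul, zpow_add₀ h0, ha]; norm_num
    rw [h2a, ha]
    simp
  · have hne : ζ ^ (2 * a) ≠ 1 := fun hc => by
      rw [hN] at hc
      obtain ⟨r, hr⟩ := hc
      have hr' : a = h * r := by linarith
      rcases Int.even_or_odd r with ⟨q, rfl⟩ | ⟨q, rfl⟩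
      · exact h1 ⟨q, by rw [hr']; ring⟩
      · exact h2 ⟨q, by rw [hr']; ring⟩
    rw [geom_sum_eq hne, ← zpow_natCast, ← zpow_mul,
      (hN (2 * a * (h : ℤ))).2 ⟨a, by ring⟩, sub_self, zero_div, mul_zero]

namespace TameData

variable {G : Type u} [Group G] [Fintype G] [Fact (Nat.Prime 2)] {M : Ideal AlgInt}
  {B : Set (IrrCharacter G)} {D : Subgroup G} {c : Set (IrrCharacter C[D])} {σ τ : G} {h e : ℕ}
  (S : TameData M B D c σ τ h e) (hM : IsPModular 2 M)

include S hM

open Classical in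
/-- The block at the rotation. -/
theorem exists_rotation_block : ∃ (f : Set (IrrCharacter C[Subgroup.zpowers σ]))
    (φ : IrrCharacter C[Subgroup.zpowers σ]) (m : ℕ),
    SubpairLE 2 M (Subgroup.zpowers σ) f D c ∧ 2 * h = 2 ^ m ∧ blockDefect 2 f = m ∧
      φ ∈ f ∧ blockHeight 2 f (φ : C[Subgroup.zpowers σ] → ℂ) = 0 ∧
      (∀ ψ ∈ f, ∀ y : C[Subgroup.zpowers σ], IsPRegular 2 y →
        (ψ : C[Subgroup.zpowers σ] → ℂ) y = (φ : C[Subgroup.zpowers σ] → ℂ) y) ∧
      regN 2 f φ φ = 1 := by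
  have hD := S.grp
  obtain ⟨f, hle⟩ := S.exists_pair hM hD.σmem
  have hfb := (isBrauerPair_of_le hle S.maxPair.1.1).2
  have hloc := isLocalBlock_centralizer (p := 2) hM hfb
  obtain ⟨x, hx, hcard⟩ := exists_card_inf_eq_defect hM hloc S.maxPair hle
  have hxσ : x * σ * x⁻¹ ∈ D := by
    have := subpairLE_le hx
    rw [conj_zpowers_map] at this
    exact this (Subgroup.mem_zpowers _)
  rw [map_centralizer_conj, conj_zpowers_map, ← centralizer_singleton_eq, hD.card_centralizer hxσ
    (by rw [← MulAut.conj_apply, MulEquiv.orderOf_eq, hD.orderσ])] at hcard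
  have hdef := (isDefectGroup_inf_iff hM hloc S.maxPair.1.1 hle).2 (by
    rw [← hcard, ← centralizer_singleton_eq, hD.card_centralizer hD.σmem hD.orderσ])
  have hcen : ∀ a ∈ D ⊓ C[Subgroup.zpowers σ], ∀ g : C[Subgroup.zpowers σ],
      (g : G) * a = a * g := by
    intro a ha g
    rw [← centralizer_singleton_eq, hD.inf_centralizer] at ha
    exact (Subgroup.mem_centralizer_iff.1 g.2 a ha).symm
  obtain ⟨P', hP'⟩ : ∃ P', P' = (D ⊓ C[Subgroup.zpowers σ]).subgroupOf C[Subgroup.zpowers σ] :=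
    ⟨_, rfl⟩
  rw [← hP'] at hdef
  have hcen' : ∀ a ∈ P', ∀ g : C[Subgroup.zpowers σ], g * a = a * g := fun a ha g =>
    Subtype.ext (hcen _ (by rw [hP', Subgroup.mem_subgroupOf] at ha; exact ha) g)
  have hab : ∀ a ∈ P', ∀ b ∈ P', a * b = b * a := fun a _ b hb => hcen' b hb a
  obtain ⟨c', hc'⟩ := (exists_pair_iff hM hfb hdef (isPGroup_defectGroup hM hdef)).2
    ⟨1, (map_conj_one _).le⟩
  obtain ⟨hl, hk⟩ := abelian_inertial_one hM _ le_rfl hfb hdef hab
    (isInducedBlock_of_isBrauerPairOf hM (le_centralizer_of_abelian hab le_rfl) hc')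
    fun g _ _ => Subgroup.mem_centralizer_iff.2 fun a ha => (hcen' a ha g).symm
  rw [card_defectGroup hM hfb hdef] at hk
  obtain ⟨φ, hφ, hmin⟩ := exists_minVal (p := 2) (nonempty_of_isPBlock hM hfb)
  have hreg : ∀ ψ ∈ f, ∀ y, IsPRegular 2 y → ((ψ : _ → ℂ) y) = (φ : _ → ℂ) y :=
    fun ψ hψ y hy => reg_eq_of_rank_one hM hfb hl hk hψ hφ hy
  refine ⟨f, φ, blockDefect 2 f, hle, hcard, rfl, hφ, (blockHeight_eq_zero_iff hφ).2 hmin, hreg, ?_⟩
  have h1 := blockRank_eq_sum_regInner hM (p := 2) (vInt_indVec hM hfb)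
  rw [hl, Finset.sum_congr rfl (g := fun _ => regInner 2 (φ : C[Subgroup.zpowers σ] → ℂ) (φ : C[Subgroup.zpowers σ] → ℂ)) fun ψ hψ => by
    have e1 : pRegularPart 2 (ψ : C[Subgroup.zpowers σ] → ℂ) =
        pRegularPart 2 (φ : C[Subgroup.zpowers σ] → ℂ) := funext fun y => by
      by_cases hy : IsPRegular 2 y
      · rw [pRegularPart_of_reg hy, pRegularPart_of_reg hy, hreg ψ (Set.mem_toFinset.1 hψ) y hy]
      · rw [pRegularPart_of_sing hy, pRegularPart_of_sing hy]
    have e2 : regInner 2 (ψ : C[Subgroup.zpowers σ] → ℂ) (ψ : C[Subgroup.zpowers σ] → ℂ) =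
        regInner 2 (φ : C[Subgroup.zpowers σ] → ℂ) (ψ : C[Subgroup.zpowers σ] → ℂ) := by
      rw [regInner, regInner, e1]
    rw [e2, regInner_symm, regInner, e1, ← regInner], Finset.sum_const, ← Nat.card_eq_card_toFinset,
    hk, nsmul_eq_mul, Nat.cast_one] at h1
  rw [regN]
  push_cast at h1 ⊢
  linear_combination -h1

open Classical in
/-- The integral vectors attached to the rotation columns. -/
theorem exists_rotation_vectors : ∃ V : IrrCharacter G → ℕ → ℤ,
    ∑ χ ∈ B.toFinset, V χ 0 * V χ 0 = 4 ∧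
    (∀ χ ∈ B, blockHeight 2 B (χ : G → ℂ) = 0 → Odd (V χ 0)) ∧
    (∀ j k, Odd j → Odd k → 2 * j < h → 2 * k < h →
      ∑ χ ∈ B.toFinset, V χ j * V χ k = if j = k then 2 else 0) ∧
    (∀ (j : ℕ) (g : G), orderOf (pPt 2 g) ≠ 2 * h →
      ∑ χ ∈ B.toFinset, (V χ j : ℂ) * (χ : G → ℂ) g = 0) ∧
    ∀ χ : IrrCharacter G, (∀ x, (χ : G → ℂ) (σ ^ h * x) = (χ : G → ℂ) x) →
      ∀ j, Odd j → V χ j = 0 := by
  have hD := S.grp
  have h2 := hD.two_le
  obtain ⟨ζ, hζ⟩ : ∃ ζ : ℂ, IsPrimitiveRoot ζ (2 * h) :=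
    ⟨_, Complex.isPrimitiveRoot_exp (2 * h) (by omega)⟩
  have hζ0 : ζ ≠ 0 := hζ.ne_zero (by omega)
  obtain ⟨f, φ, m, hle, hm, hfd, hφ, h0, hreg, hnorm⟩ := S.exists_rotation_block hM
  have hind := S.ind_of_le hM hD.σmem hle
  have hσH : σ ∈ C[Subgroup.zpowers σ] :=
    centralizer_singleton_le σ (Subgroup.mem_centralizer_singleton_iff.2 rfl)
  have hcom : ∀ (l : ℕ) (y : C[Subgroup.zpowers σ]), Commute (σ ^ l) (y : G) :=
    fun l y => (commute_mem_cen σ y).pow_left l
  have hCH : ∀ {l : ℕ}, Odd l → Subgroup.centralizer ({σ ^ l} : Set G) ≤ C[Subgroup.zpowers σ] :=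
    fun {l} hl => (centralizer_singleton_le (σ ^ l)).trans (Subgroup.centralizer_le
      (SetLike.coe_subset_coe.2 (Subgroup.zpowers_le.2 (hD.mem_zpowers_of_odd hl))))
  have hord : ∀ l : ℕ, ∃ k : ℕ, orderOf (σ ^ l) = 2 ^ k := fun l => S.exists_order (hD.pow_mem l)
  have hordl : ∀ {l : ℕ}, Odd l → orderOf (σ ^ l) = 2 * h := fun {l} hl => by
    refine le_antisymm (hD.orderσ ▸ Nat.le_of_dvd (orderOf_pos σ) (orderOf_pow_dvd l)) ?_
    exact hD.orderσ ▸ Nat.le_of_dvd (orderOf_pos _)
      (orderOf_dvd_of_mem_zpowers (hD.mem_zpowers_of_odd hl))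
  obtain ⟨T, hT⟩ : ∃ T : ℕ → IrrCharacter G → ℂ,
      T = fun l χ => secT 2 m (σ ^ l) χ φ := ⟨_, rfl⟩
  have hTB : ∀ {l : ℕ}, Odd l → ∀ χ ∉ B, T l χ = 0 := fun {l} hl χ hχ => by
    rw [hT]
    exact secT_eq_zero_of_notMem hM (hord l) (hcom l) (hCH hl) hind hfd hχ hφ
  have hTmod : ∀ {l l' : ℕ}, σ ^ l = σ ^ l' → ∀ χ, T l χ = T l' χ := fun he χ => by
    rw [hT]
    simp only [he]
  -- a conjugation normalizing the rotations moves the pairing within the rank one block
  have hmove : ∀ {x : G} (hx : ConjMaps x C[Subgroup.zpowers σ] C[Subgroup.zpowers σ]) (l : ℕ) χ,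
      T l χ = secT 2 m (σ ^ l) χ φ ∧ secT 2 m (x * σ ^ l * x⁻¹) χ φ =
        secT 2 m (σ ^ l) χ (compIrr (conjIso hx) φ) := fun hx l χ =>
    ⟨by rw [hT], secT_conj hx m χ φ⟩
  have hsame : ∀ (l : ℕ) χ (ψ : IrrCharacter C[Subgroup.zpowers σ]), ψ ∈ f →
      secT 2 m (σ ^ l) χ ψ = T l χ := fun l χ ψ hψ => by
    rw [hT, secT_eq_reg_sum]
    simp only [secT_eq_reg_sum]
    congr 1
    refine Finset.sum_congr rfl fun y _ => ?_
    split_ifs with hy
    · rw [hreg ψ hψ y hy]
    · rfl
  have hTe : ∀ (l : ℕ) χ, T (e * l) χ = T l χ := by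
    intro l χ
    have hmap : (Subgroup.zpowers σ).map (MulAut.conj τ).toMonoidHom = Subgroup.zpowers σ := by
      rw [conj_zpowers_map, hD.conj]
      exact zpowers_eq_of_orderOf_eq (Subgroup.npow_mem_zpowers σ e) (Subgroup.mem_zpowers σ)
        (by rw [orderOf_pow' σ (by rintro rfl; exact absurd hD.e_odd (by decide)),
          Nat.Coprime.gcd_eq_one (hD.orderσ ▸ hD.e_coprime.symm), Nat.div_one])
    have hx : ConjMaps τ C[Subgroup.zpowers σ] C[Subgroup.zpowers σ] := conjMaps_centralizer hmap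
    simp only [hT]
    rw [← hD.tau_conj, (hmove hx l χ).2, hsame l χ _ ?_, hT]
    -- the pair at the rotations is fixed by `D`
    have h1 := rel_conjIdx hM τ hle
    rw [conjIdx_of_mem hD.τmem, conjIdx_eq hmap] at h1
    have h2 : conjSet hx f = f := subpair_unique hM S.maxPair.1.1 h1 hle
    rw [← h2] at hφ
    simpa [conjSet, pullSet] using hφ
  obtain ⟨hH2, hodd2⟩ : 0 < 2 * h ∧ Even h := ⟨by omega, even_iff_two_dvd.2 hD.dvd_two⟩
  -- the central scalars at the rotation
  have hσc : (⟨σ, hσH⟩ : C[Subgroup.zpowers σ]) ∈ Subgroup.center C[Subgroup.zpowers σ] :=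
    Subgroup.mem_center_iff.2 fun g => Subtype.ext (commute_mem_cen σ g).eq.symm
  have hscal : ∀ ξ : IrrCharacter C[Subgroup.zpowers σ], ∃ j < 2 * h,
      ∀ (l : ℕ) (g : C[Subgroup.zpowers σ]),
        (ξ : C[Subgroup.zpowers σ] → ℂ) ((⟨σ, hσH⟩ : C[Subgroup.zpowers σ]) ^ l * g) =
          ζ ^ (j * l) * (ξ : C[Subgroup.zpowers σ] → ℂ) g := by
    intro ξ
    obtain ⟨a, ha, hag⟩ := exists_central_scalar ξ hσc
    rw [Subgroup.orderOf_mk, hD.orderσ] at ha
    have : NeZero (2 * h) := ⟨by omega⟩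
    obtain ⟨j, hj, rfl⟩ := hζ.eq_pow_of_pow_eq_one ha
    refine ⟨j, hj, fun l => ?_⟩
    induction l with
    | zero => intro g; simp
    | succ l ih =>
      intro g
      rw [pow_succ', mul_assoc, hag, ih, Nat.mul_succ, pow_add]
      ring
  choose J hJ hJval using hscal
  have hnat : ∀ (χ : IrrCharacter G) (ξ : IrrCharacter C[Subgroup.zpowers σ]), ∃ n : ℕ,
      classInner (fun g : C[Subgroup.zpowers σ] => (χ : G → ℂ) g)
        (ξ : C[Subgroup.zpowers σ] → ℂ) = n := fun χ ξ =>
    (χ.2.isCharacter.comp C[Subgroup.zpowers σ].subtype).exists_nat_classInner ξ.2.isCharacter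
  choose n hn using hnat
  obtain ⟨N, hN⟩ : ∃ N : IrrCharacter G → ℕ → ℤ,
      N = fun χ j => ∑ ξ ∈ f.toFinset, if J ξ = j then (n χ ξ : ℤ) else 0 := ⟨_, rfl⟩
  have hTval : ∀ (l : ℕ) χ, T l χ = ∑ j ∈ Finset.range (2 * h), (N χ j : ℂ) * ζ ^ (j * l) := by
    intro l χ
    have hcl : ∀ ξ : IrrCharacter C[Subgroup.zpowers σ],
        classInner (secFn (σ ^ l) C[Subgroup.zpowers σ] (χ : G → ℂ))
          (ξ : C[Subgroup.zpowers σ] → ℂ) = ζ ^ (J ξ * l) * (n χ ξ : ℂ) := by
      intro ξ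
      rw [← hn χ ξ]
      simp only [classInner, Finset.mul_sum]
      refine Fintype.sum_equiv (Equiv.mulLeft ((⟨σ, hσH⟩ : C[Subgroup.zpowers σ]) ^ l)) _ _
        fun g => ?_
      have hu : ζ ^ (J ξ * l) * conj (ζ ^ (J ξ * l)) = 1 :=
        conj_mul_self_of_pow_eq_one (n := 2 * h) (by omega)
          (by rw [← pow_mul, mul_comm, pow_mul, hζ.pow_eq_one, one_pow])
      simp only [Equiv.coe_mulLeft, secFn, Subgroup.coe_mul, SubmonoidClass.coe_pow, hJval, map_mul]
      linear_combination (-((Nat.card C[Subgroup.zpowers σ] : ℂ)⁻¹ * (χ : G → ℂ) (σ ^ l * (g : G)) *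
        conj ((ξ : C[Subgroup.zpowers σ] → ℂ) g))) * hu
    rw [hT]
    show secT 2 m (σ ^ l) χ φ = _
    rw [secT_eq_sum hM (hcom l) hind.1 hfd χ hφ, Finset.sum_congr rfl
      (g := fun ξ => (n χ ξ : ℂ) * ζ ^ (J ξ * l)) fun ξ hξ => by
        rw [hcl ξ, regN, regInner, show pRegularPart 2 (ξ : C[Subgroup.zpowers σ] → ℂ) =
            pRegularPart 2 (φ : C[Subgroup.zpowers σ] → ℂ) from funext fun y => by
          by_cases hy : IsPRegular 2 y
          · rw [pRegularPart_of_reg hy, pRegularPart_of_reg hy, hreg ξ (Set.mem_toFinset.1 hξ) y hy]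
          · rw [pRegularPart_of_sing hy, pRegularPart_of_sing hy],
          ← regInner, ← regN, hnorm, mul_one, mul_comm]]
    simp only [hN]
    push_cast
    simp only [Finset.sum_mul, ite_mul, zero_mul]
    rw [Finset.sum_comm]
    refine Finset.sum_congr rfl fun ξ _ => ?_
    rw [Finset.sum_ite_eq, if_pos (Finset.mem_range.2 (hJ ξ))]
  obtain ⟨V, hV⟩ : ∃ V : IrrCharacter G → ℕ → ℤ,
      V = fun χ j => N χ (j % (2 * h)) - N χ ((j + h) % (2 * h)) := ⟨_, rfl⟩
  have hzp : ∀ a b : ℤ, (2 * h : ℤ) ∣ a - b → ζ ^ a = ζ ^ b := fun a b hab => by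
    rw [show a = (a - b) + b by ring, zpow_add₀ hζ0,
      (hζ.zpow_eq_one_iff_dvd _).2 (by push_cast; exact hab), one_mul]
  have hconj : ∀ a : ℤ, conj (ζ ^ a) = ζ ^ (-a) := fun a => by
    have h1 : ζ ^ a * conj (ζ ^ a) = 1 := conj_mul_self_of_pow_eq_one (n := 2 * h) (by omega)
      (by rw [← zpow_natCast, ← zpow_mul, mul_comm, zpow_mul, zpow_natCast, hζ.pow_eq_one, one_zpow])
    rw [zpow_neg]
    exact eq_inv_of_mul_eq_one_right h1
  have hinv : ∀ (χ : IrrCharacter G) (j : ℕ), (h : ℂ) * (V χ j : ℂ) =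
      ∑ i ∈ Finset.range h, T (2 * i + 1) χ * ζ ^ (-(j : ℤ) * (2 * i + 1)) := by
    intro χ j
    simp only [hTval, Finset.sum_mul]
    rw [Finset.sum_comm, Finset.sum_congr rfl
      (g := fun j' : ℕ => (N χ j' : ℂ) * ∑ i ∈ Finset.range h,
        ζ ^ (((j' : ℤ) - j) * (2 * i + 1))) fun j' _ => by
      rw [Finset.mul_sum]
      refine Finset.sum_congr rfl fun i _ => ?_
      rw [mul_assoc, ← zpow_natCast, ← zpow_add₀ hζ0]
      congr 2
      push_cast
      ring]
    simp only [sum_odd_zpow hζ (by omega : 0 < h)]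
    have hmem : ∀ k : ℕ, k % (2 * h) ∈ Finset.range (2 * h) := fun k =>
      Finset.mem_range.2 (Nat.mod_lt _ hH2)
    have hdist : j % (2 * h) ≠ (j + h) % (2 * h) := fun he => by
      obtain ⟨r, hr⟩ := (Nat.modEq_iff_dvd' (Nat.le_add_right j h)).1 he
      rw [Nat.add_sub_cancel_left] at hr
      rcases r with _ | r
      · omega
      · nlinarith
    have hdvd : ∀ {j' k : ℕ}, j' < 2 * h → ((2 * h : ℤ) ∣ (j' : ℤ) - k ↔ j' = k % (2 * h)) := by
      intro j' k hj'
      rw [show (2 * h : ℤ) = ((2 * h : ℕ) : ℤ) by push_cast; rfl, ← Nat.modEq_iff_dvd]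
      constructor
      · intro he
        rw [Nat.ModEq, Nat.mod_eq_of_lt hj'] at he
        exact he.symm
      · intro he
        rw [Nat.ModEq, Nat.mod_eq_of_lt hj']
        exact he.symm
    rw [Finset.sum_congr rfl (g := fun j' : ℕ => (if j' = j % (2 * h) then (h : ℂ) * N χ j' else 0) +
      if j' = (j + h) % (2 * h) then -((h : ℂ) * N χ j') else 0) fun j' hj' => by
        have hlt := Finset.mem_range.1 hj'
        by_cases h1 : (2 * h : ℤ) ∣ (j' : ℤ) - j
        · have h1' := (hdvd hlt).1 h1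
          rw [if_pos h1, if_pos h1', if_neg (fun he => hdist (h1'.symm.trans he)), add_zero,
            mul_comm]
        · rw [if_neg h1, if_neg (fun he => h1 ((hdvd hlt).2 he)), zero_add]
          by_cases h2 : (2 * h : ℤ) ∣ (j' : ℤ) - j - h
          · rw [if_pos h2, if_pos ((hdvd hlt).1 (by push_cast; rwa [← sub_sub]))]
            ring
          · rw [if_neg h2, if_neg (fun he => h2 (by
              have := (hdvd (k := j + h) hlt).2 he
              push_cast at this
              rwa [← sub_sub] at this)), mul_zero],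
      Finset.sum_add_distrib, Finset.sum_ite_eq', Finset.sum_ite_eq', if_pos (hmem _),
      if_pos (hmem _), hV]
    push_cast
    ring
  -- the permutation of the odd residues by `e`
  obtain ⟨π, hπ⟩ : ∃ π : ℕ → ℕ, π = fun i => e * (2 * i + 1) % (2 * h) / 2 := ⟨_, rfl⟩
  have hπ1 : ∀ i, 2 * π i + 1 = e * (2 * i + 1) % (2 * h) := fun i => by
    have ho : (e * (2 * i + 1) % (2 * h)) % 2 = 1 := by
      rw [Nat.mod_mod_of_dvd _ (dvd_mul_right 2 h), Nat.mul_mod, Nat.odd_iff.1 hD.e_odd]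
      omega
    simp only [hπ]; omega
  have hπlt : ∀ i, π i < h := fun i => by
    have := hπ1 i
    have := Nat.mod_lt (e * (2 * i + 1)) hH2
    omega
  have hπmod : ∀ i, (2 * h : ℤ) ∣ (2 * (π i : ℤ) + 1) - (e : ℤ) * (2 * i + 1) := fun i => by
    have h1 : e * (2 * i + 1) ≡ 2 * π i + 1 [MOD 2 * h] := by
      rw [hπ1]; exact (Nat.mod_modEq _ _).symm
    have := Nat.modEq_iff_dvd.1 h1
    push_cast at this
    exact this
  have hee : (2 * h : ℤ) ∣ (e : ℤ) * e - 1 := by
    have := Nat.modEq_iff_dvd.1 hD.e_sq.symm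
    push_cast at this
    exact this
  have hππ : ∀ i < h, π (π i) = i := fun i hi => by
    have h1 : e * (2 * π i + 1) ≡ 2 * i + 1 [MOD 2 * h] := by
      rw [hπ1]
      refine ((Nat.mod_modEq _ _).mul_left e).trans ?_
      rw [← mul_assoc]
      simpa using hD.e_sq.mul_right (2 * i + 1)
    have h2 := hπ1 (π i)
    rw [h1, Nat.mod_eq_of_lt (by omega)] at h2
    omega
  have hTπ : ∀ i χ, T (2 * π i + 1) χ = T (2 * i + 1) χ := fun i χ => by
    rw [← hTe (2 * i + 1) χ]
    exact hTmod (hD.pow_eq_iff.2 (by rw [hπ1]; exact Nat.mod_modEq _ _)) χ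
  have hVe : ∀ χ (j : ℕ), V χ (e * j) = V χ j := by
    intro χ j
    apply Int.cast_injective (α := ℂ)
    apply mul_left_cancel₀ (show (h : ℂ) ≠ 0 by exact_mod_cast (by omega : h ≠ 0))
    rw [hinv, hinv]
    refine Finset.sum_nbij' π π (fun i _ => Finset.mem_range.2 (hπlt i))
      (fun i _ => Finset.mem_range.2 (hπlt i)) (fun i hi => hππ i (Finset.mem_range.1 hi))
      (fun i hi => hππ i (Finset.mem_range.1 hi)) fun i _ => ?_
    rw [hTπ]
    congr 1
    refine hzp _ _ ?_
    obtain ⟨r, hr⟩ := hπmod i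
    exact ⟨(j : ℤ) * r, by push_cast; linear_combination (j : ℤ) * hr⟩
  have hVshift : ∀ χ (j : ℕ), V χ (j + h) = -V χ j := fun χ j => by
    simp only [hV]
    rw [show j + h + h = j + 2 * h by ring, Nat.add_mod_right]
    ring
  have hgram : ∀ i ∈ Finset.range h, ∀ i' ∈ Finset.range h,
      ∑ χ ∈ B.toFinset, T (2 * i + 1) χ * conj (T (2 * i' + 1) χ) =
        if i' = i ∨ i' = π i then ((2 * h : ℕ) : ℂ) else 0 := by
    intro i hi i' hi'
    rw [Finset.mem_range] at hi hi'
    have hodd : ∀ k : ℕ, Odd (2 * k + 1) := fun k => ⟨k, rfl⟩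
    have hself : ∑ χ ∈ B.toFinset, T (2 * i + 1) χ * conj (T (2 * i + 1) χ) = ((2 * h : ℕ) : ℂ) := by
      rw [hT]
      show ∑ χ ∈ B.toFinset, secT 2 m (σ ^ (2 * i + 1)) χ φ *
        conj (secT 2 m (σ ^ (2 * i + 1)) χ φ) = _
      rw [sum_secT_mul_conj hM (hord _) (hcom _) (hCH (hodd i)) hind hfd hφ hφ, hnorm, map_one,
        mul_one, hm]
    split_ifs with hii
    · rcases hii with rfl | rfl
      · exact hself
      · simpa only [hTπ] using hself
    · rw [Finset.sum_subset (Finset.subset_univ _) fun χ _ hχ => by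
        rw [hTB (hodd i) χ (fun hh => hχ (Set.mem_toFinset.2 hh)), zero_mul]]
      by_cases hconjg : IsConj (σ ^ (2 * i + 1)) (σ ^ (2 * i' + 1))
      · obtain ⟨g, hg⟩ := isConj_iff.1 hconjg
        have hmap : (Subgroup.zpowers σ).map (MulAut.conj g).toMonoidHom = Subgroup.zpowers σ := by
          rw [← zpowers_eq_of_orderOf_eq (Subgroup.npow_mem_zpowers σ (2 * i + 1))
            (Subgroup.mem_zpowers σ) (by rw [hordl (hodd i), hD.orderσ]), conj_zpowers_map, hg,
            zpowers_eq_of_orderOf_eq (Subgroup.npow_mem_zpowers σ (2 * i' + 1))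
              (Subgroup.mem_zpowers σ) (by rw [hordl (hodd i'), hD.orderσ]),
            zpowers_eq_of_orderOf_eq (Subgroup.npow_mem_zpowers σ (2 * i + 1))
              (Subgroup.mem_zpowers σ) (by rw [hordl (hodd i), hD.orderσ])]
        have hx : ConjMaps g C[Subgroup.zpowers σ] C[Subgroup.zpowers σ] :=
          conjMaps_centralizer hmap
        rw [Finset.sum_congr rfl (g := fun χ => secT 2 m (σ ^ (2 * i + 1)) χ φ *
          conj (secT 2 m (σ ^ (2 * i + 1)) χ (compIrr (conjIso hx) φ))) fun χ _ => by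
            rw [hT]
            show secT 2 m (σ ^ (2 * i + 1)) χ φ * conj (secT 2 m (σ ^ (2 * i' + 1)) χ φ) = _
            rw [← hg, (hmove hx _ χ).2]]
        refine sum_secT_mul_conj_of_ne hM (hord _) (hcom _) (hCH (hodd i)) m m hind.1 hφ
          fun hin => hii ?_
        -- the pair at the rotations is fixed, so `g` acts as an element of `D`
        have hfix : conjIdx g ⟨Subgroup.zpowers σ, f⟩ = ⟨Subgroup.zpowers σ, f⟩ := by
          rw [conjIdx_eq hmap]
          refine Sigma.ext rfl (heq_of_eq ?_)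
          refine isPBlock_eq_of_mem hM (isPBlock_conjSet hx hind.1) hind.1 (χ := φ) ?_ hφ
          simpa [conjSet, pullSet] using hin
        obtain ⟨b, hb⟩ : ∃ b : ℕ, g * σ * g⁻¹ = σ ^ b := by
          have h1 : g * σ * g⁻¹ ∈ Subgroup.zpowers σ := by
            rw [← hmap]
            exact ⟨σ, Subgroup.mem_zpowers σ, rfl⟩
          exact hD.exists_pow h1
        have hQ : Subgroup.zpowers (σ ^ b) = Subgroup.zpowers σ := by
          rw [← hb, ← conj_zpowers_map, hmap]
        obtain ⟨f', hf'⟩ : ∃ f', (⟨Subgroup.zpowers σ, f⟩ : BrauerPairIdx G) =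
            ⟨Subgroup.zpowers (σ ^ b), f'⟩ := by
          rw [hQ]; exact ⟨f, rfl⟩
        obtain ⟨f₁, hf₁⟩ : ∃ f₁, (⟨Subgroup.zpowers σ, f⟩ : BrauerPairIdx G) =
            ⟨Subgroup.zpowers (σ ^ 1), f₁⟩ := by
          rw [pow_one]; exact ⟨f, rfl⟩
        have hb' : σ ^ b = σ ∨ σ ^ b = σ ^ e := by
          have hrc := S.rotation_conj hM (a := 1) (b := b) (f := f₁) (f' := f') ?_ ?_ ?_
            (by rw [pow_one]; exact hb) (by rw [← hf₁]; exact hfix.trans hf')
          · simpa only [pow_one, mul_one] using hrc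
          · intro h0
            rw [pow_one] at h0
            have := Nat.le_of_dvd (by norm_num)
              (orderOf_dvd_of_pow_eq_one (show σ ^ 2 = 1 by rw [sq, h0]))
            rw [hD.orderσ] at this
            omega
          · show Relation.ReflTransGen _ (⟨Subgroup.zpowers (σ ^ 1), f₁⟩ : BrauerPairIdx G) _
            rw [← hf₁]
            exact hle
          · show Relation.ReflTransGen _ (⟨Subgroup.zpowers (σ ^ b), f'⟩ : BrauerPairIdx G) _
            rw [← hf']
            exact hle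
        rw [← conj_pow, hb] at hg
        rcases hb' with a | a
        · left
          rw [a] at hg
          have := hD.pow_eq_iff.1 hg
          rw [Nat.ModEq, Nat.mod_eq_of_lt (by omega), Nat.mod_eq_of_lt (by omega)] at this
          omega
        · right
          rw [a, ← pow_mul] at hg
          have h1 := hD.pow_eq_iff.1 hg
          rw [Nat.ModEq, Nat.mod_eq_of_lt (a := 2 * i' + 1) (by omega), ← hπ1] at h1
          omega
      · rw [hT]
        exact sum_secT_mul_conj_of_not_conj (hord _) (hcom _) (hord _) (hcom _) m m φ φ hconjg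
  have hprod : ∀ j k : ℕ, (h : ℂ) * h * ((∑ χ ∈ B.toFinset, V χ j * V χ k : ℤ) : ℂ) =
      ((2 * h : ℕ) : ℂ) * (∑ i ∈ Finset.range h, ζ ^ (((k : ℤ) - j) * (2 * i + 1)) +
        ∑ i ∈ Finset.range h, ζ ^ (((e : ℤ) * k - j) * (2 * i + 1))) := by
    intro j k
    push_cast
    rw [Finset.mul_sum, Finset.sum_congr rfl (g := fun χ => ∑ i ∈ Finset.range h,
      ∑ i' ∈ Finset.range h, ζ ^ (-(j : ℤ) * (2 * i + 1)) * ζ ^ ((k : ℤ) * (2 * i' + 1)) *
        (T (2 * i + 1) χ * conj (T (2 * i' + 1) χ))) fun χ _ => by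
      rw [show (h : ℂ) * h * ((V χ j : ℂ) * (V χ k : ℂ)) =
          (h : ℂ) * V χ j * conj ((h : ℂ) * V χ k) by
        rw [map_mul, map_natCast, map_intCast]; ring,
        hinv, hinv, map_sum, Finset.sum_mul_sum]
      refine Finset.sum_congr rfl fun i _ => Finset.sum_congr rfl fun i' _ => ?_
      rw [map_mul, hconj, show -(-(k : ℤ) * (2 * (i' : ℤ) + 1)) = (k : ℤ) * (2 * (i' : ℤ) + 1) by ring]
      ring,
      Finset.sum_comm, ← Finset.sum_add_distrib, Finset.mul_sum]
    refine Finset.sum_congr rfl fun i hi => ?_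
    rw [Finset.sum_comm, Finset.sum_congr rfl fun i' hi' => by rw [← Finset.mul_sum, hgram i hi i' hi']]
    simp only [mul_ite, mul_zero]
    have hne : π i ≠ i := fun he => by
      have h1 := hπ1 i
      rw [he] at h1
      refine hD.e_mul_ne ⟨i, rfl⟩ ?_
      rw [Nat.ModEq, Nat.mod_eq_of_lt (a := 2 * i + 1) (by rw [Finset.mem_range] at hi; omega)]
      exact h1.symm
    rw [← Finset.sum_filter, show (Finset.range h).filter (fun i' => i' = i ∨ i' = π i) = {i, π i} by
      ext x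
      simp only [Finset.mem_filter, Finset.mem_insert, Finset.mem_singleton, Finset.mem_range]
      refine ⟨fun hx => hx.2, fun hx => ⟨?_, hx⟩⟩
      rcases hx with rfl | rfl
      exacts [Finset.mem_range.1 hi, hπlt i], Finset.sum_pair hne.symm, ← zpow_add₀ hζ0,
      ← zpow_add₀ hζ0,
      hzp (-(j : ℤ) * (2 * (i : ℤ) + 1) + (k : ℤ) * (2 * (π i : ℤ) + 1))
        (((e : ℤ) * k - j) * (2 * (i : ℤ) + 1)) (by
        obtain ⟨r, hr⟩ := hπmod i
        exact ⟨(k : ℤ) * r, by linear_combination (k : ℤ) * hr⟩)]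
    push_cast
    rw [show -(j : ℤ) * (2 * (i : ℤ) + 1) + (k : ℤ) * (2 * (i : ℤ) + 1) =
      ((k : ℤ) - j) * (2 * (i : ℤ) + 1) by ring]
    ring
  have hcast : (h : ℂ) * h ≠ 0 := by
    have : h ≠ 0 := by omega
    exact mul_ne_zero (Nat.cast_ne_zero.2 this) (Nat.cast_ne_zero.2 this)
  refine ⟨V, ?_, fun χ hχ hh0 => ?_, fun j k hj hk hjh hkh => ?_, fun j g hg => ?_, fun χ hχ j hj => ?_⟩
  · apply Int.cast_injective (α := ℂ)
    apply mul_left_cancel₀ hcast
    rw [hprod 0 0, sum_odd_zpow hζ (by omega), sum_odd_zpow hζ (by omega)]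
    norm_num
    ring
  · -- height zero
    have hpar : (((∑ i ∈ Finset.range (2 * h), N χ i) : ℤ) : ZMod 2) = (V χ 0 : ZMod 2) := by
      have h1 : (((∑ i ∈ Finset.range (2 * h), N χ i) : ℤ) : ZMod 2) =
          ∑ i ∈ Finset.range h, (V χ i : ZMod 2) := by
        rw [two_mul, Finset.sum_range_add, ← Finset.sum_add_distrib]
        push_cast
        refine Finset.sum_congr rfl fun i hi => ?_
        have := Finset.mem_range.1 hi
        simp only [hV]
        rw [Nat.mod_eq_of_lt (a := i) (by omega), Nat.mod_eq_of_lt (a := i + h) (by omega),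
          add_comm h i]
        push_cast
        rw [CharTwo.sub_eq_add]
      rw [h1, ← Finset.add_sum_erase (Finset.range h) _ (Finset.mem_range.2 (by omega : 0 < h)),
        add_eq_left]
      have hmem : ∀ a ∈ (Finset.range h).erase 0, 0 < a ∧ a < h := fun a ha => by
        simp only [Finset.mem_erase, Finset.mem_range] at ha; omega
      have hrefl : ∀ a, 0 < a → a < h → (V χ (h - a) : ZMod 2) = V χ a := by
        intro a ha0 ha
        obtain ⟨r, hr⟩ := hD.h_dvd_succ
        -- `e a` is `h - a` up to a multiple of `h`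
        have hper : ∀ k b : ℕ, (V χ (b + k * h) : ZMod 2) = V χ b := by
          intro k
          induction k with
          | zero => intro b; simp
          | succ k ih =>
            intro b
            rw [Nat.succ_mul, ← add_assoc, hVshift, Int.cast_neg, CharTwo.neg_eq, ih]
        obtain ⟨q, hq⟩ : ∃ q, r * a = q + 1 := ⟨r * a - 1, by
          have : r ≠ 0 := fun h0 => by rw [h0] at hr; omega
          have := Nat.mul_pos (Nat.pos_of_ne_zero this) ha0
          omega⟩
        have he : e * a = (h - a) + q * h := by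
          have h3 : (e + 1) * a = (q + 1) * h := by
            rw [hr, mul_assoc, hq]; ring
          rw [add_one_mul, add_one_mul] at h3
          omega
        rw [← hVe χ a, he, hper]
      refine Finset.sum_involution (fun a _ => h - a) (fun a ha => ?_) (fun a ha hne => ?_)
        (fun a ha => ?_) fun a ha => ?_
      · rw [hrefl a (hmem a ha).1 (hmem a ha).2, CharTwo.add_self_eq_zero]
      · intro heq
        refine hne ?_
        -- the middle value vanishes
        obtain ⟨r, hr⟩ := hD.h_dvd_succ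
        have ha2 : h = 2 * a := by have := (hmem a ha).2; omega
        have h0 : V χ a = 0 := by
          obtain ⟨w, hw⟩ : ∃ w, e = 4 * w + 3 := by
            obtain ⟨M', -, hM'⟩ := hD.two_pow
            have hcases := hD.kind
            refine ⟨e / 4, ?_⟩
            rcases hcases with ⟨he, -⟩ | ⟨he, hh4, -⟩
            · omega
            · obtain ⟨m', rfl⟩ : ∃ m', M' = m' + 2 := ⟨M' - 2, by
                by_contra hcon
                have : M' ≤ 1 := by omega
                interval_cases M' <;> omega⟩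
              rw [pow_add] at hM'
              omega
          have h3 : e * a = a + h + w * (2 * h) := by rw [hw, ha2]; ring
          have h4 := hVe χ a
          have h5 : V χ (a + h + w * (2 * h)) = V χ (a + h) := by
            simp only [hV]
            rw [Nat.add_mul_mod_self_right, show a + h + w * (2 * h) + h = a + h + h + w * (2 * h) by ring,
              Nat.add_mul_mod_self_right]
          rw [h3, h5, hVshift] at h4
          omega
        rw [h0, Int.cast_zero]
      · simp only [Finset.mem_erase, Finset.mem_range]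
        have := hmem a ha; omega
      · have := hmem a ha; omega
    have hu := secT_not_mem hM (hord 1) (hcom 1) (hCH odd_one) hind hfd hχ hh0 hφ h0
    rw [← Int.not_even_iff_odd, ← ZMod.intCast_eq_zero_iff_even]
    intro hz
    rw [← hpar, ZMod.intCast_eq_zero_iff_even] at hz
    refine hu ?_
    have hsum : MemLocalIdeal M (((∑ i ∈ Finset.range (2 * h), N χ i : ℤ) : ℂ)) := by
      obtain ⟨w, hw⟩ := hz
      rw [hw, ← two_mul]
      push_cast
      refine memLocalIdeal_mul_right hM ?_ (intCast_mem _ _)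
      have := (memLocalIdeal_natCast_iff hM 2).2 dvd_rfl
      exact_mod_cast this
    have hTeq : secT 2 m (σ ^ 1) χ φ = T 1 χ := by rw [hT]
    rw [hTeq, hTval]
    have hd : MemLocalIdeal M ((∑ i ∈ Finset.range (2 * h), (N χ i : ℂ) * ζ ^ (i * 1)) -
        ((∑ i ∈ Finset.range (2 * h), N χ i : ℤ) : ℂ)) := by
      push_cast
      rw [← Finset.sum_sub_distrib]
      refine memLocalIdeal_sum hM _ _ fun i _ => ?_
      rw [← mul_sub_one]
      refine memLocalIdeal_mul_left hM (intCast_mem _ _) ?_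
      obtain ⟨m', -, hm'⟩ := hD.two_pow
      exact memLocalIdeal_sub_one_of_pow_prime_pow hM (k := m' + 1) (by
        rw [← pow_mul, mul_one, mul_comm, pow_mul, pow_succ', ← hm', hζ.pow_eq_one, one_pow])
    have := memLocalIdeal_add hM hd hsum
    rwa [sub_add_cancel] at this
  · apply Int.cast_injective (α := ℂ)
    apply mul_left_cancel₀ hcast
    have h3 : ∀ r : ℤ, (2 * h : ℤ) ∣ r → (h : ℤ) ∣ r := fun r hr => (dvd_mul_left (h : ℤ) 2).trans hr
    obtain ⟨r, hr⟩ := hD.h_dvd_succ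
    have hek : ¬ (h : ℤ) ∣ (e : ℤ) * k - j := by
      intro hdiv
      obtain ⟨w, hw⟩ := hdiv
      have hr' : ((e + 1 : ℕ) : ℤ) = ((h * r : ℕ) : ℤ) := by rw [hr]
      push_cast at hr'
      have h4 : (h : ℤ) ∣ ((j + k : ℕ) : ℤ) := ⟨(r : ℤ) * k - w, by
        push_cast; linear_combination (k : ℤ) * hr' - hw⟩
      rw [Int.natCast_dvd_natCast] at h4
      have := Nat.le_of_dvd (by obtain ⟨a, ha⟩ := hj; omega) h4
      omega
    rw [hprod j k, sum_odd_zpow hζ (by omega), sum_odd_zpow hζ (by omega),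
      if_neg (show ¬ (2 * h : ℤ) ∣ (e : ℤ) * k - j from fun hh => hek (h3 _ hh)),
      if_neg (show ¬ (2 * h : ℤ) ∣ (e : ℤ) * k - j - h from fun hh => hek (by
        obtain ⟨w, hw⟩ := hh
        exact ⟨2 * w + 1, by linear_combination hw⟩))]
    by_cases hjk : j = k
    · rw [if_pos hjk, hjk, sub_self, if_pos (dvd_zero _)]
      push_cast; ring
    · rw [if_neg hjk, if_neg, if_neg]
      · simp
      · rintro ⟨w, hw⟩
        rcases lt_trichotomy w 0 with a | a | a
        · have : (2 : ℤ) * h * w ≤ -(2 * h) := by nlinarith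
          omega
        · rw [a] at hw; omega
        · have : (2 * h : ℤ) ≤ 2 * h * w := by nlinarith
          omega
      · rintro ⟨w, hw⟩
        rcases lt_trichotomy w 0 with a | a | a
        · have : (2 : ℤ) * h * w ≤ -(2 * h) := by nlinarith
          omega
        · rw [a] at hw; omega
        · have : (2 * h : ℤ) ≤ 2 * h * w := by nlinarith
          omega
  · -- orthogonality
    have h1 : (h : ℂ) * conj (∑ χ ∈ B.toFinset, (V χ j : ℂ) * (χ : G → ℂ) g) = 0 := by
      simp only [map_sum, map_mul, map_intCast, Finset.mul_sum, ← mul_assoc, hinv, Finset.sum_mul]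
      rw [Finset.sum_comm]
      refine Finset.sum_eq_zero fun i _ => ?_
      rw [Finset.sum_subset (Finset.subset_univ _) fun χ _ hχ => by
        rw [hTB ⟨i, rfl⟩ χ (fun hh => hχ (Set.mem_toFinset.2 hh)), zero_mul, zero_mul],
        Finset.sum_congr rfl (g := fun χ : IrrCharacter G => ζ ^ (-(j : ℤ) * (2 * i + 1)) *
          (T (2 * i + 1) χ * conj ((χ : G → ℂ) g))) fun χ _ => by ring, ← Finset.mul_sum, hT]
      show _ * ∑ χ : IrrCharacter G, secT 2 m (σ ^ (2 * i + 1)) χ φ * conj ((χ : G → ℂ) g) = 0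
      rw [sum_secT_mul_conj_value (hord _) (hcom _) m φ fun x hx => hg ?_, mul_zero]
      rw [← hx, ← MulAut.conj_apply, MulEquiv.orderOf_eq, hordl ⟨i, rfl⟩]
    have h0 : (h : ℂ) ≠ 0 := Nat.cast_ne_zero.2 (by omega)
    exact (map_eq_zero _).1 ((mul_eq_zero.1 h1).resolve_left h0)
  · -- trivial on the central involution
    obtain ⟨q, hq⟩ := hD.dvd_two
    obtain ⟨π', hπ'⟩ : ∃ π' : ℕ → ℕ, π' = fun i => (i + q) % h := ⟨_, rfl⟩
    have hπ'm : ∀ i, (2 * h : ℤ) ∣ (2 * (π' i : ℤ) + 1) - (2 * i + 1 + h) := fun i => by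
      have h1 : i + q ≡ π' i [MOD h] := by rw [hπ']; exact (Nat.mod_modEq _ _).symm
      obtain ⟨w, hw⟩ := Nat.modEq_iff_dvd.1 h1
      push_cast at hw
      exact ⟨w, by subst hq; push_cast at hw ⊢; linarith⟩
    have hπ'π : ∀ i < h, π' (π' i) = i := fun i hi => by
      rw [hπ']
      show ((i + q) % h + q) % h = i
      rw [Nat.mod_add_mod, show i + q + q = i + h by omega, Nat.add_mod_right, Nat.mod_eq_of_lt hi]
    have hπ'lt : ∀ i, π' i < h := fun i => by rw [hπ']; exact Nat.mod_lt _ (by omega)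
    have hTsh : ∀ i, T (2 * π' i + 1) χ = T (2 * i + 1) χ := fun i => by
      rw [hTmod (l' := 2 * i + 1 + h) (hD.pow_eq_iff.2 (Nat.modEq_iff_dvd.2 (by
        have := (hπ'm i).neg_right
        push_cast
        rwa [neg_sub] at this))), hT]
      show secT 2 m (σ ^ (2 * i + 1 + h)) χ φ = secT 2 m (σ ^ (2 * i + 1)) χ φ
      rw [secT_eq_reg_sum, secT_eq_reg_sum]
      congr 1
      refine Finset.sum_congr rfl fun y _ => ?_
      rw [add_comm (2 * i + 1) h, pow_add, mul_assoc, hχ]
    have h1 : (h : ℂ) * (V χ j : ℂ) = -((h : ℂ) * (V χ j : ℂ)) := by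
      conv_rhs => rw [hinv, ← Finset.sum_neg_distrib]
      rw [hinv]
      refine Finset.sum_nbij' π' π' (fun i _ => Finset.mem_range.2 (hπ'lt i))
        (fun i _ => Finset.mem_range.2 (hπ'lt i)) (fun i hi => hπ'π i (Finset.mem_range.1 hi))
        (fun i hi => hπ'π i (Finset.mem_range.1 hi)) fun i _ => ?_
      rw [hTsh, neg_mul_eq_mul_neg]
      congr 1
      have hneg : ζ ^ ((h : ℤ) * j) = -1 := by
        rw [zpow_mul, zpow_natCast ζ h,
          (hζ.pow (a := h) hH2 (mul_comm 2 h)).eq_neg_one_of_two_right, zpow_natCast, hj.neg_one_pow]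
      have h2 := hzp (-(j : ℤ) * (2 * π' i + 1) + (h : ℤ) * j) (-(j : ℤ) * (2 * i + 1)) (by
        obtain ⟨w, hw⟩ := hπ'm i
        exact ⟨-(j : ℤ) * w, by linear_combination -(j : ℤ) * hw⟩)
      rw [zpow_add₀ hζ0, hneg] at h2
      linear_combination -h2
    have h0 : (h : ℂ) * (V χ j : ℂ) = 0 := by linear_combination (1 / 2 : ℂ) * h1
    exact_mod_cast (mul_eq_zero.1 h0).resolve_left (Nat.cast_ne_zero.2 (by omega))

end TameData

end Cfsg.Lib.Block
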