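import Cfsg.Agent.Lib.Block.TameShape
import Cfsg.Agent.Lib.Block.TameArith
import Cfsg.Agent.Lib.Block.TameRot
import Cfsg.Agent.Lib.Block.InflateForm
import Cfsg.Agent.Lib.TwoGroup.Models

/-!
# Blocks with quaternion or semidihedral defect group and central involution

The form of the block is that of the block modulo the involution; the members not trivial on the
involution are bounded.
-/

set_option autoImplicit false
set_option linter.unusedSectionVars false
set_option maxHeartbeats 1600000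

namespace Cfsg.Lib.Block

open Cfsg Cfsg.Lib.Char
open scoped ComplexConjugate

universe u

noncomputable local instance (priority := high) fintypeSubgroupTameCenter {A : Type u}
    [Group A] [Fintype A] (H : Subgroup A) : Fintype H := Fintype.ofFinite H

local notation "C[" Q "]" => Subgroup.centralizer (SetLike.coe Q)

/-- Pairwise orthogonal vectors of norm two orthogonal to a nowhere zero vector have disjoint
supports. -/
theorem split_disjoint {ι α : Type*} (W : Finset α) (s : α → ℤ) (hs : ∀ x ∈ W, s x ≠ 0)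
    (I : Finset ι) (v : ι → α → ℤ) (hnorm : ∀ i ∈ I, ∑ x ∈ W, v i x * v i x = 2)
    (horth : ∀ i ∈ I, ∀ j ∈ I, i ≠ j → ∑ x ∈ W, v i x * v j x = 0)
    (hvs : ∀ i ∈ I, ∑ x ∈ W, v i x * s x = 0) : 2 * I.card ≤ W.card := by
  classical
  obtain ⟨T, hT⟩ : ∃ T : ι → Finset α, T = fun i => W.filter fun x => v i x ≠ 0 := ⟨_, rfl⟩
  have hmem : ∀ i x, x ∈ T i ↔ x ∈ W ∧ v i x ≠ 0 := fun i x => by rw [hT]; simp
  have hsum : ∀ i, ∀ f : α → ℤ, ∑ x ∈ W, v i x * f x = ∑ x ∈ T i, v i x * f x := fun i f => by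
    rw [hT]
    exact (Finset.sum_filter_of_ne (p := fun x => v i x ≠ 0) (s := W)
      fun x _ hne h0 => hne (by rw [h0, zero_mul])).symm
  have hcard : ∀ i ∈ I, (T i).card = 2 := fun i hi => by
    have h1 : ∀ x ∈ T i, v i x * v i x = 1 := fun x hx => by
      obtain ⟨hxW, hne⟩ := (hmem i x).1 hx
      have hle : v i x * v i x ≤ 2 := hnorm i hi ▸
        Finset.single_le_sum (f := fun z => v i z * v i z) (fun z _ => mul_self_nonneg _) hxW
      have hb : -1 ≤ v i x ∧ v i x ≤ 1 := ⟨by nlinarith, by nlinarith⟩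
      rcases (show v i x = 1 ∨ v i x = -1 by omega) with a | a <;> rw [a] <;> norm_num
    have := hnorm i hi
    rw [hsum, Finset.sum_congr rfl h1, Finset.sum_const, nsmul_eq_mul, mul_one] at this
    exact_mod_cast this
  have hdis : (I : Set ι).PairwiseDisjoint T := by
    intro i hi j hj hij
    refine Finset.disjoint_left.2 fun x hxi hxj => ?_
    obtain ⟨hxW, hxi0⟩ := (hmem i x).1 hxi
    obtain ⟨-, hxj0⟩ := (hmem j x).1 hxj
    obtain ⟨x', hx', hset⟩ : ∃ x', x ≠ x' ∧ T i = {x, x'} := by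
      obtain ⟨a, b, hab, he⟩ := Finset.card_eq_two.1 (hcard i hi)
      rw [he, Finset.mem_insert, Finset.mem_singleton] at hxi
      rcases hxi with rfl | rfl
      · exact ⟨b, hab, he⟩
      · exact ⟨a, hab.symm, by rw [he, Finset.pair_comm]⟩
    have e1 : v i x * v j x + v i x' * v j x' = 0 := by
      rw [← horth i hi j hj hij, hsum, hset, Finset.sum_pair hx']
    have e2 : v i x * s x + v i x' * s x' = 0 := by
      rw [← hvs i hi, hsum, hset, Finset.sum_pair hx']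
    have hxj' : v j x' ≠ 0 := fun a => by
      rw [a, mul_zero, add_zero] at e1
      exact (mul_eq_zero.1 e1).elim hxi0 hxj0
    have hxW' : x' ∈ W := ((hmem i x').1 (by rw [hset]; simp)).1
    have hsetj : T j = {x, x'} := by
      refine (Finset.eq_of_subset_of_card_le ?_ ?_).symm
      · intro z hz
        simp only [Finset.mem_insert, Finset.mem_singleton] at hz
        rcases hz with rfl | rfl
        exacts [hxj, (hmem j _).2 ⟨hxW', hxj'⟩]
      · rw [hcard j hj, Finset.card_pair hx']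
    have e3 : v j x * s x + v j x' * s x' = 0 := by
      rw [← hvs j hj, hsum, hsetj, Finset.sum_pair hx']
    have e4 : v i x * v j x * (s x * s x + s x' * s x') = 0 := by
      linear_combination (v j x * s x) * e2 - (v i x' * s x') * e3 + (s x' * s x') * e1
    have : 0 < s x * s x + s x' * s x' :=
      add_pos_of_pos_of_nonneg (mul_self_pos.2 (hs x hxW)) (mul_self_nonneg _)
    exact mul_ne_zero (mul_ne_zero hxi0 hxj0) this.ne' e4
  have h2 : (I.biUnion T).card ≤ W.card := Finset.card_le_card (Finset.biUnion_subset.2 fun i _ => by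
    rw [hT]; exact Finset.filter_subset _ _)
  rw [Finset.card_biUnion hdis, Finset.sum_congr rfl hcard, Finset.sum_const, smul_eq_mul] at h2
  omega

variable {X : Type u} [Group X] [Fintype X] [Fact (Nat.Prime 2)] {M : Ideal AlgInt}

/-- The form of the regular parts, without the count of the members. -/
structure TameForm (Bb : Set (IrrCharacter X)) (A B C : ℤ) (P Q R : X → ℂ) : Prop where
  span : ∀ x ∈ Bb, ∃ a b c : ℤ,
    pRegularPart 2 (x : X → ℂ) = (a : ℂ) • P + (b : ℂ) • Q + (c : ℂ) • R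
  sp : IsSignedPart Bb P
  sq : IsSignedPart Bb Q
  sr : IsSignedPart Bb R
  pp : regP Bb P P = ((1 + A : ℤ) : ℂ)
  pq : regP Bb P Q = ((1 - A : ℤ) : ℂ)
  qq : regP Bb Q Q = ((1 + A : ℤ) : ℂ)
  pr : regP Bb P R = ((C - 1 : ℤ) : ℂ)
  qr : regP Bb Q R = ((-C - 1 : ℤ) : ℂ)
  rr : regP Bb R R = ((1 + B : ℤ) : ℂ)

/-- The rows of the form at three signed members of height zero. -/
theorem TameForm.exists_rows {Bb : Set (IrrCharacter X)} {A B C : ℤ} {P Q R : X → ℂ}
    (T : TameForm Bb A B C P Q R) {m : IrrCharacter X → IrrCharacter X → ℤ}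
    (hm : IsRegForm 2 Bb m) :
    ∃ (p q r : IrrCharacter X) (εp εq εr : ℤ), (p ∈ Bb ∧ q ∈ Bb ∧ r ∈ Bb) ∧
      ((εp = 1 ∨ εp = -1) ∧ (εq = 1 ∨ εq = -1) ∧ (εr = 1 ∨ εr = -1)) ∧
      (blockHeight 2 Bb (p : X → ℂ) = 0 ∧ blockHeight 2 Bb (q : X → ℂ) = 0 ∧
        blockHeight 2 Bb (r : X → ℂ) = 0) ∧
      (εp * εp * m p p = 1 + A ∧ εp * εq * m p q = 1 - A ∧ εq * εq * m q q = 1 + A ∧
        εp * εr * m p r = C - 1 ∧ εq * εr * m q r = -C - 1 ∧ εr * εr * m r r = 1 + B) ∧
      ∀ x ∈ Bb, ∃ a b c : ℤ, εp * m x p = (a + b - c) + (A * (a - b) + C * c) ∧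
        εq * m x q = (a + b - c) - (A * (a - b) + C * c) ∧
        εr * m x r = -(a + b - c) + (C * (a - b) + B * c) := by
  obtain ⟨p, hp, εp, hεp, hp0, rfl⟩ := T.sp
  obtain ⟨q, hq, εq, hεq, hq0, rfl⟩ := T.sq
  obtain ⟨r, hr, εr, hεr, hr0, rfl⟩ := T.sr
  have hlin : ∀ w ∈ Bb, ∀ x ∈ Bb,
      (m w x : ℂ) = regP Bb (pRegularPart 2 (w : X → ℂ)) (pRegularPart 2 (x : X → ℂ)) :=
    fun w hw x hx => by rw [← hm.eq w hw x hx, regN_eq_regP]
  have g : ∀ (x y : IrrCharacter X), x ∈ Bb → y ∈ Bb → ∀ (a b v : ℤ),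
      regP Bb ((a : ℂ) • pRegularPart 2 (x : X → ℂ)) ((b : ℂ) • pRegularPart 2 (y : X → ℂ)) = (v : ℂ) →
        a * b * m x y = v := fun x y hx hy a b v e => by
    rw [regP_smul, ← hlin x hx y hy] at e
    exact_mod_cast e
  have Gpp := g p p hp hp _ _ _ T.pp; have Gpq := g p q hp hq _ _ _ T.pq
  have Gqq := g q q hq hq _ _ _ T.qq; have Gpr := g p r hp hr _ _ _ T.pr
  have Gqr := g q r hq hr _ _ _ T.qr; have Grr := g r r hr hr _ _ _ T.rr
  refine ⟨p, q, r, εp, εq, εr, ⟨hp, hq, hr⟩, ⟨hεp, hεq, hεr⟩, ⟨hp0, hq0, hr0⟩,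
    ⟨Gpp, Gpq, Gqq, Gpr, Gqr, Grr⟩, fun x hx => ?_⟩
  obtain ⟨a, b, c, e⟩ := T.span x hx
  have hrow : ∀ y ∈ Bb, m x y = a * εp * m p y + b * εq * m q y + c * εr * m r y := by
    intro y hy
    apply Int.cast_injective (α := ℂ)
    push_cast
    rw [hlin x hx y hy, e, hlin p hp y hy, hlin q hq y hy, hlin r hr y hy]
    simp only [regP, classInner_add_left, classInner_smul_left]
    ring
  refine ⟨a, b, c, ?_, ?_, ?_⟩
  · rw [hrow p hp, hm.symm p hp q hq, hm.symm p hp r hr]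
    linear_combination a * Gpp + b * Gpq + c * Gpr
  · rw [hrow q hq, hm.symm q hq r hr]
    linear_combination a * Gpq + b * Gqq + c * Gqr
  · rw [hrow r hr]
    linear_combination a * Gpr + b * Gqr + c * Grr

namespace TameData

variable {Bb : Set (IrrCharacter X)} {D : Subgroup X} {c : Set (IrrCharacter C[D])} {σ τ : X}
  {h e : ℕ}

/-- The block modulo the involution. -/
theorem exists_fourShape_deflSet (S : TameData M Bb D c σ τ h e) (hM : IsPModular 2 M)
    (N : Subgroup X) [N.Normal] [Fintype (X ⧸ N)] (hN : N = Subgroup.zpowers (σ ^ h))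
    (hz : σ ^ h ∈ Subgroup.center X) :
    IsPBlock M (deflSet N Bb) ∧ blockRank 2 (deflSet N Bb) = blockRank 2 Bb ∧
      2 ^ blockDefect 2 (deflSet N Bb) * Nat.card N = 2 ^ blockDefect 2 Bb ∧
      2 ^ blockDefect 2 (deflSet N Bb) = 2 * h ∧
      ∃ A B C : ℤ, ∃ gp gq gr : X ⧸ N → ℂ, FourShape (deflSet N Bb) h A B C gp gq gr := by
  have hG := S.grp
  have hord : orderOf (σ ^ h) = 2 := orderOf_eq_prime (by rw [sq, hG.mid_sq]) hG.mid_ne
  have hNp : IsPGroup 2 N := IsPGroup.of_card (n := 1) (by rw [hN, Nat.card_zpowers, hord, pow_one])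
  have hNc : N ≤ Subgroup.center X := hN ▸ Subgroup.zpowers_le.2 hz
  have hB := S.block
  have hD := isDefectGroup_of_maximal hM S.maxPair
  have hND : N ≤ D := hN ▸ Subgroup.zpowers_le.2 hG.mid_mem
  obtain ⟨hBb, hdef⟩ := deflSet_central hM hNp hNc hB
  have hcardN : Nat.card N = 2 := by rw [hN, Nat.card_zpowers, hord]
  have hcard : Nat.card (D.map (QuotientGroup.mk' N)) = 2 * h := by
    have h1 := card_map_mk_mul (p := 2) (N := N) (P := D) hND
    rw [hcardN, hG.card] at h1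
    omega
  have hd : 2 ^ blockDefect 2 (deflSet N Bb) = 2 * h := by
    rw [← card_defectGroup hM hBb (hdef D hD), hcard]
  refine ⟨hBb, blockRank_deflSet hM N hNp (fun g _ => centralizer_of_le_center hNc g) hB, ?_, hd, ?_⟩
  · rw [hd, hcardN, ← card_defectGroup hM hB hD, hG.card]; ring
  obtain ⟨r, hr⟩ : ∃ r, r = ((σ : X) : X ⧸ N) := ⟨_, rfl⟩
  obtain ⟨t, ht⟩ : ∃ t, t = ((τ : X) : X ⧸ N) := ⟨_, rfl⟩
  have hzN : ((σ ^ h : X) : X ⧸ N) = 1 := by
    rw [QuotientGroup.eq_one_iff, hN]; exact Subgroup.mem_zpowers _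
  have ht2 : t * t = 1 := by
    rw [ht, ← QuotientGroup.mk_mul]
    rcases hG.kind with ⟨-, a⟩ | ⟨-, -, a⟩ <;> rw [a]
    exacts [hzN, rfl]
  have hinv : t * r * t⁻¹ = r⁻¹ := by
    rw [ht, hr, ← QuotientGroup.mk_inv, ← QuotientGroup.mk_mul, ← QuotientGroup.mk_mul, hG.conj,
      eq_inv_iff_mul_eq_one, ← QuotientGroup.mk_mul, ← pow_succ]
    obtain ⟨j, hj⟩ := hG.h_dvd_succ
    rw [hj, pow_mul, QuotientGroup.mk_pow, hzN, one_pow]
  have hnot : t ∉ Subgroup.zpowers r := fun hm => by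
    obtain ⟨i, hi⟩ := Subgroup.mem_zpowers_iff.1 hm
    rw [ht, hr, ← QuotientGroup.mk_zpow, QuotientGroup.eq, hN] at hi
    obtain ⟨j, hj⟩ := Subgroup.mem_zpowers_iff.1 hi
    refine hG.τnot ?_
    rw [show τ = σ ^ i * (σ ^ h) ^ j by rw [hj, mul_inv_cancel_left]]
    exact mul_mem (zpow_mem (Subgroup.mem_zpowers σ) i)
      (zpow_mem (Subgroup.npow_mem_zpowers σ h) j)
  have hclosure : Subgroup.closure ({r, t} : Set (X ⧸ N)) = D.map (QuotientGroup.mk' N) := by
    refine le_antisymm ((Subgroup.closure_le _).2 ?_) ?_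
    · rintro a (ha | ha)
      · exact ⟨σ, hG.σmem, by rw [ha, hr]; rfl⟩
      · rw [Set.mem_singleton_iff] at ha
        exact ⟨τ, hG.τmem, by rw [ha, ht]; rfl⟩
    · rintro _ ⟨d, hd', rfl⟩
      rcases hG.cases_mem hd' with ⟨i, rfl⟩ | ⟨i, rfl⟩
      · rw [map_pow, show QuotientGroup.mk' N σ = r from hr.symm]
        exact pow_mem (Subgroup.subset_closure (Set.mem_insert _ _)) _
      · rw [map_mul, map_pow, show QuotientGroup.mk' N σ = r from hr.symm,
          show QuotientGroup.mk' N τ = t from ht.symm]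
        exact mul_mem (pow_mem (Subgroup.subset_closure (Set.mem_insert _ _)) _)
          (Subgroup.subset_closure (Set.mem_insert_of_mem _ rfl))
  obtain ⟨ee⟩ := Cfsg.Lib.TwoGroup.equiv_dihedral ht2 hinv hnot
  rw [hclosure] at ee
  have hor : orderOf r = h := by
    have := hcard
    rw [Nat.card_congr ee.toEquiv, DihedralGroup.nat_card] at this
    omega
  rw [hor] at ee
  obtain ⟨m, hm1, hm⟩ := hG.two_pow
  rcases m with _ | _ | m₀
  · omega
  · rw [zero_add, pow_one] at hm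
    subst hm
    refine fourShape_klein hM hBb (hdef D hD) ?_
    exact ⟨by rw [Nat.card_congr ee.toEquiv]; exact IsKleinFour.card_four,
      by rw [Monoid.exponent_eq_of_mulEquiv ee]; exact IsKleinFour.exponent_two⟩
  · have he : h = 2 * 2 ^ (m₀ + 1) := by rw [hm, pow_succ']
    subst he
    exact fourShape_dihedral hM hBb (hdef D hD) ee

open Classical in
/-- The form, the number of members, and the bound on the members not trivial on the involution. -/
theorem central_form (S : TameData M Bb D c σ τ h e) (hM : IsPModular 2 M)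
    (hz : σ ^ h ∈ Subgroup.center X) :
    ∃ A B C : ℤ, ∃ P Q R : X → ℂ, TameForm Bb A B C P Q R ∧
      ((A = 0 ∧ B = 0 ∧ C = 0 ∧ blockRank 2 Bb = 1 ∧ Nat.card Bb ≤ h + 3 ∧
          (h + 1 ≤ Nat.card Bb → Nat.card Bb = h + 3)) ∨
        (∃ q δ : ℤ, Even q ∧ (h : ℤ) = 2 * q ∧ (δ = 1 ∨ δ = -1) ∧ A = q ∧ B = q ∧ C = δ * q ∧
          blockRank 2 Bb = 2 ∧ Nat.card Bb ≤ h + 4 ∧ Nat.card Bb ≠ h + 3) ∨
        (A = h ∧ B = h ∧ C = 0 ∧ blockRank 2 Bb = 3 ∧ Nat.card Bb ≤ h + 5)) := by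
  obtain ⟨N, hN⟩ : ∃ N, N = Subgroup.zpowers (σ ^ h) := ⟨_, rfl⟩
  have hG := S.grp
  have hNc : N ≤ Subgroup.center X := hN ▸ Subgroup.zpowers_le.2 hz
  haveI : N.Normal :=
    ⟨fun m hm g => by rw [(Subgroup.mem_center_iff.1 (hNc hm)) g, mul_inv_cancel_right]; exact hm⟩
  haveI := Fintype.ofFinite (X ⧸ N)
  obtain ⟨hBb, hrk, hdN, hd, A, B, C, gp, gq, gr, F⟩ := S.exists_fourShape_deflSet hM N hN hz
  have hord : orderOf (σ ^ h) = 2 := orderOf_eq_prime (by rw [sq, hG.mid_sq]) hG.mid_ne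
  have hcardN : Nat.card N = 2 := by rw [hN, Nat.card_zpowers, hord]
  have hNp : IsPGroup 2 N := IsPGroup.of_card (n := 1) (by rw [hcardN, pow_one])
  have hB := S.block
  have h2 := hG.two_le
  have hd4 : ((2 : ℕ) : ℤ) ^ blockDefect 2 Bb = 4 * h := by
    have : ((2 ^ blockDefect 2 Bb : ℕ) : ℤ) = ((4 * h : ℕ) : ℤ) := by
      rw [← hdN, hd, hcardN]; congr 1; ring
    push_cast at this ⊢; linarith
  obtain ⟨mm, hmm⟩ := exists_regForm hM hBb
  obtain ⟨m, hm⟩ := exists_regForm hM hB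
  have hin : ∀ φ : IrrCharacter (X ⧸ N), φ ∈ deflSet N Bb → infl N φ ∈ Bb := fun φ hφ => hφ
  have hmeq : ∀ φ ∈ deflSet N Bb, ∀ ψ ∈ deflSet N Bb, m (infl N φ) (infl N ψ) = mm φ ψ := by
    intro φ hφ ψ hψ
    apply Int.cast_injective (α := ℂ)
    rw [← hm.eq _ (hin φ hφ) _ (hin ψ hψ), ← hmm.eq φ hφ ψ hψ, regN_infl hNp hNc hdN]
  have hh0 : ∀ φ ∈ deflSet N Bb, blockHeight 2 (deflSet N Bb) (φ : X ⧸ N → ℂ) = 0 →
      blockHeight 2 Bb (infl N φ : X → ℂ) = 0 := by
    intro φ hφ h0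
    by_contra hne
    refine hmm.not_dvd φ hφ φ hφ h0 ?_
    rw [← hmeq φ hφ φ hφ, h0, zero_add, pow_one]
    exact (dvd_pow_self _ hne).trans (hm.dvd _ (hin φ hφ) _ (hin φ hφ))
  -- the lifts
  obtain ⟨p₀, hp₀, εp, hεp, hp00, hgp⟩ := F.sp
  obtain ⟨q₀, hq₀, εq, hεq, hq00, hgq⟩ := F.sq
  obtain ⟨r₀, hr₀, εr, hεr, hr00, hgr⟩ := F.sr
  have hP : ∀ (x y : IrrCharacter (X ⧸ N)), x ∈ deflSet N Bb → y ∈ deflSet N Bb → ∀ (a b : ℤ),
      regP Bb ((a : ℂ) • pRegularPart 2 (infl N x : X → ℂ))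
          ((b : ℂ) • pRegularPart 2 (infl N y : X → ℂ)) =
        regP (deflSet N Bb) ((a : ℂ) • pRegularPart 2 (x : X ⧸ N → ℂ))
          ((b : ℂ) • pRegularPart 2 (y : X ⧸ N → ℂ)) := fun x y hx hy a b => by
    rw [regP_smul, regP_smul, ← regN_eq_regP, ← regN_eq_regP, regN_infl hNp hNc hdN]
  have hmk : ∀ g : X, IsPRegular 2 g → IsPRegular 2 (g : X ⧸ N) := fun g hg h =>
    hg (h.trans (orderOf_map_dvd (QuotientGroup.mk' N) g))
  have hT : TameForm Bb A B C ((εp : ℂ) • pRegularPart 2 (infl N p₀ : X → ℂ))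
      ((εq : ℂ) • pRegularPart 2 (infl N q₀ : X → ℂ))
      ((εr : ℂ) • pRegularPart 2 (infl N r₀ : X → ℂ)) := by
    refine ⟨fun x hx => ?_, ⟨_, hin _ hp₀, εp, hεp, hh0 _ hp₀ hp00, rfl⟩,
      ⟨_, hin _ hq₀, εq, hεq, hh0 _ hq₀ hq00, rfl⟩, ⟨_, hin _ hr₀, εr, hεr, hh0 _ hr₀ hr00, rfl⟩,
      ?_, ?_, ?_, ?_, ?_, ?_⟩
    · obtain ⟨cf, hcf⟩ := regPart_deflSet_int hM hNp hNc hB hx
      choose! a b c' hspan using F.span
      refine ⟨∑ φ ∈ (deflSet N Bb).toFinset, cf φ * a φ, ∑ φ ∈ (deflSet N Bb).toFinset, cf φ * b φ,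
        ∑ φ ∈ (deflSet N Bb).toFinset, cf φ * c' φ, funext fun g => ?_⟩
      by_cases hg : IsPRegular 2 g
      · rw [hcf]
        simp only [Finset.sum_apply, Pi.add_apply, Pi.smul_apply, smul_eq_mul, Int.cast_sum,
          Int.cast_mul, Finset.sum_mul, ← Finset.sum_add_distrib]
        refine Finset.sum_congr rfl fun φ hφ => ?_
        have e1 := congrFun (hspan φ (Set.mem_toFinset.1 hφ)) (g : X ⧸ N)
        rw [hgp, hgq, hgr] at e1
        simp only [Pi.add_apply, Pi.smul_apply, smul_eq_mul, pRegularPart_of_reg (hmk g hg)] at e1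
        simp only [pRegularPart_of_reg hg, infl_coe, Function.comp_apply, e1]
        ring
      · simp [pRegularPart_of_sing hg]
    all_goals rw [hP _ _ (by assumption) (by assumption)]
    · rw [← hgp]; exact F.pp
    · rw [← hgp, ← hgq]; exact F.pq
    · rw [← hgq]; exact F.qq
    · rw [← hgp, ← hgr]; exact F.pr
    · rw [← hgq, ← hgr]; exact F.qr
    · rw [← hgr]; exact F.rr
  refine ⟨A, B, C, _, _, _, hT, ?_⟩
  -- the members not trivial on the involution
  obtain ⟨I, hI⟩ : ∃ I, I = (deflSet N Bb).toFinset.image (infl N) := ⟨_, rfl⟩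
  have hIB : I ⊆ Bb.toFinset := by
    rw [hI]; intro x hx
    obtain ⟨φ, hφ, rfl⟩ := Finset.mem_image.1 hx
    exact Set.mem_toFinset.2 (hin φ (Set.mem_toFinset.1 hφ))
  obtain ⟨W, hW⟩ : ∃ W, W = Bb.toFinset \ I := ⟨_, rfl⟩
  have hIsum : ∀ f : IrrCharacter X → ℤ,
      ∑ x ∈ I, f x = ∑ φ ∈ (deflSet N Bb).toFinset, f (infl N φ) := fun f => by
    rw [hI, Finset.sum_image fun a _ b _ h => infl_injective N h]
  have hWsum : ∀ f : IrrCharacter X → ℤ,
      ∑ x ∈ W, f x = ∑ x ∈ Bb.toFinset, f x - ∑ x ∈ I, f x := fun f => by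
    rw [hW, ← Finset.sum_sdiff hIB]; ring
  have hcardI : I.card = h / 2 + 3 := by
    rw [hI, Finset.card_image_of_injective _ (infl_injective N), ← Nat.card_eq_card_toFinset, F.card]
  have hk : Nat.card Bb = h / 2 + 3 + W.card := by
    rw [Nat.card_eq_card_toFinset, hW, Finset.card_sdiff_of_subset hIB, hcardI]
    have := Finset.card_le_card hIB
    omega
  have hWmem : ∀ x ∈ W, x ∈ Bb := fun x hx => by
    rw [hW, Finset.mem_sdiff, Set.mem_toFinset] at hx; exact hx.1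
  -- heights
  obtain ⟨V, hV4, hVodd, hVgram, hVorth, hVtriv⟩ := S.exists_rotation_vectors hM
  have hWpos : ∀ x ∈ W, blockHeight 2 Bb (x : X → ℂ) ≠ 0 := by
    intro x hx hx0
    have h4 := card_odd_mul_le Bb.toFinset (fun y => V y 0)
      (fun y => blockHeight 2 Bb (y : X → ℂ) = 0) hV4 fun y hy h0 =>
        hVodd y (Set.mem_toFinset.1 hy) h0
    have hsub : insert x (((deflSet N Bb).toFinset.filter fun (φ : IrrCharacter (X ⧸ N)) =>
        blockHeight 2 (deflSet N Bb) (φ : X ⧸ N → ℂ) = 0).image (infl N)) ⊆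
        Bb.toFinset.filter fun y => blockHeight 2 Bb (y : X → ℂ) = 0 := by
      intro y hy
      rcases Finset.mem_insert.1 hy with rfl | hy
      · exact Finset.mem_filter.2 ⟨Set.mem_toFinset.2 (hWmem _ hx), hx0⟩
      · obtain ⟨φ, hφ, rfl⟩ := Finset.mem_image.1 hy
        obtain ⟨hφ, h0⟩ := Finset.mem_filter.1 hφ
        exact Finset.mem_filter.2 ⟨Set.mem_toFinset.2 (hin φ (Set.mem_toFinset.1 hφ)),
          hh0 φ (Set.mem_toFinset.1 hφ) h0⟩
    have h5 := (Finset.card_le_card hsub).trans h4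
    rw [Finset.card_insert_of_notMem (fun hy => by
        obtain ⟨φ, hφ, rfl⟩ := Finset.mem_image.1 hy
        rw [hW, Finset.mem_sdiff] at hx
        exact hx.2 (hI ▸ Finset.mem_image_of_mem _ (Finset.mem_filter.1 hφ).1)),
      Finset.card_image_of_injective _ (infl_injective N)] at h5
    have h6 := F.four
    rw [Nat.card_eq_fintype_card, Fintype.card_subtype] at h6
    have : ((deflSet N Bb).toFinset.filter fun (φ : IrrCharacter (X ⧸ N)) =>
        blockHeight 2 (deflSet N Bb) (φ : X ⧸ N → ℂ) = 0).card = 4 := by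
      rw [← h6]; congr 1; ext φ; simp
    omega
  -- the rows
  have hlin : ∀ w ∈ Bb, ∀ x ∈ Bb,
      (m w x : ℂ) = regP Bb (pRegularPart 2 (w : X → ℂ)) (pRegularPart 2 (x : X → ℂ)) :=
    fun w hw x hx => by rw [← hm.eq w hw x hx, regN_eq_regP]
  have hm0 : ∀ (x y : IrrCharacter (X ⧸ N)), x ∈ deflSet N Bb → y ∈ deflSet N Bb → ∀ (a b v : ℤ),
      regP (deflSet N Bb) ((a : ℂ) • pRegularPart 2 (x : X ⧸ N → ℂ))
        ((b : ℂ) • pRegularPart 2 (y : X ⧸ N → ℂ)) = (v : ℂ) →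
        a * b * m (infl N x) (infl N y) = v := fun x y hx hy a b v e => by
    rw [← hP x y hx hy, regP_smul, ← hlin _ (hin x hx) _ (hin y hy)] at e
    exact_mod_cast e
  have Gpp := hm0 _ _ hp₀ hp₀ εp εp _ (by rw [← hgp]; exact F.pp)
  have Gpq := hm0 _ _ hp₀ hq₀ εp εq _ (by rw [← hgp, ← hgq]; exact F.pq)
  have Gqq := hm0 _ _ hq₀ hq₀ εq εq _ (by rw [← hgq]; exact F.qq)
  have Gpr := hm0 _ _ hp₀ hr₀ εp εr _ (by rw [← hgp, ← hgr]; exact F.pr)
  have Gqr := hm0 _ _ hq₀ hr₀ εq εr _ (by rw [← hgq, ← hgr]; exact F.qr)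
  have Grr := hm0 _ _ hr₀ hr₀ εr εr _ (by rw [← hgr]; exact F.rr)
  have hWmul : ∀ (x y : IrrCharacter (X ⧸ N)), x ∈ deflSet N Bb → y ∈ deflSet N Bb →
      ∑ w ∈ W, m w (infl N x) * m w (infl N y) = 2 * h * m (infl N x) (infl N y) := by
    intro x y hx hy
    rw [hWsum, hIsum]
    have e1 : ∑ w ∈ Bb.toFinset, m w (infl N x) * m w (infl N y) =
        4 * h * m (infl N x) (infl N y) := by
      rw [← hd4, ← hm.sum_mul hM hB (hin x hx) (hin y hy)]
      exact Finset.sum_congr rfl fun w hw => by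
        rw [hm.symm _ (hin x hx) w (Set.mem_toFinset.1 hw)]
    have e2 : ∑ w ∈ (deflSet N Bb).toFinset, m (infl N w) (infl N x) * m (infl N w) (infl N y) =
        2 * h * m (infl N x) (infl N y) := by
      rw [hmeq x hx y hy, show (2 * (h : ℤ)) = ((2 : ℕ) : ℤ) ^ blockDefect 2 (deflSet N Bb) by
        exact_mod_cast hd.symm, ← hmm.sum_mul hM hBb hx hy]
      exact Finset.sum_congr rfl fun w hw => by
        rw [hmeq w (Set.mem_toFinset.1 hw) x hx, hmeq w (Set.mem_toFinset.1 hw) y hy,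
          hmm.symm x hx w (Set.mem_toFinset.1 hw)]
    rw [e1, e2]; ring
  -- coordinates on the others
  choose! a b c' hspan using hT.span
  have hrow : ∀ x ∈ Bb, εp * m x (infl N p₀) = (a x + b x - c' x) + (A * (a x - b x) + C * c' x) ∧
      εq * m x (infl N q₀) = (a x + b x - c' x) - (A * (a x - b x) + C * c' x) ∧
      εr * m x (infl N r₀) = -(a x + b x - c' x) + (C * (a x - b x) + B * c' x) := by
    intro x hx
    have hr' : ∀ y ∈ Bb, m x y = a x * εp * m (infl N p₀) y + b x * εq * m (infl N q₀) y +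
        c' x * εr * m (infl N r₀) y := by
      intro y hy
      apply Int.cast_injective (α := ℂ)
      push_cast
      rw [hlin x hx y hy, hspan x hx, hlin _ (hin _ hp₀) y hy, hlin _ (hin _ hq₀) y hy,
        hlin _ (hin _ hr₀) y hy]
      simp only [regP, classInner_add_left, classInner_smul_left]
      ring
    refine ⟨?_, ?_, ?_⟩
    · rw [hr' _ (hin _ hp₀), hm.symm _ (hin _ hp₀) _ (hin _ hq₀), hm.symm _ (hin _ hp₀) _ (hin _ hr₀)]
      linear_combination a x * Gpp + b x * Gpq + c' x * Gpr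
    · rw [hr' _ (hin _ hq₀), hm.symm _ (hin _ hq₀) _ (hin _ hr₀)]
      linear_combination a x * Gpq + b x * Gqq + c' x * Gqr
    · rw [hr' _ (hin _ hr₀)]
      linear_combination a x * Gpr + b x * Gqr + c' x * Grr
  obtain ⟨s, hs⟩ : ∃ s : IrrCharacter X → ℤ, s = fun x => a x + b x - c' x := ⟨_, rfl⟩
  obtain ⟨dp, hdp⟩ : ∃ d : IrrCharacter X → ℤ, d = fun x => A * (a x - b x) + C * c' x := ⟨_, rfl⟩
  obtain ⟨dr, hdr⟩ : ∃ d : IrrCharacter X → ℤ, d = fun x => C * (a x - b x) + B * c' x := ⟨_, rfl⟩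
  have hu : ∀ x ∈ W, εp * m x (infl N p₀) = s x + dp x ∧ εq * m x (infl N q₀) = s x - dp x ∧
      εr * m x (infl N r₀) = -s x + dr x := fun x hx => by
    rw [hs, hdp, hdr]; exact hrow x (hWmem x hx)
  have hsum : ∀ (x y : IrrCharacter (X ⧸ N)) (e₁ e₂ v : ℤ) (f g : IrrCharacter X → ℤ),
      x ∈ deflSet N Bb → y ∈ deflSet N Bb → e₁ * e₂ * m (infl N x) (infl N y) = v →
      (∀ w ∈ W, e₁ * m w (infl N x) = f w) → (∀ w ∈ W, e₂ * m w (infl N y) = g w) →
      ∑ w ∈ W, f w * g w = 2 * h * v := by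
    intro x y e₁ e₂ v f g hx hy hv hf hg
    rw [← hv, Finset.sum_congr rfl (g := fun w => e₁ * e₂ * (m w (infl N x) * m w (infl N y)))
      fun w hw => by rw [← hf w hw, ← hg w hw]; ring, ← Finset.mul_sum, hWmul x y hx hy]
    ring
  have Spp := hsum p₀ p₀ εp εp _ _ _ hp₀ hp₀ Gpp (fun w hw => (hu w hw).1) (fun w hw => (hu w hw).1)
  have Spq := hsum p₀ q₀ εp εq _ _ _ hp₀ hq₀ Gpq (fun w hw => (hu w hw).1) (fun w hw => (hu w hw).2.1)
  have Sqq := hsum q₀ q₀ εq εq _ _ _ hq₀ hq₀ Gqq (fun w hw => (hu w hw).2.1) (fun w hw => (hu w hw).2.1)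
  have Spr := hsum p₀ r₀ εp εr _ _ _ hp₀ hr₀ Gpr (fun w hw => (hu w hw).1) (fun w hw => (hu w hw).2.2)
  have Sqr := hsum q₀ r₀ εq εr _ _ _ hq₀ hr₀ Gqr (fun w hw => (hu w hw).2.1) (fun w hw => (hu w hw).2.2)
  have Srr := hsum r₀ r₀ εr εr _ _ _ hr₀ hr₀ Grr (fun w hw => (hu w hw).2.2) (fun w hw => (hu w hw).2.2)
  simp only [mul_add, add_mul, mul_sub, sub_mul, neg_mul, mul_neg, Finset.sum_add_distrib,
    Finset.sum_sub_distrib, Finset.sum_neg_distrib] at Spp Spq Sqq Spr Sqr Srr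
  have hcm : ∀ f g : IrrCharacter X → ℤ, ∑ w ∈ W, g w * f w = ∑ w ∈ W, f w * g w :=
    fun f g => Finset.sum_congr rfl fun w _ => mul_comm _ _
  rw [hcm s dp] at Spp Spq Sqq
  rw [hcm s dp] at Spr Sqr
  rw [hcm s dr] at Srr
  have Sss : ∑ w ∈ W, s w * s w = 2 * h := by linarith
  have Sdd : ∑ w ∈ W, dp w * dp w = 2 * h * A := by linarith
  have Ssd : ∑ w ∈ W, s w * dp w = 0 := by linarith
  have Ssr : ∑ w ∈ W, s w * dr w = 0 := by linarith
  have Srd : ∑ w ∈ W, dr w * dr w = 2 * h * B := by linarith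
  have Sdr : ∑ w ∈ W, dp w * dr w = 2 * h * C := by linarith
  -- parity
  have hev : ∀ w ∈ W, Even (εp * m w (infl N p₀)) := fun w hw => by
    have hd2 : (2 : ℤ) ∣ m (infl N p₀) w :=
      (dvd_pow_self _ (hWpos w hw)).trans (hm.dvd _ (hin _ hp₀) w (hWmem w hw))
    rw [hm.symm _ (hin _ hp₀) w (hWmem w hw), even_iff_two_dvd]
    exact hd2.mul_left _
  have hne : ∀ w ∈ W, εp * m w (infl N p₀) ≠ 0 ∧ εr * m w (infl N r₀) ≠ 0 := fun w hw => by
    have hnz : ∀ x ∈ deflSet N Bb, blockHeight 2 (deflSet N Bb) (x : X ⧸ N → ℂ) = 0 →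
        m w (infl N x) ≠ 0 := fun x hx h0 e => by
      refine hm.not_dvd _ (hin x hx) w (hWmem w hw) (hh0 x hx h0) ?_
      rw [← hm.symm _ (hin x hx) w (hWmem w hw), e]
      exact dvd_zero _
    exact ⟨mul_ne_zero (by omega) (hnz _ hp₀ hp00), mul_ne_zero (by omega) (hnz _ hr₀ hr00)⟩
  have hsev : ∀ w ∈ W, Even (s w) := fun w hw => by
    have h1 := hev w hw
    rw [(hu w hw).1] at h1
    refine (Int.even_add.1 h1).2 ?_
    rw [hdp]
    exact (F.evA.mul_right _).add (F.evC.mul_right _)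
  have heven : Even h := even_iff_two_dvd.2 hG.dvd_two
  have hrank : A + B = h * ((blockRank 2 Bb : ℤ) - 1) := hrk ▸ F.rank
  have hhz : (h : ℤ) ≠ 0 := by omega
  obtain ⟨m', hm1, hm'⟩ := hG.two_pow
  -- the excluded forms
  have hexcl : ∀ y : IrrCharacter X → ℤ, (∀ w ∈ W, s w ≠ 0) → ∑ w ∈ W, y w * y w = 2 →
      ∑ w ∈ W, s w * y w = 0 →
      (∀ j, Odd j → ∑ w ∈ W, V w j * s w = 0 ∧ ∑ w ∈ W, V w j * (h * y w) = 0) → False := by
    intro y hs0 hyy hsy hVy
    obtain ⟨hW1, -⟩ := split_one (W := W) (s := s) (h := h) (fun w hw => by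
      obtain ⟨k, hk⟩ := hsev w hw
      exact ⟨k, by rw [hk]; ring, fun h0 => hs0 w hw (by rw [hk, h0]; rfl)⟩) Sss heven
    obtain ⟨J, hJ⟩ : ∃ J : Finset (Option ℕ),
        J = insert none ((Finset.range (h / 2 / 2)).image some) := ⟨_, rfl⟩
    have hJc : J.card = h / 2 / 2 + 1 := by
      rw [hJ, Finset.card_insert_of_notMem (by simp),
        Finset.card_image_of_injective _ (Option.some_injective _), Finset.card_range]
    obtain ⟨v, hv⟩ : ∃ v : Option ℕ → IrrCharacter X → ℤ,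
        v = fun i w => i.elim (y w) (fun i => V w (2 * i + 1)) := ⟨_, rfl⟩
    have hVW : ∀ j k, Odd j → ∑ w ∈ W, V w j * V w k = ∑ w ∈ Bb.toFinset, V w j * V w k := by
      intro j k hj
      rw [hWsum, hIsum, Finset.sum_eq_zero (s := (deflSet N Bb).toFinset) fun φ _ => by
        rw [hVtriv (infl N φ) (fun g => by
          rw [infl_coe, Function.comp_apply, Function.comp_apply, QuotientGroup.mk_mul,
            show ((σ ^ h : X) : X ⧸ N) = 1 by
              rw [QuotientGroup.eq_one_iff, hN]; exact Subgroup.mem_zpowers _, one_mul]) j hj,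
          zero_mul], sub_zero]
    have hyV : ∀ j, Odd j → ∑ w ∈ W, V w j * y w = 0 := fun j hj => by
      have h1 := (hVy j hj).2
      rw [Finset.sum_congr rfl (g := fun w => (h : ℤ) * (V w j * y w)) fun w _ => by ring,
        ← Finset.mul_sum] at h1
      exact (mul_eq_zero.1 h1).resolve_left hhz
    have hcases : ∀ i ∈ J, i = none ∨ ∃ k, i = some k ∧ 2 * (2 * k + 1) < h := fun i hi => by
      rw [hJ] at hi
      simp only [Finset.mem_insert, Finset.mem_image, Finset.mem_range] at hi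
      rcases hi with rfl | ⟨k, hk, rfl⟩
      · exact Or.inl rfl
      · exact Or.inr ⟨k, rfl, by omega⟩
    have hfin := split_disjoint W s hs0 J v (fun i hi => ?_) (fun i hi j hj hij => ?_) fun i hi => ?_
    · obtain ⟨t, rfl⟩ := heven
      omega
    · rcases hcases i hi with rfl | ⟨k, rfl, hk⟩ <;> rw [hv] <;> simp only [Option.elim]
      · exact hyy
      · rw [hVW _ _ ⟨k, rfl⟩, hVgram _ _ ⟨k, rfl⟩ ⟨k, rfl⟩ hk hk, if_pos rfl]
    · rcases hcases i hi with rfl | ⟨k, rfl, hk⟩ <;> rcases hcases j hj with rfl | ⟨l, rfl, hl⟩ <;>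
        rw [hv] <;> simp only [Option.elim]
      · exact absurd rfl hij
      · rw [← hyV (2 * l + 1) ⟨l, rfl⟩]; exact Finset.sum_congr rfl fun w _ => mul_comm _ _
      · exact hyV _ ⟨k, rfl⟩
      · rw [hVW _ _ ⟨k, rfl⟩, hVgram _ _ ⟨k, rfl⟩ ⟨l, rfl⟩ hk hl, if_neg]
        exact fun e => hij (congrArg some (by omega))
    · rcases hcases i hi with rfl | ⟨k, rfl, hk⟩ <;> rw [hv] <;> simp only [Option.elim]
      · rw [← hsy]; exact Finset.sum_congr rfl fun w _ => mul_comm _ _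
      · exact (hVy _ ⟨k, rfl⟩).1
  -- the rotation vectors are orthogonal to the rows
  have hVm : ∀ j, Odd j → ∀ x ∈ deflSet N Bb, ∑ w ∈ W, V w j * m w (infl N x) = 0 := by
    intro j hj x hx
    rw [hWsum, hIsum, Finset.sum_eq_zero (s := (deflSet N Bb).toFinset) fun φ _ => by
      rw [hVtriv (infl N φ) (fun g => by
        rw [infl_coe, Function.comp_apply, Function.comp_apply, QuotientGroup.mk_mul,
          show ((σ ^ h : X) : X ⧸ N) = 1 by
            rw [QuotientGroup.eq_one_iff, hN]; exact Subgroup.mem_zpowers _, one_mul]) j hj,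
        zero_mul], sub_zero]
    apply Int.cast_injective (α := ℂ)
    have hzero : ∑ w ∈ Bb.toFinset, (V w j : ℂ) • pRegularPart 2 (w : X → ℂ) = 0 := by
      funext g
      simp only [Finset.sum_apply, Pi.smul_apply, smul_eq_mul, Pi.zero_apply]
      by_cases hg : IsPRegular 2 g
      · simp only [pRegularPart_of_reg hg]
        refine hVorth j g ?_
        rw [(pPt_eq_one_iff g).2 hg, orderOf_one]
        omega
      · simp [pRegularPart_of_sing hg]
    have e1 : regP Bb (∑ w ∈ Bb.toFinset, (V w j : ℂ) • pRegularPart 2 (w : X → ℂ))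
        (pRegularPart 2 (infl N x : X → ℂ)) = 0 := by rw [hzero]; simp [regP, classInner]
    rw [regP, Char.classInner_sum_left, Finset.mul_sum] at e1
    push_cast
    rw [← e1]
    refine Finset.sum_congr rfl fun w hw => ?_
    rw [hlin w (Set.mem_toFinset.1 hw) _ (hin x hx), regP, Char.classInner_smul_left]
    push_cast
    ring
  have hVrows : ∀ j, Odd j → ∑ w ∈ W, V w j * s w = 0 ∧ ∑ w ∈ W, V w j * dp w = 0 ∧
      ∑ w ∈ W, V w j * dr w = 0 := by
    intro j hj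
    have key : ∀ (x : IrrCharacter (X ⧸ N)) (ε : ℤ), x ∈ deflSet N Bb →
        ∑ w ∈ W, V w j * (ε * m w (infl N x)) = 0 := fun x ε hx => by
      rw [Finset.sum_congr rfl (g := fun w => ε * (V w j * m w (infl N x))) fun w _ => by ring,
        ← Finset.mul_sum, hVm j hj x hx, mul_zero]
    have k1 := key p₀ εp hp₀
    have k2 := key q₀ εq hq₀
    have k3 := key r₀ εr hr₀
    rw [Finset.sum_congr rfl fun w hw => by rw [(hu w hw).1]] at k1
    rw [Finset.sum_congr rfl fun w hw => by rw [(hu w hw).2.1]] at k2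
    rw [Finset.sum_congr rfl fun w hw => by rw [(hu w hw).2.2]] at k3
    simp only [mul_add, mul_sub, mul_neg, Finset.sum_add_distrib, Finset.sum_sub_distrib,
      Finset.sum_neg_distrib] at k1 k2 k3
    exact ⟨by linarith, by linarith, by linarith⟩
  rcases tame_form_cases hm' F.evA F.eq1 F.eq2 F.eq3 with
    ⟨hA, hB', hC⟩ | ⟨hA, hB', hC⟩ | ⟨hA, hB', hC⟩ | ⟨hA, hB', hC⟩ | ⟨qq, hqe, hhq, hA, hB', hC⟩
  · left
    have hl : blockRank 2 Bb = 1 := by
      rw [hA, hB'] at hrank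
      have : (blockRank 2 Bb : ℤ) - 1 = 0 := (mul_eq_zero.1 hrank.symm).resolve_left hhz
      omega
    obtain ⟨w1, w2⟩ := split_one (W := W) (s := s) (h := h) (fun w hw => by
      obtain ⟨k, hk⟩ := hsev w hw
      refine ⟨k, by rw [hk]; ring, fun h0 => (hne w hw).1 ?_⟩
      rw [(hu w hw).1, hdp, hk, h0, hA, hC]; ring) Sss heven
    obtain ⟨t, rfl⟩ := heven
    exact ⟨hA, hB', hC, hl, by omega, fun hle => by omega⟩
  · exfalso
    refine hexcl (fun w => a w - b w) (fun w hw h0 => (hne w hw).2 ?_) ?_ ?_ fun j => ?_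
    · rw [(hu w hw).2.2, hdr, h0, hB', hC]; ring
    · rw [hdp, hA, hC, Finset.sum_congr rfl (g := fun w => (h : ℤ) * h * ((a w - b w) * (a w - b w)))
        fun w _ => by ring, ← Finset.mul_sum] at Sdd
      refine mul_left_cancel₀ (mul_ne_zero hhz hhz) ?_
      linear_combination Sdd
    · rw [hdp, hA, hC, Finset.sum_congr rfl (g := fun w => (h : ℤ) * (s w * (a w - b w)))
        fun w _ => by ring, ← Finset.mul_sum] at Ssd
      exact (mul_eq_zero.1 Ssd).resolve_left hhz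
    · intro hj
      refine ⟨(hVrows j hj).1, ?_⟩
      rw [← (hVrows j hj).2.1, hdp, hA, hC]
      exact Finset.sum_congr rfl fun w _ => by ring
  · exfalso
    refine hexcl c' (fun w hw h0 => (hne w hw).1 ?_) ?_ ?_ fun j hj => ?_
    · rw [(hu w hw).1, hdp, h0, hA, hC]; ring
    · rw [hdr, hB', hC, Finset.sum_congr rfl (g := fun w => (h : ℤ) * h * (c' w * c' w))
        fun w _ => by ring, ← Finset.mul_sum] at Srd
      refine mul_left_cancel₀ (mul_ne_zero hhz hhz) ?_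
      linear_combination Srd
    · rw [hdr, hB', hC, Finset.sum_congr rfl (g := fun w => (h : ℤ) * (s w * c' w))
        fun w _ => by ring, ← Finset.mul_sum] at Ssr
      exact (mul_eq_zero.1 Ssr).resolve_left hhz
    · refine ⟨(hVrows j hj).1, ?_⟩
      rw [← (hVrows j hj).2.2, hdr, hB', hC]
      exact Finset.sum_congr rfl fun w _ => by ring
  · right; right
    have hl : blockRank 2 Bb = 3 := by
      rw [hA, hB'] at hrank
      have : (blockRank 2 Bb : ℤ) - 1 = 2 := mul_left_cancel₀ hhz (by linarith)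
      omega
    have hyy : ∑ w ∈ W, (a w - b w) * (a w - b w) = 2 := by
      rw [hdp, hA, hC, Finset.sum_congr rfl (g := fun w => (h : ℤ) * h * ((a w - b w) * (a w - b w)))
        fun w _ => by ring, ← Finset.mul_sum] at Sdd
      refine mul_left_cancel₀ (mul_ne_zero hhz hhz) ?_
      linear_combination Sdd
    have w1 := split_three (W := W) (s := s) (y := fun w => a w - b w) (h := h) hsev
      (fun w hw h0 hy0 => (hne w hw).1 (by
        rw [(hu w hw).1, hdp, h0, hA, hC]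
        simp only [hy0, mul_zero, zero_mul, add_zero])) Sss hyy
    obtain ⟨t, rfl⟩ := heven
    exact ⟨hA, hB', hC, hl, by omega⟩
  · right; left
    obtain ⟨δ, hδ, hC'⟩ : ∃ δ : ℤ, (δ = 1 ∨ δ = -1) ∧ C = δ * qq := by
      rcases hC with e | e
      · exact ⟨1, Or.inl rfl, by rw [e, one_mul]⟩
      · exact ⟨-1, Or.inr rfl, by rw [e, neg_one_mul]⟩
    have hl : blockRank 2 Bb = 2 := by
      rw [hA, hB'] at hrank
      have : (blockRank 2 Bb : ℤ) - 1 = 1 := mul_left_cancel₀ hhz (by linarith)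
      omega
    have hq0 : qq ≠ 0 := fun e => hhz (by rw [hhq, e, mul_zero])
    obtain ⟨Y, hY⟩ : ∃ Y : IrrCharacter X → ℤ, Y = fun w => (a w - b w) + δ * c' w := ⟨_, rfl⟩
    have hdpY : ∀ w, dp w = qq * Y w := fun w => by rw [hdp, hY, hA, hC']; ring
    have hYY : ∑ w ∈ W, Y w * Y w = 4 := by
      rw [Finset.sum_congr rfl (g := fun w => qq * qq * (Y w * Y w)) fun w _ => by rw [hdpY]; ring,
        ← Finset.mul_sum, hA] at Sdd
      refine mul_left_cancel₀ (mul_ne_zero hq0 hq0) ?_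
      rw [Sdd, hhq]; ring
    have hsY : ∑ w ∈ W, s w * Y w = 0 := by
      rw [Finset.sum_congr rfl (g := fun w => qq * (s w * Y w)) fun w _ => by rw [hdpY]; ring,
        ← Finset.mul_sum] at Ssd
      exact (mul_eq_zero.1 Ssd).resolve_left hq0
    obtain ⟨w1, w2⟩ := split_two (W := W) (s := s) (y := Y) (h := h) hsev (fun w hw => by
        have h1 := hsev w hw
        simp only [hs, hY, Int.even_iff] at h1 ⊢
        rcases hδ with rfl | rfl <;> omega)
      (fun w hw h0 hy0 => (hne w hw).1 (by rw [(hu w hw).1, hdpY, h0, hy0]; ring)) Sss hYY hsY heven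
    obtain ⟨t, rfl⟩ := heven
    exact ⟨qq, δ, hqe, hhq, hδ, hA, hB', hC', hl, by omega, by omega⟩

end TameData

end Cfsg.Lib.Block
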