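import Cfsg.Agent.Lib.Block.TameLocal

/-!
# The subsections of a block with quaternion or semidihedral defect group

The block and the block of the centralizer of the central involution share the subsections at
elements of order at least four, of which there are at least `h - 1`.
-/

set_option autoImplicit false
set_option linter.unusedSectionVars false
set_option maxHeartbeats 1600000

namespace Cfsg.Lib.Block

open Cfsg

universe u

noncomputable local instance (priority := high) fintypeSubgroupTameCount {A : Type u}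
    [Group A] [Fintype A] (H : Subgroup A) : Fintype H := Fintype.ofFinite H

local notation "C[" Q "]" => Subgroup.centralizer (SetLike.coe Q)

namespace TameData

variable {G : Type u} [Group G] [Fintype G] [Fact (Nat.Prime 2)] {M : Ideal AlgInt}
  {B : Set (IrrCharacter G)} {D : Subgroup G} {c : Set (IrrCharacter C[D])} {σ τ : G} {h e : ℕ}
  {F : ∀ u : G, Set (IrrCharacter C[Subgroup.zpowers u])}

/-- Representatives of the pairs at elements of order at least four. -/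
theorem exists_reps (S : TameData M B D c σ τ h e) (hM : IsPModular 2 M)
    (hF : PairFam 2 M D c F) :
    ∃ R : Finset G, (∀ r ∈ R, r ∈ D ∧ r * r ≠ 1) ∧
      (∀ u ∈ D, u * u ≠ 1 → ∃ r ∈ R, PairConj F u r) ∧
      (∀ r ∈ R, ∀ r' ∈ R, PairConj F r r' → r = r') ∧ h - 1 ≤ R.card := by
  classical
  have hG := S.grp
  let U := {u : G // u ∈ D ∧ u * u ≠ 1}
  let st : Setoid U := ⟨fun a b => PairConj F (a : G) b,
    ⟨fun a => pairConj_equiv.refl _, pairConj_equiv.symm, pairConj_equiv.trans⟩⟩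
  obtain ⟨rep, hrep, hrep'⟩ : ∃ rep : U → U, (∀ a : U, PairConj F (a : G) (rep a)) ∧
      ∀ a b : U, PairConj F (a : G) b → rep a = rep b :=
    ⟨fun a => (Quotient.mk st a).out, fun a => pairConj_equiv.symm (Quotient.mk_out (s := st) a),
      fun a b hab => congrArg Quotient.out (Quotient.sound (s := st) hab)⟩
  obtain ⟨R, hR⟩ : ∃ R : Finset G, R = Finset.univ.image fun a : U => ((rep a : U) : G) := ⟨_, rfl⟩
  have hmem : ∀ r ∈ R, ∃ a : U, ((rep a : U) : G) = r := fun r hr => by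
    rw [hR] at hr
    obtain ⟨a, -, ha⟩ := Finset.mem_image.1 hr
    exact ⟨a, ha⟩
  refine ⟨R, fun r hr => ?_, fun u hu hu2 => ⟨_, hR ▸ Finset.mem_image_of_mem _ (Finset.mem_univ _),
    hrep ⟨u, hu, hu2⟩⟩, fun r hr r' hr' hrr => ?_, ?_⟩
  · obtain ⟨a, rfl⟩ := hmem r hr
    exact (rep a).2
  · obtain ⟨a, rfl⟩ := hmem r hr
    obtain ⟨b, rfl⟩ := hmem r' hr'
    refine congrArg Subtype.val ?_
    exact hrep' a b (pairConj_equiv.trans (hrep a) (pairConj_equiv.trans hrr
      (pairConj_equiv.symm (hrep b))))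
  -- the rotations
  obtain ⟨I, hI⟩ : ∃ I : Finset ℕ, I = ((Finset.range (2 * h)).erase 0).erase h := ⟨_, rfl⟩
  have h2 := hG.two_le
  have hIc : I.card = 2 * (h - 1) := by
    rw [hI, Finset.card_erase_of_mem (Finset.mem_erase.2 ⟨by omega, Finset.mem_range.2 (by omega)⟩),
      Finset.card_erase_of_mem (Finset.mem_range.2 (by omega)), Finset.card_range]
    omega
  have hne : ∀ i ∈ I, σ ^ i * σ ^ i ≠ 1 := fun i hi h0 => by
    rw [hI, Finset.mem_erase, Finset.mem_erase, Finset.mem_range] at hi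
    rw [← pow_add, ← two_mul, hG.pow_eq_one_iff', Nat.mul_dvd_mul_iff_left two_pos] at h0
    obtain ⟨j, hj⟩ := h0
    rcases j with _ | _ | j
    · omega
    · omega
    · nlinarith
  obtain ⟨g, hg⟩ : ∃ g : ℕ → G, ∀ i, ∀ hi : i ∈ I,
      g i = ((rep ⟨σ ^ i, hG.pow_mem i, hne i hi⟩ : U) : G) :=
    ⟨fun i => if hi : i ∈ I then ((rep ⟨σ ^ i, hG.pow_mem i, hne i hi⟩ : U) : G) else 1,
      fun i hi => by simp only [dif_pos hi]⟩
  have hsub : I.image g ⊆ R := fun x hx => by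
    obtain ⟨i, hi, rfl⟩ := Finset.mem_image.1 hx
    rw [hg i hi, hR]
    exact Finset.mem_image_of_mem _ (Finset.mem_univ _)
  have hfib : ∀ x ∈ I.image g, (I.filter fun j => g j = x).card ≤ 2 := by
    intro x hx
    obtain ⟨i, hi, rfl⟩ := Finset.mem_image.1 hx
    refine le_trans (Finset.card_le_card (t := {i, e * i % (2 * h)}) fun j hj => ?_) Finset.card_le_two
    obtain ⟨hjI, hj⟩ := Finset.mem_filter.1 hj
    rw [hg i hi, hg j hjI] at hj
    obtain ⟨w, hw, hwF⟩ := pairConj_equiv.trans (hrep ⟨σ ^ i, hG.pow_mem i, hne i hi⟩)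
      (hj ▸ pairConj_equiv.symm (hrep ⟨σ ^ j, hG.pow_mem j, hne j hjI⟩))
    have hlt : i < 2 * h ∧ j < 2 * h := by
      rw [hI, Finset.mem_erase, Finset.mem_erase, Finset.mem_range] at hi hjI
      exact ⟨hi.2.2, hjI.2.2⟩
    simp only [Finset.mem_insert, Finset.mem_singleton]
    rcases S.rotation_conj hM (hne i hi) (hF _ (hG.pow_mem i)) (hF _ (hG.pow_mem j)) hw hwF with
      a | a
    · left
      have := hG.pow_eq_iff.1 a
      rwa [Nat.ModEq, Nat.mod_eq_of_lt hlt.2, Nat.mod_eq_of_lt hlt.1] at this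
    · right
      have := hG.pow_eq_iff.1 a
      rwa [Nat.ModEq, Nat.mod_eq_of_lt hlt.2] at this
  have h3 := Finset.card_le_mul_card_image (f := g) I 2 hfib
  have h4 := Finset.card_le_card hsub
  omega

open Classical in
/-- The count with given representatives. -/
theorem count_reps (S : TameData M B D c σ τ h e) (hM : IsPModular 2 M) (hF : PairFam 2 M D c F)
    (R : Finset G) (hR : ∀ r ∈ R, r ∈ D ∧ r * r ≠ 1)
    (hcomp : ∀ u ∈ D, u * u ≠ 1 → ∃ r ∈ R, PairConj F u r)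
    (hdist : ∀ r ∈ R, ∀ r' ∈ R, PairConj F r r' → r = r') :
    blockRank 2 (F 1) = blockRank 2 B ∧
    Nat.card B = blockRank 2 B + blockRank 2 (F (σ ^ h)) +
      (if τ * τ = 1 ∧ ¬ PairConj F (σ ^ h) τ then blockRank 2 (F τ) else 0) +
        ∑ r ∈ R, blockRank 2 (F r) := by
  have hG := S.grp
  have hPc := S.maxPair.1.1
  have hτ1 : τ ≠ 1 := fun a => hG.τnot (a ▸ one_mem _)
  have hzτ : σ ^ h ≠ τ := fun a => hG.τnot (a ▸ Subgroup.npow_mem_zpowers σ h)
  have hsq : ∀ u v : G, PairConj F u v → u * u = 1 → v * v = 1 := by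
    rintro u v ⟨w, rfl, -⟩ hu
    rw [show w * u * w⁻¹ * (w * u * w⁻¹) = w * (u * u) * w⁻¹ by group, hu, mul_one, mul_inv_cancel]
  obtain ⟨E, hE⟩ : ∃ E : Finset G,
      E = if τ * τ = 1 ∧ ¬ PairConj F (σ ^ h) τ then {τ} else ∅ := ⟨_, rfl⟩
  have hEmem : ∀ r ∈ E, r = τ ∧ τ * τ = 1 ∧ ¬ PairConj F (σ ^ h) τ := fun r hr => by
    rw [hE] at hr
    split_ifs at hr with hc
    · exact ⟨Finset.mem_singleton.1 hr, hc.1, hc.2⟩
    · simp at hr
  have hnR : ∀ r ∈ R, r ≠ 1 ∧ r ≠ σ ^ h ∧ r ∉ E := fun r hr =>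
    ⟨fun a => (hR r hr).2 (by rw [a, mul_one]), fun a => (hR r hr).2 (by rw [a, hG.mid_sq]),
      fun a => (hR r hr).2 (by obtain ⟨b, b', -⟩ := hEmem r a; rw [b, b'])⟩
  obtain ⟨T, hT⟩ : ∃ T : Finset G, T = insert 1 (insert (σ ^ h) (E ∪ R)) := ⟨_, rfl⟩
  have hmemT : ∀ r ∈ T, r = 1 ∨ r = σ ^ h ∨ (r = τ ∧ τ * τ = 1 ∧ ¬ PairConj F (σ ^ h) τ) ∨ r ∈ R := by
    intro r hr
    rw [hT] at hr
    simp only [Finset.mem_insert, Finset.mem_union] at hr
    rcases hr with a | a | a | a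
    · exact Or.inl a
    · exact Or.inr (Or.inl a)
    · exact Or.inr (Or.inr (Or.inl (hEmem r a)))
    · exact Or.inr (Or.inr (Or.inr a))
  obtain ⟨c1, c2⟩ := hF.count hM S.maxPair (R := T) (by rw [hT]; simp) (fun r hr => by
    rcases hmemT r hr with rfl | rfl | ⟨rfl, -⟩ | a
    exacts [one_mem D, hG.mid_mem, hG.τmem, (hR r a).1]) (fun u hu => by
      rw [hT]
      by_cases hu2 : u * u = 1
      · by_cases hu1 : u = 1
        · exact ⟨1, by simp, hu1 ▸ pairConj_equiv.refl _⟩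
        by_cases huσ : u ∈ Subgroup.zpowers σ
        · have := (hG.eq_mid huσ hu2).resolve_left hu1
          exact ⟨σ ^ h, by simp, this ▸ pairConj_equiv.refl _⟩
        have hSD : τ * τ = 1 := by
          rcases hG.kind with ⟨he, ht⟩ | ⟨-, -, ht⟩
          · exfalso
            rcases hG.cases_mem hu with ⟨i, rfl⟩ | ⟨i, rfl⟩
            · exact huσ (Subgroup.npow_mem_zpowers σ i)
            · rw [hG.sq_outside, ht, show i * (e + 1) = 2 * h * i by
                rw [show e + 1 = 2 * h by have := hG.two_le; omega]; ring, pow_mul, hG.pow_two_h,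
                one_pow, one_mul] at hu2
              exact hG.mid_ne hu2
          · exact ht
        obtain ⟨d, hd, hdu⟩ := hG.exists_conj_tau hSD hu hu2 huσ
        have h1 := pairConj_equiv.symm (hdu ▸ hF.conj_mem hM hPc hd hG.τmem)
        by_cases hzc : PairConj F (σ ^ h) τ
        · exact ⟨σ ^ h, by simp, pairConj_equiv.trans h1 (pairConj_equiv.symm hzc)⟩
        · refine ⟨τ, ?_, h1⟩
          rw [hE, if_pos ⟨hSD, hzc⟩]
          simp
      · obtain ⟨r, hr, hrc⟩ := hcomp u hu hu2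
        exact ⟨r, by simp [hr], hrc⟩) (fun r hr r' hr' hc => by
      have k1 : ∀ x : G, PairConj F 1 x → x = 1 := fun x hx => by
        obtain ⟨w, rfl, -⟩ := hx; simp
      rcases hmemT r hr with rfl | rfl | ⟨rfl, hs, hn⟩ | a
      · exact (k1 _ hc).symm
      · rcases hmemT r' hr' with rfl | rfl | ⟨rfl, hs', hn'⟩ | a'
        · exact k1 _ (pairConj_equiv.symm hc)
        · rfl
        · exact absurd hc hn'
        · exact absurd (hsq _ _ hc hG.mid_sq) (hR r' a').2
      · rcases hmemT r' hr' with rfl | rfl | ⟨rfl, hs', hn'⟩ | a'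
        · exact k1 _ (pairConj_equiv.symm hc)
        · exact absurd (pairConj_equiv.symm hc) hn
        · rfl
        · exact absurd (hsq _ _ hc hs) (hR r' a').2
      · rcases hmemT r' hr' with rfl | rfl | ⟨rfl, hs', hn'⟩ | a'
        · exact k1 _ (pairConj_equiv.symm hc)
        · exact absurd (hsq _ _ (pairConj_equiv.symm hc) hG.mid_sq) (hR r a).2
        · exact absurd (hsq _ _ (pairConj_equiv.symm hc) hs') (hR r a).2
        · exact hdist r a r' a' hc)
  refine ⟨c1, ?_⟩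
  have d1 : (1 : G) ∉ insert (σ ^ h) (E ∪ R) := by
    simp only [Finset.mem_insert, Finset.mem_union, not_or]
    exact ⟨hG.mid_ne.symm, fun a => hτ1 (hEmem 1 a).1.symm, fun a => (hnR 1 a).1 rfl⟩
  have d2 : σ ^ h ∉ E ∪ R := by
    simp only [Finset.mem_union, not_or]
    exact ⟨fun a => hzτ (hEmem _ a).1, fun a => (hnR _ a).2.1 rfl⟩
  have d3 : Disjoint E R := Finset.disjoint_right.2 fun r hr => (hnR r hr).2.2
  rw [c2, hT, Finset.sum_insert d1, Finset.sum_insert d2, Finset.sum_union d3, c1, hE]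
  split_ifs
  · rw [Finset.sum_singleton]; ring
  · rw [Finset.sum_empty]; ring

open Classical in
/-- The two counts share the subsections at elements of order at least four. -/
theorem count (S : TameData M B D c σ τ h e) (hM : IsPModular 2 M) (hF : PairFam 2 M D c F) :
    ∃ (Φ ε : ℕ), h - 1 ≤ Φ ∧
      Nat.card (F (σ ^ h)) = 2 * blockRank 2 (F (σ ^ h)) + (if τ * τ = 1 then 1 else 0) + Φ ∧
      Nat.card B = blockRank 2 B + blockRank 2 (F (σ ^ h)) + ε + Φ ∧
      ε ≤ (if τ * τ = 1 then 1 else 0) := by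
  have hG := S.grp
  obtain ⟨R, hR, hcomp, hdist, hcard⟩ := S.exists_reps hM hF
  obtain ⟨-, hk⟩ := S.count_reps hM hF R hR hcomp hdist
  refine ⟨∑ r ∈ R, blockRank 2 (F r),
    if τ * τ = 1 ∧ ¬ PairConj F (σ ^ h) τ then blockRank 2 (F τ) else 0, ?_, ?_, hk, ?_⟩
  · refine hcard.trans ?_
    rw [Finset.card_eq_sum_ones]
    exact Finset.sum_le_sum fun r hr =>
      blockRank_pos hM (isBrauerPair_of_le (hF r (hR r hr).1) S.maxPair.1.1).2
  · obtain ⟨D', c', σ', τ', hσ, hτ, hmem, SK, htr⟩ := S.exists_local hM (hF _ hG.mid_mem)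
    obtain ⟨F', hF'⟩ := exists_pairFam (p := 2) hM SK.maxPair.1.1
    have tr := htr F F' hF hF'
    have hz' : ((σ' ^ h : C[Subgroup.zpowers (σ ^ h)]) : G) = σ ^ h := by
      rw [SubgroupClass.coe_pow, hσ]
    have hsq : ∀ u : C[Subgroup.zpowers (σ ^ h)], u * u = 1 ↔ (u : G) * u = 1 := fun u => by
      rw [← Subgroup.coe_mul, OneMemClass.coe_eq_one]
    have hzu : ∀ u ∈ D', u * u ≠ 1 → σ ^ h ∈ Subgroup.zpowers (u : G) := fun u hu hu2 =>
      hG.mid_mem_zpowers ((hmem u).1 hu) fun a => hu2 ((hsq u).2 a)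
    have hRK : ∀ r ∈ R, r ∈ C[Subgroup.zpowers (σ ^ h)] := fun r hr => S.le_cen (hR r hr).1
    obtain ⟨R', hR'⟩ : ∃ R' : Finset C[Subgroup.zpowers (σ ^ h)],
        R' = R.subtype (· ∈ C[Subgroup.zpowers (σ ^ h)]) := ⟨_, rfl⟩
    have hR'm : ∀ r, r ∈ R' ↔ (r : G) ∈ R := fun r => by rw [hR']; exact Finset.mem_subtype
    have hR'ok : ∀ r ∈ R', r ∈ D' ∧ r * r ≠ 1 := fun r hr =>
      ⟨(hmem r).2 (hR _ ((hR'm r).1 hr)).1, fun a => (hR _ ((hR'm r).1 hr)).2 ((hsq r).1 a)⟩
    obtain ⟨c1, hkK⟩ := SK.count_reps hM hF' R' hR'ok (fun u hu hu2 => by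
      obtain ⟨r, hr, hrc⟩ := hcomp (u : G) ((hmem u).1 hu) fun a => hu2 ((hsq u).2 a)
      have hr' : (⟨r, hRK r hr⟩ : C[Subgroup.zpowers (σ ^ h)]) ∈ R' := (hR'm _).2 hr
      exact ⟨_, hr', ((tr u hu (hzu u hu hu2)).2 _ (hR'ok _ hr').1
        (hzu _ (hR'ok _ hr').1 (hR'ok _ hr').2)).2 hrc⟩) (fun r hr r' hr' hc => by
      refine Subtype.ext (hdist _ ((hR'm r).1 hr) _ ((hR'm r').1 hr') ?_)
      exact ((tr r (hR'ok r hr).1 (hzu r (hR'ok r hr).1 (hR'ok r hr).2)).2 r' (hR'ok r' hr').1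
        (hzu r' (hR'ok r' hr').1 (hR'ok r' hr').2)).1 hc)
    have hne : ¬ PairConj F' (σ' ^ h) τ' := by
      rintro ⟨w, hw, -⟩
      have hwG : (w : G) * σ ^ h * (w : G)⁻¹ = τ := by
        have := congrArg Subtype.val hw
        simp only [Subgroup.coe_mul, InvMemClass.coe_inv, SubgroupClass.coe_pow] at this
        rwa [hσ, hτ] at this
      rw [← Subgroup.mem_centralizer_iff.1 w.2 (σ ^ h) (Subgroup.mem_zpowers _),
        mul_inv_cancel_right] at hwG
      exact hG.τnot (hwG ▸ Subgroup.npow_mem_zpowers σ h)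
    have hzr : blockRank 2 (F' (σ' ^ h)) = blockRank 2 (F (σ ^ h)) := by
      exact (tr _ SK.grp.mid_mem (by rw [hz']; exact Subgroup.mem_zpowers _)).1.trans
        (congrArg (fun x : G => blockRank 2 (F x)) hz')
    have hsum : ∑ r ∈ R', blockRank 2 (F' r) = ∑ r ∈ R, blockRank 2 (F r) := by
      rw [hR', Finset.sum_congr rfl (g := fun r : C[Subgroup.zpowers (σ ^ h)] => blockRank 2 (F r))
        fun r hr => ?_, Finset.sum_subtype_of_mem (fun x : G => blockRank 2 (F x)) hRK]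
      rw [← hR'] at hr
      exact (tr r (hR'ok r hr).1 (hzu r (hR'ok r hr).1 (hR'ok r hr).2)).1
    rw [hzr, hsum] at hkK
    have hSD : (τ' * τ' = 1) ↔ τ * τ = 1 := by rw [hsq, hτ]
    by_cases ht : τ * τ = 1
    · rw [if_pos ⟨hSD.2 ht, hne⟩, SK.blockRank_tau hM (hSD.2 ht) hF' hne] at hkK
      rw [if_pos ht]; omega
    · rw [if_neg fun a => ht (hSD.1 a.1)] at hkK
      rw [if_neg ht]; omega
  · split_ifs with a b b
    · exact le_of_eq (S.blockRank_tau hM b hF a.2)
    · exact absurd a.1 b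
    all_goals omega

end TameData

end Cfsg.Lib.Block
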