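import Cfsg.Agent.Lib.Block.TameGrp
import Cfsg.Agent.Lib.Block.BlockFusionSys
import Cfsg.Agent.Lib.Block.CentralPairs
import Cfsg.Agent.Lib.DihedralAut

/-!
# Pairs at the elements of a generalized quaternion or semidihedral defect group

Pairs at rotations of order at least four below a maximal pair are conjugate only as in `D`.
-/

set_option autoImplicit false
set_option linter.unusedSectionVars false
set_option maxHeartbeats 800000

namespace Cfsg.Lib.Block

open Cfsg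

universe u

noncomputable local instance (priority := high) fintypeSubgroupTameFusion {A : Type u}
    [Group A] [Fintype A] (H : Subgroup A) : Fintype H := Fintype.ofFinite H

local notation "C[" Q "]" => Subgroup.centralizer (SetLike.coe Q)

variable {G : Type u} [Group G] [Fintype G] [Fact (Nat.Prime 2)] {M : Ideal AlgInt}
  {B : Set (IrrCharacter G)} {D : Subgroup G} {c : Set (IrrCharacter C[D])} {σ τ : G} {h e : ℕ}

/-- A block with a maximal pair at a generalized quaternion or semidihedral group. -/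
structure TameData (M : Ideal AlgInt) (B : Set (IrrCharacter G)) (D : Subgroup G)
    (c : Set (IrrCharacter C[D])) (σ τ : G) (h e : ℕ) : Prop where
  maxPair : IsMaximalBrauerPair 2 M B D c
  grp : TameGrp D σ τ h e

theorem zpowers_eq_of_orderOf_eq {x y : G} (hy : y ∈ Subgroup.zpowers x) {z : G}
    (hz : z ∈ Subgroup.zpowers x) (ho : orderOf y = orderOf z) :
    Subgroup.zpowers y = Subgroup.zpowers z := by
  obtain ⟨i, rfl : x ^ i = y⟩ := mem_powers_iff_mem_zpowers.2 hy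
  obtain ⟨j, rfl : x ^ j = z⟩ := mem_powers_iff_mem_zpowers.2 hz
  have key : ∀ k : ℕ, Subgroup.zpowers (x ^ k) =
      Subgroup.zpowers (x ^ (orderOf x).gcd k) := fun k => by
    refine Subgroup.eq_of_le_of_card_ge (Subgroup.zpowers_le.2 ?_) (le_of_eq ?_)
    · obtain ⟨r, hr⟩ := Nat.gcd_dvd_right (orderOf x) k
      have e1 : x ^ k = (x ^ (orderOf x).gcd k) ^ r := by rw [← pow_mul, ← hr]
      rw [e1]
      exact Subgroup.npow_mem_zpowers _ r
    · rw [Nat.card_zpowers, Nat.card_zpowers, orderOf_pow, orderOf_pow, Nat.gcd_gcd_self_right_left]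
  rw [key i, key j]
  rw [orderOf_pow, orderOf_pow] at ho
  have h1 := congrArg (orderOf x / ·) ho
  simp only [Nat.div_div_self (Nat.gcd_dvd_left _ _) (orderOf_pos x).ne'] at h1
  rw [h1]

namespace TameData

variable (S : TameData M B D c σ τ h e)

include S

theorem block : IsPBlock M B := S.maxPair.1.2.1

theorem isPGroup : IsPGroup 2 D := S.maxPair.1.1.1

theorem exists_order {x : G} (hx : x ∈ D) : ∃ k : ℕ, orderOf x = 2 ^ k := by
  obtain ⟨k, hk⟩ := IsPGroup.iff_orderOf.1 S.isPGroup ⟨x, hx⟩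
  rw [Subgroup.orderOf_mk] at hk
  exact ⟨k, hk⟩

variable (hM : IsPModular 2 M)
include hM

theorem exists_pair {x : G} (hx : x ∈ D) : ∃ f : Set (IrrCharacter C[Subgroup.zpowers x]),
    SubpairLE 2 M (Subgroup.zpowers x) f D c := by
  obtain ⟨f, -, hle⟩ := exists_subpair hM S.maxPair.1.1 (Subgroup.zpowers_le.2 hx)
  exact ⟨f, hle⟩

theorem ind_of_le {x : G} (hx : x ∈ D) {f : Set (IrrCharacter C[Subgroup.zpowers x])}
    (hle : SubpairLE 2 M (Subgroup.zpowers x) f D c) :
    IsInducedBlock M C[Subgroup.zpowers x] f B := by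
  have hpair := (isBrauerPairOf_iff_of_le hM hle B).1 S.maxPair.1
  exact (isBrauerPairOf_zpowers_iff hM S.block (S.exists_order hx) hpair.1.2).1 hpair

theorem exists_conj_of_ind {x : G} (hx : ∃ k : ℕ, orderOf x = 2 ^ k)
    {f : Set (IrrCharacter C[Subgroup.zpowers x])}
    (hind : IsInducedBlock M C[Subgroup.zpowers x] f B) :
    ∃ g : G, g * x * g⁻¹ ∈ D ∧ ∃ f' : Set (IrrCharacter C[Subgroup.zpowers (g * x * g⁻¹)]),
      SubpairLE 2 M (Subgroup.zpowers (g * x * g⁻¹)) f' D c ∧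
      conjIdx g ⟨Subgroup.zpowers x, f⟩ = ⟨Subgroup.zpowers (g * x * g⁻¹), f'⟩ := by
  obtain ⟨g, hg⟩ := exists_conj_le_maximal hM S.maxPair
    ((isBrauerPairOf_zpowers_iff hM S.block hx hind.1).2 hind)
  have hmap : (Subgroup.zpowers x).map (MulAut.conj g).toMonoidHom =
      Subgroup.zpowers (g * x * g⁻¹) := by
    rw [MonoidHom.map_zpowers]; rfl
  obtain ⟨f', hf'⟩ : ∃ f', conjIdx g ⟨Subgroup.zpowers x, f⟩ =
      ⟨Subgroup.zpowers (g * x * g⁻¹), f'⟩ := ⟨_, conjIdx_eq hmap f⟩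
  rw [hf'] at hg
  exact ⟨g, (le_of_rel hg : Subgroup.zpowers (g * x * g⁻¹) ≤ D) (Subgroup.mem_zpowers _),
    f', hg, hf'⟩

/-- Pairs at rotations of order at least four are conjugate only as in `D`. -/
theorem rotation_conj {a b : ℕ} (ha : σ ^ a * σ ^ a ≠ 1)
    {f : Set (IrrCharacter C[Subgroup.zpowers (σ ^ a)])}
    {f' : Set (IrrCharacter C[Subgroup.zpowers (σ ^ b)])}
    (hf : SubpairLE 2 M (Subgroup.zpowers (σ ^ a)) f D c)
    (hf' : SubpairLE 2 M (Subgroup.zpowers (σ ^ b)) f' D c) {g : G}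
    (hg : g * σ ^ a * g⁻¹ = σ ^ b)
    (hgf : conjIdx g ⟨Subgroup.zpowers (σ ^ a), f⟩ = ⟨Subgroup.zpowers (σ ^ b), f'⟩) :
    σ ^ b = σ ^ a ∨ σ ^ b = σ ^ (e * a) := by
  have hD := S.grp
  have hmemσ : ∀ i : ℕ, σ ^ i ∈ Subgroup.zpowers σ := Subgroup.npow_mem_zpowers σ
  have ho : orderOf (σ ^ b) = orderOf (σ ^ a) := by
    rw [← hg, ← MulAut.conj_apply, MulEquiv.orderOf_eq]
  have hQ : Subgroup.zpowers (σ ^ b) = Subgroup.zpowers (σ ^ a) :=
    zpowers_eq_of_orderOf_eq (hmemσ b) (hmemσ a) ho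
  by_cases h4 : (σ ^ a) ^ 4 = 1
  · -- only two generators
    obtain ⟨w, hw⟩ : ∃ w, w = σ ^ a := ⟨_, rfl⟩
    rw [← hw] at ha h4 hQ ho
    have hw4 : orderOf w = 4 := orderOf_eq_prime_pow (p := 2) (n := 1)
      (by rw [pow_one, sq]; exact ha) (by norm_num; exact h4)
    obtain ⟨i, hi : w ^ i = σ ^ b⟩ := mem_powers_iff_mem_zpowers.2
      (hQ ▸ Subgroup.mem_zpowers (σ ^ b))
    rw [← hi] at ho
    have key : ∀ j, w ^ i = w ^ j ↔ i ≡ j [MOD 4] := fun j => by rw [pow_eq_pow_iff_modEq, hw4]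
    rw [show σ ^ (e * a) = w ^ e by rw [hw, ← pow_mul, mul_comm],
      show σ ^ a = w ^ 1 by rw [pow_one, hw], ← hi, key, key]
    have he : e % 4 = 3 := by
      have := hD.dvd_two
      have := hD.two_le
      rcases hD.kind with ⟨he, -⟩ | ⟨he, hh, -⟩
      · omega
      · obtain ⟨m, -, hm⟩ := hD.two_pow
        obtain ⟨m', rfl⟩ : ∃ m', m = m' + 2 := ⟨m - 2, by
          by_contra hcon
          have : m ≤ 1 := by omega
          interval_cases m <;> omega⟩
        rw [pow_add] at hm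
        omega
    have hodd : i % 2 = 1 := by
      by_contra hev
      have : orderOf (w ^ i) ∣ 2 := orderOf_dvd_of_pow_eq_one (by
        rw [← pow_mul, ← orderOf_dvd_iff_pow_eq_one, hw4]; omega)
      rw [ho, hw4] at this
      omega
    unfold Nat.ModEq
    omega
  · -- the subgroup is the only one of its order, so it is fully automized
    obtain ⟨F, hF⟩ := exists_blockFusion hM S.maxPair
    obtain ⟨Q, hQdef⟩ : ∃ Q, Q = Subgroup.zpowers (σ ^ a) := ⟨_, rfl⟩
    have hQD : Q ≤ D := hQdef ▸ Subgroup.zpowers_le.2 (hD.pow_mem a)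
    obtain ⟨R, ⟨φ, hφ, hφR⟩, hauto, -⟩ := isSaturated_blockFusion hM hF Q hQD
    have hRQ : R = Q := by
      subst hQdef
      obtain ⟨y, hy⟩ : ∃ y, y = φ ⟨σ ^ a, Subgroup.mem_zpowers _⟩ := ⟨_, rfl⟩
      have hoy : orderOf y = orderOf (σ ^ a) := by
        rw [hy, orderOf_injective φ (F.injective_of_mem hφ), Subgroup.orderOf_mk]
      have hyσ : y ∈ Subgroup.zpowers σ := by
        refine hD.mem_rotation (hy ▸ (F.le_of_mem hφ).2 _) fun h0 => h4 ?_
        rw [← orderOf_dvd_iff_pow_eq_one] at h0 ⊢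
        rwa [← hoy]
      rw [← zpowers_eq_of_orderOf_eq hyσ (hmemσ a) hoy, ← hφR]
      refine le_antisymm ?_ (Subgroup.zpowers_le.2 (hy ▸ ⟨_, rfl⟩))
      rintro _ ⟨⟨x, hx⟩, rfl⟩
      obtain ⟨i, rfl⟩ := Subgroup.mem_zpowers_iff.1 hx
      refine Subgroup.mem_zpowers_iff.2 ⟨i, ?_⟩
      rw [hy, ← map_zpow]
      exact congrArg φ (Subtype.ext (by push_cast; rfl))
    subst hRQ
    subst hQdef
    have hgN : g ∈ Subgroup.normalizer (Subgroup.zpowers (σ ^ a) : Set G) := by
      refine Subgroup.mem_normalizer_iff.2 fun y => ?_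
      have hmap : (Subgroup.zpowers (σ ^ a)).map (MulAut.conj g).toMonoidHom =
          Subgroup.zpowers (σ ^ a) := by
        rw [conj_zpowers_map, hg, hQ]
      rw [← Subgroup.mem_map_iff_mem (f := (MulAut.conj g).toMonoidHom) (MulAut.conj g).injective
        (K := Subgroup.zpowers (σ ^ a))]
      exact iff_of_eq (congrArg (fun K : Subgroup G => g * y * g⁻¹ ∈ K) hmap)
    let α : MulAut (Subgroup.zpowers (σ ^ a)) := FusionSys.conjAut _ hgN
    have hα : α ∈ F.autGroup (Subgroup.zpowers (σ ^ a)) := (FusionSys.mem_autGroup hQD).2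
      ((hF.2 _ _).2 ⟨hQD, g, fun _ => rfl, (map_conj_eq_self hgN).trans_le hQD, f, hf, by
        show Relation.ReflTransGen _ (conjIdx g ⟨_, f⟩) _
        rw [hgf]
        exact hf'⟩)
    have h2 : IsPGroup 2 (MulAut (Subgroup.zpowers (σ ^ a))) := by
      have hp : IsPGroup 2 (Subgroup.zpowers (σ ^ a)) := S.isPGroup.to_le hQD
      exact DihedralAut.isPGroup_mulAut_of_cyclic hp ⊤ (by rw [Subgroup.index_top]; norm_num)
        fun _ _ _ => Subgroup.mem_top _
    obtain ⟨-, P, hP⟩ := hauto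
    have htop : (P : Subgroup (F.autGroup (Subgroup.zpowers (σ ^ a)))) = ⊤ :=
      (P.3 ((h2.to_subgroup _).to_subgroup ⊤) le_top).symm
    rw [hP] at htop
    have hmem : (⟨α, hα⟩ : F.autGroup (Subgroup.zpowers (σ ^ a))) ∈
        (autInducedBy D (Subgroup.zpowers (σ ^ a))).subgroupOf _ := htop ▸ Subgroup.mem_top _
    obtain ⟨d, hd, hdx⟩ := FusionSys.mem_autInducedBy.1 (Subgroup.mem_subgroupOf.1 hmem)
    have h1 : g * σ ^ a * g⁻¹ = d * σ ^ a * d⁻¹ := hdx ⟨σ ^ a, Subgroup.mem_zpowers _⟩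
    rw [← hg, h1]
    exact hD.conj_rotation hd a

end TameData

end Cfsg.Lib.Block
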