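import Mathlib

/-!
# Generalized quaternion and semidihedral two-groups by generators
-/

set_option autoImplicit false
set_option linter.unusedSectionVars false
set_option maxHeartbeats 800000

namespace Cfsg.Lib.Block

universe u

/-- `D` is generated by a rotation `σ` of order `2 h` and `τ`, and is generalized quaternion
(`e = 2 h - 1`) or semidihedral (`e = h - 1`). -/
structure TameGrp {G : Type u} [Group G] (D : Subgroup G) (σ τ : G) (h e : ℕ) : Prop where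
  two_pow : ∃ m, 1 ≤ m ∧ h = 2 ^ m
  σmem : σ ∈ D
  τmem : τ ∈ D
  orderσ : orderOf σ = 2 * h
  card : Nat.card D = 4 * h
  τnot : τ ∉ Subgroup.zpowers σ
  conj : τ * σ * τ⁻¹ = σ ^ e
  kind : (e = 2 * h - 1 ∧ τ * τ = σ ^ h) ∨ (e = h - 1 ∧ 4 ≤ h ∧ τ * τ = 1)

namespace TameGrp

variable {G : Type u} [Group G] [Finite G] {D : Subgroup G} {σ τ : G} {h e : ℕ}
  (S : TameGrp D σ τ h e)

include S

theorem two_le : 2 ≤ h := by
  obtain ⟨m, hm, hh⟩ := S.two_pow
  exact hh ▸ le_self_pow₀ (by norm_num) (by omega)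

theorem dvd_two : 2 ∣ h := by
  obtain ⟨m, hm, hh⟩ := S.two_pow
  exact hh ▸ dvd_pow_self 2 (by omega)

theorem pow_eq_iff {a b : ℕ} : σ ^ a = σ ^ b ↔ a ≡ b [MOD 2 * h] := by
  rw [pow_eq_pow_iff_modEq, S.orderσ]

theorem pow_eq_one_iff' {a : ℕ} : σ ^ a = 1 ↔ 2 * h ∣ a := by
  rw [← orderOf_dvd_iff_pow_eq_one, S.orderσ]

theorem pow_two_h : σ ^ (2 * h) = 1 := S.pow_eq_one_iff'.2 dvd_rfl

theorem e_odd : Odd e := by
  obtain ⟨q, hq⟩ := S.dvd_two
  have := S.two_le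
  rw [Nat.odd_iff]
  rcases S.kind with ⟨he, -⟩ | ⟨he, -, -⟩ <;> omega

theorem h_dvd_succ : h ∣ e + 1 := by
  have := S.two_le
  rcases S.kind with ⟨he, -⟩ | ⟨he, -, -⟩
  · exact ⟨2, by omega⟩
  · exact ⟨1, by omega⟩

theorem e_sq : e * e ≡ 1 [MOD 2 * h] := by
  have h2 := S.two_le
  obtain ⟨q, hq⟩ := S.dvd_two
  refine ((Nat.modEq_iff_dvd' ?_).2 ?_).symm
  · rcases S.kind with ⟨he, -⟩ | ⟨he, -, -⟩ <;>
      exact Nat.one_le_iff_ne_zero.2 (Nat.mul_ne_zero (by omega) (by omega))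
  · rcases S.kind with ⟨he, -⟩ | ⟨he, -, -⟩
    · refine ⟨2 * h - 2, ?_⟩
      obtain ⟨k, rfl⟩ : ∃ k, h = k + 1 := ⟨h - 1, by omega⟩
      have : e = 2 * k + 1 := by omega
      subst this
      rw [show 2 * (k + 1) - 2 = 2 * k by omega]
      refine Nat.sub_eq_of_eq_add ?_
      ring
    · subst hq
      refine ⟨q - 1, ?_⟩
      obtain ⟨k, rfl⟩ : ∃ k, q = k + 1 := ⟨q - 1, by omega⟩
      have : e = 2 * k + 1 := by omega
      subst this
      rw [Nat.add_sub_cancel]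
      refine Nat.sub_eq_of_eq_add ?_
      ring

theorem e_mul_h : e * h ≡ h [MOD 2 * h] := by
  obtain ⟨j, hj⟩ := S.e_odd
  subst hj
  rw [show (2 * j + 1) * h = h + 2 * h * j by ring]
  exact Nat.modEq_iff_dvd.2 ⟨-(j : ℤ), by push_cast; ring⟩

theorem tau_conj (a : ℕ) : τ * σ ^ a * τ⁻¹ = σ ^ (e * a) := by
  rw [← conj_pow, S.conj, ← pow_mul]

theorem tau_mul (a : ℕ) : τ * σ ^ a = σ ^ (e * a) * τ := by
  rw [← S.tau_conj, inv_mul_cancel_right]

theorem conj_mid : τ * σ ^ h * τ⁻¹ = σ ^ h := by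
  rw [S.tau_conj]
  exact S.pow_eq_iff.2 S.e_mul_h

theorem mid_sq : σ ^ h * σ ^ h = 1 := by rw [← pow_add, ← two_mul, S.pow_two_h]

theorem mid_ne : σ ^ h ≠ 1 := fun h0 => by
  have := Nat.le_of_dvd (by have := S.two_le; omega) (S.pow_eq_one_iff'.1 h0)
  have := S.two_le
  omega

theorem pow_mem (a : ℕ) : σ ^ a ∈ D := D.pow_mem S.σmem a

theorem mid_mem : σ ^ h ∈ D := S.pow_mem h

theorem exists_pow {y : G} (hy : y ∈ Subgroup.zpowers σ) : ∃ i : ℕ, y = σ ^ i :=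
  (mem_powers_iff_mem_zpowers.2 hy).imp fun _ hi => hi.symm

theorem cases_mem {x : G} (hx : x ∈ D) : (∃ i, x = σ ^ i) ∨ ∃ i, x = σ ^ i * τ := by
  classical
  have hle : Subgroup.zpowers σ ≤ D := Subgroup.zpowers_le.2 S.σmem
  have hidx : ((Subgroup.zpowers σ).subgroupOf D).index = 2 := by
    have h1 := ((Subgroup.zpowers σ).subgroupOf D).card_mul_index
    rw [Nat.card_congr (Subgroup.subgroupOfEquivOfLe hle).toEquiv, Nat.card_zpowers, S.orderσ,
      S.card] at h1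
    have := S.two_le
    nlinarith
  by_cases hxz : x ∈ Subgroup.zpowers σ
  · exact Or.inl (S.exists_pow hxz)
  · refine Or.inr ?_
    have h1 := (Subgroup.mul_mem_iff_of_index_two hidx (a := ⟨x, hx⟩)
      (b := ⟨τ⁻¹, D.inv_mem S.τmem⟩)).2 (iff_of_false hxz fun hh => S.τnot (by
        simpa [Subgroup.mem_subgroupOf] using hh))
    obtain ⟨i, hi⟩ := S.exists_pow (Subgroup.mem_subgroupOf.1 h1)
    exact ⟨i, by rw [← hi]; simp⟩

theorem sq_outside (i : ℕ) : σ ^ i * τ * (σ ^ i * τ) = σ ^ (i * (e + 1)) * (τ * τ) := by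
  rw [mul_assoc (σ ^ i) τ, ← mul_assoc τ, S.tau_mul, ← mul_assoc, ← mul_assoc, ← pow_add,
    show i + e * i = i * (e + 1) by ring, mul_assoc]

theorem mid_pow (i : ℕ) : σ ^ (i * h) = if Even i then 1 else σ ^ h := by
  split_ifs with hi
  · obtain ⟨j, rfl⟩ := hi
    exact S.pow_eq_one_iff'.2 ⟨j, by ring⟩
  · obtain ⟨j, rfl⟩ := Nat.not_even_iff_odd.1 hi
    rw [show (2 * j + 1) * h = 2 * h * j + h by ring, pow_add, pow_mul, S.pow_two_h, one_pow,
      one_mul]

theorem sq_cases {x : G} (hx : x ∈ D) (hxσ : x ∉ Subgroup.zpowers σ) :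
    x * x = 1 ∨ x * x = σ ^ h := by
  rcases S.cases_mem hx with ⟨i, rfl⟩ | ⟨i, rfl⟩
  · exact absurd (Subgroup.npow_mem_zpowers σ i) hxσ
  · rw [S.sq_outside]
    rcases S.kind with ⟨he, ht⟩ | ⟨he, hh, ht⟩
    · rw [ht, show i * (e + 1) = 2 * h * i by
        rw [show e + 1 = 2 * h by have := S.two_le; omega]; ring, pow_mul, S.pow_two_h, one_pow,
        one_mul]
      exact Or.inr rfl
    · rw [ht, mul_one, show e + 1 = h by omega, S.mid_pow]
      split_ifs
      · exact Or.inl rfl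
      · exact Or.inr rfl

theorem mem_rotation {x : G} (hx : x ∈ D) (h4 : x ^ 4 ≠ 1) : x ∈ Subgroup.zpowers σ := by
  by_contra hxσ
  refine h4 ?_
  rw [show (4 : ℕ) = 2 * 2 from rfl, pow_mul, sq x]
  rcases S.sq_cases hx hxσ with a | a <;> rw [a]
  · rw [one_pow]
  · rw [sq, S.mid_sq]

theorem eq_mid {c : G} (hc : c ∈ Subgroup.zpowers σ) (h2 : c * c = 1) : c = 1 ∨ c = σ ^ h := by
  obtain ⟨i, rfl⟩ := S.exists_pow hc
  rw [← pow_add, S.pow_eq_one_iff', ← two_mul, Nat.mul_dvd_mul_iff_left two_pos] at h2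
  obtain ⟨j, rfl⟩ := h2
  rw [mul_comm h j, S.mid_pow]
  split_ifs
  · exact Or.inl rfl
  · exact Or.inr rfl

/-- Every element of order at least four has the central involution among its powers. -/
theorem mid_mem_zpowers {x : G} (hx : x ∈ D) (hx2 : x * x ≠ 1) : σ ^ h ∈ Subgroup.zpowers x := by
  by_cases hxσ : x ∈ Subgroup.zpowers σ
  · obtain ⟨m, -, hh⟩ := S.two_pow
    obtain ⟨k, -, hk⟩ : ∃ k ≤ m + 1, orderOf x = 2 ^ k := by
      refine (Nat.dvd_prime_pow Nat.prime_two).1 ?_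
      rw [pow_succ', ← hh, ← S.orderσ]
      exact orderOf_dvd_of_mem_zpowers hxσ
    rcases k with _ | k
    · exact absurd (by rw [orderOf_eq_one_iff.1 (show orderOf x = 1 by simpa using hk), mul_one]) hx2
    · have h1 : x ^ 2 ^ k * x ^ 2 ^ k = 1 := by
        rw [← pow_add, ← two_mul, ← pow_succ', ← hk, pow_orderOf_eq_one]
      rcases S.eq_mid (Subgroup.pow_mem _ hxσ _) h1 with a | a
      · exfalso
        have := Nat.le_of_dvd (by positivity) (orderOf_dvd_of_pow_eq_one a)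
        rw [hk, pow_succ'] at this
        have := Nat.two_pow_pos k
        omega
      · exact a ▸ Subgroup.npow_mem_zpowers x _
  · rcases S.sq_cases hx hxσ with a | a
    · exact absurd a hx2
    · exact a ▸ Subgroup.mul_mem _ (Subgroup.mem_zpowers x) (Subgroup.mem_zpowers x)

theorem central {d : G} (hd : d ∈ D) : d * σ ^ h = σ ^ h * d := by
  have ht : τ * σ ^ h = σ ^ h * τ := by
    conv_rhs => rw [← S.conj_mid]
    group
  rcases S.cases_mem hd with ⟨i, rfl⟩ | ⟨i, rfl⟩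
  · rw [← pow_add, ← pow_add, add_comm]
  · rw [mul_assoc, ht, ← mul_assoc, ← mul_assoc, ← pow_add, ← pow_add, add_comm]

theorem conj_rotation {d : G} (hd : d ∈ D) (a : ℕ) :
    d * σ ^ a * d⁻¹ = σ ^ a ∨ d * σ ^ a * d⁻¹ = σ ^ (e * a) := by
  rcases S.cases_mem hd with ⟨i, rfl⟩ | ⟨i, rfl⟩
  · left
    rw [← pow_add, add_comm, pow_add, mul_inv_cancel_right]
  · right
    rw [show σ ^ i * τ * σ ^ a * (σ ^ i * τ)⁻¹ = σ ^ i * (τ * σ ^ a * τ⁻¹) * (σ ^ i)⁻¹ by group,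
      S.tau_conj, ← pow_add, add_comm, pow_add, mul_inv_cancel_right]

theorem e_mul_ne {a : ℕ} (ha : Odd a) : ¬ e * a ≡ a [MOD 2 * h] := by
  intro he
  rw [Nat.modEq_iff_dvd] at he
  push_cast at he
  have h2 := S.two_le
  obtain ⟨j, hj⟩ := ha
  obtain ⟨q, hq⟩ := S.dvd_two
  obtain ⟨c, hc⟩ := he
  subst hj
  rcases S.kind with ⟨hk, -⟩ | ⟨hk, h4, -⟩
  · rw [show (e : ℤ) = 2 * h - 1 by omega] at hc
    push_cast at hc
    have : (2 * h : ℤ) ∣ 2 * (2 * (j : ℤ) + 1) :=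
      ⟨c + (2 * (j : ℤ) + 1), by linear_combination hc⟩
    rw [Int.mul_dvd_mul_iff_left two_ne_zero, hq] at this
    push_cast at this
    have := (dvd_mul_right (2 : ℤ) q).trans this
    omega
  · rw [show (e : ℤ) = h - 1 by omega] at hc
    obtain ⟨m, -, hh⟩ := S.two_pow
    obtain ⟨m', rfl⟩ : ∃ m', m = m' + 2 := ⟨m - 2, by
      by_contra hcon
      have : m ≤ 1 := by omega
      interval_cases m <;> omega⟩
    rw [hh] at hc
    push_cast at hc
    have : (4 : ℤ) ∣ 2 * (2 * (j : ℤ) + 1) :=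
      ⟨2 ^ m' * (2 * (j : ℤ) + 1) + 2 * 2 ^ m' * c, by linear_combination hc⟩
    omega

theorem e_coprime : Nat.Coprime e (2 * h) := by
  obtain ⟨m, -, hh⟩ := S.two_pow
  rw [show 2 * h = 2 ^ (m + 1) by rw [hh, pow_succ']]
  exact Nat.Coprime.pow_right _ (Nat.coprime_two_right.2 S.e_odd)

theorem mem_zpowers_of_odd {a : ℕ} (ha : Odd a) : σ ∈ Subgroup.zpowers (σ ^ a) := by
  have hco : Nat.Coprime a (orderOf σ) := by
    obtain ⟨m, -, hh⟩ := S.two_pow
    rw [S.orderσ, show 2 * h = 2 ^ (m + 1) by rw [hh, pow_succ']]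
    exact Nat.Coprime.pow_right _ (Nat.coprime_two_right.2 ha)
  obtain ⟨b, hb⟩ := exists_pow_eq_self_of_coprime (x := σ) hco
  have := Subgroup.npow_mem_zpowers (σ ^ a) b
  rwa [hb] at this

theorem pow_four_ne {x : G} (hx : orderOf x = 2 * h) (hh : 4 ≤ h) : x ^ 4 ≠ 1 := fun h0 => by
  have := Nat.le_of_dvd four_pos (hx ▸ orderOf_dvd_of_pow_eq_one h0)
  omega

/-- The centralizer in `D` of an element of order `2 h`. -/
theorem card_centralizer {x : G} (hx : x ∈ D) (hxo : orderOf x = 2 * h) :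
    Nat.card ↥(D ⊓ Subgroup.centralizer ({x} : Set G)) = 2 * h := by
  have hle : Subgroup.zpowers x ≤ D ⊓ Subgroup.centralizer ({x} : Set G) :=
    Subgroup.zpowers_le.2 ⟨hx, Subgroup.mem_centralizer_singleton_iff.2 rfl⟩
  have hne : D ⊓ Subgroup.centralizer ({x} : Set G) ≠ D := fun he => by
    have hc : ∀ d ∈ D, d * x = x * d := fun d hd => Subgroup.mem_centralizer_singleton_iff.1
      (he.symm.le hd).2
    by_cases hxσ : x ∈ Subgroup.zpowers σ
    · obtain ⟨a, rfl⟩ := S.exists_pow hxσ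
      have hodd : Odd a := by
        by_contra hev
        obtain ⟨b, rfl⟩ := Nat.not_odd_iff_even.1 hev
        have h1 : (σ ^ (b + b)) ^ h = 1 := by
          rw [← pow_mul]
          exact S.pow_eq_one_iff'.2 ⟨b, by ring⟩
        have := Nat.le_of_dvd (by have := S.two_le; omega) (hxo ▸ orderOf_dvd_of_pow_eq_one h1)
        have := S.two_le
        omega
      have h1 := hc τ S.τmem
      rw [S.tau_mul] at h1
      exact S.e_mul_ne hodd (S.pow_eq_iff.1 (mul_right_cancel h1))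
    · rcases S.cases_mem hx with ⟨i, rfl⟩ | ⟨i, rfl⟩
      · exact hxσ (Subgroup.npow_mem_zpowers σ i)
      · have h1 := hc σ S.σmem
        rw [mul_assoc (σ ^ i) τ, ← pow_one σ, S.tau_mul, pow_one, ← mul_assoc, ← mul_assoc,
          ← pow_succ', ← pow_add, mul_one] at h1
        refine S.e_mul_ne odd_one ?_
        have h2 := S.pow_eq_iff.1 (mul_right_cancel h1)
        rw [mul_one]
        exact (Nat.ModEq.add_left_cancel' i h2).symm
  have h1 := Subgroup.card_le_of_le hle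
  rw [Nat.card_zpowers, hxo] at h1
  obtain ⟨c, hc⟩ := Subgroup.card_dvd_of_le
    (inf_le_left : D ⊓ Subgroup.centralizer ({x} : Set G) ≤ D)
  rw [S.card] at hc
  have hc1 : c ≠ 1 := fun h0 => hne (Subgroup.eq_of_le_of_card_ge inf_le_left (by
    rw [h0, mul_one] at hc; rw [S.card, hc]))
  rcases c with _ | _ | c
  · have := S.two_le; omega
  · exact absurd rfl hc1
  · nlinarith

/-- The centralizer of `σ` in `D`. -/
theorem inf_centralizer :
    D ⊓ Subgroup.centralizer ({σ} : Set G) = Subgroup.zpowers σ :=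
  (Subgroup.eq_of_le_of_card_ge
    (Subgroup.zpowers_le.2 (Subgroup.mem_inf.2 ⟨S.σmem, Subgroup.mem_centralizer_singleton_iff.2 rfl⟩))
    (by rw [S.card_centralizer S.σmem S.orderσ, Nat.card_zpowers, S.orderσ])).symm

section SemiDihedral

variable (hSD : τ * τ = 1)
include hSD

theorem sd_kind : e = h - 1 ∧ 4 ≤ h := by
  rcases S.kind with ⟨-, ht⟩ | ⟨he, hh, -⟩
  · exact absurd (ht.symm.trans hSD) S.mid_ne
  · exact ⟨he, hh⟩

/-- The involutions other than the central one are conjugate. -/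
theorem exists_conj_tau {x : G} (hx : x ∈ D) (hx2 : x * x = 1) (hxσ : x ∉ Subgroup.zpowers σ) :
    ∃ d ∈ D, d * τ * d⁻¹ = x := by
  obtain ⟨he, hh⟩ := S.sd_kind hSD
  rcases S.cases_mem hx with ⟨i, rfl⟩ | ⟨i, rfl⟩
  · exact absurd (Subgroup.npow_mem_zpowers σ i) hxσ
  rw [S.sq_outside, hSD, mul_one, show e + 1 = h by omega, S.mid_pow] at hx2
  obtain ⟨c, rfl⟩ : Even i := by
    by_contra hi
    rw [if_neg hi] at hx2
    exact S.mid_ne hx2
  obtain ⟨m, -, hm⟩ := S.two_pow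
  obtain ⟨m', rfl⟩ : ∃ m', m = m' + 2 := ⟨m - 2, by
    by_contra hcon
    have : m ≤ 1 := by omega
    interval_cases m <;> omega⟩
  have hodd : Odd (e + (2 * 2 ^ m' + 2)) := by
    rw [Nat.odd_iff]; have := pow_add 2 m' 2; omega
  -- conjugation by `σ ^ (c * w)` multiplies `τ` by `σ ^ (c * w * (1 - e))`
  refine ⟨σ ^ (c * (2 * 2 ^ m' + 1)), S.pow_mem _, ?_⟩
  have h1 : σ ^ (c * (2 * 2 ^ m' + 1)) * τ =
      σ ^ (c + c) * τ * σ ^ (c * (2 * 2 ^ m' + 1)) := by
    rw [mul_assoc (σ ^ (c + c)), S.tau_mul, ← mul_assoc, ← pow_add]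
    congr 1
    refine S.pow_eq_iff.2 ?_
    rw [show e = 4 * 2 ^ m' - 1 by have := pow_add 2 m' 2; omega, hm]
    obtain ⟨w, hw⟩ : ∃ w, 4 * 2 ^ m' = w + 1 := ⟨4 * 2 ^ m' - 1, by
      have := Nat.two_pow_pos m'; omega⟩
    rw [hw, Nat.add_sub_cancel, Nat.modEq_iff_dvd]
    have hw' : (w : ℤ) = 4 * 2 ^ m' - 1 := by
      have : ((w + 1 : ℕ) : ℤ) = ((4 * 2 ^ m' : ℕ) : ℤ) := by rw [hw]
      push_cast at this; linarith
    refine ⟨(c : ℤ) * 2 ^ m', ?_⟩
    push_cast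
    rw [hw', pow_add]
    ring
  rw [h1, mul_inv_cancel_right]

theorem card_centralizer_tau :
    Nat.card ↥(D ⊓ Subgroup.centralizer ({τ} : Set G)) = 4 := by
  classical
  obtain ⟨he, hh⟩ := S.sd_kind hSD
  have hmem : ∀ x, x ∈ D ⊓ Subgroup.centralizer ({τ} : Set G) ↔
      x = 1 ∨ x = σ ^ h ∨ x = τ ∨ x = σ ^ h * τ := by
    intro x
    constructor
    · rintro ⟨hx, hc⟩
      have hc' := Subgroup.mem_centralizer_singleton_iff.1 hc
      have hrot : ∀ i : ℕ, τ * σ ^ i = σ ^ i * τ → σ ^ i = 1 ∨ σ ^ i = σ ^ h := fun i hi => by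
        rw [S.tau_mul] at hi
        have h1 := Nat.modEq_iff_dvd.1 (S.pow_eq_iff.1 (mul_right_cancel hi))
        push_cast at h1
        refine S.eq_mid (Subgroup.npow_mem_zpowers σ i) ?_
        rw [← pow_add, S.pow_eq_one_iff']
        obtain ⟨c, hc⟩ := h1
        rw [show (e : ℤ) = h - 1 by omega] at hc
        obtain ⟨m, -, hm⟩ := S.two_pow
        obtain ⟨m', rfl⟩ : ∃ m', m = m' + 2 := ⟨m - 2, by
          by_contra hcon
          have : m ≤ 1 := by omega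
          interval_cases m <;> omega⟩
        -- `(2 - h) i ≡ 0` and `1 - h / 2` is odd
        have h2 : (2 * h : ℤ) ∣ ((i + i : ℕ) : ℤ) := by
          have hh' : (h : ℤ) = 4 * 2 ^ m' := by rw [hm]; push_cast; ring
          have hd : (h : ℤ) ∣ (i : ℤ) * (1 - 2 * 2 ^ m') :=
            ⟨c, by rw [hh'] at hc ⊢; linarith⟩
          have hco : IsCoprime (h : ℤ) (1 - 2 * 2 ^ m') := by
            rw [show (h : ℤ) = (2 : ℤ) ^ (m' + 2) by rw [hm]; push_cast; rfl]
            exact IsCoprime.pow_left ⟨2 ^ m', 1, by ring⟩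
          obtain ⟨r, hr⟩ := hco.dvd_of_dvd_mul_right hd
          exact ⟨r, by push_cast; linarith⟩
        exact_mod_cast h2
      rcases S.cases_mem hx with ⟨i, rfl⟩ | ⟨i, rfl⟩
      · rcases hrot i hc'.symm with a | a
        · exact Or.inl a
        · exact Or.inr (Or.inl a)
      · rw [mul_assoc, hSD, mul_one, ← mul_assoc] at hc'
        have h1 : τ * σ ^ i = σ ^ i * τ := by
          conv_rhs => rw [hc']
          rw [mul_assoc (τ * σ ^ i), hSD, mul_one]
        rcases hrot i h1 with a | a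
        · rw [a, one_mul]; exact Or.inr (Or.inr (Or.inl rfl))
        · rw [a]; exact Or.inr (Or.inr (Or.inr rfl))
    · have hc : σ ^ h ∈ D ⊓ Subgroup.centralizer ({τ} : Set G) :=
        ⟨S.mid_mem, Subgroup.mem_centralizer_singleton_iff.2 (S.central S.τmem).symm⟩
      have ht : τ ∈ D ⊓ Subgroup.centralizer ({τ} : Set G) :=
        ⟨S.τmem, Subgroup.mem_centralizer_singleton_iff.2 rfl⟩
      rintro (rfl | rfl | rfl | rfl)
      exacts [one_mem _, hc, ht, mul_mem hc ht]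
  have hzτ : σ ^ h ≠ τ := fun a => S.τnot (a ▸ Subgroup.npow_mem_zpowers σ h)
  have hs : ((D ⊓ Subgroup.centralizer ({τ} : Set G) : Subgroup G) : Set G) =
      (({1, σ ^ h, τ, σ ^ h * τ} : Finset G) : Set G) := by
    ext x
    simpa using hmem x
  rw [show Nat.card ↥(D ⊓ Subgroup.centralizer ({τ} : Set G)) =
    Nat.card ↥(((D ⊓ Subgroup.centralizer ({τ} : Set G) : Subgroup G) : Set G)) from rfl, hs,
    Nat.card_coe_set_eq, Set.ncard_coe_finset]
  have h1 : τ ≠ 1 := fun a => S.τnot (a ▸ one_mem _)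
  have h2 : σ ^ h * τ ≠ 1 := fun a => hzτ (by
    rw [← mul_one (σ ^ h), ← hSD, ← mul_assoc, a, one_mul])
  have h3 : σ ^ h ≠ σ ^ h * τ := fun a => h1 (left_eq_mul.1 a)
  have h4 : τ ≠ σ ^ h * τ := fun a => S.mid_ne (right_eq_mul.1 a)
  rw [Finset.card_insert_of_notMem (by simp [S.mid_ne.symm, h1.symm, h2.symm]),
    Finset.card_insert_of_notMem (by simp [hzτ, h3]), Finset.card_pair h4]

end SemiDihedral

end TameGrp

end Cfsg.Lib.Block
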