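import Cfsg.Agent.Lib.Block.TameFusion
import Cfsg.Agent.Lib.Block.PairCount

/-!
# The centralizer of the central involution of a quaternion or semidihedral defect group

Its block has the same defect group, and the pairs at elements of order at least four are the same
in the centralizer and in the whole group, with the same fusion.
-/

set_option autoImplicit false
set_option linter.unusedSectionVars false
set_option maxHeartbeats 1600000

namespace Cfsg.Lib.Block

open Cfsg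

universe u

noncomputable local instance (priority := high) fintypeSubgroupTameLocal {A : Type u}
    [Group A] [Fintype A] (H : Subgroup A) : Fintype H := Fintype.ofFinite H

local notation "C[" Q "]" => Subgroup.centralizer (SetLike.coe Q)

namespace TameData

variable {G : Type u} [Group G] [Fintype G] [Fact (Nat.Prime 2)] {M : Ideal AlgInt}
  {B : Set (IrrCharacter G)} {D : Subgroup G} {c : Set (IrrCharacter C[D])} {σ τ : G} {h e : ℕ}
  (S : TameData M B D c σ τ h e) (hM : IsPModular 2 M)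

include S

theorem le_cen : D ≤ C[Subgroup.zpowers (σ ^ h)] := fun d hd => by
  rw [← centralizer_singleton_eq, Subgroup.mem_centralizer_singleton_iff]
  exact S.grp.central hd

theorem orderOf_mid : orderOf (σ ^ h) = 2 :=
  orderOf_eq_prime (by rw [sq, S.grp.mid_sq]) S.grp.mid_ne

theorem mid_unique {w : G} {g : G} (hw : σ ^ h ∈ Subgroup.zpowers w)
    (hg : g * σ ^ h * g⁻¹ ∈ Subgroup.zpowers w) : g * σ ^ h * g⁻¹ = σ ^ h := by
  have hQ : Subgroup.zpowers (g * σ ^ h * g⁻¹) = Subgroup.zpowers (σ ^ h) :=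
    zpowers_eq_of_orderOf_eq hg hw ((MulAut.conj g).orderOf_eq _)
  obtain ⟨i, hi : (σ ^ h) ^ i = _⟩ := mem_powers_iff_mem_zpowers.2
    (hQ ▸ Subgroup.mem_zpowers (g * σ ^ h * g⁻¹))
  rcases Nat.even_or_odd i with ⟨j, rfl⟩ | ⟨j, rfl⟩
  · exfalso
    rw [← two_mul, pow_mul, sq, S.grp.mid_sq, one_pow] at hi
    exact S.grp.mid_ne (conj_eq_one_iff.1 hi.symm)
  · rw [← hi, pow_succ, pow_mul, sq, S.grp.mid_sq, one_pow, one_mul]

include hM

open Classical in
/-- The data in the centralizer of the central involution, with the translation of pairs. -/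
theorem exists_local {f : Set (IrrCharacter C[Subgroup.zpowers (σ ^ h)])}
    (hle : SubpairLE 2 M (Subgroup.zpowers (σ ^ h)) f D c) :
    ∃ (D' : Subgroup C[Subgroup.zpowers (σ ^ h)])
      (c' : Set (IrrCharacter (Subgroup.centralizer (D' : Set C[Subgroup.zpowers (σ ^ h)]))))
      (σ' τ' : C[Subgroup.zpowers (σ ^ h)]),
      (σ' : G) = σ ∧ (τ' : G) = τ ∧ (∀ x, x ∈ D' ↔ (x : G) ∈ D) ∧
      TameData M f D' c' σ' τ' h e ∧
      ∀ (F : ∀ u : G, Set (IrrCharacter C[Subgroup.zpowers u]))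
        (F' : ∀ u : C[Subgroup.zpowers (σ ^ h)], Set (IrrCharacter (Subgroup.centralizer
          (Subgroup.zpowers u : Set C[Subgroup.zpowers (σ ^ h)])))),
        PairFam 2 M D c F → PairFam 2 M D' c' F' → ∀ u' ∈ D', σ ^ h ∈ Subgroup.zpowers (u' : G) →
          blockRank 2 (F' u') = blockRank 2 (F u') ∧ ∀ v' ∈ D', σ ^ h ∈ Subgroup.zpowers (v' : G) →
            (PairConj F' u' v' ↔ PairConj F (u' : G) (v' : G)) := by
  have hmax := S.maxPair
  have hPc := hmax.1.1
  have hG := S.grp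
  obtain ⟨K, hK⟩ : ∃ K, K = C[Subgroup.zpowers (σ ^ h)] := ⟨_, rfl⟩
  have hDK := S.le_cen
  have hdef := subpair_defect_central hM hmax hDK hle
  have hQf := isBrauerPair_of_le hle hPc
  have hloc := isLocalBlock_centralizer (p := 2) hM hQf.2
  obtain ⟨n, hn, hQn⟩ := normalSubpair_below hM hPc hle (S := D) (subpairLE_le hle) le_rfl
    (hDK.trans (Subgroup.centralizer_le_normalizer _))
  cases subpair_unique hM hPc hn Relation.ReflTransGen.refl
  have hz := S.orderOf_mid
  obtain ⟨D', rfl⟩ : ∃ D' : Subgroup C[Subgroup.zpowers (σ ^ h)], D'.map (Subgroup.subtype _) = D :=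
    ⟨D.subgroupOf _, Subgroup.map_subgroupOf_eq_of_le hDK⟩
  have hQD := subpairLE_le hle
  have eD : (D'.map C[Subgroup.zpowers (σ ^ h)].subtype).subgroupOf _ = D' :=
    Subgroup.comap_map_eq_self_of_injective (Subgroup.subtype_injective _) D'
  rw [eD] at hdef
  obtain ⟨c', hc'⟩ : ∃ c', c' = pullSet (cenUp D' (hloc.cen_up hQD)) c := ⟨_, rfl⟩
  have hup : upBlock D' (hloc.cen_up hQD) c' = c := by rw [hc']; exact pullSet_symm _ _
  have hmax' : IsMaximalBrauerPair 2 M f D' c' := maximal_of_defectGroup hM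
    ((isBrauerPairOf_local_iff hM hloc hQf hQD c').2 (by rw [hup]; exact hQn)) hdef
  have hmem : ∀ x, x ∈ D' ↔ (x : G) ∈ D'.map C[Subgroup.zpowers (σ ^ h)].subtype := fun x =>
    (Subgroup.mem_map_iff_mem (Subgroup.subtype_injective _)).symm
  refine ⟨D', c', ⟨σ, hDK hG.σmem⟩, ⟨τ, hDK hG.τmem⟩, rfl, rfl, hmem, ⟨hmax', ?_⟩, ?_⟩
  · refine ⟨hG.two_pow, (hmem _).2 hG.σmem, (hmem _).2 hG.τmem, ?_, ?_, ?_, ?_, ?_⟩
    · rw [Subgroup.orderOf_mk, hG.orderσ]
    · rw [← hG.card, Subgroup.card_map_of_injective (Subgroup.subtype_injective _)]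
    · intro hτ
      obtain ⟨i, hi⟩ := Subgroup.mem_zpowers_iff.1 hτ
      exact hG.τnot ⟨i, by simpa using congrArg Subtype.val hi⟩
    · exact Subtype.ext (by simpa using hG.conj)
    · exact hG.kind.imp (fun a => ⟨a.1, Subtype.ext (by simpa using a.2)⟩)
        fun a => ⟨a.1, a.2.1, Subtype.ext (by simpa using a.2.2)⟩
  intro F F' hF hF' u' hu' hzu
  have hmapz : ∀ w : C[Subgroup.zpowers (σ ^ h)],
      (Subgroup.zpowers w).map C[Subgroup.zpowers (σ ^ h)].subtype = Subgroup.zpowers (w : G) :=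
    fun w => by rw [MonoidHom.map_zpowers]; rfl
  have hQw : ∀ w : C[Subgroup.zpowers (σ ^ h)], σ ^ h ∈ Subgroup.zpowers (w : G) →
      Subgroup.zpowers (σ ^ h) ≤ (Subgroup.zpowers w).map C[Subgroup.zpowers (σ ^ h)].subtype :=
    fun w hw => by rw [hmapz]; exact Subgroup.zpowers_le.2 hw
  have key : ∀ w, w ∈ D' → ∀ hw : σ ^ h ∈ Subgroup.zpowers (w : G),
      (⟨_, upBlock (Subgroup.zpowers w) (hloc.cen_up (hQw w hw)) (F' w)⟩ : BrauerPairIdx G) =
        ⟨Subgroup.zpowers (w : G), F w⟩ := by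
    intro w hwD hw
    have h1 := rel_up hM hloc (hF' w hwD) (hQw w hw) hQD
    dsimp only at h1
    rw [hup] at h1
    suffices ∀ (A : Subgroup G) (a : Set (IrrCharacter C[A])), A = Subgroup.zpowers (w : G) →
        SubpairLE 2 M A a _ c → (⟨A, a⟩ : BrauerPairIdx G) = ⟨Subgroup.zpowers (w : G), F w⟩ from
      this _ _ (hmapz w) h1
    rintro A a rfl ha
    exact Sigma.ext rfl (heq_of_eq (subpair_unique hM hPc ha (hF _ ((hmem w).1 hwD))))
  refine ⟨?_, fun v' hv' hzv => ⟨?_, ?_⟩⟩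
  · have h1 := congrArg (fun q : BrauerPairIdx G => blockRank 2 q.2) (key u' hu' hzu)
    dsimp only at h1
    rw [← h1, upBlock, blockRank_pullSet]
  · rintro ⟨g, hg, hgF⟩
    refine ⟨(g : G), by rw [← hg]; rfl, ?_⟩
    have hQ' : Subgroup.zpowers (σ ^ h) ≤ ((Subgroup.zpowers u').map
        (MulAut.conj g).toMonoidHom).map C[Subgroup.zpowers (σ ^ h)].subtype := by
      rw [conj_zpowers_map, hg]; exact hQw v' hzv
    rw [← key u' hu' hzu, ← key v' hv' hzv,
      conjIdx_upBlock _ g (hloc.cen_up (hQw u' hzu)) (hloc.cen_up hQ')]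
    have h2 : ∀ (a b : BrauerPairIdx C[Subgroup.zpowers (σ ^ h)]), a = b →
        ∀ (ha : Subgroup.zpowers (σ ^ h) ≤ a.1.map C[Subgroup.zpowers (σ ^ h)].subtype)
          (hb : Subgroup.zpowers (σ ^ h) ≤ b.1.map C[Subgroup.zpowers (σ ^ h)].subtype),
        (⟨_, upBlock a.1 (hloc.cen_up ha) a.2⟩ : BrauerPairIdx G) =
          ⟨_, upBlock b.1 (hloc.cen_up hb) b.2⟩ := by rintro a _ rfl _ _; rfl
    exact h2 _ _ hgF hQ' (hQw v' hzv)
  · rintro ⟨g, hg, hgF⟩
    have hgz : g * σ ^ h * g⁻¹ = σ ^ h := by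
      refine S.mid_unique hzv ?_
      rw [← hg, ← conj_zpowers_map]
      exact ⟨_, hzu, rfl⟩
    have hgK : g ∈ C[Subgroup.zpowers (σ ^ h)] := by
      rw [← centralizer_singleton_eq, Subgroup.mem_centralizer_singleton_iff]
      exact mul_inv_eq_iff_eq_mul.1 hgz
    refine ⟨⟨g, hgK⟩, Subtype.ext hg, ?_⟩
    have hQ' : Subgroup.zpowers (σ ^ h) ≤ ((Subgroup.zpowers u').map
        (MulAut.conj (⟨g, hgK⟩ : C[Subgroup.zpowers (σ ^ h)])).toMonoidHom).map
        C[Subgroup.zpowers (σ ^ h)].subtype := by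
      rw [conj_zpowers_map, show (⟨g, hgK⟩ : C[Subgroup.zpowers (σ ^ h)]) * u' * ⟨g, hgK⟩⁻¹ = v'
        from Subtype.ext hg]
      exact hQw v' hzv
    rw [← key u' hu' hzu, ← key v' hv' hzv] at hgF
    have e1 := (conjIdx_upBlock _ ⟨g, hgK⟩ (hloc.cen_up (hQw u' hzu)) (hloc.cen_up hQ') _).symm.trans
      hgF
    have h2 : ∀ (A A' : Subgroup C[Subgroup.zpowers (σ ^ h)])
        (hA : C[A.map C[Subgroup.zpowers (σ ^ h)].subtype] ≤ C[Subgroup.zpowers (σ ^ h)])
        (hA' : C[A'.map C[Subgroup.zpowers (σ ^ h)].subtype] ≤ C[Subgroup.zpowers (σ ^ h)]) a a',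
        (⟨_, upBlock A hA a⟩ : BrauerPairIdx G) = ⟨_, upBlock A' hA' a'⟩ →
          (⟨A, a⟩ : BrauerPairIdx C[Subgroup.zpowers (σ ^ h)]) = ⟨A', a'⟩ := by
      intro A A' hA hA' a a' he
      obtain rfl : A = A' := Subgroup.map_injective (Subgroup.subtype_injective _)
        (congrArg Sigma.fst he)
      have e2 : upBlock A hA a = upBlock A hA a' := eq_of_heq (Sigma.mk.inj he).2
      have e3 := congrArg (pullSet (cenUp A hA)) e2
      rw [upBlock, upBlock, ← (cenUp A hA).symm_symm] at e3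
      simp only [MulEquiv.symm_symm] at e3
      refine Sigma.ext rfl (heq_of_eq ?_)
      have hc : ∀ b, pullSet (cenUp A hA) (pullSet (cenUp A hA).symm b) = b := fun b =>
        pullSet_symm (cenUp A hA).symm b
      rwa [hc, hc] at e3
    exact h2 _ _ _ _ _ _ e1

open Classical in
/-- The block at a noncentral involution whose pair is not conjugate to the central one. -/
theorem blockRank_tau (hSD : τ * τ = 1) {F : ∀ u : G, Set (IrrCharacter C[Subgroup.zpowers u])}
    (hF : PairFam 2 M D c F) (hne : ¬ PairConj F (σ ^ h) τ) : blockRank 2 (F τ) = 1 := by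
  have hmax := S.maxPair
  have hPc := hmax.1.1
  have hG := S.grp
  have hle := hF τ hG.τmem
  have hfb := (isBrauerPair_of_le hle hPc).2
  have hloc := isLocalBlock_centralizer (p := 2) hM hfb
  have hτ1 : τ ≠ 1 := fun a => hG.τnot (a ▸ one_mem _)
  obtain ⟨x, hx, hcard⟩ := exists_card_inf_eq_defect hM hloc hmax hle
  -- the moved element is a noncentral involution
  have hrel : Relation.ReflTransGen (NormalSubpairRel 2 M)
      (conjIdx x ⟨Subgroup.zpowers τ, F τ⟩) ⟨D, c⟩ := hx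
  have hxc := hF.conj_of_rel hM hPc hle hrel (Subgroup.mem_zpowers τ)
  have hxD : x * τ * x⁻¹ ∈ D := by
    have := subpairLE_le hx
    rw [conj_zpowers_map] at this
    exact this (Subgroup.mem_zpowers _)
  have hy2 : x * τ * x⁻¹ * (x * τ * x⁻¹) = 1 := by
    rw [show x * τ * x⁻¹ * (x * τ * x⁻¹) = x * (τ * τ) * x⁻¹ by group, hSD, mul_one, mul_inv_cancel]
  have hyσ : x * τ * x⁻¹ ∉ Subgroup.zpowers σ := fun hy => by
    rcases hG.eq_mid hy hy2 with a | a
    · exact hτ1 (conj_eq_one_iff.1 a)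
    · exact hne (pairConj_equiv.symm (a ▸ hxc))
  obtain ⟨d, hd, hdx⟩ := hG.exists_conj_tau hSD hxD hy2 hyσ
  have hmapd : (D ⊓ Subgroup.centralizer ({τ} : Set G)).map (MulAut.conj d).toMonoidHom =
      D ⊓ Subgroup.centralizer ({x * τ * x⁻¹} : Set G) := by
    rw [Subgroup.map_inf _ _ _ (MulAut.conj d).injective, map_conj_eq_self (Subgroup.le_normalizer hd),
      centralizer_singleton_eq, map_centralizer_conj, conj_zpowers_map, hdx,
      ← centralizer_singleton_eq]
  rw [map_centralizer_conj, conj_zpowers_map, ← centralizer_singleton_eq, ← hmapd,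
    Subgroup.card_map_of_injective (MulAut.conj d).injective, hG.card_centralizer_tau hSD] at hcard
  have hV4 := hG.card_centralizer_tau hSD
  rw [centralizer_singleton_eq] at hV4
  have hdef := (isDefectGroup_inf_iff hM hloc hPc hle).2 (by rw [hV4, hcard])
  -- the defect group is a four-group
  obtain ⟨V, hVdef⟩ : ∃ V, V = D ⊓ C[Subgroup.zpowers τ] := ⟨_, rfl⟩
  rw [← hVdef] at hV4 hdef
  have hVmem : ∀ w, w ∈ V ↔ w ∈ D ∧ w * τ = τ * w := fun w => by
    rw [hVdef, ← centralizer_singleton_eq, Subgroup.mem_inf,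
      Subgroup.mem_centralizer_singleton_iff]
  have hτV : τ ∈ V := (hVmem τ).2 ⟨hG.τmem, rfl⟩
  have hzV : σ ^ h ∈ V := (hVmem _).2 ⟨hG.mid_mem, (hG.central hG.τmem).symm⟩
  have hzτ : σ ^ h ≠ τ := fun a => hG.τnot (a ▸ Subgroup.npow_mem_zpowers σ h)
  have hcases : ∀ w ∈ V, w = 1 ∨ w = σ ^ h ∨ w = τ ∨ w = σ ^ h * τ := by
    intro w hw
    have hzt : σ ^ h * τ ∈ V := mul_mem hzV hτV
    have h1 : σ ^ h * τ ≠ 1 := fun a => hzτ (by
      rw [← mul_one (σ ^ h), ← hSD, ← mul_assoc, a, one_mul])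
    have h3 : σ ^ h ≠ σ ^ h * τ := fun a => hτ1 (left_eq_mul.1 a)
    have h4 : τ ≠ σ ^ h * τ := fun a => hG.mid_ne (right_eq_mul.1 a)
    have hsub : ({1, σ ^ h, τ, σ ^ h * τ} : Finset G) ⊆ (V : Set G).toFinset := by
      intro v hv
      simp only [Finset.mem_insert, Finset.mem_singleton] at hv
      rcases hv with rfl | rfl | rfl | rfl <;> simp only [Set.mem_toFinset, SetLike.mem_coe]
      exacts [one_mem _, hzV, hτV, hzt]
    have hc4 : ({1, σ ^ h, τ, σ ^ h * τ} : Finset G).card = 4 := by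
      rw [Finset.card_insert_of_notMem (by simp [hG.mid_ne.symm, hτ1.symm, h1.symm]),
        Finset.card_insert_of_notMem (by simp [hzτ, h3]), Finset.card_pair h4]
    have he := Finset.eq_of_subset_of_card_le hsub (by
      rw [hc4, ← Nat.card_eq_card_toFinset]; exact le_of_eq hV4)
    have := he.symm.subset (Set.mem_toFinset.2 hw)
    simpa using this
  have hab : ∀ a ∈ V, ∀ b ∈ V, a * b = b * a := fun a ha b hb => by
    have hc : ∀ w ∈ V, w * τ = τ * w := fun w hw => ((hVmem w).1 hw).2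
    have hcz : ∀ w ∈ V, w * σ ^ h = σ ^ h * w := fun w hw => hG.central ((hVmem w).1 hw).1
    rcases hcases b hb with rfl | rfl | rfl | rfl
    · simp
    · exact hcz a ha
    · exact hc a ha
    · rw [← mul_assoc, hcz a ha, mul_assoc, hc a ha, mul_assoc]
  -- the pair at the four-group
  have hVC : V ≤ C[Subgroup.zpowers τ] := hVdef ▸ inf_le_right
  obtain ⟨n, hnP, hQn⟩ := normalSubpair_below hM hPc hle (S := V)
    (Subgroup.zpowers_le.2 hτV) (hVdef ▸ inf_le_left)
    (hVC.trans (Subgroup.centralizer_le_normalizer _))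
  obtain ⟨V', rfl⟩ : ∃ V' : Subgroup C[Subgroup.zpowers τ], V'.map (Subgroup.subtype _) = V :=
    ⟨V.subgroupOf _, Subgroup.map_subgroupOf_eq_of_le hVC⟩
  have eV : (V'.map C[Subgroup.zpowers τ].subtype).subgroupOf _ = V' :=
    Subgroup.comap_map_eq_self_of_injective (Subgroup.subtype_injective _) V'
  rw [eV] at hdef
  have hQV : Subgroup.zpowers τ ≤ V'.map C[Subgroup.zpowers τ].subtype := Subgroup.zpowers_le.2 hτV
  have hup : upBlock V' (hloc.cen_up hQV) (pullSet (cenUp V' (hloc.cen_up hQV)) n) = n :=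
    pullSet_symm _ _
  have hQf := isBrauerPair_of_le hle hPc
  have hab' : ∀ a ∈ V', ∀ b ∈ V', a * b = b * a := fun a ha b hb =>
    Subtype.ext (hab a ⟨a, ha, rfl⟩ b ⟨b, hb, rfl⟩)
  have hVn : IsBrauerPairOf 2 M (F τ) V' (pullSet (cenUp V' (hloc.cen_up hQV)) n) :=
    (isBrauerPairOf_local_iff hM hloc hQf hQV _).2 (by rw [hup]; exact hQn)
  refine (abelian_inertial_one hM _ le_rfl hfb hdef hab'
    (isInducedBlock_of_isBrauerPairOf hM (le_centralizer_of_abelian hab' le_rfl) hVn) ?_).1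
  intro g hgN hgS
  have hmapV : V'.map (MulAut.conj g).toMonoidHom = V' := map_conj_eq_self hgN
  have hfix : conjIdx g ⟨V', pullSet (cenUp V' (hloc.cen_up hQV)) n⟩ =
      ⟨V', pullSet (cenUp V' (hloc.cen_up hQV)) n⟩ := (conjIdx_eq_self_iff _ _).2 ⟨hgN, hgS⟩
  have hQV' : Subgroup.zpowers τ ≤ (V'.map (MulAut.conj g).toMonoidHom).map
      C[Subgroup.zpowers τ].subtype := by rw [hmapV]; exact hQV
  have hgn : Relation.ReflTransGen (NormalSubpairRel 2 M)
      (conjIdx (g : G) ⟨V'.map C[Subgroup.zpowers τ].subtype, n⟩) ⟨D, c⟩ := by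
    rw [← hup, conjIdx_upBlock V' g (hloc.cen_up hQV) (hloc.cen_up hQV')]
    have h2 : ∀ (a b : BrauerPairIdx C[Subgroup.zpowers τ]), a = b →
        ∀ (ha : Subgroup.zpowers τ ≤ a.1.map C[Subgroup.zpowers τ].subtype)
          (hb : Subgroup.zpowers τ ≤ b.1.map C[Subgroup.zpowers τ].subtype),
        (⟨_, upBlock a.1 (hloc.cen_up ha) a.2⟩ : BrauerPairIdx G) =
          ⟨_, upBlock b.1 (hloc.cen_up hb) b.2⟩ := by rintro a _ rfl _ _; rfl
    have h3 := h2 _ _ hfix hQV' hQV
    dsimp only [conjIdx] at h3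
    rw [h3, hup]
    exact hnP
  have hgτ : (g : G) * τ = τ * g :=
    (Subgroup.mem_centralizer_iff.1 g.2 τ (Subgroup.mem_zpowers τ)).symm
  have hgz : (g : G) * σ ^ h * (g : G)⁻¹ = σ ^ h := by
    have hin : (g : G) * σ ^ h * (g : G)⁻¹ ∈ V'.map C[Subgroup.zpowers τ].subtype := by
      have h0 : (V'.map C[Subgroup.zpowers τ].subtype).map (MulAut.conj (g : G)).toMonoidHom =
          V'.map C[Subgroup.zpowers τ].subtype := by rw [map_subtype_conj, hmapV]
      exact h0.le ⟨_, hzV, rfl⟩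
    rcases hcases _ hin with a | a | a | a
    · exact absurd (conj_eq_one_iff.1 a) hG.mid_ne
    · exact a
    · refine absurd ?_ hzτ
      calc σ ^ h = (g : G)⁻¹ * ((g : G) * σ ^ h * (g : G)⁻¹) * g := by group
        _ = τ := by rw [a, mul_assoc, ← hgτ, inv_mul_cancel_left]
    · exfalso
      have h1 := hF.conj_of_rel hM hPc hnP hgn hzV
      rw [a] at h1
      have hzτσ : σ ^ h * τ ∉ Subgroup.zpowers σ := fun hh =>
        hG.τnot ((Subgroup.mul_mem_cancel_left _ (Subgroup.npow_mem_zpowers σ h)).1 hh)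
      obtain ⟨d', hd', hd''⟩ := hG.exists_conj_tau hSD (mul_mem hG.mid_mem hG.τmem)
        (by rw [show σ ^ h * τ * (σ ^ h * τ) = σ ^ h * (τ * σ ^ h) * τ by group,
          hG.central hG.τmem, ← mul_assoc, hG.mid_sq, one_mul, hSD]) hzτσ
      have h3 := hF.conj_mem hM hPc hd' hG.τmem
      rw [hd''] at h3
      exact hne (pairConj_equiv.trans h1 (pairConj_equiv.symm h3))
  refine Subgroup.mem_centralizer_iff.2 fun a ha => Subtype.ext ?_
  show (a : G) * g = g * a
  have hgz' : (g : G) * σ ^ h = σ ^ h * g := mul_inv_eq_iff_eq_mul.1 hgz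
  rcases hcases (a : G) ⟨a, ha, rfl⟩ with e | e | e | e <;> rw [e]
  · simp
  · exact hgz'.symm
  · exact hgτ.symm
  · rw [mul_assoc, ← hgτ, ← mul_assoc, ← hgz', mul_assoc]

end TameData

end Cfsg.Lib.Block
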