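import Cfsg.Agent.Lib.Block.TameCount
import Cfsg.Agent.Lib.Block.TameCenter
import Cfsg.Agent.Lib.Block.MajorBound

/-!
# The invariants of a block with quaternion or semidihedral defect group

The pairings at the central involution give the integers of the arithmetic; the count of the
subsections and the bound in the centralizer give the number of characters in terms of the rank.
-/

set_option autoImplicit false
set_option linter.unusedSectionVars false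
set_option maxHeartbeats 1600000

namespace Cfsg.Lib.Block

open Cfsg
open scoped ComplexConjugate

universe u

noncomputable local instance (priority := high) fintypeSubgroupTameMain {A : Type u}
    [Group A] [Fintype A] (H : Subgroup A) : Fintype H := Fintype.ofFinite H

local notation "C[" Q "]" => Subgroup.centralizer (SetLike.coe Q)

variable {G : Type u} [Group G] [Fintype G] [Fact (Nat.Prime 2)] {M : Ideal AlgInt}

theorem twoExact_of_scaled (hM : IsPModular 2 M) : ∀ (t : ℕ) (n : ℤ),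
    (n : ℂ) / ((2 : ℕ) : ℂ) ^ t ∈ locRing hM →
    ¬ MemLocalIdeal M ((n : ℂ) / ((2 : ℕ) : ℂ) ^ t) → TwoExact n t := by
  have hdiv : ∀ (t : ℕ) (n : ℤ), (n : ℂ) / ((2 : ℕ) : ℂ) ^ t ∈ locRing hM → (2 : ℤ) ^ t ∣ n := by
    intro t
    induction t with
    | zero => intro n _; simp
    | succ t ih =>
      intro n hn
      have h0 : ((2 : ℕ) : ℂ) ≠ 0 := by norm_num
      have h1 : (n : ℂ) = ((n : ℂ) / ((2 : ℕ) : ℂ) ^ (t + 1)) * (((2 : ℕ) : ℂ) ^ (t + 1)) := by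
        rw [div_mul_cancel₀ _ (pow_ne_zero _ h0)]
      have h2 : (2 : ℤ) ∣ n := by
        refine dvd_of_memLocalIdeal_intCast (p := 2) hM ?_
        rw [h1, pow_succ, ← mul_assoc]
        refine memLocalIdeal_mul_left hM ?_ ((memLocalIdeal_natCast_iff hM 2).2 dvd_rfl)
        rw [← pow_succ]
        exact mul_mem hn (pow_mem (natCast_mem _ _) _)
      obtain ⟨n', rfl⟩ := h2
      rw [pow_succ']
      refine mul_dvd_mul_left 2 (ih n' ?_)
      convert hn using 1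
      push_cast
      rw [pow_succ']
      field_simp
  intro t n hn hnot
  obtain ⟨r, rfl⟩ := hdiv t n hn
  refine ⟨r, ?_, rfl⟩
  rw [← Int.not_even_iff_odd]
  rintro ⟨k, rfl⟩
  refine hnot ?_
  push_cast
  rw [show ((2 : ℂ) ^ t * ((k : ℂ) + (k : ℂ))) / 2 ^ t = ((2 : ℕ) : ℂ) * (k : ℂ) by
    field_simp; push_cast; ring]
  exact memLocalIdeal_mul_right hM ((memLocalIdeal_natCast_iff hM 2).2 dvd_rfl) (intCast_mem _ _)

open Classical in
/-- The invariants. -/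
theorem TameData.main {B : Set (IrrCharacter G)} {D : Subgroup G} {c : Set (IrrCharacter C[D])}
    {σ τ : G} {h e : ℕ} (S : TameData M B D c σ τ h e) (hM : IsPModular 2 M) {m : ℕ}
    (hh : h = 2 ^ m) :
    TameShape B.toFinset h m (fun χ : IrrCharacter G => blockHeight 2 B (χ : G → ℂ)) ∧
      1 ≤ blockRank 2 B ∧ blockRank 2 B ≤ 3 ∧
      (τ * τ ≠ 1 → Nat.card B = blockRank 2 B + h + 2) ∧
      (τ * τ = 1 → (Nat.card B = h + 3 ∨ Nat.card B = h + 4) ∧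
        (blockRank 2 B = 3 → Nat.card B = h + 4) ∧ (blockRank 2 B = 1 → Nat.card B = h + 3)) := by
  have hG := S.grp
  have hB := S.block
  have h2 := hG.two_le
  have hm1 : 1 ≤ m := by
    obtain ⟨m', hm', e'⟩ := hG.two_pow
    rw [hh] at e'
    rw [Nat.pow_right_injective (le_refl 2) e']
    exact hm'
  have hl0 := blockRank_pos (p := 2) hM hB
  obtain ⟨F, hF⟩ := exists_pairFam (p := 2) hM S.maxPair.1.1
  obtain ⟨Φ, ε, hΦ, hkf, hkB, hε⟩ := S.count hM hF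
  obtain ⟨D', c', σ', τ', hσ, hτ, -, SK, -⟩ := S.exists_local hM (hF _ hG.mid_mem)
  have hz' : ((σ' ^ h : C[Subgroup.zpowers (σ ^ h)]) : G) = σ ^ h := by
    rw [SubgroupClass.coe_pow, hσ]
  obtain ⟨A, Bc, C, P, Q, R, T, hcase₀⟩ := SK.central_form hM (Subgroup.mem_center_iff.2 fun g =>
    Subtype.ext (by
      rw [Subgroup.coe_mul, Subgroup.coe_mul, hz']
      exact (Subgroup.mem_centralizer_iff.1 g.2 _ (Subgroup.mem_zpowers _)).symm))
  have hcase : (A = 0 ∧ Bc = 0 ∧ C = 0 ∧ blockRank 2 (F (σ ^ h)) = 1 ∧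
      Nat.card (F (σ ^ h)) ≤ h + 3 ∧ (h + 1 ≤ Nat.card (F (σ ^ h)) → Nat.card (F (σ ^ h)) = h + 3)) ∨
      (∃ q δ : ℤ, Even q ∧ (h : ℤ) = 2 * q ∧ (δ = 1 ∨ δ = -1) ∧ A = q ∧ Bc = q ∧ C = δ * q ∧
        blockRank 2 (F (σ ^ h)) = 2 ∧ Nat.card (F (σ ^ h)) ≤ h + 4 ∧ Nat.card (F (σ ^ h)) ≠ h + 3) ∨
      (A = h ∧ Bc = h ∧ C = 0 ∧ blockRank 2 (F (σ ^ h)) = 3 ∧ Nat.card (F (σ ^ h)) ≤ h + 5) := hcase₀
  -- the count gives the number of characters
  have hKB : Nat.card B ≥ h + 2 ∧ (blockRank 2 (F (σ ^ h)) = 3 → h + 3 ≤ Nat.card B) ∧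
      blockRank 2 (F (σ ^ h)) + Φ + (if τ * τ = 1 then 1 else 0) = h + 2 ∧
      ((if τ * τ = 1 then 1 else 0) = 1 → blockRank 2 (F (σ ^ h)) ≠ 3) := by
    have hc : (blockRank 2 (F (σ ^ h)) = 1 ∧ Nat.card (F (σ ^ h)) ≤ h + 3 ∧
        (h + 1 ≤ Nat.card (F (σ ^ h)) → Nat.card (F (σ ^ h)) = h + 3)) ∨
        (blockRank 2 (F (σ ^ h)) = 2 ∧ Nat.card (F (σ ^ h)) ≤ h + 4 ∧
          Nat.card (F (σ ^ h)) ≠ h + 3) ∨
        (blockRank 2 (F (σ ^ h)) = 3 ∧ Nat.card (F (σ ^ h)) ≤ h + 5) := by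
      rcases hcase with ⟨-, -, -, l, b⟩ | ⟨q, δ, -, -, -, -, -, -, l, b⟩ | ⟨-, -, -, l, b⟩
      exacts [Or.inl ⟨l, b⟩, Or.inr (Or.inl ⟨l, b⟩), Or.inr (Or.inr ⟨l, b⟩)]
    split_ifs at hkf hε ⊢
    all_goals
      generalize blockRank 2 (F (σ ^ h)) = lz at *
      generalize Nat.card (F (σ ^ h)) = kf at *
      clear hcase hcase₀
      exact ⟨by omega, fun h3 => by omega, by omega, fun h1 h3 => by omega⟩
  -- the major subsection
  have hzD : σ ^ h ∈ D := hG.mid_mem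
  obtain ⟨eS, mf, hS⟩ := exists_majorSetup_central hM S.maxPair hzD (fun d hd => hG.central hd)
    (hF _ hzD)
  obtain ⟨p, q, r, εp, εq, εr, ⟨hp, hq, hr⟩, ⟨hεp, hεq, hεr⟩, ⟨hp0, hq0, hr0⟩,
    ⟨Gpp, Gpq, Gqq, Gpr, Gqr, Grr⟩, hrows⟩ := T.exists_rows hS.form
  choose! ra rb rc hra using hrows
  obtain ⟨d, hd⟩ : ∃ d, d = blockDefect 2 (F (σ ^ h)) := ⟨_, rfl⟩
  have hd4 : ((2 ^ d : ℕ) : ℤ) = 4 * h := by
    rw [hd, hS.major, ← card_defectGroup hM hB (isDefectGroup_of_maximal hM S.maxPair), hG.card]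
    push_cast; ring
  have hci : ∀ (χ : IrrCharacter G) (ξ : IrrCharacter C[Subgroup.zpowers (σ ^ h)]), ∃ a : ℤ,
      classInner (secFn (σ ^ h) C[Subgroup.zpowers (σ ^ h)] (χ : G → ℂ))
        (ξ : C[Subgroup.zpowers (σ ^ h)] → ℂ) = (a : ℂ) := by
    intro χ ξ
    obtain ⟨w, hw, hwχ⟩ := classInner_secFn hS.mem hS.comm χ ξ
    obtain ⟨n, hn⟩ := (χ.2.isCharacter.comp
      C[Subgroup.zpowers (σ ^ h)].subtype).exists_nat_classInner ξ.2.isCharacter
    have hn' : classInner (fun g : C[Subgroup.zpowers (σ ^ h)] => (χ : G → ℂ) g)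
        (ξ : C[Subgroup.zpowers (σ ^ h)] → ℂ) = n := hn
    rw [hn'] at hwχ
    rw [S.orderOf_mid, sq_eq_one_iff] at hw
    rcases hw with rfl | rfl
    · exact ⟨n, by rw [hwχ]; push_cast; ring⟩
    · exact ⟨-n, by rw [hwχ]; push_cast; ring⟩
  choose cc hcc using hci
  obtain ⟨Tm, hTm⟩ : ∃ Tm : IrrCharacter C[Subgroup.zpowers (σ ^ h)] → IrrCharacter G → ℤ,
      Tm = fun x χ => ∑ ξ ∈ (F (σ ^ h)).toFinset, cc χ ξ * mf ξ x := ⟨_, rfl⟩
  have hT : ∀ x ∈ F (σ ^ h), ∀ χ, secT 2 d (σ ^ h) χ x = (Tm x χ : ℂ) := by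
    intro x hx χ
    rw [secT_eq_sum hM hS.comm hS.ind.1 hd.symm χ hx, hTm, Int.cast_sum]
    exact Finset.sum_congr rfl fun ξ hξ => by
      rw [hcc, hS.form.eq ξ (Set.mem_toFinset.1 hξ) x hx, Int.cast_mul]
  obtain ⟨a, ha⟩ : ∃ a : IrrCharacter G → ℤ,
      a = fun χ => ∑ ξ ∈ (F (σ ^ h)).toFinset, cc χ ξ * ra ξ := ⟨_, rfl⟩
  obtain ⟨b, hb⟩ : ∃ b : IrrCharacter G → ℤ,
      b = fun χ => ∑ ξ ∈ (F (σ ^ h)).toFinset, cc χ ξ * rb ξ := ⟨_, rfl⟩
  obtain ⟨c'', hc''⟩ : ∃ c'' : IrrCharacter G → ℤ,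
      c'' = fun χ => ∑ ξ ∈ (F (σ ^ h)).toFinset, cc χ ξ * rc ξ := ⟨_, rfl⟩
  obtain ⟨s, hs⟩ : ∃ s : IrrCharacter G → ℤ, s = fun χ => a χ + b χ - c'' χ := ⟨_, rfl⟩
  obtain ⟨dp, hdp⟩ : ∃ v : IrrCharacter G → ℤ, v = fun χ => A * (a χ - b χ) + C * c'' χ := ⟨_, rfl⟩
  obtain ⟨dr, hdr⟩ : ∃ v : IrrCharacter G → ℤ, v = fun χ => C * (a χ - b χ) + Bc * c'' χ := ⟨_, rfl⟩
  have hu : ∀ χ, εp * Tm p χ = s χ + dp χ ∧ εq * Tm q χ = s χ - dp χ ∧
      εr * Tm r χ = -s χ + dr χ := by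
    intro χ
    simp only [hs, hdp, hdr, ha, hb, hc'', hTm, Finset.mul_sum, ← Finset.sum_add_distrib,
      ← Finset.sum_sub_distrib, ← Finset.sum_neg_distrib]
    refine ⟨?_, ?_, ?_⟩
    all_goals refine Finset.sum_congr rfl fun ξ hξ => ?_
    · linear_combination cc χ ξ * (hra ξ (Set.mem_toFinset.1 hξ)).1
    · linear_combination cc χ ξ * (hra ξ (Set.mem_toFinset.1 hξ)).2.1
    · linear_combination cc χ ξ * (hra ξ (Set.mem_toFinset.1 hξ)).2.2
  have hgram : ∀ x ∈ F (σ ^ h), ∀ y ∈ F (σ ^ h),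
      ∑ χ ∈ B.toFinset, Tm x χ * Tm y χ = 4 * h * mf x y := by
    intro x hx y hy
    apply Int.cast_injective (α := ℂ)
    have e1 := sum_secT_mul_conj hM hS.exists_order hS.comm hS.cen hS.ind hd.symm hx hy
    rw [hS.form.eq x hx y hy, map_intCast, Finset.sum_congr rfl fun χ _ => by
      rw [hT x hx, hT y hy, map_intCast]] at e1
    rw [← hd4]
    push_cast at e1 ⊢
    exact e1
  have hsum : ∀ (x y : IrrCharacter C[Subgroup.zpowers (σ ^ h)]) (e₁ e₂ v : ℤ)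
      (f g : IrrCharacter G → ℤ),
      x ∈ F (σ ^ h) → y ∈ F (σ ^ h) → e₁ * e₂ * mf x y = v →
      (∀ χ, e₁ * Tm x χ = f χ) → (∀ χ, e₂ * Tm y χ = g χ) →
      ∑ χ ∈ B.toFinset, f χ * g χ = 4 * h * v := by
    intro x y e₁ e₂ v f g hx hy hv hf hg
    rw [← hv, Finset.sum_congr rfl (g := fun χ => e₁ * e₂ * (Tm x χ * Tm y χ))
      fun χ _ => by rw [← hf χ, ← hg χ]; ring, ← Finset.mul_sum, hgram x hx y hy]
    ring
  have Spp := hsum p p εp εp _ _ _ hp hp Gpp (fun χ => (hu χ).1) (fun χ => (hu χ).1)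
  have Spq := hsum p q εp εq _ _ _ hp hq Gpq (fun χ => (hu χ).1) (fun χ => (hu χ).2.1)
  have Sqq := hsum q q εq εq _ _ _ hq hq Gqq (fun χ => (hu χ).2.1) (fun χ => (hu χ).2.1)
  have Spr := hsum p r εp εr _ _ _ hp hr Gpr (fun χ => (hu χ).1) (fun χ => (hu χ).2.2)
  have Sqr := hsum q r εq εr _ _ _ hq hr Gqr (fun χ => (hu χ).2.1) (fun χ => (hu χ).2.2)
  have Srr := hsum r r εr εr _ _ _ hr hr Grr (fun χ => (hu χ).2.2) (fun χ => (hu χ).2.2)
  simp only [mul_add, add_mul, mul_sub, sub_mul, neg_mul, mul_neg, Finset.sum_add_distrib,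
    Finset.sum_sub_distrib, Finset.sum_neg_distrib] at Spp Spq Sqq Spr Sqr Srr
  have hcm : ∀ f g : IrrCharacter G → ℤ,
      ∑ χ ∈ B.toFinset, g χ * f χ = ∑ χ ∈ B.toFinset, f χ * g χ :=
    fun f g => Finset.sum_congr rfl fun χ _ => mul_comm _ _
  rw [hcm s dp] at Spp Spq Sqq Spr Sqr
  rw [hcm s dr] at Srr
  have Sss : ∑ χ ∈ B.toFinset, s χ * s χ = 4 * h := by linarith
  have Sdd : ∑ χ ∈ B.toFinset, dp χ * dp χ = 4 * h * A := by linarith
  have Ssd : ∑ χ ∈ B.toFinset, s χ * dp χ = 0 := by linarith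
  have Ssr : ∑ χ ∈ B.toFinset, s χ * dr χ = 0 := by linarith
  have Srd : ∑ χ ∈ B.toFinset, dr χ * dr χ = 4 * h * Bc := by linarith
  have Sdr : ∑ χ ∈ B.toFinset, dp χ * dr χ = 4 * h * C := by linarith
  -- exact divisibility
  have hex : ∀ x ∈ F (σ ^ h), blockHeight 2 (F (σ ^ h)) (x : C[Subgroup.zpowers (σ ^ h)] → ℂ) = 0 →
      ∀ ε : ℤ, (ε = 1 ∨ ε = -1) → ∀ χ ∈ B,
        TwoExact (ε * Tm x χ) (blockHeight 2 B (χ : G → ℂ)) := by
    intro x hx hx0 ε hε χ hχ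
    obtain ⟨h1, h2⟩ := hS.secT_scaled hM hχ x
    rw [← hd, hT x hx] at h1 h2
    obtain ⟨r, hr, he⟩ := twoExact_of_scaled hM _ _ h1 (h2 ⟨hx, hx0⟩)
    refine ⟨ε * r, ?_, by rw [he]; ring⟩
    rcases hε with rfl | rfl <;> simpa using hr
  obtain ⟨ht, hht⟩ : ∃ ht : IrrCharacter G → ℕ, ht = fun χ : IrrCharacter G => blockHeight 2 B (χ : G → ℂ) := ⟨_, rfl⟩
  rw [← hht]
  have hxp : ∀ χ ∈ B.toFinset, TwoExact (s χ + dp χ) (ht χ) ∧ TwoExact (s χ - dp χ) (ht χ) ∧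
      TwoExact (-s χ + dr χ) (ht χ) := fun χ hχ => by
    rw [hht, ← (hu χ).1, ← (hu χ).2.1, ← (hu χ).2.2]
    exact ⟨hex p hp hp0 εp hεp χ (Set.mem_toFinset.1 hχ), hex q hq hq0 εq hεq χ (Set.mem_toFinset.1 hχ),
      hex r hr hr0 εr hεr χ (Set.mem_toFinset.1 hχ)⟩
  have hne : ∃ χ ∈ B.toFinset, ht χ = 0 := by
    obtain ⟨χ, hχ, hmin⟩ := exists_minVal (p := 2) (nonempty_of_isPBlock hM hB)
    exact ⟨χ, Set.mem_toFinset.2 hχ, hht ▸ (blockHeight_eq_zero_iff hχ).2 hmin⟩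
  -- the rotation vector
  obtain ⟨V, hV4, hVodd, -, hVorth, -⟩ := S.exists_rotation_vectors hM
  obtain ⟨Fv, hFv⟩ : ∃ Fv : IrrCharacter G → ℤ, Fv = fun χ => V χ 0 := ⟨_, rfl⟩
  have hFF : ∑ χ ∈ B.toFinset, Fv χ * Fv χ = 4 := by rw [hFv]; exact hV4
  have hFo : ∀ χ ∈ B.toFinset, ht χ = 0 → Odd (Fv χ) := fun χ hχ h0 => by
    rw [hFv]; rw [hht] at h0
    exact hVodd χ (Set.mem_toFinset.1 hχ) h0
  have hVT : ∀ x ∈ F (σ ^ h), ∑ χ ∈ B.toFinset, Fv χ * Tm x χ = 0 := by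
    intro x hx
    apply Int.cast_injective (α := ℂ)
    push_cast
    rw [Finset.sum_congr rfl fun χ _ => by rw [← hT x hx χ, secT_eq_reg_sum, Finset.mul_sum,
      Finset.mul_sum], Finset.sum_comm]
    refine Finset.sum_eq_zero fun y _ => ?_
    by_cases hy : IsPRegular 2 y
    · simp only [if_pos hy]
      have h0 : ∑ χ ∈ B.toFinset, (Fv χ : ℂ) * (χ : G → ℂ) (σ ^ h * (y : G)) = 0 := by
        rw [hFv]
        refine hVorth 0 _ ?_
        rw [pPt_mul_reg hS.exists_order (hS.comm y) (by rwa [IsPRegular, orderOf_submonoid]),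
          S.orderOf_mid]
        omega
      rw [Finset.sum_congr rfl (g := fun χ : IrrCharacter G => ((2 ^ d : ℕ) : ℂ) *
          (Nat.card C[Subgroup.zpowers (σ ^ h)] : ℂ)⁻¹ *
          conj ((x : C[Subgroup.zpowers (σ ^ h)] → ℂ) y) *
          ((Fv χ : ℂ) * (χ : G → ℂ) (σ ^ h * (y : G)))) fun χ _ => by ring, ← Finset.mul_sum, h0,
        mul_zero]
    · simp [if_neg hy]
  have k1 := hVT p hp
  have k2 := hVT q hq
  have k3 := hVT r hr
  have hFs : ∑ χ ∈ B.toFinset, Fv χ * s χ = 0 ∧ ∑ χ ∈ B.toFinset, Fv χ * dp χ = 0 := by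
    have key : ∀ (x : IrrCharacter C[Subgroup.zpowers (σ ^ h)]) (ε : ℤ) (f : IrrCharacter G → ℤ),
        x ∈ F (σ ^ h) → (∀ χ, ε * Tm x χ = f χ) → ∑ χ ∈ B.toFinset, Fv χ * f χ = 0 := by
      intro x ε f hx hf
      rw [Finset.sum_congr rfl (g := fun χ => ε * (Fv χ * Tm x χ)) fun χ _ => by rw [← hf χ]; ring,
        ← Finset.mul_sum, hVT x hx, mul_zero]
    have a1 := key p εp _ hp fun χ => (hu χ).1
    have a2 := key q εq _ hq fun χ => (hu χ).2.1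
    simp only [mul_add, mul_sub, Finset.sum_add_distrib, Finset.sum_sub_distrib] at a1 a2
    exact ⟨by linarith, by linarith⟩
  -- parity of the columns
  have hdpev : ∀ χ, Even A → Even C → Even (dp χ) := fun χ hA hC => by
    rw [hdp]; exact (hA.mul_right _).add (hC.mul_right _)
  have heven : Even (h : ℤ) := by
    exact_mod_cast even_iff_two_dvd.2 hG.dvd_two
  have hpar : Even A → Even C → ∀ χ ∈ B.toFinset, ht χ = 0 ↔ Odd (s χ) := fun hA hC χ hχ => by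
    rw [(hxp χ hχ).1.odd_iff, Int.odd_add]
    exact iff_true_right (hdpev χ hA hC) |>.trans Iff.rfl
  have hcardB : B.toFinset.card = Nat.card B := (Nat.card_eq_card_toFinset B).symm
  have hhz : (h : ℤ) ≠ 0 := by omega
  obtain ⟨hk2, hk3, hsumf, hl3⟩ := hKB
  have hshape : (Nat.card B = h + 3 ∨ Nat.card B = h + 4 ∨
      (blockRank 2 (F (σ ^ h)) = 3 ∧ Nat.card B = h + 5)) ∧
      TameShape B.toFinset h m ht := by
    rcases hcase with ⟨hA, hB', hC, hl, -, -⟩ | ⟨qq, δ, hqe, hhq, hδ, hA, hB', hC, hl, -, -⟩ |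
      ⟨hA, hB', hC, hl, -⟩
    · obtain ⟨w1, w2⟩ := tame_shape_one hh hm1 hFF hFo hne Sss
        (hpar (hA ▸ Even.zero) (hC ▸ Even.zero)) (fun χ hχ => by
          have := (hxp χ hχ).1
          simp only [hdp, hA, hC, zero_mul, add_zero] at this
          exact this) (hcardB ▸ hk2)
      exact ⟨Or.inl (hcardB ▸ w1), w2⟩
    · obtain ⟨Y, hY⟩ : ∃ Y : IrrCharacter G → ℤ, Y = fun χ => (a χ - b χ) + δ * c'' χ := ⟨_, rfl⟩
      have hq0 : qq ≠ 0 := fun e => hhz (by rw [hhq, e, mul_zero])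
      have hdpY : ∀ χ, dp χ = qq * Y χ := fun χ => by rw [hdp, hY, hA, hC]; ring
      have hYY : ∑ χ ∈ B.toFinset, Y χ * Y χ = 8 := by
        rw [Finset.sum_congr rfl (g := fun χ => qq * qq * (Y χ * Y χ)) fun χ _ => by rw [hdpY]; ring,
          ← Finset.mul_sum, hA] at Sdd
        refine mul_left_cancel₀ (mul_ne_zero hq0 hq0) ?_
        rw [Sdd, hhq]; ring
      have hsY : ∑ χ ∈ B.toFinset, s χ * Y χ = 0 := by
        rw [Finset.sum_congr rfl (g := fun χ => qq * (s χ * Y χ)) fun χ _ => by rw [hdpY]; ring,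
          ← Finset.mul_sum] at Ssd
        exact (mul_eq_zero.1 Ssd).resolve_left hq0
      have hFY : ∑ χ ∈ B.toFinset, Fv χ * Y χ = 0 := by
        have := hFs.2
        rw [Finset.sum_congr rfl (g := fun χ => qq * (Fv χ * Y χ)) fun χ _ => by rw [hdpY]; ring,
          ← Finset.mul_sum] at this
        exact (mul_eq_zero.1 this).resolve_left hq0
      obtain ⟨w1, w2⟩ := tame_shape_two hh hFF hFo hne Sss
        (hpar (hA ▸ hqe) (hC ▸ hqe.mul_left δ)) hhq hqe hYY hsY hFY hFs.1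
        (fun χ _ => by
          simp only [hs, hY, Int.even_iff]
          rcases hδ with rfl | rfl <;> omega)
        (fun χ hχ => hdpY χ ▸ (hxp χ hχ).1) (hcardB ▸ hk2)
      rw [hcardB] at w1
      exact ⟨w1.imp id Or.inl, w2⟩
    · have hdpy : ∀ χ, dp χ = h * (a χ - b χ) := fun χ => by rw [hdp, hA, hC]; ring
      have hdrz : ∀ χ, dr χ = h * c'' χ := fun χ => by rw [hdr, hB', hC]; ring
      have hyy : ∑ χ ∈ B.toFinset, (a χ - b χ) * (a χ - b χ) = 4 := by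
        rw [Finset.sum_congr rfl (g := fun χ => (h : ℤ) * h * ((a χ - b χ) * (a χ - b χ)))
          fun χ _ => by rw [hdpy]; ring, ← Finset.mul_sum, hA] at Sdd
        refine mul_left_cancel₀ (mul_ne_zero hhz hhz) ?_
        linear_combination Sdd
      have hzz : ∑ χ ∈ B.toFinset, c'' χ * c'' χ = 4 := by
        rw [Finset.sum_congr rfl (g := fun χ => (h : ℤ) * h * (c'' χ * c'' χ))
          fun χ _ => by rw [hdrz]; ring, ← Finset.mul_sum, hB'] at Srd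
        refine mul_left_cancel₀ (mul_ne_zero hhz hhz) ?_
        linear_combination Srd
      have hyz : ∑ χ ∈ B.toFinset, (a χ - b χ) * c'' χ = 0 := by
        rw [Finset.sum_congr rfl (g := fun χ => (h : ℤ) * h * ((a χ - b χ) * c'' χ))
          fun χ _ => by rw [hdpy, hdrz]; ring, ← Finset.mul_sum, hC, mul_zero] at Sdr
        exact (mul_eq_zero.1 Sdr).resolve_left (mul_ne_zero hhz hhz)
      have hsy : ∑ χ ∈ B.toFinset, s χ * (a χ - b χ) = 0 := by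
        rw [Finset.sum_congr rfl (g := fun χ => (h : ℤ) * (s χ * (a χ - b χ))) fun χ _ => by
          rw [hdpy]; ring, ← Finset.mul_sum] at Ssd
        exact (mul_eq_zero.1 Ssd).resolve_left hhz
      have hsz : ∑ χ ∈ B.toFinset, s χ * c'' χ = 0 := by
        rw [Finset.sum_congr rfl (g := fun χ => (h : ℤ) * (s χ * c'' χ)) fun χ _ => by
          rw [hdrz]; ring, ← Finset.mul_sum] at Ssr
        exact (mul_eq_zero.1 Ssr).resolve_left hhz
      obtain ⟨w1, w2⟩ := tame_shape_three hh hm1 hFF hFo hne Sss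
        (hpar (hA ▸ heven) (hC ▸ Even.zero)) (y := fun χ => a χ - b χ) (z := c'') hyy hzz hyz hsy hsz
        (fun χ hχ => by
          have := hxp χ hχ
          rwa [hdpy, hdrz] at this)
        (fun χ _ => by simp only [hs, Int.even_iff]; omega) (hcardB ▸ hk3 hl)
      rw [hcardB] at w1
      exact ⟨w1.elim (fun w => Or.inr (Or.inl w)) (fun w => Or.inr (Or.inr ⟨hl, w⟩)), w2⟩
  obtain ⟨hcases, hfin⟩ := hshape
  refine ⟨hfin, hl0, ?_, fun ht1 => ?_, fun ht1 => ?_⟩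
  all_goals clear hcase hcase₀ hfin hpar hxp hex hne
  · split_ifs at hsumf hε hkf hl3 <;> omega
  · rw [if_neg ht1] at hsumf hε hkf
    omega
  · rw [if_pos ht1] at hsumf hε hkf hl3
    have := hl3 rfl
    omega

end Cfsg.Lib.Block
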