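import Cfsg.Agent.Lib.Block.DihedralDefectExists
import Cfsg.Agent.Lib.Block.AbelianKlein
import Cfsg.Agent.Lib.Block.BrauerFeit

/-!
# The form of a two-block with dihedral or Klein four defect group

There are four characters of height zero whose regular parts, with signs, sum to zero; the others
agree up to sign with the sum of the first two. The form is given by three even integers.
-/

set_option autoImplicit false
set_option linter.unusedSectionVars false
set_option maxHeartbeats 800000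

namespace Cfsg.Lib.Block

open Cfsg Cfsg.Lib.Char
open scoped ComplexConjugate

universe u

noncomputable local instance (priority := high) fintypeSubgroupTameShape {A : Type u}
    [Group A] [Fintype A] (H : Subgroup A) : Fintype H := Fintype.ofFinite H

local notation "C[" Q "]" => Subgroup.centralizer (SetLike.coe Q)

variable {X : Type u} [Group X] [Fintype X] [Fact (Nat.Prime 2)] {M : Ideal AlgInt}

/-- The scaled inner product of class functions supported on regular elements. -/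
noncomputable def regP (Bb : Set (IrrCharacter X)) (f g : X → ℂ) : ℂ :=
  ((2 ^ blockDefect 2 Bb : ℕ) : ℂ) * classInner f g

/-- A signed regular part of a member of height zero. -/
def IsSignedPart (Bb : Set (IrrCharacter X)) (g : X → ℂ) : Prop :=
  ∃ x ∈ Bb, ∃ ε : ℤ, (ε = 1 ∨ ε = -1) ∧ blockHeight 2 Bb (x : X → ℂ) = 0 ∧
    g = (ε : ℂ) • pRegularPart 2 (x : X → ℂ)

/-- The form of a block of a group with dihedral defect group of order `2 h`. -/
structure FourShape (Bb : Set (IrrCharacter X)) (h : ℕ) (A B C : ℤ) (gp gq gr : X → ℂ) : Prop where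
  evA : Even A
  evB : Even B
  evC : Even C
  eq1 : A * A + C * C = h * A
  eq2 : B * B + C * C = h * B
  eq3 : C * (A + B) = h * C
  span : ∀ x ∈ Bb, ∃ a b c : ℤ, pRegularPart 2 (x : X → ℂ) = (a : ℂ) • gp + (b : ℂ) • gq + (c : ℂ) • gr
  sp : IsSignedPart Bb gp
  sq : IsSignedPart Bb gq
  sr : IsSignedPart Bb gr
  pp : regP Bb gp gp = ((1 + A : ℤ) : ℂ)
  pq : regP Bb gp gq = ((1 - A : ℤ) : ℂ)
  qq : regP Bb gq gq = ((1 + A : ℤ) : ℂ)
  pr : regP Bb gp gr = ((C - 1 : ℤ) : ℂ)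
  qr : regP Bb gq gr = ((-C - 1 : ℤ) : ℂ)
  rr : regP Bb gr gr = ((1 + B : ℤ) : ℂ)
  card : Nat.card Bb = h / 2 + 3
  four : Nat.card {x : IrrCharacter X // x ∈ Bb ∧ blockHeight 2 Bb (x : X → ℂ) = 0} = 4
  rank : A + B = h * ((blockRank 2 Bb : ℤ) - 1)

theorem classInner_regPart (f : X → ℂ) (y : X → ℂ) :
    classInner (pRegularPart 2 f) (pRegularPart 2 y) = classInner (pRegularPart 2 f) y := by
  simp only [classInner]
  congr 1
  refine Finset.sum_congr rfl fun g _ => ?_
  by_cases hg : IsPRegular 2 g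
  · rw [pRegularPart_of_reg (χ := y) hg]
  · simp [pRegularPart_of_sing hg]

theorem regN_eq_regP (Bb : Set (IrrCharacter X)) (x y : IrrCharacter X) :
    regN 2 Bb x y = regP Bb (pRegularPart 2 (x : X → ℂ)) (pRegularPart 2 (y : X → ℂ)) := by
  rw [regN, regP, regInner, classInner_regPart]

theorem regP_smul (Bb : Set (IrrCharacter X)) (a b : ℤ) (f g : X → ℂ) :
    regP Bb ((a : ℂ) • f) ((b : ℂ) • g) = (a : ℂ) * b * regP Bb f g := by
  rw [regP, regP, classInner_smul_left, classInner_smul_right, map_intCast]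
  ring

variable (hM : IsPModular 2 M) {Bb : Set (IrrCharacter X)} {m : IrrCharacter X → IrrCharacter X → ℤ}

include hM in
open Classical in
/-- From the signs to the form. -/
theorem fourShape_assemble (hB : IsPBlock M Bb) (hm : IsRegForm 2 Bb m) {h : ℕ}
    (hd : 2 ^ blockDefect 2 Bb = 2 * h) (hh : Even h) {p q r r' : IrrCharacter X}
    (hp : p ∈ Bb) (hq : q ∈ Bb) (hr : r ∈ Bb) (hr' : r' ∈ Bb)
    (hne : p ≠ q ∧ p ≠ r ∧ p ≠ r' ∧ q ≠ r ∧ q ≠ r' ∧ r ≠ r')
    (ε : IrrCharacter X → ℤ) (hε : ∀ x ∈ ({p, q, r, r'} : Finset (IrrCharacter X)), ε x = 1 ∨ ε x = -1)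
    (h0 : ∀ x ∈ Bb, blockHeight 2 Bb (x : X → ℂ) = 0 ↔ (x = p ∨ x = q ∨ x = r ∨ x = r'))
    (hrel : (ε p : ℂ) • pRegularPart 2 (p : X → ℂ) + (ε q : ℂ) • pRegularPart 2 (q : X → ℂ) +
      (ε r : ℂ) • pRegularPart 2 (r : X → ℂ) + (ε r' : ℂ) • pRegularPart 2 (r' : X → ℂ) = 0)
    (hY : ∀ x ∈ Bb, ¬ (x = p ∨ x = q ∨ x = r ∨ x = r') → ∃ δ : ℤ, (δ = 1 ∨ δ = -1) ∧
      pRegularPart 2 (x : X → ℂ) = (δ : ℂ) •
        ((ε p : ℂ) • pRegularPart 2 (p : X → ℂ) + (ε q : ℂ) • pRegularPart 2 (q : X → ℂ)))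
    (hcard : Nat.card Bb = h / 2 + 3)
    (hP : ε p * (ε p * m p p + ε q * m p q) = 2) (hQ : ε q * (ε p * m q p + ε q * m q q) = 2)
    (hR : ε r * (ε p * m r p + ε q * m r q) = -2) :
    ∃ A B C : ℤ, ∃ gp gq gr : X → ℂ, FourShape Bb h A B C gp gq gr := by
  obtain ⟨npq, npr, npr', nqr, nqr', nrr'⟩ := hne
  have e2 : ∀ x ∈ ({p, q, r, r'} : Finset (IrrCharacter X)), ε x * ε x = 1 := fun x hx => by
    rcases hε x hx with a | a <;> rw [a] <;> norm_num
  have ep := e2 p (by simp); have eq' := e2 q (by simp)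
  have er := e2 r (by simp); have er' := e2 r' (by simp)
  -- linearity in the second argument
  have hlin : ∀ w ∈ Bb, ∀ x ∈ Bb,
      (m w x : ℂ) = regP Bb (pRegularPart 2 (w : X → ℂ)) (pRegularPart 2 (x : X → ℂ)) :=
    fun w hw x hx => by rw [← hm.eq w hw x hx, regN_eq_regP]
  have hsum : ∀ w ∈ Bb, ε p * m w p + ε q * m w q + ε r * m w r + ε r' * m w r' = 0 := by
    intro w hw
    apply Int.cast_injective (α := ℂ)
    have e : regP Bb (pRegularPart 2 (w : X → ℂ)) 0 = 0 := by simp [regP, classInner]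
    push_cast
    rw [hlin w hw p hp, hlin w hw q hq, hlin w hw r hr, hlin w hw r' hr', ← e, ← hrel]
    simp only [regP, classInner_add_right, classInner_smul_right, map_intCast]
    ring
  have hYm : ∀ x ∈ Bb, ¬ (x = p ∨ x = q ∨ x = r ∨ x = r') → ∃ δ : ℤ, δ * δ = 1 ∧
      ∀ w ∈ Bb, m w x = δ * (ε p * m w p + ε q * m w q) := by
    intro x hx hn
    obtain ⟨δ, hδ, e⟩ := hY x hx hn
    refine ⟨δ, by rcases hδ with a | a <;> rw [a] <;> norm_num, fun w hw => ?_⟩
    apply Int.cast_injective (α := ℂ)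
    push_cast
    rw [hlin w hw x hx, hlin w hw p hp, hlin w hw q hq, e]
    simp only [regP, classInner_add_right, classInner_smul_right, map_intCast]
    ring
  obtain ⟨A, hA⟩ : ∃ A, A = m p p - 1 := ⟨_, rfl⟩
  obtain ⟨B, hBd⟩ : ∃ B, B = m r r - 1 := ⟨_, rfl⟩
  obtain ⟨C, hC⟩ : ∃ C, C = ε p * ε r * m p r + 1 := ⟨_, rfl⟩
  have s : ∀ x ∈ Bb, ∀ y ∈ Bb, m y x = m x y := hm.symm
  have upp : m p p = 1 + A := by omega
  have urr : m r r = 1 + B := by omega
  have upr : ε p * ε r * m p r = C - 1 := by omega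
  have upq : ε p * ε q * m p q = 1 - A := by linear_combination hP - m p p * ep - upp
  have uqq : m q q = 1 + A := by
    rw [s p hp q hq] at hQ; linear_combination hQ - upq - m q q * eq'
  have uqr : ε q * ε r * m q r = -C - 1 := by
    rw [s p hp r hr, s q hq r hr] at hR; linear_combination hR - upr
  have upr' : ε p * ε r' * m p r' = -C - 1 := by
    linear_combination ε p * hsum p hp - m p p * ep - upp - upq - upr
  have uqr' : ε q * ε r' * m q r' = C - 1 := by
    have := hsum q hq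
    rw [s p hp q hq] at this
    linear_combination ε q * this - m q q * eq' - uqq - upq - uqr
  have urr' : ε r * ε r' * m r r' = 1 - B := by
    have := hsum r hr
    rw [s p hp r hr, s q hq r hr] at this
    linear_combination ε r * this - m r r * er - upr - uqr - urr
  have ur'r' : m r' r' = 1 + B := by
    have := hsum r' hr'
    rw [s p hp r' hr', s q hq r' hr', s r hr r' hr'] at this
    linear_combination ε r' * this - m r' r' * er' - upr' - uqr' - urr'
  have hodd : ∀ x ∈ Bb, ∀ y ∈ Bb, blockHeight 2 Bb (x : X → ℂ) = 0 →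
      blockHeight 2 Bb (y : X → ℂ) = 0 → Odd (m x y) := fun x hx y hy hx0 hy0 => by
    have := hm.not_dvd x hx y hy hx0
    rw [hy0, zero_add, pow_one] at this
    rw [Int.odd_iff]; omega
  have p0 := (h0 p hp).2 (Or.inl rfl)
  have q0 := (h0 q hq).2 (Or.inr (Or.inl rfl))
  have r0 := (h0 r hr).2 (Or.inr (Or.inr (Or.inl rfl)))
  -- the block as four members and the rest
  obtain ⟨R, hRdef⟩ : ∃ R, R = Bb.toFinset \ {p, q, r, r'} := ⟨_, rfl⟩
  have hsub : ({p, q, r, r'} : Finset (IrrCharacter X)) ⊆ Bb.toFinset := by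
    intro x hx
    simp only [Finset.mem_insert, Finset.mem_singleton] at hx
    rcases hx with rfl | rfl | rfl | rfl <;> simpa
  have hsplit : ∀ f : IrrCharacter X → ℤ,
      ∑ x ∈ Bb.toFinset, f x = (f p + f q + f r + f r') + ∑ x ∈ R, f x := fun f => by
    rw [hRdef, ← Finset.sum_sdiff hsub, Finset.sum_insert (by simp [npq, npr, npr']),
      Finset.sum_insert (by simp [nqr, nqr']), Finset.sum_pair nrr']
    ring
  have hRcard : (R.card : ℤ) = (h / 2 : ℕ) - 1 := by
    have h4 : ({p, q, r, r'} : Finset (IrrCharacter X)).card = 4 := by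
      rw [Finset.card_insert_of_notMem (by simp [npq, npr, npr']),
        Finset.card_insert_of_notMem (by simp [nqr, nqr']), Finset.card_pair nrr']
    have := Finset.card_sdiff_add_card_eq_card hsub
    rw [← hRdef, h4, ← Nat.card_eq_card_toFinset, hcard] at this
    omega
  have hRmem : ∀ x ∈ R, x ∈ Bb ∧ ¬ (x = p ∨ x = q ∨ x = r ∨ x = r') := fun x hx => by
    rw [hRdef, Finset.mem_sdiff, Set.mem_toFinset] at hx
    exact ⟨hx.1, by simpa using hx.2⟩
  have hR2 : (2 * ((h / 2 : ℕ) : ℤ)) = h := by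
    obtain ⟨t, rfl⟩ := hh
    rw [show (t + t) / 2 = t by omega]; push_cast; ring
  have hd' : ((2 : ℕ) : ℤ) ^ blockDefect 2 Bb = 2 * (h : ℤ) := by exact_mod_cast hd
  have hrest : ∀ (f : IrrCharacter X → ℤ) (v : ℤ), (∀ x ∈ R, f x = v) →
      ∑ x ∈ R, f x = ((h / 2 : ℕ) - 1) * v := fun f v hv => by
    rw [Finset.sum_congr rfl hv, Finset.sum_const, nsmul_eq_mul, hRcard]
  -- the idempotent relation
  have hmul : ∀ x ∈ Bb, ∀ y ∈ Bb, ∑ w ∈ Bb.toFinset, m x w * m w y = 2 * h * m x y := by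
    intro x hx y hy
    apply Int.cast_injective (α := ℂ)
    have e1 := sum_regInner_mul hM (p := 2) (vInt_indVec hM hB) (η := y) hx
    have e2 := hm.eq x hx y hy
    rw [regN] at e2
    have hd2 : ((2 ^ blockDefect 2 Bb : ℕ) : ℂ) = 2 * (h : ℂ) := by exact_mod_cast hd
    push_cast
    rw [← e2, hd2, ← e1, Finset.mul_sum, Finset.mul_sum]
    refine Finset.sum_congr rfl fun w hw => ?_
    rw [← hm.eq x hx w (Set.mem_toFinset.1 hw), ← hm.eq w (Set.mem_toFinset.1 hw) y hy, regN, regN,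
      hd2]
    ring
  refine ⟨A, B, C, (ε p : ℂ) • pRegularPart 2 (p : X → ℂ), (ε q : ℂ) • pRegularPart 2 (q : X → ℂ),
    (ε r : ℂ) • pRegularPart 2 (r : X → ℂ), ?_⟩
  refine ⟨?_, ?_, ?_, ?_, ?_, ?_, fun x hx => ?_, ⟨p, hp, ε p, hε p (by simp), p0, rfl⟩,
    ⟨q, hq, ε q, hε q (by simp), q0, rfl⟩, ⟨r, hr, ε r, hε r (by simp), r0, rfl⟩,
    ?_, ?_, ?_, ?_, ?_, ?_, hcard, ?_, ?_⟩
  · have := hodd p hp p hp p0 p0; rw [Int.odd_iff] at this; rw [Int.even_iff]; omega
  · have := hodd r hr r hr r0 r0; rw [Int.odd_iff] at this; rw [Int.even_iff]; omega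
  · have := hodd p hp r hr p0 r0
    rw [Int.odd_iff] at this; rw [Int.even_iff]
    rcases hε p (by simp) with a | a <;> rcases hε r (by simp) with b | b <;> rw [a, b] at upr <;> omega
  · -- first relation
    have e := hmul p hp p hp
    rw [hsplit, hrest (fun w => m p w * m w p) 4 fun x hx => by
      obtain ⟨δ, hδ, hw⟩ := hYm x (hRmem x hx).1 (hRmem x hx).2
      rw [s p hp x (hRmem x hx).1, hw p hp]
      have : ε p * m p p + ε q * m p q = 2 * ε p := by
        linear_combination ε p * hP - (ε p * m p p + ε q * m p q) * ep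
      rw [this]; linear_combination 4 * ε p * ε p * hδ + 4 * ep,
      s p hp q hq, s p hp r hr, s p hp r' hr'] at e
    have u1 : m p q * m p q = (1 - A) * (1 - A) := by
      rw [← upq]; linear_combination -(m p q * m p q * ep * (ε q * ε q) + m p q * m p q * eq')
    have u2 : m p r * m p r = (C - 1) * (C - 1) := by
      rw [← upr]; linear_combination -(m p r * m p r * ep * (ε r * ε r) + m p r * m p r * er)
    have u3 : m p r' * m p r' = (-C - 1) * (-C - 1) := by
      rw [← upr']; linear_combination -(m p r' * m p r' * ep * (ε r' * ε r') + m p r' * m p r' * er')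
    rw [u1, u2, u3, upp] at e
    linarith
  · have e := hmul r hr r hr
    rw [hsplit, hrest (fun w => m r w * m w r) 4 fun x hx => by
      obtain ⟨δ, hδ, hw⟩ := hYm x (hRmem x hx).1 (hRmem x hx).2
      rw [s r hr x (hRmem x hx).1, hw r hr]
      have : ε p * m r p + ε q * m r q = -2 * ε r := by
        linear_combination ε r * hR - (ε p * m r p + ε q * m r q) * er
      rw [this]; linear_combination 4 * ε r * ε r * hδ + 4 * er,
      s p hp r hr, s q hq r hr, s r hr r' hr'] at e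
    have u1 : m p r * m p r = (C - 1) * (C - 1) := by
      rw [← upr]; linear_combination -(m p r * m p r * ep * (ε r * ε r) + m p r * m p r * er)
    have u2 : m q r * m q r = (-C - 1) * (-C - 1) := by
      rw [← uqr]; linear_combination -(m q r * m q r * eq' * (ε r * ε r) + m q r * m q r * er)
    have u3 : m r r' * m r r' = (1 - B) * (1 - B) := by
      rw [← urr']; linear_combination -(m r r' * m r r' * er * (ε r' * ε r') + m r r' * m r r' * er')
    rw [u1, u2, u3, urr] at e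
    linarith
  · -- the cross relation, with signs
    have e := congrArg (fun v => ε p * ε r * v) (hmul p hp r hr)
    rw [hsplit, mul_add, Finset.mul_sum, hrest (fun w => ε p * ε r * (m p w * m w r)) (-4) fun x hx => by
      obtain ⟨δ, hδ, hw⟩ := hYm x (hRmem x hx).1 (hRmem x hx).2
      rw [s r hr x (hRmem x hx).1, hw p hp, hw r hr]
      linear_combination δ * δ * (ε r * (ε p * m r p + ε q * m r q)) * hP + 2 * δ * δ * hR - 4 * hδ]
      at e
    rw [s r hr r' hr', mul_add, mul_add, mul_add] at e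
    have t1 : ε p * ε r * (m p p * m p r) = (1 + A) * (C - 1) := by
      rw [← upr, ← upp]; ring
    have t2 : ε p * ε r * (m p q * m q r) = (1 - A) * (-C - 1) := by
      rw [← upq, ← uqr]; linear_combination -(ε p * ε r * (m p q * m q r)) * eq'
    have t3 : ε p * ε r * (m p r * m r r) = (C - 1) * (1 + B) := by
      rw [← upr, ← urr]; ring
    have t4 : ε p * ε r * (m p r' * m r r') = (-C - 1) * (1 - B) := by
      rw [← upr', ← urr']; linear_combination -(ε p * ε r * (m p r' * m r r')) * er'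
    have t5 : ε p * ε r * (2 * ↑h * m p r) = 2 * h * (C - 1) := by rw [← upr]; ring
    rw [t1, t2, t3, t4, t5] at e
    linarith
  · -- the span
    by_cases hx' : x = p ∨ x = q ∨ x = r ∨ x = r'
    · have ecast : ∀ {v : ℤ}, v * v = 1 → (v : ℂ) * v = 1 := fun hv => by exact_mod_cast hv
      rcases hx' with rfl | rfl | rfl | rfl
      · exact ⟨ε x, 0, 0, by rw [smul_smul, ecast ep]; simp⟩
      · exact ⟨0, ε x, 0, by rw [smul_smul, smul_smul, ecast eq']; simp⟩
      · exact ⟨0, 0, ε x, by rw [smul_smul, smul_smul, smul_smul, ecast er]; simp⟩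
      · refine ⟨-ε x, -ε x, -ε x, ?_⟩
        have e : (ε x : ℂ) • pRegularPart 2 (x : X → ℂ) =
            -((ε p : ℂ) • pRegularPart 2 (p : X → ℂ) + (ε q : ℂ) • pRegularPart 2 (q : X → ℂ) +
              (ε r : ℂ) • pRegularPart 2 (r : X → ℂ)) :=
          eq_neg_of_add_eq_zero_right hrel
        have e' := congrArg ((ε x : ℂ) • ·) e
        rw [smul_smul (ε x : ℂ), ecast er', one_smul] at e'
        rw [e']
        push_cast
        simp only [smul_neg, smul_add, neg_smul]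
        abel
    · obtain ⟨δ, -, e⟩ := hY x hx hx'
      exact ⟨δ, δ, 0, by rw [e, smul_add]; simp⟩
  · rw [regP_smul, ← hlin p hp p hp, ← upp]; push_cast; exact_mod_cast by rw [ep, one_mul]
  · rw [regP_smul, ← hlin p hp q hq, ← upq]; push_cast; ring
  · rw [regP_smul, ← hlin q hq q hq, ← uqq]; push_cast; exact_mod_cast by rw [eq', one_mul]
  · rw [regP_smul, ← hlin p hp r hr, ← upr]; push_cast; ring
  · rw [regP_smul, ← hlin q hq r hr, ← uqr]; push_cast; ring
  · rw [regP_smul, ← hlin r hr r hr, ← urr]; push_cast; exact_mod_cast by rw [er, one_mul]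
  · rw [Nat.card_congr (Equiv.subtypeEquivRight (q := fun x => x ∈ ({p, q, r, r'} : Finset (IrrCharacter X)))
      fun x => ⟨fun hx => by simpa using (h0 x hx.1).1 hx.2, fun hx => by
        have hxB : x ∈ Bb := Set.mem_toFinset.1 (hsub hx)
        exact ⟨hxB, (h0 x hxB).2 (by simpa using hx)⟩⟩), Nat.card_eq_finsetCard]
    rw [Finset.card_insert_of_notMem (by simp [npq, npr, npr']),
      Finset.card_insert_of_notMem (by simp [nqr, nqr']), Finset.card_pair nrr']
  · -- the rank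
    have e : ∑ x ∈ Bb.toFinset, m x x = 2 * h * (blockRank 2 Bb : ℤ) := by
      apply Int.cast_injective (α := ℂ)
      have hd2 : ((2 ^ blockDefect 2 Bb : ℕ) : ℂ) = 2 * (h : ℂ) := by exact_mod_cast hd
      push_cast
      rw [blockRank_eq_sum_regInner hM (p := 2) (vInt_indVec hM hB), Finset.mul_sum, ← hd2]
      exact Finset.sum_congr rfl fun x hx => by
        rw [← hm.eq x (Set.mem_toFinset.1 hx) x (Set.mem_toFinset.1 hx), regN]
    rw [hsplit, hrest (fun w => m w w) 4 fun x hx => by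
      obtain ⟨δ, hδ, hw⟩ := hYm x (hRmem x hx).1 (hRmem x hx).2
      rw [hw x (hRmem x hx).1, s p hp x (hRmem x hx).1, s q hq x (hRmem x hx).1, hw p hp, hw q hq]
      rw [s p hp q hq]
      linear_combination δ * δ * (m p p * ep + m q q * eq' + upp + uqq + 2 * upq) + 4 * hδ,
      upp, uqq, urr, ur'r'] at e
    linarith

include hM in
open Classical in
/-- A block with Klein four defect group. -/
theorem fourShape_klein (hB : IsPBlock M Bb) {D : Subgroup X} (hD : IsDefectGroup 2 M Bb D)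
    (hV : IsKleinFour D) : ∃ A B C : ℤ, ∃ gp gq gr : X → ℂ, FourShape Bb 2 A B C gp gq gr := by
  have := hV
  have hab : ∀ x ∈ D, ∀ y ∈ D, x * y = y * x := fun x hx y hy =>
    congrArg Subtype.val (mul_comm_of_exponent_two (IsKleinFour.exponent_two (G := D)) ⟨x, hx⟩ ⟨y, hy⟩)
  have hd : 2 ^ blockDefect 2 Bb = 2 * 2 := by
    rw [← card_defectGroup hM hB hD, IsKleinFour.card_four]
  obtain ⟨c, hc⟩ := (exists_pair_iff hM hB hD (isPGroup_defectGroup hM hD)).2
    ⟨1, (map_conj_one _).le⟩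
  have hmax := maximal_of_defectGroup hM hc hD
  let T : Subgroup X := Subgroup.normalizer (D : Set X) ⊓ invStab (indVec c)
  have hT : ∀ g : X, g ∈ T ↔ g ∈ Subgroup.normalizer (D : Set X) ∧
      StabilizesBlock C[D] c g := fun g => by
    refine and_congr_right fun hg => ?_
    rw [stabilizesBlock_iff_coeff (mem_normalizer_centralizer hg), ← extF_indVec]
    rfl
  obtain ⟨-, hcard, -⟩ := klein_block_invariants hM hB hD hV
    (isInducedBlock_of_isBrauerPairOf hM (le_centralizer_of_abelian hab le_rfl) hc) hT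
  obtain ⟨m, hm⟩ := exists_regForm hM hB
  obtain ⟨φ, hφ, hmin⟩ := exists_minVal (p := 2) (nonempty_of_isPBlock hM hB)
  have hφ0 := (blockHeight_eq_zero_iff hφ).2 hmin
  rw [Nat.card_eq_card_toFinset] at hcard
  have hnz : ∀ x ∈ Bb, m φ x ≠ 0 := fun x hx h0 =>
    hm.not_dvd φ hφ x hx hφ0 (h0 ▸ dvd_zero _)
  -- every member has height zero
  have hall : ∀ x ∈ Bb, blockHeight 2 Bb (x : X → ℂ) = 0 := by
    intro x hx
    by_contra hx0
    have hxφ : x ≠ φ := fun he => hx0 (he ▸ hφ0)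
    have h1 := hm.row_sq hM hB hφ
    rw [show ((2 : ℕ) : ℤ) ^ blockDefect 2 Bb = 4 by exact_mod_cast hd,
      ← Finset.add_sum_erase _ _ (Set.mem_toFinset.2 hφ)] at h1
    have hxm : x ∈ Bb.toFinset.erase φ := Finset.mem_erase.2 ⟨hxφ, Set.mem_toFinset.2 hx⟩
    rw [← Finset.add_sum_erase _ _ hxm] at h1
    have h4 : 4 ≤ m φ x ^ 2 := by
      have h2 : (2 : ℤ) ∣ m φ x := (dvd_pow_self (2 : ℤ) hx0).trans (hm.dvd φ hφ x hx)
      obtain ⟨k, hk⟩ := h2
      have : k ≠ 0 := fun h0 => hnz x hx (by rw [hk, h0, mul_zero])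
      have : 1 ≤ k * k := by rcases lt_or_gt_of_ne this with a | a <;> nlinarith
      rw [hk]; nlinarith
    have hrest : (2 : ℤ) ≤ ∑ w ∈ (Bb.toFinset.erase φ).erase x, m φ w ^ 2 := by
      have hc2 : ((Bb.toFinset.erase φ).erase x).card = 2 := by
        rw [Finset.card_erase_of_mem hxm, Finset.card_erase_of_mem (Set.mem_toFinset.2 hφ), hcard]
      calc (2 : ℤ) = ∑ w ∈ (Bb.toFinset.erase φ).erase x, (1 : ℤ) := by simp [hc2]
        _ ≤ _ := Finset.sum_le_sum fun w hw => by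
          have hwB := Set.mem_toFinset.1 (Finset.mem_of_mem_erase (Finset.mem_of_mem_erase hw))
          have := mul_self_pos.2 (hnz w hwB)
          rw [sq]; omega
    nlinarith [sq_nonneg (m φ φ - 2)]
  obtain ⟨a, b, c', d, hab', hac, had, hbc, hbd, hcd, hset⟩ := Finset.card_eq_four.1 hcard
  have hmem : ∀ x, x ∈ Bb ↔ x = a ∨ x = b ∨ x = c' ∨ x = d := fun x => by
    rw [← Set.mem_toFinset, hset]; simp
  have haB := (hmem a).2 (Or.inl rfl)
  have hbB := (hmem b).2 (Or.inr (Or.inl rfl))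
  have hcB := (hmem c').2 (Or.inr (Or.inr (Or.inl rfl)))
  have hdB := (hmem d).2 (Or.inr (Or.inr (Or.inr rfl)))
  have four : ∀ f : IrrCharacter X → ℤ, ∑ x ∈ Bb.toFinset, f x = f a + f b + f c' + f d := fun f => by
    rw [hset, Finset.sum_insert (by simp [hab', hac, had]), Finset.sum_insert (by simp [hbc, hbd]),
      Finset.sum_pair hcd]
    ring
  have hsq : ∀ x ∈ Bb, ∀ y ∈ Bb, ∑ w ∈ Bb.toFinset, m x w * m w y = 4 * m x y := by
    intro x hx y hy
    apply Int.cast_injective (α := ℂ)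
    have e1 := sum_regInner_mul hM (p := 2) (vInt_indVec hM hB) (η := y) hx
    have e2 := hm.eq x hx y hy
    rw [regN] at e2
    have hd2 : ((2 ^ blockDefect 2 Bb : ℕ) : ℂ) = 4 := by exact_mod_cast hd
    push_cast
    rw [← e2, hd2, ← e1, Finset.mul_sum, Finset.mul_sum]
    refine Finset.sum_congr rfl fun w hw => ?_
    rw [← hm.eq x hx w (Set.mem_toFinset.1 hw), ← hm.eq w (Set.mem_toFinset.1 hw) y hy, regN, regN,
      hd2]
    ring
  have s : ∀ x ∈ Bb, ∀ y ∈ Bb, m y x = m x y := hm.symm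
  have hodd : ∀ x ∈ Bb, ∀ y ∈ Bb, Odd (m x y) := fun x hx y hy => by
    have := hm.not_dvd x hx y hy (hall x hx)
    rw [hall y hy, zero_add, pow_one] at this
    rw [Int.odd_iff]; omega
  -- the entries
  have hent : ∀ x ∈ Bb, (m x x = 1 ∨ m x x = 3) ∧ ∀ y ∈ Bb, y ≠ x → m x y = 1 ∨ m x y = -1 := by
    intro x hx
    have h1 := hsq x hx x hx
    rw [Finset.sum_congr rfl fun w hw => by rw [s x hx w (Set.mem_toFinset.1 hw)],
      ← Finset.add_sum_erase _ _ (Set.mem_toFinset.2 hx)] at h1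
    have hge : ∀ w ∈ Bb.toFinset.erase x, 1 ≤ m x w * m x w := fun w hw => by
      have ho := hodd x hx w (Set.mem_toFinset.1 (Finset.mem_of_mem_erase hw))
      have := mul_self_pos.2 (fun h0 : m x w = 0 => by rw [h0] at ho; simp at ho)
      omega
    have hc3 : ((Bb.toFinset.erase x).card : ℤ) = 3 := by
      rw [Finset.card_erase_of_mem (Set.mem_toFinset.2 hx), hcard]; norm_num
    have hle : (3 : ℤ) ≤ ∑ w ∈ Bb.toFinset.erase x, m x w * m x w := by
      rw [← hc3, Finset.card_eq_sum_ones]; push_cast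
      exact Finset.sum_le_sum hge
    have hxx : m x x = 1 ∨ m x x = 3 := by
      have h2 : 1 ≤ m x x ∧ m x x ≤ 3 := ⟨by nlinarith, by nlinarith⟩
      have := hodd x hx x hx
      rw [Int.odd_iff] at this
      omega
    refine ⟨hxx, fun y hy hyx => ?_⟩
    have hsum3 : ∑ w ∈ Bb.toFinset.erase x, m x w * m x w = 3 := by
      rcases hxx with e | e <;> rw [e] at h1 <;> omega
    have := (Finset.sum_eq_sum_iff_of_le hge).1 (by
      rw [hsum3, ← hc3, Finset.card_eq_sum_ones]; push_cast; rfl) y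
      (Finset.mem_erase.2 ⟨hyx, Set.mem_toFinset.2 hy⟩)
    exact mul_self_eq_one_iff.1 this.symm
  -- two equal diagonal entries can be put first
  obtain ⟨p, q, r, r', hpB, hqB, hrB, hr'B, hne, hall4, hpq⟩ : ∃ p q r r' : IrrCharacter X,
      p ∈ Bb ∧ q ∈ Bb ∧ r ∈ Bb ∧ r' ∈ Bb ∧
      (p ≠ q ∧ p ≠ r ∧ p ≠ r' ∧ q ≠ r ∧ q ≠ r' ∧ r ≠ r') ∧
      (∀ x ∈ Bb, x = p ∨ x = q ∨ x = r ∨ x = r') ∧ m p p = m q q := by
    by_cases h1 : m a a = m b b
    · exact ⟨a, b, c', d, haB, hbB, hcB, hdB, ⟨hab', hac, had, hbc, hbd, hcd⟩,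
        fun x hx => (hmem x).1 hx, h1⟩
    · by_cases h2 : m a a = m c' c'
      · exact ⟨a, c', b, d, haB, hcB, hbB, hdB, ⟨hac, hab', had, hbc.symm, hcd, hbd⟩,
          fun x hx => by rcases (hmem x).1 hx with e | e | e | e <;> simp [e], h2⟩
      · refine ⟨b, c', a, d, hbB, hcB, haB, hdB, ⟨hbc, hab'.symm, hbd, hac.symm, hcd, had⟩,
          fun x hx => by rcases (hmem x).1 hx with e | e | e | e <;> simp [e], ?_⟩
        rcases (hent a haB).1 with e | e <;> rcases (hent b hbB).1 with e' | e' <;>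
          rcases (hent c' hcB).1 with e'' | e'' <;> omega
  obtain ⟨npq, npr, npr', nqr, nqr', nrr'⟩ := hne
  have four' : ∀ f : IrrCharacter X → ℤ, ∑ x ∈ Bb.toFinset, f x = f p + f q + f r + f r' := fun f => by
    have he : Bb.toFinset = {p, q, r, r'} := by
      ext x
      simp only [Set.mem_toFinset, Finset.mem_insert, Finset.mem_singleton]
      refine ⟨hall4 x, ?_⟩
      rintro (rfl | rfl | rfl | rfl) <;> assumption
    rw [he, Finset.sum_insert (by simp [npq, npr, npr']), Finset.sum_insert (by simp [nqr, nqr']),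
      Finset.sum_pair nrr']
    ring
  have sg : ∀ x ∈ Bb, ∀ y ∈ Bb, y ≠ x → m x y * m x y = 1 := fun x hx y hy hyx => by
    rcases (hent x hx).2 y hy hyx with e | e <;> rw [e] <;> norm_num
  -- the signs
  have rel : ∀ x ∈ Bb, ∀ y ∈ Bb, m x p * m p y + m x q * m q y + m x r * m r y + m x r' * m r' y =
      4 * m x y := fun x hx y hy => by rw [← hsq x hx y hy, four' (fun w => m x w * m w y)]
  have sgn : ∀ v : ℤ, v * v = 1 → v = 1 ∨ v = -1 := fun v hv => mul_self_eq_one_iff.1 hv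
  obtain ⟨P, hP⟩ : ∃ P, P = m p p := ⟨_, rfl⟩
  obtain ⟨x₀, hx₀⟩ : ∃ v, v = m p q := ⟨_, rfl⟩
  obtain ⟨y₀, hy₀⟩ : ∃ v, v = m p r := ⟨_, rfl⟩
  obtain ⟨z₀, hz₀⟩ : ∃ v, v = m p r' := ⟨_, rfl⟩
  obtain ⟨u₀, hu₀⟩ : ∃ v, v = m q r := ⟨_, rfl⟩
  obtain ⟨v₀, hv₀⟩ : ∃ v, v = m q r' := ⟨_, rfl⟩
  obtain ⟨w₀, hw₀⟩ : ∃ v, v = m r r' := ⟨_, rfl⟩
  have hx1 : x₀ * x₀ = 1 := hx₀ ▸ sg p hpB q hqB npq.symm
  have hy1 : y₀ * y₀ = 1 := hy₀ ▸ sg p hpB r hrB npr.symm
  have hz1 : z₀ * z₀ = 1 := hz₀ ▸ sg p hpB r' hr'B npr'.symm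
  have hu1 : u₀ * u₀ = 1 := hu₀ ▸ sg q hqB r hrB nqr.symm
  have hv1 : v₀ * v₀ = 1 := hv₀ ▸ sg q hqB r' hr'B nqr'.symm
  have hw1 : w₀ * w₀ = 1 := hw₀ ▸ sg r hrB r' hr'B nrr'.symm
  have k1 : 2 * P * x₀ + y₀ * u₀ + z₀ * v₀ = 4 * x₀ := by
    have := rel p hpB q hqB
    rw [s q hqB r hrB, s q hqB r' hr'B, ← hpq, ← hP, ← hx₀, ← hy₀, ← hz₀, ← hu₀, ← hv₀] at this
    linarith
  have k2 : y₀ * z₀ + u₀ * v₀ + (m r r + m r' r') * w₀ = 4 * w₀ := by
    have := rel r hrB r' hr'B
    rw [s p hpB r hrB, s q hqB r hrB, ← hy₀, ← hz₀, ← hu₀, ← hv₀, ← hw₀] at this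
    linarith
  -- the two products around `p` and `q`
  obtain ⟨e₀, he₀⟩ : ∃ e₀ : ℤ, e₀ = y₀ * u₀ := ⟨_, rfl⟩
  have he₀sq : e₀ * e₀ = 1 := by rw [he₀]; linear_combination (u₀ * u₀) * hy1 + hu1
  have hPv : P = 1 ∨ P = 3 := hP ▸ (hent p hpB).1
  have hT : z₀ * v₀ = e₀ ∧ e₀ * x₀ = 2 - P := by
    have hb1 : (z₀ * v₀) * (z₀ * v₀) = 1 := by linear_combination (v₀ * v₀) * hz1 + hv1
    rw [← he₀] at k1
    rcases hPv with rfl | rfl <;> rcases sgn _ he₀sq with a | a <;> rcases sgn _ hb1 with b | b <;>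
      rcases sgn _ hx1 with f | f <;> rw [a, b, f] at k1 <;> rw [a, b, f] <;> omega
  obtain ⟨hT1, hT2⟩ := hT
  have e0u : e₀ * u₀ = y₀ := by rw [he₀]; linear_combination y₀ * hu1
  have e0v : e₀ * v₀ = z₀ := by rw [← hT1]; linear_combination z₀ * hv1
  have huv : u₀ * v₀ = y₀ * z₀ := by
    rw [← e0u, ← e0v]; linear_combination -(u₀ * v₀) * he₀sq
  have hR : m r r = m r' r' ∧ m r r - 2 = -(y₀ * z₀ * w₀) := by
    have h1 : m r r + m r' r' - 4 = -2 * (y₀ * z₀ * w₀) := by
      linear_combination w₀ * k2 - w₀ * huv - (m r r + m r' r' - 4) * hw1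
    have h2 : (y₀ * z₀ * w₀) * (y₀ * z₀ * w₀) = 1 := by
      linear_combination (z₀ * z₀ * w₀ * w₀) * hy1 + (w₀ * w₀) * hz1 + hw1
    have := sgn _ h2
    have := (hent r hrB).1
    have := (hent r' hr'B).1
    omega
  refine fourShape_assemble hM hB hm hd even_two hpB hqB hrB hr'B
    ⟨npq, npr, npr', nqr, nqr', nrr'⟩
    (fun x => if x = p then 1 else if x = q then e₀ else -m p x)
    (fun x hx => ?_) (fun x hx => iff_of_true (hall x hx) (hall4 x hx)) ?_
    (fun x hx hn => absurd (hall4 x hx) hn)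
    (by rw [Nat.card_eq_card_toFinset, hcard]) ?_ ?_ ?_
  · simp only [Finset.mem_insert, Finset.mem_singleton] at hx
    apply sgn
    rcases hx with rfl | rfl | rfl | rfl
    · simp
    · simp [npq.symm, he₀sq]
    · simp [npr.symm, nqr.symm, sg p hpB x hrB npr.symm]
    · simp [npr'.symm, nqr'.symm, sg p hpB x hr'B npr'.symm]
  · simp only [if_true, if_neg npq.symm, if_neg npr.symm, if_neg nqr.symm, if_neg npr'.symm,
      if_neg nqr'.symm, ← hy₀, ← hz₀]
    -- the combination pairs to zero with every member, hence vanishes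
    have hz : ∀ x ∈ Bb, m p x + e₀ * m q x + -y₀ * m r x + -z₀ * m r' x = 0 := by
      intro x hx
      rcases hall4 x hx with e | e | e | e <;> rw [e]
      · rw [s p hpB q hqB, s p hpB r hrB, s p hpB r' hr'B, ← hP, ← hx₀, ← hy₀, ← hz₀]
        linear_combination hT2 - hy1 - hz1
      · rw [s q hqB r hrB, s q hqB r' hr'B, ← hpq, ← hP, ← hx₀, ← hu₀, ← hv₀]
        linear_combination e₀ * hT2 - x₀ * he₀sq - hT1 + he₀
      · rw [s r hrB r' hr'B, ← hy₀, ← hu₀, ← hw₀, e0u]
        linear_combination -y₀ * hR.2 + z₀ * w₀ * hy1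
      · rw [← hz₀, ← hv₀, ← hw₀, e0v]
        linear_combination z₀ * hR.1 - z₀ * hR.2 + y₀ * w₀ * hz1
    push_cast
    rw [regPart_expand hM (vInt_indVec hM hB) hpB, regPart_expand hM (vInt_indVec hM hB) hqB,
      regPart_expand hM (vInt_indVec hM hB) hrB, regPart_expand hM (vInt_indVec hM hB) hr'B,
      one_smul, Finset.smul_sum, Finset.smul_sum, Finset.smul_sum, ← Finset.sum_add_distrib,
      ← Finset.sum_add_distrib, ← Finset.sum_add_distrib]
    refine Finset.sum_eq_zero fun w hw => ?_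
    have hwB := Set.mem_toFinset.1 hw
    rw [smul_smul, smul_smul, smul_smul, ← add_smul, ← add_smul, ← add_smul]
    have hd2 : ((2 ^ blockDefect 2 Bb : ℕ) : ℂ) = 4 := by exact_mod_cast hd
    have hval : ∀ v ∈ Bb, regInner 2 (v : X → ℂ) (w : X → ℂ) = (m v w : ℂ) / 4 := fun v hv => by
      rw [← hm.eq v hv w hwB, regN, hd2]; ring
    rw [hval p hpB, hval q hqB, hval r hrB, hval r' hr'B]
    have h1 := congrArg (fun v : ℤ => (v : ℂ)) (hz w hwB)
    push_cast at h1
    convert zero_smul ℂ (w : X → ℂ) using 2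
    linear_combination h1 / 4
  · simp only [if_true, if_neg npq.symm, ← hP, ← hx₀]
    linear_combination hT2
  · simp only [if_true, if_neg npq.symm]
    rw [s p hpB q hqB, ← hpq, ← hP, ← hx₀]
    linear_combination hT2 + P * he₀sq
  · simp only [if_true, if_neg npq.symm, if_neg npr.symm, if_neg nqr.symm]
    rw [s p hpB r hrB, s q hqB r hrB, ← hy₀, ← hu₀]
    linear_combination -y₀ * e0u - 2 * hy1

include hM in
open Classical in
/-- A block with dihedral defect group. -/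
theorem fourShape_dihedral (hB : IsPBlock M Bb) {D : Subgroup X} (hD : IsDefectGroup 2 M Bb D)
    {m₀ : ℕ} (e : D ≃* DihedralGroup (2 * 2 ^ (m₀ + 1))) :
    ∃ A B C : ℤ, ∃ gp gq gr : X → ℂ, FourShape Bb (2 * 2 ^ (m₀ + 1)) A B C gp gq gr := by
  obtain ⟨h, hh⟩ : ∃ h, h = 2 ^ (m₀ + 1) := ⟨_, rfl⟩
  rw [← hh] at e ⊢
  have h2 : 2 ≤ h := hh ▸ le_self_pow₀ (by norm_num) (by omega)
  have heven : Even h := hh ▸ Nat.even_pow.2 ⟨even_two, by omega⟩
  have hk : 4 * h = 2 ^ (m₀ + 3) := by rw [hh]; ring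
  have hsmall : h = 2 ∨ h = 4 ∨ 8 ≤ h := by
    rw [hh]
    rcases m₀ with _ | _ | m₀
    · exact Or.inl rfl
    · exact Or.inr (Or.inl rfl)
    · exact Or.inr (Or.inr (le_trans (by norm_num : 8 ≤ 2 ^ 3)
        (Nat.pow_le_pow_right (by norm_num) (by omega))))
  have hd : 2 ^ blockDefect 2 Bb = 2 * (2 * h) := by
    rw [← card_defectGroup hM hB hD, Nat.card_congr e.toEquiv, DihedralGroup.nat_card]
  obtain ⟨K, f, P, c, e', χ₀, μ, bl, S, -⟩ := exists_dihData hM hB hD h2 heven hk e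
  obtain ⟨ζ, hζ⟩ : ∃ ζ : ℂ, IsPrimitiveRoot ζ (2 * h) :=
    ⟨_, Complex.isPrimitiveRoot_exp (2 * h) (by omega)⟩
  obtain ⟨w, hval, hinv, hgram, hsym, hmid, hrel⟩ := S.exists_weights hζ
  obtain ⟨hcardB, S₀, hSB, hS4, hone, htwo, -⟩ : RegularShape.{u, u} Bb.toFinset h w :=
    (block_weight_shape Bb.toFinset h2 heven hsmall w
    hgram (fun x hx => (hmid x hx).2)).resolve_right
      fun hE => S.not_exceptional hζ e' rfl rfl hval hinv hsym hmid hrel hE
  have hpar : ∀ x, (Odd (midValue h w x) ↔ Odd (w h x)) := fun x => by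
    rw [midValue, Int.odd_add]
    simp only [even_two_mul, iff_true]
  -- the last row
  have hodd : ∀ x ∈ S₀, Odd (w h x) := fun x hx => (hpar x).1 (by
    rcases hone x hx with a | a <;> rw [a] <;> decide)
  have hHH : ∑ x ∈ Bb.toFinset, w h x * w h x = 4 := by
    rw [hgram h h (by omega) le_rfl (by omega) le_rfl, if_pos rfl, if_pos (two_mul h).symm]
    norm_num
  have hge : ∀ x ∈ S₀, 1 ≤ w h x * w h x := fun x hx => by
    have := mul_self_pos.2 (fun h0 : w h x = 0 => by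
      have := hodd x hx; rw [h0] at this; simp at this)
    omega
  have hfour : (4 : ℤ) ≤ ∑ x ∈ S₀, w h x * w h x := by
    calc (4 : ℤ) = ∑ x ∈ S₀, (1 : ℤ) := by simp [hS4]
      _ ≤ _ := Finset.sum_le_sum hge
  rw [← Finset.sum_sdiff hSB] at hHH
  have hout : ∀ x ∈ Bb.toFinset, x ∉ S₀ → w h x = 0 := fun x hx hxS => by
    have h0 : ∑ y ∈ Bb.toFinset \ S₀, w h y * w h y = 0 :=
      le_antisymm (by linarith) (Finset.sum_nonneg fun y _ => mul_self_nonneg _)
    exact mul_self_eq_zero.1 ((Finset.sum_eq_zero_iff_of_nonneg fun y _ =>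
      mul_self_nonneg (w h y)).1 h0 x (Finset.mem_sdiff.2 ⟨hx, hxS⟩))
  have hsg : ∀ x ∈ S₀, w h x * w h x = 1 := fun x hx => by
    have e0 : ∑ y ∈ Bb.toFinset \ S₀, w h y * w h y = 0 := Finset.sum_eq_zero fun y hy => by
      obtain ⟨a, b⟩ := Finset.mem_sdiff.1 hy
      rw [hout y a b, zero_mul]
    exact ((Finset.sum_eq_sum_iff_of_le hge).1 (by
      rw [show ∑ y ∈ S₀, w h y * w h y = 4 by linarith]; simp [hS4]) x hx).symm
  -- the other rows
  have hrow : ∀ j, 0 < j → j < h → ∃ p q Y, p ∈ S₀ ∧ q ∈ S₀ ∧ Y ∈ Bb.toFinset ∧ Y ∉ S₀ ∧ p ≠ q ∧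
      w j p = w h p ∧ w j q = w h q ∧ (w j Y = 1 ∨ w j Y = -1) ∧
      ∀ x ∈ Bb.toFinset, w j x ≠ 0 → x = p ∨ x = q ∨ x = Y := by
    intro j hj0 hj
    have e1 : ∑ x ∈ Bb.toFinset, w j x * w j x = 3 := by
      rw [hgram j j hj0 hj.le hj0 hj.le, if_pos rfl, if_neg (by omega)]
      norm_num
    have e2 : ∑ x ∈ Bb.toFinset, w j x * w h x = 2 := by
      rw [hgram j h hj0 hj.le (by omega) le_rfl, if_neg (by omega), if_neg (by omega)]
      norm_num
    obtain ⟨hc, hall⟩ := exists_support Bb.toFinset (w j) 3 le_rfl (by rw [e1]; rfl)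
    obtain ⟨F, hF⟩ : ∃ F, F = Bb.toFinset.filter fun x => w j x ≠ 0 := ⟨_, rfl⟩
    rw [← hF] at hc
    have hFval : ∀ x ∈ F, w j x = 1 ∨ w j x = -1 := fun x hx => by
      rw [hF, Finset.mem_filter] at hx
      rcases hall x hx.1 with a | a | a
      · exact Or.inr a
      · exact absurd a hx.2
      · exact Or.inl a
    obtain ⟨a, b, c, hab, hac, hbc, hset⟩ := Finset.card_eq_three.1 hc
    have hF3 : ∀ x, x ∈ F ↔ x = a ∨ x = b ∨ x = c := fun x => by rw [hset]; simp
    have e3 : w j a * w h a + w j b * w h b + w j c * w h c = 2 := by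
      rw [← e2, ← Finset.sum_filter_of_ne (p := fun x => w j x ≠ 0) (s := Bb.toFinset)
        (fun x _ hne h0 => hne (by rw [h0, zero_mul])), ← hF, hset,
        Finset.sum_insert (by simp [hab, hac]), Finset.sum_pair hbc]
      ring
    have hin : ∀ x ∈ F, x ∈ Bb.toFinset ∧ ((x ∈ S₀ ∧ (w j x * w h x = 1 ∨ w j x * w h x = -1)) ∨
        (x ∉ S₀ ∧ w j x * w h x = 0)) := fun x hx => by
      have hxB : x ∈ Bb.toFinset := by rw [hF] at hx; exact (Finset.mem_filter.1 hx).1
      refine ⟨hxB, ?_⟩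
      by_cases hxS : x ∈ S₀
      · refine Or.inl ⟨hxS, mul_self_eq_one_iff.1 ?_⟩
        rcases hFval x hx with v | v <;> rw [v] <;> linear_combination hsg x hxS
      · exact Or.inr ⟨hxS, by rw [hout x hxB hxS, mul_zero]⟩
    have ha' := (hF3 a).2 (Or.inl rfl)
    have hb' := (hF3 b).2 (Or.inr (Or.inl rfl))
    have hc' := (hF3 c).2 (Or.inr (Or.inr rfl))
    have heq : ∀ x ∈ F, x ∈ S₀ → w j x * w h x = 1 → w j x = w h x := fun x hx hxS h1 => by
      linear_combination w h x * h1 - w j x * hsg x hxS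
    have hcov : ∀ x ∈ Bb.toFinset, w j x ≠ 0 → x = a ∨ x = b ∨ x = c := fun x hx h0 =>
      (hF3 x).1 (by rw [hF]; exact Finset.mem_filter.2 ⟨hx, h0⟩)
    obtain ⟨haB, hA | hA⟩ := hin a ha' <;> obtain ⟨hbB, hB' | hB'⟩ := hin b hb' <;>
      obtain ⟨hcB, hC | hC⟩ := hin c hc'
    all_goals try omega
    · exact ⟨a, b, c, hA.1, hB'.1, hcB, hC.1, hab, heq a ha' hA.1 (by omega),
        heq b hb' hB'.1 (by omega), hFval c hc', hcov⟩
    · exact ⟨a, c, b, hA.1, hC.1, hbB, hB'.1, hac, heq a ha' hA.1 (by omega),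
        heq c hc' hC.1 (by omega), hFval b hb', fun x hx h0 => by
          rcases hcov x hx h0 with v | v | v <;> simp [v]⟩
    · exact ⟨b, c, a, hB'.1, hC.1, haB, hA.1, hbc, heq b hb' hB'.1 (by omega),
        heq c hc' hC.1 (by omega), hFval a ha', fun x hx h0 => by
          rcases hcov x hx h0 with v | v | v <;> simp [v]⟩
  have : Nonempty (IrrCharacter X) := ⟨(Finset.card_pos.1 (by omega : 0 < S₀.card)).choose⟩
  choose! pp qq YY hpS hqS hYB hYS hpq hpv hqv hYv hcov using hrow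
  have hSYcard : (Bb.toFinset \ S₀).card = h - 1 := by
    rw [Finset.card_sdiff_of_subset hSB, hcardB, hS4]; omega
  have hsurj : ∀ x ∈ Bb.toFinset, x ∉ S₀ → ∃ j, 0 < j ∧ j < h ∧ x = YY j := by
    intro x hx hxS
    by_contra hn
    simp only [not_exists, not_and] at hn
    refine (hmid x hx).2 ?_
    rw [midValue, hout x hx hxS, Finset.sum_eq_zero fun j hj => ?_]
    · ring
    · rw [Finset.mem_Ioo] at hj
      by_contra h0
      rcases hcov j hj.1 hj.2 x hx (fun hz => h0 (by rw [hz, mul_zero])) with a | a | a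
      · exact hxS (a ▸ hpS j hj.1 hj.2)
      · exact hxS (a ▸ hqS j hj.1 hj.2)
      · exact hn j hj.1 hj.2 a
  have hinj : ∀ j k, 0 < j → j < h → 0 < k → k < h → YY j = YY k → j = k := by
    intro j k hj0 hj hk0 hk' hY
    have himg : (Bb.toFinset \ S₀) ⊆ (Finset.Ioo 0 h).image YY := fun x hx => by
      obtain ⟨a, b⟩ := Finset.mem_sdiff.1 hx
      obtain ⟨i, hi0, hi, rfl⟩ := hsurj x a b
      exact Finset.mem_image_of_mem _ (Finset.mem_Ioo.2 ⟨hi0, hi⟩)
    have h1 := Finset.card_le_card himg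
    rw [hSYcard] at h1
    have h3 : (Finset.Ioo 0 h).card = h - 1 := by rw [Nat.card_Ioo]; omega
    exact Finset.card_image_iff.1 (le_antisymm Finset.card_image_le (h3.trans_le h1))
      (Finset.mem_coe.2 (Finset.mem_Ioo.2 ⟨hj0, hj⟩)) (Finset.mem_coe.2 (Finset.mem_Ioo.2 ⟨hk0, hk'⟩)) hY
  have hPeq : ∀ j, 0 < j → j < h → ({pp j, qq j} : Finset (IrrCharacter X)) = {pp 1, qq 1} := by
    intro j hj0 hj
    by_cases hj1 : j = 1
    · rw [hj1]
    have e4 := hgram j 1 hj0 hj.le one_pos (by omega)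
    rw [if_neg hj1, if_neg (by omega), ← Finset.sum_sdiff hSB, Finset.sum_eq_zero (s := Bb.toFinset \ S₀)
      (fun x hx => by
        obtain ⟨a, b⟩ := Finset.mem_sdiff.1 hx
        by_contra h0
        rcases hcov j hj0 hj x a (fun hz => h0 (by rw [hz, zero_mul])) with v | v | v
        · exact b (v ▸ hpS j hj0 hj)
        · exact b (v ▸ hqS j hj0 hj)
        rcases hcov 1 one_pos (by omega) x a (fun hz => h0 (by rw [hz, mul_zero])) with v' | v' | v'
        · exact b (v' ▸ hpS 1 one_pos (by omega))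
        · exact b (v' ▸ hqS 1 one_pos (by omega))
        · exact hj1 (hinj j 1 hj0 hj one_pos (by omega) (v.symm.trans v'))), zero_add] at e4
    have hval2 : ∀ i, 0 < i → i < h → ∀ x ∈ S₀,
        w i x = if x ∈ ({pp i, qq i} : Finset (IrrCharacter X)) then w h x else 0 := by
      intro i hi0 hi x hx
      split_ifs with hP
      · simp only [Finset.mem_insert, Finset.mem_singleton] at hP
        rcases hP with rfl | rfl
        exacts [hpv i hi0 hi, hqv i hi0 hi]
      · by_contra h0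
        rcases hcov i hi0 hi x (hSB hx) h0 with v | v | v
        · exact hP (by simp [v])
        · exact hP (by simp [v])
        · exact hYS i hi0 hi (v ▸ hx)
    rw [Finset.sum_congr rfl (g := fun x => if x ∈ ({pp j, qq j} : Finset (IrrCharacter X)) ∩
        {pp 1, qq 1} then (1 : ℤ) else 0) fun x hx => by
      rw [hval2 j hj0 hj x hx, hval2 1 one_pos (by omega) x hx]
      by_cases a : x ∈ ({pp j, qq j} : Finset (IrrCharacter X)) <;>
        by_cases b : x ∈ ({pp 1, qq 1} : Finset (IrrCharacter X)) <;>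
        simp only [Finset.mem_inter, a, b, and_self, and_false, false_and, if_true, if_false,
          mul_zero, zero_mul, hsg x hx], Finset.sum_boole, Finset.filter_mem_eq_inter,
      Finset.inter_eq_right.2 (fun x hx => by
        have := (Finset.mem_inter.1 hx).1
        simp only [Finset.mem_insert, Finset.mem_singleton] at this
        rcases this with rfl | rfl
        exacts [hpS j hj0 hj, hqS j hj0 hj])] at e4
    have c1 := Finset.card_pair (hpq j hj0 hj)
    have c2 := Finset.card_pair (hpq 1 one_pos (by omega))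
    have e5 : (({pp j, qq j} : Finset (IrrCharacter X)) ∩ {pp 1, qq 1}).card = 2 := by
      push_cast at e4; omega
    exact (Finset.eq_of_subset_of_card_le Finset.inter_subset_left (by omega)).symm.trans
      (Finset.eq_of_subset_of_card_le Finset.inter_subset_right (by omega))
  -- the four members
  obtain ⟨p, hp'⟩ : ∃ p, p = pp 1 := ⟨_, rfl⟩
  obtain ⟨q, hq'⟩ : ∃ q, q = qq 1 := ⟨_, rfl⟩
  have hpS' : p ∈ S₀ := hp' ▸ hpS 1 one_pos (by omega)
  have hqS' : q ∈ S₀ := hq' ▸ hqS 1 one_pos (by omega)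
  have npq : p ≠ q := hp' ▸ hq' ▸ hpq 1 one_pos (by omega)
  have hrest : (S₀ \ {p, q}).card = 2 := by
    rw [Finset.card_sdiff_of_subset (by
      intro x hx
      simp only [Finset.mem_insert, Finset.mem_singleton] at hx
      rcases hx with rfl | rfl <;> assumption), hS4, Finset.card_pair npq]
  obtain ⟨r, r', nrr', hr2⟩ := Finset.card_eq_two.1 hrest
  have hmemS : ∀ x, x ∈ S₀ ↔ (x = p ∨ x = q ∨ x = r ∨ x = r') := by
    intro x
    have h1 := Finset.ext_iff.1 hr2 x
    simp only [Finset.mem_sdiff, Finset.mem_insert, Finset.mem_singleton] at h1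
    constructor
    · intro hx
      by_cases a : x = p
      · exact Or.inl a
      by_cases b : x = q
      · exact Or.inr (Or.inl b)
      exact Or.inr (Or.inr (h1.1 ⟨hx, by tauto⟩))
    · rintro (rfl | rfl | v)
      · exact hpS'
      · exact hqS'
      · exact (h1.2 v).1
  have hr0 : r ∈ S₀ ∧ r ≠ p ∧ r ≠ q := by
    have h1 := (Finset.ext_iff.1 hr2 r).2 (by simp)
    simpa [Finset.mem_sdiff] using h1
  have hr'0 : r' ∈ S₀ ∧ r' ≠ p ∧ r' ≠ q := by
    have h1 := (Finset.ext_iff.1 hr2 r').2 (by simp)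
    simpa [Finset.mem_sdiff] using h1
  have hB' : ∀ {x}, x ∈ S₀ → x ∈ Bb := fun hx => Set.mem_toFinset.1 (hSB hx)
  have hp := hB' hpS'; have hq := hB' hqS'; have hr := hB' hr0.1; have hr' := hB' hr'0.1
  -- the relations between regular parts
  have hrelF : ∀ j, 0 < j → j ≤ h →
      ∑ x ∈ Bb.toFinset, (w j x : ℂ) • pRegularPart 2 (x : X → ℂ) = 0 := fun j hj0 hj => by
    funext g
    rw [Finset.sum_apply]
    simp only [Pi.smul_apply, smul_eq_mul, Pi.zero_apply]
    by_cases hg : IsPRegular 2 g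
    · rw [Finset.sum_congr rfl fun x _ => by rw [pRegularPart_of_reg hg]]
      exact hrel j hj0 hj g hg
    · exact Finset.sum_eq_zero fun x _ => by rw [pRegularPart_of_sing hg, mul_zero]
  have hS4' : S₀ = {p, q, r, r'} := by ext x; rw [hmemS]; simp
  have hrel0 : (w h p : ℂ) • pRegularPart 2 (p : X → ℂ) + (w h q : ℂ) • pRegularPart 2 (q : X → ℂ) +
      (w h r : ℂ) • pRegularPart 2 (r : X → ℂ) + (w h r' : ℂ) • pRegularPart 2 (r' : X → ℂ) = 0 := by
    have e6 := hrelF h (by omega) le_rfl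
    rw [← Finset.sum_subset hSB (fun x hx hxS => by rw [hout x hx hxS, Int.cast_zero, zero_smul]),
      hS4', Finset.sum_insert (by simp [npq, hr0.2.1.symm, hr'0.2.1.symm]),
      Finset.sum_insert (by simp [hr0.2.2.symm, hr'0.2.2.symm]), Finset.sum_pair nrr'] at e6
    rw [← e6]; abel
  have hYrel : ∀ x ∈ Bb, ¬ (x = p ∨ x = q ∨ x = r ∨ x = r') → ∃ δ : ℤ, (δ = 1 ∨ δ = -1) ∧
      pRegularPart 2 (x : X → ℂ) = (δ : ℂ) • ((w h p : ℂ) • pRegularPart 2 (p : X → ℂ) +
        (w h q : ℂ) • pRegularPart 2 (q : X → ℂ)) := by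
    intro x hx hn
    have hxS : x ∉ S₀ := fun hh' => hn ((hmemS x).1 hh')
    obtain ⟨j, hj0, hj, rfl⟩ := hsurj x (Set.mem_toFinset.2 hx) hxS
    refine ⟨-w j (YY j), by rcases hYv j hj0 hj with a | a <;> rw [a] <;> norm_num, ?_⟩
    have e7 := hrelF j hj0 hj.le
    rw [← Finset.sum_subset (s₁ := insert (YY j) ({pp j, qq j} : Finset (IrrCharacter X))) (by
        intro z hz
        simp only [Finset.mem_insert, Finset.mem_singleton] at hz
        rcases hz with rfl | rfl | rfl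
        exacts [hYB j hj0 hj, hSB (hpS j hj0 hj), hSB (hqS j hj0 hj)])
      (fun z hz hn' => by
        by_cases h0 : w j z = 0
        · rw [h0, Int.cast_zero, zero_smul]
        · rcases hcov j hj0 hj z hz h0 with v | v | v <;> exact absurd (by simp [v]) hn'),
      Finset.sum_insert (by
        simp only [Finset.mem_insert, Finset.mem_singleton]
        rintro (v | v) <;> refine hYS j hj0 hj ?_ <;> rw [v]
        exacts [hpS j hj0 hj, hqS j hj0 hj]),
      Finset.sum_congr rfl (s₁ := ({pp j, qq j} : Finset (IrrCharacter X)))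
        (g := fun z => (w h z : ℂ) • pRegularPart 2 (z : X → ℂ)) (fun z hz => by
        simp only [Finset.mem_insert, Finset.mem_singleton] at hz
        rcases hz with rfl | rfl
        · rw [hpv j hj0 hj]
        · rw [hqv j hj0 hj]),
      hPeq j hj0 hj, ← hp', ← hq', Finset.sum_pair npq] at e7
    have hsq' : (w j (YY j) : ℂ) * w j (YY j) = 1 := by
      rcases hYv j hj0 hj with a | a <;> rw [a] <;> norm_num
    push_cast
    rw [eq_neg_of_add_eq_zero_right e7, neg_smul_neg, smul_smul, hsq', one_smul]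
  have h0 : ∀ x ∈ Bb, blockHeight 2 Bb (x : X → ℂ) = 0 ↔ (x = p ∨ x = q ∨ x = r ∨ x = r') := by
    intro x hx
    rw [← hmemS]
    obtain ⟨-, hodd', htwo'⟩ := S.phi_central hx (hmid x (Set.mem_toFinset.2 hx)).1
    refine ⟨fun hx0 => ?_, fun hxS => hodd' ((hpar x).2 (hodd x hxS))⟩
    by_contra hxS
    have := htwo' (htwo x (Set.mem_toFinset.2 hx) hxS)
    omega
  -- the norm of the other members
  obtain ⟨m, hm⟩ := exists_regForm hM hB
  obtain ⟨Y, hY'⟩ : ∃ Y, Y = YY 1 := ⟨_, rfl⟩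
  have hYb : Y ∈ Bb := Set.mem_toFinset.1 (hY' ▸ hYB 1 one_pos (by omega))
  have hYn : ¬ (Y = p ∨ Y = q ∨ Y = r ∨ Y = r') := fun hh' =>
    hYS 1 one_pos (by omega) (hY' ▸ (hmemS Y).2 hh')
  have hlin : ∀ u ∈ Bb, ∀ x ∈ Bb,
      (m u x : ℂ) = regP Bb (pRegularPart 2 (u : X → ℂ)) (pRegularPart 2 (x : X → ℂ)) :=
    fun u hu x hx => by rw [← hm.eq u hu x hx, regN_eq_regP]
  have hYm : ∀ x ∈ Bb, ¬ (x = p ∨ x = q ∨ x = r ∨ x = r') → ∃ δ : ℤ, δ * δ = 1 ∧
      ∀ u ∈ Bb, m u x = δ * (w h p * m u p + w h q * m u q) := by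
    intro x hx hn
    obtain ⟨δ, hδ, e8⟩ := hYrel x hx hn
    refine ⟨δ, by rcases hδ with a | a <;> rw [a] <;> norm_num, fun u hu => ?_⟩
    apply Int.cast_injective (α := ℂ)
    push_cast
    rw [hlin u hu x hx, hlin u hu p hp, hlin u hu q hq, e8]
    simp only [regP, classInner_add_right, classInner_smul_right, map_intCast]
    ring
  have hsum0 : ∀ u ∈ Bb, w h p * m u p + w h q * m u q + w h r * m u r + w h r' * m u r' = 0 := by
    intro u hu
    apply Int.cast_injective (α := ℂ)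
    have e9 : regP Bb (pRegularPart 2 (u : X → ℂ)) 0 = 0 := by simp [regP, classInner]
    push_cast
    rw [hlin u hu p hp, hlin u hu q hq, hlin u hu r hr, hlin u hu r' hr', ← e9, ← hrel0]
    simp only [regP, classInner_add_right, classInner_smul_right, map_intCast]
    ring
  obtain ⟨δ, hδ, hδm⟩ := hYm Y hYb hYn
  have s : ∀ x ∈ Bb, ∀ y ∈ Bb, m y x = m x y := hm.symm
  obtain ⟨T, hT⟩ : ∃ T, T = m Y Y := ⟨_, rfl⟩
  have hYh : blockHeight 2 Bb (Y : X → ℂ) = 1 := by
    obtain ⟨-, -, htwo'⟩ := S.phi_central hYb (hmid Y (Set.mem_toFinset.2 hYb)).1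
    exact htwo' (htwo Y (Set.mem_toFinset.2 hYb) fun hh' => hYn ((hmemS Y).1 hh'))
  have h4T : (4 : ℤ) ∣ T := by
    have := hm.dvd_succ Y hYb Y hYb (by omega)
    rw [hYh] at this
    rw [hT]; exact this
  have hsq4 : ∀ x ∈ S₀, 4 ≤ m Y x * m Y x := by
    intro x hx
    have hx0 := (h0 x (hB' hx)).2 ((hmemS x).1 hx)
    have h2 : (2 : ℤ) ∣ m Y x := by
      have := hm.dvd_succ Y hYb x (hB' hx) (by omega)
      rwa [hx0, zero_add, pow_one] at this
    obtain ⟨k, hk'⟩ := h2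
    have hne : k ≠ 0 := fun hk0 => by
      have := hm.not_dvd x (hB' hx) Y hYb hx0
      rw [s Y hYb x (hB' hx), hk', hk0, mul_zero] at this
      exact this (dvd_zero _)
    have : 1 ≤ k * k := by rcases lt_or_gt_of_ne hne with a | a <;> nlinarith
    rw [hk']; nlinarith
  have hrow : m Y p * m Y p + m Y q * m Y q + (m Y r * m Y r + m Y r' * m Y r') +
      ((h : ℤ) - 1) * (T * T) = 4 * h * T := by
    have e10 := hm.row_sq hM hB hYb
    rw [show ((2 : ℕ) : ℤ) ^ blockDefect 2 Bb = 4 * (h : ℤ) by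
      have : ((2 ^ blockDefect 2 Bb : ℕ) : ℤ) = ((2 * (2 * h) : ℕ) : ℤ) := by rw [hd]
      push_cast at this ⊢; linarith, ← Finset.sum_sdiff hSB, hS4',
      Finset.sum_insert (by simp [npq, hr0.2.1.symm, hr'0.2.1.symm]),
      Finset.sum_insert (by simp [hr0.2.2.symm, hr'0.2.2.symm]), Finset.sum_pair nrr',
      Finset.sum_congr rfl (g := fun _ => T * T) (fun x hx => by
        rw [Finset.mem_sdiff, ← hS4'] at hx
        obtain ⟨δ', hδ', hm'⟩ := hYm x (Set.mem_toFinset.1 hx.1) (fun hh' => hx.2 ((hmemS x).2 hh'))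
        rw [hm' Y hYb, hT, hδm Y hYb]
        linear_combination ((w h p * m Y p + w h q * m Y q) * (w h p * m Y p + w h q * m Y q)) * (hδ' - hδ)),
      Finset.sum_const, nsmul_eq_mul, ← hS4', hSYcard, Nat.cast_sub (by omega : 1 ≤ h)] at e10
    push_cast at e10 ⊢
    rw [← hT] at e10
    linarith
  have hab : δ * (w h p * m Y p) + δ * (w h q * m Y q) = T := by rw [hT, hδm Y hYb]; ring
  have hcd : δ * (w h r * m Y r) + δ * (w h r' * m Y r') = -T := by
    linear_combination δ * hsum0 Y hYb - hab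
  have hsq1 : ∀ x ∈ S₀, (δ * (w h x * m Y x)) * (δ * (w h x * m Y x)) = m Y x * m Y x := fun x hx => by
    linear_combination (w h x * w h x * m Y x * m Y x) * hδ + (m Y x * m Y x) * hsg x hx
  rw [← hsq1 p hpS', ← hsq1 q hqS', ← hsq1 r hr0.1, ← hsq1 r' hr'0.1] at hrow
  have g1 := hsq4 p hpS'; have g2 := hsq4 q hqS'; have g3 := hsq4 r hr0.1; have g4 := hsq4 r' hr'0.1
  rw [← hsq1 p hpS'] at g1; rw [← hsq1 q hqS'] at g2
  rw [← hsq1 r hr0.1] at g3; rw [← hsq1 r' hr'0.1] at g4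
  obtain ⟨a1, ha1⟩ : ∃ v, v = δ * (w h p * m Y p) := ⟨_, rfl⟩
  obtain ⟨a2, ha2⟩ : ∃ v, v = δ * (w h q * m Y q) := ⟨_, rfl⟩
  obtain ⟨a3, ha3⟩ : ∃ v, v = δ * (w h r * m Y r) := ⟨_, rfl⟩
  obtain ⟨a4, ha4⟩ : ∃ v, v = δ * (w h r' * m Y r') := ⟨_, rfl⟩
  rw [← ha1, ← ha2] at hab
  rw [← ha3, ← ha4] at hcd
  rw [← ha1, ← ha2, ← ha3, ← ha4] at hrow
  rw [← ha1] at g1; rw [← ha2] at g2; rw [← ha3] at g3; rw [← ha4] at g4
  have hT4 : T = 4 := by
    obtain ⟨t, rfl⟩ := h4T
    have hh1 : (1 : ℤ) ≤ h := by omega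
    have p12 : (a1 + a2) * (a1 + a2) = 16 * (t * t) := by rw [hab]; ring
    have p34 : (a3 + a4) * (a3 + a4) = 16 * (t * t) := by rw [hcd]; ring
    have q1 : 8 * (t * t) ≤ a1 * a1 + a2 * a2 := by nlinarith [sq_nonneg (a1 - a2)]
    have q2 : 8 * (t * t) ≤ a3 * a3 + a4 * a4 := by nlinarith [sq_nonneg (a3 - a4)]
    have q3 : (h : ℤ) * (t * t) ≤ (h : ℤ) * t := by nlinarith
    have q4 : t * t ≤ t := le_of_mul_le_mul_left q3 (by omega)
    have q5 : t = 0 ∨ t = 1 := by
      have : 0 ≤ t := le_trans (mul_self_nonneg t) q4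
      have : t ≤ 1 := by nlinarith
      omega
    rcases q5 with rfl | rfl
    · exfalso; nlinarith
    · norm_num
  subst hT4
  have hv : a1 = 2 ∧ a3 = -2 ∧ a2 = 2 := by
    have hh4 : a1 * a1 + a2 * a2 + (a3 * a3 + a4 * a4) = 16 := by linarith
    have h1 : a1 * a1 = 4 := by linarith
    have h2' : a3 * a3 = 4 := by linarith
    have f1 : a1 = 2 ∨ a1 = -2 := by
      rcases mul_eq_zero.1 (show (a1 - 2) * (a1 + 2) = 0 by linarith) with v | v <;> omega
    have f3 : a3 = 2 ∨ a3 = -2 := by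
      rcases mul_eq_zero.1 (show (a3 - 2) * (a3 + 2) = 0 by linarith) with v | v <;> omega
    refine ⟨?_, ?_, ?_⟩
    · rcases f1 with rfl | rfl
      · rfl
      · exfalso; nlinarith
    · rcases f3 with rfl | rfl
      · exfalso; nlinarith
      · rfl
    · rcases f1 with rfl | rfl
      · omega
      · exfalso; nlinarith
  refine fourShape_assemble hM hB hm hd (by exact even_two_mul h) hp hq hr hr'
    ⟨npq, hr0.2.1.symm, hr'0.2.1.symm, hr0.2.2.symm, hr'0.2.2.symm, nrr'⟩ (w h)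
    (fun x hx => ?_) h0 hrel0 hYrel ?_ ?_ ?_ ?_
  · exact mul_self_eq_one_iff.1 (hsg x ((hmemS x).2 (by simpa using hx)))
  · rw [Nat.card_eq_card_toFinset, hcardB]; omega
  · have h1 := hδm p hp
    rw [← s p hp Y hYb] at h1
    linear_combination hv.1 - ha1 - (δ * w h p) * h1 - (w h p * (w h p * m p p + w h q * m p q)) * hδ
  · have h1 := hδm q hq
    rw [← s q hq Y hYb] at h1
    linear_combination hv.2.2 - ha2 - (δ * w h q) * h1 - (w h q * (w h p * m q p + w h q * m q q)) * hδ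
  · have h1 := hδm r hr
    rw [← s r hr Y hYb] at h1
    linear_combination hv.2.1 - ha3 - (δ * w h r) * h1 - (w h r * (w h p * m r p + w h q * m r q)) * hδ

end Cfsg.Lib.Block
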