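import Cfsg.Agent.Lib.Block.InflateRank
import Cfsg.Agent.Lib.Block.CentralDefect
import Cfsg.Agent.Lib.Block.SecondMain
import Cfsg.Agent.Lib.Block.BlockTrace
import Cfsg.Agent.Lib.Fusion.MaxPNilpotent

/-!
# Elementary tools for blocks with a normal abelian defect group

Regular elements in one coset of a normal abelian `p`-subgroup are conjugate, so the rank of a
block is at most the number of its characters trivial on that subgroup.  In a block with a
central defect group only one character is trivial on it, and a function on the defect group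
with equal inner products against the other characters is constant off the identity.
-/

set_option autoImplicit false
set_option linter.unusedSectionVars false
set_option maxHeartbeats 800000

namespace Cfsg.Lib.Block

open Cfsg
open scoped ComplexConjugate

universe u

variable {p : ℕ} [hp : Fact p.Prime] {M : Ideal AlgInt} {G : Type u} [Group G] [Fintype G]

include hp in
/-- Regular elements in one coset of a normal abelian `p`-subgroup are conjugate. -/
theorem exists_conj_of_regular_coset (N : Subgroup G) [N.Normal] (hN : IsPGroup p N)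
    (hab : ∀ a ∈ N, ∀ c ∈ N, a * c = c * a) {g h : G} (hg : ¬ p ∣ orderOf g)
    (hh : ¬ p ∣ orderOf h) (he : (g : G ⧸ N) = h) : IsConj g h := by
  haveI : IsMulCommutative N := ⟨⟨fun a c => Subtype.ext (hab a a.2 c c.2)⟩⟩
  obtain ⟨i, hi⟩ := IsPGroup.iff_card.1 hN
  have hcop : ∀ x : G, ¬ p ∣ orderOf x →
      (Nat.card N).Coprime (Nat.card (Subgroup.zpowers x)) := fun x hx => by
    rw [Nat.card_zpowers, hi]
    exact Nat.Coprime.pow_left i (hp.out.coprime_iff_not_dvd.2 hx)
  have hbot : ∀ x : G, ¬ p ∣ orderOf x → N ⊓ Subgroup.zpowers x = ⊥ := fun x hx =>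
    Subgroup.inf_eq_bot_of_coprime (hcop x hx)
  have hord : ∀ x : G, ¬ p ∣ orderOf x → orderOf (x : G ⧸ N) = orderOf x := fun x hx => by
    refine Nat.dvd_antisymm (orderOf_map_dvd (QuotientGroup.mk' N) x)
      (orderOf_dvd_iff_pow_eq_one.2 (Subgroup.mem_bot.1 ((hbot x hx) ▸ Subgroup.mem_inf.2
        ⟨(QuotientGroup.eq_one_iff _).1 ?_, Subgroup.pow_mem _ (Subgroup.mem_zpowers x) _⟩)))
    rw [QuotientGroup.mk_pow, pow_orderOf_eq_one]
  have hw : g * h⁻¹ ∈ N := by
    rw [← QuotientGroup.eq_one_iff, QuotientGroup.mk_mul, QuotientGroup.mk_inv, he, mul_inv_cancel]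
  obtain ⟨n, hn, hmap⟩ := MaxPNilpotent.exists_conj_complement (A₀ := Subgroup.zpowers g)
    (A₁ := Subgroup.zpowers h) (hbot g hg) (hbot h hh) (Subgroup.zpowers_le.2 (by
      have : g = (g * h⁻¹) * h := by rw [inv_mul_cancel_right]
      rw [this]
      exact Subgroup.mul_mem_sup hw (Subgroup.mem_zpowers h)))
    (by rw [Nat.card_zpowers, Nat.card_zpowers, ← hord g hg, ← hord h hh, he]) (hcop g hg)
  have hmem : n * g * n⁻¹ ∈ Subgroup.zpowers h := hmap ▸ ⟨g, Subgroup.mem_zpowers g, rfl⟩
  have h1 : n * g * n⁻¹ * h⁻¹ ∈ N ⊓ Subgroup.zpowers h := by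
    refine Subgroup.mem_inf.2 ⟨?_, Subgroup.mul_mem _ hmem (Subgroup.inv_mem _
      (Subgroup.mem_zpowers h))⟩
    rw [← QuotientGroup.eq_one_iff, QuotientGroup.mk_mul, QuotientGroup.mk_mul,
      QuotientGroup.mk_mul, QuotientGroup.mk_inv, QuotientGroup.mk_inv,
      (QuotientGroup.eq_one_iff n).2 hn, one_mul, inv_one, mul_one, he, mul_inv_cancel]
  rw [hbot h hh, Subgroup.mem_bot] at h1
  exact isConj_iff.2 ⟨n, mul_inv_eq_one.1 h1⟩

open Classical in
include hp in
/-- The rank of a block is at most the number of its characters trivial on a normal abelian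
`p`-subgroup. -/
theorem blockRank_le_deflSet (hM : IsPModular p M) (N : Subgroup G) [N.Normal]
    (hN : IsPGroup p N) (hab : ∀ a ∈ N, ∀ c ∈ N, a * c = c * a)
    {B : Set (IrrCharacter G)} (hB : IsPBlock M B) :
    blockRank p B ≤ Nat.card (deflSet N B) := by
  haveI := Fintype.ofFinite (G ⧸ N)
  have hI := vInt_indVec hM hB
  have hmk : ∀ g : G, IsPRegular p g → IsPRegular p (g : G ⧸ N) := fun g hg h =>
    hg (h.trans (orderOf_map_dvd (QuotientGroup.mk' N) g))
  set S : Finset (G → ℂ) := (deflSet N B).toFinset.image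
    fun φ : IrrCharacter (G ⧸ N) => pRegularPart p (infl N φ : G → ℂ) with hS
  have hmem : ∀ χ ∈ B, pRegularPart p (χ : G → ℂ) ∈
      Submodule.span ℂ (S : Set (G → ℂ)) := by
    intro χ hχ
    set f : G ⧸ N → ℂ := fun q => if h : IsPRegular p q then
      (χ : G → ℂ) (exists_regular_lift N q h).choose else 0 with hf
    have hfg : ∀ g : G, IsPRegular p g → f (g : G ⧸ N) = (χ : G → ℂ) g := fun g hg => by
      simp only [hf, dif_pos (hmk g hg)]
      obtain ⟨x, hx⟩ := isConj_iff.1 (exists_conj_of_regular_coset N hN hab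
        (exists_regular_lift N _ (hmk g hg)).choose_spec.1 hg
        (exists_regular_lift N _ (hmk g hg)).choose_spec.2)
      conv_rhs => rw [← hx, χ.2.isClassFunction]
    have hfc : IsClassFunction (G ⧸ N) f := by
      intro q r
      by_cases hq : IsPRegular p q
      · obtain ⟨g, hg, rfl⟩ := exists_regular_lift (p := p) N q hq
        induction r using QuotientGroup.induction_on with
        | H x =>
          rw [show ((x : G) : G ⧸ N) * (g : G ⧸ N) * ((x : G) : G ⧸ N)⁻¹ = ((x * g * x⁻¹ : G) : G ⧸ N)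
            from by simp, hfg _ ((isPRegular_conj_iff g x).2 hg), hfg g hg, χ.2.isClassFunction g x]
      · simp only [hf, dif_neg hq, dif_neg (mt (isPRegular_conj_iff q r).1 hq)]
    set c : IrrCharacter (G ⧸ N) → ℂ := fun φ => classInner f (φ : G ⧸ N → ℂ) with hc
    set X : G → ℂ := pRegularPart p (χ : G → ℂ) -
      ∑ φ ∈ (deflSet N B).toFinset, c φ • pRegularPart p (infl N φ : G → ℂ) with hX
    have hX' : X = ∑ φ ∈ Finset.univ \ (deflSet N B).toFinset,
        c φ • pRegularPart p (infl N φ : G → ℂ) := by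
      rw [hX, sub_eq_iff_eq_add, Finset.sum_sdiff (Finset.subset_univ _)]
      funext g
      simp only [Finset.sum_apply, Pi.smul_apply, smul_eq_mul]
      by_cases hg : IsPRegular p g
      · rw [pRegularPart_of_reg hg, ← hfg g hg]
        conv_lhs => rw [Char.eq_sum_classInner hfc]
        simp only [Finset.sum_apply, Pi.smul_apply, smul_eq_mul]
        exact Finset.sum_congr rfl fun φ _ => by
          rw [pRegularPart_of_reg hg, infl_coe, Function.comp_apply]
      · rw [pRegularPart_of_sing hg]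
        exact (Finset.sum_eq_zero fun φ _ => by rw [pRegularPart_of_sing hg, mul_zero]).symm
    have hzero : ∀ ψ : IrrCharacter G, classInner X (ψ : G → ℂ) = 0 := by
      intro ψ
      by_cases hψ : ψ ∈ B
      · rw [hX', Char.classInner_sum_left, Finset.sum_eq_zero]
        intro φ hφ
        have hφ' : infl N φ ∉ B := fun h =>
          (Finset.mem_sdiff.1 hφ).2 (Set.mem_toFinset.2 h)
        rw [Char.classInner_smul_left, ← regInner,
          regInner_eq_zero hM (vInt_indVec hM (isPBlock_blockOf (infl N φ)))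
            (self_mem_blockOf hM (infl N φ))
            (fun h => hφ' ((isPBlock_eq_of_mem hM hB (isPBlock_blockOf (infl N φ)) hψ h).symm ▸
              self_mem_blockOf hM (infl N φ))), mul_zero]
      · rw [hX, Char.classInner_sub_left, Char.classInner_sum_left, ← regInner,
          regInner_eq_zero hM hI hχ hψ, zero_sub, neg_eq_zero]
        refine Finset.sum_eq_zero fun φ hφ => ?_
        rw [Char.classInner_smul_left, ← regInner, regInner_eq_zero hM hI
          ((Set.mem_toFinset (s := deflSet N B)).1 hφ : infl N φ ∈ B) hψ, mul_zero]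
    have hXc : IsClassFunction G X := fun g x => by
      simp only [hX', Finset.sum_apply, Pi.smul_apply, smul_eq_mul]
      exact Finset.sum_congr rfl fun φ _ => by
        rw [isClassFunction_pRegularPart (infl N φ).2.isClassFunction g x]
    have hX0 : X = 0 := by
      rw [Char.eq_sum_classInner hXc]
      exact Finset.sum_eq_zero fun ψ _ => by rw [hzero, zero_smul]
    rw [hX, sub_eq_zero] at hX0
    rw [hX0]
    exact Submodule.sum_mem _ fun φ hφ => Submodule.smul_mem _ _
      (Submodule.subset_span (Finset.mem_coe.2 (Finset.mem_image_of_mem _ hφ)))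
  rw [blockRank]
  refine (Submodule.finrank_mono (Submodule.span_le.2 (fun f hf => ?_) :
    _ ≤ Submodule.span ℂ (S : Set (G → ℂ)))).trans ?_
  · obtain ⟨χ, hχ, rfl⟩ := hf
    exact hmem χ hχ
  · refine (finrank_span_finset_le_card S).trans (Finset.card_image_le.trans ?_)
    rw [Set.toFinset_card, Nat.card_eq_fintype_card]

include hp in
/-- A block sum at a singular element vanishes. -/
theorem sum_degree_sing (hM : IsPModular p M) {B : Set (IrrCharacter G)} (hB : IsPBlock M B)
    {g : G} (hg : p ∣ orderOf g) :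
    ∑ᶠ χ ∈ B, (χ : G → ℂ) 1 * (χ : G → ℂ) g = 0 := by
  classical
  have h := blockCoeff_eq_zero_of_dvd hM (vInt_indVec hM hB) hg
  rw [blockCoeff, mul_eq_zero, inv_eq_zero] at h
  replace h := congrArg conj (h.resolve_left Char.card_cast_ne_zero)
  rw [finsum_mem_eq_toFinset_sum, map_sum, map_zero] at h
  rw [finsum_mem_eq_toFinset_sum, ← h]
  exact Finset.sum_congr rfl fun χ _ => by rw [map_mul, Complex.conj_conj, conj_apply_one]

include hp in
/-- The degree of a character of height zero. -/
theorem factorization_of_height_zero {B : Set (IrrCharacter G)} {χ : IrrCharacter G}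
    (hχ : χ ∈ B) (h : blockHeight p B (χ : G → ℂ) = 0) :
    (charDegree (χ : G → ℂ)).factorization p + blockDefect p B =
      (Nat.card G).factorization p := by
  have h1 : sInf ((fun ψ : IrrCharacter G => (charDegree (ψ : G → ℂ)).factorization p) '' B) ≤
      (charDegree (χ : G → ℂ)).factorization p := Nat.sInf_le ⟨χ, hχ, rfl⟩
  have h2 : (charDegree (χ : G → ℂ)).factorization p ≤ (Nat.card G).factorization p :=
    (Nat.factorization_le_iff_dvd (charDegree_pos χ).ne' Nat.card_pos.ne').2
      (charDegree_dvd_card χ) p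
  rw [blockHeight] at h
  rw [blockDefect]
  omega

section Central

variable {K : Type u} [Group K] [Fintype K] (hM : IsPModular p M) {A : Subgroup K}
  (hAZ : A ≤ Subgroup.center K) {c : Set (IrrCharacter K)} (hc : IsPBlock M c)
  (hD : IsDefectGroup p M c A) {θ : IrrCharacter K} (hθ : θ ∈ c)
  (hθA : ∀ a ∈ A, (θ : K → ℂ) a = (θ : K → ℂ) 1)

include hM hAZ hc hD hθ hθA hp in
/-- Only one character of a block with central defect group is trivial on it. -/
theorem eq_of_trivial_central {η : IrrCharacter K} (hη : η ∈ c)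
    (hηA : ∀ a ∈ A, (η : K → ℂ) a = (η : K → ℂ) 1) : η = θ := by
  classical
  have hmap : ∀ χ ∈ c, ∀ D : Subgroup K,
      IsDefectGroup p M (blockOf M (χ : K → ℂ)) D → D = A := by
    intro χ hχ D hD'
    rw [← eq_blockOf_of_mem hM hc hχ] at hD'
    obtain ⟨x, hx⟩ := exists_conj_defectGroup hM hc hD hD'
    rw [← hx]
    ext a
    simp only [Subgroup.mem_map, MulEquiv.coe_toMonoidHom, MulAut.conj_apply]
    constructor
    · rintro ⟨b, hb, rfl⟩
      rwa [Subgroup.mem_center_iff.1 (hAZ hb) x, mul_inv_cancel_right]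
    · intro ha
      exact ⟨a, ha, by rw [Subgroup.mem_center_iff.1 (hAZ ha) x, mul_inv_cancel_right]⟩
  have hval : ∀ χ ∈ c, (∀ a ∈ A, (χ : K → ℂ) a = (χ : K → ℂ) 1) → ∀ g : K,
      (χ : K → ℂ) g = if pPt p g ∈ A then pRegularPart p (χ : K → ℂ) (pReg p g) else 0 := by
    intro χ hχ hχA g
    split_ifs with hg
    · obtain ⟨w, -, hw⟩ := exists_central_scalar χ (hAZ hg)
      have h1 := hw 1
      rw [mul_one, hχA _ hg] at h1
      have hw1 : w = 1 := (mul_eq_right₀ χ.2.apply_one_ne_zero).1 h1.symm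
      rw [pRegularPart_of_reg (show IsPRegular p (pReg p g) from not_dvd_orderOf_pReg g)]
      conv_lhs => rw [← pPt_mul_pReg (p := p) g, hw, hw1, one_mul]
    · exact char_eq_zero_of_pPt_notMem hM χ fun D hD' => (hmap χ hχ D hD') ▸ hg
  set W := Submodule.span ℂ ((fun χ : IrrCharacter K => pRegularPart p (χ : K → ℂ)) '' c) with hW
  have hdim : Module.finrank ℂ W = 1 := blockRank_eq_one_of_central hM hc hD hAZ
  have hθW : pRegularPart p (θ : K → ℂ) ∈ W := Submodule.subset_span ⟨θ, hθ, rfl⟩
  have hηW : pRegularPart p (η : K → ℂ) ∈ W := Submodule.subset_span ⟨η, hη, rfl⟩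
  have hne : (⟨_, hθW⟩ : W) ≠ 0 := fun h => θ.2.apply_one_ne_zero (by
    have := congrFun (congrArg Subtype.val h) 1
    simpa [pRegularPart, IsPRegular, hp.out.ne_one] using this)
  obtain ⟨r, hr⟩ := (finrank_eq_one_iff_of_nonzero' _ hne).1 hdim ⟨_, hηW⟩
  have hr' : r • pRegularPart p (θ : K → ℂ) = pRegularPart p (η : K → ℂ) :=
    congrArg Subtype.val hr
  have hall : (η : K → ℂ) = r • (θ : K → ℂ) := funext fun g => by
    rw [Pi.smul_apply, hval η hη hηA g, hval θ hθ hθA g, ← hr']
    split_ifs <;> simp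
  by_contra hne'
  have h0 := Char.classInner_irr_ne η.2 θ.2 fun e => hne' (Subtype.ext e)
  rw [hall, Char.classInner_smul_left, Char.classInner_irr_self θ.2, mul_one] at h0
  exact η.2.apply_one_ne_zero (by rw [hall, h0]; simp)

open Classical in
include hM hAZ hc hD hθ hθA hp in
/-- A function whose inner products with the other characters agree is constant off one. -/
theorem const_of_inner_central (f : K → ℂ) (κ : ℂ)
    (hf : ∀ η ∈ c, η ≠ θ → ∑ a : A, f a * conj ((η : K → ℂ) a) = κ * (η : K → ℂ) 1)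
    {x x' : K} (hx : x ∈ A) (hx1 : x ≠ 1) (hx' : x' ∈ A) (hx'1 : x' ≠ 1) : f x = f x' := by
  have hAp : IsPGroup p A := isPGroup_defectGroup hM hD
  have hsing : ∀ w ∈ A, w ≠ 1 → p ∣ orderOf w := fun w hw hw1 => by
    obtain ⟨k, hk⟩ := exists_orderOf_eq_pow_of_mem hAp hw
    rcases Nat.eq_zero_or_pos k with rfl | hk0
    · exact absurd (orderOf_eq_one_iff.1 (by rw [hk, pow_zero])) hw1
    · rw [hk]; exact dvd_pow_self p hk0.ne'
  set F : K → ℂ := fun w => ∑ η ∈ c.toFinset, (η : K → ℂ) 1 * (η : K → ℂ) w with hF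
  have hF0 : ∀ w ∈ A, w ≠ 1 → F w = 0 := fun w hw hw1 => by
    have := sum_degree_sing hM hc (hsing w hw hw1)
    rwa [finsum_mem_eq_toFinset_sum] at this
  have hS : F 1 ≠ 0 := by
    have e : F 1 = ((∑ η ∈ c.toFinset, charDegree (η : K → ℂ) * charDegree (η : K → ℂ) : ℕ) : ℂ) := by
      simp only [hF, Nat.cast_sum, Nat.cast_mul]
      exact Finset.sum_congr rfl fun η _ => by rw [apply_one_eq_charDegree]
    rw [e, Nat.cast_ne_zero]
    exact (Finset.sum_pos (fun η _ => Nat.mul_pos (charDegree_pos η) (charDegree_pos η))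
      ⟨θ, Set.mem_toFinset.2 hθ⟩).ne'
  set T : ℂ := (θ : K → ℂ) 1 * ∑ a : A, f a * conj ((θ : K → ℂ) 1) -
    κ * ((θ : K → ℂ) 1 * (θ : K → ℂ) 1) with hT
  suffices ∀ w ∈ A, w ≠ 1 → f w * F 1 = T from
    mul_right_cancel₀ hS ((this x hx hx1).trans (this x' hx' hx'1).symm)
  intro w hw hw1
  have hterm : ∀ η : IrrCharacter K, ∀ a : A, (η : K → ℂ) w * conj ((η : K → ℂ) a) =
      (η : K → ℂ) 1 * (η : K → ℂ) (w * (a : K)⁻¹) := fun η a => by
    obtain ⟨s, -, hs⟩ := exists_central_scalar η (hAZ hw)
    have h1 := hs 1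
    rw [mul_one] at h1
    rw [h1, hs, η.2.isCharacter.apply_inv]
    ring
  have hsum : ∑ η ∈ c.toFinset, (η : K → ℂ) w * ∑ a : A, f a * conj ((η : K → ℂ) a) =
      f w * F 1 := by
    calc ∑ η ∈ c.toFinset, (η : K → ℂ) w * ∑ a : A, f a * conj ((η : K → ℂ) a)
        = ∑ a : A, f a * F (w * (a : K)⁻¹) := by
          simp only [Finset.mul_sum, hF]
          rw [Finset.sum_comm]
          refine Finset.sum_congr rfl fun a _ => Finset.sum_congr rfl fun η _ => ?_
          rw [← hterm η a]; ring
      _ = f w * F 1 := by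
          rw [Finset.sum_eq_single (⟨w, hw⟩ : A)]
          · rw [mul_inv_cancel]
          · intro a _ ha
            rw [hF0 _ (A.mul_mem hw (A.inv_mem a.2)) (fun h => ha (Subtype.ext
              (mul_inv_eq_one.1 h).symm)), mul_zero]
          · exact fun h => absurd (Finset.mem_univ _) h
  have hθc : θ ∈ c.toFinset := Set.mem_toFinset.2 hθ
  have hw' : (θ : K → ℂ) w = (θ : K → ℂ) 1 := hθA w hw
  rw [← hsum, ← Finset.add_sum_erase _ _ hθc, hT, hw']
  have h2 : ∑ η ∈ c.toFinset.erase θ, (η : K → ℂ) w * ∑ a : A, f a * conj ((η : K → ℂ) a) =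
      κ * (0 - (θ : K → ℂ) 1 * (θ : K → ℂ) w) := by
    rw [← hF0 w hw hw1, hF]
    simp only
    rw [← Finset.add_sum_erase _ _ hθc, add_sub_cancel_left, Finset.mul_sum]
    refine Finset.sum_congr rfl fun η hη => ?_
    rw [hf η (Set.mem_toFinset.1 (Finset.mem_of_mem_erase hη)) (Finset.ne_of_mem_erase hη)]
    ring
  rw [h2, hw', sub_eq_add_neg ((θ : K → ℂ) 1 * _), zero_sub, mul_neg]
  congr 2
  exact Finset.sum_congr rfl fun a _ => by rw [hθA a a.2]

end Central

end Cfsg.Lib.Block
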