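import Cfsg.Agent.Lib.Char.Clifford2
import Cfsg.Agent.Lib.Char.Extension
import Cfsg.Agent.Lib.Char.Quotient
import Cfsg.Agent.Lib.Char.CanonExt
import Cfsg.Agent.Lib.Char.Gallagher

/-!
# An invariant character with at most two characters above it

If an invariant irreducible character of a normal subgroup `N` lies under exactly two
irreducible characters, then the index is a sum of two squares and the nontrivial elements of the
quotient with cyclic centralizer are all conjugate.
-/

set_option autoImplicit false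
set_option linter.unusedSectionVars false
set_option maxHeartbeats 800000

namespace Cfsg.Lib.Block

open Cfsg
open scoped ComplexConjugate

universe u

variable {G : Type u} [Group G] [Fintype G] (N : Subgroup G) [N.Normal] [Fintype N]

/-- Some irreducible constituent of a nonzero restriction. -/
theorem exists_res_constituent {χ : G → ℂ} (hχ : IsIrrCharacter G χ) :
    ∃ φ : IrrCharacter N, classInner (fun n : N => χ n) (φ : N → ℂ) ≠ 0 ∧
      0 < (classInner (fun n : N => χ n) (φ : N → ℂ)).re := by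
  obtain ⟨φ, hφ⟩ := Char.exists_irr_constituent_res N hχ
  refine ⟨φ, hφ, ?_⟩
  obtain ⟨m, hm⟩ := (hχ.isCharacter.comp N.subtype).exists_nat_classInner φ.2.isCharacter
  have hm' : classInner (fun n : N => χ n) (φ : N → ℂ) = (m : ℂ) := hm
  rw [hm', Complex.natCast_re]
  have : m ≠ 0 := fun h => hφ (by rw [hm', h, Nat.cast_zero])
  exact_mod_cast Nat.pos_of_ne_zero this

/-- A character restricting to a multiple of `θ` has only constituents over `θ`. -/
theorem over_of_res_smul {θ : N → ℂ} (hθ : IsIrrCharacter N θ) {ψ χ : G → ℂ}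
    (hψ : IsCharacter G ψ) (hres : ∀ n : N, ψ n = ψ 1 / θ 1 * θ n) (hχ : IsIrrCharacter G χ)
    (h : classInner ψ χ ≠ 0) : classInner (fun n : N => χ n) θ ≠ 0 := by
  obtain ⟨φ, hφ, hφpos⟩ := exists_res_constituent N hχ
  by_contra h0
  have hne : θ ≠ (φ : N → ℂ) := fun e => hφ (e ▸ h0)
  have hle := Char.classInner_res_le_of_constituent N hψ hχ h φ.2.isCharacter
  have e : (fun x : N => ψ x) = (ψ 1 / θ 1) • θ := funext hres
  rw [e, Char.classInner_smul_left, Char.classInner_irr_ne hθ φ.2 hne, mul_zero,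
    Complex.zero_re] at hle
  linarith

open Classical in
/-- The consequences. -/
theorem twoOver_facts {θ : N → ℂ} (hθ : IsIrrCharacter N θ)
    (hinv : ∀ g : G, Char.conjTwist N θ g = θ) (ψ₁ ψ₂ : IrrCharacter G) (hne : ψ₁ ≠ ψ₂)
    (a₁ a₂ : ℕ) (ha₁ : a₁ ≠ 0) (ha₂ : a₂ ≠ 0)
    (h₁ : classInner (fun n : N => (ψ₁ : G → ℂ) n) θ = a₁)
    (h₂ : classInner (fun n : N => (ψ₂ : G → ℂ) n) θ = a₂)
    (honly : ∀ ρ : IrrCharacter G, classInner (fun n : N => (ρ : G → ℂ) n) θ ≠ 0 →
      ρ = ψ₁ ∨ ρ = ψ₂) :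
    N.index = a₁ ^ 2 + a₂ ^ 2 ∧
      ∀ y y' : G ⧸ N, y ≠ 1 → y' ≠ 1 →
        IsCyclic (Subgroup.centralizer ({y} : Set (G ⧸ N))) →
        IsCyclic (Subgroup.centralizer ({y'} : Set (G ⧸ N))) → IsConj y y' := by
  haveI := Fintype.ofFinite (G ⧸ N)
  have hθ1 : θ 1 ≠ 0 := hθ.apply_one_ne_zero
  have hres : ∀ (ρ : IrrCharacter G) (a : ℕ), a ≠ 0 →
      classInner (fun n : N => (ρ : G → ℂ) n) θ = a →
      ∀ n : N, (ρ : G → ℂ) n = (a : ℂ) * θ n := by
    intro ρ a ha h n
    have := congrFun (Char.clifford_invariant N ρ.2 hθ hinv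
      (by rw [h]; exact_mod_cast ha)) n
    simp only [Pi.smul_apply, smul_eq_mul] at this
    rw [this, h]
  have hcl : IsClassFunction N θ := hθ.isClassFunction
  refine ⟨?_, ?_⟩
  · -- degrees
    set I := indFun N θ with hI
    have hIc : IsCharacter G I := Char.isCharacter_indFun N hθ.isCharacter
    have hin : ∀ ρ : IrrCharacter G, classInner I (ρ : G → ℂ) =
        conj (classInner (fun n : N => (ρ : G → ℂ) n) θ) := fun ρ => by
      rw [hI, Char.classInner_indFun N θ ρ.2.isClassFunction, Char.classInner_conj_symm]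
    have h := congrFun (Char.eq_sum_classInner hIc.isClassFunction) 1
    rw [hI, Char.indFun_apply_one, Finset.sum_apply,
      Finset.sum_eq_add (a := ψ₁) (b := ψ₂) hne] at h
    · simp only [Pi.smul_apply, smul_eq_mul, ← hI, hin, h₁, h₂, map_natCast] at h
      have e1 : (ψ₁ : G → ℂ) 1 = a₁ * θ 1 := by
        simpa using hres ψ₁ a₁ ha₁ h₁ 1
      have e2 : (ψ₂ : G → ℂ) 1 = a₂ * θ 1 := by
        simpa using hres ψ₂ a₂ ha₂ h₂ 1
      rw [e1, e2] at h
      have h' : ((N.index : ℕ) : ℂ) * θ 1 = ((a₁ ^ 2 + a₂ ^ 2 : ℕ) : ℂ) * θ 1 := by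
        rw [h]; push_cast; ring
      exact_mod_cast mul_right_cancel₀ hθ1 h'
    · rintro ρ - ⟨hρ1, hρ2⟩
      rw [Pi.smul_apply, hin]
      by_cases h0 : classInner (fun n : N => (ρ : G → ℂ) n) θ = 0
      · rw [h0, map_zero, zero_smul]
      · rcases honly ρ h0 with e | e
        · exact absurd e hρ1
        · exact absurd e hρ2
    · exact fun h => absurd (Finset.mem_univ _) h
    · exact fun h => absurd (Finset.mem_univ _) h
  -- the span
  set W : Submodule ℂ (G → ℂ) := Submodule.span ℂ {(ψ₁ : G → ℂ), (ψ₂ : G → ℂ)} with hW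
  have hmemW : ∀ f : G → ℂ, IsClassFunction G f →
      (∀ ρ : IrrCharacter G, classInner (fun n : N => (ρ : G → ℂ) n) θ = 0 →
        classInner f (ρ : G → ℂ) = 0) → f ∈ W := by
    intro f hf h0
    rw [Char.eq_sum_classInner hf]
    refine Submodule.sum_mem _ fun ρ _ => ?_
    by_cases h : classInner (fun n : N => (ρ : G → ℂ) n) θ = 0
    · rw [h0 ρ h, zero_smul]; exact W.zero_mem
    · refine Submodule.smul_mem _ _ (Submodule.subset_span ?_)
      rcases honly ρ h with rfl | rfl
      · exact Or.inl rfl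
      · exact Or.inr rfl
  -- multiples by class functions of the quotient
  have hmul : ∀ (ψ : IrrCharacter G) (a : ℕ), a ≠ 0 →
      classInner (fun n : N => (ψ : G → ℂ) n) θ = a → ∀ δ : G ⧸ N → ℂ,
      IsClassFunction (G ⧸ N) δ → (fun g : G => (ψ : G → ℂ) g * δ g) ∈ W := by
    intro ψ a ha hψ δ hδ
    refine hmemW _ (fun g x => ?_) fun ρ hρ => ?_
    · show (ψ : G → ℂ) (x * g * x⁻¹) * δ _ = _
      rw [ψ.2.isClassFunction g x, QuotientGroup.mk_mul, QuotientGroup.mk_mul,
        QuotientGroup.mk_inv, hδ]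
    · have e : (fun g : G => (ψ : G → ℂ) g * δ g) =
          ∑ γ : IrrCharacter (G ⧸ N), classInner δ (γ : G ⧸ N → ℂ) •
            ((ψ : G → ℂ) * fun g : G => (γ : G ⧸ N → ℂ) g) := by
        funext g
        have := congrFun (Char.eq_sum_classInner hδ) (g : G ⧸ N)
        simp only [Finset.sum_apply, Pi.smul_apply, Pi.mul_apply, smul_eq_mul] at this ⊢
        rw [this, Finset.mul_sum]
        exact Finset.sum_congr rfl fun γ _ => by ring
      rw [e, Char.classInner_sum_left]
      refine Finset.sum_eq_zero fun γ _ => ?_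
      rw [Char.classInner_smul_left]
      by_contra hnz
      refine over_of_res_smul N hθ (ψ.2.isCharacter.mul (Char.isCharacter_inflate N γ.2.isCharacter))
        (fun n => ?_) ρ.2 (fun h => hnz (by rw [h, mul_zero])) hρ
      simp only [Pi.mul_apply, QuotientGroup.mk_one]
      rw [hres ψ a ha hψ n, (QuotientGroup.eq_one_iff (n : G)).2 n.2,
        show (ψ : G → ℂ) 1 = a * θ 1 by simpa using hres ψ a ha hψ 1]
      field_simp
  -- a good coset is met
  have hmeet : ∀ y : G ⧸ N, IsCyclic (Subgroup.centralizer ({y} : Set (G ⧸ N))) →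
      ∃ x : G, (x : G ⧸ N) = y ∧ ((ψ₁ : G → ℂ) x ≠ 0 ∨ (ψ₂ : G → ℂ) x ≠ 0) := by
    intro y hcyc
    by_contra hno
    push Not at hno
    set Y : Subgroup G := (Subgroup.centralizer ({y} : Set (G ⧸ N))).comap (QuotientGroup.mk' N)
      with hY
    have hNY : N ≤ Y := fun n hn => by
      rw [hY, Subgroup.mem_comap, QuotientGroup.mk'_apply, (QuotientGroup.eq_one_iff n).2 hn]
      exact Subgroup.one_mem _
    haveI : (N.subgroupOf Y).Normal := Subgroup.Normal.subgroupOf inferInstance Y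
    haveI := Fintype.ofFinite (N.subgroupOf Y)
    obtain ⟨m, σ, hσ, hσθ⟩ := Char.isIrrCharacter_resTo N hθ hNY
    haveI := hσ
    have hσinv : ∀ (g : Y) (x : N.subgroupOf Y),
        σ.character (MulAut.conjNormal g x) = σ.character x := by
      intro g x
      rw [hσθ]
      have := (Char.mem_inertia_iff N (θ := θ)).1
        (show (g : G) ∈ Char.inertia N θ from hinv g) ⟨(x : Y), Subgroup.mem_subgroupOf.1 x.2⟩
      exact (congrArg θ (Subtype.ext (by simp [MulAut.conjNormal_apply]))).trans this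
    let toC : Y →* Subgroup.centralizer ({y} : Set (G ⧸ N)) :=
      ((QuotientGroup.mk' N).comp Y.subtype).codRestrict _ fun g => g.2
    have hcycY : IsCyclic (Y ⧸ N.subgroupOf Y) := by
      haveI := hcyc
      refine isCyclic_of_injective (QuotientGroup.lift (N.subgroupOf Y) toC fun g hg =>
        MonoidHom.mem_ker.2 (Subtype.ext ((QuotientGroup.eq_one_iff (g : G)).2
          (Subgroup.mem_subgroupOf.1 hg)))) ?_
      rw [injective_iff_map_eq_one]
      intro q hq
      obtain ⟨g, rfl⟩ := QuotientGroup.mk_surjective q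
      exact (QuotientGroup.eq_one_iff _).2 (Subgroup.mem_subgroupOf.2
        ((QuotientGroup.eq_one_iff (g : G)).1 (congrArg Subtype.val hq)))
    obtain ⟨ρ, hρ⟩ := Char.exists_extension_of_cyclic σ hσinv hcycY
    set h : Y → ℂ := ρ.character with hh
    have hhres : ∀ x : N.subgroupOf Y, h x = Char.resTo N θ Y x := fun x => by
      rw [← hσθ]
      show LinearMap.trace ℂ _ (ρ (x : Y)) = LinearMap.trace ℂ _ (σ x)
      rw [hρ]
    have hhc : IsCharacter Y h := Char.isCharacter_character ρ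
    -- a point of the coset where the extension does not vanish
    obtain ⟨x₁, hx₁⟩ := QuotientGroup.mk_surjective y
    have hx₁Y : x₁ ∈ Y := by
      rw [hY, Subgroup.mem_comap, QuotientGroup.mk'_apply, hx₁, Subgroup.mem_centralizer_iff]
      intro z hz
      rw [Set.mem_singleton_iff.1 hz]
    obtain ⟨n₀, hn₀⟩ : ∃ n : N.subgroupOf Y, h ((n : Y) * ⟨x₁, hx₁Y⟩) ≠ 0 := by
      by_contra hno'
      push Not at hno'
      have h1 := Char.sum_coset_self (N := N.subgroupOf Y) (Char.isIrrCharacter_resTo N hθ hNY)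
        hhc hhres (⟨x₁, hx₁Y⟩ : Y)
      simp only [hno', zero_mul, Finset.sum_const_zero] at h1
      exact Char.card_cast_ne_zero (G := N.subgroupOf Y) h1.symm
    set x₀ : Y := (n₀ : Y) * ⟨x₁, hx₁Y⟩ with hx₀
    have hx₀y : ((x₀ : G) : G ⧸ N) = y := by
      rw [hx₀, Subgroup.coe_mul, QuotientGroup.mk_mul,
        (QuotientGroup.eq_one_iff ((n₀ : Y) : G)).2 (Subgroup.mem_subgroupOf.1 n₀.2), one_mul, hx₁]
    -- the supported function
    set f₀ : Y → ℂ := fun g => if ((g : G) : G ⧸ N) = y then h g else 0 with hf₀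
    have hYc : ∀ g : Y, y * ((g : G) : G ⧸ N) = ((g : G) : G ⧸ N) * y := fun g =>
      Subgroup.mem_centralizer_iff.1 g.2 y rfl
    set gfun := indFun Y f₀ with hgfun
    have hgW : gfun ∈ W := by
      refine hmemW _ (Char.isClassFunction_indFun Y f₀) fun ψ hψ => ?_
      rw [hgfun, Char.classInner_indFun Y f₀ ψ.2.isClassFunction]
      haveI := Fintype.ofFinite (Y ⧸ N.subgroupOf Y)
      set δ : Y ⧸ N.subgroupOf Y → ℂ := fun q =>
        if q = ((⟨x₁, hx₁Y⟩ : Y) : Y ⧸ N.subgroupOf Y) then 1 else 0 with hδ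
      have hδc : IsClassFunction (Y ⧸ N.subgroupOf Y) δ := fun a c => by
        haveI := hcycY
        letI := IsCyclic.commGroup (α := Y ⧸ N.subgroupOf Y)
        rw [mul_comm c a, mul_inv_cancel_right]
      have e : f₀ = ∑ γ : IrrCharacter (Y ⧸ N.subgroupOf Y),
          classInner δ (γ : Y ⧸ N.subgroupOf Y → ℂ) •
            (h * fun g : Y => (γ : Y ⧸ N.subgroupOf Y → ℂ) g) := by
        funext g
        have hδg : δ (g : Y ⧸ N.subgroupOf Y) = if ((g : G) : G ⧸ N) = y then 1 else 0 := by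
          simp only [hδ]
          refine if_congr ?_ rfl rfl
          rw [QuotientGroup.eq, Subgroup.mem_subgroupOf, ← hx₁, QuotientGroup.eq]
          rfl
        have := congrFun (Char.eq_sum_classInner hδc) (g : Y ⧸ N.subgroupOf Y)
        simp only [Finset.sum_apply, Pi.smul_apply, Pi.mul_apply, smul_eq_mul, hf₀] at this ⊢
        rw [hδg] at this
        rw [show (∑ γ : IrrCharacter (Y ⧸ N.subgroupOf Y),
          classInner δ (γ : Y ⧸ N.subgroupOf Y → ℂ) * (h g * (γ : Y ⧸ N.subgroupOf Y → ℂ) g)) =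
            h g * ∑ γ : IrrCharacter (Y ⧸ N.subgroupOf Y),
          classInner δ (γ : Y ⧸ N.subgroupOf Y → ℂ) * (γ : Y ⧸ N.subgroupOf Y → ℂ) g by
          rw [Finset.mul_sum]; exact Finset.sum_congr rfl fun γ _ => by ring, ← this]
        split_ifs <;> simp
      rw [e, Char.classInner_sum_left]
      refine Finset.sum_eq_zero fun γ _ => ?_
      rw [Char.classInner_smul_left]
      have hcY : IsCharacter Y (h * fun g : Y => (γ : Y ⧸ N.subgroupOf Y → ℂ) g) :=
        hhc.mul (Char.isCharacter_inflate (N.subgroupOf Y) γ.2.isCharacter)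
      rw [Char.classInner_eq_sum hcY.isClassFunction, Finset.sum_eq_zero, mul_zero]
      intro κ _
      by_contra hκ
      obtain ⟨hκ1, hκ2⟩ := mul_ne_zero_iff.1 hκ
      have hκ2' : classInner (fun g : Y => (ψ : G → ℂ) g) (κ : Y → ℂ) ≠ 0 := fun h => hκ2 (by
        rw [h, map_zero])
      have hκθ : classInner (fun n : N.subgroupOf Y => (κ : Y → ℂ) n) (Char.resTo N θ Y) ≠ 0 := by
        refine over_of_res_smul (N.subgroupOf Y) (Char.isIrrCharacter_resTo N hθ hNY) hcY
          (fun n => ?_) κ.2 hκ1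
        simp only [Pi.mul_apply, QuotientGroup.mk_one]
        rw [hhres n, (QuotientGroup.eq_one_iff (n : Y)).2 n.2]
        have e1 : h 1 = θ 1 := hhres 1
        have e2 : Char.resTo N θ Y 1 = θ 1 := rfl
        rw [e1, e2]
        field_simp
      have hle := Char.classInner_res_le_of_constituent (N.subgroupOf Y)
        (ψ.2.isCharacter.comp Y.subtype) κ.2 hκ2' (Char.isIrrCharacter_resTo N hθ hNY).isCharacter
      obtain ⟨m, hm⟩ := (κ.2.isCharacter.comp (N.subgroupOf Y).subtype).exists_nat_classInner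
        (Char.isIrrCharacter_resTo N hθ hNY).isCharacter
      have hm' : classInner (fun n : N.subgroupOf Y => (κ : Y → ℂ) n) (Char.resTo N θ Y) =
          (m : ℂ) := hm
      simp only [Subgroup.coe_subtype] at hle
      rw [hm', Complex.natCast_re, Char.classInner_resTo N θ hNY (fun g : Y => (ψ : G → ℂ) g)]
        at hle
      rw [hψ, Complex.zero_re] at hle
      exact hκθ (by rw [hm', show m = 0 by exact_mod_cast le_antisymm hle (Nat.cast_nonneg _),
        Nat.cast_zero])
    have hval : gfun x₀ = h x₀ := by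
      rw [hgfun, indFun]
      have hterm : ∀ t : G, extendByZero Y f₀ (t⁻¹ * x₀ * t) = if t ∈ Y then h x₀ else 0 := by
        intro t
        by_cases ht : t ∈ Y
        · have hm : t⁻¹ * (x₀ : G) * t ∈ Y := Y.mul_mem (Y.mul_mem (Y.inv_mem ht) x₀.2) ht
          rw [if_pos ht, Char.extendByZero_of_mem Y f₀ hm]
          have he : ((t⁻¹ * (x₀ : G) * t : G) : G ⧸ N) = y := by
            rw [QuotientGroup.mk_mul, QuotientGroup.mk_mul, QuotientGroup.mk_inv, hx₀y, mul_assoc,
              hYc ⟨t, ht⟩, inv_mul_cancel_left]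
          simp only [hf₀, if_pos he]
          have hcf := hhc.isClassFunction x₀ (⟨t, ht⟩ : Y)⁻¹
          refine (congrArg h (Subtype.ext ?_)).trans hcf
          simp
        · rw [if_neg ht]
          by_cases hm : t⁻¹ * (x₀ : G) * t ∈ Y
          · rw [Char.extendByZero_of_mem Y f₀ hm]
            simp only [hf₀]
            refine if_neg fun he => ht ?_
            rw [QuotientGroup.mk_mul, QuotientGroup.mk_mul, QuotientGroup.mk_inv, hx₀y, mul_assoc,
              inv_mul_eq_iff_eq_mul] at he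
            rw [hY, Subgroup.mem_comap, QuotientGroup.mk'_apply, Subgroup.mem_centralizer_iff]
            intro z hz
            rw [Set.mem_singleton_iff.1 hz, he]
          · exact Char.extendByZero_of_notMem Y f₀ hm
      simp only [hterm, ← Finset.sum_filter, Finset.sum_const, nsmul_eq_mul]
      rw [show (Finset.univ.filter fun t : G => t ∈ Y).card = Nat.card Y by
        rw [Nat.card_eq_fintype_card, Fintype.card_subtype], ← mul_assoc,
        inv_mul_cancel₀ Char.card_cast_ne_zero, one_mul]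
    have hzero : ∀ f ∈ W, f (x₀ : G) = 0 := by
      intro f hf
      induction hf using Submodule.span_induction with
      | mem f hf =>
        rcases hf with rfl | hf
        · exact (hno x₀ hx₀y).1
        · rw [Set.mem_singleton_iff.1 hf]; exact (hno x₀ hx₀y).2
      | zero => rfl
      | add f g _ _ hf hg => rw [Pi.add_apply, hf, hg, add_zero]
      | smul c f _ hf => rw [Pi.smul_apply, hf, smul_zero]
    exact hn₀ (hval ▸ hzero gfun hgW)
  intro y y' hy hy' hcy hcy'
  by_contra hconj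
  -- three disjointly supported functions
  let cl : G ⧸ N → (G ⧸ N → ℂ) := fun q r => if IsConj q r then 1 else 0
  have hcl : ∀ q, IsClassFunction (G ⧸ N) (cl q) := fun q r s => by
    have hc : IsConj r (s * r * s⁻¹) := isConj_iff.2 ⟨s, rfl⟩
    exact if_congr ⟨fun h => h.trans hc.symm, fun h => h.trans hc⟩ rfl rfl
  have key : ∀ q : G ⧸ N,
      (∃ x : G, (x : G ⧸ N) = q ∧ ((ψ₁ : G → ℂ) x ≠ 0 ∨ (ψ₂ : G → ℂ) x ≠ 0)) →
      ∃ f ∈ W, ∃ x : G, (x : G ⧸ N) = q ∧ f x ≠ 0 ∧ ∀ z : G, ¬ IsConj q (z : G ⧸ N) → f z = 0 := by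
    rintro q ⟨x, hx, h | h⟩
    · refine ⟨_, hmul ψ₁ a₁ ha₁ h₁ _ (hcl q), x, hx, ?_, fun z hz => ?_⟩
      · simp only [cl]; rw [hx, if_pos (IsConj.refl q), mul_one]; exact h
      · simp only [cl]; rw [if_neg hz, mul_zero]
    · refine ⟨_, hmul ψ₂ a₂ ha₂ h₂ _ (hcl q), x, hx, ?_, fun z hz => ?_⟩
      · simp only [cl]; rw [hx, if_pos (IsConj.refl q), mul_one]; exact h
      · simp only [cl]; rw [if_neg hz, mul_zero]
  obtain ⟨f₀, hf₀, x₀, hx₀, hne₀, hz₀⟩ :=
    key 1 ⟨1, rfl, Or.inl ψ₁.2.apply_one_ne_zero⟩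
  obtain ⟨f₁, hf₁, x₁, hx₁, hne₁, hz₁⟩ := key y (hmeet y hcy)
  obtain ⟨f₂, hf₂, x₂, hx₂, hne₂, hz₂⟩ := key y' (hmeet y' hcy')
  let v : Fin 3 → W := ![⟨f₀, hf₀⟩, ⟨f₁, hf₁⟩, ⟨f₂, hf₂⟩]
  have hli : LinearIndependent ℂ v := by
    rw [Fintype.linearIndependent_iff]
    intro c hc
    have hc' : ∀ x : G, c 0 * f₀ x + c 1 * f₁ x + c 2 * f₂ x = 0 := fun x => by
      have := congrArg (fun w : W => (w : G → ℂ) x) hc
      simpa [Fin.sum_univ_three, v] using this
    have n01 : ¬ IsConj y (x₀ : G ⧸ N) := fun h => hy (by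
      rw [hx₀] at h; exact isConj_one_left.1 h)
    have n02 : ¬ IsConj y' (x₀ : G ⧸ N) := fun h => hy' (by
      rw [hx₀] at h; exact isConj_one_left.1 h)
    have n10 : ¬ IsConj 1 (x₁ : G ⧸ N) := fun h => hy (by
      rw [hx₁] at h; exact isConj_one_right.1 h)
    have n20 : ¬ IsConj 1 (x₂ : G ⧸ N) := fun h => hy' (by
      rw [hx₂] at h; exact isConj_one_right.1 h)
    have n12 : ¬ IsConj y' (x₁ : G ⧸ N) := fun h => hconj (by rw [hx₁] at h; exact h.symm)
    have n21 : ¬ IsConj y (x₂ : G ⧸ N) := fun h => hconj (by rw [hx₂] at h; exact h)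
    intro i
    fin_cases i
    · simpa [hz₁ x₀ n01, hz₂ x₀ n02, hne₀] using hc' x₀
    · simpa [hz₀ x₁ n10, hz₂ x₁ n12, hne₁] using hc' x₁
    · simpa [hz₀ x₂ n20, hz₁ x₂ n21, hne₂] using hc' x₂
  haveI : FiniteDimensional ℂ W := FiniteDimensional.span_of_finite ℂ (Set.toFinite _)
  have h1 := hli.fintype_card_le_finrank
  have h2 : Module.finrank ℂ W ≤ 2 := by
    rw [hW, show ({(ψ₁ : G → ℂ), (ψ₂ : G → ℂ)} : Set (G → ℂ)) =
      (({(ψ₁ : G → ℂ), (ψ₂ : G → ℂ)} : Finset (G → ℂ)) : Set (G → ℂ)) by simp]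
    exact (finrank_span_finset_le_card _).trans Finset.card_le_two
  simp at h1
  omega

end Cfsg.Lib.Block
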