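import Cfsg.Agent.Lib.Block.OneClassCyclicMain
import Cfsg.Agent.Lib.Block.ThreeHeightCentral
import Cfsg.Agent.Lib.Block.TwoOver
import Cfsg.Agent.Lib.Block.Reynolds
import Cfsg.Agent.Lib.Block.SmallCenter

/-!
# Blocks with an elementary abelian normal defect group and at most three characters

Such a defect group has order at most three.
-/

set_option autoImplicit false
set_option linter.unusedSectionVars false
set_option maxHeartbeats 1600000

namespace Cfsg.Lib.Block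

open Cfsg
open scoped ComplexConjugate

universe u

variable {p : ℕ} [hp : Fact p.Prime] {M : Ideal AlgInt} {G : Type u} [Group G] [Fintype G]

include hp in
/-- The linear bound, for an abelian group of exponent `p` with operators. -/
theorem card_le_three_mulAction {W : Type u} [CommGroup W] [Finite W] (hW : ∀ x : W, x ^ p = 1)
    {E : Type u} [Group E] [Finite E] (f : E →* MulAut W) (hinj : Function.Injective f)
    (htrans : ∀ a b : W, a ≠ 1 → b ≠ 1 → ∃ g : E, f g a = b)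
    (hcop : ¬ p ∣ Nat.card E) (hsq : ∃ a b, Nat.card E = a ^ 2 + b ^ 2)
    (hratio : ∃ x y : ℕ, x ≠ 0 ∧ y ≠ 0 ∧ Nat.card E * x ^ 2 = (Nat.card W - 1) * y ^ 2)
    (hgood : ∀ y y' : E, y ≠ 1 → y' ≠ 1 → IsCyclic (Subgroup.centralizer ({y} : Set E)) →
      IsCyclic (Subgroup.centralizer ({y'} : Set E)) → IsConj y y') : Nat.card W ≤ 3 := by
  have hexp : ∀ x : Additive W, p • x = 0 := fun x => by
    refine Additive.toMul.injective ?_
    rw [toMul_nsmul]
    exact hW _
  haveI iM : Module (ZMod p) (Additive W) := AddCommGroup.zmodModule hexp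
  let φ : E →* Module.End (ZMod p) (Additive W) :=
    { toFun := fun g =>
        { toFun := fun x => Additive.ofMul (f g (Additive.toMul x))
          map_add' := fun x y => by
            apply Additive.toMul.injective
            simp
          map_smul' := fun c x => ZMod.map_smul (MonoidHom.toAdditive (f g).toMonoidHom) c x }
      map_one' := LinearMap.ext fun v => by
        show Additive.ofMul (f 1 (Additive.toMul v)) = v
        rw [map_one, MulAut.one_apply, ofMul_toMul]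
      map_mul' := fun g h => LinearMap.ext fun v => by
        show Additive.ofMul (f (g * h) (Additive.toMul v)) =
          Additive.ofMul (f g (f h (Additive.toMul v)))
        rw [map_mul, MulAut.mul_apply] }
  have e : Nat.card (Additive W) = Nat.card W := Nat.card_congr Additive.toMul
  rw [← e] at hratio ⊢
  refine card_le_three (φ := φ) ⟨?_, ?_, hcop, hsq, hratio, hgood⟩
  · intro g h hgh
    refine hinj (MulEquiv.ext fun w => ?_)
    exact congrArg Additive.toMul (LinearMap.congr_fun hgh (Additive.ofMul w))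
  · intro v w hv hw
    obtain ⟨g, hg⟩ := htrans (Additive.toMul v) (Additive.toMul w)
      (fun h => hv (Additive.toMul.injective h)) (fun h => hw (Additive.toMul.injective h))
    exact ⟨g, Additive.toMul.injective hg⟩
open Classical in
include hp in
theorem card_le_three_of_normal_elementary (hM : IsPModular p M) {B : Set (IrrCharacter G)}
    (hB : IsPBlock M B) {A : Subgroup G} [A.Normal] (hD : IsDefectGroup p M B A)
    (hpow : ∀ a ∈ A, a ^ p = 1) (hab : ∀ a ∈ A, ∀ c ∈ A, a * c = c * a)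
    (hk : Nat.card B ≤ 3) : Nat.card A ≤ 3 := by
  by_contra hgt
  push Not at hgt
  haveI := Fintype.ofFinite A
  have hAp : IsPGroup p A := isPGroup_defectGroup hM hD
  have hsing : ∀ u ∈ A, u ≠ 1 → p ∣ orderOf u := fun u hu hu1 => by
    obtain ⟨k, hk⟩ := exists_orderOf_eq_pow_of_mem hAp hu
    rcases Nat.eq_zero_or_pos k with rfl | h0
    · exact absurd (orderOf_eq_one_iff.1 (by rw [hk, pow_zero])) hu1
    · rw [hk]; exact dvd_pow_self p h0.ne'
  have hcardA : Nat.card A = p ^ blockDefect p B := card_defectGroup hM hB hD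
  obtain ⟨u₀, hu₀, hu₀1⟩ : ∃ u ∈ A, u ≠ 1 := by
    by_contra h
    push Not at h
    have : A = ⊥ := (Subgroup.eq_bot_iff_forall _).2 h
    rw [this, Subgroup.card_bot] at hgt
    omega
  -- the characters trivial on the defect group
  let triv : IrrCharacter G → Prop := fun χ => ∀ a ∈ A, (χ : G → ℂ) a = (χ : G → ℂ) 1
  set B₀ := B.toFinset.filter triv with hB₀
  set B₁ := B.toFinset.filter fun χ => ¬ triv χ with hB₁
  have hsplit : B₀.card + B₁.card = Nat.card B := by
    rw [hB₀, hB₁, Finset.card_filter_add_card_filter_not, Set.toFinset_card,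
      Nat.card_eq_fintype_card]
  have hinfl : ∀ φ ∈ deflSet A B, infl A φ ∈ B₀ := fun φ hφ =>
    Finset.mem_filter.2 ⟨Set.mem_toFinset.2 hφ, fun a ha => by
      rw [infl_coe, Function.comp_apply, Function.comp_apply,
        (QuotientGroup.eq_one_iff a).2 ha, QuotientGroup.mk_one]⟩
  obtain ⟨b, hb, hbsub, -⟩ := exists_block_image hM A hAp hB
  obtain ⟨φ₀, hφ₀⟩ := nonempty_of_isPBlock hM hb
  have hB₀pos : 0 < B₀.card := Finset.card_pos.2 ⟨_, hinfl φ₀ (hbsub hφ₀)⟩
  have hdeg0 : ∀ u ∈ A, u ≠ 1 → ∑ χ ∈ B.toFinset, (χ : G → ℂ) 1 * (χ : G → ℂ) u = 0 :=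
    fun u hu hu1 => by
      have := sum_degree_sing hM hB (hsing u hu hu1)
      rwa [finsum_mem_eq_toFinset_sum] at this
  have hB₁pos : 0 < B₁.card := by
    rw [Finset.card_pos]
    by_contra h
    rw [Finset.not_nonempty_iff_eq_empty] at h
    have h0 := hdeg0 u₀ hu₀ hu₀1
    have e : ∑ χ ∈ B.toFinset, (χ : G → ℂ) 1 * (χ : G → ℂ) u₀ =
        ((∑ χ ∈ B.toFinset, charDegree (χ : G → ℂ) * charDegree (χ : G → ℂ) : ℕ) : ℂ) := by
      rw [Nat.cast_sum]
      refine Finset.sum_congr rfl fun χ hχ => ?_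
      have ht : triv χ := by
        by_contra ht
        exact Finset.notMem_empty χ (h ▸ Finset.mem_filter.2 ⟨hχ, ht⟩)
      rw [Nat.cast_mul, ht u₀ hu₀, apply_one_eq_charDegree]
    rw [e, Nat.cast_eq_zero, Finset.sum_eq_zero_iff] at h0
    obtain ⟨χ, hχ⟩ := nonempty_of_isPBlock hM hB
    have := h0 χ (Set.mem_toFinset.2 hχ)
    exact absurd this (Nat.mul_pos (charDegree_pos χ) (charDegree_pos χ)).ne'
  by_cases hone : B₀.card = 1
  · have hdefl : Nat.card (deflSet A B) ≤ 1 := by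
      rw [← hone, ← Nat.card_eq_finsetCard]
      refine Nat.card_le_card_of_injective (fun φ => ⟨infl A φ.1, hinfl φ.1 φ.2⟩) fun φ ψ h => ?_
      exact Subtype.ext (infl_injective A (congrArg Subtype.val h))
    have hl := (blockRank_le_deflSet hM A hAp hab hB).trans hdefl
    have := pow_defect_eq_card hM hB (by omega) (le_antisymm hl (blockRank_pos hM hB))
    omega
  obtain ⟨χ₁, χ₂, h12, hB₀eq⟩ := Finset.card_eq_two.1 (show B₀.card = 2 by omega)
  obtain ⟨χ₃, hB₁eq⟩ := Finset.card_eq_one.1 (show B₁.card = 1 by omega)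
  have hm₀ : ∀ {χ}, χ ∈ B₀ ↔ χ ∈ B ∧ triv χ := fun {χ} => by
    simp only [hB₀, Finset.mem_filter, Set.mem_toFinset]
  have hm₁ : ∀ {χ}, χ ∈ B₁ ↔ χ ∈ B ∧ ¬ triv χ := fun {χ} => by
    simp only [hB₁, Finset.mem_filter, Set.mem_toFinset]
  have hχ₁ := hm₀.1 (hB₀eq ▸ Finset.mem_insert_self χ₁ {χ₂})
  have hχ₂ := hm₀.1 (hB₀eq ▸ Finset.mem_insert_of_mem (Finset.mem_singleton_self χ₂))
  have hχ₃ := hm₁.1 (hB₁eq ▸ Finset.mem_singleton_self χ₃)
  set d₁ := charDegree (χ₁ : G → ℂ) with hd₁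
  set d₂ := charDegree (χ₂ : G → ℂ) with hd₂
  set d₃ := charDegree (χ₃ : G → ℂ) with hd₃
  -- the degree relation
  have hrel : d₃ ^ 2 = (Nat.card A - 1) * (d₁ ^ 2 + d₂ ^ 2) := by
    have hval : ∀ u ∈ A, u ≠ 1 →
        (d₃ : ℂ) * (χ₃ : G → ℂ) u = -((d₁ : ℂ) ^ 2 + (d₂ : ℂ) ^ 2) := by
      intro u hu hu1
      have h0 := hdeg0 u hu hu1
      rw [← Finset.sum_filter_add_sum_filter_not B.toFinset triv, ← hB₀, ← hB₁, hB₀eq, hB₁eq,
        Finset.sum_pair h12, Finset.sum_singleton, hχ₁.2 u hu, hχ₂.2 u hu,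
        apply_one_eq_charDegree χ₁, apply_one_eq_charDegree χ₂, apply_one_eq_charDegree χ₃] at h0
      linear_combination h0
    have hsum : ∑ a : A, (χ₃ : G → ℂ) a = 0 := by
      rcases Char.sum_coset_char_cases A χ₃.2 with h | ⟨h, -, -⟩
      · simpa using h 1
      · exact absurd (fun a ha => h ⟨a, ha⟩) hχ₃.2
    have hrest : ∀ a ∈ (Finset.univ : Finset A).erase 1,
        (d₃ : ℂ) * (χ₃ : G → ℂ) a = -((d₁ : ℂ) ^ 2 + (d₂ : ℂ) ^ 2) := fun a ha =>
      hval a a.2 fun h => Finset.ne_of_mem_erase ha (Subtype.ext h)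
    have hmul := congrArg ((d₃ : ℂ) * ·) hsum
    simp only [mul_zero, Finset.mul_sum] at hmul
    rw [← Finset.add_sum_erase _ _ (Finset.mem_univ (1 : A)), OneMemClass.coe_one,
      apply_one_eq_charDegree χ₃, ← hd₃, Finset.sum_congr rfl hrest, Finset.sum_const,
      Finset.card_erase_of_mem (Finset.mem_univ _), Finset.card_univ,
      ← Nat.card_eq_fintype_card, nsmul_eq_mul] at hmul
    have : ((d₃ ^ 2 : ℕ) : ℂ) = (((Nat.card A - 1) * (d₁ ^ 2 + d₂ ^ 2) : ℕ) : ℂ) := by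
      push_cast
      linear_combination hmul
    exact_mod_cast this
  -- the centralizer
  set C : Subgroup G := Subgroup.centralizer (A : Set G) with hC
  haveI hCn : C.Normal := inferInstance
  haveI := Fintype.ofFinite C
  have hAC : A ≤ C := fun a ha => Subgroup.mem_centralizer_iff.2 fun z hz => hab z hz a ha
  obtain ⟨θ, hθ₁⟩ := Char.exists_irr_constituent_res C χ₁.2
  set c := blockOf M (θ : C → ℂ) with hcdef
  have hc : IsPBlock M c := isPBlock_blockOf θ
  have hθc : θ ∈ c := self_mem_blockOf hM θ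
  set A' := A.subgroupOf C with hA'
  haveI hA'n : A'.Normal := Subgroup.Normal.subgroupOf inferInstance C
  haveI := Fintype.ofFinite A'
  have hA'Z : A' ≤ Subgroup.center C := fun z hz => Subgroup.mem_center_iff.2 fun g =>
    Subtype.ext (Subgroup.mem_centralizer_iff.1 g.2 (z : G) (Subgroup.mem_subgroupOf.1 hz)).symm
  have hDc : IsDefectGroup p M c A' := by
    obtain ⟨D, hD', hDb, -⟩ := exists_defectGroup_meet hM hc hB ⟨χ₁, hχ₁.1, θ, hθc, hθ₁⟩
    obtain ⟨x, hx⟩ := exists_conj_defectGroup hM hB hD hD'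
    have hAx : A.map (MulAut.conj x).toMonoidHom = A := by
      refine Subgroup.eq_of_le_of_card_ge ?_ (le_of_eq
        (Subgroup.card_map_of_injective (MulAut.conj x).injective).symm)
      rintro _ ⟨a, ha, rfl⟩
      exact ‹A.Normal›.conj_mem a ha x
    rw [hAx] at hx
    subst hx
    rwa [inf_eq_left.2 hAC] at hDb
  have hdown : ∀ {χ : IrrCharacter G} {η : IrrCharacter C}, triv χ →
      classInner (fun n : C => (χ : G → ℂ) n) (η : C → ℂ) ≠ 0 →
      ∀ a ∈ A', (η : C → ℂ) a = (η : C → ℂ) 1 := fun {χ η} ht hc' a ha =>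
    Char.apply_eq_of_constituent (χ.2.isCharacter.comp C.subtype) η.2 hc'
      (ht (a : G) (Subgroup.mem_subgroupOf.1 ha))
  have hθA : ∀ a ∈ A', (θ : C → ℂ) a = (θ : C → ℂ) 1 := hdown hχ₁.2 hθ₁
  have hover : ∀ {χ : IrrCharacter G} {η : IrrCharacter C}, η ∈ c →
      classInner (fun n : C => (χ : G → ℂ) n) (η : C → ℂ) ≠ 0 → χ ∈ B := by
    intro χ η hη hc'
    refine mem_of_sameBlock hM hB hχ₁.1 (sameBlock_of_regular_centralizer hM A hAp fun g _ hg => ?_)
    rw [show g = ((⟨g, hg⟩ : C) : G) from rfl, centralChar_eq_of_constituent C hθ₁,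
      centralChar_eq_of_constituent C hc']
    exact inducedCentralChar_congr C hM (sameBlock_of_mem hM hc hθc hη) _
  have huniq : ∀ {η : IrrCharacter C}, η ∈ c →
      (∀ a ∈ A', (η : C → ℂ) a = (η : C → ℂ) 1) → η = θ := fun {η} hη h =>
    eq_of_trivial_central hM hA'Z hc hDc hθc hθA hη h
  have hunder : ∀ η ∈ c, η ≠ θ →
      classInner (fun n : C => (χ₃ : G → ℂ) n) (η : C → ℂ) ≠ 0 := by
    intro η hη hne
    obtain ⟨χ, hχ⟩ := exists_over C η
    have hnt : ¬ triv χ := fun ht => hne (huniq hη (hdown ht hχ))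
    have hmem : χ ∈ B₁ := hm₁.2 ⟨hover hη hχ, hnt⟩
    rw [hB₁eq, Finset.mem_singleton] at hmem
    exact hmem ▸ hχ
  have hup : ∀ {χ : IrrCharacter G},
      classInner (fun n : C => (χ : G → ℂ) n) (θ : C → ℂ) ≠ 0 → triv χ := by
    intro χ hc' a ha
    have h := Char.clifford_res C χ.2 θ.2 hc'
    have e1 := congrFun h ⟨a, hAC ha⟩
    have e2 := congrFun h 1
    simp only [Pi.smul_apply, Finset.sum_apply, smul_eq_mul, OneMemClass.coe_one] at e1 e2
    rw [e1, e2]
    congr 1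
    refine Finset.sum_congr rfl fun φ hφ => ?_
    obtain ⟨g, rfl⟩ := (Char.mem_twistOrbit C).1 hφ
    rw [Char.conjTwist_apply_one, Char.conjTwist_apply]
    exact hθA _ (Subgroup.mem_subgroupOf.2 (‹A.Normal›.conj_mem a ha g))
  set T := Char.inertia C (θ : C → ℂ) with hT
  have hCT : C ≤ T := Char.le_inertia C θ.2.isClassFunction
  haveI := Fintype.ofFinite T
  -- transitivity
  have htrans : ∀ a₀ ∈ A, a₀ ≠ 1 → ∀ a₁ ∈ A, a₁ ≠ 1 → ∃ t ∈ T, t * a₀ * t⁻¹ = a₁ := by
    intro a₀ ha₀ ha₀1 a₁ ha₁ ha₁1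
    set f : C → ℂ := fun x => if ∃ t ∈ T, t * a₀ * t⁻¹ = (x : G) then 1 else 0 with hf
    set Φ : IrrCharacter C → ℂ := fun η => ∑ a : A', f a * conj ((η : C → ℂ) a) with hΦ
    have hΦinv : ∀ η ∈ c, η ≠ θ → ∀ η' ∈ c, η' ≠ θ →
        Φ η' = Φ η ∧ (η' : C → ℂ) 1 = (η : C → ℂ) 1 := by
      intro η hη hne η' hη' hne'
      obtain ⟨g, hg⟩ := (Char.mem_twistOrbit C).1 (Char.mem_twistOrbit_of_constituent C χ₃.2 η.2
        η'.2 (hunder η hη hne) (hunder η' hη' hne'))
      have hgT : g ∈ T := by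
        have h1 : SameBlock M (twistIrr C g θ : C → ℂ) (twistIrr C g η : C → ℂ) :=
          (sameBlock_twistIrr C g θ η).2 (sameBlock_of_mem hM hc hθc hη)
        have h2 : twistIrr C g η = η' := Subtype.ext (by rw [coe_twistIrr]; exact hg)
        rw [h2] at h1
        have h3 : twistIrr C g θ ∈ c := mem_of_sameBlock hM hc hη' (sameBlock_symm hM h1)
        have h4 := huniq h3 fun a ha => by
          rw [coe_twistIrr, Char.conjTwist_apply_one, Char.conjTwist_apply]
          exact hθA _ (Subgroup.mem_subgroupOf.2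
            (‹A.Normal›.conj_mem _ (Subgroup.mem_subgroupOf.1 ha) g))
        rw [hT, Char.mem_inertia]
        exact (coe_twistIrr C g θ).symm.trans (congrArg Subtype.val h4)
      refine ⟨?_, by rw [← hg, Char.conjTwist_apply_one]⟩
      let σ : A' → A' := fun a => ⟨⟨g * ((a : C) : G) * g⁻¹, hCn.conj_mem _ (a : C).2 g⟩,
        Subgroup.mem_subgroupOf.2 (‹A.Normal›.conj_mem _ (Subgroup.mem_subgroupOf.1 a.2) g)⟩
      have hσ : Function.Bijective σ := Finite.injective_iff_bijective.1 fun a a' h => by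
        have h' : g * ((a : C) : G) * g⁻¹ = g * ((a' : C) : G) * g⁻¹ :=
          congrArg (fun z : A' => ((z : C) : G)) h
        exact Subtype.ext (Subtype.ext (mul_left_cancel (mul_right_cancel h')))
      simp only [hΦ]
      refine Fintype.sum_bijective σ hσ _ _ fun a => ?_
      rw [← hg, Char.conjTwist_apply]
      congr 1
      simp only [hf]
      refine if_congr ⟨?_, ?_⟩ rfl rfl
      · rintro ⟨t, ht, he⟩
        refine ⟨g * t, T.mul_mem hgT ht, ?_⟩
        show g * t * a₀ * (g * t)⁻¹ = g * ((a : C) : G) * g⁻¹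
        rw [← he]; group
      · rintro ⟨t, ht, he⟩
        refine ⟨g⁻¹ * t, T.mul_mem (T.inv_mem hgT) ht, ?_⟩
        have he' : t * a₀ * t⁻¹ = g * ((a : C) : G) * g⁻¹ := he
        calc g⁻¹ * t * a₀ * (g⁻¹ * t)⁻¹ = g⁻¹ * (t * a₀ * t⁻¹) * g := by group
          _ = ((a : C) : G) := by rw [he']; group
    obtain ⟨κ, hκ⟩ : ∃ κ : ℂ, ∀ η ∈ c, η ≠ θ → Φ η = κ * (η : C → ℂ) 1 := by
      by_cases h : ∃ η ∈ c, η ≠ θ
      · obtain ⟨η, hη, hne⟩ := h
        refine ⟨Φ η / (η : C → ℂ) 1, fun η' hη' hne' => ?_⟩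
        obtain ⟨e1, e2⟩ := hΦinv η hη hne η' hη' hne'
        rw [e1, e2, div_mul_cancel₀ _ η.2.apply_one_ne_zero]
      · exact ⟨0, fun η hη hne => absurd ⟨η, hη, hne⟩ h⟩
    have h := const_of_inner_central hM hA'Z hc hDc hθc hθA f κ (fun η hη hne => by
        have := hκ η hη hne
        simp only [hΦ] at this
        convert this using 3)
      (x := ⟨a₀, hAC ha₀⟩) (x' := ⟨a₁, hAC ha₁⟩) (Subgroup.mem_subgroupOf.2 ha₀)
      (fun e => ha₀1 (congrArg Subtype.val e)) (Subgroup.mem_subgroupOf.2 ha₁)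
      (fun e => ha₁1 (congrArg Subtype.val e))
    have h0 : f ⟨a₀, hAC ha₀⟩ = 1 := by
      simp only [hf]
      exact if_pos ⟨1, T.one_mem, by simp⟩
    rw [h0] at h
    by_contra hno
    simp only [hf, if_neg hno] at h
    exact one_ne_zero h
  -- the two characters of the inertia group
  haveI hCTn : (C.subgroupOf T).Normal := Subgroup.Normal.subgroupOf inferInstance T
  haveI := Fintype.ofFinite (C.subgroupOf T)
  have hθ₂ : classInner (fun n : C => (χ₂ : G → ℂ) n) (θ : C → ℂ) ≠ 0 := by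
    obtain ⟨θ₂, hθ₂⟩ := Char.exists_irr_constituent_res C χ₂.2
    obtain ⟨g, hg⟩ := constituent_conj C hM hB hc hχ₁.1 hθc hθ₁ hχ₂.1 hθ₂
    have h2 : classInner (fun n : C => (χ₂ : G → ℂ) n) (twistIrr C g θ₂ : C → ℂ) ≠ 0 := by
      rwa [classInner_twistIrr]
    rwa [← huniq hg (hdown hχ₂.2 h2)]
  obtain ⟨ψ₁, hψ₁, hψ₁θ, hind₁, -⟩ := Char.clifford_exists C θ.2 hCT rfl χ₁.2 hθ₁
  obtain ⟨ψ₂, hψ₂, hψ₂θ, hind₂, -⟩ := Char.clifford_exists C θ.2 hCT rfl χ₂.2 hθ₂
  obtain ⟨a₁, ha₁⟩ : ∃ a : ℕ, classInner (fun h : C => ψ₁ ⟨h, hCT h.2⟩) (θ : C → ℂ) = a :=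
    (hψ₁.isCharacter.comp (Subgroup.inclusion hCT)).exists_nat_classInner θ.2.isCharacter
  obtain ⟨a₂, ha₂⟩ : ∃ a : ℕ, classInner (fun h : C => ψ₂ ⟨h, hCT h.2⟩) (θ : C → ℂ) = a :=
    (hψ₂.isCharacter.comp (Subgroup.inclusion hCT)).exists_nat_classInner θ.2.isCharacter
  have ha₁0 : a₁ ≠ 0 := fun h => hψ₁θ (by rw [ha₁, h, Nat.cast_zero])
  have ha₂0 : a₂ ≠ 0 := fun h => hψ₂θ (by rw [ha₂, h, Nat.cast_zero])
  have hinv : ∀ t : T, Char.conjTwist (C.subgroupOf T) (Char.resTo C (θ : C → ℂ) T) t =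
      Char.resTo C (θ : C → ℂ) T := fun t => by
    funext x
    exact (Char.mem_inertia_iff C).mp (show (t : G) ∈ Char.inertia C (θ : C → ℂ) from t.2)
      ⟨(x : T), Subgroup.mem_subgroupOf.mp x.2⟩
  obtain ⟨hidx, hgood⟩ := twoOver_facts (C.subgroupOf T) (Char.isIrrCharacter_resTo C θ.2 hCT) hinv
    ⟨ψ₁, hψ₁⟩ ⟨ψ₂, hψ₂⟩ (fun e => h12 (Subtype.ext (by
      rw [← hind₁, ← hind₂, show ψ₁ = ψ₂ from congrArg Subtype.val e])))
    a₁ a₂ ha₁0 ha₂0
    ((Char.classInner_resTo C (θ : C → ℂ) hCT ψ₁).trans ha₁)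
    ((Char.classInner_resTo C (θ : C → ℂ) hCT ψ₂).trans ha₂) (by
    intro ρ hρ
    rw [Char.classInner_resTo C (θ : C → ℂ) hCT (ρ : T → ℂ)] at hρ
    obtain ⟨hirr, hmult⟩ := Char.clifford_induce C θ.2 hCT rfl ρ.2 hρ
    have hne : classInner (fun n : C => indFun T (ρ : T → ℂ) n) (θ : C → ℂ) ≠ 0 := hmult ▸ hρ
    have hmem : (⟨_, hirr⟩ : IrrCharacter G) ∈ B₀ :=
      hm₀.2 ⟨hover hθc hne, hup (χ := ⟨_, hirr⟩) hne⟩
    rw [hB₀eq, Finset.mem_insert, Finset.mem_singleton] at hmem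
    rcases hmem with e | e
    · exact Or.inl (Subtype.ext (Char.clifford_injective C θ.2 hCT rfl ρ.2 hψ₁ hρ hψ₁θ
        ((congrArg Subtype.val e).trans hind₁.symm)))
    · exact Or.inr (Subtype.ext (Char.clifford_injective C θ.2 hCT rfl ρ.2 hψ₂ hρ hψ₂θ
        ((congrArg Subtype.val e).trans hind₂.symm))))
  set r := T.index * charDegree (θ : C → ℂ) with hr
  have hdeg : ∀ (χ : IrrCharacter G) (ψ : T → ℂ) (a : ℕ), IsIrrCharacter T ψ →
      classInner (fun h : C => ψ ⟨h, hCT h.2⟩) (θ : C → ℂ) = a → a ≠ 0 →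
      indFun T ψ = (χ : G → ℂ) → charDegree (χ : G → ℂ) = r * a := by
    intro χ ψ a hψ ha ha0 hind
    have h1 := congrFun (Char.res_eq_smul C θ.2 hCT rfl hψ
      (by rw [ha]; exact_mod_cast ha0)) 1
    simp only [Pi.smul_apply, smul_eq_mul, ha] at h1
    refine charDegree_eq_of_apply_one ?_
    rw [← hind, Char.indFun_apply_one, show ψ 1 = (a : ℂ) * (θ : C → ℂ) 1 from h1,
      apply_one_eq_charDegree θ, hr]
    push_cast
    ring
  have hd₁' : d₁ = r * a₁ := hdeg χ₁ ψ₁ a₁ hψ₁ ha₁ ha₁0 hind₁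
  have hd₂' : d₂ = r * a₂ := hdeg χ₂ ψ₂ a₂ hψ₂ ha₂ ha₂0 hind₂
  -- the order of the quotient is prime to `p`
  set e := (Nat.card (T ⧸ C.subgroupOf T)).factorization p with he
  have hcardE : Nat.card (T ⧸ C.subgroupOf T) = a₁ ^ 2 + a₂ ^ 2 := by
    rw [← hidx, Subgroup.index_eq_card]
  have hheight := (normal_defect_abelian_iff hM hB hD).1 hab
  have hθdvd : charDegree (θ : C → ℂ) ∣ A'.index := by
    haveI := Fintype.ofFinite (C ⧸ A')
    obtain ⟨φ, hφ, hφθ⟩ := Char.exists_deflate_irr A' θ.2 hθA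
    have h1 := charDegree_dvd_card (⟨φ, hφ⟩ : IrrCharacter (C ⧸ A'))
    have h2 : charDegree φ = charDegree (θ : C → ℂ) :=
      charDegree_eq_of_apply_one (by
        rw [← QuotientGroup.mk_one, hφθ, apply_one_eq_charDegree])
    rw [Subgroup.index_eq_card, ← h2]
    exact h1
  have hle_e : ∀ (χ : IrrCharacter G) (a : ℕ), χ ∈ B → a ≠ 0 →
      charDegree (χ : G → ℂ) = r * a → e ≤ a.factorization p := by
    intro χ a hχ ha0 hd
    have hv := factorization_of_height_zero hχ (hheight χ hχ)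
    have hG : Nat.card G = T.index * (Nat.card (T ⧸ C.subgroupOf T) * (A'.index * Nat.card A')) := by
      rw [Subgroup.index_mul_card A', ← Nat.card_congr (Subgroup.subgroupOfEquivOfLe hCT).toEquiv,
        ← Subgroup.card_eq_card_quotient_mul_card_subgroup, Subgroup.index_mul_card T]
    have hA'card : Nat.card A' = p ^ blockDefect p B := by
      rw [← hcardA, hA', Nat.card_congr (Subgroup.subgroupOfEquivOfLe hAC).toEquiv]
    have hT0 : T.index ≠ 0 := Subgroup.index_ne_zero_of_finite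
    have hA0 : A'.index ≠ 0 := Subgroup.index_ne_zero_of_finite
    have hθ0 := (charDegree_pos θ).ne'
    have hE0 : Nat.card (T ⧸ C.subgroupOf T) ≠ 0 := Nat.card_pos.ne'
    have hp0 : p ^ blockDefect p B ≠ 0 := pow_ne_zero _ hp.out.ne_zero
    rw [hd, hr, hG, hA'card, Nat.factorization_mul (mul_ne_zero hT0 hθ0) ha0,
      Nat.factorization_mul hT0 hθ0,
      Nat.factorization_mul hT0 (mul_ne_zero hE0 (mul_ne_zero hA0 hp0)),
      Nat.factorization_mul hE0 (mul_ne_zero hA0 hp0), Nat.factorization_mul hA0 hp0,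
      hp.out.factorization_pow] at hv
    simp only [Finsupp.add_apply, Finsupp.single_eq_same, ← he] at hv
    have := (Nat.factorization_le_iff_dvd hθ0 hA0).2 hθdvd p
    omega
  have hcop : ¬ p ∣ Nat.card (T ⧸ C.subgroupOf T) := by
    intro hdvd
    have hpos : 0 < e := hp.out.factorization_pos_of_dvd Nat.card_pos.ne' hdvd
    have h1 : p ^ e ∣ a₁ := (hp.out.pow_dvd_iff_le_factorization ha₁0).2
      (hle_e χ₁ a₁ hχ₁.1 ha₁0 hd₁')
    have h2 : p ^ e ∣ a₂ := (hp.out.pow_dvd_iff_le_factorization ha₂0).2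
      (hle_e χ₂ a₂ hχ₂.1 ha₂0 hd₂')
    have h3 : p ^ (e + e) ∣ Nat.card (T ⧸ C.subgroupOf T) := by
      rw [hcardE, pow_add, sq, sq]
      exact dvd_add (mul_dvd_mul h1 h1) (mul_dvd_mul h2 h2)
    have := (hp.out.pow_dvd_iff_le_factorization Nat.card_pos.ne').1 h3
    omega
  -- the action
  letI : CommGroup A :=
    { (inferInstance : Group A) with
      mul_comm := fun a c => Subtype.ext (hab a a.2 c c.2) }
  let φ₀ : T →* MulAut A := (MulAut.conjNormal (H := A)).comp T.subtype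
  have hact : ∀ (t : T) (v : A), ((φ₀ t v : A) : G) = (t : G) * (v : G) * (t : G)⁻¹ :=
    fun t v => MulAut.conjNormal_apply (t : G) v
  have hker : C.subgroupOf T ≤ φ₀.ker := fun t ht => MulEquiv.ext fun v => Subtype.ext (by
    rw [hact, ← Subgroup.mem_centralizer_iff.1 (Subgroup.mem_subgroupOf.1 ht) _ v.2,
      mul_inv_cancel_right]
    rfl)
  let φ := QuotientGroup.lift (C.subgroupOf T) φ₀ hker
  have hmk : ∀ t : T, φ (t : T ⧸ C.subgroupOf T) = φ₀ t := fun t => rfl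
  have := card_le_three_mulAction (p := p) (fun x : A => Subtype.ext (hpow x x.2)) φ ?_ ?_ hcop
    ⟨a₁, a₂, hcardE⟩ ?_ hgood
  · omega
  · rw [injective_iff_map_eq_one]
    intro q hq
    obtain ⟨t, rfl⟩ := QuotientGroup.mk_surjective q
    rw [hmk] at hq
    refine (QuotientGroup.eq_one_iff _).2 (Subgroup.mem_subgroupOf.2
      (Subgroup.mem_centralizer_iff.2 fun a ha => ?_))
    have h1 := hact t ⟨a, ha⟩
    rw [hq, MulAut.one_apply] at h1
    exact mul_inv_eq_iff_eq_mul.1 h1.symm |>.symm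
  · intro v w hv hw
    obtain ⟨t, ht, hte⟩ := htrans (v : G) v.2 (fun h => hv (Subtype.ext h)) (w : G) w.2
      (fun h => hw (Subtype.ext h))
    refine ⟨((⟨t, ht⟩ : T) : T ⧸ C.subgroupOf T), Subtype.ext ?_⟩
    rw [hmk, hact]
    exact hte
  · refine ⟨r * (Nat.card A - 1), d₃, mul_ne_zero (mul_ne_zero Subgroup.index_ne_zero_of_finite
      (charDegree_pos θ).ne') (by omega), (charDegree_pos χ₃).ne', ?_⟩
    rw [hcardE, hrel, hd₁', hd₂']
    ring

end Cfsg.Lib.Block
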