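import Cfsg.Agent.Lib.Block.ThreeHeightLocal
import Cfsg.Agent.Lib.Block.SectionCount
import Cfsg.Agent.Lib.Block.AbelianSections
import Cfsg.Agent.Lib.Block.BrauerFeit
import Cfsg.Agent.Lib.PGroup.Basic

/-!
# Three characters and the count of characters of height zero

A block with three characters whose number of characters of height zero is that of the block
of the normalizer has a defect group of order three.
-/

set_option autoImplicit false
set_option linter.unusedSectionVars false
set_option maxHeartbeats 1000000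

namespace Cfsg.Lib.Block

open Cfsg
open scoped ComplexConjugate commutatorElement

universe u

variable {p : ℕ} [hp : Fact p.Prime] {M : Ideal AlgInt} {G : Type u} [Group G] [Fintype G]

include hp in
/-- Some block of the centralizer of an element of the defect group induces the block. -/
theorem exists_induced_of_mem_defect (hM : IsPModular p M) {B : Set (IrrCharacter G)}
    (hB : IsPBlock M B) {D : Subgroup G} (hD : IsDefectGroup p M B D) {u : G} (hu : u ∈ D) :
    ∃ b, IsInducedBlock M (Subgroup.centralizer ({u} : Set G)) b B := by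
  classical
  set H : Subgroup G := Subgroup.centralizer ({u} : Set G) with hH
  haveI := Fintype.ofFinite H
  set P := Subgroup.zpowers u with hPdef
  have hP : IsPGroup p P := (isPGroup_defectGroup hM hD).to_le (Subgroup.zpowers_le.2 hu)
  have hPH : P ≤ H := Subgroup.zpowers_le.2 (Subgroup.mem_centralizer_singleton_iff.2 rfl)
  have hCH : Subgroup.centralizer (P : Set G) ≤ H := fun x hx =>
    Subgroup.mem_centralizer_iff.2 fun z hz => by
      rw [Set.mem_singleton_iff.1 hz]
      exact Subgroup.mem_centralizer_iff.1 hx u (Subgroup.mem_zpowers u)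
  have hHN : H ≤ Subgroup.normalizer (P : Set G) := fun x hx => by
    refine Subgroup.centralizer_le_normalizer _ (Subgroup.mem_centralizer_iff.2 ?_)
    rintro z ⟨k, rfl⟩
    exact ((show Commute u x from Subgroup.mem_centralizer_iff.1 hx u rfl).zpow_left k).eq
  obtain ⟨ξ, hξ⟩ := (exists_brVec_iff_coeff hM hP hCH hHN hB).2
    ((exists_coeff_iff_conj_le hM hB hD hP).2 ⟨1, fun x ⟨d, hd, he⟩ => by
      subst he
      simpa using (Subgroup.zpowers_le.2 hu) hd⟩)
  obtain ⟨χ, hχ⟩ := exists_char_brauer hM hP hCH hHN ξ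
  have hmem : χ ∈ B := by
    by_contra hn
    have h1 := hχ (indVec B) (vInt_indVec hM hB)
    rw [hξ] at h1
    simp only [indVec, if_neg hn, res_zero] at h1
    exact one_ne_zero h1
  exact ⟨_, isInducedBlock_of_brRel hM hP hPH hCH hHN (isPBlock_blockOf ξ)
    (self_mem_blockOf hM ξ) hB hmem hχ⟩

include hp in
/-- If a block has at most one more character than it has simple modules, then the nonidentity
elements of its defect group are all conjugate. -/
theorem isConj_of_card_le_rank_add_one (hM : IsPModular p M) {B : Set (IrrCharacter G)}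
    (hB : IsPBlock M B) {D : Subgroup G} (hD : IsDefectGroup p M B D)
    (hk : Nat.card B ≤ blockRank p B + 1) {u v : G} (hu : u ∈ D) (hu1 : u ≠ 1) (hv : v ∈ D)
    (hv1 : v ≠ 1) : IsConj u v := by
  classical
  by_contra hconj
  let r : G → G := fun g =>
    if IsConj g 1 then 1 else Quotient.out (s := IsConj.setoid G) (Quotient.mk _ g)
  have hr : ∀ g : G, IsConj g (r g) := fun g => by
    simp only [r]
    split_ifs with h
    · exact h
    · exact (Quotient.mk_out (s := IsConj.setoid G) g).symm
  have hr' : ∀ g h : G, IsConj g h → r g = r h := fun g h hgh => by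
    simp only [r]
    have he : IsConj g 1 ↔ IsConj h 1 := ⟨fun h' => hgh.symm.trans h', fun h' => hgh.trans h'⟩
    have hq : Quotient.mk (IsConj.setoid G) g = Quotient.mk (IsConj.setoid G) h :=
      Quotient.sound hgh
    rw [hq]
    exact if_congr he rfl rfl
  set X : Finset G :=
    (Finset.univ.filter fun g : G => ∃ k : ℕ, orderOf g = p ^ k).image r with hXdef
  have hXp : ∀ x ∈ X, ∃ k : ℕ, orderOf x = p ^ k := fun x hx => by
    obtain ⟨g, hg, rfl⟩ := Finset.mem_image.1 hx
    obtain ⟨k, hk⟩ := (Finset.mem_filter.1 hg).2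
    obtain ⟨w, hw⟩ := isConj_iff.1 (hr g)
    exact ⟨k, by rw [← hw, ← hk]; exact (MulAut.conj w).orderOf_eq g⟩
  have hrX : ∀ x ∈ X, r x = x := fun x hx => by
    obtain ⟨g, -, rfl⟩ := Finset.mem_image.1 hx
    exact (hr' g _ (hr g)).symm
  have hmemX : ∀ g : G, (∃ k : ℕ, orderOf g = p ^ k) → r g ∈ X := fun g hg =>
    Finset.mem_image.2 ⟨g, Finset.mem_filter.2 ⟨Finset.mem_univ _, hg⟩, rfl⟩
  have hXrep : ∀ g : G, (∃ k : ℕ, orderOf g = p ^ k) → ∃! x, x ∈ X ∧ IsConj g x := fun g hg =>
    ⟨r g, ⟨hmemX g hg, hr g⟩,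
      fun x ⟨hx, hgx⟩ => by rw [← hrX x hx]; exact (hr' g x hgx).symm⟩
  have hr1 : r 1 = 1 := by simp [r]
  have h1X : (1 : G) ∈ X := hr1 ▸ hmemX 1 ⟨0, by simp⟩
  have hp' : IsPGroup p D := isPGroup_defectGroup hM hD
  set S : G → ℕ := fun x => ∑ᶠ b ∈ {b : Set (IrrCharacter (Subgroup.centralizer ({x} : Set G))) |
      IsInducedBlock M (Subgroup.centralizer ({x} : Set G)) b B}, blockRank p b with hS
  have htot : Nat.card B = ∑ x ∈ X, S x := card_block_eq_sum_rank hM hB X hXp hXrep
  have hS1 : S 1 = blockRank p B := by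
    exact_mod_cast (blockRank_indSet hM (H := Subgroup.centralizer ({(1 : G)} : Set G)) B).symm.trans
      (congrArg (Nat.cast (R := ℂ)) (blockRank_indSet_one hM hB))
  have hpos : ∀ w ∈ D, w ≠ 1 → 1 ≤ S (r w) := by
    intro w hw hw1
    obtain ⟨g, hg⟩ := isConj_iff.1 (hr w)
    obtain ⟨b, hb⟩ := exists_induced_of_mem_defect hM hB
      (isDefectGroup_conj hM hB hD g) (u := r w) ⟨w, hw, hg⟩
    refine (blockRank_pos hM hb.1).trans_le ?_
    simp only [hS]
    rw [finsum_mem_eq_finite_toFinset_sum _ (Set.toFinite _)]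
    exact Finset.single_le_sum (fun _ _ => Nat.zero_le _) ((Set.Finite.mem_toFinset _).2 hb)
  have hne1 : ∀ w : G, w ≠ 1 → r w ≠ 1 := fun w hw1 h => by
    obtain ⟨g, hg⟩ := isConj_iff.1 (hr w)
    rw [h] at hg
    exact hw1 (conj_eq_one_iff.1 hg)
  have hne : r u ≠ r v := fun h => hconj ((hr u).trans (h ▸ (hr v).symm))
  have hsub : ({1, r u, r v} : Finset G) ⊆ X := by
    intro x hx
    simp only [Finset.mem_insert, Finset.mem_singleton] at hx
    rcases hx with rfl | rfl | rfl
    · exact h1X
    · exact hmemX u (exists_orderOf_eq_pow_of_mem hp' hu)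
    · exact hmemX v (exists_orderOf_eq_pow_of_mem hp' hv)
  have h3 := Finset.sum_le_sum_of_subset (f := S) hsub
  rw [← htot, Finset.sum_insert (by simp [(hne1 u hu1).symm, (hne1 v hv1).symm]),
    Finset.sum_pair hne, hS1] at h3
  have := hpos u hu hu1
  have := hpos v hv hv1
  omega

include hp in
open Classical in
/-- The main statement. -/
theorem card_defect_eq_three (hM : IsPModular p M) {B : Set (IrrCharacter G)}
    (hB : IsPBlock M B) {D : Subgroup G} (hD : IsDefectGroup p M B D) (hk : Nat.card B = 3)
    {N : Subgroup G} (hN : N = Subgroup.normalizer (D : Set G))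
    {b : Set (IrrCharacter N)} (hb : IsPBlock M b)
    (hbD : IsDefectGroup p M b (D.subgroupOf N))
    (hAM : Nat.card {χ : IrrCharacter G // χ ∈ B ∧ blockHeight p B (χ : G → ℂ) = 0} =
      Nat.card {ψ : IrrCharacter N // ψ ∈ b ∧ blockHeight p b (ψ : N → ℂ) = 0}) :
    Nat.card D = 3 := by
  have hcardD : Nat.card D = p ^ blockDefect p B := card_defectGroup hM hB hD
  by_cases hl : blockRank p B = 1
  · rw [hcardD, pow_defect_eq_card hM hB (by omega) hl, hk]
  have hl2 : 2 ≤ blockRank p B := by
    have := blockRank_pos (p := p) hM hB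
    omega
  have hd0 : blockDefect p B ≠ 0 := fun h => by
    have := (card_eq_one_of_defect_zero hM hB h).1
    omega
  have hDp : IsPGroup p D := isPGroup_defectGroup hM hD
  obtain ⟨w, hw⟩ := exists_prime_orderOf_dvd_card' (G := D) p (hcardD ▸ dvd_pow_self p hd0)
  have hw1 : (w : G) ≠ 1 := fun h => hp.out.ne_one (by
    rw [← hw, ← Subgroup.orderOf_coe, h, orderOf_one])
  -- exponent
  have hexp : ∀ x ∈ D, x ^ p = 1 := by
    intro x hx
    by_cases hx1 : x = 1
    · rw [hx1, one_pow]
    obtain ⟨g, hg⟩ := isConj_iff.1 (isConj_of_card_le_rank_add_one hM hB hD (by omega)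
      hx hx1 w.2 hw1)
    have : orderOf x = p := by
      rw [← hw, ← Subgroup.orderOf_coe w, ← hg]
      exact ((MulAut.conj g).orderOf_eq x).symm
    rw [← this, pow_orderOf_eq_one]
  -- the quotient by the Frattini subgroup
  haveI := Fintype.ofFinite N
  set D' : Subgroup N := D.subgroupOf N with hD'
  haveI hD'n : D'.Normal := by subst hN; exact Subgroup.normal_in_normalizer
  have hDN : D ≤ N := hN ▸ Subgroup.le_normalizer
  have hD'p : IsPGroup p D' := isPGroup_defectGroup hM hbD
  set K : Subgroup N := (frattini D').map D'.subtype with hK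
  haveI hKn : K.Normal := inferInstance
  have hKp : IsPGroup p K := hD'p.to_le (Subgroup.map_subtype_le _)
  haveI := Fintype.ofFinite (N ⧸ K)
  obtain ⟨bb, hbb, hbsub, hiff⟩ := exists_block_image hM K hKp hb
  set A : Subgroup (N ⧸ K) := D'.map (QuotientGroup.mk' K) with hA
  haveI hAn : A.Normal := hD'n.map _ (QuotientGroup.mk'_surjective K)
  have hAD : IsDefectGroup p M bb A := (hiff A).2 ⟨D', hbD, rfl⟩
  have hab : ∀ a ∈ A, ∀ c ∈ A, a * c = c * a := by
    rintro _ ⟨a, ha, rfl⟩ _ ⟨c, hc, rfl⟩
    rw [← map_mul, ← map_mul, QuotientGroup.mk'_apply, QuotientGroup.mk'_apply, QuotientGroup.eq]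
    refine ⟨(⟨a, ha⟩ * ⟨c, hc⟩)⁻¹ * (⟨c, hc⟩ * ⟨a, ha⟩), ?_, rfl⟩
    refine PGroup.commutator_le_frattini hD'p ?_
    rw [show ((⟨a, ha⟩ : D') * ⟨c, hc⟩)⁻¹ * (⟨c, hc⟩ * ⟨a, ha⟩) =
      ⁅(⟨c, hc⟩ : D')⁻¹, (⟨a, ha⟩ : D')⁻¹⁆ by rw [commutatorElement_def]; group, commutator_def]
    exact Subgroup.commutator_mem_commutator (Subgroup.mem_top _) (Subgroup.mem_top _)
  have hpowA : ∀ a ∈ A, a ^ p = 1 := by
    rintro _ ⟨a, ha, rfl⟩
    rw [← map_pow, show a ^ p = 1 from Subtype.ext (by
      rw [SubgroupClass.coe_pow, OneMemClass.coe_one]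
      exact hexp _ (Subgroup.mem_subgroupOf.1 ha)), map_one]
  -- the count
  have hheight := (normal_defect_abelian_iff hM hbb hAD).1 hab
  have hkbb : Nat.card bb ≤ 3 := by
    have hinflh : ∀ φ ∈ bb,
        infl K φ ∈ b ∧ blockHeight p b (infl K φ : N → ℂ) = 0 := by
      intro φ hφ
      have hmem : infl K φ ∈ b := hbsub hφ
      refine ⟨hmem, ?_⟩
      have h1 := factorization_of_height_zero hφ (hheight φ hφ)
      have hdeg : charDegree (infl K φ : N → ℂ) = charDegree (φ : N ⧸ K → ℂ) := by
        simp only [charDegree, infl_coe, Function.comp_apply, QuotientGroup.mk_one]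
      have hsplit : (Nat.card N).factorization p =
          (Nat.card (N ⧸ K)).factorization p + (Nat.card K).factorization p := by
        rw [Subgroup.card_eq_card_quotient_mul_card_subgroup K,
          Nat.factorization_mul Nat.card_pos.ne' Nat.card_pos.ne', Finsupp.add_apply]
      have hd : blockDefect p b = blockDefect p bb + (Nat.card K).factorization p := by
        have e1 := card_defectGroup hM hb hbD
        have e2 := card_defectGroup hM hbb hAD
        have e3 : Nat.card D' = Nat.card A * Nat.card K := by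
          have := Subgroup.card_mul_index ((QuotientGroup.mk' K).comp D'.subtype).ker
          rw [Subgroup.index_ker, MonoidHom.range_comp, Subgroup.range_subtype, ← hA] at this
          have e4 : Nat.card ((QuotientGroup.mk' K).comp D'.subtype).ker = Nat.card K := by
            rw [show ((QuotientGroup.mk' K).comp D'.subtype).ker = K.subgroupOf D' by
              rw [← MonoidHom.comap_ker, QuotientGroup.ker_mk']; rfl,
              Nat.card_congr (Subgroup.subgroupOfEquivOfLe (Subgroup.map_subtype_le _)).toEquiv]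
          rw [e4] at this
          rw [← this, mul_comm]
        obtain ⟨j, hj⟩ := IsPGroup.iff_card.1 hKp
        rw [e1, e2, hj, ← pow_add] at e3
        rw [Nat.pow_right_injective hp.out.two_le e3, hj, hp.out.factorization_pow,
          Finsupp.single_eq_same]
      have h2 : sInf ((fun ψ : IrrCharacter N => (charDegree (ψ : N → ℂ)).factorization p) '' b) ≤
          (charDegree (infl K φ : N → ℂ)).factorization p := Nat.sInf_le ⟨_, hmem, rfl⟩
      have h3 : (charDegree (infl K φ : N → ℂ)).factorization p ≤ (Nat.card N).factorization p :=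
        (Nat.factorization_le_iff_dvd (charDegree_pos _).ne' Nat.card_pos.ne').2
          (charDegree_dvd_card _) p
      rw [blockHeight]
      rw [blockDefect] at hd
      rw [hdeg] at h2 h3 ⊢
      omega
    calc Nat.card bb ≤ Nat.card {ψ : IrrCharacter N //
          ψ ∈ b ∧ blockHeight p b (ψ : N → ℂ) = 0} :=
          Nat.card_le_card_of_injective (fun φ => ⟨infl K φ.1, hinflh φ.1 φ.2⟩) fun φ φ' h =>
            Subtype.ext (infl_injective K (congrArg Subtype.val h))
      _ = Nat.card {χ : IrrCharacter G // χ ∈ B ∧ blockHeight p B (χ : G → ℂ) = 0} := hAM.symm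
      _ ≤ Nat.card B := Nat.card_le_card_of_injective (fun χ => ⟨χ.1, χ.2.1⟩) fun χ χ' h =>
            Subtype.ext (congrArg Subtype.val h :)
      _ = 3 := hk
  have hA3 : Nat.card A ≤ 3 := card_le_three_of_normal_elementary hM hbb hAD hpowA hab hkbb
  -- the defect group is cyclic
  have hidx : (frattini D').index = Nat.card A := by
    have hker : ((QuotientGroup.mk' K).comp D'.subtype).ker = frattini D' := by
      rw [← MonoidHom.comap_ker, QuotientGroup.ker_mk', hK,
        Subgroup.comap_map_eq_self_of_injective (Subgroup.subtype_injective _)]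
    rw [← hker, Subgroup.index_ker, MonoidHom.range_comp, Subgroup.range_subtype, ← hA]
  have hcardD' : Nat.card D' = Nat.card D :=
    Nat.card_congr (Subgroup.subgroupOfEquivOfLe hDN).toEquiv
  haveI : Nontrivial D' := Finite.one_lt_card_iff_nontrivial.1 (by
    rw [hcardD', hcardD]; exact Nat.one_lt_pow hd0 hp.out.one_lt)
  have hFne : frattini D' ≠ ⊤ := fun h => by
    have := frattini_nongenerating (G := D') (K := ⊥) (by rw [h, bot_sup_eq])
    exact bot_ne_top this
  obtain ⟨g, hg⟩ : ∃ g : D', g ∉ frattini D' := by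
    by_contra h
    push Not at h
    exact hFne ((Subgroup.eq_top_iff' _).2 h)
  obtain ⟨j, hj⟩ := IsPGroup.iff_card.1 (isPGroup_defectGroup hM hAD)
  have hj1 : j = 1 := by
    rcases j with _ | _ | j
    · rw [pow_zero, ← hidx] at hj
      exact absurd (Subgroup.index_eq_one.1 hj) hFne
    · rfl
    · exfalso
      rw [hj] at hA3
      have : 2 ^ 2 ≤ p ^ (j + 1 + 1) :=
        (Nat.pow_le_pow_left hp.out.two_le 2).trans (Nat.pow_le_pow_right hp.out.pos (by omega))
      omega
  rw [hj1, pow_one] at hj
  rw [hj] at hidx hA3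
  have hgen : Subgroup.zpowers g = ⊤ := by
    refine frattini_nongenerating ?_
    have hdvd := Subgroup.index_dvd_of_le
      (le_sup_right : frattini D' ≤ Subgroup.zpowers g ⊔ frattini D')
    rw [hidx] at hdvd
    rcases (Nat.dvd_prime hp.out).1 hdvd with h | h
    · exact Subgroup.index_eq_one.1 h
    · exfalso
      have heq : frattini D' = Subgroup.zpowers g ⊔ frattini D' := by
        refine Subgroup.eq_of_le_of_card_ge le_sup_right (Nat.le_of_mul_le_mul_right (le_of_eq ?_)
          hp.out.pos)
        have e1 := Subgroup.card_mul_index (Subgroup.zpowers g ⊔ frattini D')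
        have e2 := Subgroup.card_mul_index (frattini D')
        rw [h] at e1
        rw [hidx] at e2
        rw [e1, e2]
      exact hg (heq.symm ▸ Subgroup.mem_sup_left (Subgroup.mem_zpowers g))
  have hgp : orderOf g ∣ p := orderOf_dvd_of_pow_eq_one (Subtype.ext (Subtype.ext (by
    rw [SubgroupClass.coe_pow, SubgroupClass.coe_pow]
    exact hexp _ (Subgroup.mem_subgroupOf.1 g.2))))
  have hDdvd : Nat.card D ∣ p := by
    rw [← hcardD', ← Subgroup.card_top (G := D'), ← hgen, Nat.card_zpowers]
    exact hgp
  have hDp' : Nat.card D = p := by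
    rcases (Nat.dvd_prime hp.out).1 hDdvd with h | h
    · exfalso
      rw [hcardD] at h
      exact hd0 ((Nat.pow_eq_one.1 h).resolve_left hp.out.ne_one)
    · exact h
  rcases Nat.lt_or_ge p 3 with h2 | h3
  · exfalso
    have hp2 : p = 2 := by have := hp.out.two_le; omega
    have hd1 : blockDefect p B = 1 := Nat.pow_right_injective hp.out.two_le
      (show p ^ blockDefect p B = p ^ 1 by rw [← hcardD, hDp', pow_one])
    have := card_block_le hM hB
    rw [hd1, hp2, hk] at this
    norm_num at this
  · omega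

end Cfsg.Lib.Block
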