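import Cfsg.Agent.Lib.Block.RankPlusOne
import Cfsg.Agent.Lib.Block.DihedralColumns
import Cfsg.Agent.Lib.Block.BrauerFeit
import Cfsg.Agent.Lib.Block.SmallCenter
import Cfsg.Agent.Lib.Char.Indicator
import Cfsg.Agent.Lib.Char.Galois

/-!
# Three characters in the principal block

The number of square roots of the elements in the section of a `p`-element with complemented
centralizer gives a linear relation between the values of the principal block at that element.
-/

set_option autoImplicit false
set_option linter.unusedSectionVars false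
set_option linter.style.haveILetI false
set_option maxHeartbeats 1000000

namespace Cfsg.Lib.Block

open Cfsg
open scoped ComplexConjugate

universe u

noncomputable local instance (priority := high) fintypeSubgroupThreePrincipal {A : Type u}
    [Group A] [Fintype A] (H : Subgroup A) : Fintype H := Fintype.ofFinite H

variable {p : ℕ} [hp : Fact p.Prime] {M : Ideal AlgInt} {G : Type u} [Group G] [Fintype G]

open Classical in
/-- Column orthogonality counted by conjugating elements. -/
theorem column_eq_card_conj (a b : G) :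
    ∑ χ : IrrCharacter G, (χ : G → ℂ) a * conj ((χ : G → ℂ) b) =
      ((Finset.univ.filter fun g : G => g * a * g⁻¹ = b).card : ℂ) := by
  rw [Char.column_orthogonality]
  split_ifs with h
  · obtain ⟨c, rfl⟩ := isConj_iff.1 h
    rw [Nat.card_eq_fintype_card, ← Finset.card_univ, Nat.cast_inj]
    refine Finset.card_bij (fun g _ => c * (g : G)) (fun g _ => ?_)
      (fun g _ g' _ he => Subtype.ext (mul_left_cancel he)) fun g hg => ?_
    · refine Finset.mem_filter.2 ⟨Finset.mem_univ _, ?_⟩
      calc c * (g : G) * a * (c * (g : G))⁻¹ = c * ((g : G) * a * (g : G)⁻¹) * c⁻¹ := by group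
        _ = c * a * c⁻¹ := by
          rw [Subgroup.mem_centralizer_singleton_iff.1 g.2, mul_inv_cancel_right]
    · have he := (Finset.mem_filter.1 hg).2
      refine ⟨⟨c⁻¹ * g, Subgroup.mem_centralizer_singleton_iff.2 ?_⟩, Finset.mem_univ _,
        mul_inv_cancel_left c g⟩
      calc c⁻¹ * g * a = c⁻¹ * (g * a * g⁻¹) * g := by group
        _ = c⁻¹ * (c * a * c⁻¹) * g := by rw [he]
        _ = a * (c⁻¹ * g) := by group
  · rw [Finset.card_eq_zero.2 (Finset.filter_eq_empty_iff.2 fun g _ he =>
      h (isConj_iff.2 ⟨g, he⟩)), Nat.cast_zero]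

open Classical in
/-- The indicators count square roots. -/
theorem sum_indicator_mul_conj (g : G) :
    ∑ χ : IrrCharacter G, (∑ s, (χ : G → ℂ) (s * s)) * conj ((χ : G → ℂ) g) =
      (Nat.card G : ℂ) * ((Finset.univ.filter fun s : G => s * s = g).card : ℂ) := by
  simp only [Finset.sum_mul]
  rw [Finset.sum_comm]
  simp only [column_eq_card_conj, Finset.card_filter, Nat.cast_sum]
  rw [Finset.sum_comm, Finset.sum_congr rfl (g := fun _ : G => ∑ s : G,
    ((if s * s = g then 1 else 0 : ℕ) : ℂ)) fun h _ => ?_, Finset.sum_const, Finset.card_univ,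
    nsmul_eq_mul, ← Nat.card_eq_fintype_card]
  refine Fintype.sum_equiv (MulAut.conj h).toEquiv _ _ fun s => ?_
  simp only [MulEquiv.toEquiv_eq_coe, EquivLike.coe_coe, MulAut.conj_apply,
    show h * s * h⁻¹ * (h * s * h⁻¹) = h * (s * s) * h⁻¹ by group]

open Classical in
/-- The `p`-regular elements commuting with `w`. -/
noncomputable def regCent (p : ℕ) (w : G) : Finset G :=
  Finset.univ.filter fun y => Commute w y ∧ ¬ p ∣ orderOf y

theorem mem_regCent {w y : G} : y ∈ regCent p w ↔ Commute w y ∧ ¬ p ∣ orderOf y := by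
  classical
  simp [regCent]

section Section

variable (hM : IsPModular p M) {w : G} (hw : ∃ k : ℕ, orderOf w = p ^ k)
  (hc : HasNormalPComplement p (Subgroup.centralizer ({w} : Set G)))

include hp hw in
theorem commute_of_conj_section {g y y' : G} (hy : y ∈ regCent p w) (hy' : y' ∈ regCent p w)
    (h : g * (w * y) * g⁻¹ = w * y') : Commute g w := by
  obtain ⟨hyc, hyr⟩ := mem_regCent.1 hy
  obtain ⟨hyc', hyr'⟩ := mem_regCent.1 hy'
  obtain ⟨k, hk⟩ := hw
  have h1 : w = pPt p (w * y') := eq_pPt rfl hyc' hk hyr'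
  have h2 : g * w * g⁻¹ = pPt p (w * y') := eq_pPt (y := g * y * g⁻¹) (by rw [← h]; group)
    (hyc.map (MulAut.conj g).toMonoidHom) (k := k) (by
      rw [← hk]; exact (MulAut.conj g).orderOf_eq w) (by
      rw [show g * y * g⁻¹ = MulAut.conj g y from rfl, MulEquiv.orderOf_eq]; exact hyr)
  exact mul_inv_eq_iff_eq_mul.1 (h2.trans h1.symm)

theorem conj_mem_regCent {g y : G} (hg : Commute g w) (hy : y ∈ regCent p w) :
    g * y * g⁻¹ ∈ regCent p w := by
  obtain ⟨hyc, hyr⟩ := mem_regCent.1 hy
  refine mem_regCent.2 ⟨?_, ?_⟩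
  · have h := hyc.map (MulAut.conj g).toMonoidHom
    simp only [MulEquiv.coe_toMonoidHom, MulAut.conj_apply] at h
    rwa [hg.eq, mul_inv_cancel_right] at h
  · rw [show g * y * g⁻¹ = MulAut.conj g y from rfl, MulEquiv.orderOf_eq]
    exact hyr

include hp hc in
theorem mem_regCent_iff_pResidual {h : Subgroup.centralizer ({w} : Set G)} :
    (h : G) ∈ regCent p w ↔ h ∈ pResidual p (Subgroup.centralizer ({w} : Set G)) := by
  rw [Fusion.mem_pResidual_iff_coprime hc, mem_regCent, Subgroup.orderOf_coe,
    coprime_orderOf_iff, IsPRegular]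
  exact ⟨fun h' => h'.2, fun h' =>
    ⟨(Subgroup.mem_centralizer_singleton_iff.1 h.2).symm, h'⟩⟩

include hp hc in
theorem card_regCent_mul (R : Sylow p (Subgroup.centralizer ({w} : Set G))) :
    (regCent p w).card * Nat.card (R : Subgroup (Subgroup.centralizer ({w} : Set G))) =
      Nat.card (Subgroup.centralizer ({w} : Set G)) := by
  classical
  rw [← (Fusion.isComplement'_pResidual hc R).card_mul_card]
  congr 1
  rw [Nat.card_eq_fintype_card, ← Finset.card_univ]
  refine (Finset.card_bij (s := (Finset.univ : Finset (pResidual p (Subgroup.centralizer ({w} : Set G)))))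
    (fun h _ => ((h : Subgroup.centralizer ({w} : Set G)) : G))
    (fun h _ => (mem_regCent_iff_pResidual hc).2 h.2)
    (fun h _ h' _ he => Subtype.ext (Subtype.ext he)) fun y hy => ?_).symm
  exact ⟨⟨⟨y, Subgroup.mem_centralizer_singleton_iff.2 (mem_regCent.1 hy).1.symm.eq⟩,
    (mem_regCent_iff_pResidual hc).1 hy⟩, Finset.mem_univ _, rfl⟩

theorem regCent_pos : 0 < (regCent p w).card :=
  Finset.card_pos.2 ⟨1, mem_regCent.2 ⟨Commute.one_right w, by
    rw [orderOf_one, Nat.dvd_one]; exact (Fact.out : p.Prime).ne_one⟩⟩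

include hp hw in
/-- The squared sums of all characters over the section. -/
theorem sum_sectionSum_sq :
    ∑ χ : IrrCharacter G, (∑ y ∈ regCent p w, (χ : G → ℂ) (w * y)) *
        conj (∑ y ∈ regCent p w, (χ : G → ℂ) (w * y)) =
      ((regCent p w).card : ℂ) * (Nat.card (Subgroup.centralizer ({w} : Set G)) : ℂ) := by
  classical
  set K := regCent p w with hK
  simp only [map_sum, Finset.sum_mul_sum]
  rw [Finset.sum_comm]
  simp only [Finset.sum_comm (s := (Finset.univ : Finset (IrrCharacter G))), column_eq_card_conj]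
  rw [← nsmul_eq_mul, ← Finset.sum_const]
  refine Finset.sum_congr rfl fun y hy => ?_
  rw [← Nat.cast_sum, Nat.cast_inj, Nat.card_eq_fintype_card, ← Finset.card_univ]
  have e : (Finset.univ.filter fun g : G => Commute g w).card =
      (Finset.univ : Finset (Subgroup.centralizer ({w} : Set G))).card := by
    refine (Finset.card_bij (s := (Finset.univ : Finset (Subgroup.centralizer ({w} : Set G))))
      (fun h _ => (h : G)) (fun h _ => Finset.mem_filter.2
      ⟨Finset.mem_univ _, Subgroup.mem_centralizer_singleton_iff.1 h.2⟩)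
      (fun h _ h' _ he => Subtype.ext he) fun g hg => ?_).symm
    exact ⟨⟨g, Subgroup.mem_centralizer_singleton_iff.2 (Finset.mem_filter.1 hg).2.eq⟩,
      Finset.mem_univ _, rfl⟩
  rw [← e, Finset.card_eq_sum_card_fiberwise (s := Finset.univ.filter fun g : G => Commute g w)
    (f := fun g => w⁻¹ * (g * (w * y) * g⁻¹)) (t := K) fun g hg => ?_]
  · refine Finset.sum_congr rfl fun y' hy' => congrArg Finset.card (Finset.ext fun g => ?_)
    simp only [Finset.mem_filter, Finset.mem_univ, true_and, inv_mul_eq_iff_eq_mul]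
    exact ⟨fun h => ⟨commute_of_conj_section hw hy hy' h, h⟩, fun h => h.2⟩
  · have hg' : Commute g w := (Finset.mem_filter.1 hg).2
    rw [Finset.mem_coe]
    dsimp only
    rw [show w⁻¹ * (g * (w * y) * g⁻¹) = w⁻¹ * (g * w * g⁻¹) * (g * y * g⁻¹) by
      group, hg'.eq, mul_inv_cancel_right, inv_mul_cancel, one_mul]
    exact conj_mem_regCent hg' hy

include hM hw hc in
/-- The principal block is constant on the section. -/
theorem sectionSum_principal {χ : IrrCharacter G} (hχ : χ ∈ principalBlock M G) :
    ∑ y ∈ regCent p w, (χ : G → ℂ) (w * y) = ((regCent p w).card : ℂ) * (χ : G → ℂ) w := by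
  rw [Finset.sum_congr rfl fun y hy => principal_value_of_complement hM hw hc hχ
    (mem_regCent.1 hy).1 (mem_regCent.1 hy).2, Finset.sum_const, nsmul_eq_mul]

include hM hw hc in
/-- The sum over the section vanishes outside the principal block. -/
theorem sectionSum_eq_zero {χ : IrrCharacter G} (hχ : χ ∉ principalBlock M G) :
    ∑ y ∈ regCent p w, (χ : G → ℂ) (w * y) = 0 := by
  classical
  obtain ⟨R⟩ : Nonempty (Sylow p (Subgroup.centralizer ({w} : Set G))) := inferInstance
  set S : IrrCharacter G → ℂ := fun η => ∑ y ∈ regCent p w, (η : G → ℂ) (w * y) with hS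
  have hall := sum_sectionSum_sq (p := p) hw
  have hcol := principal_column hM hw hw (G := G)
  rw [if_pos (IsConj.refl w), principalDegSq_of_complement hM hc R,
    finsum_mem_eq_toFinset_sum] at hcol
  have hin : ∑ η ∈ (principalBlock M G).toFinset, S η * conj (S η) =
      ((regCent p w).card : ℂ) * (Nat.card (Subgroup.centralizer ({w} : Set G)) : ℂ) := by
    rw [Finset.sum_congr rfl (g := fun η : IrrCharacter G => ((regCent p w).card : ℂ) *
      ((regCent p w).card : ℂ) * ((η : G → ℂ) w * conj ((η : G → ℂ) w))) fun η hη => by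
        simp only [hS, sectionSum_principal hM hw hc (Set.mem_toFinset.1 hη), map_mul,
          map_natCast]
        ring, ← Finset.mul_sum, hcol, ← card_regCent_mul hc R]
    push_cast
    ring
  have hout : ∑ η ∈ (principalBlock M G).toFinsetᶜ, S η * conj (S η) = 0 := by
    have h := Finset.sum_add_sum_compl (principalBlock M G).toFinset fun η => S η * conj (S η)
    rw [hin] at h
    exact add_eq_left.1 (h.trans hall)
  simp only [Complex.mul_conj, ← Complex.ofReal_sum, Complex.ofReal_eq_zero] at hout
  exact Complex.normSq_eq_zero.1 ((Finset.sum_eq_zero_iff_of_nonneg fun η _ =>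
    Complex.normSq_nonneg _).1 hout χ (Finset.mem_compl.2 fun h => hχ (Set.mem_toFinset.1 h)))

include hp hw in
theorem exists_sqrt (hp2 : p ≠ 2) :
    ∃ s₀ : G, s₀ * s₀ = w ∧ ∀ g : G, Commute g w → Commute g s₀ := by
  obtain ⟨k, hk⟩ := hw
  obtain ⟨j, hj⟩ : Odd (p ^ k) := (hp.out.odd_of_ne_two hp2).pow
  refine ⟨w ^ (j + 1), ?_, fun g hg => hg.pow_right _⟩
  rw [← pow_add, show j + 1 + (j + 1) = p ^ k + 1 by omega, pow_succ, ← hk, pow_orderOf_eq_one,
    one_mul]

include hp hw hc in
/-- Each element of the section has one square root on the average. -/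
theorem sum_card_sqrt (hp2 : p ≠ 2) [DecidableEq G] :
    ∑ y ∈ regCent p w, (Finset.univ.filter fun s : G => s * s = w * y).card =
      (regCent p w).card := by
  classical
  obtain ⟨s₀, hs₀, hcs⟩ := exists_sqrt hw hp2
  set H := Subgroup.centralizer ({w} : Set G) with hH
  set N := pResidual p H with hN
  haveI : N.Normal := Fusion.pResidual_normal p H
  have hs₀H : s₀ ∈ H := Subgroup.mem_centralizer_singleton_iff.2
    (hcs w (Commute.refl w)).symm.eq
  have hwH : w ∈ H := Subgroup.mem_centralizer_singleton_iff.2 rfl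
  obtain ⟨R⟩ : Nonempty (Sylow p H) := inferInstance
  have hodd : (Nat.card (H ⧸ N)).Coprime 2 := by
    rw [← Subgroup.index_eq_card, (Fusion.isComplement'_pResidual hc R).symm.index_eq_card]
    obtain ⟨k, hk⟩ := IsPGroup.iff_card.1 R.isPGroup'
    rw [hk]
    exact ((Nat.coprime_primes hp.out Nat.prime_two).2 hp2).pow_left k
  have hsub : ∀ s : G, (∃ y ∈ regCent p w, s * s = w * y) ↔ s₀⁻¹ * s ∈ regCent p w := by
    intro s
    constructor
    · rintro ⟨y, hy, hsy⟩
      have hsw : Commute s w := commute_of_conj_section hw hy hy (by rw [← hsy]; group)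
      have hsH : s ∈ H := Subgroup.mem_centralizer_singleton_iff.2 hsw.eq
      have hyH : y ∈ H := Subgroup.mem_centralizer_singleton_iff.2 (mem_regCent.1 hy).1.symm.eq
      have hq : (QuotientGroup.mk' N ⟨s, hsH⟩) ^ 2 = (QuotientGroup.mk' N ⟨s₀, hs₀H⟩) ^ 2 := by
        rw [← map_pow, ← map_pow, QuotientGroup.mk'_eq_mk']
        refine ⟨(⟨y, hyH⟩ : H)⁻¹, inv_mem ((mem_regCent_iff_pResidual hc).1 hy), Subtype.ext ?_⟩
        simp only [Subgroup.coe_mul, InvMemClass.coe_inv, pow_two]
        rw [hsy, hs₀, mul_inv_cancel_right]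
      have he := (powCoprime hodd).injective hq
      rw [QuotientGroup.mk'_apply, QuotientGroup.mk'_apply, eq_comm, QuotientGroup.eq] at he
      exact (mem_regCent_iff_pResidual hc (h := ⟨s₀, hs₀H⟩⁻¹ * ⟨s, hsH⟩)).2 he
    · intro hs
      set n := s₀⁻¹ * s with hn
      have hsn : s = s₀ * n := (mul_inv_cancel_left _ _).symm
      have hnw : Commute n w := (mem_regCent.1 hs).1.symm
      refine ⟨n * n, mem_regCent.2 ⟨(hnw.symm.mul_right hnw.symm), fun h => (mem_regCent.1 hs).2
        (h.trans ?_)⟩, ?_⟩
      · rw [← pow_two]; exact orderOf_pow_dvd 2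
      · rw [hsn, ← hs₀, (hcs n hnw).mul_mul_mul_comm]
  rw [← Finset.card_biUnion fun y _ y' _ hne => Finset.disjoint_filter.2 fun s _ h h' =>
    hne (mul_left_cancel (h.symm.trans h'))]
  refine Finset.card_bij (fun s _ => s₀⁻¹ * s) (fun s hs => ?_)
    (fun s _ s' _ he => mul_left_cancel he) fun y hy => ⟨s₀ * y, ?_, inv_mul_cancel_left _ _⟩
  · obtain ⟨y, hy, hs'⟩ := Finset.mem_biUnion.1 hs
    exact (hsub s).1 ⟨y, hy, (Finset.mem_filter.1 hs').2⟩
  · obtain ⟨y', hy', he⟩ := (hsub (s₀ * y)).2 (by rwa [inv_mul_cancel_left])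
    exact Finset.mem_biUnion.2 ⟨y', hy', Finset.mem_filter.2 ⟨Finset.mem_univ _, he⟩⟩

open Classical in
include hM hw hc in
/-- The indicators weighted by the values at `w` sum to one on the principal block. -/
theorem sum_indicator_principal (hp2 : p ≠ 2) :
    ∑ χ ∈ (principalBlock M G).toFinset,
      (∑ s, (χ : G → ℂ) (s * s)) * conj ((χ : G → ℂ) w) = (Nat.card G : ℂ) := by
  set K := regCent p w with hK
  have hK0 : (K.card : ℂ) ≠ 0 := Nat.cast_ne_zero.2 regCent_pos.ne'
  refine mul_left_cancel₀ hK0 ?_
  have h : ∑ χ : IrrCharacter G, (∑ s, (χ : G → ℂ) (s * s)) *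
      conj (∑ y ∈ K, (χ : G → ℂ) (w * y)) = (K.card : ℂ) * (Nat.card G : ℂ) := by
    simp only [map_sum, Finset.mul_sum]
    rw [Finset.sum_comm, Finset.sum_congr rfl fun y _ => sum_indicator_mul_conj (w * y),
      ← Finset.mul_sum, ← Nat.cast_sum, sum_card_sqrt hw hc hp2, mul_comm]
  rw [← h, Finset.mul_sum]
  refine (Finset.sum_congr rfl fun χ hχ => ?_).trans
    (Finset.sum_subset (Finset.subset_univ _) fun χ _ hχ => by
      rw [sectionSum_eq_zero hM hw hc (fun h => hχ (Set.mem_toFinset.2 h)), map_zero, mul_zero])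
  rw [sectionSum_principal hM hw hc (Set.mem_toFinset.1 hχ), map_mul, map_natCast]
  ring

include hM hw hc in
/-- The principal block contains the conjugates of its characters that do not vanish at `w`. -/
theorem conjIrr_mem_principal {χ : IrrCharacter G} (hχ : χ ∈ principalBlock M G)
    (h0 : (χ : G → ℂ) w ≠ 0) :
    (⟨fun g => conj ((χ : G → ℂ) g), Char.isIrrCharacter_conjFn χ.2⟩ : IrrCharacter G) ∈
      principalBlock M G := by
  by_contra h
  have h1 := sectionSum_eq_zero hM hw hc h
  rw [← map_sum, sectionSum_principal hM hw hc hχ, map_eq_zero, mul_eq_zero] at h1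
  exact h1.elim (Nat.cast_ne_zero.2 regCent_pos.ne') h0

end Section

include hp in
/-- A principal block with three characters has a Sylow subgroup of order three. -/
theorem card_sylow_of_principal_three (hM : IsPModular p M)
    (hk : Nat.card (principalBlock M G) = 3) (D : Sylow p G) :
    Nat.card (D : Subgroup G) = 3 := by
  classical
  have hB : IsPBlock M (principalBlock M G) := isPBlock_principal
  have hD := isDefectGroup_principal_sylow hM D
  have hcard := card_defectGroup hM hB hD
  by_cases hl : blockRank p (principalBlock M G) = 1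
  · rw [hcard, pow_defect_eq_card hM hB (by omega) hl, hk]
  have hl2 := blockRank_pos (p := p) hM hB
  have hk1 : Nat.card (principalBlock M G) ≤ blockRank p (principalBlock M G) + 1 := by omega
  have hd : blockDefect p (principalBlock M G) ≠ 0 := fun h => by
    have := card_eq_one_of_defect_zero hM hB h
    omega
  have hnt : Nontrivial (D : Subgroup G) := Finite.one_lt_card_iff_nontrivial.1 (by
    rw [hcard]; exact Nat.one_lt_pow hd hp.out.one_lt)
  obtain ⟨⟨w, hwD⟩, hw1'⟩ := exists_ne (1 : (D : Subgroup G))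
  have hw1 : w ≠ 1 := fun h => hw1' (Subtype.ext h)
  have hw : ∃ k : ℕ, orderOf w = p ^ k := exists_orderOf_eq_pow_of_mem D.isPGroup' hwD
  have hc := hasNormalPComplement_centralizer_of_principal hM hk1 hw hw1
  have hel := isElementaryAbelian_of_card_le_rank_add_one hM hB hD hk1 (Or.inl rfl)
  have hle : (D : Subgroup G) ≤ Subgroup.centralizer ({w} : Set G) := fun x hx =>
    Subgroup.mem_centralizer_singleton_iff.2
      (congrArg Subtype.val (hel.1.is_comm.comm ⟨x, hx⟩ ⟨w, hwD⟩))
  have hR : Nat.card ((D.subtype hle : Sylow p (Subgroup.centralizer ({w} : Set G))) :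
      Subgroup (Subgroup.centralizer ({w} : Set G))) = Nat.card (D : Subgroup G) := by
    rw [Sylow.coe_subtype, Nat.card_congr (Subgroup.subgroupOfEquivOfLe hle).toEquiv]
  -- rational values
  have hint : ∀ χ : IrrCharacter G, ∃ m : ℤ, (χ : G → ℂ) w = m := fun χ => by
    refine Char.exists_int_of_pow_invariant χ.2.isCharacter w fun k hk' => ?_
    have hkw : w ^ k ≠ 1 := fun h => hw1 <| orderOf_eq_one_iff.1 <|
      Nat.dvd_one.1 (hk'.coprime_dvd_right (orderOf_dvd_natCard w) |>.symm.eq_one_of_dvd
        (orderOf_dvd_of_pow_eq_one h) ▸ dvd_rfl)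
    obtain ⟨g, hg⟩ := isConj_iff.1 (isConj_of_card_le_rank_add_one hM hB hD hk1
      hwD hw1 (pow_mem hwD k) hkw)
    rw [← hg, χ.2.isClassFunction]
  choose val hval using hint
  -- the three characters
  set T := (principalBlock M G).toFinset with hT
  have h1T : trivChar G ∈ T := Set.mem_toFinset.2 (trivChar_mem_principal hM)
  obtain ⟨χ₂, χ₃, hne, he⟩ := Finset.card_eq_two.1
    (show (T.erase (trivChar G)).card = 2 by
      rw [Finset.card_erase_of_mem h1T, hT, ← Nat.card_eq_card_toFinset, hk])
  have hTeq : T = insert (trivChar G) {χ₂, χ₃} := by rw [← he, Finset.insert_erase h1T]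
  have hn1 : trivChar G ∉ ({χ₂, χ₃} : Finset (IrrCharacter G)) := by
    rw [← he]; exact Finset.notMem_erase _ _
  have hsum : ∀ f : IrrCharacter G → ℂ, ∑ χ ∈ T, f χ = f (trivChar G) + (f χ₂ + f χ₃) := fun f => by
    rw [hTeq, Finset.sum_insert hn1, Finset.sum_pair hne]
  set a := val χ₂ with ha
  set b := val χ₃ with hb
  -- the two column relations
  have hsq : 1 + a * a + b * b = (Nat.card (D : Subgroup G) : ℤ) := by
    have h := principal_column hM hw hw (G := G)
    rw [if_pos (IsConj.refl w), principalDegSq_of_complement hM hc (D.subtype hle), hR,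
      finsum_mem_eq_toFinset_sum, hsum, hval, hval, hval, map_intCast, map_intCast,
      map_intCast, ← hval (trivChar G)] at h
    simp only [trivChar_coe, one_mul, ← add_assoc] at h
    rw [← ha, ← hb] at h
    exact_mod_cast h
  have horth : 1 + a * (charDegree (χ₂ : G → ℂ) : ℤ) + b * (charDegree (χ₃ : G → ℂ) : ℤ) = 0 := by
    have h := principal_column hM hw (⟨0, by simp⟩ : ∃ k : ℕ, orderOf (1 : G) = p ^ k)
    rw [if_neg fun h' => hw1 (isConj_one_left.1 h'), finsum_mem_eq_toFinset_sum, hsum,
      conj_apply_one, conj_apply_one, conj_apply_one, apply_one_eq_charDegree χ₂,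
      apply_one_eq_charDegree χ₃, hval χ₂, hval χ₃] at h
    simp only [trivChar_coe, one_mul, ← add_assoc] at h
    exact_mod_cast h
  have hunit : a * a = b * b → a * a = 1 := fun hab => by
    have hdvd : a ∣ 1 := by
      refine ⟨-(2 * charDegree (χ₂ : G → ℂ)) - a * charDegree (χ₂ : G → ℂ) ^ 2 +
        a * charDegree (χ₃ : G → ℂ) ^ 2, ?_⟩
      linear_combination (1 + a * (charDegree (χ₂ : G → ℂ) : ℤ) -
        b * (charDegree (χ₃ : G → ℂ) : ℤ)) * horth - (charDegree (χ₃ : G → ℂ) : ℤ) ^ 2 * hab
    exact Int.isUnit_mul_self (isUnit_of_dvd_one hdvd)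
  by_cases hp2 : p = 2
  · exfalso
    subst hp2
    have hle' := card_block_le hM hB
    rw [hk] at hle'
    have hd1 : blockDefect 2 (principalBlock M G) < 2 := by
      by_contra hlt
      have h4 : ((Nat.card (D : Subgroup G) : ℤ) : ZMod 4) = 0 := by
        rw [Int.cast_natCast, ZMod.natCast_eq_zero_iff, hcard]
        exact pow_dvd_pow 2 (not_lt.1 hlt)
      rw [← hsq] at h4
      push_cast at h4
      exact (by decide : ∀ x y : ZMod 4, 1 + x * x + y * y ≠ 0) _ _ h4
    rw [show blockDefect 2 (principalBlock M G) = 1 by omega] at hle'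
    norm_num at hle'
  have hodd : Odd (Nat.card (D : Subgroup G)) := hcard ▸ (hp.out.odd_of_ne_two hp2).pow
  -- neither value vanishes
  have hz : ∀ x : ℤ, ∀ n : ℤ, 1 + x * n = 0 → 1 + x * x ≠ (Nat.card (D : Subgroup G) : ℤ) := by
    intro x n hx he'
    rw [Int.isUnit_mul_self (isUnit_of_dvd_one ⟨-n, by linear_combination hx⟩)] at he'
    obtain ⟨j, hj⟩ := hodd
    omega
  have ha0 : a ≠ 0 := fun h => hz b (charDegree (χ₃ : G → ℂ)) (by rw [h] at horth; linear_combination horth)
    (by rw [h] at hsq; linear_combination hsq)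
  have hb0 : b ≠ 0 := fun h => hz a (charDegree (χ₂ : G → ℂ)) (by rw [h] at horth; linear_combination horth)
    (by rw [h] at hsq; linear_combination hsq)
  -- the values agree up to sign
  have key : a * a = b * b := by
    have hconj : ∀ χ η : IrrCharacter G, ({χ, η} : Finset (IrrCharacter G)) = {χ₂, χ₃} →
        val χ ≠ 0 → (¬ ∀ s, ((χ : G → ℂ) s).im = 0) → val χ = val η := by
      intro χ η hpair h0 hnr
      set ψ : IrrCharacter G := ⟨fun g => conj ((χ : G → ℂ) g), Char.isIrrCharacter_conjFn χ.2⟩
      have hmem : χ ∈ principalBlock M G := Set.mem_toFinset.1 (by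
        show χ ∈ T
        rw [hTeq, ← hpair]; simp)
      have hψ : ψ ∈ T := Set.mem_toFinset.2 (conjIrr_mem_principal hM hw hc hmem (by
        rw [hval]; exact_mod_cast h0))
      rw [hTeq, ← hpair, Finset.mem_insert, Finset.mem_insert, Finset.mem_singleton] at hψ
      rcases hψ with h | h | h
      · refine absurd (fun s => ?_) hnr
        have h' := congrFun (congrArg Subtype.val h) s
        simp only [ψ, trivChar_coe] at h'
        simpa using congrArg Complex.im h'
      · exact absurd (fun s => Complex.conj_eq_iff_im.1 (congrFun (congrArg Subtype.val h) s)) hnr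
      · have h' := congrFun (congrArg Subtype.val h) w
        simp only [ψ] at h'
        rw [hval, hval, map_intCast] at h'
        exact_mod_cast h'
    have hind := sum_indicator_principal hM hw hc hp2
    rw [hsum, hval, hval, hval, map_intCast, map_intCast, map_intCast, ← hval (trivChar G)]
      at hind
    simp only [trivChar_coe, mul_one, Finset.sum_const, Finset.card_univ, nsmul_eq_mul,
      ← Nat.card_eq_fintype_card, add_eq_left] at hind
    rw [← ha, ← hb] at hind
    have hG : (Nat.card G : ℂ) ≠ 0 := Char.card_cast_ne_zero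
    rcases Char.indicator_cases χ₂.2 with ⟨h2, -⟩ | ⟨-, h2⟩
    · rw [ha, hb, hconj χ₂ χ₃ rfl ha0 h2]
    rcases Char.indicator_cases χ₃.2 with ⟨h3, -⟩ | ⟨-, h3⟩
    · rw [ha, hb, hconj χ₃ χ₂ (Finset.pair_comm _ _) hb0 h3]
    have hG' : ∀ x : ℤ, (Nat.card G : ℂ) * x = 0 → x = 0 := fun x h =>
      Int.cast_eq_zero.1 ((mul_eq_zero.1 h).resolve_left hG)
    have hor : a + b = 0 ∨ a - b = 0 := by
      rcases h2 with h2 | ⟨h2, -⟩ <;> rcases h3 with h3 | ⟨h3, -⟩ <;> rw [h2, h3] at hind
      · exact Or.inl (hG' _ (by push_cast; linear_combination hind))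
      · exact Or.inr (hG' _ (by push_cast; linear_combination hind))
      · exact Or.inr (hG' _ (by push_cast; linear_combination (-1 : ℂ) * hind))
      · exact Or.inl (hG' _ (by push_cast; linear_combination (-1 : ℂ) * hind))
    rcases hor with h | h
    · linear_combination (a - b) * h
    · linear_combination (a + b) * h
  have h1 := hunit key
  rw [← key, h1] at hsq
  omega

end Cfsg.Lib.Block
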