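import Cfsg.Agent.Lib.Block.TwistGroup

/-!
# Automorphisms of odd order of the twisted two-groups

A nonabelian twisted group and a group of type `(2 ^ m, 2)` with `m ≥ 2` have no nontrivial
automorphism of odd order.
-/

set_option autoImplicit false
set_option linter.unusedSectionVars false

namespace Cfsg.Lib.Block

universe u

variable {G : Type u} [Group G]

theorem aut_pow_iterate {X : Type*} [Group X] (α : MulAut X) (k : ℕ) (v : X) :
    (α ^ k) v = (⇑α)^[k] v := by
  induction k with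
  | zero => rfl
  | succ k ih => rw [pow_succ', MulAut.mul_apply, Function.iterate_succ_apply', ih]

/-- A point fixed by a power prime to the order is fixed. -/
theorem fix_of_pow_fix {X : Type*} [Group X] {α : MulAut X} {n k : ℕ} (hn : α ^ n = 1)
    (hkn : Nat.Coprime k n) {v : X} (hv : (α ^ k) v = v) : α v = v := by
  have h1 : Function.IsPeriodicPt (⇑α) k v := by
    rw [Function.IsPeriodicPt, Function.IsFixedPt, ← aut_pow_iterate, hv]
  have h2 : Function.IsPeriodicPt (⇑α) n v := by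
    rw [Function.IsPeriodicPt, Function.IsFixedPt]
    rw [← aut_pow_iterate, hn]
    rfl
  have h3 := h1.gcd h2
  rw [hkn] at h3
  exact h3

theorem coprime_two_pow {n : ℕ} (hn : Odd n) (k : ℕ) : Nat.Coprime (2 ^ k) n :=
  Nat.Coprime.pow_left k (Nat.coprime_two_left.2 hn)

/-- An automorphism of odd order fixing a translation fixes the point. -/
theorem fix_of_fix_diff {X : Type*} [Group X] {α : MulAut X} {n : ℕ} (hn : α ^ n = 1)
    (hodd : Odd n) {v d : X} {k : ℕ} (hd : α d = d) (hd2 : d ^ 2 ^ k = 1) (hv : α v = v * d) :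
    α v = v := by
  have key : ∀ i : ℕ, (α ^ i) v = v * d ^ i := by
    intro i
    induction i with
    | zero => simp
    | succ i ih =>
      rw [pow_succ', MulAut.mul_apply, ih, map_mul, map_pow, hd, hv, mul_assoc, ← pow_succ']
  exact fix_of_pow_fix hn (coprime_two_pow hodd k) (by rw [key, hd2, mul_one])

/-- A group whose automorphisms of odd order in a subgroup are trivial gives a two-group. -/
theorem isPGroup_two_of_odd {A : Type*} [Group A] [Finite A] (K : Subgroup A)
    (h : ∀ α ∈ K, ∀ n : ℕ, Odd n → α ^ n = 1 → α = 1) : IsPGroup 2 K := by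
  intro β
  obtain ⟨k, q, hq, he⟩ := Nat.exists_eq_pow_mul_and_not_dvd (orderOf_pos β).ne' 2 (by norm_num)
  refine ⟨k, Subtype.ext (h _ (β ^ 2 ^ k).2 q
    (Nat.not_even_iff_odd.1 fun h2 => hq (even_iff_two_dvd.1 h2)) ?_)⟩
  rw [← SubmonoidClass.coe_pow, ← pow_mul, ← he, pow_orderOf_eq_one, OneMemClass.coe_one]

theorem PairGrp.aut_eq_one [Finite G] {A : Subgroup G} {w t : G} {j : ℕ} (S : PairGrp w t j)
    (hA : ∀ g : G, g ∈ A ↔ g ∈ twR w t) (α : MulAut A) {n : ℕ} (hn : α ^ n = 1) (hodd : Odd n) :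
    α = 1 := by
  have hwA : w ∈ A := (hA w).2 S.a_mem
  have htA : t ∈ A := (hA t).2 S.t_mem
  obtain ⟨W, hW⟩ : ∃ W : A, W = ⟨w, hwA⟩ := ⟨_, rfl⟩
  obtain ⟨T, hT⟩ : ∃ T : A, T = ⟨t, htA⟩ := ⟨_, rfl⟩
  obtain ⟨Z, hZ⟩ : ∃ Z : A, Z = W ^ 2 ^ (j - 1) := ⟨_, rfl⟩
  have hZv : (Z : G) = twZ w j := by rw [hZ, hW]; rfl
  obtain ⟨i, hi⟩ := S.mem_twR.1 ((hA _).1 (α W).2)
  have hpow : ∀ k : ℤ, ((W ^ k : A) : G) = w ^ k := fun k => by rw [hW]; rfl
  have hiodd : ¬ Even i := by
    rintro ⟨k, rfl⟩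
    have h1 : orderOf (α W) = 2 ^ j := by
      rw [MulEquiv.orderOf_eq, hW, Subgroup.orderOf_mk, S.ordA]
    have hsq : ((α W : A) : G) ^ 2 = w ^ (4 * k) := by
      rcases hi with e | e <;> rw [e, sq]
      · rw [← zpow_add]; ring_nf
      · rw [(S.atc.zpow_left (k + k)).symm.mul_mul_mul_comm, S.t_sq, mul_one, ← zpow_add]
        ring_nf
    have h2 : ((α W : A) : G) ^ 2 ^ (j - 1) = 1 := by
      have h2j := S.two_le
      rw [show 2 ^ (j - 1) = 2 * 2 ^ (j - 2) by
        rw [← pow_succ']; congr 1; omega, pow_mul, hsq, ← zpow_natCast, ← zpow_mul,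
        ← orderOf_dvd_iff_zpow_eq_one, S.ordA]
      refine ⟨k, ?_⟩
      push_cast
      rw [show (2 : ℤ) ^ j = 4 * 2 ^ (j - 2) by
        rw [show (4 : ℤ) = 2 ^ 2 by norm_num, ← pow_add]; congr 1; omega]
      ring
    rw [← Subgroup.coe_pow, OneMemClass.coe_eq_one, ← orderOf_dvd_iff_pow_eq_one, h1,
      Nat.pow_dvd_pow_iff_le_right (by norm_num)] at h2
    have := S.two_le
    omega
  have hZfix : α Z = Z := by
    refine Subtype.ext ?_
    rw [hZ, map_pow, Subgroup.coe_pow, ← hZ, hZv, twZ]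
    have h1 : ∀ k : ℤ, ¬ Even k → (w ^ k) ^ 2 ^ (j - 1) = w ^ 2 ^ (j - 1) := by
      intro k hk
      have := S.inV_zpow S.inV_z k
      rw [if_neg hk, twZ, ← zpow_natCast, ← zpow_mul, mul_comm, zpow_mul, zpow_natCast,
        zpow_natCast] at this
      exact this
    rcases hi with e | e <;> rw [e]
    · exact h1 i hiodd
    · rw [(S.atc.zpow_left i).mul_pow, h1 i hiodd]
      have h2 : t ^ 2 ^ (j - 1) = 1 := by
        have := S.two_le
        rw [show 2 ^ (j - 1) = 2 * 2 ^ (j - 2) by rw [← pow_succ']; congr 1; omega, pow_mul, sq,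
          S.t_sq, one_pow]
      rw [h2, mul_one]
  have hTfix : α T = T := by
    have hT2 : T * T = 1 := Subtype.ext (by rw [hT]; exact S.t_sq)
    have hv : InV w t j (α T : A) := by
      refine (S.sq_one_iff ((hA _).1 (α T).2)).1 ?_
      rw [← Subgroup.coe_mul, ← map_mul, hT2, map_one, OneMemClass.coe_one]
    have hne1 : ((α T : A) : G) ≠ 1 := fun e => S.t_ne (by
      have : T = 1 := α.injective ((Subtype.ext e : α T = 1).trans (map_one α).symm)
      simpa [hT] using congrArg Subtype.val this)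
    have hnez : ((α T : A) : G) ≠ twZ w j := fun e => S.z_ne_t (by
      have : T = Z := α.injective ((Subtype.ext (e.trans hZv.symm) : α T = Z).trans hZfix.symm)
      rw [← hZv, ← this, hT])
    rcases hv with e | e | e | e
    · exact absurd e hne1
    · exact absurd e hnez
    · exact Subtype.ext (e.trans (by rw [hT]))
    · refine fix_of_fix_diff hn hodd (k := 1) hZfix ?_ (Subtype.ext ?_)
      · refine Subtype.ext ?_
        rw [pow_one, Subgroup.coe_pow, hZv, sq, S.z_sq]
        rfl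
      · rw [e, Subgroup.coe_mul, hZv, hT]
        exact S.zt_comm.eq
  have hWfix : α W = W := by
    have hsplit : α W = W ^ i ∨ α W = W ^ i * T := by
      rcases hi with e | e
      · exact Or.inl (Subtype.ext (by rw [e, hpow]))
      · exact Or.inr (Subtype.ext (by rw [e, Subgroup.coe_mul, hpow, hT]))
    have hsq : ∀ k : ℤ, (α ^ 2) (W ^ k) = W ^ (i * i * k) := by
      intro k
      rw [map_zpow, pow_two, MulAut.mul_apply, zpow_mul]
      congr 1
      rcases hsplit with e | e <;> rw [e]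
      · rw [map_zpow, e, ← zpow_mul]
      · rw [map_mul, map_zpow, e, hTfix]
        refine Subtype.ext ?_
        simp only [Subgroup.coe_mul, Subgroup.coe_zpow]
        rw [hW, hT]
        simp only
        rw [(S.atc.zpow_left i).mul_zpow, ← zpow_mul, mul_assoc, ← zpow_add_one,
          S.inV_zpow S.inV_t, if_pos (Int.even_add_one.2 hiodd), mul_one]
    have hiter : ∀ r : ℕ, ((α ^ 2) ^ r) W = W ^ ((i * i) ^ r) := by
      intro r
      induction r with
      | zero => simp
      | succ r ih => rw [pow_succ', MulAut.mul_apply, ih, hsq, pow_succ']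
    refine fix_of_pow_fix hn (coprime_two_pow hodd j) ?_
    rw [show 2 ^ j = 2 * 2 ^ (j - 1) by
      have := S.two_le
      rw [← pow_succ']; congr 1; omega, pow_mul, hiter]
    refine Subtype.ext ?_
    rw [hpow, hW]
    show w ^ _ = w
    conv_rhs => rw [← zpow_one w]
    rw [S.zpow_eq_iff]
    -- Euler
    have hc : IsCoprime i ((2 : ℤ) ^ j) := by
      obtain ⟨r, rfl⟩ := Int.not_even_iff_odd.1 hiodd
      exact IsCoprime.pow_right ⟨1, -r, by ring⟩
    have hodd' : Nat.Coprime (i * i).natAbs (2 ^ j) := by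
      have h2 := hc.mul_left hc
      rw [Int.isCoprime_iff_nat_coprime] at h2
      simpa [Int.natAbs_pow] using h2
    have heul := Nat.ModEq.pow_totient hodd'
    rw [Nat.totient_prime_pow Nat.prime_two (by have := S.two_le; omega)] at heul
    have h3 := (Int.natCast_modEq_iff.2 heul).symm
    push_cast at h3
    rw [abs_of_nonneg (mul_self_nonneg i)] at h3
    simpa using Int.ModEq.dvd h3
  refine MulEquiv.ext fun g => ?_
  obtain ⟨k, hk⟩ := S.mem_twR.1 ((hA _).1 g.2)
  have : g = W ^ k ∨ g = W ^ k * T := by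
    rcases hk with e | e
    · exact Or.inl (Subtype.ext (by rw [e, hpow]))
    · exact Or.inr (Subtype.ext (by rw [e, Subgroup.coe_mul, hpow, hT]))
  rcases this with rfl | rfl <;> simp [hWfix, hTfix]

namespace TwBase

variable [Finite G] {P : Subgroup G} {a t x : G} {m : ℕ} (S : TwBase P a t x m)

include S

/-- The image of the rotation stays in the abelian subgroup. -/
theorem aut_rot (hna : ¬ Commute a x) (α : MulAut P) {n : ℕ} (hn : α ^ n = 1) (hodd : Odd n) :
    ((α ⟨a, S.amem⟩ : P) : G) ∈ twR a t ∧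
      ((α ⟨twZ a m, pow_mem S.amem _⟩ : P) : G) = twZ a m := by
  obtain ⟨A, hA⟩ : ∃ A : P, A = ⟨a, S.amem⟩ := ⟨_, rfl⟩
  obtain ⟨Z, hZ⟩ : ∃ Z : P, Z = ⟨twZ a m, pow_mem S.amem _⟩ := ⟨_, rfl⟩
  rw [← hA, ← hZ]
  have hm := S.pair.two_le
  have hZA : Z = A ^ 2 ^ (m - 1) := by
    rw [hA, hZ]
    exact Subtype.ext (by rw [Subgroup.coe_pow]; rfl)
  have hzR : ((α A : P) : G) ∈ twR a t → ((α Z : P) : G) = twZ a m := by
    intro hAR
    have hV : InV a t m ((α Z : P) : G) := by
      refine (S.pair.sq_one_iff ?_).1 ?_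
      · rw [hZA, map_pow, Subgroup.coe_pow]
        exact pow_mem hAR _
      · rw [← Subgroup.coe_mul, ← map_mul]
        have : Z * Z = 1 := Subtype.ext (by rw [hZ]; exact S.pair.z_sq)
        rw [this, map_one, OneMemClass.coe_one]
    obtain ⟨i, hi⟩ := S.pair.mem_twR.1 hAR
    have hpre : ∃ k : ℤ, ((α Z : P) : G) = a ^ k := by
      refine ⟨i * ((2 ^ (m - 1) : ℕ) : ℤ), ?_⟩
      rw [hZA, map_pow, Subgroup.coe_pow, zpow_mul, zpow_natCast]
      rcases hi with e | e <;> rw [e]
      rw [(S.pair.atc.zpow_left i).mul_pow]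
      have h2 : t ^ 2 ^ (m - 1) = 1 := by
        rw [show 2 ^ (m - 1) = 2 * 2 ^ (m - 2) by rw [← pow_succ']; congr 1; omega, pow_mul, sq,
          S.pair.t_sq, one_pow]
      rw [h2, mul_one]
    obtain ⟨k, hk⟩ := hpre
    rcases hV with e | e | e | e
    · exfalso
      have h1 : α Z = α 1 := by rw [map_one]; exact Subtype.ext e
      refine S.pair.z_ne ?_
      simpa [hZ] using congrArg Subtype.val (α.injective h1)
    · exact e
    · exact absurd ⟨k, hk.symm.trans e⟩ S.pair.tnot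
    · refine absurd ?_ S.pair.tnot
      have : twZ a m * t ∈ Subgroup.zpowers a := ⟨k, hk.symm.trans e⟩
      exact (Subgroup.mul_mem_cancel_left _ (Subgroup.npow_mem_zpowers a _)).1 this
  by_cases hAR : ((α A : P) : G) ∈ twR a t
  · exact ⟨hAR, hzR hAR⟩
  exfalso
  have h4 : ((α A : P) : G) ^ 4 = 1 := S.out_four (α A).2 hAR
  rw [← Subgroup.coe_pow, OneMemClass.coe_eq_one, ← orderOf_dvd_iff_pow_eq_one, MulEquiv.orderOf_eq,
    hA, Subgroup.orderOf_mk, S.pair.ordA, show (4 : ℕ) = 2 ^ 2 from rfl,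
    Nat.pow_dvd_pow_iff_le_right (by norm_num)] at h4
  have hm2 : m = 2 := by omega
  have hz2 : ∀ w : P, ((α w : P) : G) * ((α w : P) : G) = ((α (w * w) : P) : G) := fun w => by
    rw [map_mul, Subgroup.coe_mul]
  have hAA : A * A = Z := by rw [hZA, hm2, ← sq]; rfl
  have hz1 : ((α Z : P) : G) = ((α A : P) : G) * ((α A : P) : G) := by rw [hz2, hAA]
  have hz1ne : ((α Z : P) : G) ≠ twZ a m := by rw [hz1]; exact S.out_sq_ne (α A).2 hAR
  have hz1v : InV a t m ((α Z : P) : G) := by rw [hz1]; exact S.out_sq_inV (α A).2 hAR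
  have hinj1 : ∀ (β : MulAut P), ((β Z : P) : G) ≠ 1 := fun β h => S.pair.z_ne (by
    have h1 : β Z = β 1 := by rw [map_one]; exact Subtype.ext h
    simpa [hZ] using congrArg Subtype.val (β.injective h1))
  have hz2e : ((α (α Z) : P) : G) = ((α (α A) : P) : G) * ((α (α A) : P) : G) := by
    rw [hz2, ← map_mul, hAA]
  have hne12 : α (α Z) ≠ α Z := fun h =>
    hz1ne ((congrArg Subtype.val (α.injective h)).trans (by rw [hZ]))
  by_cases hAR2 : ((α (α A) : P) : G) ∈ twR a t
  · obtain ⟨i, hi⟩ := S.pair.mem_twR.1 hAR2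
    have hv : ((α (α Z) : P) : G) = twZ a m ^ i := by
      have e1 : twZ a m ^ i = a ^ i * a ^ i := by
        rw [twZ, hm2, ← (Commute.refl a).mul_zpow]
        norm_num [pow_two]
      rw [hz2e, e1]
      rcases hi with e | e <;> rw [e]
      rw [(S.pair.atc.zpow_left i).symm.mul_mul_mul_comm, S.pair.t_sq, mul_one]
    rw [S.pair.inV_zpow S.pair.inV_z] at hv
    split_ifs at hv
    · exact hinj1 (α * α) hv
    · refine hz1ne ?_
      have h2 : (α ^ 2) Z = Z := Subtype.ext (by rw [pow_two, MulAut.mul_apply, hv, hZ])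
      rw [fix_of_pow_fix hn (by simpa using coprime_two_pow hodd 1) h2, hZ]
  · have hv2 : InV a t m ((α (α Z) : P) : G) := by rw [hz2e]; exact S.out_sq_inV (α (α A)).2 hAR2
    have hne2 : ((α (α Z) : P) : G) ≠ twZ a m := by rw [hz2e]; exact S.out_sq_ne (α (α A)).2 hAR2
    have hp := S.pair.inV_prod hz1v hv2 S.pair.inV_z (hinj1 α) (hinj1 (α * α)) S.pair.z_ne
      (fun e => hne12 (Subtype.ext e.symm)) hz1ne hne2
    refine S.not_abelian_iff.1 hna ?_
    have hc : twCm a x = twZ a m := by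
      rcases S.out_sq (α A).2 hAR with e | e <;>
        rcases S.out_sq (α (α A)).2 hAR2 with e' | e' <;> rw [← hz1] at e <;> rw [← hz2e] at e'
      · exact absurd (Subtype.ext (e'.trans e.symm)) hne12
      · rw [e, e'] at hp
        rw [← hp, (S.pair.R_comm (S.pair.inV_mem S.qmem)
          (S.pair.inV_mem (S.pair.inV_mul S.cmem S.qmem))).eq, mul_assoc, S.pair.inV_sq S.qmem,
          mul_one]
      · rw [e, e', mul_assoc, S.pair.inV_sq S.qmem, mul_one] at hp
        exact hp
      · exact absurd (Subtype.ext (e'.trans e.symm)) hne12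
    rw [hc, twZ, hm2, ← zpow_natCast]
    norm_num

/-- The automorphisms of odd order of a nonabelian twisted group are trivial. -/
theorem aut_eq_one (hna : ¬ Commute a x) (α : MulAut P) {n : ℕ} (hn : α ^ n = 1) (hodd : Odd n) :
    α = 1 := by
  obtain ⟨hAR, hzfix⟩ := S.aut_rot hna α hn hodd
  have hcen : ∀ v : P, (∀ w : P, Commute v w) → InV a t m ((α v : P) : G) := fun v hv =>
    S.center_inV hna (α v).2 fun h hh =>
      congrArg Subtype.val (show α v * ⟨h, hh⟩ = ⟨h, hh⟩ * α v by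
        rw [← α.apply_symm_apply ⟨h, hh⟩, ← map_mul, ← map_mul, (hv _).eq])
  obtain ⟨T, hT⟩ : ∃ T : P, T = ⟨t, S.tmem⟩ := ⟨_, rfl⟩
  have hTv := hcen T fun w => Subtype.ext (by
    rw [Subgroup.coe_mul, Subgroup.coe_mul, hT]; exact (S.t_comm w.2).symm.eq)
  have hRR : ∀ g : P, (g : G) ∈ twR a t → ((α g : P) : G) ∈ twR a t := by
    intro g hg
    obtain ⟨i, hi⟩ := S.pair.mem_twR.1 hg
    have h1 : ((α ((⟨a, S.amem⟩ : P) ^ i) : P) : G) ∈ twR a t := by
      rw [map_zpow, Subgroup.coe_zpow]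
      exact zpow_mem hAR i
    rcases hi with e | e
    · convert h1 using 4
      exact Subtype.ext (by rw [e]; rfl)
    · have : g = (⟨a, S.amem⟩ : P) ^ i * T := Subtype.ext (by rw [e, hT]; rfl)
      rw [this, map_mul, Subgroup.coe_mul]
      exact mul_mem h1 (S.pair.inV_mem hTv)
  -- restriction to the abelian subgroup
  obtain ⟨R', hR'⟩ : ∃ R' : Subgroup P, R' = (twR a t).subgroupOf P := ⟨_, rfl⟩
  have hsub : ∀ g : P, g ∈ R' → α g ∈ R' := fun g hg => by
    rw [hR', Subgroup.mem_subgroupOf] at hg ⊢; exact hRR g hg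
  have himg : R'.map α.toMonoidHom = R' :=
    Subgroup.eq_of_le_of_card_ge (by rintro _ ⟨g, hg, rfl⟩; exact hsub g hg)
      (by rw [Subgroup.card_map_of_injective α.injective])
  let e0 : twR a t ≃* R' := (Subgroup.subgroupOfEquivOfLe S.R_le).symm.trans
    (MulEquiv.subgroupCongr hR'.symm)
  let β : MulAut (twR a t) :=
    (e0.trans ((α.subgroupMap R').trans (MulEquiv.subgroupCongr himg))).trans e0.symm
  have hβ : ∀ g : twR a t, ((β g : twR a t) : G) = ((α ⟨g, S.R_le g.2⟩ : P) : G) := fun g => rfl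
  have hβpow : ∀ (k : ℕ) (g : twR a t),
      (((β ^ k) g : twR a t) : G) = (((α ^ k) ⟨g, S.R_le g.2⟩ : P) : G) := by
    intro k
    induction k with
    | zero => intro g; rfl
    | succ k ih =>
      intro g
      rw [pow_succ, pow_succ, MulAut.mul_apply, MulAut.mul_apply, ih]
      congr 2
  have hβ1 : β = 1 := S.pair.aut_eq_one (fun g => Iff.rfl) β
    (MulEquiv.ext fun g => Subtype.ext (by rw [hβpow, hn]; rfl)) hodd
  have hfixR : ∀ g : P, (g : G) ∈ twR a t → α g = g := fun g hg => by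
    have h2 := hβ ⟨g, hg⟩
    rw [hβ1] at h2
    exact Subtype.ext h2.symm
  refine MulEquiv.ext fun g => ?_
  rw [MulAut.one_apply]
  by_cases hg : (g : G) ∈ twR a t
  · exact hfixR g hg
  have hd : ((g⁻¹ * α g : P) : G) ∈ twR a t := by
    rw [Subgroup.coe_mul, InvMemClass.coe_inv]
    refine S.out_mul_mem (P.inv_mem g.2) (fun h => hg (inv_inv (g : G) ▸ inv_mem h)) (α g).2
      fun h => hg ?_
    have h2 := hfixR (α g) h
    rwa [← α.injective h2] 
  obtain ⟨k, hk⟩ := IsPGroup.iff_orderOf.1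
    (IsPGroup.of_card (p := 2) S.card : IsPGroup 2 P) (g⁻¹ * α g)
  exact fix_of_fix_diff hn hodd (k := k) (hfixR _ hd) (by rw [← hk, pow_orderOf_eq_one])
    (mul_inv_cancel_left g (α g)).symm

end TwBase

end Cfsg.Lib.Block
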