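import Cfsg.Agent.Lib.Block.TwistFusion

/-!
# Linear characters and classes of the twisted two-groups
-/

set_option autoImplicit false
set_option linter.unusedSectionVars false

namespace Cfsg.Lib.Block

universe u

variable {G : Type u} [Group G]

/-- The elements outside the four central ones meeting none of the fused centralizers. -/
def twW (P : Subgroup G) (a t x : G) (m : ℕ) (Fz : ℕ → Prop) (u : G) : Prop :=
  u ∈ P ∧ ¬ InV a t m u ∧
    ∀ q < 2, Fz q → ∀ d ∈ P, ¬ InV a t m (d * u * d⁻¹ * (a ^ q * x)⁻¹)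

/-- A function multiplicative on `P`. -/
structure IsHomOn (P : Subgroup G) (lam : G → ℂ) : Prop where
  map_mul : ∀ y ∈ P, ∀ w ∈ P, lam (y * w) = lam y * lam w
  map_one : lam 1 = 1

namespace IsHomOn

variable {P : Subgroup G} {lam mu : G → ℂ} (h : IsHomOn P lam)

include h

theorem map_pow {y : G} (hy : y ∈ P) (n : ℕ) : lam (y ^ n) = lam y ^ n := by
  induction n with
  | zero => rw [pow_zero, pow_zero, h.map_one]
  | succ n ih => rw [pow_succ, pow_succ, h.map_mul _ (pow_mem hy n) _ hy, ih]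

theorem map_conj {d y : G} (hd : d ∈ P) (hy : y ∈ P) : lam (d * y * d⁻¹) = lam y := by
  rw [h.map_mul _ (mul_mem hd hy) _ (inv_mem hd), h.map_mul _ hd _ hy, mul_comm (lam d), mul_assoc,
    ← h.map_mul _ hd _ (inv_mem hd), mul_inv_cancel, h.map_one, mul_one]

theorem mul' (h' : IsHomOn P mu) : IsHomOn P fun y => lam y * mu y :=
  ⟨fun y hy w hw => by rw [h.map_mul y hy w hw, h'.map_mul y hy w hw]; ring,
    by rw [h.map_one, h'.map_one, one_mul]⟩

end IsHomOn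

namespace TwNorm

variable [Finite G] {P : Subgroup G} {a t x : G} {m e : ℕ} (S : TwNorm P a t x m e)

include S

theorem rep_mem (q : ℕ) : a ^ q * x ∈ P := mul_mem (pow_mem S.amem q) S.xmem

theorem rep_notR (q : ℕ) : a ^ q * x ∉ twR a t := fun h =>
  S.xnot ((Subgroup.mul_mem_cancel_left _ (pow_mem S.pair.a_mem q)).1 h)

theorem x_inv : x⁻¹ = x := inv_eq_of_mul_eq_one_right S.xsq

theorem x_conj_pow (i : ℤ) : x * a ^ i * x⁻¹ = a ^ (-i) * (t ^ e) ^ i := by
  rw [S.toBase.x_conj, S.c_eq]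

/-- Linear characters by their values at the generators. -/
theorem exists_hom {μ τ ν : ℂ} (hτ : τ * τ = 1) (hν : ν * ν = 1) (hμ : μ * μ = τ ^ e) :
    ∃ lam : G → ℂ, IsHomOn P lam ∧ lam a = μ ∧ lam t = τ ∧ lam x = ν := by
  classical
  have B := S.toBase
  have hPG := S.pair
  have hτ0 : τ ≠ 0 := left_ne_zero_of_mul_eq_one hτ
  have hμ0 : μ ≠ 0 := fun h => pow_ne_zero e hτ0 (by rw [← hμ, h, zero_mul])
  have hμm : μ ^ ((2 : ℤ) ^ m) = 1 := by
    have hm := hPG.two_le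
    obtain ⟨k, hk⟩ : ∃ k, m = k + 2 := ⟨m - 2, by omega⟩
    rw [hk, show ((2 : ℤ) ^ (k + 2)) = ((2 * (2 * 2 ^ k) : ℕ) : ℤ) by push_cast; ring,
      zpow_natCast, pow_mul, sq, hμ, ← pow_mul, mul_comm e, mul_assoc, pow_mul, sq, hτ, one_pow]
  have hμcong : ∀ i j : ℤ, a ^ i = a ^ j → μ ^ i = μ ^ j := by
    intro i j h
    obtain ⟨k, hk⟩ := hPG.zpow_eq_iff.1 h
    rw [show i = j + 2 ^ m * k by omega, zpow_add₀ hμ0, zpow_mul, hμm, one_zpow, mul_one]
  obtain ⟨L, hL⟩ : ∃ L : G → ℂ, ∀ i : ℤ, L (a ^ i) = μ ^ i ∧ L (a ^ i * t) = μ ^ i * τ := by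
    refine ⟨fun r => if h : ∃ i : ℤ, r = a ^ i then μ ^ h.choose
      else if h' : ∃ i : ℤ, r = a ^ i * t then μ ^ h'.choose * τ else 0, fun i => ⟨?_, ?_⟩⟩
    · have h : ∃ j : ℤ, a ^ i = a ^ j := ⟨i, rfl⟩
      simp only [dif_pos h]
      exact (hμcong _ _ h.choose_spec).symm
    · have h : ¬ ∃ j : ℤ, a ^ i * t = a ^ j := fun ⟨j, hj⟩ => hPG.zpow_ne_mul j i hj.symm
      have h' : ∃ j : ℤ, a ^ i * t = a ^ j * t := ⟨i, rfl⟩
      simp only [dif_neg h, dif_pos h']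
      exact congrArg (· * τ) (hμcong _ _ (mul_right_cancel h'.choose_spec)).symm
  have hLmul : ∀ r ∈ twR a t, ∀ s ∈ twR a t, L (r * s) = L r * L s := by
    intro r hr s hs
    obtain ⟨i, hi⟩ := hPG.mem_twR.1 hr
    obtain ⟨j, hj⟩ := hPG.mem_twR.1 hs
    rcases hi with rfl | rfl <;> rcases hj with rfl | rfl
    · rw [← zpow_add, (hL _).1, (hL _).1, (hL _).1, zpow_add₀ hμ0]
    · rw [← mul_assoc, ← zpow_add, (hL _).2, (hL _).1, (hL _).2, zpow_add₀ hμ0, mul_assoc]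
    · rw [mul_assoc, ← (hPG.atc.zpow_left j).eq, ← mul_assoc, ← zpow_add, (hL _).2, (hL _).2,
        (hL _).1, zpow_add₀ hμ0]
      ring
    · rw [(hPG.atc.zpow_left j).symm.mul_mul_mul_comm, hPG.t_sq, mul_one, ← zpow_add, (hL _).1,
        (hL _).2, (hL _).2, zpow_add₀ hμ0]
      linear_combination (-(μ ^ i * μ ^ j)) * hτ
  have hLt : L t = τ := by
    have := (hL 0).2
    rwa [zpow_zero, one_mul, zpow_zero, one_mul] at this
  have hL1 : L 1 = 1 := by
    have := (hL 0).1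
    rwa [zpow_zero, zpow_zero] at this
  have hLc : ∀ i : ℤ, L ((t ^ e) ^ i) = (τ ^ e) ^ i := by
    intro i
    rcases Nat.le_one_iff_eq_zero_or_eq_one.1 S.he with he | he <;> rw [he]
    · simp [hL1]
    · rw [pow_one, pow_one]
      rcases Int.even_or_odd i with ⟨k, rfl⟩ | ⟨k, rfl⟩
      · rw [← two_mul, zpow_mul, zpow_two, hPG.t_sq, one_zpow, hL1, zpow_mul, zpow_two, hτ,
          one_zpow]
      · rw [zpow_add_one, zpow_mul, zpow_two, hPG.t_sq, one_zpow, one_mul, hLt, zpow_add_one₀ hτ0,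
          zpow_mul, zpow_two, hτ, one_zpow, one_mul]
  have hLx : ∀ r ∈ twR a t, L (x * r * x⁻¹) = L r := by
    intro r hr
    obtain ⟨i, hi⟩ := hPG.mem_twR.1 hr
    have hA : x * a ^ i * x⁻¹ ∈ twR a t := B.x_conj_mem (zpow_mem hPG.a_mem i)
    have key : L (x * a ^ i * x⁻¹) = μ ^ i := by
      rw [S.x_conj_pow, hLmul _ (zpow_mem hPG.a_mem _) _ (zpow_mem (pow_mem hPG.t_mem e) i),
        (hL _).1, hLc, ← hμ, mul_zpow, ← mul_assoc, ← zpow_add₀ hμ0, neg_add_cancel, zpow_zero,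
        one_mul]
    rcases hi with rfl | rfl
    · rw [key, (hL _).1]
    · rw [show x * (a ^ i * t) * x⁻¹ = x * a ^ i * x⁻¹ * (x * t * x⁻¹) by group, S.xtc.eq,
        mul_inv_cancel_right, hLmul _ hA _ hPG.t_mem, key, hLt, (hL _).2]
  obtain ⟨lam, hlam⟩ : ∃ lam : G → ℂ,
      lam = fun y => if y ∈ twR a t then L y else L (y * x) * ν := ⟨_, rfl⟩
  have hout : ∀ {y : G}, y ∈ P → y ∉ twR a t → y * x ∈ twR a t := fun hy hyR =>
    B.out_mul_mem hy hyR S.xmem S.xnot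
  have hRR : ∀ {r s : G}, r ∈ twR a t → s ∉ twR a t → r * s ∉ twR a t := fun hr hs h =>
    hs ((Subgroup.mul_mem_cancel_left _ hr).1 h)
  refine ⟨lam, ⟨fun y hy w hw => ?_, by rw [hlam]; simp only [if_pos (one_mem _), hL1]⟩, ?_, ?_, ?_⟩
  · simp only [hlam]
    by_cases hyR : y ∈ twR a t <;> by_cases hwR : w ∈ twR a t
    · rw [if_pos (mul_mem hyR hwR), if_pos hyR, if_pos hwR, hLmul y hyR w hwR]
    · rw [if_neg (hRR hyR hwR), if_pos hyR, if_neg hwR, mul_assoc y, hLmul y hyR _ (hout hw hwR)]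
      ring
    · rw [if_neg fun h => hyR ((Subgroup.mul_mem_cancel_right _ hwR).1 h), if_neg hyR, if_pos hwR,
        show y * w * x = y * x * (x * w * x⁻¹) by
          rw [S.x_inv, show y * x * (x * w * x) = y * (x * x) * w * x by group, S.xsq, mul_one],
        hLmul _ (hout hy hyR) _ (B.x_conj_mem hwR), hLx w hwR]
      ring
    · rw [if_pos (B.out_mul_mem hy hyR hw hwR), if_neg hyR, if_neg hwR,
        show y * w = y * x * (x * (w * x) * x⁻¹) by
          rw [show y * x * (x * (w * x) * x⁻¹) = y * (x * x) * w by group, S.xsq, mul_one],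
        hLmul _ (hout hy hyR) _ (B.x_conj_mem (hout hw hwR)), hLx _ (hout hw hwR)]
      linear_combination (-(L (y * x) * L (w * x))) * hν
  · simp only [hlam, if_pos hPG.a_mem]
    have := (hL 1).1
    rwa [zpow_one, zpow_one] at this
  · simp only [hlam, if_pos hPG.t_mem, hLt]
  · simp only [hlam, if_neg S.xnot, S.xsq, hL1, one_mul]

theorem hom_zeta {lam : G → ℂ} (h : IsHomOn P lam) (hμ : lam a * lam a = lam t ^ e) :
    lam (twZeta a x m) = 1 := by
  have hm := S.pair.two_le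
  obtain ⟨k, hk⟩ : ∃ k, m = k + 2 := ⟨m - 2, by omega⟩
  have ht : lam t * lam t = 1 := by rw [← h.map_mul _ S.tmem _ S.tmem, S.pair.t_sq, h.map_one]
  rw [twZeta, S.c_eq, twZ, h.map_mul _ (pow_mem S.amem _) _ (pow_mem (pow_mem S.tmem e) _),
    h.map_pow S.amem, h.map_pow (pow_mem S.tmem e), h.map_pow S.tmem, ← hμ, hk,
    show k + 2 - 1 = k + 1 by omega, show k + 2 - 2 = k by omega, pow_succ' 2 k, pow_mul, sq,
    ← mul_pow, hμ, ← pow_add, ← two_mul, ← pow_mul, mul_assoc, pow_mul, sq, ht, one_pow]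

theorem hom_zeta_t {lam : G → ℂ} (h : IsHomOn P lam) (hμ : lam a * lam a = lam t ^ e) :
    lam (twZeta a x m * t) = lam t := by
  rw [h.map_mul _ (S.toBase.R_le (S.pair.inV_mem S.toBase.zeta_inV)) _ S.tmem, S.hom_zeta h hμ,
    one_mul]

theorem hom_inV_one {lam : G → ℂ} (h : IsHomOn P lam) (ht : lam t = 1) (ha : lam a * lam a = 1)
    {v : G} (hv : InV a t m v) : lam v = 1 := by
  have hm := S.pair.two_le
  obtain ⟨k, hk⟩ : ∃ k, m = k + 2 := ⟨m - 2, by omega⟩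
  have hz : lam (twZ a m) = 1 := by
    rw [twZ, h.map_pow S.amem, hk, show k + 2 - 1 = k + 1 by omega, pow_succ', pow_mul, sq, ha,
      one_pow]
  rcases hv with rfl | rfl | rfl | rfl
  · exact h.map_one
  · exact hz
  · exact ht
  · rw [h.map_mul _ (S.toBase.R_le (S.pair.inV_mem S.pair.inV_z)) _ S.tmem, hz, ht, one_mul]

/-- Every element outside is conjugate into a coset of the four at a representative. -/
theorem out_rep {g : G} (hg : g ∈ P) (hgR : g ∉ twR a t) :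
    ∃ d ∈ P, ∃ q < 2, InV a t m (d * g * d⁻¹ * (a ^ q * x)⁻¹) := by
  have B := S.toBase
  obtain ⟨r, hr, hgr⟩ := (B.mem_cases hg).resolve_left hgR
  obtain ⟨i, hi⟩ := S.pair.mem_twR.1 hr
  obtain ⟨k, q, hq, hik⟩ : ∃ (k : ℤ) (q : ℕ), q < 2 ∧ i = 2 * k + q :=
    ⟨i / 2, (i % 2).toNat, by omega, by omega⟩
  refine ⟨a ^ (-k), zpow_mem S.amem _, q, hq, ?_⟩
  have h0 := B.out_conj hg hgR k
  have hcR : twCm a x ^ k ∈ twR a t := zpow_mem (S.pair.inV_mem B.cmem) _
  have hck : InV a t m (twCm a x ^ k) := by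
    rw [B.c_pow]
    split_ifs
    exacts [S.pair.inV_one, B.cmem]
  have key : a ^ (-k) * g * (a ^ (-k))⁻¹ * (a ^ q * x)⁻¹ =
      twCm a x ^ k * (a ^ (-(2 * k)) * r * a ^ (-(q : ℤ))) := by
    calc a ^ (-k) * g * (a ^ (-k))⁻¹ * (a ^ q * x)⁻¹
        = a ^ (-k) * (g * a ^ k * g⁻¹) * (g * x⁻¹) * a ^ (-(q : ℤ)) := by
          rw [zpow_neg, zpow_neg, zpow_natCast]; group
      _ = a ^ (-k) * a ^ (-k) * twCm a x ^ k * r * a ^ (-(q : ℤ)) := by
          rw [h0, hgr, mul_inv_cancel_right]; group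
      _ = twCm a x ^ k * (a ^ (-(2 * k)) * r * a ^ (-(q : ℤ))) := by
          rw [← zpow_add, show -k + -k = -(2 * k) by ring,
            (S.pair.R_comm (zpow_mem S.pair.a_mem (-(2 * k))) hcR).eq]
          group
  rw [key]
  refine S.pair.inV_mul hck ?_
  rcases hi with rfl | rfl
  · rw [← zpow_add, ← zpow_add, show -(2 * k) + i + -(q : ℤ) = 0 by omega, zpow_zero]
    exact S.pair.inV_one
  · rw [← mul_assoc, mul_assoc _ t, ← (S.pair.atc.zpow_left (-(q : ℤ))).eq, ← mul_assoc,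
      ← zpow_add, ← zpow_add, show -(2 * k) + i + -(q : ℤ) = 0 by omega, zpow_zero, one_mul]
    exact S.pair.inV_t

/-- The parity of the representative. -/
theorem exists_parity : ∃ lam : G → ℂ, IsHomOn P lam ∧ (∀ v, InV a t m v → lam v = 1) ∧
    ∀ q : ℕ, lam (a ^ q * x) = (-1) ^ q := by
  obtain ⟨lam, h, ha, ht, hx⟩ := S.exists_hom (μ := -1) (τ := 1) (ν := 1) (one_mul 1) (one_mul 1)
    (by rw [one_pow]; norm_num)
  refine ⟨lam, h, fun v hv => S.hom_inV_one h ht (by rw [ha]; norm_num) hv, fun q => ?_⟩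
  rw [h.map_mul _ (pow_mem S.amem q) _ S.xmem, h.map_pow S.amem, ha, hx, mul_one]

theorem rep_parity {p q : ℕ} (hp : p < 2) (hq : q < 2) {d : G} (hd : d ∈ P)
    (h : InV a t m (d * (a ^ p * x) * d⁻¹ * (a ^ q * x)⁻¹)) : p = q := by
  obtain ⟨lam, hl, hV, hval⟩ := S.exists_parity
  have h1 : lam (d * (a ^ p * x) * d⁻¹ * (a ^ q * x)⁻¹ * (a ^ q * x)) = lam (a ^ q * x) := by
    rw [hl.map_mul _ (S.toBase.R_le (S.pair.inV_mem h)) _ (S.rep_mem q), hV _ h, one_mul]
  rw [inv_mul_cancel_right, hl.map_conj hd (S.rep_mem p), hval, hval] at h1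
  obtain rfl | rfl : p = 0 ∨ p = 1 := by omega
  all_goals obtain rfl | rfl : q = 0 ∨ q = 1 := by omega
  all_goals first | rfl | norm_num at h1

variable {Fz : ℕ → Prop}

theorem twW_conj {u d : G} (hu : twW P a t x m Fz u) (hd : d ∈ P) :
    twW P a t x m Fz (d * u * d⁻¹) := by
  refine ⟨mul_mem (mul_mem hd hu.1) (inv_mem hd), fun h => hu.2.1 ?_, fun q hq hF c hc h => ?_⟩
  · have e : u = d⁻¹ * (d * u * d⁻¹) * d := by group
    rw [e, mul_assoc d⁻¹, ← (S.toBase.V_comm hd h).eq, inv_mul_cancel_left]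
    exact h
  · refine hu.2.2 q hq hF (c * d) (mul_mem hc hd) ?_
    rwa [show c * d * u * (c * d)⁻¹ = c * (d * u * d⁻¹) * c⁻¹ by group]

theorem twW_mul_t {u : G} (hu : twW P a t x m Fz u) : twW P a t x m Fz (u * t) := by
  refine ⟨mul_mem hu.1 S.tmem, fun h => hu.2.1 ?_, fun q hq hF c hc h => hu.2.2 q hq hF c hc ?_⟩
  · have := S.pair.inV_mul h S.pair.inV_t
    rwa [mul_assoc, S.pair.t_sq, mul_one] at this
  · have h' := S.pair.inV_mul S.pair.inV_t h
    rwa [show c * (u * t) * c⁻¹ = t * (c * u * c⁻¹) by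
      rw [show c * (u * t) * c⁻¹ = c * u * c⁻¹ * (c * t * c⁻¹) by group, (S.toBase.t_comm hc).eq,
        mul_inv_cancel_right, (S.toBase.t_comm (mul_mem (mul_mem hc hu.1) (inv_mem hc))).eq],
      mul_assoc t, ← mul_assoc t, S.pair.t_sq, one_mul] at h'

theorem twW_of_R {u : G} (hu : u ∈ twR a t) (hV : ¬ InV a t m u) : twW P a t x m Fz u := by
  refine ⟨S.toBase.R_le hu, hV, fun q _ _ d hd h => S.rep_notR q ?_⟩
  have h1 : ((twR a t).subgroupOf P).Normal := Subgroup.normal_of_index_eq_two S.toBase.index_two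
  have h2 := Subgroup.mem_subgroupOf.1 (h1.conj_mem ⟨u, S.toBase.R_le hu⟩
    (Subgroup.mem_subgroupOf.2 hu) ⟨d, hd⟩)
  simp only [Subgroup.coe_mul, InvMemClass.coe_inv] at h2
  exact inv_inv (a ^ q * x) ▸ inv_mem ((Subgroup.mul_mem_cancel_left _ h2).1 (S.pair.inV_mem h))

theorem twW_not_fused {q : ℕ} (hq : q < 2) (hF : Fz q) {y : G} (hy : y ∈ twE P (a ^ q * x)) :
    ¬ twW P a t x m Fz y := by
  intro hu
  rcases (S.toBase.mem_twE_out S.not_comm (S.rep_mem q) (S.rep_notR q)).1 hy with h | h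
  · exact hu.2.1 h
  · exact hu.2.2 q hq hF 1 (one_mem P) (by rwa [one_mul, inv_one, mul_one])

theorem not_twW {u : G} (hu : u ∈ P) (hW : ¬ twW P a t x m Fz u) :
    InV a t m u ∨ ∃ q < 2, Fz q ∧ ∃ d ∈ P,
      d * u * d⁻¹ ∈ twE P (a ^ q * x) ∧ d * u * d⁻¹ ∉ twR a t := by
  by_contra hcon
  refine hW ⟨hu, fun h => hcon (Or.inl h), fun q hq hF d hd h => hcon (Or.inr ⟨q, hq, hF, d, hd, ?_, ?_⟩)⟩
  · exact (S.toBase.mem_twE_out S.not_comm (S.rep_mem q) (S.rep_notR q)).2 (Or.inr h)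
  · intro hR
    have hh := (Subgroup.mul_mem_cancel_left _ hR).1 (S.pair.inV_mem h)
    exact S.rep_notR q (inv_inv (a ^ q * x) ▸ inv_mem hh)

open Classical in
/-- Pairwise nonconjugate elements meeting no fused centralizer. -/
theorem exists_list : ∃ L : Finset G, (∀ r ∈ L, twW P a t x m Fz r) ∧
    (∀ r ∈ L, ∀ r' ∈ L, ∀ d ∈ P, d * r * d⁻¹ = r' → r = r') ∧
    (2 ^ m - 2) + 2 * ((Finset.range 2).filter fun q => ¬ Fz q).card ≤ L.card := by
  have B := S.toBase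
  have hm := S.pair.two_le
  obtain ⟨I, hI⟩ : ∃ I : Finset (ℕ × Bool),
      I = (Finset.Icc 1 (2 ^ (m - 1) - 1)) ×ˢ (Finset.univ : Finset Bool) := ⟨_, rfl⟩
  obtain ⟨J, hJ⟩ : ∃ J : Finset (ℕ × Bool),
      J = ((Finset.range 2).filter fun q => ¬ Fz q) ×ˢ (Finset.univ : Finset Bool) := ⟨_, rfl⟩
  have hIm : ∀ q ∈ I, 1 ≤ q.1 ∧ q.1 < 2 ^ (m - 1) := fun q hq => by
    rw [hI, Finset.mem_product, Finset.mem_Icc] at hq
    omega
  have hJm : ∀ q ∈ J, q.1 < 2 ∧ ¬ Fz q.1 := fun q hq => by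
    rw [hJ, Finset.mem_product, Finset.mem_filter, Finset.mem_range] at hq
    exact hq.1
  obtain ⟨f, hf⟩ : ∃ f : ℕ × Bool → G, f = fun q => a ^ q.1 * (if q.2 then t else 1) := ⟨_, rfl⟩
  obtain ⟨g, hg⟩ : ∃ g : ℕ × Bool → G, g = fun q => (if q.2 then t else 1) * (a ^ q.1 * x) :=
    ⟨_, rfl⟩
  have hbV : ∀ b : Bool, InV a t m (if b then t else 1) := fun b => by
    cases b
    exacts [S.pair.inV_one, S.pair.inV_t]
  have hfR : ∀ q, f q ∈ twR a t := fun q => by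
    rw [hf]; exact mul_mem (pow_mem S.pair.a_mem _) (S.pair.inV_mem (hbV q.2))
  have hgR : ∀ q, g q ∉ twR a t := fun q h => S.rep_notR q.1
    ((Subgroup.mul_mem_cancel_left _ (S.pair.inV_mem (hbV q.2))).1 (by rwa [hg] at h))
  have hgP : ∀ q, g q ∈ P := fun q => by
    rw [hg]; exact mul_mem (B.R_le (S.pair.inV_mem (hbV q.2))) (S.rep_mem _)
  have hpow : ∀ q ∈ I, ∀ i : ℤ, a ^ (q.1 : ℤ) = a ^ i → ∀ q' ∈ I,
      i = (q'.1 : ℤ) ∨ i = -(q'.1 : ℤ) → q.1 = q'.1 ∧ i = (q'.1 : ℤ) := by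
    intro q hq i h q' hq' hi
    have h1 := hIm q hq
    have h2 := hIm q' hq'
    have hpred := PairGrp.pow_pred S.pair
    have hc : ((2 ^ (m - 1) : ℕ) : ℤ) = (2 : ℤ) ^ (m - 1) := by norm_num
    obtain ⟨k, hk⟩ := S.pair.zpow_eq_iff.1 h
    rw [hpred, ← hc] at hk
    rcases hi with rfl | rfl
    · rcases lt_trichotomy k 0 with hk0 | hk0 | hk0
      · exfalso; nlinarith
      · subst hk0; exact ⟨by omega, rfl⟩
      · exfalso; nlinarith
    · exfalso
      rcases le_or_gt k 0 with hk0 | hk0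
      · nlinarith
      · nlinarith
  have hfconj : ∀ q ∈ I, ∀ q' ∈ I, ∀ d ∈ P, d * f q * d⁻¹ = f q' → q = q' := by
    intro q hq q' hq' d hd h
    have key : ∀ v v' : G, InV a t m v → InV a t m v' → ∀ i : ℤ,
        a ^ (q.1 : ℤ) * v = a ^ i * v' → (v = 1 ∨ v = t) → (v' = 1 ∨ v' = t) →
          a ^ (q.1 : ℤ) = a ^ i ∧ v = v' := by
      intro v v' _ _ i e hv hv'
      rcases hv with rfl | rfl <;> rcases hv' with rfl | rfl
      · exact ⟨by simpa using e, rfl⟩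
      · exact absurd ((mul_one _).symm.trans e) (S.pair.zpow_ne_mul _ _)
      · exact absurd ((mul_one _).symm.trans e.symm) (S.pair.zpow_ne_mul _ _)
      · exact ⟨mul_right_cancel e, rfl⟩
    have hb1 : ∀ b : Bool, (if b then t else (1 : G)) = 1 ∨ (if b then t else (1 : G)) = t :=
      fun b => by cases b <;> simp
    have hbinj : ∀ b b' : Bool, (if b then t else (1 : G)) = (if b' then t else 1) → b = b' := by
      intro b b' e
      cases b <;> cases b' <;> first | rfl | exact absurd (by simpa using e) S.pair.t_ne |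
        exact absurd (by simpa using e.symm) S.pair.t_ne
    simp only [hf, ← zpow_natCast] at h
    by_cases hdR : d ∈ twR a t
    · rw [(S.pair.R_comm hdR (mul_mem (zpow_mem S.pair.a_mem _)
        (S.pair.inV_mem (hbV q.2)))).eq, mul_inv_cancel_right] at h
      obtain ⟨e1, e2⟩ := key _ _ (hbV _) (hbV _) _ h (hb1 _) (hb1 _)
      exact Prod.ext (hpow q hq _ e1 q' hq' (Or.inl rfl)).1 (hbinj _ _ e2)
    · exfalso
      have hconj : d * (a ^ (q.1 : ℤ) * (if q.2 then t else 1)) * d⁻¹ =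
          a ^ (-(q.1 : ℤ)) * (twCm a x ^ (q.1 : ℤ) * (if q.2 then t else 1)) := by
        rw [show d * (a ^ (q.1 : ℤ) * (if q.2 then t else 1)) * d⁻¹ =
          d * a ^ (q.1 : ℤ) * d⁻¹ * (d * (if q.2 then t else 1) * d⁻¹) by group,
          B.out_conj hd hdR, (B.V_comm hd (hbV q.2)).eq, mul_inv_cancel_right, mul_assoc]
      rw [hconj] at h
      have hw : twCm a x ^ (q.1 : ℤ) * (if q.2 then t else 1) = 1 ∨
          twCm a x ^ (q.1 : ℤ) * (if q.2 then t else 1) = t := by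
        rw [B.c_pow, S.c_eq]
        rcases Nat.le_one_iff_eq_zero_or_eq_one.1 S.he with rfl | rfl <;>
          cases q.2 <;> split_ifs <;> simp [S.pair.t_sq]
      rcases hw with e | e <;> rw [e] at h <;> rcases hb1 q'.2 with e' | e' <;> rw [e'] at h
      · simp only [mul_one] at h
        have := (hpow q' hq' _ h.symm q hq (Or.inr rfl)).2
        have := hIm q hq
        omega
      · exact S.pair.zpow_ne_mul _ _ ((mul_one _).symm.trans h)
      · exact S.pair.zpow_ne_mul _ _ ((mul_one _).symm.trans h.symm)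
      · have := (hpow q' hq' _ (mul_right_cancel h).symm q hq (Or.inr rfl)).2
        have := hIm q hq
        omega
  have hgconj : ∀ q ∈ J, ∀ q' ∈ J, ∀ d ∈ P, d * g q * d⁻¹ = g q' → q = q' := by
    intro q hq q' hq' d hd h
    have hlt := (hJm q hq).1
    have hlt' := (hJm q' hq').1
    have hpar : q.1 = q'.1 := by
      obtain ⟨lam, hl, hV, hval⟩ := S.exists_parity
      have h1 := congrArg lam h
      rw [hl.map_conj hd (hgP q), hg] at h1
      rw [hl.map_mul _ (B.R_le (S.pair.inV_mem (hbV q.2))) _ (S.rep_mem _), hV _ (hbV _), one_mul,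
        hl.map_mul _ (B.R_le (S.pair.inV_mem (hbV q'.2))) _ (S.rep_mem _), hV _ (hbV _), one_mul,
        hval, hval] at h1
      obtain e | e : q.1 = 0 ∨ q.1 = 1 := by omega
      all_goals obtain e' | e' : q'.1 = 0 ∨ q'.1 = 1 := by omega
      all_goals rw [e, e'] at h1 ⊢
      all_goals norm_num at h1
    obtain ⟨μ, hμ⟩ : ∃ μ : ℂ, μ * μ = (-1 : ℂ) ^ e := by
      rcases Nat.le_one_iff_eq_zero_or_eq_one.1 S.he with rfl | rfl
      · exact ⟨1, by rw [pow_zero, one_mul]⟩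
      · exact ⟨Complex.I, by rw [pow_one, Complex.I_mul_I]⟩
    obtain ⟨lam, hl, ha, ht, hx⟩ := S.exists_hom (μ := μ) (τ := -1) (ν := 1) (by norm_num)
      (one_mul 1) hμ
    have h1 := congrArg lam h
    rw [hl.map_conj hd (hgP q), hg] at h1
    rw [hl.map_mul _ (B.R_le (S.pair.inV_mem (hbV q.2))) _ (S.rep_mem _),
      hl.map_mul _ (B.R_le (S.pair.inV_mem (hbV q'.2))) _ (S.rep_mem _), hpar] at h1
    have hne : lam (a ^ q'.1 * x) ≠ 0 := by
      rw [hl.map_mul _ (pow_mem S.amem _) _ S.xmem, hl.map_pow S.amem, ha, hx, mul_one]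
      refine pow_ne_zero _ fun h0 => ?_
      rw [h0, zero_mul] at hμ
      exact pow_ne_zero e (by norm_num : (-1 : ℂ) ≠ 0) hμ.symm
    have h2 := mul_right_cancel₀ hne h1
    refine Prod.ext hpar ?_
    cases hb : q.2 <;> cases hb' : q'.2 <;> rw [hb, hb'] at h2 <;>
      simp only [Bool.false_eq_true, if_true, if_false, ht, hl.map_one] at h2 <;>
      first | rfl | norm_num at h2
  have hnorm : ((twR a t).subgroupOf P).Normal := Subgroup.normal_of_index_eq_two B.index_two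
  have hsep : ∀ r ∈ twR a t, ∀ d ∈ P, d * r * d⁻¹ ∈ twR a t := fun r hr d hd =>
    Subgroup.mem_subgroupOf.1 (hnorm.conj_mem ⟨r, B.R_le hr⟩ (Subgroup.mem_subgroupOf.2 hr) ⟨d, hd⟩)
  refine ⟨I.image f ∪ J.image g, fun r hr => ?_, fun r hr r' hr' d hd h => ?_, ?_⟩
  · rcases Finset.mem_union.1 hr with hr | hr <;> obtain ⟨q, hq, rfl⟩ := Finset.mem_image.1 hr
    · refine S.twW_of_R (hfR q) fun hV => ?_
      have h2 := S.pair.inV_sq hV
      have := hIm q hq
      rw [hf] at h2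
      dsimp only at h2
      rw [((S.pair.R_comm (pow_mem S.pair.a_mem _) (S.pair.inV_mem (hbV q.2)))).symm.mul_mul_mul_comm,
        S.pair.inV_sq (hbV q.2), mul_one, ← pow_add, ← orderOf_dvd_iff_pow_eq_one, S.pair.ordA] at h2
      have h3 := Nat.le_of_dvd (by omega) h2
      have h4 : 2 ^ m = 2 * 2 ^ (m - 1) := by rw [← pow_succ']; congr 1; omega
      omega
    · refine ⟨hgP q, fun hV => hgR q (S.pair.inV_mem hV), fun q' hq' hF c hc hV => ?_⟩
      refine (hJm q hq).2 ?_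
      have e : q.1 = q' := by
        refine S.rep_parity (hJm q hq).1 hq' hc ?_
        have h2 := S.pair.inV_mul (hbV q.2) hV
        rwa [show (if q.2 then t else 1) * (c * g q * c⁻¹ * (a ^ q' * x)⁻¹) =
          c * ((if q.2 then t else 1) * g q) * c⁻¹ * (a ^ q' * x)⁻¹ by
            rw [← mul_assoc c, (B.V_comm hc (hbV q.2)).eq]; group,
          show (if q.2 then t else 1) * g q = a ^ q.1 * x by
            rw [hg, ← mul_assoc, S.pair.inV_sq (hbV q.2), one_mul]] at h2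
      rwa [e]
  · rcases Finset.mem_union.1 hr with hr | hr <;> obtain ⟨q, hq, rfl⟩ := Finset.mem_image.1 hr <;>
      rcases Finset.mem_union.1 hr' with hr' | hr' <;>
      obtain ⟨q', hq', rfl⟩ := Finset.mem_image.1 hr'
    · rw [hfconj q hq q' hq' d hd h]
    · exact absurd (h ▸ hsep _ (hfR q) d hd) (hgR q')
    · refine absurd ?_ (hgR q)
      have := hsep _ (hfR q') d⁻¹ (inv_mem hd)
      rwa [← h, show d⁻¹ * (d * g q * d⁻¹) * d⁻¹⁻¹ = g q by group] at this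
    · rw [hgconj q hq q' hq' d hd h]
  · have hone : ∀ y : G, (1 : G) * y * 1⁻¹ = y := fun y => by group
    rw [Finset.card_union_of_disjoint, Finset.card_image_of_injOn, Finset.card_image_of_injOn,
      hI, hJ, Finset.card_product, Finset.card_product, Finset.card_univ, Fintype.card_bool,
      Nat.card_Icc]
    · have h4 : 2 ^ m = 2 * 2 ^ (m - 1) := by rw [← pow_succ']; congr 1; omega
      omega
    · exact fun q hq q' hq' e => hgconj q hq q' hq' 1 (one_mem P) ((hone _).trans e)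
    · exact fun q hq q' hq' e => hfconj q hq q' hq' 1 (one_mem P) ((hone _).trans e)
    · rw [Finset.disjoint_left]
      intro r hr hr'
      obtain ⟨q, -, rfl⟩ := Finset.mem_image.1 hr
      obtain ⟨q', -, e⟩ := Finset.mem_image.1 hr'
      exact hgR q' (e ▸ hfR q)

/-- The character adapted to the fused centralizers. -/
theorem exists_lam {u : ℕ → G} (hu : ∀ q < 2, Fz q → (a ^ q * x) * (a ^ q * x) = 1 ∧
    InV a t m (u q * (a ^ q * x)⁻¹)) :
    ∃ lam : G → ℂ, IsHomOn P lam ∧ lam t = -1 ∧ lam (twZeta a x m) = 1 ∧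
      lam (twZeta a x m * t) = -1 ∧ ∀ q < 2, Fz q → lam (u q) = 1 := by
  classical
  have B := S.toBase
  obtain ⟨μ, hμ⟩ : ∃ μ : ℂ, μ * μ = (-1 : ℂ) ^ e := by
    rcases Nat.le_one_iff_eq_zero_or_eq_one.1 S.he with rfl | rfl
    · exact ⟨1, by rw [pow_zero, one_mul]⟩
    · exact ⟨Complex.I, by rw [pow_one, Complex.I_mul_I]⟩
  obtain ⟨l₀, h0, ha0, ht0, hx0⟩ := S.exists_hom (μ := μ) (τ := -1) (ν := 1) (by norm_num)
    (one_mul 1) hμ
  have hmem : ∀ q < 2, Fz q → u q ∈ P := fun q hq hF => by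
    rw [← inv_mul_cancel_right (u q) (a ^ q * x)]
    exact mul_mem (B.R_le (S.pair.inV_mem (hu q hq hF).2)) (S.rep_mem q)
  have hsq : ∀ q < 2, Fz q → l₀ (u q) * l₀ (u q) = 1 := by
    intro q hq hF
    obtain ⟨h1, h2⟩ := hu q hq hF
    rw [← h0.map_mul _ (hmem q hq hF) _ (hmem q hq hF), ← inv_mul_cancel_right (u q) (a ^ q * x),
      (B.V_comm (S.rep_mem q) h2).mul_mul_mul_comm, S.pair.inV_sq h2, h1, one_mul, h0.map_one]
  obtain ⟨ν, hν, hνv⟩ : ∃ ν : ℂ, ν * ν = 1 ∧ (Fz 0 → l₀ (u 0) * ν = 1) := by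
    by_cases h : Fz 0
    · exact ⟨l₀ (u 0), hsq 0 two_pos h, fun _ => hsq 0 two_pos h⟩
    · exact ⟨1, one_mul 1, fun h' => absurd h' h⟩
  obtain ⟨ρ, hρ, hρv⟩ : ∃ ρ : ℂ, ρ * ρ = 1 ∧ (Fz 1 → l₀ (u 1) * (ρ * ν) = 1) := by
    by_cases h : Fz 1
    · have h1 := hsq 1 one_lt_two h
      exact ⟨l₀ (u 1) * ν, by linear_combination ν * ν * h1 + hν,
        fun _ => by linear_combination ν * ν * h1 + hν⟩
    · exact ⟨1, one_mul 1, fun h' => absurd h' h⟩
  obtain ⟨l₁, h1, ha1, ht1, hx1⟩ := S.exists_hom (μ := ρ) (τ := 1) (ν := ν) (one_mul 1) hν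
    (by rw [one_pow]; exact hρ)
  have hh := h0.mul' h1
  have hsame : (fun y => l₀ y * l₁ y) a * (fun y => l₀ y * l₁ y) a =
      (fun y => l₀ y * l₁ y) t ^ e := by
    simp only [ha0, ha1, ht0, ht1, mul_one]
    rw [← hμ]
    linear_combination (μ * μ) * hρ
  refine ⟨fun y => l₀ y * l₁ y, hh, by simp [ht0, ht1], S.hom_zeta hh hsame, ?_, fun q hq hF => ?_⟩
  · exact (S.hom_zeta_t hh hsame).trans (by simp [ht0, ht1])
  · show l₀ (u q) * l₁ (u q) = 1
    have hv : l₁ (u q) = ρ ^ q * ν := by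
      rw [← inv_mul_cancel_right (u q) (a ^ q * x),
        h1.map_mul _ (B.R_le (S.pair.inV_mem (hu q hq hF).2)) _ (S.rep_mem q),
        S.hom_inV_one h1 ht1 (by rw [ha1]; exact hρ) (hu q hq hF).2, one_mul,
        h1.map_mul _ (pow_mem S.amem q) _ S.xmem, h1.map_pow S.amem, ha1, hx1]
    rw [hv]
    obtain rfl | rfl : q = 0 ∨ q = 1 := by omega
    · rw [pow_zero, one_mul]; exact hνv hF
    · rw [pow_one]; exact hρv hF

end TwNorm

end Cfsg.Lib.Block
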