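import Cfsg.Agent.Lib.Block.TwistFusion
import Mathlib.GroupTheory.FixedPointFree

/-!
# The automizer of an elementary subgroup of order eight of a twisted group

It is induced by the group, or an automorphism of order three in it fixes exactly one of the two odd
central involutions.
-/

set_option autoImplicit false
set_option linter.unusedSectionVars false
set_option maxHeartbeats 800000

namespace Cfsg.Lib.Block

open Cfsg Cfsg.Lib.FusionSys
open Cfsg.FusionSystem (centralizerIn normalizerIn)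

universe u

variable {G : Type u} [Group G]

/-- An automorphism of odd order in the system fixes `f` and is not trivial. -/
def Fus {P : Subgroup G} (F : FusionSystem P) (g f : G) : Prop :=
  ∃ α ∈ F.autGroup (twE P g), ∃ n : ℕ, Odd n ∧ α ^ n = 1 ∧ α ≠ 1 ∧
    ∀ y : twE P g, (y : G) = f → α y = y

namespace TwNorm

variable [Finite G] {P : Subgroup G} {a t x : G} {m e : ℕ} (S : TwNorm P a t x m e)

include S

theorem zeta_cases : twZeta a x m = twZ a m ∨ twZeta a x m = twZ a m * t := by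
  rw [twZeta, S.c_eq, ← pow_mul, ← zpow_natCast, S.pair.inV_zpow S.pair.inV_t]
  split_ifs
  exacts [Or.inl (mul_one _), Or.inr rfl]

theorem zeta_ne_t : twZeta a x m ≠ t := by
  rcases S.zeta_cases with h | h <;> rw [h]
  exacts [S.pair.z_ne_t, S.pair.t_ne_zt.symm]

theorem zt_mul : twZeta a x m * (twZeta a x m * t) = t := by
  rw [← mul_assoc, S.pair.inV_sq S.toBase.zeta_inV, one_mul]

theorem inV_iff_zeta {v : G} : InV a t m v ↔
    v = 1 ∨ v = twZeta a x m ∨ v = t ∨ v = twZeta a x m * t := by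
  rcases S.zeta_cases with h | h <;> rw [h]
  · exact Iff.rfl
  · rw [mul_assoc, S.pair.t_sq, mul_one, InV]
    tauto

/-- Fully normalized. -/
theorem fullyNormalized_twE {g : G} (hg : g ∈ P) (hgR : g ∉ twR a t) (hg2 : g * g = 1)
    (F : FusionSystem P) : F.IsFullyNormalized (twE P g) := by
  classical
  have B := S.toBase
  have hna := S.not_comm
  refine ⟨inf_le_left, fun Q hQ => ?_⟩
  have hQP := (isConj_le hQ).2
  have hQ8 : Nat.card Q = 8 := by rw [← card_eq_of_isConj hQ, B.twE_card hna hg hgR]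
  obtain ⟨φ, hφ, rfl⟩ := hQ
  have hsq : ∀ q ∈ φ.range, q * q = 1 := by
    rintro _ ⟨y, rfl⟩
    have : y * y = 1 := Subtype.ext (B.twE_sq hna hg hgR hg2 y.2)
    rw [← map_mul, this, map_one]
  have hcomm : ∀ q ∈ φ.range, ∀ r ∈ φ.range, Commute q r := by
    rintro _ ⟨y, rfl⟩ _ ⟨w, rfl⟩
    exact Commute.map (Subtype.ext (B.twE_comm hna hg hgR y.2 w.2).eq : Commute y w) φ
  obtain ⟨g', hg'Q, hg'R⟩ : ∃ g' ∈ φ.range, g' ∉ twR a t := by
    by_contra hcon
    push_neg at hcon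
    have hle : φ.range ≤ twV S.pair := fun q hq => (S.pair.sq_one_iff (hcon q hq)).1 (hsq q hq)
    have := Subgroup.card_le_of_le hle
    rw [hQ8, S.pair.card_twV] at this
    omega
  have hg'P := hQP hg'Q
  have heq : φ.range = twE P g' := Subgroup.eq_of_le_of_card_ge
    (fun q hq => mem_twE.2 ⟨hQP hq, hcomm q hq g' hg'Q⟩)
    (by rw [hQ8, B.twE_card hna hg'P hg'R])
  rw [heq, (B.normalizerIn_twE hna hg'P hg'R).1, (B.normalizerIn_twE hna hg hgR).1]

variable {F : FusionSystem P} (hF : F.IsSaturated 2) {g : G} (hg : g ∈ P)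
  (hgR : g ∉ twR a t) (hg2 : g * g = 1)

/-- The inverted odd part. -/
structure EightData (S : TwNorm P a t x m e) (F : FusionSystem P) (g : G) where
  τ : MulAut (twE P g)
  τmem : τ ∈ F.autGroup (twE P g)
  τconj : ∀ y : twE P g,
    ((τ y : twE P g) : G) = a ^ 2 ^ (m - 2) * (y : G) * (a ^ 2 ^ (m - 2))⁻¹
  split : ∀ β ∈ F.autGroup (twE P g), ∃ ν ∈ F.autGroup (twE P g),
    (∃ n, Odd n ∧ ν ^ n = 1) ∧ (β = ν ∨ β = ν * τ)
  inv : ∀ ν ∈ F.autGroup (twE P g), (∃ n, Odd n ∧ ν ^ n = 1) → τ * ν * τ⁻¹ = ν⁻¹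
  comm : ∀ ν ∈ F.autGroup (twE P g), ∀ μ ∈ F.autGroup (twE P g),
    (∃ n, Odd n ∧ ν ^ n = 1) → (∃ n, Odd n ∧ μ ^ n = 1) → Commute ν μ

include hg hgR

theorem tau_cases {τ : MulAut (twE P g)} (hτ : ∀ y : twE P g,
      ((τ y : twE P g) : G) = a ^ 2 ^ (m - 2) * (y : G) * (a ^ 2 ^ (m - 2))⁻¹) (y : twE P g) :
    (InV a t m (y : G) ∧ τ y = y) ∨
      ((y : G) ∉ twR a t ∧ ((τ y : twE P g) : G) = twZeta a x m * y) := by
  have B := S.toBase
  by_cases hyR : (y : G) ∈ twR a t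
  · refine Or.inl ⟨(B.twE_inter S.not_comm hg hgR).1 ⟨y.2, hyR⟩, Subtype.ext ?_⟩
    rw [hτ, (S.pair.R_comm (pow_mem S.pair.a_mem _) hyR).eq, mul_inv_cancel_right]
  · exact Or.inr ⟨hyR, by rw [hτ, B.conj_w_out (mem_twE.1 y.2).1 hyR]⟩

include hg2 hF

theorem exists_eightData : Nonempty (EightData S F g) := by
  classical
  have B := S.toBase
  have hna := S.not_comm
  have hm := S.pair.two_le
  have hFN := S.fullyNormalized_twE hg hgR hg2 F
  obtain ⟨w, hw⟩ : ∃ w, w = a ^ 2 ^ (m - 2) := ⟨_, rfl⟩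
  have hwP : w ∈ P := hw ▸ pow_mem S.amem _
  have hζE : twZeta a x m ∈ twE P g := ((B.twE_inter hna hg hgR).2 B.zeta_inV).1
  have hwN : w ∈ Subgroup.normalizer (twE P g : Set G) := B.twE_normalizer_mem hna hg hgR hwP (by
    rw [hw, B.conj_w_out hg hgR]
    exact mul_mem hζE (B.mem_twE_self hna hg))
  obtain ⟨τ, hτ⟩ : ∃ τ : MulAut (twE P g), τ = (twE P g).normalizerMonoidHom ⟨w, hwN⟩ := ⟨_, rfl⟩
  have hτy : ∀ y : twE P g, ((τ y : twE P g) : G) =
      a ^ 2 ^ (m - 2) * (y : G) * (a ^ 2 ^ (m - 2))⁻¹ := fun y => by rw [hτ, ← hw]; rfl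
  have hτmem : τ ∈ F.autGroup (twE P g) := autInducedBy_le_autGroup (show twE P g ≤ P from inf_le_left)
    (mem_autInducedBy.2 ⟨w, hwP, fun y => (hτy y).trans (by rw [hw])⟩)
  obtain ⟨G0, hG0⟩ : ∃ G0 : twE P g, G0 = ⟨g, B.mem_twE_self hna hg⟩ := ⟨_, rfl⟩
  obtain ⟨Z0, hZ0⟩ : ∃ Z0 : twE P g, Z0 = ⟨twZeta a x m, hζE⟩ := ⟨_, rfl⟩
  have hτG : τ G0 = Z0 * G0 := Subtype.ext (by
    rw [hτy, Subgroup.coe_mul, hG0, hZ0]; exact B.conj_w_out hg hgR)
  have hτ1 : τ ≠ 1 := fun h => B.zeta_ne hna (by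
    rw [h, MulAut.one_apply, right_eq_mul] at hτG
    simpa [hZ0] using congrArg Subtype.val hτG)
  have hτ2 : τ * τ = 1 := by
    refine MulEquiv.ext fun y => ?_
    rw [MulAut.mul_apply, MulAut.one_apply]
    rcases S.tau_cases hg hgR hτy y with ⟨-, h⟩ | ⟨hyR, h⟩
    · rw [h, h]
    · refine Subtype.ext ?_
      rcases S.tau_cases hg hgR hτy (τ y) with ⟨h', -⟩ | ⟨-, h'⟩
      · exfalso
        rw [h] at h'
        exact hyR ((Subgroup.mul_mem_cancel_left _ (S.pair.inV_mem B.zeta_inV)).1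
          (S.pair.inV_mem h'))
      · rw [h', h, ← mul_assoc, S.pair.inV_sq B.zeta_inV, one_mul]
  -- the Sylow subgroup
  obtain ⟨-, -, R, hR⟩ := isFullyAutomized_and_fc_of_fn B.isPGroup hF hFN
  have hRmem : ∀ ρ : F.autGroup (twE P g), ρ ∈ (R : Subgroup (F.autGroup (twE P g))) →
      ρ = 1 ∨ ρ = ⟨τ, hτmem⟩ := by
    intro ρ hρ
    rw [hR, Subgroup.mem_subgroupOf, mem_autInducedBy] at hρ
    obtain ⟨y, hy, he⟩ := hρ
    have hyN : y ∈ normalizerIn P (twE P g) := ⟨hy, mem_normalizer_of_aut he⟩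
    rcases (B.normalizerIn_twE hna hg hgR).2 y hyN with h | h
    · refine Or.inl (Subtype.ext (MulEquiv.ext fun v => Subtype.ext ?_))
      rw [he, (B.twE_comm hna hg hgR h v.2).eq, mul_inv_cancel_right]
      rfl
    · refine Or.inr (Subtype.ext (MulEquiv.ext fun v => Subtype.ext ?_))
      rw [he, hτy]
      have hc := (B.twE_comm hna hg hgR h v.2).eq
      calc y * (v : G) * y⁻¹
          = a ^ 2 ^ (m - 2) * ((a ^ 2 ^ (m - 2))⁻¹ * y * (v : G)) *
              ((a ^ 2 ^ (m - 2))⁻¹ * y)⁻¹ * (a ^ 2 ^ (m - 2))⁻¹ := by group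
        _ = _ := by rw [hc]; group
  have hτR : (⟨τ, hτmem⟩ : F.autGroup (twE P g)) ∈ (R : Subgroup (F.autGroup (twE P g))) := by
    rw [hR, Subgroup.mem_subgroupOf, mem_autInducedBy]
    exact ⟨w, hwP, fun y => (hτy y).trans (by rw [hw])⟩
  have hNC : Subgroup.normalizer ((R : Subgroup (F.autGroup (twE P g))) : Set (F.autGroup (twE P g))) ≤
      Subgroup.centralizer ((R : Subgroup (F.autGroup (twE P g))) : Set (F.autGroup (twE P g))) := by
    intro β hβ
    refine Subgroup.mem_centralizer_iff.2 fun ρ hρ => ?_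
    rcases hRmem ρ hρ with rfl | rfl
    · simp
    rcases hRmem _ ((Subgroup.mem_normalizer_iff.1 hβ _).1 hτR) with e | e
    · exact absurd (congrArg Subtype.val (conj_eq_one_iff.1 e)) hτ1
    · exact (mul_inv_eq_iff_eq_mul.1 e).symm
  obtain ⟨π, hπ⟩ : ∃ π, π = MonoidHom.transferSylow R hNC := ⟨_, rfl⟩
  have hC := MonoidHom.ker_transferSylow_isComplement' R hNC
  rw [← hπ] at hC
  have hkodd : ∀ ν : F.autGroup (twE P g), ν ∈ π.ker → ∃ n, Odd n ∧ (ν : MulAut (twE P g)) ^ n = 1 := by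
    intro ν hν
    refine ⟨Nat.card π.ker, ?_, ?_⟩
    · rw [← Nat.not_even_iff_odd, even_iff_two_dvd, hπ]
      exact MonoidHom.not_dvd_card_ker_transferSylow R hNC
    · rw [← SubmonoidClass.coe_pow, show ν ^ Nat.card π.ker = 1 from
        congrArg Subtype.val (pow_card_eq_one' (x := (⟨ν, hν⟩ : π.ker))), OneMemClass.coe_one]
  have hker : ∀ ν : F.autGroup (twE P g), (∃ n, Odd n ∧ (ν : MulAut (twE P g)) ^ n = 1) →
      ν ∈ π.ker := by
    rintro ν ⟨n, hn, hνn⟩
    rw [MonoidHom.mem_ker]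
    have h1 : π ν ^ n = 1 := by
      rw [← map_pow, show ν ^ n = 1 from Subtype.ext (by simpa using hνn), map_one]
    rcases hRmem _ (π ν).2 with h | h
    · exact Subtype.ext h
    · exfalso
      obtain ⟨k, rfl⟩ := hn
      have h2 := congrArg (fun r : R => ((r : F.autGroup (twE P g)) : MulAut (twE P g))) h1
      simp only [SubmonoidClass.coe_pow, Subgroup.coe_mul, OneMemClass.coe_one, h, pow_succ, pow_mul, sq, hτ2,
        one_pow, one_mul] at h2
      exact hτ1 h2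
  -- fixed-point-freeness
  have hfix : ∀ ν : MulAut (twE P g), (∃ n, Odd n ∧ ν ^ n = 1) → Commute τ ν → ν = 1 := by
    rintro ν ⟨n, hodd, hn⟩ hc
    have hcy : ∀ y, τ (ν y) = ν (τ y) := fun y => by
      rw [← MulAut.mul_apply, ← MulAut.mul_apply, hc.eq]
    have hVstab : ∀ y : twE P g, InV a t m (y : G) → InV a t m ((ν y : twE P g) : G) := by
      intro y hy
      rcases S.tau_cases hg hgR hτy (ν y) with ⟨h, -⟩ | ⟨-, h⟩
      · exact h
      exfalso
      have hyfix : τ y = y := by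
        rcases S.tau_cases hg hgR hτy y with ⟨-, h'⟩ | ⟨h', -⟩
        · exact h'
        · exact absurd (S.pair.inV_mem hy) h'
      rw [hcy, hyfix] at h
      exact B.zeta_ne hna (right_eq_mul.1 h)
    have hZfix : ν Z0 = Z0 := by
      have h1 := congrArg ν hτG
      rw [map_mul, ← hcy] at h1
      rcases S.tau_cases hg hgR hτy (ν G0) with ⟨-, h⟩ | ⟨-, h⟩
      · exfalso
        rw [h, right_eq_mul] at h1
        refine B.zeta_ne hna ?_
        have : Z0 = 1 := ν.injective (h1.trans (map_one ν).symm)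
        simpa [hZ0] using congrArg Subtype.val this
      · rw [h1, Subgroup.coe_mul, mul_left_inj] at h
        exact Subtype.ext (h.trans (by rw [hZ0]))
    have hZ2 : Z0 ^ 2 ^ 1 = 1 := Subtype.ext (by
      rw [pow_one, Subgroup.coe_pow, sq, hZ0]; exact S.pair.inV_sq B.zeta_inV)
    have hTE : t ∈ twE P g := ((B.twE_inter hna hg hgR).2 S.pair.inV_t).1
    have hTfix : ν ⟨t, hTE⟩ = ⟨t, hTE⟩ := by
      rcases (S.inV_iff_zeta).1 (hVstab ⟨t, hTE⟩ S.pair.inV_t) with h | h | h | h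
      · exfalso
        refine S.pair.t_ne ?_
        simpa using congrArg Subtype.val
          (ν.injective ((Subtype.ext h : ν ⟨t, hTE⟩ = 1).trans (map_one ν).symm))
      · exfalso
        have h' : ν ⟨t, hTE⟩ = ν Z0 := by rw [hZfix, hZ0]; exact Subtype.ext h
        refine S.zeta_ne_t ?_
        simpa [hZ0] using (congrArg Subtype.val (ν.injective h')).symm
      · exact Subtype.ext h
      · refine fix_of_fix_diff hn hodd hZfix hZ2 (Subtype.ext ?_)
        rw [h, Subgroup.coe_mul, hZ0]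
        exact (S.pair.R_comm (S.pair.inV_mem B.zeta_inV) S.pair.t_mem).eq
    have hVfix : ∀ y : twE P g, InV a t m (y : G) → ν y = y := by
      intro y hy
      rcases (S.inV_iff_zeta).1 hy with h | h | h | h
      · rw [show y = 1 from Subtype.ext h, map_one]
      · rw [show y = Z0 from Subtype.ext (by rw [h, hZ0]), hZfix]
      · rw [show y = ⟨t, hTE⟩ from Subtype.ext h, hTfix]
      · rw [show y = Z0 * ⟨t, hTE⟩ from Subtype.ext (by rw [h, hZ0]; rfl), map_mul, hZfix, hTfix]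
    refine MulEquiv.ext fun y => ?_
    rw [MulAut.one_apply]
    by_cases hyR : (y : G) ∈ twR a t
    · exact hVfix y ((B.twE_inter hna hg hgR).1 ⟨y.2, hyR⟩)
    have hd : InV a t m (((y⁻¹ * ν y : twE P g)) : G) := by
      refine (B.twE_inter hna hg hgR).1 ⟨(y⁻¹ * ν y).2, ?_⟩
      rw [Subgroup.coe_mul, InvMemClass.coe_inv]
      refine B.out_mul_mem (P.inv_mem (mem_twE.1 y.2).1)
        (fun h => hyR (inv_inv (y : G) ▸ inv_mem h)) (mem_twE.1 (ν y).2).1 fun h => hyR ?_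
      have h2 := hVfix (ν y) ((B.twE_inter hna hg hgR).1 ⟨(ν y).2, h⟩)
      rwa [← ν.injective h2]
    refine fix_of_fix_diff hn hodd (hVfix _ hd) (k := 1) (Subtype.ext ?_)
      (mul_inv_cancel_left y (ν y)).symm
    rw [pow_one, Subgroup.coe_pow, sq]
    exact S.pair.inV_sq hd
  -- inversion
  haveI : π.ker.Normal := MonoidHom.normal_ker π
  obtain ⟨T, hT⟩ : ∃ T : F.autGroup (twE P g), T = ⟨τ, hτmem⟩ := ⟨_, rfl⟩
  let ψ : π.ker →* π.ker :=
    { toFun := fun ν => ⟨T * ν * T⁻¹, Subgroup.Normal.conj_mem inferInstance _ ν.2 T⟩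
      map_one' := Subtype.ext (by simp)
      map_mul' := fun ν μ => Subtype.ext (by
        show T * ((ν : F.autGroup (twE P g)) * μ) * T⁻¹ = T * ν * T⁻¹ * (T * μ * T⁻¹)
        group) }
  have hψfree : MonoidHom.FixedPointFree ψ := fun ν h => by
    have h1 := congrArg (fun z : π.ker => ((z : F.autGroup (twE P g)) : MulAut (twE P g))) h
    simp only [ψ, MonoidHom.coe_mk, OneHom.coe_mk, Subgroup.coe_mul, InvMemClass.coe_inv, hT] at h1
    exact Subtype.ext (Subtype.ext (hfix _ (hkodd _ ν.2) (mul_inv_eq_iff_eq_mul.1 h1)))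
  have hψinv : Function.Involutive ψ := fun ν => by
    refine Subtype.ext ?_
    show T * (T * (ν : F.autGroup (twE P g)) * T⁻¹) * T⁻¹ = ν
    have hTT : T * T = 1 := by rw [hT]; exact Subtype.ext hτ2
    rw [show T * (T * (ν : F.autGroup (twE P g)) * T⁻¹) * T⁻¹ = T * T * ν * (T * T)⁻¹ by group,
      hTT, inv_one, one_mul, mul_one]
  refine ⟨⟨τ, hτmem, hτy, fun β hβ => ?_, fun ν hν hodd => ?_, fun ν hν μ hμ h1 h2 => ?_⟩⟩
  · obtain ⟨⟨⟨ν, hν⟩, ⟨ρ, hρ⟩⟩, he, -⟩ := hC.existsUnique (⟨β, hβ⟩ : F.autGroup (twE P g))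
    have he' := congrArg Subtype.val he
    refine ⟨ν, ν.2, hkodd ν hν, ?_⟩
    rcases hRmem ρ hρ with rfl | rfl
    · left; simpa using he'.symm
    · right; simpa using he'.symm
  · have h1 := congrFun (hψfree.coe_eq_inv_of_involutive hψinv) ⟨⟨ν, hν⟩, hker _ hodd⟩
    have h2 := congrArg (fun z : π.ker => ((z : F.autGroup (twE P g)) : MulAut (twE P g))) h1
    simpa [ψ, hT] using h2
  · have h := hψfree.commute_all_of_involutive hψinv ⟨⟨ν, hν⟩, hker _ h1⟩ ⟨⟨μ, hμ⟩, hker _ h2⟩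
    exact congrArg (fun z : π.ker => ((z : F.autGroup (twE P g)) : MulAut (twE P g))) h

/-- A nontrivial automorphism of odd order fixes an odd central involution and moves the others. -/
theorem odd_aut_spec (Dt : EightData S F g) {α : MulAut (twE P g)}
    (hα : α ∈ F.autGroup (twE P g)) {n : ℕ} (hodd : Odd n) (hn : α ^ n = 1) (hne : α ≠ 1) :
    (∀ y : twE P g, (y : G) = twZeta a x m → ((α y : twE P g) : G) ∉ twR a t) ∧
      (∃ y : twE P g, ((y : G) = t ∨ (y : G) = twZeta a x m * t) ∧ α y = y) ∧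
      (∀ y : twE P g, α y = y → InV a t m (y : G)) := by
  have B := S.toBase
  have hna := S.not_comm
  have hζE : twZeta a x m ∈ twE P g := ((B.twE_inter hna hg hgR).2 B.zeta_inV).1
  obtain ⟨Z0, hZ0⟩ : ∃ Z0 : twE P g, Z0 = ⟨twZeta a x m, hζE⟩ := ⟨_, rfl⟩
  have hZ2 : Z0 * Z0 = 1 := Subtype.ext (by rw [hZ0]; exact S.pair.inV_sq B.zeta_inV)
  have hinv : ∀ y, Dt.τ (α (Dt.τ.symm y)) = α.symm y := fun y =>
    DFunLike.congr_fun (Dt.inv α hα ⟨n, hodd, hn⟩) y
  have hτ : ∀ y, Dt.τ y = y ∨ Dt.τ y = Z0 * y := fun y => by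
    rcases S.tau_cases hg hgR Dt.τconj y with ⟨-, h⟩ | ⟨-, h⟩
    · exact Or.inl h
    · exact Or.inr (Subtype.ext (by rw [h, Subgroup.coe_mul, hZ0]))
  have hτV : ∀ y : twE P g, InV a t m (y : G) → Dt.τ y = y := fun y hy => by
    rcases S.tau_cases hg hgR Dt.τconj y with ⟨-, h⟩ | ⟨h, -⟩
    · exact h
    · exact absurd (S.pair.inV_mem hy) h
  have hτZ : Dt.τ Z0 = Z0 := hτV Z0 (by rw [hZ0]; exact B.zeta_inV)
  have hτ' : ∀ y, Dt.τ.symm y = y ∨ Dt.τ.symm y = Z0 * y := fun y => by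
    rcases hτ y with h | h
    · exact Or.inl (Dt.τ.symm_apply_eq.2 h.symm)
    · exact Or.inr (Dt.τ.symm_apply_eq.2 (by rw [map_mul, hτZ, h, ← mul_assoc, hZ2, one_mul]))
  have hsq : ∀ y, (α ^ 2) y = y → α y = y := fun y h =>
    fix_of_pow_fix hn (by simpa using coprime_two_pow hodd 1) h
  have hin : ∀ y : twE P g, InV a t m (y : G) → InV a t m ((α y : twE P g) : G) → α y = y := by
    intro y hy hay
    refine hsq y ?_
    have h1 := hinv y
    rw [show Dt.τ.symm y = y from Dt.τ.symm_apply_eq.2 (hτV y hy).symm, hτV _ hay] at h1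
    rw [pow_two, MulAut.mul_apply, h1]
    exact α.apply_symm_apply y
  have hZmove : α Z0 ≠ Z0 := by
    intro hZf
    refine hne (MulEquiv.ext fun y => ?_)
    rw [MulAut.one_apply]
    refine hsq y ?_
    have h1 := hinv y
    obtain ⟨d, hd, hd'⟩ : ∃ d : twE P g, (d = 1 ∨ d = Z0) ∧ α.symm y = d * α y := by
      rcases hτ' y with e1 | e1 <;> rw [e1] at h1
      · rcases hτ (α y) with e2 | e2 <;> rw [e2] at h1
        · exact ⟨1, Or.inl rfl, by rw [← h1, one_mul]⟩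
        · exact ⟨Z0, Or.inr rfl, h1.symm⟩
      · rw [map_mul, hZf, map_mul, hτZ] at h1
        rcases hτ (α y) with e2 | e2 <;> rw [e2] at h1
        · exact ⟨Z0, Or.inr rfl, h1.symm⟩
        · exact ⟨1, Or.inl rfl, by rw [← h1, ← mul_assoc, hZ2, one_mul]⟩
    have hdfix : α d = d := by rcases hd with rfl | rfl; exacts [map_one α, hZf]
    have hd2 : d * d = 1 := by rcases hd with rfl | rfl; exacts [one_mul 1, hZ2]
    have h2 : (α ^ 2) y = y * d := by
      have h3 := congrArg α hd'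
      rw [α.apply_symm_apply, map_mul, hdfix] at h3
      rw [pow_two, MulAut.mul_apply]
      have hc : Commute y d := Subtype.ext (B.twE_comm hna hg hgR y.2 d.2).eq
      rw [hc.eq]
      calc α (α y) = d * d * α (α y) := by rw [hd2, one_mul]
        _ = d * y := by rw [mul_assoc, ← h3]
    exact fix_of_fix_diff (α := α ^ 2) (by rw [← pow_mul, mul_comm, pow_mul, hn, one_pow]) hodd
      (k := 1) (by rw [pow_two, MulAut.mul_apply, hdfix, hdfix]) (by rw [pow_one, sq, hd2]) h2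
  have hZout : ((α Z0 : twE P g) : G) ∉ twR a t := fun h => hZmove
    (hin Z0 (by rw [hZ0]; exact B.zeta_inV) ((B.twE_inter hna hg hgR).1 ⟨(α Z0).2, h⟩))
  refine ⟨fun y hy => by rw [show y = Z0 from Subtype.ext (by rw [hy, hZ0])]; exact hZout, ?_, ?_⟩
  · have hTE : t ∈ twE P g := ((B.twE_inter hna hg hgR).2 S.pair.inV_t).1
    obtain ⟨T0, hT0⟩ : ∃ T0 : twE P g, T0 = ⟨t, hTE⟩ := ⟨_, rfl⟩
    have hT0V : InV a t m (T0 : G) := by rw [hT0]; exact S.pair.inV_t
    by_cases hTo : ((α T0 : twE P g) : G) ∈ twR a t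
    · exact ⟨T0, Or.inl (by rw [hT0]),
        hin T0 hT0V ((B.twE_inter hna hg hgR).1 ⟨(α T0).2, hTo⟩)⟩
    · refine ⟨Z0 * T0, Or.inr (by rw [hZ0, hT0]; rfl), hin _ ?_ ((B.twE_inter hna hg hgR).1
        ⟨(α (Z0 * T0)).2, ?_⟩)⟩
      · rw [Subgroup.coe_mul]
        exact S.pair.inV_mul (by rw [hZ0]; exact B.zeta_inV) hT0V
      · rw [map_mul, Subgroup.coe_mul]
        exact B.out_mul_mem (mem_twE.1 (α Z0).2).1 hZout (mem_twE.1 (α T0).2).1 hTo
  · intro y hy
    rcases S.tau_cases hg hgR Dt.τconj y with ⟨h, -⟩ | ⟨-, h⟩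
    · exact h
    exfalso
    refine hZmove ?_
    have hτy : Dt.τ y = Z0 * y := Subtype.ext (by rw [h, Subgroup.coe_mul, hZ0])
    have h1 := hinv (Dt.τ y)
    rw [Dt.τ.symm_apply_apply, hy, hτy] at h1
    have h2 := congrArg α h1
    rw [α.apply_symm_apply, map_mul, hy] at h2
    exact mul_right_cancel h2

/-- The automizer is induced or fuses. -/
theorem fus_or_induced :
    (∀ α ∈ F.autGroup (twE P g), ∃ y ∈ P, ∀ w : twE P g,
      ((α w : twE P g) : G) = y * (w : G) * y⁻¹) ∨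
    Fus F g t ∨ Fus F g (twZeta a x m * t) := by
  by_cases h : ∀ α ∈ F.autGroup (twE P g), ∀ n : ℕ, Odd n → α ^ n = 1 → α = 1
  · exact Or.inl fun α hα => autGroup_induced S.toBase.isPGroup hF
      (S.fullyNormalized_twE hg hgR hg2 F) (isPGroup_two_of_odd _ h) hα
  push_neg at h
  obtain ⟨α, hα, n, hodd, hn, hne⟩ := h
  obtain ⟨Dt⟩ := S.exists_eightData hF hg hgR hg2
  obtain ⟨-, ⟨y, hy, hfix⟩, -⟩ := S.odd_aut_spec hF hg hgR hg2 Dt hα hodd hn hne
  refine Or.inr ?_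
  rcases hy with hy | hy
  · exact Or.inl ⟨α, hα, n, hodd, hn, hne, fun w hw =>
      by rw [show w = y from Subtype.ext (hw.trans hy.symm), hfix]⟩
  · exact Or.inr ⟨α, hα, n, hodd, hn, hne, fun w hw =>
      by rw [show w = y from Subtype.ext (hw.trans hy.symm), hfix]⟩

/-- Only one of the two odd central involutions is fixed. -/
theorem fus_exclusive : ¬ (Fus F g t ∧ Fus F g (twZeta a x m * t)) := by
  rintro ⟨⟨α, hα, n, hodd, hn, hne, hfix⟩, ⟨β, hβ, k, hkodd, hk, hbne, hbfix⟩⟩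
  have B := S.toBase
  have hna := S.not_comm
  obtain ⟨Dt⟩ := S.exists_eightData hF hg hgR hg2
  obtain ⟨-, -, hfixV⟩ := S.odd_aut_spec hF hg hgR hg2 Dt hα hodd hn hne
  obtain ⟨hbZ, -, -⟩ := S.odd_aut_spec hF hg hgR hg2 Dt hβ hkodd hk hbne
  obtain ⟨haZ, -, -⟩ := S.odd_aut_spec hF hg hgR hg2 Dt hα hodd hn hne
  have hTE : t ∈ twE P g := ((B.twE_inter hna hg hgR).2 S.pair.inV_t).1
  have hζE : twZeta a x m ∈ twE P g := ((B.twE_inter hna hg hgR).2 B.zeta_inV).1
  have hcomm := Dt.comm α hα β hβ ⟨n, hodd, hn⟩ ⟨k, hkodd, hk⟩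
  have hT : α (β ⟨t, hTE⟩) = β ⟨t, hTE⟩ := by
    rw [← MulAut.mul_apply, hcomm.eq, MulAut.mul_apply, hfix ⟨t, hTE⟩ rfl]
  have hv := hfixV _ hT
  have hbT : β ⟨t, hTE⟩ = ⟨t, hTE⟩ := by
    rcases (S.inV_iff_zeta).1 hv with h | h | h | h
    · exfalso
      refine S.pair.t_ne ?_
      simpa using congrArg Subtype.val
        (β.injective ((Subtype.ext h : β ⟨t, hTE⟩ = 1).trans (map_one β).symm))
    · exfalso
      refine haZ ⟨_, hζE⟩ rfl ?_
      rw [show (⟨_, hζE⟩ : twE P g) = β ⟨t, hTE⟩ from Subtype.ext h.symm, hT, h]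
      exact S.pair.inV_mem B.zeta_inV
    · exact Subtype.ext h
    · exfalso
      refine haZ ⟨_, hζE⟩ rfl ?_
      have e : β ⟨t, hTE⟩ = ⟨_, hζE⟩ * ⟨t, hTE⟩ := Subtype.ext (by rw [h]; rfl)
      rw [e, map_mul, hfix ⟨t, hTE⟩ rfl, mul_left_inj] at hT
      rw [hT]
      exact S.pair.inV_mem B.zeta_inV
  have hZt : β (⟨_, hζE⟩ * ⟨t, hTE⟩) = ⟨_, hζE⟩ * ⟨t, hTE⟩ := hbfix _ rfl
  rw [map_mul, hbT, mul_left_inj] at hZt
  exact hbZ ⟨_, hζE⟩ rfl (by rw [hZt]; exact S.pair.inV_mem B.zeta_inV)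

/-- The consequences of fusion at `g`. -/
theorem fus_data {f : G} (hf : f = t ∨ f = twZeta a x m * t) (h : Fus F g f) :
    ∃ u ∈ twE P g, u ∉ twR a t ∧
      (∀ lam : G → ℂ, (∀ y ∈ twE P g, ∀ w ∈ twE P g, lam (y * w) = lam y * lam w) →
        lam f * lam f = 1 → lam (twZeta a x m) = 1 → lam u = 1 →
          ∀ β ∈ F.autGroup (twE P g), ∀ y : twE P g,
            lam ((β y : twE P g) : G) = lam (y : G)) ∧
      (∀ y : twE P g, (y : G) ∉ twR a t →
        ∃ β ∈ F.autGroup (twE P g), InV a t m ((β y : twE P g) : G)) := by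
  obtain ⟨α, hα, n, hodd, hn, hne, hfix⟩ := h
  have B := S.toBase
  have hna := S.not_comm
  obtain ⟨Dt⟩ := S.exists_eightData hF hg hgR hg2
  obtain ⟨haZ, -, hfixV⟩ := S.odd_aut_spec hF hg hgR hg2 Dt hα hodd hn hne
  have hfv : InV a t m f := by
    rcases hf with rfl | rfl
    exacts [S.pair.inV_t, S.pair.inV_mul B.zeta_inV S.pair.inV_t]
  have hfE : f ∈ twE P g := ((B.twE_inter hna hg hgR).2 hfv).1
  have hζE : twZeta a x m ∈ twE P g := ((B.twE_inter hna hg hgR).2 B.zeta_inV).1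
  obtain ⟨Z0, hZ0⟩ : ∃ Z0 : twE P g, Z0 = ⟨twZeta a x m, hζE⟩ := ⟨_, rfl⟩
  obtain ⟨F0, hF0⟩ : ∃ F0 : twE P g, F0 = ⟨f, hfE⟩ := ⟨_, rfl⟩
  have hFfix : α F0 = F0 := hfix F0 (by rw [hF0])
  have hF0v : (F0 : G) = f := by rw [hF0]
  have hZ0v : (Z0 : G) = twZeta a x m := by rw [hZ0]
  have hf1 : f ≠ 1 := by
    rcases hf with rfl | rfl
    · exact S.pair.t_ne
    · exact fun e => S.zeta_ne_t (by rw [eq_inv_of_mul_eq_one_left e, S.pair.t_inv])
  have hfζ : f ≠ twZeta a x m := by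
    rcases hf with rfl | rfl
    · exact S.zeta_ne_t.symm
    · exact fun e => S.pair.t_ne (mul_eq_left.1 e)
  obtain ⟨U, hU⟩ : ∃ U : twE P g, U = α Z0 := ⟨_, rfl⟩
  have hUR : (U : G) ∉ twR a t := by rw [hU]; exact haZ Z0 (by rw [hZ0])
  have hcm : ∀ y w : twE P g, Commute y w := fun y w =>
    Subtype.ext (B.twE_comm hna hg hgR y.2 w.2).eq
  have hsq1 : ∀ y : twE P g, y * y = 1 := fun y => Subtype.ext (B.twE_sq hna hg hgR hg2 y.2)
  -- the conjugate of the orbit
  have hτU : Dt.τ U = Z0 * U := by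
    rcases S.tau_cases hg hgR Dt.τconj U with ⟨h1, -⟩ | ⟨-, h1⟩
    · exact absurd (S.pair.inV_mem h1) hUR
    · exact Subtype.ext (by rw [h1, Subgroup.coe_mul, hZ0])
  have hτZ : Dt.τ Z0 = Z0 := by
    rcases S.tau_cases hg hgR Dt.τconj Z0 with ⟨-, h1⟩ | ⟨h1, -⟩
    · exact h1
    · exact absurd (S.pair.inV_mem (by rw [hZ0]; exact B.zeta_inV)) h1
  have hsymm : α.symm Z0 = Z0 * U := by
    rw [← hτU, hU]
    have := DFunLike.congr_fun (Dt.inv α hα ⟨n, hodd, hn⟩) Z0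
    refine (this.symm.trans ?_ : α⁻¹ Z0 = _)
    show Dt.τ (α (Dt.τ.symm Z0)) = _
    rw [Dt.τ.symm_apply_eq.2 hτZ.symm]
  have hαU : α U = Z0 * U := by
    have h1 := congrArg α hsymm
    rw [α.apply_symm_apply, map_mul, ← hU] at h1
    conv_rhs => rw [h1, (hcm U (α U)).eq, mul_assoc, hsq1, mul_one]
  have hgen : ∀ y : twE P g, ∃ v, (v = 1 ∨ v = Z0 ∨ v = F0 ∨ v = Z0 * F0) ∧ (y = v ∨ y = v * U) := by
    intro y
    have hV4 : ∀ y : twE P g, InV a t m (y : G) → y = 1 ∨ y = Z0 ∨ y = F0 ∨ y = Z0 * F0 := by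
      intro y hy
      have hiff := (S.inV_iff_zeta).1 hy
      rcases hf with hff | hff <;> rcases hiff with e | e | e | e
      · exact Or.inl (Subtype.ext e)
      · exact Or.inr (Or.inl (Subtype.ext (by rw [e, hZ0v])))
      · exact Or.inr (Or.inr (Or.inl (Subtype.ext (by rw [e, hF0v, hff]))))
      · exact Or.inr (Or.inr (Or.inr (Subtype.ext (by
          rw [e, Subgroup.coe_mul, hZ0v, hF0v, hff]))))
      · exact Or.inl (Subtype.ext e)
      · exact Or.inr (Or.inl (Subtype.ext (by rw [e, hZ0v])))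
      · exact Or.inr (Or.inr (Or.inr (Subtype.ext (by
          rw [e, Subgroup.coe_mul, hZ0v, hF0v, hff, S.zt_mul]))))
      · exact Or.inr (Or.inr (Or.inl (Subtype.ext (by rw [e, hF0v, hff]))))
    by_cases hyR : (y : G) ∈ twR a t
    · exact ⟨y, hV4 y ((B.twE_inter hna hg hgR).1 ⟨y.2, hyR⟩), Or.inl rfl⟩
    · refine ⟨y * U, hV4 _ ((B.twE_inter hna hg hgR).1 ⟨(y * U).2, ?_⟩), Or.inr ?_⟩
      · rw [Subgroup.coe_mul]
        exact B.out_mul_mem (mem_twE.1 y.2).1 hyR (mem_twE.1 U.2).1 hUR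
      · rw [mul_assoc, hsq1, mul_one]
  refine ⟨U, U.2, hUR, fun lam hmul hff hζ hu => ?_, ?_⟩
  · have hl : ∀ y w : twE P g, lam ((y * w : twE P g) : G) = lam (y : G) * lam (w : G) :=
      fun y w => hmul _ y.2 _ w.2
    have hL : ∀ φ : MulAut (twE P g), lam ((φ Z0 : twE P g) : G) = lam (Z0 : G) →
        lam ((φ F0 : twE P g) : G) = lam (F0 : G) → lam ((φ U : twE P g) : G) = lam (U : G) →
        ∀ y, lam ((φ y : twE P g) : G) = lam (y : G) := by
      intro φ h1 h2 h3 y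
      have h0 : lam ((φ 1 : twE P g) : G) = lam ((1 : twE P g) : G) := by rw [map_one]
      obtain ⟨v, hv, hy⟩ := hgen y
      rcases hy with rfl | rfl <;> rcases hv with rfl | rfl | rfl | rfl
      exacts [h0, h1, h2, by rw [map_mul, hl, hl, h1, h2], by rw [map_mul, hl, hl, h0, h3],
        by rw [map_mul, hl, hl, h1, h3], by rw [map_mul, hl, hl, h2, h3],
        by rw [map_mul, map_mul, hl, hl, hl, hl, h1, h2, h3]]
    have hζv : lam (Z0 : G) = 1 := by rw [hZ0v]; exact hζ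
    have hl1 : lam ((1 : twE P g) : G) = 1 := by rw [← hsq1 Z0, hl, hζv, one_mul]
    -- the values on the moved part
    have hpair : ∀ y : twE P g, lam ((y : twE P g) : G) * lam ((α y : twE P g) : G) = 1 := by
      intro y
      obtain ⟨v, hv, hy⟩ := hgen y
      have hFF : lam (F0 : G) * lam (F0 : G) = 1 := by rw [hF0v]; exact hff
      have hαZ : lam ((α Z0 : twE P g) : G) = 1 := by rw [← hU]; exact hu
      have hαU1 : lam ((α U : twE P g) : G) = 1 := by rw [hαU, hl, hζv, hu, one_mul]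
      rcases hy with rfl | rfl <;> rcases hv with rfl | rfl | rfl | rfl <;>
        simp only [map_mul, map_one, hl, hl1, hζv, hu, hαZ, hαU1, hFfix, one_mul, mul_one, hFF]
    intro β hβ y
    obtain ⟨ν, hν, hνodd, hβν⟩ := Dt.split β hβ
    have hνc : Commute ν α := Dt.comm ν hν α hα hνodd ⟨n, hodd, hn⟩
    have hνc' : ∀ w, α (ν w) = ν (α w) := fun w => by
      rw [← MulAut.mul_apply, ← MulAut.mul_apply, hνc.eq]
    have hνF : ν F0 = F0 := by
      have h1 : α (ν F0) = ν F0 := by rw [hνc', hFfix]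
      rcases (S.inV_iff_zeta).1 (hfixV _ h1) with e | e | e | e
      · exfalso
        have : F0 = 1 := ν.injective ((Subtype.ext e : ν F0 = 1).trans (map_one ν).symm)
        exact hf1 (by simpa [hF0v] using congrArg Subtype.val this)
      · exfalso
        rw [show ν F0 = Z0 from Subtype.ext (by rw [e, hZ0v])] at h1
        exact hUR (by rw [hU, h1, hZ0]; exact S.pair.inV_mem B.zeta_inV)
      all_goals
        by_contra hne'
        have e' : ν F0 = Z0 * F0 := by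
          rcases hf with hff' | hff'
          all_goals first
            | (refine absurd (Subtype.ext ?_) hne'; rw [e, hF0v, hff']; done)
            | (refine Subtype.ext ?_; rw [e, Subgroup.coe_mul, hZ0v, hF0v, hff']; done)
            | (refine Subtype.ext ?_; rw [e, Subgroup.coe_mul, hZ0v, hF0v, hff', S.zt_mul])
        rw [e', map_mul, hFfix, mul_left_inj] at h1
        exact hUR (by rw [hU, h1, hZ0]; exact S.pair.inV_mem B.zeta_inV)
    have hform : Z0 = U * α U := by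
      rw [hαU, (hcm Z0 U).eq, ← mul_assoc, hsq1, one_mul]
    have hν0 : ∀ y, lam ((ν y : twE P g) : G) = lam (y : G) := by
      refine hL ν ?_ (by rw [hνF]) ?_
      · rw [hζv, hform, map_mul, ← hνc', hl, hpair]
      · rw [hu]
        nth_rewrite 1 [hU]
        rw [← hνc', hform, map_mul, map_mul, ← hνc', hl, hpair]
    rcases hβν with rfl | rfl
    · exact hν0 y
    · rw [MulAut.mul_apply, hν0]
      rcases S.tau_cases hg hgR Dt.τconj y with ⟨-, e⟩ | ⟨-, e⟩
      · rw [e]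
      · rw [e, hmul _ hζE _ y.2, hζ, one_mul]
  · intro y hy
    have hαmem : α⁻¹ ∈ F.autGroup (twE P g) := inv_mem hα
    obtain ⟨v, hv, hyv⟩ := hgen y
    rcases hyv with rfl | rfl
    · exfalso
      refine hy (S.pair.inV_mem ?_)
      have hzv : InV a t m (Z0 : G) := by rw [hZ0v]; exact B.zeta_inV
      have hfv' : InV a t m (F0 : G) := by rw [hF0v]; exact hfv
      rcases hv with rfl | rfl | rfl | rfl
      exacts [S.pair.inV_one, hzv, hfv', by rw [Subgroup.coe_mul]; exact S.pair.inV_mul hzv hfv']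
    have hzv : InV a t m (Z0 : G) := by rw [hZ0v]; exact B.zeta_inV
    have hfv' : InV a t m (F0 : G) := by rw [hF0v]; exact hfv
    have hα'U : α⁻¹ U = Z0 := by rw [hU]; exact α.symm_apply_apply Z0
    have hα'F : α⁻¹ F0 = F0 := α.symm_apply_eq.2 hFfix.symm
    have hαZU : α (Z0 * U) = Z0 := by rw [← hsymm]; exact α.apply_symm_apply Z0
    rcases hv with rfl | rfl | rfl | rfl
    · exact ⟨α⁻¹, hαmem, by rw [one_mul, hα'U]; exact hzv⟩
    · exact ⟨α, hα, by rw [hαZU]; exact hzv⟩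
    · exact ⟨α⁻¹, hαmem, by
        rw [map_mul, hα'U, hα'F, Subgroup.coe_mul]; exact S.pair.inV_mul hfv' hzv⟩
    · exact ⟨α, hα, by
        rw [(hcm Z0 F0).eq, mul_assoc, map_mul, hαZU, hFfix, Subgroup.coe_mul]
        exact S.pair.inV_mul hfv' hzv⟩

end TwNorm

end Cfsg.Lib.Block
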