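import Cfsg.Agent.Lib.Block.TwistAut
import Cfsg.Agent.Lib.FusionSys.Alperin
import Cfsg.Agent.Lib.FusionSys.RankTwoEssential

/-!
# Saturated fusion systems on the twisted two-groups

The essential subgroups are elementary of order eight at involutions outside the abelian subgroup;
there an automorphism of order three fixes one of the two odd central involutions.
-/

set_option autoImplicit false
set_option linter.unusedSectionVars false

namespace Cfsg.Lib.Block

open Cfsg Cfsg.Lib.FusionSys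
open Cfsg.FusionSystem (centralizerIn normalizerIn)

universe u

variable {G : Type u} [Group G]

/-- A function constant on the automizers is constant on the system. -/
theorem invariant_fun {S : Subgroup G} [Finite S] {p : ℕ} [Fact p.Prime] (hS : IsPGroup p S)
    {F : FusionSystem S} (hF : F.IsSaturated p) {X : Type*} (f : G → X)
    (hconj : ∀ g ∈ S, ∀ y ∈ S, f (g * y * g⁻¹) = f y)
    (haut : ∀ Q : Subgroup G, (Q = S ∨ F.IsEssential p Q) → ∀ α ∈ F.autGroup Q, ∀ y : Q,
      f ((α y : Q) : G) = f (y : G))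
    {Q : Subgroup G} {φ : Q →* G} (hφ : φ ∈ F.Hom Q) (y : Q) : f (φ y) = f (y : G) := by
  let E : FusionSystem S :=
    { Hom := fun Q => {φ | φ ∈ F.Hom Q ∧ ∀ y : Q, f (φ y) = f (y : G)}
      le_of_mem := fun h => F.le_of_mem h.1
      injective_of_mem := fun h => F.injective_of_mem h.1
      conj_mem := fun hQ hg => ⟨F.conj_mem hQ hg, fun y => hconj _ hg _ (hQ y.2)⟩
      comp_mem := fun {P Q φ ψ} h1 h2 hv => ⟨F.comp_mem h1.1 h2.1 hv, fun y =>
        (h2.2 ⟨φ y, hv y⟩).trans (h1.2 y)⟩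
      inv_mem := fun {P φ} h => by
        obtain ⟨ψ, hψ, he⟩ := F.inv_mem h.1
        refine ⟨ψ, ⟨hψ, ?_⟩, he⟩
        rintro ⟨_, y, rfl⟩
        rw [he y]
        exact (h.2 y).symm }
  have hle : F ≤ E := le_of_autGroup_le hS hF E fun R hR α hα => by
    have hRS : R ≤ S := by
      rcases hR with rfl | h
      · exact le_rfl
      · exact h.1.1
    exact (mem_autGroup hRS).2 ⟨(mem_autGroup hRS).1 hα, fun y => haut R hR α hα y⟩
  exact (hle Q hφ).2 y

/-- A two-group of automorphisms of a fully normalized subgroup is induced. -/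
theorem autGroup_induced {S : Subgroup G} [Finite S] {p : ℕ} [Fact p.Prime] (hS : IsPGroup p S)
    {F : FusionSystem S} (hF : F.IsSaturated p) {Q : Subgroup G} (hQ : F.IsFullyNormalized Q)
    (hK : IsPGroup p (F.autGroup Q)) {α : MulAut Q} (hα : α ∈ F.autGroup Q) :
    ∃ g ∈ S, ∀ y : Q, ((α y : Q) : G) = g * (y : G) * g⁻¹ := by
  obtain ⟨-, -, R, hR⟩ := isFullyAutomized_and_fc_of_fn hS hF hQ
  have h1 : (⊤ : Subgroup (F.autGroup Q)) = (R : Subgroup (F.autGroup Q)) :=
    R.is_maximal' (hK.of_equiv Subgroup.topEquiv.symm) le_top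
  have h2 : (⟨α, hα⟩ : F.autGroup Q) ∈ (autInducedBy S Q).subgroupOf (F.autGroup Q) := by
    rw [← hR, ← h1]; trivial
  exact mem_autInducedBy.1 (Subgroup.mem_subgroupOf.1 h2)

/-- The automizer of an essential subgroup is not a `p`-group. -/
theorem not_isPGroup_autGroup {S : Subgroup G} [Finite S] {p : ℕ} [Fact p.Prime] (hS : IsPGroup p S)
    {F : FusionSystem S} (hF : F.IsSaturated p) {Q : Subgroup G} (hQ : F.IsEssential p Q) :
    ¬ IsPGroup p (F.autGroup Q) := fun h => by
  obtain ⟨-, -, -, hmax, -, hne⟩ := RankTwo.basic hS hF hQ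
  exact hne (le_top.trans (hmax ⊤ inferInstance (h.of_equiv Subgroup.topEquiv.symm)))

/-- The centralizer in `P` of an element. -/
def twE (P : Subgroup G) (g : G) : Subgroup G := P ⊓ Subgroup.centralizer ({g} : Set G)

theorem mem_twE {P : Subgroup G} {g y : G} : y ∈ twE P g ↔ y ∈ P ∧ Commute y g := by
  rw [twE, Subgroup.mem_inf, Subgroup.mem_centralizer_singleton_iff]
  rfl

/-- The four elements of square one as a subgroup. -/
def twV {a t : G} {m : ℕ} (S : PairGrp a t m) : Subgroup G where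
  carrier := {g | InV a t m g}
  one_mem' := S.inV_one
  mul_mem' := fun hg hh => S.inV_mul hg hh
  inv_mem' := fun {g} hg => by
    show InV a t m g⁻¹
    rwa [inv_eq_of_mul_eq_one_right (S.inV_sq hg)]

theorem PairGrp.card_twV {a t : G} {m : ℕ} (S : PairGrp a t m) : Nat.card (twV S) = 4 := by
  classical
  have h : (twV S : Set G) = ↑({1, twZ a m, t, twZ a m * t} : Finset G) := by
    ext g
    simp [twV, InV]
  rw [← SetLike.coe_sort_coe, h, Nat.card_coe_set_eq, Set.ncard_coe_finset,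
    Finset.card_insert_of_notMem (by simp [S.z_ne.symm, S.t_ne.symm, S.zt_ne.symm]),
    Finset.card_insert_of_notMem (by simp [S.z_ne_t, S.z_ne_zt]), Finset.card_pair S.t_ne_zt]

/-- The commutator at an involution outside. -/
def twZeta (a x : G) (m : ℕ) : G := twZ a m * twCm a x ^ 2 ^ (m - 2)

namespace TwBase

variable [Finite G] {P : Subgroup G} {a t x : G} {m : ℕ} (S : TwBase P a t x m)
  (hna : ¬ Commute a x)

include S

theorem isPGroup : IsPGroup 2 P := IsPGroup.of_card S.card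

theorem zeta_inV : InV a t m (twZeta a x m) := by
  refine S.pair.inV_mul S.pair.inV_z ?_
  rw [← zpow_natCast, S.c_pow]
  split_ifs
  exacts [S.pair.inV_one, S.cmem]

theorem conj_w_out {g : G} (hg : g ∈ P) (hgR : g ∉ twR a t) :
    a ^ 2 ^ (m - 2) * g * (a ^ 2 ^ (m - 2))⁻¹ = twZeta a x m * g := by
  obtain ⟨i, hi⟩ : ∃ i : ℤ, i = ((2 ^ (m - 2) : ℕ) : ℤ) := ⟨_, rfl⟩
  have hw : a ^ 2 ^ (m - 2) = a ^ i := by rw [hi, zpow_natCast]
  have hz : a ^ i * a ^ i = twZ a m := by
    have := S.pair.two_le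
    rw [← hw, ← pow_add, ← two_mul, ← pow_succ', twZ]
    congr 2
    omega
  have h := S.out_conj hg hgR (-i)
  rw [neg_neg] at h
  calc a ^ 2 ^ (m - 2) * g * (a ^ 2 ^ (m - 2))⁻¹ = a ^ i * (g * a ^ (-i) * g⁻¹) * g := by
        rw [hw, zpow_neg]; group
    _ = twZeta a x m * g := by
        rw [h, ← mul_assoc, hz, twZeta, ← zpow_natCast (twCm a x), ← hi, zpow_neg,
          inv_eq_of_mul_eq_one_right (S.pair.inV_sq (a := a) (t := t) (m := m) ?_)]
        rw [S.c_pow]
        split_ifs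
        exacts [S.pair.inV_one, S.cmem]

include hna

theorem zeta_ne : twZeta a x m ≠ 1 := by
  intro h
  rw [twZeta] at h
  have hm := S.pair.two_le
  rcases Nat.lt_or_ge m 3 with h3 | h3
  · obtain rfl : m = 2 := by omega
    rw [pow_zero, pow_one] at h
    refine S.not_abelian_iff.1 hna ?_
    rw [eq_inv_of_mul_eq_one_right h, S.pair.z_inv, twZ, ← zpow_natCast]
    norm_num
  · refine S.pair.z_ne ?_
    rwa [← zpow_natCast (twCm a x), S.c_pow, if_pos, mul_one] at h
    push_cast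
    exact Int.even_pow.2 ⟨even_two, by omega⟩

theorem mem_twE_out {g : G} (hg : g ∈ P) (hgR : g ∉ twR a t) {y : G} :
    y ∈ twE P g ↔ InV a t m y ∨ InV a t m (y * g⁻¹) := by
  constructor
  · intro hy
    obtain ⟨hyP, hyg⟩ := mem_twE.1 hy
    by_cases hyR : y ∈ twR a t
    · exact Or.inl ((S.comm_out hna hg hgR hyR).1 hyg.symm)
    · refine Or.inr ((S.comm_out hna hg hgR ?_).1 (hyg.symm.mul_right (Commute.refl g).inv_right))
      exact S.out_mul_mem hyP hyR (P.inv_mem hg) fun h => hgR (inv_inv g ▸ inv_mem h)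
  · rintro (hy | hy)
    · exact mem_twE.2 ⟨S.R_le (S.pair.inV_mem hy), (S.V_comm hg hy).symm⟩
    · have e : y = y * g⁻¹ * g := (inv_mul_cancel_right y g).symm
      rw [e]
      exact mem_twE.2 ⟨mul_mem (S.R_le (S.pair.inV_mem hy)) hg,
        (S.V_comm hg hy).symm.mul_left (Commute.refl g)⟩

theorem twE_comm {g : G} (hg : g ∈ P) (hgR : g ∉ twR a t) {y w : G} (hy : y ∈ twE P g)
    (hw : w ∈ twE P g) : Commute y w := by
  have key : ∀ y ∈ twE P g, ∃ v, InV a t m v ∧ (y = v ∨ y = v * g) := fun y hy => by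
    rcases (S.mem_twE_out hna hg hgR).1 hy with h | h
    · exact ⟨y, h, Or.inl rfl⟩
    · exact ⟨_, h, Or.inr (inv_mul_cancel_right y g).symm⟩
  obtain ⟨v, hv, hyv⟩ := key y hy
  obtain ⟨v', hv', hwv⟩ := key w hw
  have c1 : Commute v v' := S.pair.R_comm (S.pair.inV_mem hv) (S.pair.inV_mem hv')
  have c2 : Commute v g := (S.V_comm hg hv).symm
  have c3 : Commute g v' := S.V_comm hg hv'
  rcases hyv with rfl | rfl <;> rcases hwv with rfl | rfl
  · exact c1
  · exact c1.mul_right c2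
  · exact c1.mul_left c3
  · exact (c1.mul_right c2).mul_left (c3.mul_right (Commute.refl g))

theorem twE_sq {g : G} (hg : g ∈ P) (hgR : g ∉ twR a t) (hg2 : g * g = 1) {y : G}
    (hy : y ∈ twE P g) : y * y = 1 := by
  rcases (S.mem_twE_out hna hg hgR).1 hy with h | h
  · exact S.pair.inV_sq h
  · have h2 := S.pair.inV_sq h
    rw [((S.twE_comm hna hg hgR hy (mem_twE.2 ⟨hg, Commute.refl g⟩)).inv_right.symm).mul_mul_mul_comm,
      inv_eq_of_mul_eq_one_right hg2, hg2, mul_one] at h2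
    exact h2

theorem mem_twE_self {g : G} (hg : g ∈ P) : g ∈ twE P g := mem_twE.2 ⟨hg, Commute.refl g⟩

theorem twE_inter {g : G} (hg : g ∈ P) (hgR : g ∉ twR a t) {y : G} :
    y ∈ twE P g ∧ y ∈ twR a t ↔ InV a t m y := by
  refine ⟨fun ⟨hy, hyR⟩ => ?_, fun h => ⟨(S.mem_twE_out hna hg hgR).2 (Or.inl h),
    S.pair.inV_mem h⟩⟩
  exact (S.comm_out hna hg hgR hyR).1 (mem_twE.1 hy).2.symm

theorem twE_card {g : G} (hg : g ∈ P) (hgR : g ∉ twR a t) : Nat.card (twE P g) = 8 := by
  have hle : twV S.pair ≤ twE P g := fun y hy => ((S.twE_inter hna hg hgR).2 hy).1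
  have hidx : ((twV S.pair).subgroupOf (twE P g)).index = 2 := by
    refine Subgroup.index_eq_two_iff.2 ⟨⟨g, S.mem_twE_self hna hg⟩, fun b => ?_⟩
    simp only [Subgroup.mem_subgroupOf, Subgroup.coe_mul, xor_iff_iff_not]
    constructor
    · intro h1 h2
      exact hgR (S.pair.inV_mem ((Subgroup.mul_mem_cancel_left _ h2).1 h1))
    · intro h
      have hbR : (b : G) ∉ twR a t := fun hb => h ((S.twE_inter hna hg hgR).1 ⟨b.2, hb⟩)
      exact (S.twE_inter hna hg hgR).1 ⟨mul_mem b.2 (S.mem_twE_self hna hg),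
        S.out_mul_mem (mem_twE.1 b.2).1 hbR hg hgR⟩
  have h1 := ((twV S.pair).subgroupOf (twE P g)).card_mul_index
  rw [Nat.card_congr (Subgroup.subgroupOfEquivOfLe hle).toEquiv, S.pair.card_twV, hidx] at h1
  exact h1.symm

theorem twE_conj {g d : G} (hd : d ∈ P) :
    (twE P g).map (MulAut.conj d).toMonoidHom = twE P (d * g * d⁻¹) := by
  ext y
  simp only [Subgroup.mem_map, MulEquiv.coe_toMonoidHom, MulAut.conj_apply, mem_twE]
  constructor
  · rintro ⟨w, ⟨hw, hc⟩, rfl⟩
    exact ⟨mul_mem (mul_mem hd hw) (inv_mem hd), hc.map (MulAut.conj d)⟩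
  · rintro ⟨hy, hc⟩
    refine ⟨d⁻¹ * y * d, ⟨mul_mem (mul_mem (inv_mem hd) hy) hd, ?_⟩, by group⟩
    have := hc.map (MulAut.conj d⁻¹)
    simp only [MulAut.conj_apply] at this
    rwa [inv_inv, show d⁻¹ * (d * g * d⁻¹) * d = g by group] at this

theorem twE_eq {g g' : G} (hg : g ∈ P) (hgR : g ∉ twR a t) (hg' : g' ∈ P) (hgR' : g' ∉ twR a t)
    (h : InV a t m (g' * g⁻¹)) : twE P g' = twE P g := by
  have hgE : g' ∈ twE P g := (S.mem_twE_out hna hg hgR).2 (Or.inr h)
  refine Subgroup.eq_of_le_of_card_ge (fun y hy => ?_)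
    (by rw [S.twE_card hna hg hgR, S.twE_card hna hg' hgR'])
  rcases (S.mem_twE_out hna hg' hgR').1 hy with e | e
  · exact ((S.twE_inter hna hg hgR).2 e).1
  · rw [← inv_mul_cancel_right y g']
    exact mul_mem ((S.twE_inter hna hg hgR).2 e).1 hgE

theorem twE_normalizer_mem {g y : G} (hg : g ∈ P) (hgR : g ∉ twR a t) (hy : y ∈ P)
    (h : y * g * y⁻¹ ∈ twE P g) :
    y ∈ Subgroup.normalizer (twE P g : Set G) := by
  have hR' : y * g * y⁻¹ ∉ twR a t := fun hh => hgR (by
    have h1 : ((twR a t).subgroupOf P).Normal := Subgroup.normal_of_index_eq_two S.index_two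
    have h2 := h1.conj_mem ⟨y * g * y⁻¹, mul_mem (mul_mem hy hg) (inv_mem hy)⟩
      (Subgroup.mem_subgroupOf.2 hh) ⟨y⁻¹, inv_mem hy⟩
    simpa [Subgroup.mem_subgroupOf, mul_assoc] using h2)
  have heq : twE P (y * g * y⁻¹) = twE P g := by
    refine S.twE_eq hna hg hgR (mul_mem (mul_mem hy hg) (inv_mem hy)) hR' ?_
    rcases (S.mem_twE_out hna hg hgR).1 h with e | e
    · exact absurd (S.pair.inV_mem e) hR'
    · exact e
  refine Subgroup.mem_normalizer_iff.2 fun w => ?_
  constructor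
  · intro hw
    have : y * w * y⁻¹ ∈ (twE P g).map (MulAut.conj y).toMonoidHom := ⟨w, hw, rfl⟩
    rwa [S.twE_conj hna hy, heq] at this
  · intro hw
    have h1 : y * w * y⁻¹ ∈ (twE P g).map (MulAut.conj y).toMonoidHom := by
      rw [S.twE_conj hna hy, heq]; exact hw
    obtain ⟨w', hw', e⟩ := h1
    obtain rfl : w' = w := (MulAut.conj y).injective e
    exact hw'

/-- The normalizer of the elementary group. -/
theorem normalizerIn_twE {g : G} (hg : g ∈ P) (hgR : g ∉ twR a t) :
    Nat.card (normalizerIn P (twE P g)) = 16 ∧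
      ∀ y ∈ normalizerIn P (twE P g), y ∈ twE P g ∨ (a ^ 2 ^ (m - 2))⁻¹ * y ∈ twE P g := by
  obtain ⟨w, hw⟩ : ∃ w, w = a ^ 2 ^ (m - 2) := ⟨_, rfl⟩
  have hm := S.pair.two_le
  have hwP : w ∈ P := hw ▸ pow_mem S.amem _
  have hwR : w ∈ twR a t := hw ▸ pow_mem S.pair.a_mem _
  have hwN : w ∈ normalizerIn P (twE P g) := ⟨hwP, S.twE_normalizer_mem hna hg hgR hwP (by
    rw [hw, S.conj_w_out hg hgR]
    exact mul_mem ((S.twE_inter hna hg hgR).2 S.zeta_inV).1 (S.mem_twE_self hna hg))⟩
  have hEN : twE P g ≤ normalizerIn P (twE P g) := fun y hy =>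
    ⟨(mem_twE.1 hy).1, Subgroup.le_normalizer hy⟩
  -- the part in the abelian subgroup
  have hmem : ∀ h : G, h ∈ twR w t ↔ h ∈ normalizerIn P (twE P g) ∧ h ∈ twR a t := by
    intro h
    constructor
    · intro hh
      have hle : twR w t ≤ normalizerIn P (twE P g) ⊓ twR a t :=
        sup_le (Subgroup.zpowers_le.2 ⟨hwN, hwR⟩) (Subgroup.zpowers_le.2
          ⟨hEN ((S.twE_inter hna hg hgR).2 S.pair.inV_t).1, S.pair.t_mem⟩)
      exact hle hh
    · rintro ⟨⟨-, hN₀⟩, hR⟩
      have hN : h ∈ Subgroup.normalizer (twE P g : Set G) := hN₀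
      obtain ⟨i, hi⟩ := S.pair.mem_twR.1 hR
      have hN' : a ^ i ∈ Subgroup.normalizer (twE P g : Set G) := by
        rcases hi with rfl | rfl
        · exact hN
        · have := mul_mem hN (inv_mem (hEN ((S.twE_inter hna hg hgR).2 S.pair.inV_t).1).2)
          rwa [mul_inv_cancel_right] at this
      have hgi := (Subgroup.mem_normalizer_iff.1 hN' g).1 (S.mem_twE_self hna hg)
      have hai : a ^ i * g * (a ^ i)⁻¹ = a ^ (i + i) * twCm a x ^ (-i) * g := by
        have h0 := S.out_conj hg hgR (-i)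
        rw [neg_neg] at h0
        rw [show a ^ i * g * (a ^ i)⁻¹ = a ^ i * (g * a ^ (-i) * g⁻¹) * g by rw [zpow_neg]; group,
          h0, ← mul_assoc, ← zpow_add]
      rw [hai] at hgi
      have hv : InV a t m (a ^ (i + i) * twCm a x ^ (-i)) :=
        (S.twE_inter hna hg hgR).1 ⟨(Subgroup.mul_mem_cancel_right _ (S.mem_twE_self hna hg)).1 hgi,
          mul_mem (zpow_mem S.pair.a_mem _) (zpow_mem (S.pair.inV_mem S.cmem) _)⟩
      have hv2 : InV a t m (a ^ (i + i)) := by
        have h3 : InV a t m (twCm a x ^ i) := by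
          rw [S.c_pow]; split_ifs; exacts [S.pair.inV_one, S.cmem]
        have h4 := S.pair.inV_mul hv h3
        rwa [mul_assoc, ← zpow_add, neg_add_cancel, zpow_zero, mul_one] at h4
      have h4 := S.pair.inV_sq hv2
      rw [← zpow_add, ← zpow_zero a, S.pair.zpow_eq_iff, sub_zero] at h4
      have h5 : (2 : ℤ) ^ m = 4 * 2 ^ (m - 2) := by
        rw [show (4 : ℤ) = 2 ^ 2 by norm_num, ← pow_add]; congr 1; omega
      rw [h5, show i + i + (i + i) = 4 * i by ring] at h4
      obtain ⟨k, rfl⟩ := Int.dvd_of_mul_dvd_mul_left (by norm_num) h4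
      have haw : a ^ ((2 : ℤ) ^ (m - 2) * k) ∈ twR w t :=
        Subgroup.mem_sup_left ⟨k, by simp only; rw [hw, ← zpow_natCast, ← zpow_mul]; norm_num⟩
      rcases hi with rfl | rfl
      · exact haw
      · exact mul_mem haw (Subgroup.mem_sup_right (Subgroup.mem_zpowers t))
  subst hw
  obtain ⟨T, -⟩ := S.sub_base (Q := normalizerIn P (twE P g)) (fun y hy => hy.1)
    (hEN (S.mem_twE_self hna hg)) hgR (j := 2) le_rfl hm hmem
  refine ⟨T.card, fun y hy => ?_⟩
  by_cases hyE : y ∈ twE P g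
  · exact Or.inl hyE
  refine Or.inr ?_
  have h8 := S.twE_card hna hg hgR
  have hidx : ((twE P g).subgroupOf (normalizerIn P (twE P g))).index = 2 := by
    have h1 := ((twE P g).subgroupOf (normalizerIn P (twE P g))).card_mul_index
    rw [Nat.card_congr (Subgroup.subgroupOfEquivOfLe hEN).toEquiv, h8, T.card] at h1
    omega
  have hwE : a ^ 2 ^ (m - 2) ∉ twE P g := fun h => by
    have h2 := (S.twE_inter hna hg hgR).1 ⟨h, hwR⟩
    have h3 := S.pair.inV_sq h2
    rw [← pow_add, ← two_mul, ← pow_succ', ← orderOf_dvd_iff_pow_eq_one, S.pair.ordA,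
      Nat.pow_dvd_pow_iff_le_right (by norm_num)] at h3
    omega
  have := (Subgroup.mul_mem_iff_of_index_two hidx
    (a := (⟨_, hwN⟩ : normalizerIn P (twE P g))⁻¹) (b := ⟨y, hy⟩)).2
    (iff_of_false (fun h => hwE (by simpa [Subgroup.mem_subgroupOf] using h))
      fun h => hyE (Subgroup.mem_subgroupOf.1 h))
  simpa [Subgroup.mem_subgroupOf] using this

theorem aut_R_pgroup {Q : Subgroup G} (hQ : ∀ y, y ∈ Q ↔ y ∈ twR a t) (K : Subgroup (MulAut Q)) :
    IsPGroup 2 K :=
  isPGroup_two_of_odd K fun α _ _ hodd hn => S.pair.aut_eq_one hQ α hn hodd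

/-- The centralizer of an element outside of order four has no automorphism of odd order. -/
theorem aut_twE_pgroup {g : G} (hg : g ∈ P) (hgR : g ∉ twR a t) (hg2 : g * g ≠ 1)
    (K : Subgroup (MulAut (twE P g))) : IsPGroup 2 K := by
  have ho : orderOf g = 2 ^ 2 := by
    refine orderOf_eq_prime_pow (p := 2) (n := 1) ?_ ?_
    · rw [pow_one, sq]; exact hg2
    · exact S.out_four hg hgR
  have hnotz : twZ a m ∉ Subgroup.zpowers g := by
    intro h
    obtain ⟨k, hk⟩ := Subgroup.mem_zpowers_iff.1 h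
    have hgg : g ^ (2 : ℤ) = g * g := zpow_two g
    rcases Int.even_or_odd k with ⟨i, rfl⟩ | ⟨i, rfl⟩
    · rw [← two_mul, zpow_mul, hgg, S.pair.inV_zpow (S.out_sq_inV hg hgR)] at hk
      split_ifs at hk
      · exact S.pair.z_ne hk.symm
      · exact S.out_sq_ne hg hgR hk
    · refine hgR ?_
      have h1 : g ^ (2 * i) ∈ twR a t := by
        rw [zpow_mul, hgg]
        exact zpow_mem (S.pair.inV_mem (S.out_sq_inV hg hgR)) i
      rw [zpow_add_one] at hk
      rw [show g = (g ^ (2 * i))⁻¹ * twZ a m by rw [← hk, inv_mul_cancel_left]]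
      exact mul_mem (inv_mem h1) (S.pair.inV_mem S.pair.inV_z)
  have T : PairGrp g (twZ a m) 2 :=
    ⟨le_rfl, ho, orderOf_eq_prime (by rw [sq]; exact S.pair.z_sq) S.pair.z_ne, hnotz, S.z_comm hg⟩
  have hle : twR g (twZ a m) ≤ twE P g :=
    sup_le (Subgroup.zpowers_le.2 (S.mem_twE_self hna hg))
      (Subgroup.zpowers_le.2 ((S.twE_inter hna hg hgR).2 S.pair.inV_z).1)
  have heq : twR g (twZ a m) = twE P g :=
    Subgroup.eq_of_le_of_card_ge hle (by rw [T.card_twR, S.twE_card hna hg hgR]; norm_num)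
  exact isPGroup_two_of_odd K fun α _ _ hodd hn => T.aut_eq_one (fun y => by rw [heq]) α hn hodd

/-- The automorphisms of the whole group in a saturated system are inner. -/
theorem aut_top_inner {F : FusionSystem P} (hF : F.IsSaturated 2) {α : MulAut P}
    (hα : α ∈ F.autGroup P) : ∃ g ∈ P, ∀ y : P, ((α y : P) : G) = g * (y : G) * g⁻¹ :=
  autGroup_induced S.isPGroup hF (isFullyNormalized_top F)
    (isPGroup_two_of_odd _ fun β _ _ hodd hn => S.aut_eq_one hna β hn hodd) hα

/-- The essential subgroups. -/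
theorem essential_twE {F : FusionSystem P} (hF : F.IsSaturated 2) {Q : Subgroup G}
    (hQ : F.IsEssential 2 Q) :
    ∃ g ∈ P, g ∉ twR a t ∧ g * g = 1 ∧ Q = twE P g := by
  have hnp := not_isPGroup_autGroup S.isPGroup hF hQ
  have hQP := hQ.1.1
  have hC : centralizerIn P Q ≤ Q := hQ.1.2 Q (isConj_refl F hQP)
  have hcen : ∀ y ∈ P, (∀ w ∈ Q, Commute w y) → y ∈ Q := fun y hy h => hC ⟨hy, h⟩
  have hVQ : ∀ v, InV a t m v → v ∈ Q := fun v hv =>
    hcen v (S.R_le (S.pair.inV_mem hv)) fun w hw => S.V_comm (hQP hw) hv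
  by_cases hout : ∃ g ∈ Q, g ∉ twR a t
  swap
  · exfalso
    refine hnp (S.aut_R_pgroup hna (fun y => ⟨fun hy => ?_, fun hy => ?_⟩) _)
    · by_contra h
      exact hout ⟨y, hy, h⟩
    · refine hcen y (S.R_le hy) fun w hw => S.pair.R_comm ?_ hy
      by_contra h
      exact hout ⟨w, hw, h⟩
  obtain ⟨g, hgQ, hgR⟩ := hout
  have hg := hQP hgQ
  -- the rotations inside
  obtain ⟨H, hH⟩ : ∃ H : Subgroup G, H = Q ⊓ Subgroup.zpowers a := ⟨_, rfl⟩
  obtain ⟨j, hj, hHc⟩ := (Nat.dvd_prime_pow Nat.prime_two).1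
    (show Nat.card H ∣ 2 ^ m by
      rw [← S.pair.ordA, ← Nat.card_zpowers, hH]; exact Subgroup.card_dvd_of_le inf_le_right)
  have hHeq : H = Subgroup.zpowers (a ^ 2 ^ (m - j)) := by
    have hle : H ≤ Subgroup.zpowers a := hH ▸ inf_le_right
    have hcard : Nat.card (Subgroup.zpowers (a ^ 2 ^ (m - j))) = 2 ^ j := by
      rw [Nat.card_zpowers, orderOf_pow' _ (pow_ne_zero _ two_ne_zero), S.pair.ordA,
        Nat.gcd_eq_right (pow_dvd_pow 2 (Nat.sub_le m j)), Nat.pow_div (Nat.sub_le m j) two_pos,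
        Nat.sub_sub_self hj]
    refine Subgroup.eq_of_le_of_card_ge (fun y hy => ?_) (by rw [hcard, hHc])
    obtain ⟨k, rfl⟩ := Subgroup.mem_zpowers_iff.1 (hle hy)
    have h1 : (⟨a ^ k, hy⟩ : H) ^ 2 ^ j = 1 := by rw [← hHc]; exact pow_card_eq_one'
    have h2 := congrArg Subtype.val h1
    simp only [Subgroup.coe_pow, OneMemClass.coe_one] at h2
    rw [← zpow_natCast, ← zpow_mul, ← zpow_zero a, S.pair.zpow_eq_iff, sub_zero] at h2
    push_cast at h2
    rw [show (2 : ℤ) ^ m = 2 ^ (m - j) * 2 ^ j by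
      rw [← pow_add]; congr 1; omega] at h2
    obtain ⟨l, rfl⟩ := Int.dvd_of_mul_dvd_mul_right (by positivity) h2
    exact ⟨l, by simp only; rw [← zpow_natCast, ← zpow_mul]; norm_num⟩
  have hj1 : 1 ≤ j := by
    by_contra hj0
    rw [Nat.lt_one_iff.1 (not_le.1 hj0), pow_zero, Subgroup.card_eq_one] at hHc
    have : twZ a m ∈ H := hH ▸ ⟨hVQ _ S.pair.inV_z, Subgroup.npow_mem_zpowers a _⟩
    rw [hHc, Subgroup.mem_bot] at this
    exact S.pair.z_ne this
  have hR : ∀ h : G, h ∈ twR (a ^ 2 ^ (m - j)) t ↔ h ∈ Q ∧ h ∈ twR a t := by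
    intro h
    constructor
    · intro hh
      have hle : twR (a ^ 2 ^ (m - j)) t ≤ Q ⊓ twR a t :=
        sup_le (hHeq ▸ le_inf (hH ▸ inf_le_left) (hH ▸ inf_le_right.trans le_sup_left))
          (Subgroup.zpowers_le.2 ⟨hVQ _ S.pair.inV_t, S.pair.t_mem⟩)
      exact hle hh
    · rintro ⟨hhQ, hhR⟩
      obtain ⟨i, hi⟩ := S.pair.mem_twR.1 hhR
      have hai : a ^ i ∈ H := by
        rw [hH]
        refine ⟨?_, i, rfl⟩
        rcases hi with rfl | rfl
        · exact hhQ
        · have := mul_mem hhQ (inv_mem (hVQ _ S.pair.inV_t))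
          rwa [mul_inv_cancel_right] at this
      rw [hHeq] at hai
      rcases hi with rfl | rfl
      · exact Subgroup.mem_sup_left hai
      · exact mul_mem (Subgroup.mem_sup_left hai) (Subgroup.mem_sup_right (Subgroup.mem_zpowers t))
  rcases Nat.lt_or_ge j 2 with hj2 | hj2
  · -- elementary of order eight
    obtain rfl : j = 1 := by omega
    have hQg : Q = twE P g := by
      refine le_antisymm (fun y hy => ?_) fun y hy => ?_
      · have hsub : ∀ w, w ∈ Q → w ∈ twR a t → InV a t m w := by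
          intro w hw hwR
          refine (S.pair.sq_one_iff hwR).1 ?_
          obtain ⟨i, hi⟩ := S.pair.mem_twR.1 hwR
          have hai : a ^ i ∈ H := by
            rw [hH]
            refine ⟨?_, i, rfl⟩
            rcases hi with rfl | rfl
            · exact hw
            · have := mul_mem hw (inv_mem (hVQ _ S.pair.inV_t))
              rwa [mul_inv_cancel_right] at this
          have h1 : (⟨a ^ i, hai⟩ : H) ^ 2 = 1 := by
            rw [show (2 : ℕ) = Nat.card H by rw [hHc, pow_one]]; exact pow_card_eq_one'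
          have h2 : a ^ i * a ^ i = 1 := by
            rw [← sq]; simpa using congrArg Subtype.val h1
          rcases hi with rfl | rfl
          · exact h2
          · rw [(S.pair.atc.zpow_left i).symm.mul_mul_mul_comm, h2, S.pair.t_sq, one_mul]
        refine (S.mem_twE_out hna hg hgR).2 ?_
        by_cases hyR : y ∈ twR a t
        · exact Or.inl (hsub y hy hyR)
        · exact Or.inr (hsub _ (mul_mem hy (inv_mem hgQ)) (S.out_mul_mem (hQP hy) hyR (P.inv_mem hg)
            fun h => hgR (inv_inv g ▸ inv_mem h)))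
      · rcases (S.mem_twE_out hna hg hgR).1 hy with h | h
        · exact hVQ _ h
        · rw [← inv_mul_cancel_right y g]
          exact mul_mem (hVQ _ h) hgQ
    refine ⟨g, hg, hgR, ?_, hQg⟩
    by_contra hg2
    subst hQg
    exact hnp (S.aut_twE_pgroup hna hg hgR hg2 _)
  · exfalso
    obtain ⟨T, hTna⟩ := S.sub_base hQP hgQ hgR hj2 hj hR
    rcases lt_or_eq_of_le hj with hlt | rfl
    · exact hnp (isPGroup_two_of_odd _ fun β _ _ hodd hn => T.aut_eq_one (hTna hlt) β hn hodd)
    · have hQtop : Q = P := by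
        refine Subgroup.eq_of_le_of_card_ge hQP ?_
        rw [S.card, T.card]
      exact absurd hQtop (RankTwo.basic S.isPGroup hF hQ).1.ne

end TwBase

end Cfsg.Lib.Block
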