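import Mathlib

/-!
# Two-groups with an abelian subgroup of index two of type `(2 ^ m, 2)`, twisted

`P` is generated by `a` of order `2 ^ m`, a central involution `t` and `x`, such that `a (x a x⁻¹)`
and `x ^ 2` are among the four elements of square one of `⟨a, t⟩`.
-/

set_option autoImplicit false
set_option linter.unusedSectionVars false

namespace Cfsg.Lib.Block

universe u

variable {G : Type u} [Group G]

/-- The involution among the powers of `a`. -/
def twZ (a : G) (m : ℕ) : G := a ^ 2 ^ (m - 1)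

/-- The twist. -/
def twCm (a x : G) : G := a * (x * a * x⁻¹)

/-- The abelian subgroup of index two. -/
def twR (a t : G) : Subgroup G := Subgroup.zpowers a ⊔ Subgroup.zpowers t

/-- The four elements of square one of the abelian subgroup. -/
def InV (a t : G) (m : ℕ) (g : G) : Prop :=
  g = 1 ∨ g = twZ a m ∨ g = t ∨ g = twZ a m * t

/-- An element of order `2 ^ m` and an involution outside its powers, commuting. -/
structure PairGrp (a t : G) (m : ℕ) : Prop where
  two_le : 2 ≤ m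
  ordA : orderOf a = 2 ^ m
  ordT : orderOf t = 2
  tnot : t ∉ Subgroup.zpowers a
  atc : Commute a t

namespace PairGrp

variable {a t : G} {m : ℕ} (S : PairGrp a t m)

include S

theorem t_sq : t * t = 1 := by rw [← sq, ← S.ordT, pow_orderOf_eq_one]

theorem t_inv : t⁻¹ = t := inv_eq_of_mul_eq_one_right S.t_sq

theorem t_ne : t ≠ 1 := fun h => S.tnot (h ▸ one_mem _)

theorem zpow_eq_iff {i k : ℤ} : a ^ i = a ^ k ↔ (2 ^ m : ℤ) ∣ i - k := by
  rw [← mul_inv_eq_one, ← zpow_sub, ← orderOf_dvd_iff_zpow_eq_one, S.ordA, Nat.cast_pow,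
    Nat.cast_ofNat]

theorem zpow_ne_mul (i k : ℤ) : a ^ i ≠ a ^ k * t := fun h => S.tnot
  ⟨i - k, by simp only; rw [zpow_sub, h, (S.atc.zpow_left k).eq, mul_inv_cancel_right]⟩

theorem z_eq : twZ a m = a ^ (2 ^ (m - 1) : ℤ) := by
  rw [twZ, ← zpow_natCast]; norm_num

theorem pow_pred : (2 : ℤ) ^ m = 2 * 2 ^ (m - 1) := by
  rw [← pow_succ', Nat.sub_add_cancel (le_trans (by norm_num) S.two_le)]

theorem z_ne : twZ a m ≠ 1 := by
  rw [twZ, Ne, ← orderOf_dvd_iff_pow_eq_one, S.ordA,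
    Nat.pow_dvd_pow_iff_le_right (by norm_num)]
  have := S.two_le
  omega

theorem z_sq : twZ a m * twZ a m = 1 := by
  rw [twZ, ← pow_add, ← two_mul, ← pow_succ', Nat.sub_add_cancel (le_trans (by norm_num) S.two_le),
    ← S.ordA, pow_orderOf_eq_one]

theorem z_inv : (twZ a m)⁻¹ = twZ a m := inv_eq_of_mul_eq_one_right S.z_sq

theorem zt_comm : Commute (twZ a m) t := S.atc.pow_left _

theorem z_ne_t : twZ a m ≠ t := fun h => S.tnot (h ▸ Subgroup.npow_mem_zpowers a _)

theorem zt_ne : twZ a m * t ≠ 1 := fun h => S.z_ne_t (by rw [eq_inv_of_mul_eq_one_left h, S.t_inv])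

theorem z_ne_zt : twZ a m ≠ twZ a m * t := fun h => S.t_ne (left_eq_mul.1 h)

theorem t_ne_zt : t ≠ twZ a m * t := fun h => S.z_ne (right_eq_mul.1 h)

theorem mem_twR {g : G} : g ∈ twR a t ↔ ∃ i : ℤ, g = a ^ i ∨ g = a ^ i * t := by
  constructor
  · intro hg
    rw [twR, Subgroup.zpowers_eq_closure, Subgroup.zpowers_eq_closure, ← Subgroup.closure_union]
      at hg
    refine Subgroup.closure_induction (p := fun g _ => ∃ i : ℤ, g = a ^ i ∨ g = a ^ i * t) ?_
      ⟨0, Or.inl (zpow_zero a).symm⟩ ?_ ?_ hg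
    · rintro x (rfl | rfl)
      · exact ⟨1, Or.inl (zpow_one _).symm⟩
      · exact ⟨0, Or.inr (by rw [zpow_zero, one_mul])⟩
    · rintro x y - - ⟨i, hi⟩ ⟨k, hk⟩
      refine ⟨i + k, ?_⟩
      rcases hi with rfl | rfl <;> rcases hk with rfl | rfl
      · exact Or.inl (zpow_add a i k).symm
      · exact Or.inr (by rw [zpow_add, mul_assoc])
      · exact Or.inr (by rw [zpow_add, mul_assoc, mul_assoc, (S.atc.zpow_left k).eq])
      · exact Or.inl (by
          rw [zpow_add, mul_assoc, ← mul_assoc t, ← (S.atc.zpow_left k).eq, mul_assoc, S.t_sq,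
            mul_one])
    · rintro x - ⟨i, rfl | rfl⟩
      · exact ⟨-i, Or.inl (zpow_neg a i).symm⟩
      · exact ⟨-i, Or.inr (by rw [mul_inv_rev, S.t_inv, ← zpow_neg, (S.atc.zpow_left (-i)).eq])⟩
  · rintro ⟨i, rfl | rfl⟩
    · exact Subgroup.mem_sup_left ⟨i, rfl⟩
    · exact mul_mem (Subgroup.mem_sup_left ⟨i, rfl⟩)
        (Subgroup.mem_sup_right (Subgroup.mem_zpowers t))

theorem a_mem : a ∈ twR a t := Subgroup.mem_sup_left (Subgroup.mem_zpowers a)

theorem t_mem : t ∈ twR a t := Subgroup.mem_sup_right (Subgroup.mem_zpowers t)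

theorem R_comm {g h : G} (hg : g ∈ twR a t) (hh : h ∈ twR a t) : Commute g h := by
  obtain ⟨i, hi⟩ := S.mem_twR.1 hg
  obtain ⟨k, hk⟩ := S.mem_twR.1 hh
  have c1 : Commute (a ^ i) (a ^ k) := (Commute.refl a).zpow_zpow i k
  rcases hi with rfl | rfl <;> rcases hk with rfl | rfl
  · exact c1
  · exact c1.mul_right (S.atc.zpow_left i)
  · exact c1.mul_left (S.atc.zpow_left k).symm
  · exact (c1.mul_right (S.atc.zpow_left i)).mul_left
      ((S.atc.zpow_left k).symm.mul_right (Commute.refl t))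

theorem inV_one : InV a t m 1 := Or.inl rfl

theorem inV_z : InV a t m (twZ a m) := Or.inr (Or.inl rfl)

theorem inV_t : InV a t m t := Or.inr (Or.inr (Or.inl rfl))

theorem inV_mem {g : G} (hg : InV a t m g) : g ∈ twR a t := by
  have hz : twZ a m ∈ twR a t := pow_mem S.a_mem _
  rcases hg with rfl | rfl | rfl | rfl
  exacts [one_mem _, hz, S.t_mem, mul_mem hz S.t_mem]

theorem inV_sq {g : G} (hg : InV a t m g) : g * g = 1 := by
  rcases hg with rfl | rfl | rfl | rfl
  exacts [one_mul 1, S.z_sq, S.t_sq, by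
    rw [S.zt_comm.symm.mul_mul_mul_comm, S.z_sq, S.t_sq, one_mul]]

theorem sq_one_iff {g : G} (hg : g ∈ twR a t) : g * g = 1 ↔ InV a t m g := by
  refine ⟨fun h => ?_, S.inV_sq⟩
  obtain ⟨i, hi⟩ := S.mem_twR.1 hg
  have h2 : a ^ (i + i) = a ^ (0 : ℤ) := by
    rw [zpow_zero, zpow_add]
    rcases hi with rfl | rfl
    · exact h
    · rwa [(S.atc.zpow_left i).symm.mul_mul_mul_comm, S.t_sq, mul_one] at h
  rw [S.zpow_eq_iff, sub_zero, ← two_mul, S.pow_pred] at h2
  obtain ⟨k, hk⟩ := Int.dvd_of_mul_dvd_mul_left two_ne_zero h2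
  have hz2 : twZ a m ^ 2 = 1 := by rw [sq]; exact S.z_sq
  have hak : a ^ i = twZ a m ^ k := by rw [hk, S.z_eq, ← zpow_mul]
  have hzk : twZ a m ^ k = 1 ∨ twZ a m ^ k = twZ a m := by
    rcases Int.even_or_odd k with ⟨j, rfl⟩ | ⟨j, rfl⟩
    · exact Or.inl (by rw [← two_mul, zpow_mul, zpow_two, S.z_sq, one_zpow])
    · exact Or.inr (by rw [zpow_add, zpow_mul, zpow_two, S.z_sq, one_zpow, one_mul, zpow_one])
  rcases hi with rfl | rfl <;> rcases hzk with e | e <;> rw [hak, e]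
  · exact Or.inl rfl
  · exact Or.inr (Or.inl rfl)
  · exact Or.inr (Or.inr (Or.inl (one_mul t)))
  · exact Or.inr (Or.inr (Or.inr rfl))

theorem inV_mul {g h : G} (hg : InV a t m g) (hh : InV a t m h) : InV a t m (g * h) :=
  (S.sq_one_iff (mul_mem (S.inV_mem hg) (S.inV_mem hh))).1 (by
    rw [(S.R_comm (S.inV_mem hh) (S.inV_mem hg)).mul_mul_mul_comm, S.inV_sq hg, S.inV_sq hh,
      one_mul])

theorem inV_zpow {g : G} (hg : InV a t m g) (k : ℤ) : g ^ k = if Even k then 1 else g := by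
  split_ifs with hk
  · obtain ⟨j, rfl⟩ := hk
    rw [← two_mul, zpow_mul, zpow_two, S.inV_sq hg, one_zpow]
  · obtain ⟨j, rfl⟩ := Int.not_even_iff_odd.1 hk
    rw [zpow_add, zpow_mul, zpow_two, S.inV_sq hg, one_zpow, one_mul, zpow_one]

theorem inV_prod {g h k : G} (hg : InV a t m g) (hh : InV a t m h) (hk : InV a t m k)
    (hg1 : g ≠ 1) (hh1 : h ≠ 1) (hk1 : k ≠ 1) (hgh : g ≠ h) (hgk : g ≠ k) (hhk : h ≠ k) :
    g * h = k := by
  have hp := S.inV_mul hg hh
  have hp1 : g * h ≠ 1 := fun e => hgh (by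
    rw [eq_inv_of_mul_eq_one_left e, inv_eq_of_mul_eq_one_right (S.inV_sq hh)])
  have hpg : g * h ≠ g := fun e => hh1 (mul_eq_left.1 e)
  have hph : g * h ≠ h := fun e => hg1 (mul_eq_right.1 e)
  rcases hg with rfl | rfl | rfl | rfl <;> rcases hh with rfl | rfl | rfl | rfl <;>
    rcases hk with rfl | rfl | rfl | rfl <;> rcases hp with e | e | e | e <;>
    first | exact e | contradiction

theorem card_twR [Finite G] : Nat.card (twR a t) = 2 ^ (m + 1) := by
  have hinj : Function.Injective fun p : Fin (2 ^ m) × Bool =>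
      (⟨a ^ (p.1 : ℕ) * if p.2 then t else 1, mul_mem (pow_mem S.a_mem _) (by
        split_ifs
        · exact S.t_mem
        · exact one_mem _)⟩ : twR a t) := by
    rintro ⟨i, b⟩ ⟨k, b'⟩ h
    have h' := congrArg Subtype.val h
    simp only [← zpow_natCast] at h'
    have key : ∀ i k : Fin (2 ^ m), a ^ ((i : ℕ) : ℤ) = a ^ ((k : ℕ) : ℤ) → i = k := fun i k h0 => by
      rw [zpow_natCast, zpow_natCast] at h0
      exact Fin.ext (pow_injOn_Iio_orderOf (by rw [Set.mem_Iio, S.ordA]; exact i.2)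
        (by rw [Set.mem_Iio, S.ordA]; exact k.2) h0)
    cases b <;> cases b' <;> simp only [Bool.false_eq_true, if_false, if_true, mul_one] at h'
    · rw [key i k h']
    · exact absurd h' (S.zpow_ne_mul _ _)
    · exact absurd h'.symm (S.zpow_ne_mul _ _)
    · rw [key i k (mul_right_cancel h')]
  have hsurj : ∀ g : twR a t, ∃ p : Fin (2 ^ m) × Bool,
      a ^ (p.1 : ℕ) * (if p.2 then t else 1) = (g : G) := by
    intro g
    obtain ⟨i, hi⟩ := S.mem_twR.1 g.2
    have hpos : (0 : ℤ) < 2 ^ m := by positivity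
    have hr : a ^ ((i % 2 ^ m).toNat) = a ^ i := by
      rw [← zpow_natCast, Int.toNat_of_nonneg (Int.emod_nonneg _ hpos.ne'), S.zpow_eq_iff]
      exact ⟨-(i / 2 ^ m), by rw [Int.emod_def]; ring⟩
    have hlt : (i % 2 ^ m).toNat < 2 ^ m := by
      rw [Int.toNat_lt (Int.emod_nonneg _ hpos.ne')]
      exact_mod_cast Int.emod_lt_of_pos i hpos
    rcases hi with hi | hi
    · exact ⟨(⟨_, hlt⟩, false), by simp [hr, hi]⟩
    · exact ⟨(⟨_, hlt⟩, true), by simp [hr, hi]⟩
  rw [← Nat.card_congr (Equiv.ofBijective _ ⟨hinj, fun g => (hsurj g).imp fun p hp =>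
    Subtype.ext hp⟩), Nat.card_prod, Nat.card_fin, Nat.card_eq_fintype_card, Fintype.card_bool,
    pow_succ]

end PairGrp

/-- The twisted groups. -/
structure TwBase (P : Subgroup G) (a t x : G) (m : ℕ) : Prop where
  pair : PairGrp a t m
  amem : a ∈ P
  tmem : t ∈ P
  xmem : x ∈ P
  xtc : Commute x t
  xnot : x ∉ twR a t
  card : Nat.card P = 2 ^ (m + 2)
  cmem : InV a t m (twCm a x)
  qmem : InV a t m (x * x)
  qz : x * x ≠ twZ a m
  qcz : twCm a x * (x * x) ≠ twZ a m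

namespace TwBase

variable {P : Subgroup G} {a t x : G} {m : ℕ} (S : TwBase P a t x m)

include S

theorem R_le : twR a t ≤ P :=
  sup_le (Subgroup.zpowers_le.2 S.amem) (Subgroup.zpowers_le.2 S.tmem)

theorem x_conj (i : ℤ) : x * a ^ i * x⁻¹ = a ^ (-i) * twCm a x ^ i := by
  have h1 : x * a * x⁻¹ = a⁻¹ * twCm a x := by rw [twCm, inv_mul_cancel_left]
  rw [← conj_zpow, h1, ((S.pair.R_comm S.pair.a_mem (S.pair.inV_mem S.cmem)).inv_left).mul_zpow,
    inv_zpow']

theorem index_two [Finite G] : ((twR a t).subgroupOf P).index = 2 := by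
  have h1 := ((twR a t).subgroupOf P).card_mul_index
  rw [Nat.card_congr (Subgroup.subgroupOfEquivOfLe S.R_le).toEquiv, S.pair.card_twR, S.card,
    pow_succ 2 (m + 1)] at h1
  exact Nat.eq_of_mul_eq_mul_left (Nat.two_pow_pos _) h1

theorem mem_cases [Finite G] {g : G} (hg : g ∈ P) :
    g ∈ twR a t ∨ ∃ h ∈ twR a t, g = h * x := by
  by_cases hgR : g ∈ twR a t
  · exact Or.inl hgR
  refine Or.inr ⟨g * x⁻¹, ?_, by group⟩
  have h1 := (Subgroup.mul_mem_iff_of_index_two S.index_two (a := ⟨g, hg⟩)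
    (b := ⟨x⁻¹, P.inv_mem S.xmem⟩)).2 (iff_of_false hgR fun hh => S.xnot (by
      simpa [Subgroup.mem_subgroupOf] using hh))
  exact Subgroup.mem_subgroupOf.1 h1

theorem out_mul_mem [Finite G] {g h : G} (hg : g ∈ P) (hgR : g ∉ twR a t) (hh : h ∈ P)
    (hhR : h ∉ twR a t) : g * h ∈ twR a t :=
  Subgroup.mem_subgroupOf.1 ((Subgroup.mul_mem_iff_of_index_two S.index_two (a := ⟨g, hg⟩)
    (b := ⟨h, hh⟩)).2 (iff_of_false hgR hhR))

theorem x_conj_mem {h : G} (hh : h ∈ twR a t) : x * h * x⁻¹ ∈ twR a t := by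
  obtain ⟨i, hi⟩ := S.pair.mem_twR.1 hh
  have h1 : x * a ^ i * x⁻¹ ∈ twR a t := by
    rw [S.x_conj]
    exact mul_mem (zpow_mem S.pair.a_mem _) (zpow_mem (S.pair.inV_mem S.cmem) _)
  rcases hi with rfl | rfl
  · exact h1
  · rw [show x * (a ^ i * t) * x⁻¹ = x * a ^ i * x⁻¹ * (x * t * x⁻¹) by group, S.xtc.eq,
      mul_inv_cancel_right]
    exact mul_mem h1 S.pair.t_mem

theorem out_conj [Finite G] {g : G} (hg : g ∈ P) (hgR : g ∉ twR a t) (i : ℤ) :
    g * a ^ i * g⁻¹ = a ^ (-i) * twCm a x ^ i := by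
  obtain ⟨h, hh, rfl⟩ := (S.mem_cases hg).resolve_left hgR
  rw [show h * x * a ^ i * (h * x)⁻¹ = h * (x * a ^ i * x⁻¹) * h⁻¹ by group,
    (S.pair.R_comm hh (S.x_conj_mem (zpow_mem S.pair.a_mem i))).eq, mul_inv_cancel_right, S.x_conj]

theorem t_comm [Finite G] {g : G} (hg : g ∈ P) : Commute g t := by
  rcases S.mem_cases hg with h | ⟨h, hh, rfl⟩
  · exact S.pair.R_comm h S.pair.t_mem
  · exact (S.pair.R_comm hh S.pair.t_mem).mul_left S.xtc

theorem c_pow (i : ℤ) : twCm a x ^ i = if Even i then 1 else twCm a x := S.pair.inV_zpow S.cmem i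

theorem z_comm [Finite G] {g : G} (hg : g ∈ P) : Commute g (twZ a m) := by
  by_cases hgR : g ∈ twR a t
  · exact S.pair.R_comm hgR (S.pair.inV_mem S.pair.inV_z)
  · have h := S.out_conj hg hgR (2 ^ (m - 1))
    rw [zpow_neg, ← S.pair.z_eq, S.pair.z_inv, S.c_pow, if_pos, mul_one, mul_inv_eq_iff_eq_mul]
      at h
    · exact h
    · have := S.pair.two_le
      exact Int.even_pow.2 ⟨even_two, by omega⟩

theorem V_comm [Finite G] {g v : G} (hg : g ∈ P) (hv : InV a t m v) : Commute g v := by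
  rcases hv with rfl | rfl | rfl | rfl
  exacts [Commute.one_right g, S.z_comm hg, S.t_comm hg, (S.z_comm hg).mul_right (S.t_comm hg)]

theorem out_sq [Finite G] {g : G} (hg : g ∈ P) (hgR : g ∉ twR a t) :
    g * g = x * x ∨ g * g = twCm a x * (x * x) := by
  obtain ⟨h, hh, rfl⟩ := (S.mem_cases hg).resolve_left hgR
  obtain ⟨i, hi⟩ := S.pair.mem_twR.1 hh
  have key : h * (x * h * x⁻¹) = twCm a x ^ i := by
    rcases hi with rfl | rfl
    · rw [S.x_conj, ← mul_assoc, ← zpow_add, add_neg_cancel, zpow_zero, one_mul]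
    · rw [show x * (a ^ i * t) * x⁻¹ = x * a ^ i * x⁻¹ * (x * t * x⁻¹) by group, S.xtc.eq,
        mul_inv_cancel_right, S.x_conj,
        (S.pair.R_comm S.pair.t_mem (mul_mem (zpow_mem S.pair.a_mem (-i))
          (zpow_mem (S.pair.inV_mem S.cmem) i))).mul_mul_mul_comm, S.pair.t_sq, mul_one,
        ← mul_assoc, ← zpow_add, add_neg_cancel, zpow_zero, one_mul]
  have e : h * x * (h * x) = twCm a x ^ i * (x * x) := by rw [← key]; group
  rw [e, S.c_pow]
  split_ifs
  · exact Or.inl (one_mul _)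
  · exact Or.inr rfl

theorem out_sq_inV [Finite G] {g : G} (hg : g ∈ P) (hgR : g ∉ twR a t) : InV a t m (g * g) := by
  rcases S.out_sq hg hgR with h | h <;> rw [h]
  exacts [S.qmem, S.pair.inV_mul S.cmem S.qmem]

theorem out_sq_ne [Finite G] {g : G} (hg : g ∈ P) (hgR : g ∉ twR a t) :
    g * g ≠ twZ a m := by
  rcases S.out_sq hg hgR with h | h <;> rw [h]
  exacts [S.qz, S.qcz]

theorem out_four [Finite G] {g : G} (hg : g ∈ P) (hgR : g ∉ twR a t) : g ^ 4 = 1 := by
  rw [show (4 : ℕ) = 2 * 2 from rfl, pow_mul, sq g, sq (g * g)]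
  exact S.pair.inV_sq (S.out_sq_inV hg hgR)

theorem not_abelian_iff : ¬ Commute a x ↔ a ^ (2 : ℤ) ≠ twCm a x := by
  constructor
  · intro h e
    refine h (Eq.symm (mul_inv_eq_iff_eq_mul.1 ?_))
    refine mul_left_cancel (a := a) ?_
    rw [show a * (x * a * x⁻¹) = twCm a x from rfl, ← e, zpow_two]
  · intro h e
    refine h ?_
    rw [zpow_two, twCm, e.symm.eq, mul_inv_cancel_right]

/-- The elements of the abelian subgroup centralized by an element outside it. -/
theorem comm_out [Finite G] (hna : ¬ Commute a x) {g h : G} (hg : g ∈ P) (hgR : g ∉ twR a t)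
    (hh : h ∈ twR a t) : Commute g h ↔ InV a t m h := by
  refine ⟨fun hc => ?_, fun hv => S.V_comm hg hv⟩
  obtain ⟨i, hi⟩ := S.pair.mem_twR.1 hh
  suffices InV a t m (a ^ i) by
    rcases hi with rfl | rfl
    · exact this
    · exact S.pair.inV_mul this S.pair.inV_t
  have hgi : g * a ^ i * g⁻¹ = a ^ i := by
    rw [mul_inv_eq_iff_eq_mul]
    rcases hi with rfl | rfl
    · exact hc.eq
    · have := hc.mul_right (S.t_comm hg)
      rw [mul_assoc, S.pair.t_sq, mul_one] at this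
      exact this.eq
  rw [S.out_conj hg hgR] at hgi
  have h2 : a ^ (i + i) = twCm a x ^ i := by
    have h3 : a ^ (i + i) = a ^ i * (a ^ (-i) * twCm a x ^ i) := by rw [hgi, zpow_add]
    rwa [← mul_assoc, ← zpow_add a i (-i), add_neg_cancel, zpow_zero, one_mul] at h3
  rw [S.c_pow] at h2
  split_ifs at h2 with hev
  · exact (S.pair.sq_one_iff (zpow_mem S.pair.a_mem i)).1 (by rw [← zpow_add, h2])
  -- odd exponent: the order of `a` is four and the twist is its square
  exfalso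
  obtain ⟨j, rfl⟩ := Int.not_even_iff_odd.1 hev
  have h4 : a ^ (4 * j + 2 + (4 * j + 2)) = a ^ (0 : ℤ) := by
    rw [zpow_zero, zpow_add, show 4 * j + 2 = 2 * j + 1 + (2 * j + 1) by ring, h2]
    exact S.pair.inV_sq S.cmem
  rw [S.pair.zpow_eq_iff, sub_zero] at h4
  have hm := S.pair.two_le
  have hm3 : m < 3 := by
    by_contra hm3
    have h8 : (2 : ℤ) ^ 3 ∣ 2 ^ m := pow_dvd_pow 2 (by omega)
    obtain ⟨k, hk⟩ := h8.trans h4
    omega
  have hm2 : m = 2 := by omega
  refine S.not_abelian_iff.1 hna ?_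
  rw [← h2, S.pair.zpow_eq_iff, hm2]
  exact ⟨-j, by ring⟩

/-- The central elements. -/
theorem center_inV [Finite G] (hna : ¬ Commute a x) {g : G} (hg : g ∈ P)
    (hc : ∀ h ∈ P, Commute g h) : InV a t m g := by
  by_cases hgR : g ∈ twR a t
  · exact (S.comm_out hna S.xmem S.xnot hgR).1 (hc x S.xmem).symm
  · exfalso
    have h1 := (S.comm_out hna hg hgR S.pair.a_mem).1 (hc a S.amem)
    have h2 := S.pair.inV_sq h1
    rw [← sq, ← orderOf_dvd_iff_pow_eq_one, S.pair.ordA] at h2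
    have h3 := Nat.le_of_dvd two_pos h2
    have h4 : 2 ^ 2 ≤ 2 ^ m := Nat.pow_le_pow_right two_pos S.pair.two_le
    omega

/-- The twisted subgroup at an element outside and a smaller rotation. -/
theorem sub_base [Finite G] {Q : Subgroup G} (hQP : Q ≤ P) {g : G} (hgQ : g ∈ Q)
    (hgR : g ∉ twR a t) {j : ℕ} (hj2 : 2 ≤ j) (hjm : j ≤ m)
    (hR : ∀ h : G, h ∈ twR (a ^ 2 ^ (m - j)) t ↔ h ∈ Q ∧ h ∈ twR a t) :
    TwBase Q (a ^ 2 ^ (m - j)) t g j ∧ (j < m → ¬ Commute (a ^ 2 ^ (m - j)) g) := by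
  obtain ⟨w, hw⟩ : ∃ w, w = a ^ 2 ^ (m - j) := ⟨_, rfl⟩
  rw [← hw] at hR ⊢
  have hPG : PairGrp w t j := by
    refine ⟨hj2, ?_, S.pair.ordT, fun h => S.pair.tnot ?_, hw ▸ S.pair.atc.pow_left _⟩
    · rw [hw, orderOf_pow' _ (pow_ne_zero _ two_ne_zero), S.pair.ordA,
        Nat.gcd_eq_right (pow_dvd_pow 2 (Nat.sub_le m j)), Nat.pow_div (Nat.sub_le m j) two_pos,
        Nat.sub_sub_self hjm]
    · exact (Subgroup.zpowers_le.2 (hw ▸ Subgroup.npow_mem_zpowers a _)) h
  have hgP := hQP hgQ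
  have hz : twZ w j = twZ a m := by
    rw [twZ, twZ, hw, ← pow_mul, ← pow_add]
    congr 2
    omega
  have hV : ∀ v, InV a t m v → InV w t j v := fun v hv => by
    simpa [InV, hz] using hv
  have hwR : w ∈ twR a t := hw ▸ pow_mem S.pair.a_mem _
  have hc : twCm w g = twCm a x ^ (2 ^ (m - j) : ℤ) := by
    have e : w = a ^ (2 ^ (m - j) : ℤ) := by rw [hw, ← zpow_natCast]; norm_num
    rw [twCm, e, S.out_conj hgP hgR, ← mul_assoc, ← zpow_add, add_neg_cancel, zpow_zero, one_mul]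
  rw [S.c_pow] at hc
  have hcases : twCm w g = 1 ∧ j < m ∨ twCm w g = twCm a x ∧ j = m := by
    split_ifs at hc with hev
    · refine Or.inl ⟨hc, lt_of_le_of_ne hjm fun h => ?_⟩
      rw [h, Nat.sub_self] at hev
      norm_num at hev
    · refine Or.inr ⟨hc, le_antisymm hjm ?_⟩
      by_contra hlt
      exact hev (Int.even_pow.2 ⟨even_two, by omega⟩)
  have hcz : twCm w g * (g * g) ≠ twZ w j := by
    rw [hz]
    rcases hcases with ⟨e, -⟩ | ⟨e, -⟩ <;> rw [e]
    · rw [one_mul]; exact S.out_sq_ne hgP hgR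
    rcases S.out_sq hgP hgR with e' | e' <;> rw [e']
    · exact S.qcz
    · rw [← mul_assoc, S.pair.inV_sq S.cmem, one_mul]
      exact S.qz
  have hwQ : w ∈ Q := ((hR w).1 hPG.a_mem).1
  refine ⟨⟨hPG, hwQ, ((hR t).1 hPG.t_mem).1, hgQ, S.t_comm hgP, fun h => hgR ((hR g).1 h).2, ?_,
    hV _ ?_, hV _ (S.out_sq_inV hgP hgR), fun h => S.out_sq_ne hgP hgR (h.trans hz), hcz⟩, ?_⟩
  · have hidx : ((twR w t).subgroupOf Q).index = 2 := by
      refine Subgroup.index_eq_two_iff.2 ⟨⟨g, hgQ⟩, fun b => ?_⟩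
      simp only [Subgroup.mem_subgroupOf, Subgroup.coe_mul, hR, xor_iff_iff_not, SetLike.coe_mem,
        true_and, mul_mem b.2 hgQ]
      constructor
      · intro h1 h2
        exact hgR ((Subgroup.mul_mem_cancel_left _ h2).1 h1)
      · intro h
        exact S.out_mul_mem (hQP b.2) h hgP hgR
    have h1 := ((twR w t).subgroupOf Q).card_mul_index
    rw [Nat.card_congr (Subgroup.subgroupOfEquivOfLe (fun h hh => ((hR h).1 hh).1)).toEquiv,
      hPG.card_twR, hidx] at h1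
    rw [← h1, pow_succ 2 (j + 1)]
  · rcases hcases with ⟨e, -⟩ | ⟨e, -⟩ <;> rw [e]
    exacts [S.pair.inV_one, S.cmem]
  · intro hlt hcomm
    rcases hcases with ⟨e, -⟩ | ⟨-, e⟩
    · rw [twCm, hcomm.symm.eq, mul_inv_cancel_right] at e
      have h2 : orderOf w ∣ 2 := orderOf_dvd_of_pow_eq_one (by rw [sq, e])
      rw [hPG.ordA] at h2
      have h3 := Nat.le_of_dvd two_pos h2
      have h4 : 2 ^ 2 ≤ 2 ^ j := Nat.pow_le_pow_right two_pos hj2
      omega
    · omega

end TwBase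

/-- The normalized twisted groups. -/
structure TwNorm (P : Subgroup G) (a t x : G) (m e : ℕ) : Prop where
  pair : PairGrp a t m
  amem : a ∈ P
  tmem : t ∈ P
  xmem : x ∈ P
  xtc : Commute x t
  xnot : x ∉ twR a t
  card : Nat.card P = 2 ^ (m + 2)
  xsq : x * x = 1
  he : e ≤ 1
  conjA : x * a * x⁻¹ = a⁻¹ * t ^ e

namespace TwNorm

variable {P : Subgroup G} {a t x : G} {m e : ℕ} (S : TwNorm P a t x m e)

include S

theorem c_eq : twCm a x = t ^ e := by rw [twCm, S.conjA, mul_inv_cancel_left]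

theorem toBase : TwBase P a t x m := by
  have hc : InV a t m (twCm a x) := by
    rw [S.c_eq]
    rcases Nat.le_one_iff_eq_zero_or_eq_one.1 S.he with rfl | rfl
    · rw [pow_zero]; exact S.pair.inV_one
    · rw [pow_one]; exact S.pair.inV_t
  refine ⟨S.pair, S.amem, S.tmem, S.xmem, S.xtc, S.xnot, S.card, hc, ?_, ?_, ?_⟩
  · rw [S.xsq]; exact S.pair.inV_one
  · rw [S.xsq]; exact S.pair.z_ne.symm
  · rw [S.xsq, mul_one, S.c_eq]
    rcases Nat.le_one_iff_eq_zero_or_eq_one.1 S.he with rfl | rfl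
    · rw [pow_zero]; exact S.pair.z_ne.symm
    · rw [pow_one]; exact S.pair.z_ne_t.symm

theorem not_comm : ¬ Commute a x := by
  rw [S.toBase.not_abelian_iff, S.c_eq]
  rcases Nat.le_one_iff_eq_zero_or_eq_one.1 S.he with rfl | rfl
  · rw [pow_zero, Ne, ← orderOf_dvd_iff_zpow_eq_one, S.pair.ordA]
    intro h
    have h3 := Nat.le_of_dvd two_pos (Int.natCast_dvd_natCast.1 (h : ((2 ^ m : ℕ) : ℤ) ∣ ((2 : ℕ) : ℤ)))
    have h4 : 2 ^ 2 ≤ 2 ^ m := Nat.pow_le_pow_right two_pos S.pair.two_le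
    omega
  · rw [pow_one]
    exact fun h => S.pair.tnot ⟨2, h⟩

end TwNorm

/-- Normalization when some element outside the abelian subgroup is an involution. -/
theorem TwBase.exists_norm [Finite G] {t x : G} {P : Subgroup G} {a : G} {m : ℕ}
    (S : TwBase P a t x m) {g : G} (hg : g ∈ P) (hgR : g ∉ twR a t) (hg2 : g * g = 1) :
    ∃ t' e, TwNorm P a t' g m e := by
  have hc : twCm a g = twCm a x := by
    have h := S.out_conj hg hgR 1
    rw [zpow_one, zpow_one, zpow_neg, zpow_one] at h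
    rw [twCm, h, mul_inv_cancel_left]
  have hcz : twCm a x ≠ twZ a m := by
    intro h
    rcases S.out_sq hg hgR with e | e <;> rw [hg2] at e
    · exact S.qcz (by rw [← e, mul_one, h])
    · exact S.qz (by
        rw [← inv_eq_of_mul_eq_one_right e.symm, h, S.pair.z_inv])
  have hconj : g * a * g⁻¹ = a⁻¹ * twCm a x := by rw [← hc, twCm, inv_mul_cancel_left]
  rcases S.cmem with e | e | e | e
  · exact ⟨t, 0, S.pair, S.amem, S.tmem, hg, S.t_comm hg, hgR, S.card, hg2, zero_le_one,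
      by rw [hconj, e, pow_zero]⟩
  · exact absurd e hcz
  · exact ⟨t, 1, S.pair, S.amem, S.tmem, hg, S.t_comm hg, hgR, S.card, hg2, le_rfl,
      by rw [hconj, e, pow_one]⟩
  · have hzt : twZ a m * t ∉ Subgroup.zpowers a := fun h => S.pair.tnot
      ((Subgroup.mul_mem_cancel_left _ (Subgroup.npow_mem_zpowers a _)).1 h)
    have hP : PairGrp a (twZ a m * t) m :=
      ⟨S.pair.two_le, S.pair.ordA, orderOf_eq_prime (by
        rw [sq]; exact S.pair.inV_sq (Or.inr (Or.inr (Or.inr rfl)))) S.pair.zt_ne, hzt,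
        ((Commute.refl a).pow_right _).mul_right S.pair.atc⟩
    have hRle : twR a (twZ a m * t) ≤ twR a t :=
      sup_le le_sup_left (Subgroup.zpowers_le.2
        (S.pair.inV_mem (Or.inr (Or.inr (Or.inr rfl)))))
    exact ⟨twZ a m * t, 1, hP, S.amem, mul_mem (pow_mem S.amem _) S.tmem, hg,
      S.V_comm hg (Or.inr (Or.inr (Or.inr rfl))), fun h => hgR (hRle h), S.card, hg2, le_rfl,
      by rw [hconj, e, pow_one]⟩


end Cfsg.Lib.Block
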