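import Cfsg.Agent.Lib.Block.TwistEight
import Cfsg.Agent.Lib.Block.TwistClass
import Cfsg.Agent.Lib.Block.PairCount
import Cfsg.Agent.Lib.Block.BlockFusionSys
import Cfsg.Agent.Lib.Block.NilpotentPairs
import Cfsg.Agent.Lib.Block.AbelianNilpotent
import Cfsg.Agent.Lib.Block.FullyNormal
import Cfsg.Agent.Lib.Block.LocalMax
import Cfsg.Agent.Lib.Block.StarProduct

/-!
# Pairs at the elements of a twisted defect group

An invariant of the classes of the fused centralizers is an invariant of the fusion system of the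
block. So the adapted linear character is one of the block and the elements meeting no fused
centralizer are fused only inside the defect group and have blocks of rank one.
-/

set_option autoImplicit false
set_option linter.unusedSectionVars false
set_option linter.style.haveILetI false
set_option maxHeartbeats 1000000

namespace Cfsg.Lib.Block

open Cfsg Cfsg.Lib.FusionSys
open Cfsg.FusionSystem (centralizerIn normalizerIn)

universe u

noncomputable local instance (priority := high) fintypeSubgroupTwistLocal {A : Type u} [Group A]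
    [Fintype A] (H : Subgroup A) : Fintype H := Fintype.ofFinite H

local notation "C[" Q "]" => Subgroup.centralizer (SetLike.coe Q)

section General

variable {p : ℕ} {M : Ideal AlgInt} {G : Type u} [Group G] [Fintype G] [Fact p.Prime]
  {B : Set (IrrCharacter G)} {P : Subgroup G} {c : Set (IrrCharacter C[P])} {Sys : FusionSystem P}
  {F : ∀ u : G, Set (IrrCharacter C[Subgroup.zpowers u])}
  (hM : IsPModular p M) (hSys : IsBlockFusionSystemOn p M B P c Sys) (hF : PairFam p M P c F)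

include hM hSys hF

/-- Conjugate pairs are conjugate in the system. -/
theorem exists_hom_of_pairConj {u v : G} (hu : u ∈ P) (hv : v ∈ P) (h : PairConj F u v) :
    ∃ φ ∈ Sys.Hom (Subgroup.zpowers u), φ ⟨u, Subgroup.mem_zpowers u⟩ = v := by
  obtain ⟨g, hg, hgF⟩ := h
  have hrel : Relation.ReflTransGen (NormalSubpairRel p M)
      (conjIdx g ⟨Subgroup.zpowers u, F u⟩) ⟨P, c⟩ := by rw [hgF]; exact hF v hv
  exact ⟨conjHom _ g, (hSys.2 _ _).2
    ⟨Subgroup.zpowers_le.2 hu, g, fun _ => rfl, le_of_rel hrel, F u, hF u hu, hrel⟩, hg⟩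

/-- Elements conjugate in the system have conjugate pairs. -/
theorem pairConj_of_hom {Q : Subgroup G} {φ : Q →* G} (hφ : φ ∈ Sys.Hom Q) (y : Q) :
    PairConj F (y : G) (φ y) := by
  obtain ⟨-, g, hg, -, f, hf, hgf⟩ := (hSys.2 Q φ).1 hφ
  rw [hg y]
  exact hF.conj_of_rel hM hSys.1.1.1 hf hgf y.2

/-- A block at an element whose class is that in `P`, with abelian centralizer in `P` having no
automorphism of odd order. -/
theorem blockRank_one_of_aut {u : G} (hu : u ∈ P)
    (hcls : ∀ v ∈ P, PairConj F u v → ∃ d ∈ P, d * u * d⁻¹ = v)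
    (hab : ∀ y ∈ twE P u, ∀ w ∈ twE P u, y * w = w * y)
    (haut : ∀ α ∈ Sys.autGroup (twE P u), ∀ n : ℕ, ¬ p ∣ n → α ^ n = 1 → α = 1) :
    blockRank p (F u) = 1 := by
  have hmax := hSys.1
  have hPc := hmax.1.1
  have hle := hF u hu
  have hfb := (isBrauerPair_of_le hle hPc).2
  have hloc := isLocalBlock_centralizer (p := p) hM hfb
  obtain ⟨x, hx, hcard⟩ := exists_card_inf_eq_defect hM hloc hmax hle
  have hrel : Relation.ReflTransGen (NormalSubpairRel p M)
      (conjIdx x ⟨Subgroup.zpowers u, F u⟩) ⟨P, c⟩ := hx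
  have hxc := hF.conj_of_rel hM hPc hle hrel (Subgroup.mem_zpowers u)
  have hxP : x * u * x⁻¹ ∈ P := le_of_rel hrel ⟨u, Subgroup.mem_zpowers u, rfl⟩
  obtain ⟨d, hd, hdu⟩ := hcls _ hxP hxc
  have hA : twE P u = P ⊓ C[Subgroup.zpowers u] := by rw [twE, centralizer_singleton_eq]
  have hmapd : (P ⊓ C[Subgroup.zpowers u]).map (MulAut.conj d).toMonoidHom =
      P ⊓ C[Subgroup.zpowers (x * u * x⁻¹)] := by
    rw [Subgroup.map_inf _ _ _ (MulAut.conj d).injective,
      map_conj_eq_self (Subgroup.le_normalizer hd), map_centralizer_conj, conj_zpowers_map, hdu]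
  rw [map_centralizer_conj, conj_zpowers_map, ← hmapd,
    Subgroup.card_map_of_injective (MulAut.conj d).injective] at hcard
  have hdef := (isDefectGroup_inf_iff hM hloc hPc hle).2 (le_of_eq hcard.symm)
  have huA : u ∈ twE P u := mem_twE.2 ⟨hu, Commute.refl u⟩
  obtain ⟨V, hVdef⟩ : ∃ V, V = twE P u := ⟨_, rfl⟩
  rw [← hVdef] at hA hab haut huA
  rw [← hA] at hdef
  have hVC : V ≤ C[Subgroup.zpowers u] := hA ▸ inf_le_right
  obtain ⟨n, hnP, hQn⟩ := normalSubpair_below hM hPc hle (S := V) (Subgroup.zpowers_le.2 huA)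
    (hA ▸ inf_le_left) (hVC.trans (Subgroup.centralizer_le_normalizer _))
  obtain ⟨V', rfl⟩ : ∃ V' : Subgroup C[Subgroup.zpowers u], V'.map (Subgroup.subtype _) = V :=
    ⟨V.subgroupOf _, Subgroup.map_subgroupOf_eq_of_le hVC⟩
  have eV : (V'.map C[Subgroup.zpowers u].subtype).subgroupOf _ = V' :=
    Subgroup.comap_map_eq_self_of_injective (Subgroup.subtype_injective _) V'
  rw [eV] at hdef
  have hQV : Subgroup.zpowers u ≤ V'.map C[Subgroup.zpowers u].subtype := Subgroup.zpowers_le.2 huA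
  obtain ⟨n', hn'⟩ : ∃ n', n' = pullSet (cenUp V' (hloc.cen_up hQV)) n := ⟨_, rfl⟩
  have hup : upBlock V' (hloc.cen_up hQV) n' = n := by rw [hn']; exact pullSet_symm _ _
  have hQf := isBrauerPair_of_le hle hPc
  have hab' : ∀ y ∈ V', ∀ w ∈ V', y * w = w * y := fun y hy w hw =>
    Subtype.ext (hab y ⟨y, hy, rfl⟩ w ⟨w, hw, rfl⟩)
  have hVn : IsBrauerPairOf p M (F u) V' n' :=
    (isBrauerPairOf_local_iff hM hloc hQf hQV _).2 (by rw [hup]; exact hQn)
  refine (abelian_inertial_one hM _ le_rfl hfb hdef hab'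
    (isInducedBlock_of_isBrauerPairOf hM (le_centralizer_of_abelian hab' le_rfl) hVn) ?_).1
  obtain ⟨T, hT⟩ : ∃ T : Subgroup C[Subgroup.zpowers u], ∀ y, y ∈ T ↔
      y ∈ Subgroup.normalizer (V' : Set C[Subgroup.zpowers u]) ∧
        StabilizesBlock (Subgroup.centralizer (V' : Set C[Subgroup.zpowers u])) n' y := by
    refine ⟨Subgroup.normalizer (V' : Set C[Subgroup.zpowers u]) ⊓ invStab (indVec n'), fun y => ?_⟩
    refine and_congr_right fun hy => ?_
    rw [stabilizesBlock_iff_coeff (mem_normalizer_centralizer hy), ← extF_indVec]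
    rfl
  have hnd := not_dvd_relIndex_of_maximal hM (maximal_of_defectGroup hM hVn hdef) hT
  rw [sup_eq_right.2 (le_centralizer_of_abelian hab' le_rfl)] at hnd
  haveI : ((Subgroup.centralizer (V' : Set C[Subgroup.zpowers u])).subgroupOf T).Normal :=
    ⟨fun y hy k => Subgroup.mem_subgroupOf.2 (by
      push_cast
      exact (centralizer_conj_mem_iff ((hT k).1 k.2).1).2 (Subgroup.mem_subgroupOf.1 hy))⟩
  intro g hgN hgS
  obtain ⟨N, hN, hgNC⟩ : ∃ N : ℕ, ¬ p ∣ N ∧
      g ^ N ∈ Subgroup.centralizer (V' : Set C[Subgroup.zpowers u]) := by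
    refine ⟨_, hnd, ?_⟩
    have h1 := Subgroup.mem_subgroupOf.1 (Subgroup.pow_index_mem
      ((Subgroup.centralizer (V' : Set C[Subgroup.zpowers u])).subgroupOf T)
      ⟨g, (hT g).2 ⟨hgN, hgS⟩⟩)
    simpa [Subgroup.relIndex] using h1
  -- the automorphism in the system
  have hmapV : V'.map (MulAut.conj g).toMonoidHom = V' := map_conj_eq_self hgN
  have hfix : conjIdx g ⟨V', n'⟩ = ⟨V', n'⟩ := (conjIdx_eq_self_iff _ _).2 ⟨hgN, hgS⟩
  have hQV' : Subgroup.zpowers u ≤ (V'.map (MulAut.conj g).toMonoidHom).map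
      C[Subgroup.zpowers u].subtype := by rw [hmapV]; exact hQV
  have hgn : Relation.ReflTransGen (NormalSubpairRel p M)
      (conjIdx (g : G) ⟨V'.map C[Subgroup.zpowers u].subtype, n⟩) ⟨P, c⟩ := by
    rw [← hup, conjIdx_upBlock V' g (hloc.cen_up hQV) (hloc.cen_up hQV')]
    have h2 : ∀ (a b : BrauerPairIdx C[Subgroup.zpowers u]), a = b →
        ∀ (ha : Subgroup.zpowers u ≤ a.1.map C[Subgroup.zpowers u].subtype)
          (hb : Subgroup.zpowers u ≤ b.1.map C[Subgroup.zpowers u].subtype),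
        (⟨_, upBlock a.1 (hloc.cen_up ha) a.2⟩ : BrauerPairIdx G) =
          ⟨_, upBlock b.1 (hloc.cen_up hb) b.2⟩ := by rintro a _ rfl _ _; rfl
    have h3 := h2 _ _ hfix hQV' hQV
    dsimp only [conjIdx] at h3
    rw [h3, hup]
    exact hnP
  have h0 : (V'.map C[Subgroup.zpowers u].subtype).map (MulAut.conj (g : G)).toMonoidHom =
      V'.map C[Subgroup.zpowers u].subtype := by rw [map_subtype_conj, hmapV]
  have hgNG : (g : G) ∈ Subgroup.normalizer ((V'.map C[Subgroup.zpowers u].subtype) : Set G) :=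
    Subgroup.le_normalizer_map C[Subgroup.zpowers u].subtype ⟨g, hgN, rfl⟩
  obtain ⟨α, hα⟩ : ∃ α : MulAut (V'.map C[Subgroup.zpowers u].subtype),
      α = (V'.map C[Subgroup.zpowers u].subtype).normalizerMonoidHom ⟨(g : G), hgNG⟩ := ⟨_, rfl⟩
  have hαy : ∀ y, ((α y : V'.map C[Subgroup.zpowers u].subtype) : G) =
      (g : G) * (y : G) * (g : G)⁻¹ := fun y => by rw [hα]; rfl
  have hαmem : α ∈ Sys.autGroup (V'.map C[Subgroup.zpowers u].subtype) :=
    (mem_autGroup (subpairLE_le hnP)).2 ((hSys.2 _ _).2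
      ⟨subpairLE_le hnP, (g : G), hαy, le_of_rel hgn, n, hnP, hgn⟩)
  have hαN : α ^ N = 1 := by
    rw [hα, ← map_pow]
    refine MulEquiv.ext fun y => Subtype.ext ?_
    show (g : G) ^ N * (y : G) * ((g : G) ^ N)⁻¹ = y
    obtain ⟨w, hw, hwy⟩ := y.2
    rw [← hwy, ← SubgroupClass.coe_pow]
    show ((g ^ N : C[Subgroup.zpowers u]) : G) * (w : G) * ((g ^ N : C[Subgroup.zpowers u]) : G)⁻¹ = w
    exact mul_inv_eq_iff_eq_mul.2
      (congrArg Subtype.val (Subgroup.mem_centralizer_iff.1 hgNC w hw)).symm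
  have hα1 := haut α hαmem N hN hαN
  refine Subgroup.mem_centralizer_iff.2 fun w hw => Subtype.ext ?_
  have h1 := hαy ⟨(w : G), w, hw, rfl⟩
  rw [hα1, MulAut.one_apply] at h1
  exact eq_mul_inv_iff_mul_eq.1 h1

end General

variable {G : Type u} [Group G] [Fintype G] [Fact (Nat.Prime 2)] {M : Ideal AlgInt}
  {B : Set (IrrCharacter G)} {P : Subgroup G} {c : Set (IrrCharacter C[P])} {Sys : FusionSystem P}
  {F : ∀ u : G, Set (IrrCharacter C[Subgroup.zpowers u])} {a t x : G} {m e : ℕ}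

/-- The representative `a ^ q x` is an involution whose centralizer is fused. -/
def TwFz (Sys : FusionSystem P) (a t x : G) (m : ℕ) (q : ℕ) : Prop :=
  a ^ q * x * (a ^ q * x) = 1 ∧
    (Fus Sys (a ^ q * x) t ∨ Fus Sys (a ^ q * x) (twZeta a x m * t))

namespace TwNorm

variable (S : TwNorm P a t x m e) (hM : IsPModular 2 M)
  (hSys : IsBlockFusionSystemOn 2 M B P c Sys) (hF : PairFam 2 M P c F)

include S hM hSys

/-- The data at the fused representatives. -/
theorem exists_fusedData : ∃ u : ℕ → G, ∀ q < 2, TwFz Sys a t x m q →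
    (a ^ q * x * (a ^ q * x) = 1 ∧ InV a t m (u q * (a ^ q * x)⁻¹)) ∧
    (∀ lam : G → ℂ, IsHomOn P lam → lam t = -1 → lam (twZeta a x m * t) = -1 →
      lam (twZeta a x m) = 1 → lam (u q) = 1 →
        ∀ β ∈ Sys.autGroup (twE P (a ^ q * x)), ∀ y : twE P (a ^ q * x),
          lam ((β y : twE P (a ^ q * x)) : G) = lam (y : G)) ∧
    ∀ y : twE P (a ^ q * x), (y : G) ∉ twR a t →
      ∃ β ∈ Sys.autGroup (twE P (a ^ q * x)), InV a t m ((β y : twE P (a ^ q * x)) : G) := by
  have hsat := isSaturated_blockFusion hM hSys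
  suffices ∀ q : ℕ, ∃ w : G, q < 2 → TwFz Sys a t x m q →
      (a ^ q * x * (a ^ q * x) = 1 ∧ InV a t m (w * (a ^ q * x)⁻¹)) ∧
      (∀ lam : G → ℂ, IsHomOn P lam → lam t = -1 → lam (twZeta a x m * t) = -1 →
        lam (twZeta a x m) = 1 → lam w = 1 →
          ∀ β ∈ Sys.autGroup (twE P (a ^ q * x)), ∀ y : twE P (a ^ q * x),
            lam ((β y : twE P (a ^ q * x)) : G) = lam (y : G)) ∧
      ∀ y : twE P (a ^ q * x), (y : G) ∉ twR a t →
        ∃ β ∈ Sys.autGroup (twE P (a ^ q * x)), InV a t m ((β y : twE P (a ^ q * x)) : G) by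
    choose u hu using this
    exact ⟨u, hu⟩
  intro q
  by_cases hq : TwFz Sys a t x m q
  swap
  · exact ⟨1, fun _ h => absurd h hq⟩
  obtain ⟨h1, hfus⟩ := hq
  obtain ⟨f, hf, hFus⟩ : ∃ f, (f = t ∨ f = twZeta a x m * t) ∧ Fus Sys (a ^ q * x) f :=
    hfus.elim (fun h => ⟨_, Or.inl rfl, h⟩) fun h => ⟨_, Or.inr rfl, h⟩
  obtain ⟨w, hw, hwR, hcrit, hcov⟩ := S.fus_data hsat (S.rep_mem q) (S.rep_notR q) h1 hf hFus
  refine ⟨w, fun _ _ => ⟨⟨h1, ?_⟩, fun lam hl ht hzt hζ hw1 => hcrit lam ?_ ?_ hζ hw1, hcov⟩⟩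
  · rcases (S.toBase.mem_twE_out S.not_comm (S.rep_mem q) (S.rep_notR q)).1 hw with h | h
    · exact absurd (S.pair.inV_mem h) hwR
    · exact h
  · exact fun y hy z hz => hl.map_mul y (mem_twE.1 hy).1 z (mem_twE.1 hz).1
  · rcases hf with rfl | rfl <;> simp [ht, hzt]

/-- A conjugation inside `P` as an isomorphism of the system between centralizers. -/
theorem exists_iso_twE {g d g' : G} (hd : d ∈ P)
    (he : twE P (d * g * d⁻¹) = twE P g') :
    ∃ e' : twE P g ≃* twE P g', IsoIn Sys e' ∧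
      ∀ y : twE P g, ((e' y : twE P g') : G) = d * (y : G) * d⁻¹ := by
  have hle : twE P g ≤ P := fun y hy => (mem_twE.1 hy).1
  have hmem := Sys.conj_mem hle hd
  have hr : (conjHom (twE P g) d).range = twE P g' := by
    rw [← he, ← S.toBase.twE_conj S.not_comm (g := g) hd]
    ext y
    constructor
    · rintro ⟨w, rfl⟩; exact ⟨w, w.2, rfl⟩
    · rintro ⟨w, hw, rfl⟩; exact ⟨⟨w, hw⟩, rfl⟩
  exact ⟨homIso hmem hr, isoIn_homIso hmem hr, fun y => rfl⟩

/-- An involution outside is conjugate into the coset of an involutory representative. -/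
theorem exists_rep_iso {g : G} (hg : g ∈ P) (hgR : g ∉ twR a t) (hg2 : g * g = 1) :
    ∃ q < 2, a ^ q * x * (a ^ q * x) = 1 ∧ ∃ d ∈ P, d * g * d⁻¹ ∈ twE P (a ^ q * x) ∧
      ∃ e' : twE P g ≃* twE P (a ^ q * x), IsoIn Sys e' ∧
        ∀ y : twE P g, ((e' y : twE P (a ^ q * x)) : G) = d * (y : G) * d⁻¹ := by
  have B₀ := S.toBase
  obtain ⟨d, hd, q, hq, hv⟩ := S.out_rep hg hgR
  have hg'P : d * g * d⁻¹ ∈ P := mul_mem (mul_mem hd hg) (inv_mem hd)
  have hg'R : d * g * d⁻¹ ∉ twR a t := fun h => by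
    have hh := (Subgroup.mul_mem_cancel_left _ h).1 (S.pair.inV_mem hv)
    exact S.rep_notR q (inv_inv (a ^ q * x) ▸ inv_mem hh)
  have heq := B₀.twE_eq S.not_comm (S.rep_mem q) (S.rep_notR q) hg'P hg'R hv
  refine ⟨q, hq, ?_, d, hd, (B₀.mem_twE_out S.not_comm (S.rep_mem q) (S.rep_notR q)).2 (Or.inr hv),
    S.exists_iso_twE hM hSys hd heq⟩
  refine B₀.twE_sq S.not_comm hg'P hg'R ?_ (heq.symm ▸ B₀.mem_twE_self S.not_comm (S.rep_mem q))
  rw [show d * g * d⁻¹ * (d * g * d⁻¹) = d * (g * g) * d⁻¹ by group, hg2, mul_one, mul_inv_cancel]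

/-- An invariant of the fused centralizers is one of the system. -/
theorem invariant_of_fused {X : Type*} (f : G → X)
    (hconj : ∀ g ∈ P, ∀ y ∈ P, f (g * y * g⁻¹) = f y)
    (hfus : ∀ q < 2, TwFz Sys a t x m q → ∀ β ∈ Sys.autGroup (twE P (a ^ q * x)),
      ∀ y : twE P (a ^ q * x), f ((β y : twE P (a ^ q * x)) : G) = f (y : G))
    {Q : Subgroup G} {φ : Q →* G} (hφ : φ ∈ Sys.Hom Q) (y : Q) : f (φ y) = f (y : G) := by
  have hsat := isSaturated_blockFusion hM hSys
  have B₀ := S.toBase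
  refine invariant_fun B₀.isPGroup hsat f hconj (fun R hR α hα w => ?_) hφ y
  rcases hR with rfl | hR
  · obtain ⟨g, hg, he⟩ := B₀.aut_top_inner S.not_comm hsat hα
    rw [he]
    exact hconj g hg _ w.2
  obtain ⟨g, hg, hgR, hg2, rfl⟩ := B₀.essential_twE S.not_comm hsat hR
  obtain ⟨q, hq, hq2, d, hd, -, e', he', hval⟩ := S.exists_rep_iso hM hSys hg hgR hg2
  have hβ := congr_mem_autGroup he' hα
  have hwP : ∀ v : twE P g, (v : G) ∈ P := fun v => (mem_twE.1 v.2).1
  have key : f ((e' (α w) : twE P (a ^ q * x)) : G) = f ((e' w : twE P (a ^ q * x)) : G) := by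
    have happ : (MulAut.congr e' α) (e' w) = e' (α w) := by simp [MulAut.congr]
    rw [← happ]
    by_cases hFz : TwFz Sys a t x m q
    · exact hfus q hq hFz _ hβ _
    · rcases S.fus_or_induced hsat (S.rep_mem q) (S.rep_notR q) hq2 with h | h
      · obtain ⟨k, hk, he⟩ := h _ hβ
        rw [he]
        exact hconj k hk _ (mem_twE.1 (e' w).2).1
      · exact absurd ⟨hq2, h⟩ hFz
  rw [hval, hval, hconj d hd _ (hwP _), hconj d hd _ (hwP _)] at key
  exact key

/-- The adapted linear character is one of the block. -/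
theorem isFocChar_of_fused {u : ℕ → G} (hu : ∀ q < 2, TwFz Sys a t x m q →
      ∀ lam : G → ℂ, IsHomOn P lam → lam t = -1 → lam (twZeta a x m * t) = -1 →
        lam (twZeta a x m) = 1 → lam (u q) = 1 →
          ∀ β ∈ Sys.autGroup (twE P (a ^ q * x)), ∀ y : twE P (a ^ q * x),
            lam ((β y : twE P (a ^ q * x)) : G) = lam (y : G))
    {lam : G → ℂ} (hl : IsHomOn P lam) (ht : lam t = -1) (hζ : lam (twZeta a x m) = 1)
    (hζt : lam (twZeta a x m * t) = -1) (hu1 : ∀ q < 2, TwFz Sys a t x m q → lam (u q) = 1) :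
    IsFocChar 2 M P c lam where
  map_mul := hl.map_mul
  map_one := hl.map_one
  fusion v g b h1 h2 := by
    have hmem : conjHom (Subgroup.zpowers v) g ∈ Sys.Hom (Subgroup.zpowers v) :=
      (hSys.2 _ _).2 ⟨subpairLE_le h1, g, fun _ => rfl, le_of_rel h2, b, h1, h2⟩
    exact S.invariant_of_fused hM hSys lam (fun k hk y hy => hl.map_conj hk hy)
      (fun q hq hFz => hu q hq hFz lam hl ht hζt hζ (hu1 q hq hFz)) hmem
      ⟨v, Subgroup.mem_zpowers v⟩

include hF

/-- The elements meeting no fused centralizer are only conjugate inside the defect group. -/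
theorem twW_class {u v : G} (hu : twW P a t x m (TwFz Sys a t x m) u) (hv : v ∈ P)
    (h : PairConj F u v) : ∃ d ∈ P, d * u * d⁻¹ = v := by
  classical
  obtain ⟨f, hf⟩ : ∃ f : G → Set G, ∀ y, f y =
      {w | twW P a t x m (TwFz Sys a t x m) y ∧ ∃ d ∈ P, d * y * d⁻¹ = w} := ⟨_, fun _ => rfl⟩
  obtain ⟨φ, hφ, hφv⟩ := exists_hom_of_pairConj hM hSys hF hu.1 hv h
  have hconj : ∀ g ∈ P, ∀ y ∈ P, f (g * y * g⁻¹) = f y := by
    intro g hg y _
    rw [hf, hf]
    ext w
    constructor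
    · rintro ⟨hW, d, hd, rfl⟩
      refine ⟨?_, d * g, mul_mem hd hg, by group⟩
      have := S.twW_conj hW (inv_mem hg)
      rwa [show g⁻¹ * (g * y * g⁻¹) * g⁻¹⁻¹ = y by group] at this
    · rintro ⟨hW, d, hd, rfl⟩
      exact ⟨S.twW_conj hW hg, d * g⁻¹, mul_mem hd (inv_mem hg), by group⟩
  have hfus : ∀ q < 2, TwFz Sys a t x m q → ∀ β ∈ Sys.autGroup (twE P (a ^ q * x)),
      ∀ y : twE P (a ^ q * x), f ((β y : twE P (a ^ q * x)) : G) = f (y : G) := by
    intro q hq hFz β _ y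
    rw [hf, hf]
    ext w
    exact iff_of_false (fun h => S.twW_not_fused hq hFz (β y).2 h.1)
      fun h => S.twW_not_fused hq hFz y.2 h.1
  have he := S.invariant_of_fused hM hSys f hconj hfus hφ ⟨u, Subgroup.mem_zpowers u⟩
  rw [hφv, hf, hf] at he
  have hmem : u ∈ {w | twW P a t x m (TwFz Sys a t x m) u ∧ ∃ d ∈ P, d * u * d⁻¹ = w} :=
    ⟨hu, 1, one_mem P, by group⟩
  rw [← he] at hmem
  obtain ⟨-, d, hd, hdu⟩ := hmem
  exact ⟨d⁻¹, inv_mem hd, by rw [← hdu]; group⟩

/-- The others are conjugate to one of the four central elements. -/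
theorem exists_pairConj_inV {u : G} (hu : u ∈ P) (hW : ¬ twW P a t x m (TwFz Sys a t x m) u) :
    ∃ v, InV a t m v ∧ PairConj F u v := by
  rcases S.not_twW hu hW with h | ⟨q, hq, hFz, d, hd, hy, hyR⟩
  · exact ⟨u, h, pairConj_equiv.refl u⟩
  obtain ⟨w, hw⟩ := S.exists_fusedData hM hSys
  obtain ⟨β, hβ, hV⟩ := (hw q hq hFz).2.2 ⟨_, hy⟩ hyR
  refine ⟨_, hV, pairConj_equiv.trans (hF.conj_mem hM hSys.1.1.1 hd hu) ?_⟩
  exact pairConj_of_hom hM hSys hF ((mem_autGroup (fun y hy => (mem_twE.1 hy).1)).1 hβ) ⟨_, hy⟩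

/-- The blocks at those elements have rank one. -/
theorem blockRank_twW {u : G} (hu : twW P a t x m (TwFz Sys a t x m) u) :
    blockRank 2 (F u) = 1 := by
  have B₀ := S.toBase
  have hna := S.not_comm
  have hsat := isSaturated_blockFusion hM hSys
  have hodd : ∀ n : ℕ, ¬ 2 ∣ n → Odd n := fun n h => by
    rw [← Nat.not_even_iff_odd, even_iff_two_dvd]; exact h
  refine blockRank_one_of_aut hM hSys hF hu.1 (fun v hv h => S.twW_class hM hSys hF hu hv h) ?_ ?_
  · intro y hy w hw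
    by_cases hR : u ∈ twR a t
    · have hin : ∀ y ∈ twE P u, y ∈ twR a t := fun y hy => by
        by_contra hyR
        exact hu.2.1 ((B₀.comm_out hna (mem_twE.1 hy).1 hyR hR).1 (mem_twE.1 hy).2)
      exact (S.pair.R_comm (hin y hy) (hin w hw)).eq
    · exact (B₀.twE_comm hna hu.1 hR hy hw).eq
  intro α hα n hn hαn
  by_cases hR : u ∈ twR a t
  · have hmem : ∀ y, y ∈ twE P u ↔ y ∈ twR a t := fun y => by
      refine ⟨fun hy => ?_, fun hy => mem_twE.2 ⟨B₀.R_le hy, S.pair.R_comm hy hR⟩⟩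
      by_contra hyR
      exact hu.2.1 ((B₀.comm_out hna (mem_twE.1 hy).1 hyR hR).1 (mem_twE.1 hy).2)
    exact S.pair.aut_eq_one hmem α hαn (hodd n hn)
  by_cases h2 : u * u = 1
  swap
  · obtain ⟨k, hk⟩ := B₀.aut_twE_pgroup hna hu.1 hR h2 (Sys.autGroup (twE P u)) ⟨α, hα⟩
    have hk' : α ^ 2 ^ k = 1 := congrArg Subtype.val hk
    have hg := (pow_gcd_eq_one (a := α)).2 ⟨hk', hαn⟩
    rwa [coprime_two_pow (hodd n hn) k, pow_one] at hg
  obtain ⟨q, hq, hq2, d, hd, hdE, e', he', -⟩ := S.exists_rep_iso hM hSys hu.1 hR h2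
  have hFz : ¬ TwFz Sys a t x m q := fun hFz =>
    S.twW_not_fused hq hFz hdE (S.twW_conj hu hd)
  obtain ⟨k, hk⟩ := isPGroup_autInducedBy (P := twE P (a ^ q * x)) B₀.isPGroup
    ⟨MulAut.congr e' α, mem_autInducedBy.2 (((S.fus_or_induced hsat (S.rep_mem q) (S.rep_notR q)
      hq2).resolve_right fun h => hFz ⟨hq2, h⟩) _ (congr_mem_autGroup he' hα))⟩
  have hk' : (MulAut.congr e' α) ^ 2 ^ k = 1 := congrArg Subtype.val hk
  rw [← map_pow, MulEquiv.map_eq_one_iff] at hk'
  have hg := (pow_gcd_eq_one (a := α)).2 ⟨hk', hαn⟩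
  rwa [coprime_two_pow (hodd n hn) k, pow_one] at hg

end TwNorm

end Cfsg.Lib.Block
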