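import Cfsg.Agent.Lib.Block.TwistRank
import Cfsg.Agent.Lib.Block.NilpotentRank
import Cfsg.Agent.Lib.Block.HomocyclicTwo
import Cfsg.Agent.Lib.Block.TameApps
import Cfsg.Agent.Lib.Block.CentralQuotientForm
import Cfsg.Agent.Lib.TwoGroup.Models
import Cfsg.Agent.S4528

/-!
# At most three modular irreducibles with twisted defect group

The quotient by an odd central involution has dihedral or semidihedral defect group, which bounds
the ranks at these involutions.
-/

set_option autoImplicit false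
set_option linter.unusedSectionVars false
set_option linter.style.haveILetI false
set_option maxHeartbeats 1000000

namespace Cfsg.Lib.Block

open Cfsg Cfsg.Lib.FusionSys

universe u

noncomputable local instance (priority := high) fintypeSubgroupTwistMain {A : Type u} [Group A]
    [Fintype A] (H : Subgroup A) : Fintype H := Fintype.ofFinite H

local notation "C[" Q "]" => Subgroup.centralizer (SetLike.coe Q)

variable {G : Type u} [Group G] [Fintype G] [Fact (Nat.Prime 2)] {M : Ideal AlgInt}
  {B : Set (IrrCharacter G)} {P : Subgroup G} {a t x : G} {m e : ℕ}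

theorem mem_zpowers_of_sq {H : Type*} [Group H] {T g : H} (hT : T * T = 1)
    (hg : g ∈ Subgroup.zpowers T) : g = 1 ∨ g = T := by
  obtain ⟨i, rfl⟩ := Subgroup.mem_zpowers_iff.1 hg
  rcases Int.even_or_odd i with ⟨j, rfl⟩ | ⟨j, rfl⟩
  · exact Or.inl (by rw [← two_mul, zpow_mul, zpow_two, hT, one_zpow])
  · exact Or.inr (by rw [zpow_add, zpow_mul, zpow_two, hT, one_zpow, one_mul, zpow_one])

/-- The quotient by a central involution with dihedral image. -/
theorem deflSet_dihedral (hM : IsPModular 2 M) (hB : IsPBlock M B)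
    (hD : IsDefectGroup 2 M B P) (hm : 2 ≤ m) (hcard : Nat.card P = 2 ^ (m + 2)) {T : G}
    (hTP : T ∈ P) (hTc : T ∈ Subgroup.center G) (hT : orderOf T = 2)
    [(Subgroup.zpowers T).Normal] {r y : G} (hr : r ∈ P) (hy : y ∈ P)
    (hyy : y * y ∈ Subgroup.zpowers T) (hinv : y * r * y⁻¹ * r ∈ Subgroup.zpowers T)
    (hord : orderOf (r : G ⧸ Subgroup.zpowers T) = 2 ^ m)
    (hnot : (y : G ⧸ Subgroup.zpowers T) ∉ Subgroup.zpowers (r : G ⧸ Subgroup.zpowers T)) :
    Nat.card (deflSet (Subgroup.zpowers T) B) = 2 ^ (m - 1) + 3 := by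
  haveI := Fintype.ofFinite (G ⧸ Subgroup.zpowers T)
  have hNP : Subgroup.zpowers T ≤ P := Subgroup.zpowers_le.2 hTP
  have hNc : Subgroup.zpowers T ≤ Subgroup.center G := Subgroup.zpowers_le.2 hTc
  have hNp : IsPGroup 2 (Subgroup.zpowers T) :=
    IsPGroup.of_card (n := 1) (by rw [Nat.card_zpowers, hT, pow_one])
  obtain ⟨hBb, hdef⟩ := deflSet_central hM hNp hNc hB
  have hc2 := card_map_mk_mul (p := 2) (P := P) hNP
  rw [Nat.card_zpowers, hT, hcard] at hc2
  have hc : Nat.card (P.map (QuotientGroup.mk' (Subgroup.zpowers T))) = 2 ^ (m + 1) := by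
    rw [pow_succ' 2 (m + 1)] at hc2
    omega
  have ht : (y : G ⧸ Subgroup.zpowers T) * y = 1 := by
    rw [← QuotientGroup.mk_mul, QuotientGroup.eq_one_iff]
    exact hyy
  have hi : (y : G ⧸ Subgroup.zpowers T) * r * (y : G ⧸ Subgroup.zpowers T)⁻¹ =
      (r : G ⧸ Subgroup.zpowers T)⁻¹ := by
    rw [eq_inv_iff_mul_eq_one, ← QuotientGroup.mk_inv, ← QuotientGroup.mk_mul,
      ← QuotientGroup.mk_mul, ← QuotientGroup.mk_mul, QuotientGroup.eq_one_iff]
    exact hinv
  obtain ⟨ee⟩ := Cfsg.Lib.TwoGroup.equiv_dihedral ht hi hnot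
  rw [hord] at ee
  have hle : Subgroup.closure ({(r : G ⧸ Subgroup.zpowers T), (y : G ⧸ Subgroup.zpowers T)} :
      Set (G ⧸ Subgroup.zpowers T)) ≤ P.map (QuotientGroup.mk' (Subgroup.zpowers T)) := by
    rw [Subgroup.closure_le]
    rintro v (rfl | rfl)
    exacts [⟨r, hr, rfl⟩, ⟨y, hy, rfl⟩]
  have heq := Subgroup.eq_of_le_of_card_ge hle (by
    rw [hc, Nat.card_congr ee.toEquiv, DihedralGroup.nat_card, pow_succ'])
  have key := Cfsg.Agent.S4528.result M hM (deflSet (Subgroup.zpowers T) B) hBb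
    (P.map (QuotientGroup.mk' (Subgroup.zpowers T))) (hdef P hD) (m + 1) (by omega)
    (by rw [← heq]; exact ⟨ee⟩)
  rw [key.1, show m + 1 - 2 = m - 1 by omega]

namespace TwNorm

variable (S : TwNorm P a t x m e)

include S

theorem oddInv_facts {T : G} (hT : T = t ∨ T = twZeta a x m * t) :
    InV a t m T ∧ T ∈ P ∧ T * T = 1 ∧ orderOf T = 2 ∧ T ≠ twZeta a x m := by
  have B₀ := S.toBase
  have hV : InV a t m T := by
    rcases hT with rfl | rfl
    exacts [S.pair.inV_t, S.pair.inV_mul B₀.zeta_inV S.pair.inV_t]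
  have hne : T ≠ 1 := by
    rcases hT with rfl | rfl
    · exact S.pair.t_ne
    · exact fun h => S.zeta_ne_t (by rw [eq_inv_of_mul_eq_one_left h, S.pair.t_inv])
  refine ⟨hV, B₀.R_le (S.pair.inV_mem hV), S.pair.inV_sq hV,
    orderOf_eq_prime (by rw [sq]; exact S.pair.inV_sq hV) hne, ?_⟩
  rcases hT with rfl | rfl
  · exact S.zeta_ne_t.symm
  · exact fun h => S.pair.t_ne (mul_eq_left.1 h)

theorem zeta_of_three (hm : 3 ≤ m) : twZeta a x m = twZ a m := by
  rw [twZeta, ← zpow_natCast, S.toBase.c_pow, if_pos, mul_one]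
  push_cast
  exact Int.even_pow.2 ⟨even_two, by omega⟩

theorem zeta_of_two (hm : m = 2) : twZeta a x m = twZ a m * t ^ e := by
  rw [twZeta, S.c_eq, hm, Nat.sub_self, pow_zero, pow_one]

open Classical in
/-- The characters of the quotient by an odd central involution. -/
theorem card_deflSet_le (hM : IsPModular 2 M) (hB : IsPBlock M B) (hD : IsDefectGroup 2 M B P)
    {T : G} (hT : T = t ∨ T = twZeta a x m * t) (hTc : T ∈ Subgroup.center G)
    [(Subgroup.zpowers T).Normal] :
    Nat.card (deflSet (Subgroup.zpowers T) B) ≤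
      2 ^ (m - 1) + 3 + if T ≠ t ∧ e = 1 then 1 else 0 := by
  classical
  haveI := Fintype.ofFinite (G ⧸ Subgroup.zpowers T)
  have B₀ := S.toBase
  have hm := S.pair.two_le
  obtain ⟨hTV, hTP, hT2, hTo, -⟩ := S.oddInv_facts hT
  have hmk : ∀ g : G, (g : G ⧸ Subgroup.zpowers T) = 1 ↔ g = 1 ∨ g = T := fun g => by
    rw [QuotientGroup.eq_one_iff]
    refine ⟨mem_zpowers_of_sq hT2, fun h => ?_⟩
    rcases h with rfl | rfl
    exacts [one_mem _, Subgroup.mem_zpowers _]
  have hxnot : (x : G ⧸ Subgroup.zpowers T) ∉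
      Subgroup.zpowers (a : G ⧸ Subgroup.zpowers T) := by
    rintro ⟨i, hi⟩
    simp only at hi
    rw [← QuotientGroup.mk_zpow, QuotientGroup.eq] at hi
    have h1 : (a ^ i)⁻¹ * x ∈ twR a t := by
      rcases mem_zpowers_of_sq hT2 hi with h | h <;> rw [h]
      exacts [one_mem _, S.pair.inV_mem hTV]
    exact S.xnot ((Subgroup.mul_mem_cancel_left _ (inv_mem (zpow_mem S.pair.a_mem i))).1 h1)
  have hone : x * x ∈ Subgroup.zpowers T := by rw [S.xsq]; exact one_mem _
  have hord : T ≠ twZ a m → orderOf (a : G ⧸ Subgroup.zpowers T) = 2 ^ m := fun hne => by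
    obtain ⟨k, hk⟩ : ∃ k, m = k + 1 := ⟨m - 1, by omega⟩
    rw [hk]
    refine orderOf_eq_prime_pow (p := 2) ?_ ?_
    · rw [← QuotientGroup.mk_pow, hmk, not_or, ← show twZ a m = a ^ 2 ^ k by
        rw [twZ, show m - 1 = k by omega]]
      exact ⟨S.pair.z_ne, hne.symm⟩
    · rw [← QuotientGroup.mk_pow, hmk, ← hk, ← S.pair.ordA, pow_orderOf_eq_one]
      exact Or.inl rfl
  have hinvA : x * a * x⁻¹ * a = t ^ e := by
    rw [S.conjA, mul_assoc, ← (S.pair.atc.pow_right e).eq, inv_mul_cancel_left]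
  by_cases hcase : T = t ∨ e = 0
  · have hne : T ≠ twZ a m := by
      rcases hT with rfl | rfl
      · exact S.pair.z_ne_t.symm
      · rcases hcase with h | h
        · exact absurd (mul_eq_right.1 h) (B₀.zeta_ne S.not_comm)
        · have : twZeta a x m = twZ a m := by
            rcases Nat.lt_or_ge m 3 with h3 | h3
            · rw [S.zeta_of_two (by omega), h, pow_zero, mul_one]
            · exact S.zeta_of_three h3
          rw [this]
          exact fun h' => S.pair.t_ne (mul_eq_left.1 h')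
    have hinv : x * a * x⁻¹ * a ∈ Subgroup.zpowers T := by
      rw [hinvA]
      rcases hcase with h | h
      · exact h ▸ pow_mem (Subgroup.mem_zpowers T) e
      · rw [h, pow_zero]; exact one_mem _
    rw [deflSet_dihedral hM hB hD hm S.card hTP hTc hTo S.amem S.xmem hone hinv (hord hne) hxnot]
    exact Nat.le_add_right _ _
  rw [not_or] at hcase
  have he1 : e = 1 := by have := S.he; omega
  have hTz : T = twZeta a x m * t := hT.resolve_left hcase.1
  rw [if_pos ⟨hcase.1, he1⟩]
  rcases Nat.lt_or_ge m 3 with h3 | h3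
  · -- the rotation is replaced by its product with the reflection
    obtain rfl : m = 2 := by omega
    have hTz' : T = twZ a 2 := by
      rw [hTz, S.zeta_of_two rfl, he1, pow_one, mul_assoc, S.pair.t_sq, mul_one]
    have hxax : x * a * x = a⁻¹ * t := by
      have h := S.conjA
      rwa [S.x_inv, he1, pow_one] at h
    have hsq : a * x * (a * x) = t := by
      rw [show a * x * (a * x) = a * (x * a * x) by group, hxax, mul_inv_cancel_left]
    have hconj : x * (a * x) * x⁻¹ * (a * x) ∈ Subgroup.zpowers T := by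
      rw [hTz', show x * (a * x) * x⁻¹ * (a * x) = x * a * (x * x⁻¹) * a * x by group,
        mul_inv_cancel, mul_one,
        show x * a * a * x = x * a * (x * x) * a * x by rw [S.xsq, mul_one],
        show x * a * (x * x) * a * x = (x * a * x) * (x * a * x) by group, hxax,
        (S.pair.atc.inv_left).symm.mul_mul_mul_comm, S.pair.t_sq, mul_one, twZ,
        show (2 : ℕ) ^ (2 - 1) = 2 by norm_num, show a⁻¹ * a⁻¹ = (a ^ 2)⁻¹ by group]
      exact inv_mem (Subgroup.mem_zpowers _)
    have ho : orderOf ((a * x : G) : G ⧸ Subgroup.zpowers T) = 2 ^ 2 := by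
      refine orderOf_eq_prime_pow (p := 2) (n := 1) ?_ ?_
      · rw [pow_one, sq, ← QuotientGroup.mk_mul, hsq, hmk, not_or]
        exact ⟨S.pair.t_ne, fun h => S.pair.z_ne_t (by rw [h, hTz'])⟩
      · rw [show (2 : ℕ) ^ (1 + 1) = 2 * 2 by norm_num, pow_mul, sq
          ((a * x : G) : G ⧸ Subgroup.zpowers T), ← QuotientGroup.mk_mul, hsq, sq,
          ← QuotientGroup.mk_mul, S.pair.t_sq, QuotientGroup.mk_one]
    have hnot : (x : G ⧸ Subgroup.zpowers T) ∉
        Subgroup.zpowers ((a * x : G) : G ⧸ Subgroup.zpowers T) := by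
      rintro ⟨i, hi⟩
      simp only at hi
      rw [← QuotientGroup.mk_zpow, QuotientGroup.eq] at hi
      have hTR : (1 : G) ∈ twR a t ∧ T ∈ twR a t := ⟨one_mem _, S.pair.inV_mem hTV⟩
      have hpow : (a * x) ^ (2 : ℤ) = t := by rw [zpow_two, hsq]
      rcases Int.even_or_odd i with ⟨j, rfl⟩ | ⟨j, rfl⟩
      · rw [← two_mul, zpow_mul, hpow] at hi
        refine S.xnot ((Subgroup.mul_mem_cancel_left _ (inv_mem (zpow_mem S.pair.t_mem j))).1 ?_)
        rcases mem_zpowers_of_sq hT2 hi with h | h <;> rw [h]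
        exacts [hTR.1, hTR.2]
      · rw [zpow_add_one, zpow_mul, hpow, mul_inv_rev, mul_inv_rev, S.x_inv, mul_assoc,
          mul_assoc] at hi
        have hv : a⁻¹ * t ∈ twR a t := mul_mem (inv_mem S.pair.a_mem) S.pair.t_mem
        have e1 : x * (a⁻¹ * ((t ^ j)⁻¹ * x)) = x * (a⁻¹ * (t ^ j)⁻¹) * x⁻¹ := by
          rw [S.x_inv]; group
        rw [e1] at hi
        -- the exponent of the rotation is odd
        have h2 : a⁻¹ * (t ^ j)⁻¹ ∈ ({(1 : G), T} : Set G) := by
          have hxT : x * T * x⁻¹ = T := by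
            rw [(B₀.V_comm S.xmem hTV).eq, mul_inv_cancel_right]
          rcases mem_zpowers_of_sq hT2 hi with h | h
          · exact Or.inl (conj_eq_one_iff.1 h)
          · exact Or.inr ((MulAut.conj x).injective (h.trans hxT.symm))
        have h4 : InV a t 2 (a⁻¹ * (t ^ j)⁻¹) := by
          rcases h2 with h | h
          · rw [h]; exact S.pair.inV_one
          · rw [Set.mem_singleton_iff.1 h]; exact hTV
        have h5 : InV a t 2 a⁻¹ := by
          have htj : InV a t 2 (t ^ j) := by
            rw [S.pair.inV_zpow S.pair.inV_t]; split_ifs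
            exacts [S.pair.inV_one, S.pair.inV_t]
          have := S.pair.inV_mul h4 htj
          rwa [inv_mul_cancel_right] at this
        have h6 := S.pair.inV_sq h5
        rw [← mul_inv_rev, inv_eq_one, ← sq, ← orderOf_dvd_iff_pow_eq_one, S.pair.ordA] at h6
        norm_num at h6
    rw [deflSet_dihedral hM hB hD le_rfl S.card hTP hTc hTo (mul_mem S.amem S.xmem) S.xmem hone
      hconj ho hnot]
    exact Nat.le_add_right _ _
  · -- semidihedral
    have hTz' : T = twZ a m * t := by rw [hTz, S.zeta_of_three h3]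
    have hne : T ≠ twZ a m := fun h => S.pair.t_ne (mul_eq_left.1 (hTz'.symm.trans h))
    have hNP : Subgroup.zpowers T ≤ P := Subgroup.zpowers_le.2 hTP
    have hNc : Subgroup.zpowers T ≤ Subgroup.center G := Subgroup.zpowers_le.2 hTc
    have hNp : IsPGroup 2 (Subgroup.zpowers T) :=
      IsPGroup.of_card (n := 1) (by rw [Nat.card_zpowers, hTo, pow_one])
    obtain ⟨hBb, hdef⟩ := deflSet_central hM hNp hNc hB
    obtain ⟨h, hh⟩ : ∃ h, h = 2 ^ (m - 1) := ⟨_, rfl⟩
    have h2m : 2 ^ m = 2 * h := by rw [hh, ← pow_succ']; congr 1; omega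
    have hh4 : 4 ≤ h := hh ▸ le_trans (by norm_num : 4 ≤ 2 ^ 2)
      (Nat.pow_le_pow_right two_pos (by omega))
    have hxx : (x : G ⧸ Subgroup.zpowers T) * x = 1 := by
      rw [← QuotientGroup.mk_mul, S.xsq, QuotientGroup.mk_one]
    have hTG : TameGrp (P.map (QuotientGroup.mk' (Subgroup.zpowers T)))
        (a : G ⧸ Subgroup.zpowers T) (x : G ⧸ Subgroup.zpowers T) h (h - 1) := by
      refine ⟨⟨m - 1, by omega, hh⟩, ⟨a, S.amem, rfl⟩, ⟨x, S.xmem, rfl⟩,
        (hord hne).trans h2m, ?_, hxnot, ?_, Or.inr ⟨rfl, hh4, hxx⟩⟩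
      · have hc2 := card_map_mk_mul (p := 2) (P := P) hNP
        rw [Nat.card_zpowers, hTo, S.card, pow_succ' 2 (m + 1), pow_succ' 2 m, h2m] at hc2
        omega
      · rw [← QuotientGroup.mk_inv, ← QuotientGroup.mk_mul, ← QuotientGroup.mk_mul,
          ← QuotientGroup.mk_pow, S.conjA, he1, pow_one, QuotientGroup.eq]
        have hah : a ^ (h - 1) * a = twZ a m := by
          rw [← pow_succ, twZ, ← hh]; congr 1; omega
        rw [show (a⁻¹ * t)⁻¹ = t * a by rw [mul_inv_rev, inv_inv, S.pair.t_inv],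
          mul_assoc, ← ((Commute.refl a).pow_left (h - 1)).eq, hah, ← S.pair.zt_comm.eq, ← hTz']
        exact Subgroup.mem_zpowers T
    obtain ⟨-, -, -, -, -, -, hSD⟩ := tame_invariants hM hBb (hdef P hD) hTG (m := m - 1) hh
    obtain ⟨hk, -, -⟩ := hSD hxx
    rw [← hh]
    rcases hk with hk | hk <;> omega

open Classical in
/-- The rank at an odd central involution. -/
theorem rank_oddInv_le (hM : IsPModular 2 M) {c : Set (IrrCharacter C[P])} {Sys : FusionSystem P}
    (hSys : IsBlockFusionSystemOn 2 M B P c Sys)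
    {F : ∀ u : G, Set (IrrCharacter C[Subgroup.zpowers u])} (hF : PairFam 2 M P c F) {T : G}
    (hT : T = t ∨ T = twZeta a x m * t) :
    blockRank 2 (F T) ≤ 1 + (if T ≠ t ∧ e = 1 then 1 else 0) +
      ((Finset.range 2).filter fun q => a ^ q * x * (a ^ q * x) = 1 ∧
        Fus Sys (a ^ q * x) T).card := by
  obtain ⟨P', c', a', t', x', Sys', ha, ht, hx, hmem, hSys', S', htr⟩ :=
    S.exists_local hM hSys hF hT
  haveI := Fintype.ofFinite C[Subgroup.zpowers T]
  have hcoe : ((twZeta a' x' m : C[Subgroup.zpowers T]) : G) = twZeta a x m := by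
    simp [twZeta, twZ, twCm, ha, hx]
  obtain ⟨T', hT'⟩ : ∃ T' : C[Subgroup.zpowers T], (T' : G) = T := by
    rcases hT with rfl | rfl
    exacts [⟨t', ht⟩, ⟨twZeta a' x' m * t', by rw [Subgroup.coe_mul, hcoe, ht]⟩]
  have hT'cases : T' = t' ∨ T' = twZeta a' x' m * t' := by
    rcases hT with h | h
    · exact Or.inl (Subtype.ext (hT'.trans (h.trans ht.symm)))
    · exact Or.inr (Subtype.ext (hT'.trans (h.trans (by rw [Subgroup.coe_mul, hcoe, ht]))))
  have hcen : T' ∈ Subgroup.center C[Subgroup.zpowers T] := Subgroup.mem_center_iff.2 fun g =>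
    Subtype.ext (by
      rw [Subgroup.coe_mul, Subgroup.coe_mul, hT']
      exact (Subgroup.mem_centralizer_iff.1 g.2 T (Subgroup.mem_zpowers T)).symm)
  haveI : (Subgroup.zpowers T').Normal := ⟨fun n hn g => by
    rwa [Subgroup.mem_center_iff.1 (Subgroup.zpowers_le.2 hcen hn) g, mul_inv_cancel_right]⟩
  have h1 := S'.central_rank_le hM hSys' hT'cases hcen
  have h2 := S'.card_deflSet_le hM hSys'.1.1.2.1 (isDefectGroup_of_maximal hM hSys'.1) hT'cases hcen
  have hiff : T' = t' ↔ T = t := ⟨fun h => hT'.symm.trans ((congrArg Subtype.val h).trans ht),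
    fun h => Subtype.ext (hT'.trans (h.trans ht.symm))⟩
  simp only [ne_eq, hiff] at h2
  have hsub : ((Finset.range 2).filter fun q => TwFz Sys' a' t' x' m q).card ≤
      ((Finset.range 2).filter fun q => a ^ q * x * (a ^ q * x) = 1 ∧
        Fus Sys (a ^ q * x) T).card := Finset.card_le_card fun q hq => by
    obtain ⟨hq1, hq2⟩ := Finset.mem_filter.1 hq
    exact Finset.mem_filter.2 ⟨hq1, htr q hq2⟩
  have hsplit := Finset.card_filter_add_card_filter_not (s := Finset.range 2)
    (fun q => TwFz Sys' a' t' x' m q)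
  rw [Finset.card_range] at hsplit
  simp only [ne_eq]
  omega

open Classical in
/-- The bound with a normalized twisted defect group. -/
theorem blockRank_le_three (hM : IsPModular 2 M) (hB : IsPBlock M B)
    (hD : IsDefectGroup 2 M B P) : blockRank 2 B ≤ 3 := by
  obtain ⟨c, hmax⟩ := exists_pair_at_defect hM hB hD
  obtain ⟨Sys, hSys⟩ := exists_blockFusion hM hmax
  obtain ⟨F, hF⟩ := exists_pairFam (p := 2) hM hmax.1.1
  have h0 := S.rank_succ_le hM hSys hF
  have ht := S.rank_oddInv_le hM hSys hF (Or.inl rfl : t = t ∨ t = twZeta a x m * t)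
  have hz := S.rank_oddInv_le hM hSys hF
    (Or.inr rfl : twZeta a x m * t = t ∨ twZeta a x m * t = twZeta a x m * t)
  rw [if_neg (fun h => h.1 rfl)] at ht
  obtain ⟨A, hA⟩ : ∃ A, A = (Finset.range 2).filter fun q => a ^ q * x * (a ^ q * x) = 1 ∧
      Fus Sys (a ^ q * x) t := ⟨_, rfl⟩
  obtain ⟨A', hA'⟩ : ∃ A', A' = (Finset.range 2).filter fun q => a ^ q * x * (a ^ q * x) = 1 ∧
      Fus Sys (a ^ q * x) (twZeta a x m * t) := ⟨_, rfl⟩
  rw [← hA] at ht
  rw [← hA'] at hz
  have hdisj : Disjoint A A' := by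
    rw [Finset.disjoint_left]
    intro q hq hq'
    rw [hA, Finset.mem_filter] at hq
    rw [hA', Finset.mem_filter] at hq'
    exact S.fus_exclusive (isSaturated_blockFusion hM hSys) (S.rep_mem q) (S.rep_notR q) hq.2.1
      ⟨hq.2.2, hq'.2.2⟩
  have hsum : A.card + A'.card ≤
      ((Finset.range 2).filter fun q => a ^ q * x * (a ^ q * x) = 1).card := by
    rw [← Finset.card_union_of_disjoint hdisj]
    refine Finset.card_le_card fun q hq => ?_
    rcases Finset.mem_union.1 hq with h | h
    · rw [hA, Finset.mem_filter] at h; exact Finset.mem_filter.2 ⟨h.1, h.2.1⟩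
    · rw [hA', Finset.mem_filter] at h; exact Finset.mem_filter.2 ⟨h.1, h.2.1⟩
  have hinv : ((Finset.range 2).filter fun q => a ^ q * x * (a ^ q * x) = 1).card + e ≤ 2 := by
    rcases Nat.le_one_iff_eq_zero_or_eq_one.1 S.he with he | he
    · have := Finset.card_filter_le (Finset.range 2) (fun q => a ^ q * x * (a ^ q * x) = 1)
      rw [Finset.card_range] at this
      omega
    · have hne : a ^ 1 * x * (a ^ 1 * x) ≠ 1 := by
        have hc := S.conjA
        rw [S.x_inv, he, pow_one] at hc
        rw [pow_one, show a * x * (a * x) = a * (x * a * x) by group, hc, mul_inv_cancel_left]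
        exact S.pair.t_ne
      have hsub : ((Finset.range 2).filter fun q => a ^ q * x * (a ^ q * x) = 1) ⊆ {0} := by
        intro q hq
        rw [Finset.mem_filter, Finset.mem_range] at hq
        obtain rfl | rfl : q = 0 ∨ q = 1 := by omega
        · exact Finset.mem_singleton_self 0
        · exact absurd hq.2 hne
      have := Finset.card_le_card hsub
      rw [Finset.card_singleton] at this
      omega
  split_ifs at hz with hc
  · obtain ⟨-, rfl⟩ := hc
    omega
  · omega

end TwNorm

/-- The bound with any twisted defect group. -/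
theorem TwBase.blockRank_le_three (S : TwBase P a t x m) (hM : IsPModular 2 M) (hB : IsPBlock M B)
    (hD : IsDefectGroup 2 M B P) : blockRank 2 B ≤ 3 := by
  classical
  by_cases hout : ∃ g ∈ P, g ∉ twR a t ∧ g * g = 1
  · obtain ⟨g, hg, hgR, hg2⟩ := hout
    obtain ⟨t', e', S'⟩ := S.exists_norm hg hgR hg2
    exact S'.blockRank_le_three hM hB hD
  by_cases hab : Commute a x
  · have hPab : ∀ y ∈ P, ∀ w ∈ P, y * w = w * y := by
      have hxR : ∀ r ∈ twR a t, Commute x r := fun r hr => by
        obtain ⟨i, hi⟩ := S.pair.mem_twR.1 hr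
        rcases hi with rfl | rfl
        exacts [hab.symm.zpow_right i, (hab.symm.zpow_right i).mul_right S.xtc]
      intro y hy w hw
      rcases S.mem_cases hy with h | ⟨r, hr, rfl⟩ <;>
        rcases S.mem_cases hw with h' | ⟨r', hr', rfl⟩
      · exact (S.pair.R_comm h h').eq
      · exact ((S.pair.R_comm h hr').mul_right (hxR y h).symm).eq
      · exact ((S.pair.R_comm hr h').mul_left (hxR w h')).eq
      · exact (((S.pair.R_comm hr hr').mul_right (hxR r hr).symm).mul_left
          ((hxR r' hr').mul_right (Commute.refl x))).eq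
    have hD1 : P ≠ ⊥ := fun h => S.pair.t_ne (Subgroup.mem_bot.1 (h ▸ S.tmem))
    have hinj : Nat.card {y : P // y ^ 2 = 1} ≤ 4 := by
      rw [← S.pair.card_twV]
      refine Nat.card_le_card_of_injective
        (fun y => (⟨(y.1 : G), ?_⟩ : twV S.pair)) fun y y' h => Subtype.ext (Subtype.ext
          (congrArg Subtype.val h : _))
      have hy : (y.1 : G) * (y.1 : G) = 1 := by
        rw [← sq]; simpa using congrArg Subtype.val y.2
      refine (S.pair.sq_one_iff ?_).1 hy
      by_contra hR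
      exact hout ⟨_, y.1.2, hR, hy⟩
    obtain ⟨n, hn, hl, -⟩ := three_involutions_invariants hM hB hD hPab hD1 hinj
    omega
  · obtain ⟨c, hmax⟩ := exists_pair_at_defect hM hB hD
    obtain ⟨Sys, hSys⟩ := exists_blockFusion hM hmax
    have hsat := isSaturated_blockFusion hM hSys
    have hle : Sys ≤ innerFusionSystem P := le_of_autGroup_le S.isPGroup hsat _ fun Q hQ α hα => by
      rcases hQ with rfl | hQ
      · obtain ⟨g, hg, he⟩ := S.aut_top_inner hab hsat hα
        exact (mem_autGroup le_rfl).2 ⟨le_rfl, g, hg, he⟩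
      · obtain ⟨g, hg, hgR, hg2, -⟩ := S.essential_twE hab hsat hQ
        exact absurd ⟨g, hg, hgR, hg2⟩ hout
    have hnil : IsNilpotentBlock 2 M B := (nilpotent_iff_inner hM hSys).2 fun Q =>
      Set.Subset.antisymm (hle Q) (innerFusionSystem_le Sys Q)
    rw [(nilpotent_blockRank_one hM hnil hD).1]
    norm_num

end Cfsg.Lib.Block
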