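import Cfsg.Agent.Lib.Block.StarAbelian
import Cfsg.Agent.Lib.Block.StarValues
import Cfsg.Agent.Lib.Block.PairCount
import Cfsg.Agent.Lib.Block.InflateRank
import Cfsg.Agent.Lib.Block.CentralDefect

/-!
# Ranks weighted by a linear character, and the quotient by a central involution

The trace of a star product on a block is the sum of the ranks at representatives of the pairs,
weighted by the linear character. If the character does not fix any member of the block this sum
vanishes; if it is `-1` at a central involution the block has twice as many characters as its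
deflation.
-/

set_option autoImplicit false
set_option linter.unusedSectionVars false
set_option linter.style.haveILetI false
set_option maxHeartbeats 1000000

namespace Cfsg.Lib.Block

open Cfsg
open scoped ComplexConjugate

universe u

noncomputable local instance (priority := high) fintypeSubgroupTwistStar {A : Type u} [Group A]
    [Fintype A] (H : Subgroup A) : Fintype H := Fintype.ofFinite H

local notation "C[" Q "]" => Subgroup.centralizer (SetLike.coe Q)

variable {p : ℕ} {M : Ideal AlgInt} (hM : IsPModular p M) {G : Type u} [Group G] [Fintype G]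
  [Fact p.Prime] {B : Set (IrrCharacter G)} {P : Subgroup G} {c : Set (IrrCharacter C[P])}
  {F : ∀ u : G, Set (IrrCharacter C[Subgroup.zpowers u])} {R : Finset G} {lam : G → ℂ}

open Classical in
/-- The centralizers along a class fill the group. -/
theorem sum_card_cen_class (r : G) :
    ∑ u : G, (if IsConj r u then Nat.card C[Subgroup.zpowers u] else 0) = Nat.card G := by
  rw [← Finset.sum_filter, Nat.card_eq_fintype_card (α := G), ← Finset.card_univ,
    Finset.card_eq_sum_card_fiberwise (f := fun g : G => g * r * g⁻¹)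
      (s := (Finset.univ : Finset G)) (t := Finset.univ.filter fun u => IsConj r u)
      fun g _ => Finset.mem_filter.2 ⟨Finset.mem_univ _, isConj_iff.2 ⟨g, rfl⟩⟩]
  refine Finset.sum_congr rfl fun u hu => ?_
  obtain ⟨k, hk⟩ := isConj_iff.1 (Finset.mem_filter.1 hu).2
  rw [← centralizer_singleton_eq, ← Fintype.card_subtype, ← Nat.card_eq_fintype_card]
  refine Nat.card_congr
    { toFun := fun w => ⟨(w : G) * k, ?_⟩
      invFun := fun g => ⟨g.1 * k⁻¹, ?_⟩
      left_inv := fun w => Subtype.ext (mul_inv_cancel_right _ _)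
      right_inv := fun g => Subtype.ext (inv_mul_cancel_right _ _) }
  · have hw := Subgroup.mem_centralizer_singleton_iff.1 w.2
    calc (w : G) * k * r * ((w : G) * k)⁻¹ = (w : G) * (k * r * k⁻¹) * (w : G)⁻¹ := by group
      _ = u := by rw [hk, hw, mul_inv_cancel_right]
  · refine Subgroup.mem_centralizer_singleton_iff.2 ?_
    have hg := g.2
    calc g.1 * k⁻¹ * u = g.1 * k⁻¹ * (k * r * k⁻¹) := by rw [hk]
      _ = g.1 * r * g.1⁻¹ * (g.1 * k⁻¹) := by group
      _ = u * (g.1 * k⁻¹) := by rw [hg]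

variable (hmax : IsMaximalBrauerPair p M B P c) (hlam : IsFocChar p M P c lam)
  (hF : PairFam p M P c F) (hRP : ∀ r ∈ R, r ∈ P) (hcomp : ∀ u ∈ P, ∃ r ∈ R, PairConj F u r)
  (hdist : ∀ r ∈ R, ∀ r' ∈ R, PairConj F r r' → r = r')

include hM hmax hlam hF hRP hcomp hdist

open Classical in
/-- The weighted ranks of the pairs at one element. -/
theorem sum_lamW_rank (x : G) :
    ∑ b ∈ blocksOf M C[Subgroup.zpowers x],
        lamW p M P c lam x ⟨Subgroup.zpowers x, b⟩ * (blockRank p b : ℂ) =
      ∑ r ∈ R.filter (fun r => IsConj r x), lam r * (blockRank p (F r) : ℂ) := by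
  have hPc := hmax.1.1
  obtain ⟨k, hk⟩ : ∃ k : G → G, ∀ r, IsConj r x → k r * r * (k r)⁻¹ = x :=
    ⟨fun r => if h : IsConj r x then (isConj_iff.1 h).choose else 1, fun r h => by
      simp only [dif_pos h]; exact (isConj_iff.1 h).choose_spec⟩
  have hb : ∀ r ∈ R.filter (fun r => IsConj r x), ∃ b : Set (IrrCharacter C[Subgroup.zpowers x]),
      IsPBlock M b ∧
        conjIdx (k r) ⟨Subgroup.zpowers r, F r⟩ = ⟨Subgroup.zpowers x, b⟩ ∧
          blockRank p b = blockRank p (F r) := fun r hr => by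
    obtain ⟨hrR, hrx⟩ := Finset.mem_filter.1 hr
    have hmap : (Subgroup.zpowers r).map (MulAut.conj (k r)).toMonoidHom = Subgroup.zpowers x := by
      rw [conj_zpowers_map, hk r hrx]
    exact ⟨_, isPBlock_conjSet _ (isBrauerPair_of_le (hF r (hRP r hrR)) hPc).2, conjIdx_eq hmap _,
      blockRank_conjSet _ _⟩
  choose! bl hblk hbl hrk using hb
  have hsel : ∀ r ∈ R.filter (fun r => IsConj r x),
      Relation.ReflTransGen (NormalSubpairRel p M)
        (conjIdx (k r)⁻¹ ⟨Subgroup.zpowers x, bl r⟩) ⟨P, c⟩ := fun r hr => by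
    rw [← hbl r hr, conjIdx_mul, inv_mul_cancel, conjIdx_one]
    exact hF r (hRP r (Finset.mem_filter.1 hr).1)
  rw [← Finset.sum_filter_add_sum_filter_not (blocksOf M C[Subgroup.zpowers x])
    (fun b => ∃ g : G, Relation.ReflTransGen (NormalSubpairRel p M)
      (conjIdx g ⟨Subgroup.zpowers x, b⟩) ⟨P, c⟩),
    Finset.sum_eq_zero (s := Finset.filter (fun b => ¬ _) _) fun b hb => by
      rw [lamW_eq_zero fun g hg => (Finset.mem_filter.1 hb).2 ⟨g, hg⟩, zero_mul], add_zero]
  symm
  refine Finset.sum_bij (fun r _ => bl r) (fun r hr => ?_) (fun r hr r' hr' he => ?_)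
    (fun b hb => ?_) fun r hr => ?_
  · exact Finset.mem_filter.2 ⟨(mem_blocksOf hM).2 (hblk r hr), _, hsel r hr⟩
  · obtain ⟨hrR, hrx⟩ := Finset.mem_filter.1 hr
    obtain ⟨hrR', hrx'⟩ := Finset.mem_filter.1 hr'
    refine hdist _ hrR _ hrR' ⟨(k r')⁻¹ * k r, ?_, ?_⟩
    · calc (k r')⁻¹ * k r * r * ((k r')⁻¹ * k r)⁻¹
          = (k r')⁻¹ * (k r * r * (k r)⁻¹) * k r' := by group
        _ = (k r')⁻¹ * (k r' * r' * (k r')⁻¹) * k r' := by rw [hk r hrx, hk r' hrx']
        _ = r' := by group
    · rw [← conjIdx_mul, hbl r hr, show bl r = bl r' from he, ← hbl r' hr', conjIdx_mul,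
        inv_mul_cancel, conjIdx_one]
  · obtain ⟨hbk, g, hg⟩ := Finset.mem_filter.1 hb
    have hmap : (Subgroup.zpowers x).map (MulAut.conj g).toMonoidHom =
        Subgroup.zpowers (g * x * g⁻¹) := conj_zpowers_map g x
    rw [conjIdx_eq hmap] at hg
    have hgP : g * x * g⁻¹ ∈ P := le_of_rel hg (Subgroup.mem_zpowers _)
    obtain ⟨r, hrR, g', hg', hgF⟩ := hcomp _ hgP
    have hrx : IsConj r x := (isConj_iff.2 ⟨g' * g, by rw [← hg']; group⟩).symm
    have hr : r ∈ R.filter (fun r => IsConj r x) := Finset.mem_filter.2 ⟨hrR, hrx⟩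
    have h1 : conjIdx g ⟨Subgroup.zpowers x, b⟩ =
        ⟨Subgroup.zpowers (g * x * g⁻¹), F (g * x * g⁻¹)⟩ := by
      rw [conjIdx_eq hmap]
      exact Sigma.ext rfl (heq_of_eq (subpair_unique hM hPc hg (hF _ hgP)))
    have hz : k r * g' * g ∈ C[Subgroup.zpowers x] := by
      rw [← centralizer_singleton_eq, Subgroup.mem_centralizer_singleton_iff]
      calc k r * g' * g * x = k r * (g' * (g * x * g⁻¹) * g'⁻¹) * (g' * g) := by group
        _ = x * (k r * g' * g) := by
          rw [hg']
          conv_rhs => rw [← hk r hrx]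
          group
    have h2 : (⟨Subgroup.zpowers x, bl r⟩ : BrauerPairIdx G) = ⟨Subgroup.zpowers x, b⟩ := by
      rw [← hbl r hr, ← hgF, ← h1, conjIdx_mul, conjIdx_mul, conjIdx_eq_self_of_mem hz]
    exact ⟨r, hr, eq_of_heq (Sigma.mk.inj h2).2⟩
  · rw [hrk r hr, lamW_eq hM hlam.isFusChar (hsel r hr)]
    obtain ⟨-, hrx⟩ := Finset.mem_filter.1 hr
    congr 2
    conv_rhs => rw [← hk r hrx]
    group

open Classical in
/-- The trace of a star product is the sum of the weighted ranks at representatives. -/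
theorem star_trace_reps :
    ∑ χ ∈ B.toFinset, classInner (starFn hM P c lam χ) (χ : G → ℂ) =
      ∑ r ∈ R, lam r * (blockRank p (F r) : ℂ) := by
  refine mul_left_cancel₀ (Char.card_cast_ne_zero (G := G)) ?_
  have hinner : ∀ χ : IrrCharacter G, (Nat.card G : ℂ) *
      classInner (starFn hM P c lam χ) (χ : G → ℂ) =
        ∑ g : G, starFn hM P c lam χ g * conj ((χ : G → ℂ) g) := fun χ => by
    rw [classInner, mul_inv_cancel_left₀ Char.card_cast_ne_zero]
  rw [Finset.mul_sum, Finset.sum_congr rfl fun χ _ => hinner χ, Finset.sum_comm,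
    ← Finset.sum_fiberwise Finset.univ (fun g : G => pPt p g),
    Finset.sum_congr rfl fun u _ => section_trace hM hmax hlam u]
  have e : ∀ x : G, ∑ b ∈ blocksOf M C[Subgroup.zpowers x],
      lamW p M P c lam x ⟨Subgroup.zpowers x, b⟩ *
        ((Nat.card C[Subgroup.zpowers x] * blockRank p b : ℕ) : ℂ) =
      ∑ r ∈ R, if IsConj r x then
        (Nat.card C[Subgroup.zpowers x] : ℂ) * (lam r * (blockRank p (F r) : ℂ)) else 0 := by
    intro x
    rw [← Finset.sum_filter, ← Finset.mul_sum,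
      ← sum_lamW_rank hM hmax hlam hF hRP hcomp hdist x, Finset.mul_sum]
    exact Finset.sum_congr rfl fun b _ => by push_cast; ring
  rw [Finset.sum_congr rfl fun x _ => e x, Finset.sum_comm, Finset.mul_sum]
  refine Finset.sum_congr rfl fun r _ => ?_
  rw [← sum_card_cen_class r, Nat.cast_sum, Finset.sum_mul]
  refine Finset.sum_congr rfl fun x _ => ?_
  split_ifs <;> simp

/-- The weighted ranks cancel when the character moves a central element of the defect group. -/
theorem sum_lam_rank_eq_zero {z : G} (hz : z ∈ P) (hzc : ∀ d ∈ P, d * z = z * d)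
    (hne : lam z ≠ 1) : ∑ r ∈ R, lam r * (blockRank p (F r) : ℂ) = 0 := by
  classical
  rw [← star_trace_reps hM hmax hlam hF hRP hcomp hdist]
  refine Finset.sum_eq_zero fun χ hχ => ?_
  obtain ⟨ψ, -, hψ⟩ := exists_starIrr hM hmax hlam (Set.mem_toFinset.1 hχ)
  rw [← hψ]
  exact Char.classInner_irr_ne ψ.2 χ.2 fun h =>
    hne (fixed_center hM hmax hlam (Set.mem_toFinset.1 hχ) (hψ.symm.trans h) hz hzc)

omit hF hRP hcomp hdist

open Classical in
/-- A central involution with value `-1` halves the block. -/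
theorem card_eq_two_mul_deflSet {T : G} (hT : T ∈ P) (hTc : T ∈ Subgroup.center G)
    (hT2 : T * T = 1) (hlamT : lam T = -1) [(Subgroup.zpowers T).Normal] :
    Nat.card B = 2 * Nat.card (deflSet (Subgroup.zpowers T) B) := by
  obtain ⟨S, hS⟩ : ∃ S : Finset (IrrCharacter G),
      S = B.toFinset.filter fun χ : IrrCharacter G => (χ : G → ℂ) T = (χ : G → ℂ) 1 := ⟨_, rfl⟩
  obtain ⟨S', hS'⟩ : ∃ S' : Finset (IrrCharacter G),
      S' = B.toFinset.filter fun χ : IrrCharacter G => (χ : G → ℂ) T = -(χ : G → ℂ) 1 := ⟨_, rfl⟩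
  have hsplit : ∀ χ : IrrCharacter G,
      (χ : G → ℂ) T = (χ : G → ℂ) 1 ∨ (χ : G → ℂ) T = -(χ : G → ℂ) 1 := by
    intro χ
    obtain ⟨w, hw, hwg⟩ := exists_central_scalar χ hTc
    have h1 : (χ : G → ℂ) T = w * (χ : G → ℂ) 1 := by
      have := hwg 1
      rwa [mul_one] at this
    have hw2 : w * w = 1 := by
      obtain ⟨j, hj⟩ : orderOf T ∣ 2 := orderOf_dvd_of_pow_eq_one (by rw [sq, hT2])
      rw [← sq, hj, pow_mul, hw, one_pow]
    rcases mul_self_eq_one_iff.1 hw2 with rfl | rfl
    · exact Or.inl (by rw [h1, one_mul])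
    · exact Or.inr (by rw [h1, neg_one_mul])
  have hne0 : ∀ χ : IrrCharacter G, (χ : G → ℂ) 1 ≠ 0 := fun χ => by
    rw [apply_one_eq_charDegree]
    exact Nat.cast_ne_zero.2 (charDegree_pos χ).ne'
  have hu : ∀ χ ∈ B.toFinset, ∃ ψ : IrrCharacter G, ψ ∈ B.toFinset ∧
      (ψ : G → ℂ) = starFn hM P c lam χ := fun χ hχ => by
    obtain ⟨ψ, h1, h2⟩ := exists_starIrr hM hmax hlam (Set.mem_toFinset.1 hχ)
    exact ⟨ψ, Set.mem_toFinset.2 h1, h2⟩
  choose f hfB hf using hu
  have hreg : IsPRegular p (1 : G) := by simp [IsPRegular, (Fact.out : p.Prime).ne_one]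
  have hfval : ∀ χ (hχ : χ ∈ B.toFinset), ((f χ hχ : IrrCharacter G) : G → ℂ) 1 = (χ : G → ℂ) 1 ∧
      ((f χ hχ : IrrCharacter G) : G → ℂ) T = -(χ : G → ℂ) T := by
    intro χ hχ
    rw [hf]
    refine ⟨starFn_reg hM hmax hlam (Set.mem_toFinset.1 hχ) hreg, ?_⟩
    have h := starFn_central hM hmax hlam.isFusChar (Set.mem_toFinset.1 hχ) hT hTc hreg
    rw [mul_one, hlamT, neg_one_mul] at h
    exact h
  have hinj : ∀ χ (hχ : χ ∈ B.toFinset) χ' (hχ' : χ' ∈ B.toFinset),
      f χ hχ = f χ' hχ' → χ = χ' := by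
    intro χ hχ χ' hχ' he
    have hcl : IsFocChar p M P c (fun x => conj (lam x)) :=
      ⟨fun x hx y hy => by rw [hlam.map_mul x hx y hy, map_mul], by rw [hlam.map_one, map_one],
        fun v g b h1 h2 => by rw [hlam.fusion v g b h1 h2]⟩
    have key : ∀ η (hη : η ∈ B.toFinset),
        starFn hM P c (fun x => conj (lam x)) (f η hη) = η := by
      intro η hη
      rw [starFn_comp hM hmax hlam (Set.mem_toFinset.1 hη) hcl (hf η hη)]
      exact starFn_trivial hM hmax (hcl.mul hlam) (Set.mem_toFinset.1 hη) fun x hx => by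
        rw [mul_comm]; exact hlam.mul_conj_self hx
    refine Subtype.ext ?_
    rw [← key χ hχ, ← key χ' hχ', he]
  have hSS : S.card ≤ S'.card := by
    refine Finset.card_le_card_of_injOn
      (fun χ => if h : χ ∈ B.toFinset then f χ h else χ) (fun χ hχ => ?_) fun χ hχ χ' hχ' he => ?_
    · rw [Finset.mem_coe, hS, Finset.mem_filter] at hχ
      rw [Finset.mem_coe, hS', Finset.mem_filter]
      simp only [dif_pos hχ.1]
      exact ⟨hfB _ _, by rw [(hfval _ hχ.1).1, (hfval _ hχ.1).2, hχ.2]⟩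
    · rw [Finset.mem_coe, hS, Finset.mem_filter] at hχ hχ'
      simp only [dif_pos hχ.1, dif_pos hχ'.1] at he
      exact hinj _ hχ.1 _ hχ'.1 he
  have hSS' : S'.card ≤ S.card := by
    refine Finset.card_le_card_of_injOn
      (fun χ => if h : χ ∈ B.toFinset then f χ h else χ) (fun χ hχ => ?_) fun χ hχ χ' hχ' he => ?_
    · rw [Finset.mem_coe, hS', Finset.mem_filter] at hχ
      rw [Finset.mem_coe, hS, Finset.mem_filter]
      simp only [dif_pos hχ.1]
      exact ⟨hfB _ _, by rw [(hfval _ hχ.1).1, (hfval _ hχ.1).2, hχ.2, neg_neg]⟩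
    · rw [Finset.mem_coe, hS', Finset.mem_filter] at hχ hχ'
      simp only [dif_pos hχ.1, dif_pos hχ'.1] at he
      exact hinj _ hχ.1 _ hχ'.1 he
  have hB : B.toFinset.card = S.card + S'.card := by
    rw [hS, hS', ← Finset.card_union_of_disjoint]
    · congr 1
      ext χ
      simp only [Finset.mem_union, Finset.mem_filter]
      exact ⟨fun h => (hsplit χ).imp (fun e => ⟨h, e⟩) fun e => ⟨h, e⟩,
        fun h => h.elim (·.1) (·.1)⟩
    · rw [Finset.disjoint_filter]
      intro χ _ h1 h2
      exact hne0 χ (by linear_combination ((h2 : _) - (h1 : _)) / 2)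
  have hdefl : Nat.card (deflSet (Subgroup.zpowers T) B) = S.card := by
    rw [← Nat.card_eq_finsetCard]
    refine Nat.card_congr (Equiv.ofBijective (fun φ => ⟨infl _ φ.1, ?_⟩) ⟨?_, ?_⟩)
    · rw [hS, Finset.mem_filter]
      refine ⟨Set.mem_toFinset.2 φ.2, ?_⟩
      rw [infl_coe, Function.comp_apply, Function.comp_apply,
        (QuotientGroup.eq_one_iff T).2 (Subgroup.mem_zpowers T), QuotientGroup.mk_one]
    · exact fun a b h => Subtype.ext (infl_injective _ (congrArg Subtype.val h))
    · rintro ⟨χ, hχ⟩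
      rw [hS, Finset.mem_filter] at hχ
      have htriv : ∀ n ∈ Subgroup.zpowers T, (χ : G → ℂ) n = (χ : G → ℂ) 1 := by
        intro n hn
        obtain ⟨i, rfl⟩ := Subgroup.mem_zpowers_iff.1 hn
        rcases Int.even_or_odd i with ⟨j, rfl⟩ | ⟨j, rfl⟩
        · rw [zpow_add, ← (Commute.refl T).mul_zpow, hT2, one_zpow]
        · rw [zpow_add_one, two_mul, zpow_add, ← (Commute.refl T).mul_zpow, hT2, one_zpow, one_mul]
          exact hχ.2
      have he : infl (Subgroup.zpowers T)
          ((Char.irrQuotientEquiv (Subgroup.zpowers T)).symm ⟨χ, htriv⟩) = χ :=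
        congrArg Subtype.val
          ((Char.irrQuotientEquiv (Subgroup.zpowers T)).apply_symm_apply ⟨χ, htriv⟩)
      exact ⟨⟨_, show infl _ _ ∈ B from he.symm ▸ Set.mem_toFinset.1 hχ.1⟩, Subtype.ext he⟩
  rw [hdefl, Nat.card_eq_card_toFinset, hB]
  omega

end Cfsg.Lib.Block
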