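import Cfsg.Agent.Lib.Block.TwistLocal
import Cfsg.Agent.Lib.Block.TwistStar
import Cfsg.Agent.Lib.Block.CentralPairs

/-!
# The rank of a block with twisted defect group

The weighted ranks give the rank of the block from those at the two odd central involutions, and
in a centralizer of such an involution the count of pairs bounds the rank by the characters of the
quotient.
-/

set_option autoImplicit false
set_option linter.unusedSectionVars false
set_option linter.style.haveILetI false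
set_option maxHeartbeats 1000000

namespace Cfsg.Lib.Block

open Cfsg Cfsg.Lib.FusionSys

universe u

noncomputable local instance (priority := high) fintypeSubgroupTwistRank {A : Type u} [Group A]
    [Fintype A] (H : Subgroup A) : Fintype H := Fintype.ofFinite H

local notation "C[" Q "]" => Subgroup.centralizer (SetLike.coe Q)

section General

variable {p : ℕ} {M : Ideal AlgInt} {G : Type u} [Group G] [Fintype G] [Fact p.Prime]
  {B : Set (IrrCharacter G)} {P : Subgroup G} {c : Set (IrrCharacter C[P])}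
  {F : ∀ u : G, Set (IrrCharacter C[Subgroup.zpowers u])} {lam : G → ℂ}

/-- Representatives of the classes of pairs, with a choice of representative. -/
theorem exists_pairReps (F : ∀ u : G, Set (IrrCharacter C[Subgroup.zpowers u])) (P : Subgroup G) :
    ∃ (R : Finset G) (rep : G → G), (∀ r ∈ R, r ∈ P ∧ rep r = r) ∧
      (∀ u ∈ P, rep u ∈ R ∧ PairConj F u (rep u)) ∧
      (∀ u ∈ P, ∀ v ∈ P, PairConj F u v → rep u = rep v) ∧
      ∀ r ∈ R, ∀ r' ∈ R, PairConj F r r' → r = r' := by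
  classical
  let st : Setoid P := ⟨fun a b => PairConj F (a : G) b,
    ⟨fun a => pairConj_equiv.refl _, pairConj_equiv.symm, pairConj_equiv.trans⟩⟩
  obtain ⟨rp, hrp, hrp'⟩ : ∃ rp : P → P, (∀ a : P, PairConj F (a : G) (rp a)) ∧
      ∀ a b : P, PairConj F (a : G) b → rp a = rp b :=
    ⟨fun a => (Quotient.mk st a).out, fun a => pairConj_equiv.symm (Quotient.mk_out (s := st) a),
      fun a b hab => congrArg Quotient.out (Quotient.sound (s := st) hab)⟩
  obtain ⟨rep, hrep⟩ : ∃ rep : G → G, ∀ u (hu : u ∈ P), rep u = rp ⟨u, hu⟩ :=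
    ⟨fun u => if hu : u ∈ P then (rp ⟨u, hu⟩ : G) else u, fun u hu => by simp only [dif_pos hu]⟩
  have hidem : ∀ a : P, rp (rp a) = rp a := fun a => (hrp' a (rp a) (hrp a)).symm
  refine ⟨Finset.univ.image fun a : P => (rp a : G), rep, fun r hr => ?_, fun u hu => ?_,
    fun u hu v hv h => ?_, fun r hr r' hr' h => ?_⟩
  · obtain ⟨a, -, rfl⟩ := Finset.mem_image.1 hr
    exact ⟨(rp a).2, by rw [hrep _ (rp a).2, hidem]⟩
  · rw [hrep u hu]
    exact ⟨Finset.mem_image_of_mem _ (Finset.mem_univ _), hrp ⟨u, hu⟩⟩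
  · rw [hrep u hu, hrep v hv, hrp' ⟨u, hu⟩ ⟨v, hv⟩ h]
  · obtain ⟨a, -, rfl⟩ := Finset.mem_image.1 hr
    obtain ⟨b, -, rfl⟩ := Finset.mem_image.1 hr'
    rw [← hidem a, ← hidem b, hrp' _ _ h]

theorem pairConj_one {v : G} (h : PairConj F 1 v) : v = 1 := by
  obtain ⟨g, rfl, -⟩ := h
  simp

theorem pairConj_central {u v : G} (hu : u ∈ Subgroup.center G) (h : PairConj F u v) : v = u := by
  obtain ⟨g, rfl, -⟩ := h
  rw [Subgroup.mem_center_iff.1 hu g, mul_inv_cancel_right]

theorem blockRank_pairConj {u v : G} (h : PairConj F u v) :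
    blockRank p (F v) = blockRank p (F u) := by
  obtain ⟨g, hg, hgF⟩ := h
  have hmap : (Subgroup.zpowers u).map (MulAut.conj g).toMonoidHom = Subgroup.zpowers v := by
    rw [conj_zpowers_map, hg]
  rw [conjIdx_eq hmap] at hgF
  rw [← eq_of_heq (Sigma.mk.inj hgF).2, blockRank_conjSet]

theorem lam_pairConj (hlam : IsFocChar p M P c lam) (hF : PairFam p M P c F) {u v : G}
    (hu : u ∈ P) (hv : v ∈ P) (h : PairConj F u v) : lam v = lam u := by
  obtain ⟨g, hg, hgF⟩ := h
  rw [← hg]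
  exact hlam.fusion u g (F u) (hF u hu) (by rw [hgF]; exact hF v hv)

/-- The pair at a central element has the rank of the block. -/
theorem blockRank_pair_center (hM : IsPModular p M) (hmax : IsMaximalBrauerPair p M B P c)
    (hF : PairFam p M P c F) {R : Finset G} {rep : G → G} (hR : ∀ r ∈ R, r ∈ P ∧ rep r = r)
    (hrep : ∀ u ∈ P, rep u ∈ R ∧ PairConj F u (rep u))
    (hdist : ∀ r ∈ R, ∀ r' ∈ R, PairConj F r r' → r = r') {T : G} (hT : T ∈ P)
    (hTc : T ∈ Subgroup.center G) : blockRank p (F T) = blockRank p B := by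
  classical
  have hcomp : ∀ u ∈ P, ∃ r ∈ R, PairConj F u r := fun u hu => ⟨_, hrep u hu⟩
  have h1R : (1 : G) ∈ R := by
    have h := hrep 1 (one_mem P)
    rw [pairConj_one h.2] at h
    exact h.1
  have hTR : T ∈ R := by
    have h := hrep T hT
    rw [pairConj_central hTc h.2] at h
    exact h.1
  have hfil : ∀ u : G, u ∈ R → u ∈ Subgroup.center G → R.filter (fun r => IsConj r u) = {u} := by
    intro u hu hc
    ext r
    simp only [Finset.mem_filter, Finset.mem_singleton]
    refine ⟨fun h => ?_, fun h => by subst h; exact ⟨hu, IsConj.refl _⟩⟩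
    obtain ⟨g, hg⟩ := isConj_iff.1 h.2.symm
    rw [← hg, Subgroup.mem_center_iff.1 hc g, mul_inv_cancel_right]
  have s1 := hF.sum_inducing hM hmax (fun r hr => (hR r hr).1) hcomp hdist (x := 1) ⟨0, by simp⟩
  have sT := hF.sum_inducing hM hmax (fun r hr => (hR r hr).1) hcomp hdist (x := T)
    (isPGroup_exists_orderOf hmax.1.1.1 hT)
  rw [hfil 1 h1R (one_mem _), Finset.sum_singleton] at s1
  rw [hfil T hTR hTc, Finset.sum_singleton] at sT
  have key : ∀ H : Subgroup G, H = Subgroup.centralizer ({1} : Set G) →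
      ∑ᶠ b ∈ {b : Set (IrrCharacter H) | IsInducedBlock M H b B}, blockRank p b =
        blockRank p (F 1) := by
    rintro H rfl; exact s1
  rw [← (hF.count hM hmax h1R (fun r hr => (hR r hr).1) hcomp hdist).1, ← sT]
  refine key _ ?_
  ext g
  simp only [Subgroup.mem_centralizer_singleton_iff, one_mul, mul_one, iff_true]
  exact (Subgroup.mem_center_iff.1 hTc g)

end General

variable {G : Type u} [Group G] [Fintype G] [Fact (Nat.Prime 2)] {M : Ideal AlgInt}
  {B : Set (IrrCharacter G)} {P : Subgroup G} {c : Set (IrrCharacter C[P])} {Sys : FusionSystem P}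
  {F : ∀ u : G, Set (IrrCharacter C[Subgroup.zpowers u])} {a t x : G} {m e : ℕ}

namespace TwNorm

variable (S : TwNorm P a t x m e) (hM : IsPModular 2 M)
  (hSys : IsBlockFusionSystemOn 2 M B P c Sys)

include S hM hSys

/-- The adapted character. -/
theorem exists_blockLam : ∃ lam : G → ℂ, IsFocChar 2 M P c lam ∧ lam t = -1 ∧
    lam (twZeta a x m) = 1 ∧ lam (twZeta a x m * t) = -1 := by
  obtain ⟨u, hu⟩ := S.exists_fusedData hM hSys
  obtain ⟨lam, hl, ht, hζ, hζt, hlu⟩ :=
    S.exists_lam (Fz := TwFz Sys a t x m) (u := u) fun q hq hFz => (hu q hq hFz).1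
  exact ⟨lam, S.isFocChar_of_fused hM hSys (fun q hq hFz => (hu q hq hFz).2.1) hl ht hζ hζt hlu,
    ht, hζ, hζt⟩

variable (hF : PairFam 2 M P c F)

include hF

theorem twW_pairConj {u v : G} (hu : twW P a t x m (TwFz Sys a t x m) u) (hv : v ∈ P)
    (h : PairConj F u v) : twW P a t x m (TwFz Sys a t x m) v := by
  obtain ⟨d, hd, rfl⟩ := S.twW_class hM hSys hF hu hv h
  exact S.twW_conj hu hd

open Classical in
/-- The rank of the block from the ranks at the two odd central involutions. -/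
theorem rank_succ_le : blockRank 2 B + 1 ≤
    blockRank 2 (F t) + blockRank 2 (F (twZeta a x m * t)) := by
  have hmax := hSys.1
  have hPc := hmax.1.1
  have B₀ := S.toBase
  obtain ⟨lam, hlam, ht, hζ, hζt⟩ := S.exists_blockLam hM hSys
  obtain ⟨R, rep, hR, hrep, hrep', hdist⟩ := exists_pairReps F P
  have hcomp : ∀ u ∈ P, ∃ r ∈ R, PairConj F u r := fun u hu => ⟨_, hrep u hu⟩
  have hzero := sum_lam_rank_eq_zero hM hmax hlam hF (fun r hr => (hR r hr).1) hcomp hdist S.tmem
    (fun d hd => (B₀.t_comm hd).eq) (by rw [ht]; norm_num)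
  rw [← Finset.sum_filter_add_sum_filter_not R (fun r => twW P a t x m (TwFz Sys a t x m) r)]
    at hzero
  have hWsum : ∑ r ∈ R.filter (fun r => twW P a t x m (TwFz Sys a t x m) r),
      lam r * (blockRank 2 (F r) : ℂ) = 0 := by
    have hmem : ∀ r ∈ R.filter (fun r => twW P a t x m (TwFz Sys a t x m) r),
        rep (r * t) ∈ R.filter (fun r => twW P a t x m (TwFz Sys a t x m) r) := fun r hr => by
      obtain ⟨hrR, hW⟩ := Finset.mem_filter.1 hr
      have hW' := S.twW_mul_t hW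
      obtain ⟨h1, h2⟩ := hrep _ hW'.1
      exact Finset.mem_filter.2 ⟨h1, S.twW_pairConj hM hSys hF hW' (hR _ h1).1 h2⟩
    refine Finset.sum_involution (fun r _ => rep (r * t)) (fun r hr => ?_) (fun r hr _ he => ?_)
      hmem fun r hr => ?_
    all_goals
      obtain ⟨hrR, hW⟩ := Finset.mem_filter.1 hr
      have hW' := S.twW_mul_t hW
      obtain ⟨h1, h2⟩ := hrep _ hW'.1
    · have hl : lam (rep (r * t)) = -lam r := by
        rw [lam_pairConj hlam hF hW'.1 (hR _ h1).1 h2, hlam.map_mul _ hW.1 _ S.tmem, ht]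
        ring
      rw [hl, S.blockRank_twW hM hSys hF hW,
        S.blockRank_twW hM hSys hF (S.twW_pairConj hM hSys hF hW' (hR _ h1).1 h2)]
      ring
    · have hl : lam (rep (r * t)) = -lam r := by
        rw [lam_pairConj hlam hF hW'.1 (hR _ h1).1 h2, hlam.map_mul _ hW.1 _ S.tmem, ht]
        ring
      rw [he] at hl
      have h0 : lam r = 0 := by linear_combination (1 / 2 : ℂ) * hl
      have hi := hlam.map_mul _ hW.1 _ (inv_mem hW.1)
      rw [mul_inv_cancel, hlam.map_one, h0, zero_mul] at hi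
      exact one_ne_zero hi
    · have hWr := S.twW_pairConj hM hSys hF hW' (hR _ h1).1 h2
      obtain ⟨d, hd, hdr⟩ := S.twW_class hM hSys hF hW' (hR _ h1).1 h2
      have hc : d * r * d⁻¹ = rep (r * t) * t := by
        rw [← hdr, show d * (r * t) * d⁻¹ * t = d * r * (t * d⁻¹) * t by group,
          ← ((B₀.t_comm hd).inv_left).eq, show d * r * (d⁻¹ * t) * t = d * r * d⁻¹ * (t * t) by group,
          S.pair.t_sq, mul_one]
      have hP : rep (r * t) * t ∈ P := mul_mem (hR _ h1).1 S.tmem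
      rw [← hrep' r hW.1 _ hP (hc ▸ hF.conj_mem hM hPc hd hW.1), (hR r hrR).2]
  rw [hWsum, zero_add] at hzero
  have hVP : ∀ v, InV a t m v → v ∈ P := fun v hv => B₀.R_le (S.pair.inV_mem hv)
  have hVnot : ∀ v, InV a t m v → ¬ twW P a t x m (TwFz Sys a t x m) v := fun v hv h => h.2.1 hv
  have hset : R.filter (fun r => ¬ twW P a t x m (TwFz Sys a t x m) r) =
      {rep 1, rep (twZeta a x m), rep t, rep (twZeta a x m * t)} := by
    ext r
    simp only [Finset.mem_filter, Finset.mem_insert, Finset.mem_singleton]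
    constructor
    · rintro ⟨hrR, hW⟩
      obtain ⟨v, hv, hrv⟩ := S.exists_pairConj_inV hM hSys hF (hR r hrR).1 hW
      have e := hrep' r (hR r hrR).1 v (hVP v hv) hrv
      rw [(hR r hrR).2] at e
      rcases (S.inV_iff_zeta).1 hv with h | h | h | h <;> rw [h] at e <;> simp [e]
    · intro hr
      obtain ⟨v, hv, rfl⟩ : ∃ v, InV a t m v ∧ r = rep v := by
        rcases hr with h | h | h | h
        exacts [⟨_, S.pair.inV_one, h⟩, ⟨_, B₀.zeta_inV, h⟩, ⟨_, S.pair.inV_t, h⟩,
          ⟨_, S.pair.inV_mul B₀.zeta_inV S.pair.inV_t, h⟩]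
      obtain ⟨h1, h2⟩ := hrep v (hVP v hv)
      exact ⟨h1, fun hW => hVnot v hv
        (S.twW_pairConj hM hSys hF hW (hVP v hv) (pairConj_equiv.symm h2))⟩
  have hζV := B₀.zeta_inV
  have hζtV := S.pair.inV_mul hζV S.pair.inV_t
  have hlv : ∀ v, InV a t m v → lam (rep v) = lam v ∧
      blockRank 2 (F (rep v)) = blockRank 2 (F v) := fun v hv =>
    ⟨lam_pairConj hlam hF (hVP v hv) (hR _ (hrep v (hVP v hv)).1).1 (hrep v (hVP v hv)).2,
      blockRank_pairConj (hrep v (hVP v hv)).2⟩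
  have h1 : rep 1 = 1 := pairConj_one (hrep 1 (one_mem P)).2
  have hn1 : ∀ v, InV a t m v → v ≠ 1 → rep v ≠ 1 := fun v hv hne h => hne (by
    have h2 := pairConj_equiv.symm (hrep v (hVP v hv)).2
    rw [h] at h2
    exact pairConj_one h2)
  have hB1 : blockRank 2 (F 1) = blockRank 2 B := (hF.count hM hmax (R := R)
    (h1 ▸ (hrep 1 (one_mem P)).1) (fun r hr => (hR r hr).1) hcomp hdist).1
  have hneζt : twZeta a x m * t ≠ 1 := fun h => S.zeta_ne_t (by
    rw [eq_inv_of_mul_eq_one_left h, S.pair.t_inv])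
  have hζtne : rep (twZeta a x m) ≠ rep t := fun h => by
    have := congrArg lam h
    rw [(hlv _ hζV).1, (hlv _ S.pair.inV_t).1, hζ, ht] at this
    norm_num at this
  have hζζt : rep (twZeta a x m) ≠ rep (twZeta a x m * t) := fun h => by
    have := congrArg lam h
    rw [(hlv _ hζV).1, (hlv _ hζtV).1, hζ, hζt] at this
    norm_num at this
  have hlz : 1 ≤ blockRank 2 (F (twZeta a x m)) :=
    blockRank_pos hM (isBrauerPair_of_le (hF _ (hVP _ hζV)) hPc).2
  rw [hset, Finset.sum_insert (by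
      rw [h1]
      simp only [Finset.mem_insert, Finset.mem_singleton, not_or]
      exact ⟨(hn1 _ hζV (B₀.zeta_ne S.not_comm)).symm, (hn1 _ S.pair.inV_t S.pair.t_ne).symm,
        (hn1 _ hζtV hneζt).symm⟩),
    Finset.sum_insert (by
      simp only [Finset.mem_insert, Finset.mem_singleton, not_or]
      exact ⟨hζtne, hζζt⟩)] at hzero
  rw [h1, hlam.map_one, hB1, (hlv _ hζV).1, (hlv _ hζV).2, hζ, one_mul, one_mul] at hzero
  by_cases he : rep t = rep (twZeta a x m * t)
  · rw [← he, Finset.insert_eq_of_mem (Finset.mem_singleton_self _), Finset.sum_singleton,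
      (hlv _ S.pair.inV_t).1, (hlv _ S.pair.inV_t).2, ht] at hzero
    have : blockRank 2 B + blockRank 2 (F (twZeta a x m)) = blockRank 2 (F t) := by
      exact_mod_cast (by linear_combination hzero :
        (blockRank 2 B : ℂ) + blockRank 2 (F (twZeta a x m)) = blockRank 2 (F t))
    omega
  · rw [Finset.sum_pair he, (hlv _ S.pair.inV_t).1, (hlv _ S.pair.inV_t).2, (hlv _ hζtV).1,
      (hlv _ hζtV).2, ht, hζt] at hzero
    have : blockRank 2 B + blockRank 2 (F (twZeta a x m)) =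
        blockRank 2 (F t) + blockRank 2 (F (twZeta a x m * t)) := by
      exact_mod_cast (by linear_combination hzero :
        (blockRank 2 B : ℂ) + blockRank 2 (F (twZeta a x m)) =
          blockRank 2 (F t) + blockRank 2 (F (twZeta a x m * t)))
    omega

omit hF

open Classical in
/-- The bound for a block with such an involution central. -/
theorem central_rank_le {T : G} (hT : T = t ∨ T = twZeta a x m * t) (hTc : T ∈ Subgroup.center G)
    [(Subgroup.zpowers T).Normal] :
    blockRank 2 B + (2 ^ (m - 1) + ((Finset.range 2).filter fun q => ¬ TwFz Sys a t x m q).card) ≤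
      Nat.card (deflSet (Subgroup.zpowers T) B) := by
  have hmax := hSys.1
  have hPc := hmax.1.1
  have B₀ := S.toBase
  have hm := S.pair.two_le
  obtain ⟨F, hF⟩ := exists_pairFam (p := 2) hM hPc
  obtain ⟨lam, hlam, ht, hζ, hζt⟩ := S.exists_blockLam hM hSys
  have hζV := B₀.zeta_inV
  have hTV : InV a t m T := by
    rcases hT with rfl | rfl
    exacts [S.pair.inV_t, S.pair.inV_mul hζV S.pair.inV_t]
  have hVP : ∀ v, InV a t m v → v ∈ P := fun v hv => B₀.R_le (S.pair.inV_mem hv)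
  have hlamT : lam T = -1 := by rcases hT with rfl | rfl <;> assumption
  obtain ⟨T', hT'V, hT'ne, hlamT'⟩ : ∃ T', InV a t m T' ∧ T' ≠ T ∧ lam T' = -1 := by
    have hne : twZeta a x m * t ≠ t := fun h => B₀.zeta_ne S.not_comm (mul_eq_right.1 h)
    rcases hT with rfl | rfl
    exacts [⟨_, S.pair.inV_mul hζV S.pair.inV_t, hne, hζt⟩, ⟨_, S.pair.inV_t, hne.symm, ht⟩]
  have hT2 := S.pair.inV_sq hTV
  rw [show Nat.card (deflSet (Subgroup.zpowers T) B) = Nat.card B / 2 by
    rw [card_eq_two_mul_deflSet hM hmax hlam (hVP T hTV) hTc hT2 hlamT]; omega]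
  obtain ⟨R, rep, hR, hrep, hrep', hdist⟩ := exists_pairReps F P
  have hcomp : ∀ u ∈ P, ∃ r ∈ R, PairConj F u r := fun u hu => ⟨_, hrep u hu⟩
  have h1 : rep 1 = 1 := pairConj_one (hrep 1 (one_mem P)).2
  have h1R : (1 : G) ∈ R := by
    have := (hrep 1 (one_mem P)).1
    rwa [h1] at this
  have hT1 : rep T = T := pairConj_central hTc (hrep T (hVP T hTV)).2
  obtain ⟨hB1, hk⟩ := hF.count hM hmax h1R (fun r hr => (hR r hr).1) hcomp hdist
  have hlT : blockRank 2 (F T) = blockRank 2 B :=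
    blockRank_pair_center hM hmax hF hR hrep hdist (hVP T hTV) hTc
  obtain ⟨L, hLW, hLd, hLc⟩ := S.exists_list (Fz := TwFz Sys a t x m)
  have hLrep : L.card ≤ (R.filter fun r => twW P a t x m (TwFz Sys a t x m) r).card := by
    refine Finset.card_le_card_of_injOn rep (fun r hr => ?_) fun r hr r' hr' he => ?_
    · have hW := hLW r hr
      obtain ⟨h2, h3⟩ := hrep r hW.1
      exact Finset.mem_coe.2
        (Finset.mem_filter.2 ⟨h2, S.twW_pairConj hM hSys hF hW (hR _ h2).1 h3⟩)
    · have hW := hLW r hr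
      have hW' := hLW r' hr'
      have hrr : PairConj F r r' :=
        pairConj_equiv.trans (hrep r hW.1).2 (he ▸ pairConj_equiv.symm (hrep r' hW'.1).2)
      obtain ⟨d, hd, hdr⟩ := S.twW_class hM hSys hF hW hW'.1 hrr
      exact hLd r hr r' hr' d hd hdr
  obtain ⟨E, hE⟩ : ∃ E : Finset G, E = {rep 1, rep T, rep (twZeta a x m), rep T'} := ⟨_, rfl⟩
  have hlv : ∀ v, InV a t m v → lam (rep v) = lam v := fun v hv =>
    lam_pairConj hlam hF (hVP v hv) (hR _ (hrep v (hVP v hv)).1).1 (hrep v (hVP v hv)).2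
  have hn1 : ∀ v, InV a t m v → v ≠ 1 → (1 : G) ≠ rep v := fun v hv hne h => hne (by
    have h2 := pairConj_equiv.symm (hrep v (hVP v hv)).2
    rw [← h] at h2
    exact pairConj_one h2)
  have hnT : ∀ v, InV a t m v → v ≠ T → T ≠ rep v := fun v hv hne h => hne (by
    have h2 := pairConj_equiv.symm (hrep v (hVP v hv)).2
    rw [← h] at h2
    exact pairConj_central hTc h2)
  have hζT : twZeta a x m ≠ T := fun h => by
    have := congrArg lam h; rw [hζ, hlamT] at this; norm_num at this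
  have hT0 : T ≠ 1 := fun h => by
    have := congrArg lam h; rw [hlamT, hlam.map_one] at this; norm_num at this
  have hT'0 : T' ≠ 1 := fun h => by
    have := congrArg lam h; rw [hlamT', hlam.map_one] at this; norm_num at this
  have hζT' : rep (twZeta a x m) ≠ rep T' := fun h => by
    have := congrArg lam h; rw [hlv _ hζV, hlv _ hT'V, hζ, hlamT'] at this; norm_num at this
  have hd1 : (1 : G) ∉ ({T, rep (twZeta a x m), rep T'} : Finset G) := by
    simp only [Finset.mem_insert, Finset.mem_singleton, not_or]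
    exact ⟨hT0.symm, hn1 _ hζV (B₀.zeta_ne S.not_comm), hn1 _ hT'V hT'0⟩
  have hd2 : T ∉ ({rep (twZeta a x m), rep T'} : Finset G) := by
    simp only [Finset.mem_insert, Finset.mem_singleton, not_or]
    exact ⟨hnT _ hζV hζT, hnT _ hT'V hT'ne⟩
  have hEsub : ∀ r ∈ E, r ∈ R ∧ ¬ twW P a t x m (TwFz Sys a t x m) r := by
    intro r hr
    obtain ⟨v, hv, rfl⟩ : ∃ v, InV a t m v ∧ r = rep v := by
      simp only [hE, Finset.mem_insert, Finset.mem_singleton] at hr
      rcases hr with h | h | h | h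
      exacts [⟨_, S.pair.inV_one, h⟩, ⟨_, hTV, h⟩, ⟨_, hζV, h⟩, ⟨_, hT'V, h⟩]
    obtain ⟨h2, h3⟩ := hrep v (hVP v hv)
    exact ⟨h2, fun hW =>
      (S.twW_pairConj hM hSys hF hW (hVP v hv) (pairConj_equiv.symm h3)).2.1 hv⟩
  have hpos : ∀ r ∈ R, 1 ≤ blockRank 2 (F r) := fun r hr =>
    blockRank_pos hM (isBrauerPair_of_le (hF r (hR r hr).1) hPc).2
  have hsumE : 2 * blockRank 2 B + 2 ≤ ∑ r ∈ E, blockRank 2 (F r) := by
    rw [hE, h1, hT1, Finset.sum_insert hd1, Finset.sum_insert hd2, Finset.sum_pair hζT', hB1, hlT]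
    have := hpos _ (hrep _ (hVP _ hζV)).1
    have := hpos _ (hrep _ (hVP _ hT'V)).1
    omega
  have hsumW : (R.filter fun r => twW P a t x m (TwFz Sys a t x m) r).card ≤
      ∑ r ∈ R.filter (fun r => twW P a t x m (TwFz Sys a t x m) r), blockRank 2 (F r) := by
    rw [Finset.card_eq_sum_ones]
    exact Finset.sum_le_sum fun r hr => hpos r (Finset.mem_filter.1 hr).1
  have hsumN : ∑ r ∈ E, blockRank 2 (F r) ≤
      ∑ r ∈ R.filter (fun r => ¬ twW P a t x m (TwFz Sys a t x m) r), blockRank 2 (F r) :=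
    Finset.sum_le_sum_of_subset fun r hr => Finset.mem_filter.2 (hEsub r hr)
  have htot := Finset.sum_filter_add_sum_filter_not R
    (fun r => twW P a t x m (TwFz Sys a t x m) r) (fun r => blockRank 2 (F r))
  rw [← hk] at htot
  have h4 : 2 ^ m = 2 * 2 ^ (m - 1) := by rw [← pow_succ']; congr 1; omega
  omega

include hF

open Classical in
/-- The data in the centralizer of an odd central involution. -/
theorem exists_local {T : G} (hT : T = t ∨ T = twZeta a x m * t) :
    ∃ (P' : Subgroup C[Subgroup.zpowers T])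
      (c' : Set (IrrCharacter (Subgroup.centralizer (P' : Set C[Subgroup.zpowers T]))))
      (a' t' x' : C[Subgroup.zpowers T]) (Sys' : FusionSystem P'),
      (a' : G) = a ∧ (t' : G) = t ∧ (x' : G) = x ∧ (∀ y, y ∈ P' ↔ (y : G) ∈ P) ∧
      IsBlockFusionSystemOn 2 M (F T) P' c' Sys' ∧ TwNorm P' a' t' x' m e ∧
      ∀ q, TwFz Sys' a' t' x' m q → a ^ q * x * (a ^ q * x) = 1 ∧ Fus Sys (a ^ q * x) T := by
  have hmax := hSys.1
  have hPc := hmax.1.1
  have B₀ := S.toBase
  have hTV : InV a t m T := by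
    rcases hT with rfl | rfl
    exacts [S.pair.inV_t, S.pair.inV_mul B₀.zeta_inV S.pair.inV_t]
  have hTP : T ∈ P := B₀.R_le (S.pair.inV_mem hTV)
  have hPK : P ≤ C[Subgroup.zpowers T] := fun d hd => by
    rw [← centralizer_singleton_eq, Subgroup.mem_centralizer_singleton_iff]
    exact (B₀.V_comm hd hTV).eq
  have hle := hF T hTP
  have hdef := subpair_defect_central hM hmax hPK hle
  have hQf := isBrauerPair_of_le hle hPc
  have hloc := isLocalBlock_centralizer (p := 2) hM hQf.2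
  obtain ⟨n, hn, hQn⟩ := normalSubpair_below hM hPc hle (S := P) (subpairLE_le hle) le_rfl
    (hPK.trans (Subgroup.centralizer_le_normalizer _))
  cases subpair_unique hM hPc hn Relation.ReflTransGen.refl
  obtain ⟨P', rfl⟩ : ∃ P' : Subgroup C[Subgroup.zpowers T],
      P'.map (Subgroup.subtype _) = P :=
    ⟨P.subgroupOf _, Subgroup.map_subgroupOf_eq_of_le hPK⟩
  have hQD := subpairLE_le hle
  have eD : (P'.map C[Subgroup.zpowers T].subtype).subgroupOf _ = P' :=
    Subgroup.comap_map_eq_self_of_injective (Subgroup.subtype_injective _) P'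
  rw [eD] at hdef
  obtain ⟨c', hc'⟩ : ∃ c', c' = pullSet (cenUp P' (hloc.cen_up hQD)) c := ⟨_, rfl⟩
  have hup : upBlock P' (hloc.cen_up hQD) c' = c := by rw [hc']; exact pullSet_symm _ _
  have hmax' : IsMaximalBrauerPair 2 M (F T) P' c' := maximal_of_defectGroup hM
    ((isBrauerPairOf_local_iff hM hloc hQf hQD c').2 (by rw [hup]; exact hQn)) hdef
  have hmem : ∀ y, y ∈ P' ↔ (y : G) ∈ P'.map C[Subgroup.zpowers T].subtype := fun y =>
    (Subgroup.mem_map_iff_mem (Subgroup.subtype_injective _)).symm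
  obtain ⟨Sys', hSys'⟩ := exists_blockFusion hM hmax'
  obtain ⟨a', ha'⟩ : ∃ a' : C[Subgroup.zpowers T], (a' : G) = a := ⟨⟨a, hPK S.amem⟩, rfl⟩
  obtain ⟨t', ht'⟩ : ∃ t' : C[Subgroup.zpowers T], (t' : G) = t := ⟨⟨t, hPK S.tmem⟩, rfl⟩
  obtain ⟨x', hx'⟩ : ∃ x' : C[Subgroup.zpowers T], (x' : G) = x := ⟨⟨x, hPK S.xmem⟩, rfl⟩
  have hRmap : (twR a' t').map C[Subgroup.zpowers T].subtype = twR a t := by
    rw [twR, twR, Subgroup.map_sup, MonoidHom.map_zpowers, MonoidHom.map_zpowers, ← ha', ← ht']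
    rfl
  have hS' : TwNorm P' a' t' x' m e := by
    refine ⟨⟨S.pair.two_le, ?_, ?_, fun h => S.pair.tnot ?_, Subtype.ext ?_⟩,
      (hmem _).2 (ha'.symm ▸ S.amem), (hmem _).2 (ht'.symm ▸ S.tmem),
      (hmem _).2 (hx'.symm ▸ S.xmem), Subtype.ext ?_, fun h => S.xnot ?_, ?_, Subtype.ext ?_, S.he,
      Subtype.ext ?_⟩
    · rw [← Subgroup.orderOf_coe, ha', S.pair.ordA]
    · rw [← Subgroup.orderOf_coe, ht', S.pair.ordT]
    · obtain ⟨i, hi⟩ := h
      exact ⟨i, by simp only [← ha', ← ht', ← hi]; rfl⟩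
    · rw [Subgroup.coe_mul, Subgroup.coe_mul, ha', ht']; exact S.pair.atc.eq
    · rw [Subgroup.coe_mul, Subgroup.coe_mul, hx', ht']; exact S.xtc.eq
    · rw [← hx', ← hRmap]; exact ⟨x', h, rfl⟩
    · rw [← S.card, Subgroup.card_map_of_injective (Subgroup.subtype_injective _)]
    · rw [Subgroup.coe_mul, OneMemClass.coe_one, hx', S.xsq]
    · simp only [Subgroup.coe_mul, InvMemClass.coe_inv, SubmonoidClass.coe_pow, hx', ha', ht']
      exact S.conjA
  refine ⟨P', c', a', t', x', Sys', ha', ht', hx', hmem, hSys', hS', fun q hq => ?_⟩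
  obtain ⟨g', hg'⟩ : ∃ g', g' = a' ^ q * x' := ⟨_, rfl⟩
  have hgG : (g' : G) = a ^ q * x := by
    rw [hg', Subgroup.coe_mul, SubmonoidClass.coe_pow, ha', hx']
  obtain ⟨hq2, hfus⟩ := hq
  rw [← hg'] at hq2 hfus
  refine ⟨by rw [← hgG, ← Subgroup.coe_mul, hq2, OneMemClass.coe_one], ?_⟩
  obtain ⟨f', hf'⟩ : ∃ f', Fus Sys' g' f' := hfus.elim (fun h => ⟨_, h⟩) fun h => ⟨_, h⟩
  obtain ⟨α, hα, k, hodd, hk, hne, -⟩ := hf'
  have hE : (twE P' g').map C[Subgroup.zpowers T].subtype =
      twE (P'.map C[Subgroup.zpowers T].subtype) (a ^ q * x) := by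
    ext y
    constructor
    · rintro ⟨w, hw, rfl⟩
      obtain ⟨h1, h2⟩ := mem_twE.1 hw
      exact mem_twE.2 ⟨(hmem w).1 h1, hgG ▸ congrArg Subtype.val h2.eq⟩
    · intro hy
      obtain ⟨⟨w, hw, rfl⟩, h2⟩ := mem_twE.1 hy
      exact ⟨w, mem_twE.2 ⟨hw, Subtype.ext (by
        rw [Subgroup.coe_mul, Subgroup.coe_mul, hgG]; exact h2.eq)⟩, rfl⟩
  show ∃ β ∈ Sys.autGroup (twE (P'.map C[Subgroup.zpowers T].subtype) (a ^ q * x)), ∃ n : ℕ,
    Odd n ∧ β ^ n = 1 ∧ β ≠ 1 ∧
      ∀ y : twE (P'.map C[Subgroup.zpowers T].subtype) (a ^ q * x), (y : G) = T → β y = y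
  have hTE : T ∈ (twE P' g').map C[Subgroup.zpowers T].subtype := by
    rw [hE]
    exact mem_twE.2 ⟨hTP, (B₀.V_comm (S.rep_mem q) hTV).symm⟩
  have hQE : Subgroup.zpowers T ≤ (twE P' g').map C[Subgroup.zpowers T].subtype :=
    Subgroup.zpowers_le.2 hTE
  have hEP : (twE P' g').map C[Subgroup.zpowers T].subtype ≤
      P'.map C[Subgroup.zpowers T].subtype := Subgroup.map_mono fun y hy => (mem_twE.1 hy).1
  rw [← hE]
  obtain ⟨-, g, hg, -, f, hf, hgf⟩ :=
    (hSys'.2 _ _).1 ((mem_autGroup (fun y hy => (mem_twE.1 hy).1)).1 hα)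
  obtain ⟨ι, hι⟩ : ∃ ι, ι = (twE P' g').equivMapOfInjective C[Subgroup.zpowers T].subtype
      (Subgroup.subtype_injective _) := ⟨_, rfl⟩
  have hβy : ∀ y, ((MulAut.congr ι α y : (twE P' g').map C[Subgroup.zpowers T].subtype) : G) =
      (g : G) * (y : G) * (g : G)⁻¹ := by
    intro y
    obtain ⟨w, rfl⟩ := ι.surjective y
    have e1 : MulAut.congr ι α (ι w) = ι (α w) := by simp [MulAut.congr]
    rw [e1, hι]
    show (((α w : twE P' g') : C[Subgroup.zpowers T]) : G) =
      (g : G) * ((w : C[Subgroup.zpowers T]) : G) * (g : G)⁻¹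
    exact congrArg Subtype.val (hg w)
  refine ⟨MulAut.congr ι α, ?_, k, hodd, by rw [← map_pow, hk, map_one],
    fun h => hne ((MulAut.congr ι).map_eq_one_iff.1 h), fun y hy => Subtype.ext ?_⟩
  · have h1 := rel_up hM hloc hf hQE hQD
    dsimp only at h1
    rw [hup] at h1
    have hQE' : Subgroup.zpowers T ≤ ((twE P' g').map (MulAut.conj g).toMonoidHom).map
        C[Subgroup.zpowers T].subtype := by
      refine Subgroup.zpowers_le.2 ?_
      obtain ⟨w, hw, hwT⟩ := hTE
      refine ⟨g * w * g⁻¹, ⟨w, hw, rfl⟩, ?_⟩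
      show (g : G) * (w : G) * (g : G)⁻¹ = T
      rw [show (w : G) = T from hwT, ← Subgroup.mem_centralizer_iff.1 g.2 T (Subgroup.mem_zpowers T),
        mul_inv_cancel_right]
    have h2 := rel_up hM hloc hgf hQE' hQD
    dsimp only at h2
    rw [hup, ← conjIdx_upBlock (twE P' g') g (hloc.cen_up hQE) (hloc.cen_up hQE')] at h2
    exact (mem_autGroup hEP).2 ((hSys.2 _ _).2 ⟨hEP, (g : G), hβy, le_of_rel h2, _, h1, h2⟩)
  · rw [hβy, hy, ← Subgroup.mem_centralizer_iff.1 g.2 T (Subgroup.mem_zpowers T),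
      mul_inv_cancel_right]

end TwNorm

end Cfsg.Lib.Block
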