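import Cfsg.Agent.Lib.Block.RegularFunctional
import Cfsg.Agent.Lib.Block.BlockModules
import Cfsg.Agent.Lib.Block.PermTrace
import Cfsg.Agent.Lib.Block.SubsectionApps

/-!
# The twisted rank of a union of blocks is a natural number

If an automorphism fixes the idempotent of a union of blocks, it permutes the traces of the simple
modules there, which reduce an integral basis of the span of the regular parts.
-/

set_option autoImplicit false
set_option linter.unusedSectionVars false
set_option maxHeartbeats 1000000

namespace Cfsg.Lib.Block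

open Cfsg
open scoped ComplexConjugate MonoidAlgebra

universe u

section Trace

variable {p : ℕ} {M : Ideal AlgInt} [Fact p.Prime] (hM : IsPModular p M)

include hM in
/-- An integral idempotent whose reduction has a permuted basis of the image has as twisted trace
the number of fixed members of the basis. -/
theorem sum_twist_idem {X : Type u} [Fintype X] [DecidableEq X] (E : Matrix X X ℂ)
    (hE : ∀ a b, E a b ∈ locRing hM) (hidem : E * E = E) (σ : Equiv.Perm X)
    (hcomm : ∀ a b, E (σ a) (σ b) = E a b) {ι : Type u} [Fintype ι] [DecidableEq ι]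
    (π : Equiv.Perm ι) (τ : ι → X → resField hM) (hli : LinearIndependent (resField hM) τ)
    (hπ : ∀ i x, τ (π i) x = τ i (σ x)) (hfix : ∀ i, resLin hM E hE (τ i) = τ i)
    (hspan : LinearMap.range (resLin hM E hE) ≤ Submodule.span (resField hM) (Set.range τ)) :
    ∑ x, E (σ x) x = ((Finset.univ.filter fun i => π i = i).card : ℂ) := by
  classical
  let lift : resField hM → locRing hM := Function.surjInv Ideal.Quotient.mk_surjective
  have hlift : ∀ c, resMap hM (lift c) = c := fun c =>
    Function.surjInv_eq Ideal.Quotient.mk_surjective c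
  let w : ι → X → locRing hM := fun i x => ∑ y, ⟨E x y, hE x y⟩ * lift (τ i y)
  let W : Matrix X ι ℂ := Matrix.of fun x i => (w i x : ℂ)
  have hW : W = E * Matrix.of (fun y i => (lift (τ i y) : ℂ)) := by
    ext x i
    simp [W, w, Matrix.mul_apply]
  have hres : ∀ i, (fun x => resMap hM (w i x)) = τ i := fun i => by
    conv_rhs => rw [← hfix i]
    funext x
    have := resLin_res hM E hE (fun y => lift (τ i y)) x
    simp only [hlift] at this
    exact this.symm
  have hind : LinearIndependent ℂ (fun i x => (w i x : ℂ)) := by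
    refine linearIndependent_of_res hM w ?_
    rw [show (fun i x => resMap hM (w i x)) = τ from funext hres]
    exact hli
  have hrk : ∀ (F : Matrix X X ℂ) (hF : ∀ a b, F a b ∈ locRing hM),
      Module.finrank (resField hM) (LinearMap.range (resLin hM F hF)) ≤
        Module.finrank ℂ (LinearMap.range F.mulVecLin) := by
    intro F hF
    have h := finrank_res_le hM (fun b a => (⟨F a b, hF a b⟩ : locRing hM))
      (LinearMap.range F.mulVecLin) fun b => ⟨Pi.single b 1, by
        rw [Matrix.mulVecLin_apply, Matrix.mulVec_single_one]; rfl⟩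
    have e : LinearMap.range (resLin hM F hF) = Submodule.span (resField hM)
        (Set.range fun b a => resMap hM ⟨F a b, hF a b⟩) := by
      rw [resLin, Matrix.range_mulVecLin]
      rfl
    rw [e]
    exact h
  have hE1 : ∀ a b, (1 - E) a b ∈ locRing hM := fun a b => by
    rw [Matrix.sub_apply, Matrix.one_apply]
    split_ifs
    · exact sub_mem (one_mem _) (hE a b)
    · exact sub_mem (zero_mem _) (hE a b)
  have hsumk : Fintype.card X ≤ Module.finrank (resField hM) (LinearMap.range (resLin hM E hE)) +
      Module.finrank (resField hM) (LinearMap.range (resLin hM (1 - E) hE1)) := by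
    rw [← Module.finrank_fintype_fun_eq_card (resField hM), ← finrank_top (resField hM) (X → _)]
    refine (Submodule.finrank_mono fun v _ => ?_).trans
      (le_trans le_self_add (Submodule.finrank_sup_add_finrank_inf_eq _ _).le)
    refine Submodule.mem_sup.2 ⟨_, LinearMap.mem_range_self _ v, _,
      LinearMap.mem_range_self _ v, ?_⟩
    simp only [resLin, Matrix.mulVecLin_apply, ← Matrix.add_mulVec]
    convert Matrix.one_mulVec v using 2
    ext a b
    rw [Matrix.add_apply, Matrix.of_apply, Matrix.of_apply, ← map_add, Matrix.one_apply]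
    have : (⟨E a b, hE a b⟩ + ⟨(1 - E) a b, hE1 a b⟩ : locRing hM) = if a = b then 1 else 0 := by
      refine Subtype.ext ?_
      split_ifs with hab <;> simp [Matrix.one_apply, hab]
    rw [this]
    split_ifs <;> simp
  have hsumC : Module.finrank ℂ (LinearMap.range E.mulVecLin) +
      Module.finrank ℂ (LinearMap.range (1 - E).mulVecLin) = Fintype.card X := by
    have hidemC : E.mulVecLin ∘ₗ E.mulVecLin = E.mulVecLin := by
      rw [← Matrix.mulVecLin_mul, hidem]
    have hone : (1 - E).mulVecLin = LinearMap.id - E.mulVecLin := by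
      refine LinearMap.ext fun v => ?_
      simp [Matrix.sub_mulVec]
    have := (finrank_map_idem_add _ hidemC ⊤).2 le_top
    rw [Submodule.map_top, Submodule.map_top, finrank_top, Module.finrank_fintype_fun_eq_card,
      ← hone] at this
    exact this
  have hcard : Module.finrank ℂ (LinearMap.range E.mulVecLin) ≤ Fintype.card ι := by
    have h1 := hrk (1 - E) hE1
    have h2 := (Submodule.finrank_mono hspan).trans (finrank_range_le_card τ)
    omega
  let V := LinearMap.range E.mulVecLin
  have hmem : ∀ i, (fun x => (w i x : ℂ)) ∈ V :=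
    fun i => ⟨fun y => (lift (τ i y) : ℂ), funext fun x => by
      simp [w, Matrix.mulVec, dotProduct]⟩
  have hspanC : Submodule.span ℂ (Set.range fun i x => (w i x : ℂ)) = V := by
    refine Submodule.eq_of_le_of_finrank_le
      (Submodule.span_le.2 (by rintro _ ⟨i, rfl⟩; exact hmem i)) ?_
    rw [finrank_span_eq_card hind]
    exact hcard
  have hz : ∀ y : X, ∃ c : ι → ℂ, ∑ i, c i • (fun x => (w i x : ℂ)) = fun x => E x y := by
    intro y
    refine (Submodule.mem_span_range_iff_exists_fun ℂ).1 ?_
    rw [hspanC]
    refine ⟨Pi.single y 1, ?_⟩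
    rw [Matrix.mulVecLin_apply, Matrix.mulVec_single_one]
    rfl
  choose z hz using hz
  let Z : Matrix ι X ℂ := Matrix.of fun i y => z y i
  have hEW : ∀ a b, E a b = ∑ i, W a i * Z i b := fun a b => by
    have := congrFun (hz b) a
    simp only [Finset.sum_apply, Pi.smul_apply, smul_eq_mul] at this
    rw [← this]
    exact Finset.sum_congr rfl fun i _ => mul_comm _ _
  have hEW' : E = W * Z := Matrix.ext fun a b => by rw [Matrix.mul_apply, hEW]
  have hWinj : Function.Injective W.mulVec := by
    rw [Matrix.mulVec_injective_iff]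
    exact hind
  have hZW : Z * W = 1 := by
    have h1 : W * (Z * W) = W * (1 : Matrix ι ι ℂ) := by
      rw [← Matrix.mul_assoc, ← hEW', Matrix.mul_one, hW, ← Matrix.mul_assoc, hidem]
    refine Matrix.ext_iff_mulVec.2 fun v => hWinj ?_
    rw [Matrix.mulVec_mulVec, Matrix.mulVec_mulVec, h1]
  have hperm : ∀ x i, W (σ x) i = W x (π i) := by
    intro x i
    rw [hW, Matrix.mul_apply, Matrix.mul_apply]
    refine (Fintype.sum_equiv σ _ _ fun y => ?_).symm
    rw [Matrix.of_apply, Matrix.of_apply, hcomm, hπ]
  calc ∑ x, E (σ x) x = ∑ x, ∑ i, W x (π i) * Z i x :=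
        Finset.sum_congr rfl fun x _ => by
          rw [hEW]; exact Finset.sum_congr rfl fun i _ => by rw [hperm]
    _ = ∑ i, (Z * W) i (π i) := by
        rw [Finset.sum_comm]
        refine Finset.sum_congr rfl fun i _ => ?_
        rw [Matrix.mul_apply]
        exact Finset.sum_congr rfl fun x _ => mul_comm _ _
    _ = _ := by
        rw [hZW, Finset.card_filter, Nat.cast_sum]
        refine Finset.sum_congr rfl fun i _ => ?_
        rw [Matrix.one_apply]
        by_cases h : π i = i
        · rw [if_pos h, if_pos h.symm, Nat.cast_one]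
        · rw [if_neg h, if_neg (Ne.symm h), Nat.cast_zero]

end Trace

section Blocks

variable {p : ℕ} {M : Ideal AlgInt} {H : Type u} [Group H] [Fintype H] [Fact p.Prime]
  (hM : IsPModular p M) (S : Set (IrrCharacter H))

/-- The class of the regular part of an element. -/
noncomputable def regCls (p : ℕ) [Fact p.Prime] (g : H) : ConjClasses H :=
  ConjClasses.mk (pReg p g)

theorem pReg_eq_of_isPRegular {g : H} (hg : IsPRegular p g) : pReg p g = g := by
  have h := pPt_mul_pReg (p := p) g
  rw [(pPt_eq_one_iff g).2 hg, one_mul] at h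
  exact h

theorem pReg_mulEquiv {H' : Type u} [Group H'] [Fintype H'] (e : H ≃* H') (g : H) :
    pReg p (e g) = e (pReg p g) := by
  obtain ⟨j, hj⟩ := exists_orderOf_pPt (p := p) g
  have h1 : e (pPt p g) = pPt p (e g) := eq_pPt (y := e (pReg p g))
    (by rw [← map_mul, pPt_mul_pReg]) ((pPt_commute_pReg g).map e) (k := j)
    (by rw [e.orderOf_eq, hj]) (by rw [e.orderOf_eq]; exact not_dvd_orderOf_pReg g)
  have h2 := pPt_mul_pReg (p := p) (e g)
  rw [← h1] at h2
  refine mul_left_cancel (a := e (pPt p g)) ?_
  rw [h2, ← map_mul, pPt_mul_pReg]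

theorem regCls_conj (x g : H) : regCls p (x * g * x⁻¹) = regCls p g := by
  rw [regCls, regCls, ConjClasses.mk_eq_mk_iff_isConj]
  exact (isConj_iff.2 ⟨x, (pReg_mulEquiv (MulAut.conj x) g).symm⟩).symm

theorem regCls_mul_comm (x y : H) : regCls p (x * y) = regCls p (y * x) := by
  rw [← regCls_conj x (y * x)]
  congr 1
  group

theorem regCls_pReg (g : H) : regCls p (pReg p g) = regCls p g := by
  rw [regCls, regCls, pReg_eq_of_isPRegular (not_dvd_orderOf_pReg g)]

theorem trace_conj {k : Type} [Field k] {n : ℕ} (ρ : Representation k H (Fin n → k)) (x g : H) :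
    LinearMap.trace k _ (ρ (x * g * x⁻¹)) = LinearMap.trace k _ (ρ g) := by
  rw [map_mul, LinearMap.trace_mul_comm, ← map_mul]
  congr 2
  group

/-- The representatives of the regular classes. -/
abbrev RegX (p : ℕ) [Fact p.Prime] (H : Type u) [Group H] [Fintype H] : Type u :=
  ↥(Set.range (regCls (H := H) p))

/-- The chosen element of a regular class. -/
noncomputable def regRep (x : RegX p H) : H := pReg p (Exists.choose x.2)

theorem regRep_regular (x : RegX p H) : IsPRegular p (regRep x) := not_dvd_orderOf_pReg _

theorem regCls_regRep (x : RegX p H) : regCls p (regRep x) = x.1 := by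
  rw [regRep, regCls_pReg]
  exact Exists.choose_spec x.2

/-- The regular class of an element. -/
noncomputable def toX (g : H) : RegX p H := ⟨regCls p g, g, rfl⟩

theorem toX_regRep (x : RegX p H) : toX (regRep x) = x := Subtype.ext (regCls_regRep x)

theorem exists_conj_regRep (g : H) : ∃ c : H, c * pReg p g * c⁻¹ = regRep (toX (p := p) g) := by
  have h : regCls p (regRep (toX (p := p) g)) = regCls p g := regCls_regRep (toX (p := p) g)
  refine isConj_iff.1 (ConjClasses.mk_eq_mk_iff_isConj.1 ?_)
  unfold regCls at h
  rw [pReg_eq_of_isPRegular (regRep_regular _)] at h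
  exact h.symm

/-- The kernel on regular classes of the projection to a union of blocks. -/
noncomputable def classKer (p : ℕ) [Fact p.Prime] (S : Set (IrrCharacter H)) :
    Matrix (RegX p H) (RegX p H) ℂ :=
  haveI := Classical.decEq (RegX p H)
  Matrix.of fun x y => ∑ z : H, blockCoeff S z * if toX (z * regRep x) = y then 1 else 0

variable (hS : VInt hM (indVec S))

include hS in
theorem classKer_mem (x y : RegX p H) : classKer p S x y ∈ locRing hM := by
  refine sum_mem fun z _ => mul_mem ?_ ?_
  · rw [← zc_indVec]; exact hS z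
  · split_ifs
    · exact one_mem _
    · exact zero_mem _

theorem isClassFunction_toX (F : RegX p H → ℂ) :
    IsClassFunction H fun g => F (toX (p := p) g) :=
  fun g x => congrArg F (Subtype.ext (regCls_conj x g))

theorem classKer_sum [Fintype (RegX p H)] (F : RegX p H → ℂ) (x : RegX p H) :
    ∑ y, classKer p S x y * F y = blockPart S (fun g => F (toX (p := p) g)) (regRep x) := by
  classical
  rw [blockPart_eq_sum S (isClassFunction_toX F)]
  simp only [classKer, Matrix.of_apply, Finset.sum_mul]
  rw [Finset.sum_comm]
  refine Finset.sum_congr rfl fun z _ => ?_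
  simp [mul_assoc, ← Finset.mul_sum]

theorem isClassFunction_blockPart {θ : H → ℂ} (hθ : IsClassFunction H θ) :
    IsClassFunction H (blockPart S θ) := fun g x => by
  rw [blockPart_eq_sum S hθ, blockPart_eq_sum S hθ]
  refine Fintype.sum_equiv (MulAut.conj x⁻¹).toEquiv _ _ fun z => ?_
  simp only [MulEquiv.toEquiv_eq_coe, MulEquiv.coe_toEquiv, MulAut.conj_apply, inv_inv]
  have e : blockCoeff S (x⁻¹ * z * x) = blockCoeff S z := by
    have := blockCoeff_conj_invariant S (x⁻¹ * z * x) x
    rw [show x * (x⁻¹ * z * x) * x⁻¹ = z by group] at this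
    exact this.symm
  rw [e, ← hθ (x⁻¹ * z * x * g) x]
  congr 2
  group

include hS in
theorem classKer_idem [Fintype (RegX p H)] : classKer p S * classKer p S = classKer p S := by
  classical
  ext x y
  rw [Matrix.mul_apply, classKer_sum S (fun z => classKer p S z y)]
  set F : RegX p H → ℂ := fun w => if w = y then 1 else 0 with hF
  set φ : H → ℂ := fun g => F (toX (p := p) g) with hφdef
  have hcl : IsClassFunction H φ := isClassFunction_toX F
  have hker : ∀ z, classKer p S z y = blockPart S φ (regRep z) := fun z => by
    rw [hφdef, ← classKer_sum S F z]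
    simp [hF]
  simp only [hker]
  have hψ := isClassFunction_blockPart S hcl
  have hreg : ∀ g : H, IsPRegular p g →
      blockPart S φ (regRep (toX (p := p) g)) = blockPart S φ g := fun g hg => by
    obtain ⟨c, hc⟩ := exists_conj_regRep (p := p) g
    rw [pReg_eq_of_isPRegular hg] at hc
    rw [← hc, hψ g c]
  have h1 : blockPart S (fun g => blockPart S φ (regRep (toX (p := p) g))) (regRep x) =
      blockPart S (blockPart S φ) (regRep x) := by
    rw [blockPart_eq_regKer_sum, blockPart_eq_regKer_sum]
    congr 1
    refine Finset.sum_congr rfl fun g _ => ?_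
    by_cases hg : IsPRegular p g
    · rw [hreg g hg]
    · rw [regKer_eq_zero hM hS (regRep_regular x) hg, mul_zero, mul_zero]
  rw [h1]
  have h2 : ∀ η : IrrCharacter H, η ∈ S →
      classInner (blockPart S φ) (η : H → ℂ) = classInner φ (η : H → ℂ) := by
    intro η hη
    have e : blockPart S φ = ∑ χ ∈ S.toFinset, classInner φ (χ : H → ℂ) • (χ : H → ℂ) := by
      funext g
      simp only [blockPart, finsum_mem_eq_toFinset_sum, Finset.sum_apply, Pi.smul_apply,
        smul_eq_mul]
      refine Finset.sum_congr rfl fun χ _ => ?_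
      simp only [classInner]
      congr 2
      exact Finset.sum_congr (by ext; simp) fun _ _ => rfl
    rw [e, Char.classInner_sum_left, Finset.sum_eq_single η]
    · rw [Char.classInner_smul_left, Char.classInner_irr_self η.2, mul_one]
    · intro χ _ hne
      rw [Char.classInner_smul_left, Char.classInner_irr χ.2 η.2,
        if_neg (fun h => hne (Subtype.ext h)), mul_zero]
    · intro h
      exact absurd (Set.mem_toFinset.2 hη) h
  simp only [blockPart, finsum_mem_eq_toFinset_sum]
  refine Finset.sum_congr rfl fun η hη => ?_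
  have := h2 η (Set.mem_toFinset.1 hη)
  simp only [classInner, blockPart, finsum_mem_eq_toFinset_sum] at this ⊢
  congr 1
  convert this using 3 <;> ext <;> simp

theorem res_blockCoeff (z : H) : (blkA hM S).coeff z = res hM (blockCoeff S z) := by
  rw [blkA, coeff_cV, zc_indVec]

include hS in
theorem blkA_idem_of_vInt : IsIdempotentElem (blkA hM S) := by
  rw [IsIdempotentElem, blkA, ← cV_mul hM hS hS, indVec_mul_indVec, Set.inter_self]

theorem blockOp_univ {W : Type*} [AddCommGroup W] [Module (resField hM) W]
    (ρ : Representation (resField hM) H W) : blockOp hM Set.univ ρ = 1 := by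
  rw [← asAlgebraHom_blkA, show blkA hM (Set.univ : Set (IrrCharacter H)) = 1 from ?_, map_one]
  rw [blkA, show indVec (Set.univ : Set (IrrCharacter H)) = 1 from funext fun χ => by simp [indVec]]
  exact cV_one hM

include hS in
theorem blockOp_eq_one_or_zero {n : ℕ} (σ : Representation (resField hM) H (Fin n → resField hM))
    (hσ : σ.IsIrreducible) : blockOp hM S σ = 1 ∨ blockOp hM S σ = 0 := by
  have hid : blockOp hM S σ * blockOp hM S σ = blockOp hM S σ := by
    rw [← asAlgebraHom_blkA, ← map_mul, (blkA_idem_of_vInt hM S hS).eq]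
  have hcomm : ∀ g v, σ g (blockOp hM S σ v) = blockOp hM S σ (σ g v) := fun g v => by
    rw [← asAlgebraHom_blkA, ← Representation.asAlgebraHom_single_one, ← Module.End.mul_apply,
      ← map_mul, blkA, ← (cV_commute hM (indVec S) _).eq, map_mul]
    rfl
  rcases ((Cfsg.Lib.Char.isIrreducible_iff_submodule σ).1 hσ).2
      (LinearMap.range (blockOp hM S σ))
      (by rintro g _ ⟨v, rfl⟩; exact ⟨σ g v, (hcomm g v).symm⟩) with h | h
  · right
    refine LinearMap.ext fun v => ?_
    have : blockOp hM S σ v ∈ (⊥ : Submodule _ _) := h ▸ LinearMap.mem_range_self _ v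
    exact (Submodule.mem_bot _).1 this
  · left
    refine LinearMap.ext fun v => ?_
    obtain ⟨a, rfl⟩ : v ∈ LinearMap.range (blockOp hM S σ) := h ▸ Submodule.mem_top
    exact LinearMap.congr_fun hid a

/-- The traces of the simple modules of the union of blocks. -/
def TraceSet : Set (RegX p H → resField hM) :=
  {τ | ∃ (n : ℕ) (ρ : Representation (resField hM) H (Fin n → resField hM)),
    ρ.IsIrreducible ∧ blockOp hM S ρ = 1 ∧
      ∀ x, τ x = LinearMap.trace (resField hM) _ (ρ (regRep x))}

theorem trace_eq_toX {n : ℕ} (ρ : Representation (resField hM) H (Fin n → resField hM)) (g : H) :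
    LinearMap.trace (resField hM) _ (ρ g) =
      LinearMap.trace (resField hM) _ (ρ (regRep (toX (p := p) g))) := by
  haveI := charP_resField hM
  haveI : IsAlgClosed (resField hM) := isAlgClosed_resField hM
  obtain ⟨c, hc⟩ := exists_conj_regRep (p := p) g
  rw [← hc, trace_conj]
  conv_lhs => rw [← pPt_mul_pReg (p := p) g]
  obtain ⟨a, ha⟩ := exists_orderOf_pPt (p := p) g
  exact trace_mul_eq_of_unipotent ρ (pPt_commute_pReg g) (a := a)
    (by rw [← ha, pow_orderOf_eq_one])

theorem traceSet_linearIndependent :
    LinearIndependent (resField hM) (fun τ : TraceSet hM S => (τ : RegX p H → resField hM)) := by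
  classical
  haveI : IsAlgClosed (resField hM) := isAlgClosed_resField hM
  rw [linearIndependent_iff']
  intro s c hc i hi
  let n : s → ℕ := fun j => j.1.2.choose
  let ρ : ∀ j : s, Representation (resField hM) H (Fin (n j) → resField hM) :=
    fun j => j.1.2.choose_spec.choose
  have hρ : ∀ j : s, (ρ j).IsIrreducible ∧ blockOp hM S (ρ j) = 1 ∧
      ∀ x, (j.1 : RegX p H → resField hM) x = LinearMap.trace (resField hM) _ (ρ j (regRep x)) :=
    fun j => j.1.2.choose_spec.choose_spec
  refine linearIndependent_trace ρ (fun j => (hρ j).1) (fun a b hab => ⟨fun e => hab ?_⟩)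
    (fun j : s => c j.1) (fun g => ?_) ⟨i, hi⟩
  · refine Subtype.ext (Subtype.ext (funext fun x => ?_))
    rw [(hρ a).2.2, (hρ b).2.2]
    have he : ∀ v, e.toLinearEquiv (ρ a (regRep x) v) = ρ b (regRep x) (e.toLinearEquiv v) :=
      fun v => LinearMap.congr_fun (e.isIntertwining' (regRep x)) v
    rw [show ρ b (regRep x) = e.toLinearEquiv.conj (ρ a (regRep x)) from LinearMap.ext fun v => by
      rw [LinearEquiv.conj_apply_apply, he, LinearEquiv.apply_symm_apply],
      LinearMap.trace_conj']
  · have h := congrFun hc (toX (p := p) g)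
    simp only [Finset.sum_apply, Pi.smul_apply, smul_eq_mul, Pi.zero_apply] at h
    rw [← h, ← Finset.sum_coe_sort s]
    exact Finset.sum_congr rfl fun j _ => by rw [trace_eq_toX, (hρ j).2.2]

/-- Evaluation of a function on regular classes at a group algebra element in the block. -/
noncomputable def blkEval (h : RegX p H → resField hM) : KGA hM H →ₗ[resField hM] resField hM :=
  evalFun (fun g => h (toX (p := p) g)) ∘ₗ LinearMap.mulLeft (resField hM) (blkA hM S)

theorem blkEval_comm (h : RegX p H → resField hM) (a b : KGA hM H) :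
    blkEval hM S h (a * b) = blkEval hM S h (b * a) := by
  have hc : ∀ x y : H, (fun g => h (toX (p := p) g)) (x * y) = h (toX (p := p) (y * x)) :=
    fun x y => congrArg h (Subtype.ext (regCls_mul_comm x y))
  simp only [blkEval, LinearMap.comp_apply, LinearMap.mulLeft_apply]
  rw [← mul_assoc, evalFun_mul_comm _ hc, ← mul_assoc]
  rw [show b * blkA hM S = blkA hM S * b from (cV_commute hM (indVec S) b).eq.symm, mul_assoc]

theorem blkEval_nilpotent [Fintype (RegX p H)] (h : RegX p H → resField hM) {a : KGA hM H}
    (ha : IsNilpotent (blkA hM S * a)) : blkEval hM S h a = 0 := by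
  classical
  haveI := charP_resField hM
  have e : h = ∑ c, h c • fun x => if x = c then (1 : resField hM) else 0 := by
    funext x
    simp [Finset.sum_apply]
  have key : ∀ c : RegX p H,
      evalFun (fun g => if toX (p := p) g = c then (1 : resField hM) else 0)
        (blkA hM S * a) = 0 := fun c =>
    evalFun_eq_zero_of_nilpotent (p := p) _
      (fun x y => by rw [show toX (p := p) (x * y) = toX (y * x) from
        Subtype.ext (regCls_mul_comm x y)])
      (fun g => by split_ifs <;> simp [(Fact.out : p.Prime).ne_zero])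
      (fun g => by rw [show toX (p := p) (pReg p g) = toX g from Subtype.ext (regCls_pReg g)]) ha
  rw [e]
  simp only [blkEval, LinearMap.comp_apply, LinearMap.mulLeft_apply, evalFun_apply,
    Finset.sum_apply, Pi.smul_apply, smul_eq_mul, Finset.mul_sum]
  rw [Finset.sum_comm]
  refine Finset.sum_eq_zero fun c _ => ?_
  have := key c
  rw [evalFun_apply] at this
  rw [Finset.sum_congr rfl fun g _ => mul_left_comm _ (h c) _, ← Finset.mul_sum, this, mul_zero]

theorem blkEval_single (h : RegX p H → resField hM) (g : H) :
    blkEval hM S h (MonoidAlgebra.single g 1) =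
      ∑ z : H, res hM (blockCoeff S z) * h (toX (p := p) (z * g)) := by
  simp only [blkEval, LinearMap.comp_apply, LinearMap.mulLeft_apply, evalFun_apply]
  refine (Fintype.sum_equiv (Equiv.mulRight g) _ _ fun z => ?_).symm
  rw [Equiv.coe_mulRight, coeff_mul_single', mul_inv_cancel_right, res_blockCoeff]

include hS in
/-- The evaluations are combinations of the traces. -/
theorem blkEval_mem_span [Fintype (RegX p H)] (h : RegX p H → resField hM) :
    (fun x => blkEval hM S h (MonoidAlgebra.single (regRep x) 1)) ∈
      Submodule.span (resField hM) (TraceSet hM S) := by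
  classical
  haveI := isAlgClosed_resField hM
  haveI : Finite (TraceSet hM S) := (traceSet_linearIndependent hM S).finite
  letI := Fintype.ofFinite (TraceSet hM S)
  let n : TraceSet hM S → ℕ := fun j => j.2.choose
  let ρ : ∀ j : TraceSet hM S, Representation (resField hM) H (Fin (n j) → resField hM) :=
    fun j => j.2.choose_spec.choose
  have hρ : ∀ j, (ρ j).IsIrreducible ∧ blockOp hM S (ρ j) = 1 ∧
      ∀ x, (j : RegX p H → resField hM) x = LinearMap.trace (resField hM) _ (ρ j (regRep x)) :=
    fun j => j.2.choose_spec.choose_spec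
  have hne : ∀ a b, a ≠ b → IsEmpty ((ρ a).Equiv (ρ b)) := fun a b hab => ⟨fun e => hab (by
    refine Subtype.ext (funext fun x => ?_)
    rw [(hρ a).2.2, (hρ b).2.2]
    rw [show ρ b (regRep x) = e.toLinearEquiv.conj (ρ a (regRep x)) from LinearMap.ext fun v => by
      rw [LinearEquiv.conj_apply_apply,
        show e.toLinearEquiv (ρ a (regRep x) (e.toLinearEquiv.symm v)) =
          ρ b (regRep x) (e.toLinearEquiv (e.toLinearEquiv.symm v)) from
            LinearMap.congr_fun (e.isIntertwining' (regRep x)) _,
        LinearEquiv.apply_symm_apply],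
      LinearMap.trace_conj'])⟩
  have hker : ∀ a : KGA hM H, (∀ j, (ρ j).asAlgebraHom a = 0) → blkEval hM S h a = 0 := by
    intro a ha
    refine blkEval_nilpotent hM S h ⟨Module.finrank (resField hM) (KGA hM H), ?_⟩
    have hnil := pow_finrank_eq_zero (B := (Set.univ : Set (IrrCharacter H))) hM
      (c := blkA hM S * a) ?_ _ (lmulRep hM (A := H)) rfl (blockOp_univ hM _)
    · have := LinearMap.congr_fun hnil 1
      rw [← map_pow, lmulRep_asAlgebraHom, mul_one, LinearMap.zero_apply] at this
      exact this
    intro m σ hσ _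
    rw [map_mul, asAlgebraHom_blkA]
    rcases blockOp_eq_one_or_zero hM S hS σ hσ with h1 | h0
    · let τ : TraceSet hM S := ⟨fun x => LinearMap.trace (resField hM) _ (σ (regRep x)),
        m, σ, hσ, h1, fun _ => rfl⟩
      obtain ⟨e⟩ : Nonempty ((ρ τ).Equiv σ) := by
        by_contra hcon
        let nn : ULift.{u} Bool → ℕ := fun b => match b.down with | true => n τ | false => m
        let rr : ∀ b : ULift.{u} Bool,
            Representation (resField hM) H (Fin (nn b) → resField hM) := fun b =>
          match b with | ⟨true⟩ => ρ τ | ⟨false⟩ => σ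
        have := linearIndependent_trace rr
          (fun b => match b with | ⟨true⟩ => (hρ τ).1 | ⟨false⟩ => hσ)
          (fun i j hij => match i, j, hij with
            | ⟨true⟩, ⟨false⟩, _ => ⟨fun e => hcon ⟨e⟩⟩
            | ⟨false⟩, ⟨true⟩, _ => ⟨fun e => hcon ⟨e.symm⟩⟩
            | ⟨true⟩, ⟨true⟩, h => absurd rfl h
            | ⟨false⟩, ⟨false⟩, h => absurd rfl h)
          (fun b => match b.down with | true => 1 | false => -1) (fun g => ?_) ⟨true⟩
        · exact one_ne_zero this
        · rw [← Equiv.ulift.symm.sum_comp, Fintype.sum_bool]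
          show (1 : resField hM) * LinearMap.trace _ _ (ρ τ g) +
            (-1) * LinearMap.trace _ _ (σ g) = 0
          rw [trace_eq_toX hM (ρ τ), trace_eq_toX hM σ, ← (hρ τ).2.2]
          simp [τ]
      have hzero : σ.asAlgebraHom a = 0 := by
        refine LinearMap.ext fun v => ?_
        obtain ⟨w, rfl⟩ := e.toLinearEquiv.surjective v
        rw [← LinearEquiv.coe_coe, ← map_asAlgebraHom e.toLinearEquiv.toLinearMap
          (fun g x => LinearMap.congr_fun (e.isIntertwining' g) x), ha τ]
        simp
      rw [hzero, mul_zero]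
    · rw [h0, zero_mul]
  have hpos : ∀ j, 0 < n j := fun j => by
    by_contra h0
    have h0' : n j = 0 := Nat.eq_zero_of_not_pos h0
    haveI : IsEmpty (Fin (n j)) := h0' ▸ Fin.isEmpty'
    haveI := ((Cfsg.Lib.Char.isIrreducible_iff_submodule (ρ j)).1 (hρ j).1).1
    exact (not_subsingleton (Fin (n j) → resField hM)) inferInstance
  let unit : ∀ j, Fin (n j) → Fin (n j) → Module.End (resField hM) (Fin (n j) → resField hM) :=
    fun j a b => (LinearMap.proj b).smulRight (Pi.single a (1 : resField hM))
  have hex : ∀ j a b, ∃ x : KGA hM H, ∀ i, (ρ i).asAlgebraHom x =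
      Pi.single (M := fun i => Module.End (resField hM) (Fin (n i) → resField hM))
        j (unit j a b) i :=
    fun j a b => exists_acts_as ρ (fun i => (hρ i).1) hne _
  choose A hA using hex
  let z : ∀ j, Fin (n j) := fun j => ⟨0, hpos j⟩
  let c : TraceSet hM S → resField hM := fun j => blkEval hM S h (A j (z j) (z j))
  let f : KGA hM H →ₗ[resField hM] resField hM := blkEval hM S h -
    ∑ j, c j • (LinearMap.trace (resField hM) _ ∘ₗ (ρ j).asAlgebraHom.toLinearMap)
  have fcomm : ∀ a b, f (a * b) = f (b * a) := fun a b => by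
    simp only [f, LinearMap.sub_apply, LinearMap.sum_apply, LinearMap.smul_apply,
      LinearMap.comp_apply, AlgHom.toLinearMap_apply, map_mul, blkEval_comm hM S h a b,
      LinearMap.trace_mul_comm (resField hM) ((ρ _).asAlgebraHom a)]
  have fker : ∀ a, (∀ j, (ρ j).asAlgebraHom a = 0) → f a = 0 := fun a ha => by
    simp [f, ha, hker a ha]
  have feq : ∀ a b, (∀ j, (ρ j).asAlgebraHom a = (ρ j).asAlgebraHom b) → f a = f b :=
    fun a b hab => sub_eq_zero.1 (by rw [← map_sub]; exact fker _ fun j => by simp [hab])
  have hunit : ∀ j a b b' d, unit j a b * unit j b' d = if b = b' then unit j a d else 0 := by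
    intro j a b b' d
    refine LinearMap.ext fun v => ?_
    by_cases hbb : b = b'
    · subst hbb; simp [unit]
    · simp [unit, hbb, Pi.single_eq_of_ne hbb]
  have htr : ∀ j, LinearMap.trace (resField hM) _ (unit j (z j) (z j)) = 1 := fun j => by
    simp [unit]
  have hbase : ∀ j, f (A j (z j) (z j)) = 0 := fun j => by
    simp only [f, LinearMap.sub_apply, LinearMap.sum_apply, LinearMap.smul_apply,
      LinearMap.comp_apply, AlgHom.toLinearMap_apply, hA]
    rw [Finset.sum_eq_single j]
    · simp [htr, c]
    · intro i _ hi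
      simp [Pi.single_eq_of_ne hi]
    · simp
  have hprod : ∀ j a b b' d i, (ρ i).asAlgebraHom (A j a b * A j b' d) =
      Pi.single (M := fun i => Module.End (resField hM) (Fin (n i) → resField hM))
        j (if b = b' then unit j a d else 0) i := by
    intro j a b b' d i
    rw [map_mul, hA, hA]
    rcases eq_or_ne i j with rfl | hij
    · simp [hunit]
    · simp [Pi.single_eq_of_ne hij]
  have hunitzero : ∀ j a b, f (A j a b) = 0 := by
    intro j a b
    rw [feq (A j a b) (A j a (z j) * A j (z j) b) fun i => by rw [hprod, if_pos rfl, hA], fcomm]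
    by_cases hab : b = a
    · rw [feq _ (A j (z j) (z j)) fun i => by rw [hprod, if_pos hab, hA], hbase]
    · refine fker _ fun i => ?_
      rw [hprod, if_neg hab, Pi.single_zero]
      rfl
  have hall : ∀ a, f a = 0 := by
    intro a
    have e : ∀ i, (ρ i).asAlgebraHom a = (ρ i).asAlgebraHom
        (∑ j, ∑ r, ∑ s, ((ρ j).asAlgebraHom a (Pi.single s 1) r) • A j r s) := by
      intro i
      simp only [map_sum, map_smul, hA]
      rw [Finset.sum_eq_single i]
      · refine (Pi.basisFun _ _).ext fun t => ?_
        funext w
        simp only [Pi.basisFun_apply, Pi.single_eq_same, LinearMap.sum_apply,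
          LinearMap.smul_apply, Finset.sum_apply, Pi.smul_apply, smul_eq_mul, unit,
          LinearMap.smulRight_apply, LinearMap.proj_apply]
        rw [Finset.sum_eq_single w, Finset.sum_eq_single t]
        · simp
        · intro s _ hs; simp [Pi.single_eq_of_ne hs]
        · simp
        · intro r _ hr; simp [Pi.single_eq_of_ne (Ne.symm hr)]
        · simp
      · intro j _ hj
        simp [Pi.single_eq_of_ne (Ne.symm hj)]
      · simp
    rw [feq _ _ e]
    simp [map_sum, map_smul, hunitzero]
  have hfun : (fun x => blkEval hM S h (MonoidAlgebra.single (regRep x) 1)) =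
      ∑ j, c j • (j : RegX p H → resField hM) := by
    funext x
    have := hall (MonoidAlgebra.single (regRep x) 1)
    simp only [f, LinearMap.sub_apply, LinearMap.sum_apply, LinearMap.smul_apply,
      LinearMap.comp_apply, AlgHom.toLinearMap_apply, Representation.asAlgebraHom_single_one,
      smul_eq_mul, sub_eq_zero] at this
    rw [this, Finset.sum_apply]
    exact Finset.sum_congr rfl fun j _ => by rw [Pi.smul_apply, smul_eq_mul, (hρ j).2.2]
  rw [hfun]
  exact Submodule.sum_mem _ fun j _ => Submodule.smul_mem _ _ (Submodule.subset_span j.2)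

theorem resLin_classKer [Fintype (RegX p H)] [DecidableEq (RegX p H)]
    (hint : ∀ a b, classKer p S a b ∈ locRing hM) (hS : VInt hM (indVec S))
    (h : RegX p H → resField hM) (x : RegX p H) :
    resLin hM (classKer p S) hint h x =
      blkEval hM S h (MonoidAlgebra.single (regRep x) 1) := by
  classical
  have hb : ∀ z, blockCoeff S z ∈ locRing hM := fun z => by rw [← zc_indVec]; exact hS z
  have he : ∀ y, resMap hM ⟨classKer p S x y, hint x y⟩ =
      ∑ z : H, res hM (blockCoeff S z) * if toX (z * regRep x) = y then 1 else 0 := by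
    intro y
    rw [← res_coe]
    show res hM (classKer p S x y) = _
    rw [classKer, Matrix.of_apply]
    rw [res_sum hM _ _ fun z _ => mul_mem (hb z) (by split_ifs <;> [exact one_mem _; exact zero_mem _])]
    refine Finset.sum_congr rfl fun z _ => ?_
    rw [res_mul hM (hb z) (by split_ifs <;> [exact one_mem _; exact zero_mem _])]
    congr 1
    split_ifs
    · exact res_one hM
    · exact res_zero hM
  simp only [resLin, Matrix.mulVecLin_apply, Matrix.mulVec, dotProduct, Matrix.of_apply, he,
    Finset.sum_mul, blkEval_single]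
  rw [Finset.sum_comm]
  refine Finset.sum_congr rfl fun z _ => ?_
  simp [mul_assoc, ← Finset.mul_sum]

variable (e : H ≃* H) (hinv : ∀ g, blockCoeff S (e g) = blockCoeff S g)

include hM hS hinv in
open Classical in
/-- The twisted rank is a natural number. -/
theorem exists_nat_twist :
    ∃ N : ℕ, ((Nat.card H : ℂ))⁻¹ *
      (∑ g : H, if IsPRegular p g then regKer S (e g) g else 0) = (N : ℂ) := by
  letI := Fintype.ofFinite (RegX p H)
  haveI : Finite (TraceSet hM S) := (traceSet_linearIndependent hM S).finite
  letI := Fintype.ofFinite (TraceSet hM S)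
  have hcls : ∀ g, regCls p (e g) = ConjClasses.mk (e (pReg p g)) := fun g => by
    rw [regCls, pReg_mulEquiv]
  have htoX : ∀ g g', toX (p := p) g = toX g' → toX (p := p) (e g) = toX (e g') := by
    intro g g' h
    refine Subtype.ext ?_
    show regCls p (e g) = regCls p (e g')
    rw [hcls, hcls, ConjClasses.mk_eq_mk_iff_isConj]
    obtain ⟨c, hc⟩ := isConj_iff.1 (ConjClasses.mk_eq_mk_iff_isConj.1 (congrArg Subtype.val h))
    exact isConj_iff.2 ⟨e c, by rw [← hc, map_mul, map_mul, map_inv]⟩
  have htoX' : ∀ g g', toX (p := p) (e g) = toX (e g') → toX (p := p) g = toX g' := by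
    intro g g' h
    refine Subtype.ext ?_
    show regCls p g = regCls p g'
    have h' := congrArg Subtype.val h
    change regCls p (e g) = regCls p (e g') at h'
    rw [hcls, hcls, ConjClasses.mk_eq_mk_iff_isConj] at h'
    rw [regCls, regCls, ConjClasses.mk_eq_mk_iff_isConj]
    obtain ⟨c, hc⟩ := isConj_iff.1 h'
    exact isConj_iff.2 ⟨e.symm c, e.injective (by simpa using hc)⟩
  let f : RegX p H → RegX p H := fun x => toX (e (regRep x))
  have hf : Function.Bijective f := by
    refine Finite.injective_iff_bijective.1 fun a b hab => ?_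
    have := htoX' _ _ hab
    rwa [toX_regRep, toX_regRep] at this
  set σ : Equiv.Perm (RegX p H) := Equiv.ofBijective f hf with hσdef
  have hσ : ∀ g : H, σ (toX g) = toX (e g) := fun g => htoX _ _ (toX_regRep (toX g))
  have hint := classKer_mem hM S hS
  have hcomp : ∀ φ : H → ℂ, IsClassFunction H φ → ∀ g,
      blockPart S φ (e g) = blockPart S (fun x => φ (e x)) g := fun φ hφ g => by
    have hφe : IsClassFunction H fun x => φ (e x) := fun g x => by
      simp only [map_mul, map_inv]
      exact hφ (e g) (e x)
    rw [blockPart_eq_sum S hφ, blockPart_eq_sum S hφe]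
    refine (Fintype.sum_equiv e.toEquiv _ _ fun z => ?_).symm
    simp [hinv, map_mul]
  have hregσ : ∀ a, ∃ c : H, c * e (regRep a) * c⁻¹ = regRep (σ a) := fun a => by
    obtain ⟨c, hc⟩ := exists_conj_regRep (p := p) (e (regRep a))
    rw [pReg_mulEquiv, pReg_eq_of_isPRegular (regRep_regular a), ← hσ, toX_regRep] at hc
    exact ⟨c, hc⟩
  have hval : ∀ x y, classKer p S x y =
      blockPart S (fun g => if toX (p := p) g = y then 1 else 0) (regRep x) := fun x y => by
    rw [← classKer_sum S (fun w => if w = y then (1 : ℂ) else 0) x]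
    simp
  have hcomm : ∀ a b, classKer p S (σ a) (σ b) = classKer p S a b := by
    intro a b
    obtain ⟨c, hc⟩ := hregσ a
    have hcl := isClassFunction_toX (p := p) (H := H) fun w => if w = σ b then (1 : ℂ) else 0
    rw [hval, hval, ← hc, isClassFunction_blockPart S hcl (e (regRep a)) c, hcomp _ hcl]
    congr 1
    funext x
    rw [← hσ]
    simp only [σ.injective.eq_iff]
  have hπ : ∀ τ : TraceSet hM S, (fun x => (τ : RegX p H → resField hM) (σ x)) ∈ TraceSet hM S := by
    rintro ⟨τ, n, ρ, hρ, hρS, hτ⟩
    refine ⟨n, ρ.comp e.toMonoidHom, ?_, ?_, fun x => ?_⟩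
    · obtain ⟨hnt, hsub⟩ := (Cfsg.Lib.Char.isIrreducible_iff_submodule ρ).1 hρ
      refine (Cfsg.Lib.Char.isIrreducible_iff_submodule _).2 ⟨hnt, fun U hU => hsub U fun g v hv => ?_⟩
      have := hU (e.symm g) v hv
      simpa using this
    · rw [← hρS]
      refine Fintype.sum_equiv e.toEquiv _ _ fun g => ?_
      simp [hinv]
    · obtain ⟨c, hc⟩ := hregσ x
      show τ (σ x) = _
      rw [hτ, ← hc, trace_conj]
      rfl
  have hπinj : Function.Injective fun τ : TraceSet hM S => (⟨_, hπ τ⟩ : TraceSet hM S) :=
    fun a b hab => Subtype.ext (funext fun x => by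
      have := congrFun (congrArg Subtype.val hab) (σ.symm x)
      simpa using this)
  set π : Equiv.Perm (TraceSet hM S) :=
    Equiv.ofBijective _ (Finite.injective_iff_bijective.1 hπinj) with hπdef
  have hfix : ∀ τ : TraceSet hM S, resLin hM (classKer p S) hint τ.1 = τ.1 := by
    rintro ⟨τ, n, ρ, hρ, hρS, hτ⟩
    funext x
    show _ = τ x
    rw [resLin_classKer hM S hint hS, blkEval_single, hτ x]
    have : ∀ z : H, τ (toX (z * regRep x)) =
        LinearMap.trace (resField hM) _ (ρ (z * regRep x)) := fun z => by
      show τ (toX (z * regRep x)) = _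
      rw [hτ, ← trace_eq_toX]
    simp only [this]
    rw [show LinearMap.trace (resField hM) _ (ρ (regRep x)) =
      LinearMap.trace (resField hM) _ (blockOp hM S ρ * ρ (regRep x)) by rw [hρS, one_mul]]
    simp [blockOp, Finset.sum_mul, map_sum]
  have hspan : LinearMap.range (resLin hM (classKer p S) hint) ≤
      Submodule.span (resField hM) (Set.range fun τ : TraceSet hM S => τ.1) := by
    rintro _ ⟨h, rfl⟩
    rw [Subtype.range_coe]
    rw [show resLin hM (classKer p S) hint h =
      fun x => blkEval hM S h (MonoidAlgebra.single (regRep x) 1) from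
        funext (resLin_classKer hM S hint hS h)]
    exact blkEval_mem_span hM S hS h
  refine ⟨(Finset.univ.filter fun i => π i = i).card, ?_⟩
  rw [← sum_twist_idem hM (classKer p S) hint (classKer_idem hM S hS) σ hcomm π
    (fun τ => τ.1) (traceSet_linearIndependent hM S) (fun i x => rfl) hfix hspan]
  simp only [hval, blockPart_eq_regKer_sum]
  rw [← Finset.mul_sum, Finset.sum_comm]
  congr 1
  refine Finset.sum_congr rfl fun g _ => ?_
  simp only [ite_mul, one_mul, zero_mul]
  rw [Finset.sum_ite_eq, if_pos (Finset.mem_univ _), hσ]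
  split_ifs with hg
  · obtain ⟨c, hc⟩ := exists_conj_regRep (p := p) (e g)
    rw [pReg_mulEquiv, pReg_eq_of_isPRegular hg] at hc
    simp only [regKer, ← hc]
    exact Finset.sum_congr rfl fun η _ => by rw [η.2.isClassFunction]
  · exact (regKer_eq_zero hM hS (regRep_regular _) hg).symm

end Blocks

end Cfsg.Lib.Block
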