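import Cfsg.Agent.Lib.Block.BlockCenter
import Cfsg.Agent.Lib.Block.RankOne

/-!
# Blocks with two characters

The corner at an idempotent of rank one of a block with two characters has dimension at most two,
and that dimension is a multiple of the order of a defect group.
-/

set_option autoImplicit false
set_option linter.unusedSectionVars false
set_option maxHeartbeats 1000000

namespace Cfsg.Lib.Block

open Cfsg Module
open scoped MonoidAlgebra

universe u v

variable {p : ℕ} [Fact p.Prime] {M : Ideal AlgInt} {A : Type u} [Group A] [Fintype A]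
  (hM : IsPModular p M) {B : Set (IrrCharacter A)}

/-! ## Products of radical elements -/

/-- A product of at least `dim W` elements killing the simple modules is zero on `W`. -/
theorem prod_kills_eq_zero : ∀ (m : ℕ) {W : Type v} [AddCommGroup W] [Module (resField hM) W]
      [FiniteDimensional (resField hM) W] (ρ : Representation (resField hM) A W),
      Module.finrank (resField hM) W = m → blockOp hM B ρ = 1 →
      ∀ l : List (KGA hM A), m ≤ l.length → (∀ c ∈ l, ∀ (n : ℕ)
        (σ : Representation (resField hM) A (Fin n → resField hM)),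
        σ.IsIrreducible → blockOp hM B σ = 1 → σ.asAlgebraHom c = 0) →
      ρ.asAlgebraHom l.prod = 0 := by
  classical
  intro m
  induction m using Nat.strong_induction_on with
  | _ m ih =>
    intro W _ _ _ ρ hm hb l hlen hl
    rcases subsingleton_or_nontrivial W with hW | hW
    · exact LinearMap.ext fun x => Subsingleton.elim _ _
    have hm0 : m ≠ 0 := by
      rw [← hm]
      exact Module.finrank_pos.ne'
    by_cases hirr : ρ.IsIrreducible
    · obtain ⟨n, σ, e, he, hσ⟩ := exists_coordinates ρ
      obtain ⟨c, l', rfl⟩ := List.exists_cons_of_ne_nil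
        (show l ≠ [] from fun h => hm0 (by rw [h, List.length_nil] at hlen; omega))
      have h0 := hl c List.mem_cons_self n σ (hσ hirr)
        (blockOp_eq_one_of_surjective hM (φ := e.toLinearMap) e.surjective he hb)
      have h1 : ρ.asAlgebraHom c = 0 := LinearMap.ext fun x => e.injective (by
        rw [← LinearEquiv.coe_coe, map_asAlgebraHom e.toLinearMap he, h0]; simp)
      rw [List.prod_cons, map_mul, h1, zero_mul]
    obtain ⟨U, hinv, hU0, hU⟩ := exists_sub_of_not_irreducible hirr
    have hsum := Submodule.finrank_quotient_add_finrank U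
    have hq : 0 < Module.finrank (resField hM) (W ⧸ U) := Module.finrank_pos_iff.2
      (Submodule.Quotient.nontrivial_iff.2 hU)
    have hu : 0 < Module.finrank (resField hM) U := by
      rw [Nat.pos_iff_ne_zero, ne_eq, Submodule.finrank_eq_zero]
      exact hU0
    set a := Module.finrank (resField hM) U
    have h1 := ih a (by omega) (subRep ρ U hinv) rfl
      (blockOp_eq_one_of_injective hM (φ := U.subtype) U.injective_subtype
        (subRep_subtype ρ U hinv) hb) (l.take a) (by rw [List.length_take]; omega)
      fun c hc => hl c (List.mem_of_mem_take hc)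
    have h2 := ih (Module.finrank (resField hM) (W ⧸ U)) (by omega) (quotRep ρ U hinv) rfl
      (blockOp_eq_one_of_surjective hM (φ := U.mkQ) U.mkQ_surjective (quotRep_mkQ ρ U hinv) hb)
      (l.drop a) (by rw [List.length_drop]; omega) fun c hc => hl c (List.mem_of_mem_drop hc)
    refine LinearMap.ext fun x => ?_
    rw [← List.prod_take_mul_prod_drop l a, map_mul, Module.End.mul_apply,
      LinearMap.zero_apply]
    have hy : ρ.asAlgebraHom (l.drop a).prod x ∈ U := by
      rw [← Submodule.Quotient.mk_eq_zero U, ← Submodule.mkQ_apply,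
        map_asAlgebraHom U.mkQ (quotRep_mkQ ρ U hinv), h2, LinearMap.zero_apply]
    have := map_asAlgebraHom U.subtype (subRep_subtype ρ U hinv) (l.take a).prod ⟨_, hy⟩
    rw [h1, LinearMap.zero_apply, map_zero] at this
    exact this.symm

/-- A subspace killing the simple modules has a power killed by the block. -/
theorem pow_submodule_mul_blk (hB : IsPBlock M B) (J : Submodule (resField hM) (KGA hM A))
    (hJ : ∀ c ∈ J, ∀ (n : ℕ) (σ : Representation (resField hM) A (Fin n → resField hM)),
      σ.IsIrreducible → blockOp hM B σ = 1 → σ.asAlgebraHom c = 0) :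
    ∃ N : ℕ, 0 < N ∧ ∀ x ∈ J ^ N, x * blkA hM B = 0 := by
  classical
  set ρ₀ := subRep (lmulRep hM) (blkPart hM (B := B)) (blkPart_invariant hM hB)
  set d := Module.finrank (resField hM) (blkPart hM (B := B))
  have key : ∀ n : ℕ, ∀ x ∈ J ^ (n + 1), ∀ l : List (KGA hM A),
      d ≤ (n + 1) + l.length → (∀ c ∈ l, c ∈ J) → ρ₀.asAlgebraHom (x * l.prod) = 0 := by
    intro n
    induction n with
    | zero =>
      intro x hx l hlen hl
      rw [pow_one] at hx
      rw [← List.prod_cons]
      refine prod_kills_eq_zero hM _ ρ₀ rfl (blockOp_blkPart hM hB) (x :: l)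
        (by rw [List.length_cons]; omega) fun c hc => ?_
      rcases List.mem_cons.1 hc with rfl | hc
      · exact hJ _ hx
      · exact hJ _ (hl c hc)
    | succ n ih =>
      intro x hx l hlen hl
      rw [pow_succ] at hx
      refine Submodule.mul_induction_on hx (fun y hy z hz => ?_) fun y z hy hz => ?_
      · rw [mul_assoc, ← List.prod_cons]
        refine ih y hy (z :: l) (by rw [List.length_cons]; omega) fun c hc => ?_
        rcases List.mem_cons.1 hc with rfl | hc
        · exact hz
        · exact hl c hc
      · rw [add_mul, map_add, hy, hz, add_zero]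
  refine ⟨d + 1, Nat.succ_pos _, fun x hx => ?_⟩
  have h := key d x hx [] (by simp) (by simp)
  rw [List.prod_nil, mul_one] at h
  have hmem : blkA hM B ∈ blkPart hM (B := B) := (mem_blkPart hM hB).2 (blkA_idem hM hB).eq
  have h1 := congrArg (fun f => (Submodule.subtype _) (f ⟨_, hmem⟩)) h
  rwa [map_asAlgebraHom (Submodule.subtype _) (subRep_subtype (lmulRep hM) _
      (blkPart_invariant hM hB)), LinearMap.zero_apply, map_zero, lmulRep_asAlgebraHom,
    Submodule.subtype_apply] at h1

include hM in
/-- A subspace equal to a line plus its square, with a vanishing power, is spanned by powers. -/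
theorem mul_comm_of_line_add_sq {J : Submodule (resField hM) (KGA hM A)} {x : KGA hM A} {N : ℕ}
    (hx : x ∈ J) (hJ : J ≤ (resField hM ∙ x) ⊔ J * J) (hN : ∀ y ∈ J ^ N, y = 0) :
    ∀ y ∈ J, ∀ z ∈ J, y * z = z * y := by
  classical
  set V : Submodule (resField hM) (KGA hM A) := Submodule.span (resField hM) (Set.range fun i : ℕ => x ^ i) with hV
  have hstep : ∀ n : ℕ, J ^ (n + 1) ≤ ((resField hM) ∙ x ^ (n + 1)) ⊔ J ^ (n + 2) := by
    intro n
    induction n with
    | zero => simpa [pow_two] using hJ
    | succ n ih =>
      have hxn : ((resField hM) ∙ x ^ (n + 1)) ≤ J ^ (n + 1) := by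
        rw [Submodule.span_singleton_le_iff_mem]
        exact Submodule.pow_mem_pow J hx (n + 1)
      calc J ^ (n + 1 + 1) = J ^ (n + 1) * J := pow_succ _ _
        _ ≤ (((resField hM) ∙ x ^ (n + 1)) ⊔ J ^ (n + 2)) * J := mul_le_mul_left ih J
        _ = ((resField hM) ∙ x ^ (n + 1)) * J ⊔ J ^ (n + 2 + 1) := by rw [Submodule.sup_mul, ← pow_succ]
        _ ≤ ((resField hM) ∙ x ^ (n + 1)) * (((resField hM) ∙ x) ⊔ J * J) ⊔ J ^ (n + 2 + 1) :=
            sup_le_sup_right (mul_le_mul_right hJ _) _
        _ ≤ ((resField hM) ∙ x ^ (n + 1 + 1)) ⊔ J ^ (n + 1 + 2) := by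
            rw [Submodule.mul_sup, Submodule.span_mul_span, Set.singleton_mul_singleton,
              ← pow_succ, sup_assoc]
            refine sup_le_sup_left (sup_le ?_ (le_of_eq (by congr 1))) _
            calc ((resField hM) ∙ x ^ (n + 1)) * (J * J) ≤ J ^ (n + 1) * (J * J) := mul_le_mul_left hxn _
              _ = J ^ (n + 1 + 2) := by rw [pow_add _ (n + 1) 2, pow_two]
  have hall : ∀ n : ℕ, J ≤ V ⊔ J ^ (n + 1) := by
    intro n
    induction n with
    | zero => rw [pow_one]; exact le_sup_right
    | succ n ih =>
      refine ih.trans (sup_le le_sup_left ((hstep n).trans (sup_le ?_ le_sup_right)))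
      rw [Submodule.span_singleton_le_iff_mem]
      exact Submodule.mem_sup_left (Submodule.subset_span ⟨n + 1, rfl⟩)
  have hJV : J ≤ V := by
    refine (hall N).trans (sup_le le_rfl fun y hy => ?_)
    rw [pow_succ] at hy
    have h0 : y = 0 := Submodule.mul_induction_on hy
      (fun a ha b _ => by rw [hN a ha, zero_mul]) fun a b ha hb => by rw [ha, hb, add_zero]
    rw [h0]
    exact zero_mem _
  intro y hy z hz
  have h1 : ∀ w ∈ V, ∀ i : ℕ, Commute w (x ^ i) := by
    intro w hw i
    induction hw using Submodule.span_induction with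
    | mem w hw =>
      obtain ⟨j, rfl⟩ := hw
      exact Commute.pow_pow_self x j i
    | zero => exact Commute.zero_left _
    | add a b _ _ ha hb => exact ha.add_left hb
    | smul c a _ ha => exact ha.smul_left c
  have h2 : ∀ w ∈ V, ∀ w' ∈ V, Commute w w' := by
    intro w hw w' hw'
    induction hw' using Submodule.span_induction with
    | mem w' hw' => obtain ⟨i, rfl⟩ := hw'; exact h1 w hw i
    | zero => exact Commute.zero_right _
    | add a b _ _ ha hb => exact ha.add_right hb
    | smul c a _ ha => exact ha.smul_right c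
  exact h2 y (hJV hy) z (hJV hz)

/-! ## The corner of a block with few characters -/

section Corner

variable {hM} {e : KGA hM A}

/-- The commutators of the corner. -/
noncomputable def cornerComm (e : KGA hM A) : Submodule (resField hM) (KGA hM A) :=
  Submodule.span (resField hM) {w | ∃ x y, w = e * x * e * (e * y * e) - e * y * e * (e * x * e)}

theorem cornerComm_le (he : IsIdempotentElem e) : cornerComm e ≤ cornerSub e := by
  rw [cornerComm, Submodule.span_le]
  rintro _ ⟨x, y, rfl⟩
  have : ∀ x y, e * x * e * (e * y * e) ∈ cornerSub e := fun x y => by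
    rw [show e * x * e * (e * y * e) = e * (x * (e * e) * y) * e by simp only [mul_assoc]]
    exact mem_cornerSub_mk _ _
  exact sub_mem (this x y) (this y x)

/-- The commutators of a full corner have codimension at most the number of characters. -/
theorem finrank_corner_le (hB : IsPBlock M B) (he : IsIdempotentElem e)
    (heB : blkA hM B * e = e) {N : ℕ} {a b : Fin N → KGA hM A}
    (hab : ∑ i, a i * e * b i = blkA hM B) :
    finrank (resField hM) (cornerSub e) ≤ finrank (resField hM) (cornerComm e) + Nat.card B := by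
  classical
  set K : Submodule (resField hM) (cornerSub e) := Submodule.comap (cornerSub e).subtype (cornerComm e) with hK
  have hKdim : finrank (resField hM) K = finrank (resField hM) (cornerComm e) := by
    rw [hK]
    exact (Submodule.comapSubtypeEquivOfLe (cornerComm_le he)).finrank_eq
  set φ : K.dualAnnihilator →ₗ[(resField hM)] KGA hM A := centElt a b ∘ₗ K.dualAnnihilator.subtype with hφ
  have hτ : ∀ τ : K.dualAnnihilator, ∀ x y : KGA hM A,
      ∀ (hx : e * x * e * (e * y * e) ∈ cornerSub e)
        (hy : e * y * e * (e * x * e) ∈ cornerSub e),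
        (τ : Module.Dual (resField hM) (cornerSub e)) ⟨_, hx⟩ = (τ : Module.Dual (resField hM) (cornerSub e)) ⟨_, hy⟩ := by
    intro τ x y hx hy
    rw [← sub_eq_zero, ← map_sub]
    refine (Submodule.mem_dualAnnihilator _).1 τ.2 _ ?_
    show ((⟨_, hx⟩ : cornerSub e) - ⟨_, hy⟩).1 ∈ cornerComm e
    exact Submodule.subset_span ⟨x, y, rfl⟩
  have hinj : Function.Injective φ := by
    intro τ τ' h
    refine Subtype.ext (sub_eq_zero.1 ?_)
    refine centElt_eq_zero he heB hab (hτ (τ - τ')) ?_
    exact (map_sub (centElt a b) _ _).trans (sub_eq_zero.2 h)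
  have hle := finrank_center_le hM hB (LinearMap.range φ) fun x hx => by
    obtain ⟨τ, rfl⟩ := hx
    exact centElt_mem he heB hab (hτ τ)
  rw [LinearMap.finrank_range_of_inj hinj] at hle
  have hsum := Subspace.finrank_add_finrank_dualAnnihilator_eq K
  omega

variable {m : ℕ} {σ : Representation (resField hM) A (Fin m → resField hM)} {i₀ : Fin m}
  (hσe : σ.asAlgebraHom e = (LinearMap.proj i₀).smulRight (Pi.single i₀ (1 : resField hM)))

include hσe in
/-- The corner is a line and the kernel on the simple module. -/
theorem sub_smul_mem_ker {x : KGA hM A} (hx : e * x * e = x) :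
    σ.asAlgebraHom (x - (σ.asAlgebraHom x (Pi.single i₀ 1) i₀) • e) = 0 := by
  rw [map_sub, map_smul, sub_eq_zero]
  refine LinearMap.ext fun v => ?_
  conv_lhs => rw [← hx, map_mul, map_mul, hσe]
  rw [hσe]
  simp only [Module.End.mul_apply, LinearMap.smulRight_apply, LinearMap.proj_apply,
    LinearMap.smul_apply, map_smul, Pi.smul_apply, smul_eq_mul, smul_smul, mul_comm]

end Corner

include hM in
/-- The corner at an idempotent of rank one of a block with at most two characters and one simple
module. -/
theorem finrank_corner_le_two (hB : IsPBlock M B) (hk : Nat.card B ≤ 2) (hl : blockRank p B ≤ 1)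
    {m : ℕ} {σ : Representation (resField hM) A (Fin m → resField hM)}
    (hσ : σ.IsIrreducible) (hσb : blockOp hM B σ = 1) {i₀ : Fin m} {e : KGA hM A}
    (he : IsIdempotentElem e) (heB : blkA hM B * e = e)
    (hσe : σ.asAlgebraHom e = (LinearMap.proj i₀).smulRight (Pi.single i₀ (1 : resField hM))) :
    finrank (resField hM) (cornerSub e) ≤ 2 := by
  classical
  have hr : finrank (resField hM) (LinearMap.range (σ.asAlgebraHom e)) = 1 := by
    rw [hσe, LinearMap.range_smulRight_apply (by
      intro h
      have := LinearMap.congr_fun h (Pi.single i₀ 1)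
      simp at this),
      finrank_span_singleton (Pi.single_ne_zero_iff.2 one_ne_zero)]
  obtain ⟨N, a, b, hab⟩ := exists_full hM hB hl hσ hσb he heB hr
  set S : Submodule (resField hM) (KGA hM A) := cornerSub e with hS
  set J : Submodule (resField hM) (KGA hM A) := S ⊓ LinearMap.ker σ.asAlgebraHom.toLinearMap with hJ
  have hmem : ∀ x, x ∈ S ↔ e * x * e = x := fun x => mem_cornerSub he
  have heS : e ∈ S := (hmem e).2 (by rw [he.eq, he.eq])
  have hJmem : ∀ x, x ∈ J ↔ e * x * e = x ∧ σ.asAlgebraHom x = 0 := fun x => by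
    rw [hJ, Submodule.mem_inf, hmem, LinearMap.mem_ker, AlgHom.toLinearMap_apply]
  have hei : ∀ j ∈ J, e * j = j ∧ j * e = j := by
    intro j hj
    have h := ((hJmem j).1 hj).1
    constructor
    · conv_lhs => rw [← h, ← mul_assoc, ← mul_assoc, he.eq]
      exact h
    · conv_lhs => rw [← h, mul_assoc, he.eq]
      exact h
  have hJJ : J * J ≤ J := by
    rw [Submodule.mul_le]
    intro y hy z hz
    rw [hJmem]
    refine ⟨?_, by rw [map_mul, ((hJmem y).1 hy).2, zero_mul]⟩
    rw [← mul_assoc, (hei y hy).1, mul_assoc, (hei z hz).2]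
  have hdec : ∀ x, e * x * e = x → ∃ c : (resField hM), x - c • e ∈ J := fun x hx => by
    refine ⟨σ.asAlgebraHom x (Pi.single i₀ 1) i₀, (hJmem _).2 ⟨?_, sub_smul_mem_ker hσe hx⟩⟩
    rw [mul_sub, sub_mul, hx, mul_smul_comm, smul_mul_assoc, he.eq, he.eq]
  have hK : cornerComm e ≤ J * J := by
    rw [cornerComm, Submodule.span_le]
    rintro _ ⟨x, y, rfl⟩
    have hid : ∀ x, e * (e * x * e) * e = e * x * e := fun x => by
      calc e * (e * x * e) * e = (e * e) * x * (e * e) := by simp only [mul_assoc]
        _ = _ := by rw [he.eq]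
    obtain ⟨c, hc⟩ := hdec _ (hid x)
    obtain ⟨d, hd⟩ := hdec _ (hid y)
    set u := e * x * e - c • e with hu
    set w := e * y * e - d • e with hw
    have e1 : e * x * e * (e * y * e) - e * y * e * (e * x * e) = u * w - w * u := by
      rw [show e * x * e = u + c • e by rw [hu, sub_add_cancel],
        show e * y * e = w + d • e by rw [hw, sub_add_cancel]]
      simp only [add_mul, mul_add, mul_smul_comm, smul_mul_assoc, he.eq, (hei u hc).1,
        (hei u hc).2, (hei w hd).1, (hei w hd).2]
      module
    rw [SetLike.mem_coe, e1]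
    exact sub_mem (Submodule.mul_mem_mul hc hd) (Submodule.mul_mem_mul hd hc)
  -- dimensions
  have hlt : J < S := lt_of_le_of_ne inf_le_left fun h => by
    have h0 := ((hJmem e).1 (h ▸ heS)).2
    rw [h0] at hσe
    have := congrFun (LinearMap.congr_fun hσe (Pi.single i₀ 1)) i₀
    simp at this
  have hcd := finrank_corner_le hB he heB hab
  rw [← hS] at hcd
  have hJS : finrank (resField hM) J + 1 ≤ finrank (resField hM) S := Submodule.finrank_lt_finrank_of_lt hlt
  have hSJ : finrank (resField hM) S ≤ finrank (resField hM) J + 1 := by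
    have hle : S ≤ ((resField hM) ∙ e) ⊔ J := fun x hx => by
      obtain ⟨c, hc⟩ := hdec x ((hmem x).1 hx)
      rw [← add_sub_cancel (c • e) x]
      exact Submodule.add_mem_sup (Submodule.smul_mem _ _ (Submodule.mem_span_singleton_self e)) hc
    refine (Submodule.finrank_mono hle).trans ((Submodule.finrank_add_le_finrank_add_finrank _ _).trans ?_)
    have h1 : finrank (resField hM) ((resField hM) ∙ e : Submodule (resField hM) (KGA hM A)) ≤ 1 := by
      have := finrank_span_le_card (R := (resField hM)) ({e} : Set (KGA hM A))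
      simpa using this
    omega
  obtain ⟨x, hxJ, hxJJ⟩ : ∃ x ∈ J, J ≤ ((resField hM) ∙ x) ⊔ J * J := by
    by_cases hle : J ≤ J * J
    · exact ⟨0, zero_mem _, hle.trans le_sup_right⟩
    obtain ⟨x, hx, hxn⟩ := SetLike.not_le_iff_exists.1 hle
    refine ⟨x, hx, le_of_eq (Submodule.eq_of_le_of_finrank_le
      (sup_le ((Submodule.span_singleton_le_iff_mem x J).2 hx) hJJ) ?_).symm⟩
    have hlt' : J * J < ((resField hM) ∙ x) ⊔ J * J := lt_of_le_of_ne le_sup_right fun h => hxn (by
      rw [h]; exact Submodule.mem_sup_left (Submodule.mem_span_singleton_self x))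
    have h1 := Submodule.finrank_lt_finrank_of_lt hlt'
    have h2 := Submodule.finrank_mono hK
    omega
  -- nilpotence
  obtain ⟨N', hN', hnil⟩ := pow_submodule_mul_blk hM hB J fun c hc n τ hτ hτb => by
    obtain ⟨φ, hφ⟩ := simple_data hM hB hl hσ hσb τ hτ hτb
    refine LinearMap.ext fun v => ?_
    obtain ⟨v, rfl⟩ := φ.surjective v
    rw [← LinearEquiv.coe_coe, ← map_asAlgebraHom φ.toLinearMap hφ, ((hJmem c).1 hc).2]
    simp
  have hzero : ∀ y ∈ J ^ N', y = 0 := by
    intro y hy
    have hsub : ∀ n : ℕ, J ^ (n + 1) ≤ J := fun n => by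
      induction n with
      | zero => rw [pow_one]
      | succ n ih => rw [pow_succ]; exact (mul_le_mul_left ih J).trans hJJ
    obtain ⟨n, rfl⟩ := Nat.exists_eq_add_one.2 hN'
    have hyJ := hei y (hsub n hy)
    have h1 : e * blkA hM B = e := (cV_commute hM (indVec B) e).eq.symm.trans heB
    have h2 : y * blkA hM B = y := by
      conv_rhs => rw [← hyJ.2, ← h1, ← mul_assoc, hyJ.2]
    rw [← h2]
    exact hnil y hy
  have hcomm := mul_comm_of_line_add_sq hM hxJ hxJJ hzero
  have hKzero : cornerComm e = ⊥ := by
    rw [← le_bot_iff, cornerComm, Submodule.span_le]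
    rintro _ ⟨x', y', rfl⟩
    have hid : ∀ x, e * (e * x * e) * e = e * x * e := fun x => by
      calc e * (e * x * e) * e = (e * e) * x * (e * e) := by simp only [mul_assoc]
        _ = _ := by rw [he.eq]
    obtain ⟨c, hc⟩ := hdec _ (hid x')
    obtain ⟨d, hd⟩ := hdec _ (hid y')
    set u := e * x' * e - c • e with hu
    set w := e * y' * e - d • e with hw
    rw [SetLike.mem_coe, Submodule.mem_bot, sub_eq_zero,
      show e * x' * e = u + c • e by rw [hu, sub_add_cancel],
      show e * y' * e = w + d • e by rw [hw, sub_add_cancel]]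
    simp only [add_mul, mul_add, mul_smul_comm, smul_mul_assoc, he.eq, (hei u hc).1, (hei u hc).2,
      (hei w hd).1, (hei w hd).2, smul_smul, mul_comm c d, hcomm u hc w hd]
    module
  rw [hKzero, finrank_bot] at hcd
  exact hcd.trans (by omega)

/-! ## The dimension of the corner -/

include hM in
/-- A natural number that is an integral multiple of another is a multiple of its `p`-part. -/
theorem ordProj_dvd_of_eq_mul {r n : ℕ} (hn : n ≠ 0) {c : ℂ} (hc : c ∈ locRing hM)
    (h : (r : ℂ) = (n : ℂ) * c) : p ^ n.factorization p ∣ r := by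
  classical
  rcases eq_or_ne r 0 with rfl | hr
  · exact dvd_zero _
  have hp := (Fact.out : p.Prime)
  refine (pow_dvd_pow p ?_).trans (Nat.ordProj_dvd r p)
  by_contra! hlt
  set a := n.factorization p
  set b := r.factorization p
  set n' := n / p ^ a
  set r' := r / p ^ b
  have hn' : p ^ a * n' = n := Nat.ordProj_mul_ordCompl_eq_self n p
  have hr' : p ^ b * r' = r := Nat.ordProj_mul_ordCompl_eq_self r p
  have hr'' : ¬ p ∣ r' := Nat.not_dvd_ordCompl hp hr
  have hpb : ((p : ℂ) ^ b) ≠ 0 := pow_ne_zero _ (Nat.cast_ne_zero.2 hp.ne_zero)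
  obtain ⟨t, ht⟩ := Nat.exists_eq_add_of_lt hlt
  have h1 : (r' : ℂ) = (p : ℂ) * ((p : ℂ) ^ t * (n' : ℂ) * c) := by
    refine mul_left_cancel₀ hpb ?_
    rw [← hn', ← hr', Nat.cast_mul, Nat.cast_mul, Nat.cast_pow, Nat.cast_pow, ht] at h
    rw [h]
    ring
  refine hr'' ((memLocalIdeal_natCast_iff hM r').1 ?_)
  rw [h1]
  exact memLocalIdeal_mul_right hM ((memLocalIdeal_natCast_iff hM p).2 dvd_rfl)
    (mul_mem (mul_mem (pow_mem (natCast_mem_locRing hM p) _) (natCast_mem_locRing hM _)) hc)

open Classical in
include hM in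
/-- In a block with one simple module the order of a defect group divides the dimension of the
corner at an idempotent of rank one. -/
theorem pow_defect_dvd_finrank_corner (hB : IsPBlock M B) (hl : blockRank p B = 1)
    {m : ℕ} {σ : Representation (resField hM) A (Fin m → resField hM)}
    (hσ : σ.IsIrreducible) (hσb : blockOp hM B σ = 1) {i₀ : Fin m} {e : KGA hM A}
    (he : IsIdempotentElem e) (heB : blkA hM B * e = e)
    (hσe : σ.asAlgebraHom e = (LinearMap.proj i₀).smulRight (Pi.single i₀ (1 : resField hM))) :
    p ^ blockDefect p B ∣ finrank (resField hM) (cornerSub e) := by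
  have hm := simple_dim_pos hM hσ
  have hr : finrank (resField hM) (LinearMap.range (σ.asAlgebraHom e)) = 1 := by
    rw [hσe, LinearMap.range_smulRight_apply (by
      intro h
      have := LinearMap.congr_fun h (Pi.single i₀ 1)
      simp at this),
      finrank_span_singleton (Pi.single_ne_zero_iff.2 one_ne_zero)]
  obtain ⟨ae, hai, haB, hae⟩ := exists_block_lift hM hB he heB
  -- right multiplication
  set W : Submodule (resField hM) (KGA hM A) := LinearMap.range (LinearMap.mulRight (resField hM) e) with hW
  set r := finrank (resField hM) W with hrdef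
  have hcomm : ∀ y, blkA hM B * y = y * blkA hM B := fun y => (cV_commute hM (indVec B) y).eq
  have hWinv : ∀ g, ∀ x ∈ W, lmulRep hM g x ∈ W := by
    rintro g _ ⟨y, rfl⟩
    exact ⟨MonoidAlgebra.single g 1 * y, by
      simp only [LinearMap.mulRight_apply]; rw [mul_assoc]; rfl⟩
  have hWb : blockOp hM B (subRep (lmulRep hM) W hWinv) = 1 := by
    refine LinearMap.ext fun x => Subtype.ext ?_
    obtain ⟨y, hy⟩ := x.2
    rw [← asAlgebraHom_blkA, ← Submodule.subtype_apply,
      map_asAlgebraHom W.subtype (subRep_subtype (lmulRep hM) W hWinv), lmulRep_asAlgebraHom,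
      Submodule.subtype_apply, Module.End.one_apply, ← hy, LinearMap.mulRight_apply, ← mul_assoc,
      hcomm y, mul_assoc, heB]
  have hsm : finrank (resField hM) (cornerSub e) * m = r := by
    have h := finrank_range_simple hM hB hl.le hσ hσb he _ hWb
    rw [hr, mul_one, ← Submodule.finrank_map_subtype_eq W, ← LinearMap.range_comp] at h
    have e1 : LinearMap.range (W.subtype ∘ₗ (subRep (lmulRep hM) W hWinv).asAlgebraHom e) =
        cornerSub e := by
      ext y
      constructor
      · rintro ⟨⟨_, z, rfl⟩, rfl⟩
        refine ⟨z, ?_⟩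
        rw [LinearMap.comp_apply, LinearMap.comp_apply,
          map_asAlgebraHom W.subtype (subRep_subtype (lmulRep hM) W hWinv), lmulRep_asAlgebraHom]
        rfl
      · rintro ⟨z, rfl⟩
        refine ⟨⟨_, z, rfl⟩, ?_⟩
        rw [LinearMap.comp_apply, LinearMap.comp_apply,
          map_asAlgebraHom W.subtype (subRep_subtype (lmulRep hM) W hWinv), lmulRep_asAlgebraHom]
        rfl
    rwa [e1] at h
  -- left multiplication
  have hrm : r * m = p ^ blockDefect p B *
      (B.toFinset.gcd fun χ => charDegree (χ : A → ℂ)) ^ 2 := by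
    rw [← sum_sq_rank_one hM hB hl]
    set ρ₀ := subRep (lmulRep hM) (blkPart hM (B := B)) (blkPart_invariant hM hB)
    have h := finrank_range_simple hM hB hl.le hσ hσb he ρ₀ (blockOp_blkPart hM hB)
    rw [hr, mul_one, ← Submodule.finrank_map_subtype_eq (blkPart hM (B := B)),
      ← LinearMap.range_comp] at h
    have e1 : LinearMap.range ((blkPart hM (B := B)).subtype ∘ₗ ρ₀.asAlgebraHom e) =
        LinearMap.range (LinearMap.mulLeft (resField hM) e) := by
      ext y
      constructor
      · rintro ⟨z, rfl⟩
        refine ⟨(z : KGA hM A), ?_⟩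
        rw [LinearMap.comp_apply, map_asAlgebraHom (blkPart hM (B := B)).subtype
          (subRep_subtype (lmulRep hM) _ (blkPart_invariant hM hB)), lmulRep_asAlgebraHom]
        rfl
      · rintro ⟨z, rfl⟩
        refine ⟨⟨blkA hM B * z, z, rfl⟩, ?_⟩
        rw [LinearMap.comp_apply, map_asAlgebraHom (blkPart hM (B := B)).subtype
          (subRep_subtype (lmulRep hM) _ (blkPart_invariant hM hB)), lmulRep_asAlgebraHom]
        show e * (blkA hM B * z) = e * z
        rw [← mul_assoc, ← hcomm e, heB]
    rw [e1] at h
    have hrr : finrank (resField hM) (LinearMap.range (LinearMap.mulLeft (resField hM) e)) = r := by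
      apply Nat.cast_injective (R := ℂ)
      rw [hrdef, hW, ← hae, finrank_range_mulRight hM hai, finrank_range_mulLeft hM hai]
    have hdim : finrank (resField hM) (blkPart hM (B := B)) = ∑ χ ∈ B.toFinset, charDegree (χ : A → ℂ) ^ 2 := by
      apply Nat.cast_injective (R := ℂ)
      have hv := vInt_indVec hM hB
      rw [blkPart, blkA, ← red_oV hM hv, finrank_range_block hM hB
        (a := oV hM (indVec B)) ?_ ?_, Nat.cast_sum]
      · refine Finset.sum_congr rfl fun χ hχ => ?_
        rw [hatC_oV hM hB χ (Set.mem_toFinset.1 hχ), Nat.cast_pow, sq, apply_one_eq_charDegree]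
      · rw [IsIdempotentElem, ← oV_mul hM hv hv, indVec_mul_indVec, Set.inter_self]
      · rw [← oV_mul hM hv hv, indVec_mul_indVec, Set.inter_self]
    rw [hrr, hdim] at h
    exact h
  -- valuations
  set s := finrank (resField hM) (cornerSub e)
  set g := B.toFinset.gcd fun χ : IrrCharacter A => charDegree (χ : A → ℂ) with hg
  have hne := nonempty_of_isPBlock hM hB
  obtain ⟨χ, hχ, hmin⟩ := exists_minVal (p := p) hne
  have hg0 : g ≠ 0 := fun h => (charDegree_pos χ).ne'
    (Nat.eq_zero_of_zero_dvd (h ▸ Finset.gcd_dvd (Set.mem_toFinset.2 hχ)))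
  have hp := (Fact.out : p.Prime)
  have hr0 : r ≠ 0 := fun h => by
    rw [h, zero_mul] at hrm
    exact mul_ne_zero (pow_ne_zero _ hp.ne_zero) (pow_ne_zero _ hg0) hrm.symm
  have hs0 : s ≠ 0 := fun h => hr0 (by rw [← hsm, h, zero_mul])
  have hvg : g.factorization p = minVal p B := by
    refine le_antisymm ?_ ?_
    · rw [← hmin]
      exact (Nat.factorization_le_iff_dvd hg0 (charDegree_pos χ).ne').2
        (Finset.gcd_dvd (Set.mem_toFinset.2 hχ)) p
    · refine (hp.pow_dvd_iff_le_factorization hg0).1 (Finset.dvd_gcd fun η hη => ?_)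
      exact (hp.pow_dvd_iff_le_factorization (charDegree_pos η).ne').2
        (minVal_le (Set.mem_toFinset.1 hη))
  have hva : (Nat.card A).factorization p ≤ r.factorization p := by
    refine (hp.pow_dvd_iff_le_factorization hr0).1
      (ordProj_dvd_of_eq_mul hM Nat.card_pos.ne' (ae.coeff 1).2 ?_)
    rw [hrdef, hW, ← hae, finrank_range_mulRight hM hai]
  have hd := blockDefect_add_minVal (p := p) hne
  have e1 := congrArg (fun n : ℕ => n.factorization p) hrm
  have e2 := congrArg (fun n : ℕ => n.factorization p) hsm
  simp only [Nat.factorization_mul hr0 hm.ne', Nat.factorization_mul hs0 hm.ne',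
    Nat.factorization_mul (pow_ne_zero _ hp.ne_zero) (pow_ne_zero _ hg0),
    Nat.factorization_pow, Finsupp.add_apply, Finsupp.smul_apply, smul_eq_mul, hp.factorization_self,
    hvg] at e1 e2
  exact (hp.pow_dvd_iff_le_factorization hs0).2 (by omega)

include hM in
/-- A block with two characters has a defect group of order two. -/
theorem pow_defect_eq_two (hB : IsPBlock M B) (hk : Nat.card B = 2) : p ^ blockDefect p B = 2 := by
  classical
  have hd : blockDefect p B ≠ 0 := fun h => by
    have := (card_eq_one_of_defect_zero hM hB h).1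
    omega
  have hl : blockRank p B = 1 := by
    have h1 := blockRank_pos hM hB
    have h2 := blockRank_le_card (p := p) B
    have h3 : blockRank p B ≠ Nat.card B := fun h =>
      hd (blockDefect_eq_zero_of_rank_eq_card hM hB h)
    omega
  obtain ⟨m, σ, hσ, hσb⟩ := exists_simple hM hB
  obtain ⟨e, he, -, heB, hσe⟩ :=
    exists_rank_one_idem hM hB hl.le hσ hσb ⟨0, simple_dim_pos hM hσ⟩
  have h1 := finrank_corner_le_two hM hB hk.le hl.le hσ hσb he heB hσe
  have h2 := pow_defect_dvd_finrank_corner hM hB hl hσ hσb he heB hσe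
  have h4 : 2 ≤ p ^ blockDefect p B :=
    (Fact.out : p.Prime).two_le.trans (Nat.le_self_pow hd p)
  have h5 : Module.finrank (resField hM) (cornerSub e) ≠ 0 := fun h => by
    rw [Submodule.finrank_eq_zero, Submodule.eq_bot_iff] at h
    have h6 := h e ((mem_cornerSub he).2 (by rw [he.eq, he.eq]))
    rw [h6, map_zero] at hσe
    have := congrFun (LinearMap.congr_fun hσe
      (Pi.single ⟨0, simple_dim_pos hM hσ⟩ 1)) ⟨0, simple_dim_pos hM hσ⟩
    simp at this
  have h7 := Nat.le_of_dvd (Nat.pos_of_ne_zero h5) h2
  omega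

end Cfsg.Lib.Block
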