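import Cfsg.Agent.Lib.Block.PrincipalSums
import Cfsg.Agent.Lib.Block.PrincipalCover
import Cfsg.Agent.Lib.Block.CoverApps
import Cfsg.Agent.Lib.Block.GaloisTwist
import Cfsg.Agent.Lib.Char.LinearExt
import Cfsg.Agent.Lib.Char.CanonExt
import Cfsg.Agent.Lib.Char.Ramification
import Mathlib.GroupTheory.Perm.Cycle.Type

/-!
# Odd degree characters fixed by a two-power Galois twist

In a group generated by its elements of odd order, of even order, the principal 2-block has an odd
number of nonlinear characters of odd degree fixed by a twist of two-power order which fixes the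
elements of odd order. Fixed invariant characters extend to fixed characters over 2-quotients.
-/

set_option autoImplicit false
set_option linter.unusedSectionVars false
set_option linter.style.haveILetI false

namespace Cfsg.Lib.Block

open Cfsg
open scoped ComplexConjugate

universe u

variable {G : Type u} [Group G]

variable (G) in
/-- The subgroup generated by the elements of odd order. -/
def oddGenerated : Subgroup G := Subgroup.closure {g : G | ¬ 2 ∣ orderOf g}

instance oddGenerated_normal : (oddGenerated G).Normal := by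
  refine Subgroup.normalizer_eq_top_iff.1 (top_le_iff.1 fun x _ => ?_)
  have h : ∀ y : G, ∀ g ∈ oddGenerated G, y * g * y⁻¹ ∈ oddGenerated G := by
    intro y g hg
    induction hg using Subgroup.closure_induction with
    | mem z hz =>
      refine Subgroup.subset_closure ?_
      show ¬ 2 ∣ orderOf (MulAut.conj y z)
      rwa [MulEquiv.orderOf_eq]
    | one => simp
    | mul a b _ _ ha hb =>
      rw [show y * (a * b) * y⁻¹ = (y * a * y⁻¹) * (y * b * y⁻¹) by group]
      exact mul_mem ha hb
    | inv a _ ha =>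
      rw [show y * a⁻¹ * y⁻¹ = (y * a * y⁻¹)⁻¹ by group]
      exact inv_mem ha
  refine Subgroup.mem_normalizer_iff.2 fun g => ⟨h x g, fun hg => ?_⟩
  have h' := h x⁻¹ _ hg
  rwa [show x⁻¹ * (x * g * x⁻¹) * x⁻¹⁻¹ = g by group] at h'

theorem mem_oddGenerated {g : G} (hg : ¬ 2 ∣ orderOf g) : g ∈ oddGenerated G :=
  Subgroup.subset_closure hg

variable [Finite G]

theorem exists_pow_index_oddGenerated : ∃ j : ℕ, (oddGenerated G).index = 2 ^ j := by
  haveI : Fact (Nat.Prime 2) := ⟨Nat.prime_two⟩
  have h : IsPGroup 2 (G ⧸ oddGenerated G) := by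
    intro q
    obtain ⟨g, rfl⟩ := QuotientGroup.mk_surjective q
    obtain ⟨k, hk⟩ := exists_orderOf_pPt (p := 2) g
    refine ⟨k, ?_⟩
    have he : (g : G ⧸ oddGenerated G) = ((pPt 2 g : G) : G ⧸ oddGenerated G) := by
      conv_lhs => rw [← pPt_mul_pReg (p := 2) g]
      rw [QuotientGroup.mk_mul, (QuotientGroup.eq_one_iff _).2
        (mem_oddGenerated (not_dvd_orderOf_pReg (p := 2) g)), mul_one]
    rw [he, ← QuotientGroup.mk_pow, ← hk, pow_orderOf_eq_one, QuotientGroup.mk_one]
  exact IsPGroup.iff_card.1 h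

/-- The odd generated subgroup is generated by its own elements of odd order. -/
theorem oddGenerated_self : oddGenerated (oddGenerated G) = ⊤ := by
  refine top_le_iff.1 fun x _ => ?_
  have h : ∀ g (hg : g ∈ oddGenerated G),
      (⟨g, hg⟩ : oddGenerated G) ∈ oddGenerated (oddGenerated G) := by
    intro g hg
    induction hg using Subgroup.closure_induction with
    | mem z hz =>
      refine mem_oddGenerated ?_
      show ¬ 2 ∣ orderOf _
      rw [← Subgroup.orderOf_coe]
      exact hz
    | one => exact one_mem _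
    | mul a b _ _ ha hb => exact mul_mem ha hb
    | inv a _ ha => exact inv_mem ha
  exact h x.1 x.2

/-- A linear character of an odd generated group kills the 2-elements. -/
theorem hom_apply_two_element {A : Type*} [CommGroup A] (htop : oddGenerated G = ⊤) (l : G →* A)
    {u : G} (hu : ∃ j : ℕ, orderOf u = 2 ^ j) : l u = 1 := by
  haveI : Fact (Nat.Prime 2) := ⟨Nat.prime_two⟩
  set m := Nat.card G / 2 ^ (Nat.card G).factorization 2 with hm
  have hle : oddGenerated G ≤ ((powMonoidHom m).comp l).ker := by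
    refine (Subgroup.closure_le _).2 fun g hg => ?_
    have hdvd : orderOf g ∣ m := by
      refine Nat.Coprime.dvd_of_dvd_mul_right (n := 2 ^ (Nat.card G).factorization 2) ?_ ?_
      · exact Nat.Coprime.pow_right _ ((Nat.prime_two.coprime_iff_not_dvd.2 hg).symm)
      · rw [hm, Nat.div_mul_cancel (Nat.ordProj_dvd _ _)]
        exact orderOf_dvd_natCard g
    show l g ^ m = 1
    rw [← map_pow, orderOf_dvd_iff_pow_eq_one.1 hdvd, map_one]
  have h1 : l u ^ m = 1 := hle (htop ▸ Subgroup.mem_top u)
  obtain ⟨j, hj⟩ := hu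
  have h2 : l u ^ (2 ^ j) = 1 := by rw [← map_pow, ← hj, pow_orderOf_eq_one, map_one]
  have h3 := pow_gcd_eq_one.2 ⟨h1, h2⟩
  rwa [(Nat.Coprime.pow_right j ((Nat.prime_two.coprime_iff_not_dvd.2
    (Nat.not_dvd_ordCompl Nat.prime_two Nat.card_pos.ne')).symm)).gcd_eq_one, pow_one] at h3

/-- A linear character of an odd generated group has odd order. -/
theorem not_two_dvd_orderOf_hom (htop : oddGenerated G = ⊤) (d : G →* ℂˣ) : ¬ 2 ∣ orderOf d := by
  haveI : Fact (Nat.Prime 2) := ⟨Nat.prime_two⟩
  intro h2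
  have hpow : d ^ (Nat.card G / 2 ^ (Nat.card G).factorization 2) = 1 := by
    refine MonoidHom.ext fun n => ?_
    rw [MonoidHom.pow_apply, MonoidHom.one_apply, ← pPt_mul_pReg (p := 2) n, map_mul,
      hom_apply_two_element htop d (exists_orderOf_pPt n), one_mul, ← map_pow,
      orderOf_dvd_iff_pow_eq_one.1 ?_, map_one]
    refine Nat.Coprime.dvd_of_dvd_mul_right (n := 2 ^ (Nat.card G).factorization 2) ?_ ?_
    · exact Nat.Coprime.pow_right _ ((Nat.prime_two.coprime_iff_not_dvd.2
        (not_dvd_orderOf_pReg n)).symm)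
    · rw [Nat.div_mul_cancel (Nat.ordProj_dvd _ _)]
      exact orderOf_dvd_natCard _
  exact Nat.not_dvd_ordCompl Nat.prime_two Nat.card_pos.ne'
    (h2.trans (orderOf_dvd_of_pow_eq_one hpow))

variable {k : ℕ} (hk1 : ∀ g : G, (∃ j : ℕ, orderOf g = 2 ^ j) → g ^ k = g ^ 3)
  (hk2 : ∀ g : G, Odd (orderOf g) → g ^ k = g)

include hk1 hk2

theorem twist_pow_eq_self_of_odd {g : G} (hg : ¬ 2 ∣ orderOf g) : g ^ k = g :=
  hk2 g (Nat.not_even_iff_odd.1 fun h => hg (even_iff_two_dvd.1 h))

theorem twist_coprime : k.Coprime (Nat.card G) := by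
  rw [Nat.coprime_comm]
  refine Nat.coprime_of_dvd fun r hr hrG hrk => ?_
  haveI := Fact.mk hr
  obtain ⟨x, hx⟩ := exists_prime_orderOf_dvd_card' r hrG
  have hxk : x ^ k = 1 := orderOf_dvd_iff_pow_eq_one.1 (hx ▸ hrk)
  have hne : x ≠ 1 := fun h => hr.ne_one (by rw [← hx, h, orderOf_one])
  rcases hr.eq_two_or_odd' with rfl | hodd
  · rw [hk1 x ⟨1, by rw [hx, pow_one]⟩, pow_succ, ← hx, pow_orderOf_eq_one, one_mul] at hxk
    exact hne hxk
  · rw [hk2 x (hx ▸ hodd)] at hxk
    exact hne hxk

theorem twist_iterate (g : G) : g ^ k ^ (2 ^ (Nat.card G).factorization 2) = g := by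
  haveI : Fact (Nat.Prime 2) := ⟨Nat.prime_two⟩
  set a := (Nat.card G).factorization 2 with ha
  set u := pPt 2 g with hu
  set v := pReg 2 g with hv
  have huz : u ∈ Subgroup.zpowers g := pPt_mem_zpowers g
  have hvz : v ∈ Subgroup.zpowers g := by
    have h : v = u⁻¹ * g := eq_inv_mul_of_mul_eq (pPt_mul_pReg g)
    rw [h]
    exact mul_mem (inv_mem huz) (Subgroup.mem_zpowers g)
  have hcomm : Commute u v := by
    obtain ⟨i, hi⟩ := huz
    obtain ⟨j, hj⟩ := hvz
    rw [← hi, ← hj]
    exact (Commute.refl g).zpow_zpow i j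
  have hv' : ∀ n : ℕ, v ^ k ^ n = v := by
    intro n
    induction n with
    | zero => simp
    | succ n ih =>
      rw [pow_succ, pow_mul, ih, twist_pow_eq_self_of_odd hk1 hk2 (not_dvd_orderOf_pReg g)]
  obtain ⟨j, hj⟩ := exists_orderOf_pPt (p := 2) g
  have hu' : ∀ n : ℕ, u ^ k ^ n = u ^ 3 ^ n := by
    intro n
    induction n with
    | zero => simp
    | succ n ih =>
      obtain ⟨i, -, hi⟩ := (Nat.dvd_prime_pow Nat.prime_two).1
        (hj ▸ orderOf_pow_dvd (3 ^ n) : orderOf (u ^ 3 ^ n) ∣ 2 ^ j)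
      rw [pow_succ, pow_mul, ih, hk1 _ ⟨i, hi⟩, ← pow_mul, ← pow_succ]
  have hfix : u ^ 3 ^ (2 ^ a) = u := by
    have hja : j ≤ a := (Nat.Prime.pow_dvd_iff_le_factorization Nat.prime_two
      Nat.card_pos.ne').1 (hj ▸ orderOf_dvd_natCard u)
    conv_rhs => rw [← pow_one u]
    rw [pow_eq_pow_iff_modEq, hj]
    refine Nat.ModEq.of_dvd (pow_dvd_pow 2 hja) ?_
    have hdvd : Nat.totient (2 ^ a) ∣ 2 ^ a := by
      rcases Nat.eq_zero_or_pos a with h | h
      · simp [h]
      · rw [Nat.totient_prime_pow Nat.prime_two h]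
        exact ⟨2, by rw [show (2 - 1) = 1 from rfl, mul_one, ← pow_succ, Nat.sub_add_cancel h]⟩
    obtain ⟨c, hc⟩ := hdvd
    conv_lhs => arg 2; rw [hc]
    rw [pow_mul]
    simpa using (Nat.ModEq.pow_totient (show Nat.Coprime 3 (2 ^ a) from
      Nat.Coprime.pow_right a (by decide))).pow c
  conv_lhs => rw [← pPt_mul_pReg (p := 2) g]
  rw [hcomm.mul_pow, hu', hfix, hv', hu, hv, pPt_mul_pReg]

open Classical in
/-- In an odd generated group of even order an odd number of nonlinear odd degree characters of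
the principal 2-block are fixed by the twist. -/
theorem odd_card_fixed [Fintype G] {M : Ideal AlgInt} (hM : IsPModular 2 M)
    (htop : oddGenerated G = ⊤) (hev : 2 ∣ Nat.card G) :
    Odd (((principalBlock M G).toFinset).filter fun χ : IrrCharacter G =>
      Odd (charDegree (χ : G → ℂ)) ∧ charDegree (χ : G → ℂ) ≠ 1 ∧
        ∀ g, (χ : G → ℂ) (g ^ k) = (χ : G → ℂ) g).card := by
  haveI : Fact (Nat.Prime 2) := ⟨Nat.prime_two⟩
  have hk := twist_coprime hk1 hk2
  set B := (principalBlock M G).toFinset with hB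
  set T := powTwist k hk with hT
  have hTB : ∀ χ ∈ B, T χ ∈ B := fun χ hχ =>
    Set.mem_toFinset.2 (principal_comp_pow hM hk (Set.mem_toFinset.1 hχ))
  have hTd : ∀ χ, charDegree (T χ : G → ℂ) = charDegree (χ : G → ℂ) := fun χ => by
    simp only [charDegree, hT, powTwist_apply, one_pow]
  set S := B.filter fun χ : IrrCharacter G => Odd (charDegree (χ : G → ℂ)) with hS
  -- the number of odd degree members is even
  have hSeven : Even S.card := by
    have hsum : 2 ∣ ∑ χ ∈ B, charDegree (χ : G → ℂ) ^ 2 := by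
      have h := factorization_sum_sq (p := 2) hM (isPBlock_principal (M := M) (G := G))
      have hd := blockDefect_add_minVal (p := 2)
        (nonempty_of_isPBlock hM (isPBlock_principal (M := M) (G := G)))
      have hmin := minVal_le (p := 2) (trivChar_mem_principal (G := G) hM)
      rw [charDegree_eq_of_apply_one (n := 1) (by simp [trivChar_coe]), Nat.factorization_one,
        Finsupp.zero_apply] at hmin
      have hpos := Nat.prime_two.factorization_pos_of_dvd Nat.card_pos.ne' hev
      refine Nat.dvd_of_factorization_pos ?_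
      rw [h]
      omega
    rw [Nat.even_iff]
    have h2 : ((∑ χ ∈ B, charDegree (χ : G → ℂ) ^ 2 : ℕ) : ZMod 2) = (S.card : ZMod 2) := by
      rw [Nat.cast_sum, hS, Finset.card_filter, Nat.cast_sum]
      refine Finset.sum_congr rfl fun χ _ => ?_
      split_ifs with h
      · rw [Nat.cast_pow, (ZMod.natCast_eq_one_iff_odd).2 h, one_pow, Nat.cast_one]
      · rw [Nat.cast_pow, (ZMod.natCast_eq_zero_iff_even).2 (Nat.not_odd_iff_even.1 h),
          zero_pow two_ne_zero, Nat.cast_zero]
    rw [(ZMod.natCast_eq_zero_iff_even).2 (even_iff_two_dvd.2 hsum)] at h2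
    exact Nat.even_iff.1 ((ZMod.natCast_eq_zero_iff_even).1 h2.symm)
  -- the twist permutes them with two-power order
  have hTS : ∀ χ ∈ S, T χ ∈ S := fun χ hχ => by
    rw [hS, Finset.mem_filter] at hχ ⊢
    exact ⟨hTB χ hχ.1, by rw [hTd]; exact hχ.2⟩
  let f : Equiv.Perm S := Equiv.ofBijective (fun χ => ⟨T χ.1, hTS χ.1 χ.2⟩)
    (Finite.injective_iff_bijective.1 fun χ ψ h =>
      Subtype.ext (powTwist_injective k hk (congrArg Subtype.val h)))
  have hfn : ∀ (n : ℕ) (χ : S) (g : G),
      (((f ^ n) χ : S).1 : G → ℂ) g = (χ.1 : G → ℂ) (g ^ k ^ n) := by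
    intro n
    induction n with
    | zero => intro χ g; simp
    | succ n ih =>
      intro χ g
      rw [pow_succ, Equiv.Perm.mul_apply, ih]
      show (T χ.1 : G → ℂ) (g ^ k ^ n) = _
      rw [hT, powTwist_apply, ← pow_mul, ← pow_succ]
  have hf : f ^ (2 ^ (Nat.card G).factorization 2) = 1 := by
    refine Equiv.ext fun χ => Subtype.ext (Subtype.ext (funext fun g => ?_))
    rw [hfn, twist_iterate hk1 hk2]
    rfl
  set Fx := S.filter fun χ : IrrCharacter G => T χ = χ with hFx
  have hFeven : Even Fx.card := by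
    have h := Equiv.Perm.card_compl_support_modEq (p := 2) (σ := f) hf
    have hc : f.supportᶜ.card = Fx.card := by
      refine Finset.card_bij (fun χ _ => χ.1) ?_ (fun _ _ _ _ h => Subtype.ext h) ?_
      · intro χ hχ
        rw [Finset.mem_compl, Equiv.Perm.notMem_support] at hχ
        exact Finset.mem_filter.2 ⟨χ.2, congrArg Subtype.val hχ⟩
      · intro χ hχ
        obtain ⟨hχS, hfix⟩ := Finset.mem_filter.1 hχ
        refine ⟨⟨χ, hχS⟩, ?_, rfl⟩
        rw [Finset.mem_compl, Equiv.Perm.notMem_support]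
        exact Subtype.ext hfix
    rw [hc, Fintype.card_coe] at h
    rw [Nat.even_iff, h]
    exact Nat.even_iff.1 hSeven
  -- the linear members are paired by inversion
  set L := B.filter fun χ : IrrCharacter G => charDegree (χ : G → ℂ) = 1 with hL
  have hLodd : Odd L.card := by
    have hk' : (Nat.card G - 1).Coprime (Nat.card G) := by
      have : 1 ≤ Nat.card G := Nat.card_pos
      exact (Nat.coprime_self_sub_left this).2 (Nat.coprime_one_left _)
    have hinv : ∀ g : G, g ^ (Nat.card G - 1) = g⁻¹ := fun g => by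
      refine (inv_eq_of_mul_eq_one_right ?_).symm
      rw [← pow_succ', Nat.sub_add_cancel Nat.card_pos, pow_card_eq_one']
    set C := powTwist (Nat.card G - 1) hk' with hC
    have hCB : ∀ χ ∈ L, C χ ∈ L := fun χ hχ => by
      rw [hL, Finset.mem_filter] at hχ ⊢
      refine ⟨Set.mem_toFinset.2 (principal_comp_pow hM hk' (Set.mem_toFinset.1 hχ.1)), ?_⟩
      rw [← hχ.2]
      simp only [charDegree, hC, powTwist_apply, one_pow]
    let c : Equiv.Perm L := Equiv.ofBijective (fun χ => ⟨C χ.1, hCB χ.1 χ.2⟩)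
      (Finite.injective_iff_bijective.1 fun χ ψ h =>
        Subtype.ext (powTwist_injective _ hk' (congrArg Subtype.val h)))
    have hc2 : c ^ (2 ^ 1) = 1 := by
      refine Equiv.ext fun χ => Subtype.ext (Subtype.ext (funext fun g => ?_))
      show ((c (c χ)).1 : G → ℂ) g = _
      show (C (C χ.1) : G → ℂ) g = (χ.1 : G → ℂ) g
      rw [hC, powTwist_apply, powTwist_apply, hinv, hinv, inv_inv]
    have h := Equiv.Perm.card_compl_support_modEq (p := 2) (σ := c) hc2
    have htriv : trivChar G ∈ L := Finset.mem_filter.2 ⟨Set.mem_toFinset.2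
      (trivChar_mem_principal hM), charDegree_eq_of_apply_one (by simp [trivChar_coe])⟩
    have hone : c.supportᶜ = {⟨trivChar G, htriv⟩} := by
      refine Finset.eq_singleton_iff_unique_mem.2 ⟨?_, fun χ hχ => ?_⟩
      · rw [Finset.mem_compl, Equiv.Perm.notMem_support]
        exact Subtype.ext (Subtype.ext (funext fun g => rfl))
      · rw [Finset.mem_compl, Equiv.Perm.notMem_support] at hχ
        have hfix : C χ.1 = χ.1 := congrArg Subtype.val hχ
        have h1 : (χ.1 : G → ℂ) 1 = 1 := by
          rw [apply_one_eq_charDegree, (Finset.mem_filter.1 χ.2).2, Nat.cast_one]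
        obtain ⟨l, hl⟩ := Char.exists_hom_of_degree_one χ.1.2.isCharacter h1
        refine Subtype.ext (Subtype.ext (funext fun g => ?_))
        rw [trivChar_coe]
        have hsq : ∀ g, l g * l g = 1 := fun g => by
          have h2 := congrFun (congrArg Subtype.val hfix) g
          rw [hC, powTwist_apply, hinv, hl] at h2
          simp only [Units.val_inj, map_inv] at h2
          exact (congrArg (· * l g) h2).symm.trans (inv_mul_cancel (l g))
        have hker : oddGenerated G ≤ l.ker := by
          refine (Subgroup.closure_le _).2 fun x hx => ?_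
          have hh := pow_gcd_eq_one.2 (⟨by rw [pow_two]; exact hsq x,
            by rw [← map_pow, pow_orderOf_eq_one, map_one]⟩ :
              l x ^ 2 = 1 ∧ l x ^ orderOf x = 1)
          rwa [(Nat.prime_two.coprime_iff_not_dvd.2 hx).gcd_eq_one, pow_one] at hh
        rw [hl]
        simp [show l g = 1 from hker (htop ▸ Subgroup.mem_top g)]
    rw [hone, Finset.card_singleton, Fintype.card_coe] at h
    exact Nat.odd_iff.2 h.symm
  have hLF : L ⊆ Fx := by
    intro χ hχ
    obtain ⟨hχB, hd1⟩ := Finset.mem_filter.1 hχ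
    refine Finset.mem_filter.2 ⟨Finset.mem_filter.2 ⟨hχB, by rw [hd1]; exact odd_one⟩,
      Subtype.ext (funext fun g => ?_)⟩
    obtain ⟨l, hl⟩ := Char.exists_hom_of_degree_one χ.2.isCharacter
      (by rw [apply_one_eq_charDegree, hd1, Nat.cast_one])
    rw [hT, powTwist_apply, hl]
    have hu := hom_apply_two_element htop l (exists_orderOf_pPt (p := 2) g)
    conv_rhs => rw [← pPt_mul_pReg (p := 2) g]
    simp only [map_pow]
    conv_lhs => rw [← pPt_mul_pReg (p := 2) g]
    rw [map_mul, hu, one_mul, ← map_pow,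
      twist_pow_eq_self_of_odd hk1 hk2 (not_dvd_orderOf_pReg g)]
  have heq : (B.filter fun χ : IrrCharacter G => Odd (charDegree (χ : G → ℂ)) ∧
      charDegree (χ : G → ℂ) ≠ 1 ∧ ∀ g, (χ : G → ℂ) (g ^ k) = (χ : G → ℂ) g) = Fx \ L := by
    ext χ
    simp only [Finset.mem_filter, Finset.mem_sdiff, hFx, hL, hS, hT]
    constructor
    · rintro ⟨h1, h2, h3, h4⟩
      exact ⟨⟨⟨h1, h2⟩, Subtype.ext (funext h4)⟩, fun h => h3 h.2⟩
    · rintro ⟨⟨⟨h1, h2⟩, h3⟩, h4⟩
      exact ⟨h1, h2, fun h => h4 ⟨h1, h⟩, fun g => congrFun (congrArg Subtype.val h3) g⟩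
  rw [heq, Finset.card_sdiff_of_subset hLF,
    Nat.odd_sub (Finset.card_le_card hLF)]
  exact iff_of_false (Nat.not_odd_iff_even.2 hFeven) (Nat.not_even_iff_odd.2 hLodd)

open Classical in
/-- A fixed invariant character of odd degree of an odd generated normal subgroup of two-power
index extends to a fixed character. -/
theorem exists_fixed_extension_twoFixedOdd (K : Subgroup G) [K.Normal] (hidx : ∃ j : ℕ, K.index = 2 ^ j)
    (htop : oddGenerated K = ⊤) (θ : IrrCharacter K) (hinv : ∀ g, twistIrr K g θ = θ)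
    (hodd : Odd (charDegree (θ : K → ℂ))) (hfix : ∀ n : K, (θ : K → ℂ) (n ^ k) = (θ : K → ℂ) n) :
    ∃ χ : IrrCharacter G, (∀ n : K, (χ : G → ℂ) n = (θ : K → ℂ) n) ∧
      ∀ g, (χ : G → ℂ) (g ^ k) = (χ : G → ℂ) g := by
  haveI : Fact (Nat.Prime 2) := ⟨Nat.prime_two⟩
  haveI := Fintype.ofFinite G
  have hk := twist_coprime hk1 hk2
  have hθ1 := apply_one_eq_charDegree θ
  obtain ⟨m, σ, hσ, hσθ⟩ := θ.2
  haveI := hσ
  have hinv' : ∀ (g : G) (n : K), σ.character (MulAut.conjNormal g n) = σ.character n := by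
    intro g n
    have h := congrFun (congrArg Subtype.val (hinv g)) n
    rw [twistIrr_apply] at h
    rw [hσθ]
    exact h
  have hm : Odd m := by
    rw [← hσθ, Representation.char_one, Module.finrank_fin_fun] at hθ1
    rw [← hσθ, show charDegree σ.character = m by exact_mod_cast hθ1.symm] at hodd
    exact hodd
  obtain ⟨j, hj⟩ := hidx
  have hcop : Nat.Coprime K.index (Module.finrank ℂ (Fin m → ℂ)) := by
    rw [hj, Module.finrank_fin_fun]
    exact (Nat.coprime_two_left.2 hm).pow_left j
  have hdinv : ∀ (g : G) (n : K),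
      Char.detHom σ (MulAut.conjNormal g n) = Char.detHom σ n := by
    intro g n
    obtain ⟨φ⟩ := Char.nonempty_equiv_of_character_eq
      (σ.comp (MulAut.conjNormal g : K ≃* K).toMonoidHom : Representation ℂ K (Fin m → ℂ)) σ
      (funext fun x => hinv' g x)
    exact Units.ext (Char.det_eq_of_equiv φ n).symm
  -- the determinant has odd order
  have hdet : Nat.Coprime K.index (orderOf (Char.detHom σ)) := by
    rw [hj]
    exact Nat.Coprime.pow_left j (Nat.prime_two.coprime_iff_not_dvd.2
      (not_two_dvd_orderOf_hom htop _))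
  obtain ⟨μ, hμ, hμo⟩ := Char.exists_linear_extension_coprime (Char.detHom σ) hdinv hdet
  obtain ⟨ρ₀, hρ₀⟩ := Char.exists_extension_of_det σ hinv' hcop μ hμ
  obtain ⟨ρ, hρ, hρd⟩ := Char.exists_extension_det_eq hρ₀ hcop μ hμ
  haveI hirr : ρ.IsIrreducible := Char.isIrreducible_of_extension hρ
  have hres : ∀ n : K, ρ.character n = (θ : K → ℂ) n := fun n => by
    rw [← hσθ]
    exact congrArg (fun f => LinearMap.trace ℂ _ f) (hρ n)
  refine ⟨⟨ρ.character, Char.isIrrCharacter_character ρ⟩, hres, fun x => ?_⟩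
  have hψ := Char.isIrrCharacter_comp_pow hk (Char.isIrrCharacter_character ρ)
  obtain ⟨ρ', hρ', hc⟩ := Char.exists_rep_of_res_eq K.subtype σ hψ.isCharacter (fun n => by
    show ρ.character ((n : G) ^ k) = _
    rw [← Subgroup.coe_pow, hres, hfix, hσθ])
  have hμk : ∀ y, μ (y ^ k) = μ y := by
    intro y
    have hu : μ (pPt 2 y) = 1 := by
      obtain ⟨i, hi⟩ := exists_orderOf_pPt (p := 2) y
      have h1 : μ (pPt 2 y) ^ orderOf μ = 1 := by
        rw [← MonoidHom.pow_apply, pow_orderOf_eq_one]; rfl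
      have h2 : μ (pPt 2 y) ^ 2 ^ i = 1 := by rw [← map_pow, ← hi, pow_orderOf_eq_one, map_one]
      have h3 := pow_gcd_eq_one.2 ⟨h1, h2⟩
      have hodd' : Nat.Coprime (orderOf μ) 2 := by
        rw [hμo, Nat.coprime_comm]
        exact Nat.prime_two.coprime_iff_not_dvd.2 (not_two_dvd_orderOf_hom htop _)
      rwa [(Nat.Coprime.pow_right i hodd').gcd_eq_one, pow_one] at h3
    conv_rhs => rw [← pPt_mul_pReg (p := 2) y, map_mul, hu, one_mul]
    rw [map_pow]
    conv_lhs => rw [← pPt_mul_pReg (p := 2) y, map_mul, hu, one_mul]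
    rw [← map_pow, twist_pow_eq_self_of_odd hk1 hk2 (not_dvd_orderOf_pReg y)]
  have hdet' : Char.detHom ρ' = Char.detHom ρ := MonoidHom.ext fun y => Units.ext (by
    let f : Subgroup.zpowers y →* G :=
      { toFun := fun z => (z : G) ^ k
        map_one' := by simp
        map_mul' := fun a b => by
          rw [Subgroup.coe_mul]
          exact (show Commute (a : G) b by
            obtain ⟨i, hi⟩ := a.2
            obtain ⟨l, hl⟩ := b.2
            simp only [← hi, ← hl]
            exact (Commute.refl y).zpow_zpow i l).mul_pow k }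
    obtain ⟨φ⟩ := Char.nonempty_equiv_of_character_eq
      (ρ'.comp (Subgroup.zpowers y).subtype : Representation ℂ _ (Fin m → ℂ))
      (ρ.comp f : Representation ℂ _ (Fin m → ℂ)) (funext fun z => congrFun hc (z : G))
    have h2 : LinearMap.det (ρ (y ^ k)) = LinearMap.det (ρ' y) :=
      Char.det_eq_of_equiv φ ⟨y, Subgroup.mem_zpowers y⟩
    rw [Char.detHom_apply, ← h2, ← Char.detHom_apply, hρd, hμk])
  rw [Char.eq_of_extension_det hρ hρ' hcop hdet'] at hc
  exact (congrFun hc x).symm

end Cfsg.Lib.Block
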