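import Cfsg.Agent.Lib.Block.TwoMajor
import Cfsg.Agent.Lib.Block.ContrGalois

/-!
# Two-blocks whose size exceeds the rank at a major subsection by at most three

The contributions are cyclotomic integers for a power of two, so their coordinates in the basis of
the powers of the root are integers: the square sum of the coordinates replaces the average square
of the absolute values.  The complement of the contribution matrix has trace at most three times
`2 ^ d`, odd diagonal averages at height zero and averages divisible by four elsewhere.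
-/

set_option autoImplicit false
set_option linter.unusedSectionVars false
set_option maxHeartbeats 1000000

namespace Cfsg.Lib.Block

open Cfsg
open scoped ComplexConjugate

universe u

section Coordinates

variable {e : ℕ} {ζ : ℂ}

/-- The combination of the basic powers with given coordinates. -/
noncomputable def twoEval (ζ : ℂ) (a : Fin (2 ^ e) → ℤ) : ℂ := ∑ r, (a r : ℂ) * ζ ^ (r : ℕ)

theorem twoEval_sub (a b : Fin (2 ^ e) → ℤ) :
    twoEval ζ (a - b) = twoEval ζ a - twoEval ζ b := by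
  simp [twoEval, sub_mul, Finset.sum_sub_distrib]

theorem twoEval_sum {ι : Type*} (s : Finset ι) (a : ι → Fin (2 ^ e) → ℤ) :
    twoEval ζ (∑ i ∈ s, a i) = ∑ i ∈ s, twoEval ζ (a i) := by
  simp only [twoEval, Finset.sum_apply, Int.cast_sum, Finset.sum_mul]
  exact Finset.sum_comm

/-- Below half the order the powers are independent. -/
theorem twoEval_injective (hζ : IsPrimitiveRoot ζ (2 ^ (e + 1))) {a b : Fin (2 ^ e) → ℤ}
    (h : twoEval ζ a = twoEval ζ b) : a = b := by
  classical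
  by_contra hne
  set c := a - b with hc
  have h0 : twoEval ζ c = 0 := by rw [hc, twoEval_sub, h, sub_self]
  let P : Polynomial ℚ := ∑ r, Polynomial.C (c r : ℚ) * Polynomial.X ^ (r : ℕ)
  have hcoe : ∀ r : Fin (2 ^ e), P.coeff (r : ℕ) = (c r : ℚ) := by
    intro r
    simp only [P, Polynomial.finsetSum_coeff, Polynomial.coeff_C_mul_X_pow]
    rw [Finset.sum_eq_single r]
    · simp
    · intro s _ hs
      rw [if_neg fun h => hs (Fin.ext h.symm)]
    · simp
  have hP : P ≠ 0 := by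
    intro hP
    refine hne (sub_eq_zero.1 (funext fun r => ?_))
    have := hcoe r
    rw [hP, Polynomial.coeff_zero] at this
    exact_mod_cast this.symm
  have hev : Polynomial.aeval ζ P = 0 := by
    simp only [P, map_sum, map_mul, map_pow, Polynomial.aeval_C, Polynomial.aeval_X]
    exact (Finset.sum_congr rfl fun r _ => by simp).trans h0
  have h1 := minpoly.degree_le_of_ne_zero ℚ ζ hP hev
  rw [← Polynomial.cyclotomic_eq_minpoly_rat hζ (pow_pos two_pos _),
    Polynomial.degree_cyclotomic, Nat.totient_prime_pow Nat.prime_two e.succ_pos] at h1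
  have h2 : P.degree < ((2 ^ e : ℕ) : WithBot ℕ) :=
    lt_of_le_of_lt (Polynomial.degree_sum_le _ _) ((Finset.sup_lt_iff (WithBot.bot_lt_coe _)).2
      fun r _ => lt_of_le_of_lt (Polynomial.degree_C_mul_X_pow_le _ _)
        (WithBot.coe_lt_coe.2 r.is_lt))
  simp at h1
  exact absurd (h1.trans_lt h2) (lt_irrefl _)

/-- The sign and residue of a power. -/
theorem zeta_pow_reduce (hζ : IsPrimitiveRoot ζ (2 ^ (e + 1))) (n : ℕ) :
    ζ ^ n = ((-1 : ℤ) ^ (n / 2 ^ e) : ℤ) * ζ ^ (n % 2 ^ e) := by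
  conv_lhs => rw [← Nat.div_add_mod n (2 ^ e), pow_add, pow_mul, zeta_pow_half hζ]
  push_cast
  rfl

/-- The residue class of a power. -/
def twoRes (e n : ℕ) : Fin (2 ^ e) := ⟨n % 2 ^ e, Nat.mod_lt _ (pow_pos two_pos e)⟩

open Classical in
/-- A combination of powers in coordinates. -/
theorem sum_pow_eq_twoEval (hζ : IsPrimitiveRoot ζ (2 ^ (e + 1))) {ι : Type*} [Fintype ι]
    (c : ι → ℤ) (n : ι → ℕ) :
    ∑ i, (c i : ℂ) * ζ ^ n i = twoEval ζ (fun r : Fin (2 ^ e) =>
      ∑ i, if twoRes e (n i) = r then c i * (-1) ^ (n i / 2 ^ e) else 0) := by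
  simp only [twoEval, Int.cast_sum, Finset.sum_mul]
  rw [Finset.sum_comm]
  refine Finset.sum_congr rfl fun i _ => ?_
  rw [Finset.sum_eq_single (twoRes e (n i)) (fun r _ hr => by rw [if_neg (Ne.symm hr)]; simp)
    (by simp), if_pos rfl, zeta_pow_reduce hζ (n i)]
  push_cast
  simp only [twoRes]
  ring

/-- The cyclotomic integers have coordinates. -/
theorem exists_twoEval (hζ : IsPrimitiveRoot ζ (2 ^ (e + 1))) {x : ℂ}
    (hx : x ∈ Subring.closure ({ζ} : Set ℂ)) : ∃ a : Fin (2 ^ e) → ℤ, x = twoEval ζ a := by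
  classical
  have hpow : ∀ n : ℕ, ∃ a : Fin (2 ^ e) → ℤ, ζ ^ n = twoEval ζ a := fun n => by
    refine ⟨_, Eq.trans ?_ (sum_pow_eq_twoEval hζ (fun _ : Unit => (1 : ℤ)) fun _ => n)⟩
    simp
  induction hx using Subring.closure_induction with
  | mem y hy =>
    rw [Set.mem_singleton_iff] at hy
    subst hy
    simpa using hpow 1
  | zero => exact ⟨0, by simp [twoEval]⟩
  | one => simpa using hpow 0
  | add y z _ _ hy hz =>
    obtain ⟨a, rfl⟩ := hy
    obtain ⟨b, rfl⟩ := hz
    exact ⟨a + b, by simp [twoEval, add_mul, Finset.sum_add_distrib]⟩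
  | neg y _ hy =>
    obtain ⟨a, rfl⟩ := hy
    exact ⟨-a, by simp [twoEval]⟩
  | mul y z _ _ hy hz =>
    obtain ⟨a, rfl⟩ := hy
    obtain ⟨b, rfl⟩ := hz
    refine ⟨_, Eq.trans ?_ (sum_pow_eq_twoEval hζ
      (fun i : Fin (2 ^ e) × Fin (2 ^ e) => a i.1 * b i.2) fun i => (i.1 : ℕ) + (i.2 : ℕ))⟩
    simp only [twoEval, Finset.sum_mul_sum, Fintype.sum_prod_type]
    refine Finset.sum_congr rfl fun r _ => Finset.sum_congr rfl fun s _ => ?_
    push_cast
    ring

theorem conj_twoEval (hζ : IsPrimitiveRoot ζ (2 ^ (e + 1))) (a : Fin (2 ^ e) → ℤ) :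
    conj (twoEval ζ a) = ∑ r, (a r : ℂ) * ζ ^ ((2 ^ (e + 1) - 1) * (r : ℕ)) := by
  haveI : Fact (Nat.Prime 2) := ⟨Nat.prime_two⟩
  simp only [twoEval, map_sum, map_mul, map_intCast, conj_zeta_pow hζ]

/-- The residue and the sign of `r - s`. -/
theorem twoRes_diff (r s : Fin (2 ^ e)) :
    twoRes e ((r : ℕ) + (2 ^ (e + 1) - 1) * (s : ℕ)) = twoRes e 0 ↔ r = s := by
  have hr := r.is_lt
  have hs := s.is_lt
  rw [twoRes, twoRes, Fin.mk.injEq, Nat.zero_mod, ← Nat.dvd_iff_mod_eq_zero]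
  have e1 : ((((r : ℕ) + (2 ^ (e + 1) - 1) * (s : ℕ)) : ℕ) : ℤ) =
      ((r : ℕ) : ℤ) - (s : ℕ) + ((2 ^ e : ℕ) : ℤ) * (2 * (s : ℕ)) := by
    push_cast [Nat.cast_sub (Nat.one_le_two_pow : 1 ≤ 2 ^ (e + 1))]
    ring
  rw [← Int.natCast_dvd_natCast, e1, dvd_add_left (dvd_mul_right _ _)]
  constructor
  · intro h
    refine Fin.ext ?_
    have h0 := Int.eq_zero_of_dvd_of_natAbs_lt_natAbs h (by
      simp only [Int.natAbs_natCast]; omega)
    omega
  · rintro rfl
    simp

/-- The constant coordinate of a square sum. -/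
theorem const_coord_sq (hζ : IsPrimitiveRoot ζ (2 ^ (e + 1))) {ι : Type*} [Fintype ι]
    (a : ι → Fin (2 ^ e) → ℤ) (b : Fin (2 ^ e) → ℤ)
    (h : ∑ i, twoEval ζ (a i) * conj (twoEval ζ (a i)) = twoEval ζ b) :
    ∑ i, ∑ r, a i r ^ 2 = b (twoRes e 0) := by
  classical
  have h1 : ∑ i, twoEval ζ (a i) * conj (twoEval ζ (a i)) =
      ∑ x : ι × (Fin (2 ^ e) × Fin (2 ^ e)), ((a x.1 x.2.1 * a x.1 x.2.2 : ℤ) : ℂ) *
        ζ ^ ((x.2.1 : ℕ) + (2 ^ (e + 1) - 1) * (x.2.2 : ℕ)) := by
    rw [Fintype.sum_prod_type]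
    refine Finset.sum_congr rfl fun i _ => ?_
    rw [conj_twoEval hζ, twoEval, Finset.sum_mul_sum, Fintype.sum_prod_type]
    refine Finset.sum_congr rfl fun r _ => Finset.sum_congr rfl fun s _ => ?_
    push_cast
    ring
  rw [h1, sum_pow_eq_twoEval hζ] at h
  rw [← congrFun (twoEval_injective hζ h) (twoRes e 0), Fintype.sum_prod_type]
  refine Finset.sum_congr rfl fun i _ => ?_
  rw [Fintype.sum_prod_type]
  refine Finset.sum_congr rfl fun r _ => ?_
  rw [Finset.sum_eq_single r (fun s _ hs => by rw [if_neg fun h => hs ((twoRes_diff r s).1 h).symm])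
    (by simp), if_pos ((twoRes_diff r r).2 rfl), sq]
  have heven : Even (((r : ℕ) + (2 ^ (e + 1) - 1) * (r : ℕ)) / 2 ^ e) := by
    refine ⟨(r : ℕ), ?_⟩
    rw [show (r : ℕ) + (2 ^ (e + 1) - 1) * (r : ℕ) = 2 ^ e * ((r : ℕ) + (r : ℕ)) by
      rw [Nat.sub_mul, one_mul, Nat.add_sub_cancel'
        (Nat.le_mul_of_pos_left _ (pow_pos two_pos _)), pow_succ]
      ring,
      Nat.mul_div_cancel_left _ (pow_pos two_pos e)]
  simp [heven.neg_one_pow]

/-- A real element has antisymmetric coordinates. -/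
theorem coord_neg_of_real (hζ : IsPrimitiveRoot ζ (2 ^ (e + 1))) (a : Fin (2 ^ e) → ℤ)
    (h : conj (twoEval ζ a) = twoEval ζ a) :
    ∀ r : Fin (2 ^ e), r ≠ twoRes e 0 → a (twoRes e (2 ^ e - (r : ℕ))) = -a r := by
  classical
  rw [conj_twoEval hζ, sum_pow_eq_twoEval hζ] at h
  have h' := twoEval_injective hζ h
  intro r hr
  have hr0 : 0 < (r : ℕ) := Nat.pos_of_ne_zero fun h0 => hr (Fin.ext (by
    simp [twoRes, h0]))
  have hrlt := r.is_lt
  have key := congrFun h' r
  set s : Fin (2 ^ e) := twoRes e (2 ^ e - (r : ℕ)) with hs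
  have hsval : (s : ℕ) = 2 ^ e - (r : ℕ) := by
    simp only [hs, twoRes]; exact Nat.mod_eq_of_lt (by omega)
  have hq : (2 ^ (e + 1) - 1) * (s : ℕ) = (2 * (s : ℕ) - 1) * 2 ^ e + (r : ℕ) := by
    rw [Nat.sub_mul, Nat.sub_mul, one_mul, one_mul, pow_succ]
    have h2 : (s : ℕ) + (r : ℕ) = 2 ^ e := by omega
    have h3 : 2 ^ e * 1 ≤ 2 ^ e * (2 * (s : ℕ)) := Nat.mul_le_mul_left _ (by omega)
    rw [mul_comm (2 * (s : ℕ)), mul_one] at *
    rw [mul_assoc]
    omega
  rw [Finset.sum_eq_single s (fun x _ hx => ?_) (by simp)] at key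
  · rw [if_pos (Fin.ext (by
      show (2 ^ (e + 1) - 1) * (s : ℕ) % 2 ^ e = (r : ℕ)
      rw [hq, Nat.mul_add_mod_self_right, Nat.mod_eq_of_lt hrlt]))] at key
    rw [← key, hq, Nat.add_comm, Nat.add_mul_div_right _ _ (pow_pos two_pos e),
      Nat.div_eq_of_lt hrlt, zero_add,
      Odd.neg_one_pow (Nat.Even.sub_odd (by omega) (even_two_mul _) odd_one)]
    ring
  · refine if_neg fun hxr => hx (Fin.ext ?_)
    have hx' := congrArg Fin.val hxr
    simp only [twoRes] at hx'
    have h4 : ((2 ^ e : ℕ) : ℤ) ∣ ((2 ^ (e + 1) - 1) * (x : ℕ) : ℕ) - ((r : ℕ) : ℤ) := by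
      refine (Nat.modEq_iff_dvd (a := (r : ℕ)) (b := (2 ^ (e + 1) - 1) * (x : ℕ))).1 ?_
      rw [Nat.ModEq, hx', Nat.mod_eq_of_lt hrlt]
    have h5 : ((2 ^ e : ℕ) : ℤ) ∣ ((x : ℕ) : ℤ) + (r : ℕ) := by
      have : ((x : ℕ) : ℤ) + (r : ℕ) = ((2 ^ e : ℕ) : ℤ) * (2 * (x : ℕ)) -
          ((((2 ^ (e + 1) - 1) * (x : ℕ) : ℕ) : ℤ) - (r : ℕ)) := by
        push_cast [Nat.cast_sub (Nat.one_le_two_pow : 1 ≤ 2 ^ (e + 1))]
        ring
      rw [this]
      exact dvd_sub (dvd_mul_right _ _) h4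
    rw [← Nat.cast_add, Int.natCast_dvd_natCast] at h5
    obtain ⟨k, hk⟩ := h5
    have hxlt := x.is_lt
    have hk1 : k = 1 := by
      rcases k with _ | _ | k
      · omega
      · rfl
      · exfalso
        have : 2 ^ e * 2 ≤ 2 ^ e * (k + 2) := Nat.mul_le_mul_left _ (by omega)
        rw [show k + 1 + 1 = k + 2 by omega] at hk
        omega
    subst hk1
    omega

/-- The constant coordinate of a real element has the parity of the coordinate sum. -/
theorem even_sum_sub_const (hζ : IsPrimitiveRoot ζ (2 ^ (e + 1))) (a : Fin (2 ^ e) → ℤ)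
    (h : conj (twoEval ζ a) = twoEval ζ a) : Even ((∑ r, a r) - a (twoRes e 0)) := by
  classical
  have hneg := coord_neg_of_real hζ a h
  rw [← Finset.add_sum_erase _ _ (Finset.mem_univ (twoRes e 0)), add_sub_cancel_left]
  -- the other terms cancel in pairs
  have hzero : ∑ r ∈ Finset.univ.erase (twoRes e 0), a r = 0 := by
    have key : ∑ r ∈ Finset.univ.erase (twoRes e 0), a r =
        ∑ r ∈ Finset.univ.erase (twoRes e 0), -a r := by
      have hval : ∀ r : Fin (2 ^ e), r ≠ twoRes e 0 →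
          (twoRes e (2 ^ e - (r : ℕ)) : ℕ) = 2 ^ e - (r : ℕ) ∧ 0 < (r : ℕ) := fun r hr => by
        have : 0 < (r : ℕ) := Nat.pos_of_ne_zero fun h0 => hr (Fin.ext (by simp [twoRes, h0]))
        have := r.is_lt
        exact ⟨Nat.mod_eq_of_lt (by omega), by omega⟩
      have hmem : ∀ r ∈ Finset.univ.erase (twoRes e 0),
          twoRes e (2 ^ e - (r : ℕ)) ∈ Finset.univ.erase (twoRes e 0) := fun r hr => by
        obtain ⟨h1, h2⟩ := hval r (Finset.ne_of_mem_erase hr)
        refine Finset.mem_erase.2 ⟨fun h0 => ?_, Finset.mem_univ _⟩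
        have h3 := congrArg Fin.val h0
        rw [h1] at h3
        simp [twoRes] at h3
        have := r.is_lt
        omega
      refine Finset.sum_nbij' (fun r => twoRes e (2 ^ e - (r : ℕ)))
        (fun r => twoRes e (2 ^ e - (r : ℕ))) hmem hmem ?_ ?_ ?_
      · intro r hr
        obtain ⟨h1, h2⟩ := hval r (Finset.ne_of_mem_erase hr)
        obtain ⟨h3, -⟩ := hval _ (Finset.ne_of_mem_erase (hmem r hr))
        refine Fin.ext ?_
        rw [h3, h1]
        have := r.is_lt
        omega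
      · intro r hr
        obtain ⟨h1, h2⟩ := hval r (Finset.ne_of_mem_erase hr)
        obtain ⟨h3, -⟩ := hval _ (Finset.ne_of_mem_erase (hmem r hr))
        refine Fin.ext ?_
        rw [h3, h1]
        have := r.is_lt
        omega
      · intro r hr
        rw [hneg r (Finset.ne_of_mem_erase hr), neg_neg]
    rw [Finset.sum_neg_distrib] at key
    omega
  rw [hzero]
  exact Even.zero

end Coordinates

section Bound

/-- A finite-type instance for the subgroups of a finite group, local to this development. -/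
noncomputable local instance (priority := high) fintypeSubgroupTwoMajorDeficit {A : Type u}
    [Group A] [Fintype A] (H : Subgroup A) : Fintype H := Fintype.ofFinite H

variable {M : Ideal AlgInt} {G : Type u} [Group G] [Fintype G] [Fact (Nat.Prime 2)]
  {H : Subgroup G} {u : G}
  {b : Set (IrrCharacter H)} {B : Set (IrrCharacter G)} {e : ℕ}
  {m : IrrCharacter H → IrrCharacter H → ℤ}

open Classical in
/-- A two-block exceeding the rank at a major subsection by at most three has at most `2 ^ d`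
characters. -/
theorem MajorSetup.card_le_of_deficit_le_three (hS : MajorSetup (p := 2) M e u b B m)
    (hM : IsPModular 2 M) (hk : Nat.card B ≤ blockRank 2 b + 3) :
    Nat.card B ≤ 2 ^ blockDefect 2 B := by
  rw [← hS.major, Nat.card_eq_card_toFinset] at *
  set d := blockDefect 2 b with hd
  set ζ : ℂ := Complex.exp (2 * Real.pi * Complex.I / ((2 ^ (e + 1) : ℕ) : ℂ)) with hζdef
  have hζ : IsPrimitiveRoot ζ (2 ^ (e + 1)) :=
    Complex.isPrimitiveRoot_exp _ (pow_ne_zero _ two_ne_zero)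
  -- coordinates
  have hrep : ∀ χ η : IrrCharacter G, ∃ a : Fin (2 ^ e) → ℤ, contr 2 d u b χ η = twoEval ζ a := by
    intro χ η
    refine exists_twoEval hζ ?_
    have hζmem : ∀ n : ℕ, ζ ^ n ∈ Subring.closure ({ζ} : Set ℂ) := fun n =>
      pow_mem (Subring.subset_closure (Set.mem_singleton ζ)) n
    have hint : ∀ (ψ : IrrCharacter G) (ξ : IrrCharacter H),
        classInner (secFn u H (ψ : G → ℂ)) (ξ : H → ℂ) ∈ Subring.closure ({ζ} : Set ℂ) ∧
          conj (classInner (secFn u H (ψ : G → ℂ)) (ξ : H → ℂ)) ∈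
            Subring.closure ({ζ} : Set ℂ) := by
      intro ψ ξ
      obtain ⟨c, hc, hcψ⟩ := classInner_secFn hS.mem hS.comm ψ ξ
      obtain ⟨n, hn⟩ := (ψ.2.isCharacter.comp H.subtype).exists_nat_classInner ξ.2.isCharacter
      obtain ⟨k, hk'⟩ := orderOf_dvd_of_pow_eq_one hS.pow_eq
      obtain ⟨i, -, rfl⟩ := hζ.eq_pow_of_pow_eq_one (show c ^ (2 ^ (e + 1)) = 1 by
        rw [hk', pow_mul, hc, one_pow])
      rw [hcψ, show classInner (fun h : H => (ψ : G → ℂ) h) (ξ : H → ℂ) = n from hn, map_mul,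
        map_natCast, conj_zeta_pow hζ]
      exact ⟨mul_mem (hζmem _) (natCast_mem _ _), mul_mem (hζmem _) (natCast_mem _ _)⟩
    rw [contr_eq_sum hM hS.ind.1 _ rfl]
    refine sum_mem fun ξ hξ => sum_mem fun ξ' hξ' => ?_
    rw [hS.form.eq ξ (Set.mem_toFinset.1 hξ) ξ' (Set.mem_toFinset.1 hξ')]
    exact mul_mem (mul_mem (hint χ ξ).1 (hint η ξ').2) (intCast_mem _ _)
  choose a ha using hrep
  set S : IrrCharacter G → IrrCharacter G → ℤ := fun χ η => ∑ r, a χ η r ^ 2 with hSdef
  set μ : IrrCharacter G → ℤ := fun χ => a χ χ (twoRes e 0) with hμdef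
  have hS0 : ∀ χ η, 0 ≤ S χ η := fun χ η => Finset.sum_nonneg fun r _ => sq_nonneg _
  -- the square sum of a row
  have hrow : ∀ χ, ∑ η ∈ B.toFinset, S χ η = 2 ^ d * μ χ := by
    intro χ
    have h := sum_contr_mul hM hS.exists_order hS.comm hS.cen hS.ind d χ
    have h2 : ∑ η : B.toFinset, twoEval ζ (a χ η.1) * conj (twoEval ζ (a χ η.1)) =
        twoEval ζ (fun r => 2 ^ d * a χ χ r) := by
      rw [Finset.sum_coe_sort B.toFinset (fun η => twoEval ζ (a χ η) * conj (twoEval ζ (a χ η)))]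
      simp only [← ha, contr_conj]
      rw [h, ha, twoEval, twoEval, Finset.mul_sum]
      refine Finset.sum_congr rfl fun r _ => ?_
      push_cast
      ring
    have := const_coord_sq hζ (fun η : B.toFinset => a χ η.1) _ h2
    rw [← Finset.sum_coe_sort B.toFinset]
    exact this
  have htrace : ∑ χ ∈ B.toFinset, μ χ = 2 ^ d * (blockRank 2 b : ℤ) := by
    have h := sum_contr_diag hM hS.exists_order hS.comm hS.cen hS.ind d
    simp only [ha, ← twoEval_sum] at h
    have h2 : twoEval ζ (∑ χ ∈ B.toFinset, a χ χ) =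
        twoEval ζ (Pi.single (twoRes e 0) ((2 : ℤ) ^ d * (blockRank 2 b : ℤ))) := by
      rw [h]
      conv_rhs => rw [twoEval, Finset.sum_eq_single (twoRes e 0)
        (fun r _ hr => by simp [Pi.single_eq_of_ne hr]) (by simp)]
      simp [twoRes]
    have := congrFun (twoEval_injective hζ h2) (twoRes e 0)
    simpa [hμdef, Finset.sum_apply] using this
  -- parities
  have hroot : ∀ n : ℕ, MemLocalIdeal M (ζ ^ n - 1) := fun n =>
    memLocalIdeal_sub_one_of_pow_prime_pow hM (k := e + 1)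
      (by rw [← pow_mul, mul_comm, pow_mul, hζ.pow_eq_one, one_pow])
  have hmod : ∀ c : Fin (2 ^ e) → ℤ, MemLocalIdeal M (twoEval ζ c - ((∑ r, c r : ℤ) : ℂ)) := by
    intro c
    simp only [twoEval, Int.cast_sum, ← Finset.sum_sub_distrib, ← mul_sub_one]
    exact memLocalIdeal_sum hM _ _ fun r _ =>
      memLocalIdeal_mul_left hM (intCast_mem _ _) (hroot _)
  have hreal : ∀ χ, conj (twoEval ζ (a χ χ)) = twoEval ζ (a χ χ) := fun χ => by
    rw [← ha, contr_conj]
  have hodd : ∀ χ ∈ B, blockHeight 2 B (χ : G → ℂ) = 0 → ¬ (2 : ℤ) ∣ μ χ := by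
    intro χ hχ h0 hdvd
    refine contr_not_mem hM hS.exists_order hS.comm hS.cen hS.ind rfl hχ hχ h0 h0 ?_
    rw [ha]
    have hsum : (2 : ℤ) ∣ ∑ r, a χ χ r := by
      have := dvd_add (even_sum_sub_const hζ _ (hreal χ)).two_dvd hdvd
      rwa [sub_add_cancel] at this
    obtain ⟨q, hq⟩ := hsum
    have h2 : MemLocalIdeal M ((∑ r, a χ χ r : ℤ) : ℂ) := by
      rw [hq, Int.cast_mul, Int.cast_ofNat]
      exact memLocalIdeal_mul_right hM ((memLocalIdeal_natCast_iff hM 2).2 dvd_rfl)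
        (intCast_mem _ _)
    have := memLocalIdeal_add hM (hmod (a χ χ)) h2
    rwa [sub_add_cancel] at this
  have hhalf : ∀ c : Fin (2 ^ e) → ℤ, twoEval ζ c / ((2 : ℕ) : ℂ) ∈ locRing hM →
      ∀ r, (2 : ℤ) ∣ c r := by
    intro c hc r
    have h := diff_dvd_of_local hM hζ 1 (fun x => if x.2 = 0 then c x.1 else 0) (by
      rw [pow_one]
      convert hc using 2
      rw [Fintype.sum_prod_type, twoEval]
      refine Finset.sum_congr rfl fun r _ => ?_
      simp [Fin.sum_univ_two, pos]) r 0 1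
    simpa using h
  have hscale : ∀ χ ∈ B, 0 < blockHeight 2 B (χ : G → ℂ) → ∀ x : ℂ,
      x / ((2 : ℕ) : ℂ) ^ blockHeight 2 B (χ : G → ℂ) ∈ locRing hM →
        x / ((2 : ℕ) : ℂ) ∈ locRing hM := by
    intro χ _ hh x hx
    obtain ⟨j, hj⟩ := Nat.exists_eq_add_one.2 hh
    have := mul_mem hx (pow_mem (natCast_mem (locRing hM) 2) j)
    convert this using 1
    rw [hj, pow_succ]
    field_simp
  have hfour : ∀ χ ∈ B, 0 < blockHeight 2 B (χ : G → ℂ) → (4 : ℤ) ∣ μ χ := by
    intro χ hχ hh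
    obtain ⟨j, hj⟩ := Nat.exists_eq_add_one.2 hh
    have hm1 := hS.contr_scaled_mem hM hχ hh
    have hloc := hscale χ hχ hh _ (memLocalRing_of_ideal hm1)
    have hdvd := hhalf (a χ χ) (by rwa [← ha])
    choose c hc using hdvd
    have he : twoEval ζ (a χ χ) = 2 * twoEval ζ c := by
      simp only [twoEval, Finset.mul_sum]
      exact Finset.sum_congr rfl fun r _ => by rw [hc r]; push_cast; ring
    have hmem : MemLocalIdeal M (twoEval ζ c) := by
      have := memLocalIdeal_mul_right hM hm1 (pow_mem (natCast_mem (locRing hM) 2) j)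
      convert this using 1
      rw [ha, he, hj, pow_succ]
      push_cast
      field_simp
    have h2 := memLocalIdeal_sub hM hmem (hmod c)
    rw [sub_sub_cancel] at h2
    have h3 : (2 : ℤ) ∣ ∑ r, c r := by exact_mod_cast dvd_of_memLocalIdeal_intCast hM h2
    have hr2 : conj (twoEval ζ c) = twoEval ζ c := by
      have := hreal χ
      rw [he, map_mul, map_ofNat] at this
      exact mul_left_cancel₀ two_ne_zero this
    have h4 : (2 : ℤ) ∣ c (twoRes e 0) := by
      have := dvd_sub h3 (even_sum_sub_const hζ c hr2).two_dvd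
      rwa [sub_sub_cancel] at this
    rw [hμdef]
    simp only
    rw [hc]
    exact mul_dvd_mul_left 2 h4
  have hS1 : ∀ χ ∈ B, ∀ η ∈ B, blockHeight 2 B (η : G → ℂ) = 0 →
      (1 ≤ S χ η ∧ (0 < blockHeight 2 B (χ : G → ℂ) → 4 ≤ S χ η)) := by
    intro χ hχ η hη h0
    obtain ⟨hs1, hs2⟩ := hS.contr_scaled hM hχ hη h0
    obtain ⟨r, hr⟩ : ∃ r, a χ η r ≠ 0 := by
      by_contra hall
      push Not at hall
      refine hs2 ?_
      rw [ha, show twoEval ζ (a χ η) = 0 by simp [twoEval, hall], zero_div]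
      exact memLocalIdeal_zero hM
    have hle : a χ η r ^ 2 ≤ S χ η :=
      Finset.single_le_sum (f := fun r => a χ η r ^ 2) (fun r _ => sq_nonneg _) (Finset.mem_univ r)
    have h1 : 1 ≤ a χ η r ^ 2 := by
      have := sq_pos_of_ne_zero hr
      omega
    refine ⟨h1.trans hle, fun hh => ?_⟩
    obtain ⟨q, hq⟩ := hhalf (a χ η) (by rw [← ha]; exact hscale χ hχ hh _ hs1) r
    have hq0 : q ≠ 0 := fun h => hr (by rw [hq, h, mul_zero])
    have : 1 ≤ q ^ 2 := by
      have := sq_pos_of_ne_zero hq0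
      omega
    rw [hq, mul_pow] at hle
    linarith
  have hsymm : ∀ χ η, S χ η = S η χ := by
    intro χ η
    have key : ∀ χ η : IrrCharacter G, contr 2 d u b χ η * conj (contr 2 d u b χ η) =
        contr 2 d u b η χ * conj (contr 2 d u b η χ) := fun χ η => by
      rw [contr_conj, contr_conj, mul_comm]
    obtain ⟨c, hc⟩ := exists_twoEval hζ (e := e)
      (x := twoEval ζ (a χ η) * conj (twoEval ζ (a χ η))) (by
        rw [conj_twoEval hζ, twoEval]
        exact mul_mem (sum_mem fun r _ => mul_mem (intCast_mem _ _)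
            (pow_mem (Subring.subset_closure (Set.mem_singleton ζ)) _))
          (sum_mem fun r _ => mul_mem (intCast_mem _ _)
            (pow_mem (Subring.subset_closure (Set.mem_singleton ζ)) _)))
    have e1 := const_coord_sq hζ (fun _ : Unit => a χ η) c (by simpa using hc)
    have e2 := const_coord_sq hζ (fun _ : Unit => a η χ) c (by
      rw [← hc, ← ha, ← ha, key χ η]
      simp)
    simp only [Finset.univ_unique, Finset.sum_singleton] at e1 e2
    exact e1.trans e2.symm
  obtain ⟨η₀, hη₀, hmin⟩ := exists_minVal (p := 2) (nonempty_of_isPBlock hM hS.ind.2.1)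
  have hη0 := (blockHeight_eq_zero_iff hη₀).2 hmin
  by_cases hone : B.toFinset.card ≤ 1
  · exact hone.trans Nat.one_le_two_pow
  -- the complementary diagonal is positive
  have hsplit : ∀ χ ∈ B, ∑ η ∈ B.toFinset.erase χ, S χ η ≤ μ χ * ((2 : ℤ) ^ d - μ χ) := by
    intro χ hχ
    have h := hrow χ
    rw [← Finset.add_sum_erase _ _ (Set.mem_toFinset.2 hχ)] at h
    have : μ χ ^ 2 ≤ S χ χ :=
      Finset.single_le_sum (f := fun r => a χ χ r ^ 2) (fun r _ => sq_nonneg _)
        (Finset.mem_univ (twoRes e 0))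
    linarith
  have hpos : ∀ χ ∈ B, 0 < μ χ ∧ μ χ < (2 : ℤ) ^ d := by
    intro χ hχ
    have hsum0 : 0 < ∑ η ∈ B.toFinset.erase χ, S χ η := by
      by_cases hc : χ = η₀
      · obtain ⟨η, hη⟩ := Finset.card_pos.1 (show 0 < (B.toFinset.erase χ).card by
          rw [Finset.card_erase_of_mem (Set.mem_toFinset.2 hχ)]; omega)
        have hηB := Set.mem_toFinset.1 (Finset.mem_of_mem_erase hη)
        refine lt_of_lt_of_le ?_ (Finset.single_le_sum (fun η _ => hS0 χ η) hη)
        rw [hsymm, hc]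
        exact (hS1 η hηB η₀ hη₀ hη0).1
      · refine lt_of_lt_of_le ?_ (Finset.single_le_sum (fun η _ => hS0 χ η)
          (Finset.mem_erase.2 ⟨Ne.symm hc, Set.mem_toFinset.2 hη₀⟩))
        exact (hS1 χ hχ η₀ hη₀ hη0).1
    have hμ0 : 0 ≤ μ χ := by
      have h := hrow χ
      have h' : (0 : ℤ) ≤ ∑ η ∈ B.toFinset, S χ η := Finset.sum_nonneg fun η _ => hS0 χ η
      rw [h] at h'
      exact nonneg_of_mul_nonneg_right h' (by positivity)
    have hlt := lt_of_lt_of_le hsum0 (hsplit χ hχ)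
    constructor
    · rcases hμ0.lt_or_eq with h | h
      · exact h
      · rw [← h, zero_mul] at hlt; exact absurd hlt (lt_irrefl 0)
    · by_contra hge
      have := mul_nonpos_of_nonneg_of_nonpos hμ0 (sub_nonpos.2 (not_lt.1 hge))
      omega
  set ν : IrrCharacter G → ℤ := fun χ => (2 : ℤ) ^ d - μ χ with hν
  by_cases hex : ∃ χ ∈ B, blockHeight 2 B (χ : G → ℂ) = 0 ∧ ν χ = 1
  · obtain ⟨χ, hχ, h0, h1⟩ := hex
    have hle := hsplit χ hχ
    have hlow : ((B.toFinset.erase χ).card : ℤ) ≤ ∑ η ∈ B.toFinset.erase χ, S χ η := by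
      rw [Finset.card_eq_sum_ones, Nat.cast_sum]
      refine Finset.sum_le_sum fun η hη => ?_
      rw [hsymm, Nat.cast_one]
      exact (hS1 η (Set.mem_toFinset.1 (Finset.mem_of_mem_erase hη)) χ hχ h0).1
    rw [show (2 : ℤ) ^ d - μ χ = 1 from h1, mul_one] at hle
    rw [Finset.card_erase_of_mem (Set.mem_toFinset.2 hχ)] at hlow
    have h2 := (hpos χ hχ).2
    have h3 : ((B.toFinset.card - 1 : ℕ) : ℤ) < (((2 : ℕ) ^ d : ℕ) : ℤ) := by push_cast; omega
    rw [Nat.cast_lt] at h3
    omega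
  · have hν3 : ∀ χ ∈ B.toFinset, (3 : ℤ) ≤ ν χ := by
      intro χ hχ'
      have hχ := Set.mem_toFinset.1 hχ'
      obtain ⟨hp1, hp2⟩ := hpos χ hχ
      rcases Nat.eq_zero_or_pos (blockHeight 2 B (χ : G → ℂ)) with h0 | hh
      · have hne : ν χ ≠ 1 := fun h => hex ⟨χ, hχ, h0, h⟩
        have hd0 : (2 : ℤ) ∣ 2 ^ d := by
          refine dvd_pow_self 2 fun hd0 => ?_
          rw [hd0, pow_zero] at hp2
          omega
        have ho := hodd χ hχ h0
        simp only [hν] at hne ⊢
        omega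
      · have h4 := hfour χ hχ hh
        have hd2 : (4 : ℤ) ∣ 2 ^ d := by
          have hd2 : 2 ≤ d := by
            by_contra hd2
            have : (2 : ℤ) ^ d ≤ 2 ^ 1 := pow_le_pow_right₀ (by norm_num) (by omega)
            obtain ⟨q, hq⟩ := h4
            omega
          rw [show d = 2 + (d - 2) by omega, pow_add]
          exact dvd_mul_right _ _
        simp only [hν]
        omega
    have h := Finset.sum_le_sum hν3
    simp only [hν, Finset.sum_sub_distrib, Finset.sum_const, nsmul_eq_mul, htrace] at h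
    have hk' : (B.toFinset.card : ℤ) - (blockRank 2 b : ℤ) ≤ 3 := by omega
    have h2 : (B.toFinset.card : ℤ) * 2 ^ d - 2 ^ d * (blockRank 2 b : ℤ) ≤ 3 * 2 ^ d := by
      have := mul_le_mul_of_nonneg_right hk' (by positivity : (0 : ℤ) ≤ 2 ^ d)
      linarith
    have h3 : (B.toFinset.card : ℤ) ≤ (((2 : ℕ) ^ d : ℕ) : ℤ) := by push_cast; linarith
    exact_mod_cast h3

end Bound

end Cfsg.Lib.Block
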