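import Cfsg.Agent.Lib.Block.PPrimeKernel
import Cfsg.Agent.Lib.Block.DegreesPPrime
import Cfsg.Agent.Lib.Core.PSolvable
import Cfsg.Agent.Lib.Core.Cores

/-!
# Coincidence of the height-zero parts of two principal blocks
-/

set_option autoImplicit false
set_option linter.unusedSectionVars false
set_option linter.style.haveILetI false

namespace Cfsg.Lib.Block

open Cfsg Cfsg.Lib
open scoped ComplexConjugate commutatorElement

universe u

variable {p : ℕ} [hp : Fact p.Prime] {G : Type u} [Group G] [Finite G]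

theorem eq_pResidual_bot {Q : Type u} [Group Q] [Finite Q] (hQ : IsPGroup p Q) :
    pResidual p Q = ⊥ := by
  rw [eq_bot_iff, pResidual, Subgroup.closure_le]
  intro x hx
  obtain ⟨j, hj⟩ := IsPGroup.iff_orderOf.1 hQ x
  rcases j with _ | j
  · simpa using hj
  · have := Nat.Coprime.coprime_dvd_left (hj ▸ dvd_pow_self p j.succ_ne_zero) hx
    exact absurd (Nat.coprime_self p |>.1 this) hp.out.ne_one

/-- A normal subgroup meeting a Sylow subgroup inside its Frattini subgroup lies in it, when the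
`p'`-core is trivial. -/
theorem le_sylow_of_inf_le_frattini (hO : pPrimeCore p G = ⊥) (L : Subgroup G) [hLn : L.Normal]
    (P : Sylow p G) (h : L ⊓ (P : Subgroup G) ≤ (frattini P).map (P : Subgroup G).subtype) :
    L ≤ (P : Subgroup G) := by
  haveI := Fintype.ofFinite G
  set X : Subgroup G := L ⊔ (P : Subgroup G) with hX
  have hPX : (P : Subgroup G) ≤ X := le_sup_right
  have hLX : L ≤ X := le_sup_left
  let PX : Sylow p X := P.subtype hPX
  have hPXc : (PX : Subgroup X) = (P : Subgroup G).subgroupOf X := Sylow.coe_subtype P hPX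
  have hres : pResidual p X ≤ L.subgroupOf X := by
    rw [pResidual, Subgroup.closure_le]
    intro x hx
    have hx' : (x : G) ∈ L ⊔ (P : Subgroup G) := x.2
    rw [← SetLike.mem_coe, Subgroup.normal_mul] at hx'
    obtain ⟨k, hk, y, hy, he⟩ := hx'
    refine Subgroup.mem_subgroupOf.2 ?_
    rw [← QuotientGroup.eq_one_iff]
    have e : ((x : G) : G ⧸ L) = (y : G ⧸ L) := by
      rw [← he, QuotientGroup.mk_mul, (QuotientGroup.eq_one_iff k).2 hk, one_mul]
    obtain ⟨j, hj⟩ := IsPGroup.iff_orderOf.1 P.2 ⟨y, hy⟩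
    rw [← Subgroup.orderOf_coe] at hj
    have d1 : orderOf ((x : G) : G ⧸ L) ∣ orderOf x := by
      rw [← Subgroup.orderOf_coe x]
      exact orderOf_map_dvd (QuotientGroup.mk' L) (x : G)
    have d2 : orderOf ((x : G) : G ⧸ L) ∣ p ^ j := by
      rw [e, ← hj]
      exact orderOf_map_dvd (QuotientGroup.mk' L) y
    exact orderOf_eq_one_iff.1 (Nat.eq_one_of_dvd_coprimes (Nat.Coprime.pow_right j hx) d1 d2)
  have hbot : (pResidual p (PX : Subgroup X)).map (PX : Subgroup X).subtype = ⊥ := by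
    rw [eq_pResidual_bot PX.2, Subgroup.map_bot]
  have hle : pResidual p X ⊓ (PX : Subgroup X) ≤
      (frattini PX).map (PX : Subgroup X).subtype := by
    intro x hx
    have hxP : (x : G) ∈ (P : Subgroup G) := by
      have := hx.2; rw [hPXc] at this; exact this
    obtain ⟨y, hy, he⟩ := h ⟨Subgroup.mem_subgroupOf.1 (hres hx.1), hxP⟩
    let e : (P : Subgroup G) ≃* (PX : Subgroup X) :=
      (Subgroup.subgroupOfEquivOfLe hPX).symm.trans (MulEquiv.subgroupCongr hPXc.symm)
    exact ⟨e y, frattini_le_comap_frattini_of_surjective (φ := e.toMonoidHom) e.surjective hy,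
      Subtype.ext he⟩
  have hT := Fusion.tate PX (PX : Subgroup X) le_rfl (hle.trans le_sup_left)
  rw [hbot, bot_inf_eq] at hT
  -- the residual is a normal `p'`-subgroup inside `L`
  set R : Subgroup G := (pResidual p X).map X.subtype with hR
  have hRL : R ≤ L := by
    rintro _ ⟨x, hx, rfl⟩
    exact hres hx
  set M₁ := piCoreOf {q | q ≠ p} L with hM₁
  haveI hM₁n : M₁.Normal := Subgroup.normalizer_eq_top_iff.1 (top_unique (by
    have h : Subgroup.normalizer (L : Set G) = ⊤ := Subgroup.normalizer_eq_top_iff.2 inferInstance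
    rw [← h]
    exact normalizer_le_normalizer_core L))
  have hM₁bot : M₁ = ⊥ := by
    refine le_bot_iff.1 (hO ▸ Core.le_pPrimeCore' hM₁n ?_)
    rw [Nat.coprime_comm, hp.out.coprime_iff_not_dvd]
    exact fun hd => core_isPiSub {q | q ≠ p} L p hp.out hd rfl
  have hRM : R ≤ M₁ := by
    refine le_core hRL (fun k hk => ?_) fun q hq hd hqp => ?_
    · have hn : (pResidual p X).Normal := inferInstance
      refine Subgroup.mem_normalizer_iff.2 fun h => ⟨?_, ?_⟩
      · rintro ⟨x, hx, rfl⟩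
        exact ⟨⟨k, hLX hk⟩ * x * ⟨k, hLX hk⟩⁻¹, hn.conj_mem x hx _, rfl⟩
      · rintro ⟨x, hx, he⟩
        refine ⟨⟨k, hLX hk⟩⁻¹ * x * ⟨k, hLX hk⟩⁻¹⁻¹, hn.conj_mem x hx _, ?_⟩
        show k⁻¹ * (x : G) * k⁻¹⁻¹ = h
        rw [show (x : G) = k * h * k⁻¹ from he]
        group
    · subst hqp
      rw [hR, Subgroup.card_map_of_injective X.subtype_injective] at hd
      obtain ⟨y, hy⟩ := exists_prime_orderOf_dvd_card' q hd
      rw [← Subgroup.orderOf_coe] at hy
      obtain ⟨S, hS⟩ := (IsPGroup.of_card (n := 1)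
        (show Nat.card (Subgroup.zpowers (y : X)) = q ^ 1 by rw [Nat.card_zpowers, hy, pow_one]))
        |>.exists_le_sylow
      obtain ⟨g, hg⟩ := MulAction.exists_smul_eq X S PX
      have hmem : g * (y : X) * g⁻¹ ∈ pResidual q X ⊓ (PX : Subgroup X) := by
        refine ⟨(inferInstance : (pResidual q X).Normal).conj_mem _ y.2 g, ?_⟩
        rw [← hg]
        exact ⟨(y : X), hS (Subgroup.mem_zpowers _), rfl⟩
      rw [hT, Subgroup.mem_bot, mul_inv_eq_one, mul_eq_left] at hmem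
      rw [hmem, orderOf_one] at hy
      exact hp.out.ne_one hy.symm
  intro g hg
  obtain ⟨x, hx, m, hm, he⟩ := Fusion.exists_mul_of_sylow PX ⟨g, hLX hg⟩
  have hm1 : (m : G) = 1 := Subgroup.mem_bot.1 (hM₁bot ▸ hRM ⟨m, hm, rfl⟩)
  have he' : g = (x : G) * (m : G) := congrArg Subtype.val he
  rw [he', hm1, mul_one]
  rw [hPXc] at hx
  exact hx

section Pair

variable {q : ℕ} [hq : Fact q.Prime]

/-- The hypothesis: one inclusion between the two sets of characters. -/
def CoreLink (p q : ℕ) (G : Type u) [Group G] [Finite G] : Prop :=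
  ∀ χ : IrrCharacter G, ¬ p ∣ charDegree (χ : G → ℂ) →
    (∀ n ∈ pPrimeCore p G, (χ : G → ℂ) n = (χ : G → ℂ) 1) →
      ∀ n ∈ pPrimeCore q G, (χ : G → ℂ) n = (χ : G → ℂ) 1

theorem pCore_link (h : CoreLink p q G) (hpG : p ∣ Nat.card G) :
    pPrimeCore p G ⊔ pPrimeCore q G ≠ ⊤ ∧
      ∀ (K : Subgroup G) [K.Normal], K = pPrimeCore p G ⊔ pPrimeCore q G →
        pPrimeCore p (G ⧸ K) = ⊥ := by
  classical
  haveI := Fintype.ofFinite G
  haveI := Fintype.ofFinite (G ⧸ pPrimeCore p G)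
  set A := pPrimeCore p G with hA
  set B := pPrimeCore q G with hB
  have hY : pPrimeCore p (G ⧸ A) = ⊥ := Core.pPrimeCore_quotient_eq_bot
  obtain ⟨P⟩ : Nonempty (Sylow p (G ⧸ A)) := inferInstance
  have hsurj := QuotientGroup.mk'_surjective A
  have hBker : B.map (QuotientGroup.mk' A) ≤ pPrimeKer p (G ⧸ A) := by
    rintro _ ⟨b, hb, rfl⟩
    refine mem_pPrimeKer.2 fun ψ hψ => ?_
    exact h ⟨_, Char.isIrrCharacter_inflate A ψ.2⟩ hψ (fun n hn => by
      show (ψ : G ⧸ A → ℂ) (n : G ⧸ A) = (ψ : G ⧸ A → ℂ) ((1 : G) : G ⧸ A)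
      rw [(QuotientGroup.eq_one_iff n).2 hn, QuotientGroup.mk_one]) b hb
  have hmax : ∀ L : Subgroup (G ⧸ A), L.Normal →
      L ⊓ Subgroup.centralizer ((P : Subgroup (G ⧸ A)) : Set (G ⧸ A)) = ⊥ → L ≤ ⊥ := by
    intro L hL hfix
    haveI := hL
    rw [← hY]
    exact Core.le_pPrimeCore' hL (Nat.coprime_comm.1
      (hp.out.coprime_iff_not_dvd.2 (not_dvd_card_of_fixedPointFree P hfix)))
  have hkerD : pPrimeKer p (G ⧸ A) ≤
      ⁅(P : Subgroup (G ⧸ A)), (P : Subgroup (G ⧸ A))⁆ :=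
    (pPrimeKer_le_core P hmax).trans ((Subgroup.normalCore_le _).trans (by rw [bot_sup_eq]))
  have hD : ⁅(P : Subgroup (G ⧸ A)), (P : Subgroup (G ⧸ A))⁆ ≤
      (frattini P).map (P : Subgroup (G ⧸ A)).subtype := by
    rw [← Subgroup.map_subtype_commutator]
    exact Subgroup.map_mono (PGroup.commutator_le_frattini P.2)
  have hker : B.map (QuotientGroup.mk' A) ≤ (P : Subgroup (G ⧸ A)) := by
    refine (hBker.trans hkerD).trans ?_
    exact Subgroup.commutator_le_self _
  constructor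
  · intro htop
    have hBtop : B.map (QuotientGroup.mk' A) = ⊤ := by
      rw [← Subgroup.map_top_of_surjective _ hsurj, ← htop, Subgroup.map_sup,
        QuotientGroup.map_mk'_self, bot_sup_eq]
    have hDtop : ⁅(P : Subgroup (G ⧸ A)), (P : Subgroup (G ⧸ A))⁆ = ⊤ :=
      top_le_iff.1 (hBtop ▸ hBker.trans hkerD)
    have hPtop : (P : Subgroup (G ⧸ A)) = ⊤ := top_le_iff.1 (hBtop ▸ hker)
    haveI hnil : Group.IsNilpotent (G ⧸ A) := by
      have h1 : IsPGroup p (⊤ : Subgroup (G ⧸ A)) := hPtop ▸ P.2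
      exact (h1.of_equiv Subgroup.topEquiv).isNilpotent
    haveI : Nontrivial (G ⧸ A) := by
      rw [QuotientGroup.nontrivial_iff]
      intro hAtop
      have h1 := Core.pPrimeCore_not_dvd p G
      rw [← hA, hAtop, Subgroup.card_top] at h1
      exact h1 hpG
    rw [hPtop, ← commutator_def] at hDtop
    exact (Group.IsSolvable.commutator_lt_top_of_nontrivial (G ⧸ A)).ne hDtop
  · intro K _ hK
    have hAK : A ≤ K := hK ▸ le_sup_left
    set L₀ := (pPrimeCore p (G ⧸ K)).comap (QuotientGroup.mk' K) with hL₀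
    haveI : (L₀.map (QuotientGroup.mk' A)).Normal := Subgroup.Normal.map inferInstance _ hsurj
    have hLP : L₀.map (QuotientGroup.mk' A) ⊓ (P : Subgroup (G ⧸ A)) ≤
        B.map (QuotientGroup.mk' A) := by
      rintro _ ⟨⟨g, hg, rfl⟩, hgP⟩
      let f : G ⧸ A →* G ⧸ K :=
        QuotientGroup.map A K (MonoidHom.id G) (by simpa using hAK)
      have h1 : f (QuotientGroup.mk' A g) ∈ pPrimeCore p (G ⧸ K) := hg
      obtain ⟨j, hj⟩ := IsPGroup.iff_orderOf.1 P.2 ⟨_, hgP⟩
      rw [← Subgroup.orderOf_coe] at hj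
      have d1 := orderOf_map_dvd f (QuotientGroup.mk' A g)
      have d2 := Subgroup.orderOf_dvd_natCard _ h1
      rw [hj] at d1
      have h2 : f (QuotientGroup.mk' A g) = 1 := orderOf_eq_one_iff.1
        (Nat.eq_one_of_dvd_coprimes ((Core.pPrimeCore_coprime p (G ⧸ K)).pow_right j) d2 d1)
      have h3 : g ∈ K := (QuotientGroup.eq_one_iff g).1 h2
      have h4 : QuotientGroup.mk' A g ∈ K.map (QuotientGroup.mk' A) := ⟨g, h3, rfl⟩
      rwa [hK, Subgroup.map_sup, QuotientGroup.map_mk'_self, bot_sup_eq] at h4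
    have hle := le_sylow_of_inf_le_frattini hY _ P ((hLP.trans (hBker.trans hkerD)).trans hD)
    have hL₀ : L₀ ≤ K := by
      intro g hg
      have h4 := hLP ⟨⟨g, hg, rfl⟩, hle ⟨g, hg, rfl⟩⟩
      obtain ⟨b, hb, he⟩ := h4
      have h5 : b⁻¹ * g ∈ A := QuotientGroup.eq.1 he
      have := mul_mem (hK ▸ Subgroup.mem_sup_right hb : b ∈ K) (hAK h5)
      rwa [mul_inv_cancel_left] at this
    rw [eq_bot_iff, ← Subgroup.map_comap_eq_self_of_surjective (QuotientGroup.mk'_surjective K)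
      (pPrimeCore p (G ⧸ K))]
    exact (Subgroup.map_mono hL₀).trans (le_of_eq (QuotientGroup.map_mk'_self K))

theorem eq_of_coreLink (hpG : p ∣ Nat.card G) (hqG : q ∣ Nat.card G) (hps : IsPSolvable p G)
    (h : CoreLink p q G) (h' : CoreLink q p G) : p = q := by
  by_contra hne
  obtain ⟨hK, hP'⟩ := pCore_link h hpG
  obtain ⟨-, hQ'⟩ := pCore_link h' hqG
  have hP := hP' _ rfl
  have hQ := hQ' (pPrimeCore p G ⊔ pPrimeCore q G) (sup_comm _ _)
  set K := pPrimeCore p G ⊔ pPrimeCore q G with hKdef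
  haveI : Nontrivial (G ⧸ K) := QuotientGroup.nontrivial_iff.2 hK
  have hne' := Core.pCore_ne_bot_of_isPSolvable (Core.isPSolvable_quotient hps K) hP
  refine hne' (le_bot_iff.1 (hQ ▸ Core.le_pPrimeCore' (p := q) inferInstance ?_))
  obtain ⟨k, hk⟩ := IsPGroup.iff_card.1 (Core.pCore_isPGroup p (G ⧸ K))
  rw [hk]
  exact ((Nat.coprime_primes hp.out hq.out).2 hne).pow_left k

end Pair

end Cfsg.Lib.Block
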