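import Cfsg.Agent.Lib.Block.MaximalIff
import Cfsg.Agent.Lib.Char.Ramification
import Cfsg.Agent.Lib.Char.Triple

/-!
# Pairs carrying a weight
-/

set_option autoImplicit false
set_option linter.unusedSectionVars false
set_option maxHeartbeats 800000

namespace Cfsg.Lib.Block

open Cfsg
open scoped ComplexConjugate

universe u

variable {p : ℕ} {M : Ideal AlgInt} {G : Type u} [Group G] [Fintype G] [Fact p.Prime]

noncomputable local instance (priority := high) fintypeSubgroupWeightPairs {A : Type u}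
    [Group A] [Fintype A] (H : Subgroup A) : Fintype H := Fintype.ofFinite H

local notation "C[" Q "]" => Subgroup.centralizer (SetLike.coe Q)

variable (hM : IsPModular p M)

include hM in
/-- A character of full degree modulo `Q` is zero where the `p`-part lies outside `Q`. -/
theorem apply_eq_zero_of_full {A : Type u} [Group A] [Fintype A] {Q : Subgroup A} [Q.Normal]
    {φ : IrrCharacter (A ⧸ Q)}
    (hfull : (Nat.card (A ⧸ Q)).factorization p ≤
      (charDegree (φ : A ⧸ Q → ℂ)).factorization p)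
    {h : A} (hh : pPt p h ∉ Q) : (φ : A ⧸ Q → ℂ) (h : A ⧸ Q) = 0 := by
  classical
  haveI := Fintype.ofFinite (A ⧸ Q)
  have hp : p.Prime := Fact.out
  have hI := vInt_singleton hM φ hfull
  have hdvd : p ∣ orderOf (h : A ⧸ Q) := by
    by_contra hn
    refine hh ((QuotientGroup.eq_one_iff _).1 ?_)
    obtain ⟨a, ha⟩ : ∃ a : ℕ, h ^ a = pPt p h :=
      mem_powers_iff_mem_zpowers.2 (pPt_mem_zpowers h)
    obtain ⟨j, hj⟩ := exists_orderOf_pPt (p := p) h
    have h1 : orderOf ((pPt p h : A) : A ⧸ Q) ∣ p ^ j :=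
      hj ▸ orderOf_map_dvd (QuotientGroup.mk' Q) (pPt p h)
    have h2 : orderOf ((pPt p h : A) : A ⧸ Q) ∣ orderOf (h : A ⧸ Q) := by
      rw [← ha, QuotientGroup.mk_pow]; exact orderOf_pow_dvd a
    exact orderOf_eq_one_iff.1 (Nat.eq_one_of_dvd_coprimes
      (Nat.Coprime.pow_left j (hp.coprime_iff_not_dvd.2 hn)) h1 h2)
  have h0 := blockCoeff_eq_zero_of_dvd hM hI hdvd
  rw [blockCoeff, finsum_mem_singleton, mul_eq_zero, inv_eq_zero, mul_eq_zero] at h0
  rcases h0 with h0 | h0 | h0
  · exact absurd h0 Char.card_cast_ne_zero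
  · exact absurd h0 φ.2.apply_one_ne_zero
  · simpa using h0

include hM in
/-- A normal `p`-subgroup lies in `Q` when there is a character of full degree modulo `Q`. -/
theorem le_of_full {A : Type u} [Group A] [Fintype A] {Q R : Subgroup A} [Q.Normal] [R.Normal]
    (hR : IsPGroup p R) {φ : IrrCharacter (A ⧸ Q)}
    (hfull : (Nat.card (A ⧸ Q)).factorization p ≤
      (charDegree (φ : A ⧸ Q → ℂ)).factorization p) : R ≤ Q := by
  classical
  haveI := Fintype.ofFinite (A ⧸ Q)
  haveI : (R.map (QuotientGroup.mk' Q)).Normal :=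
    Subgroup.Normal.map inferInstance _ (QuotientGroup.mk'_surjective Q)
  obtain ⟨ψ, hψ, htriv⟩ := exists_trivial_on_mem hM (hR.map (QuotientGroup.mk' Q))
    (isPBlock_blockOf (M := M) φ)
  rw [blockOf_eq_singleton_of_full hM φ hfull, Set.mem_singleton_iff] at hψ
  subst hψ
  intro r hr
  by_contra hrQ
  have hpp : pPt p r = r := by
    obtain ⟨k, hk⟩ := IsPGroup.iff_orderOf.1 hR ⟨r, hr⟩
    rw [Subgroup.orderOf_mk] at hk
    exact (eq_pPt (mul_one _) (Commute.one_right _) (k := k) hk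
      (by simpa using (Fact.out : p.Prime).ne_one)).symm
  have h1 := apply_eq_zero_of_full hM hfull (h := r) (by rwa [hpp])
  have h2 := htriv (r : A ⧸ Q) ⟨r, hr, rfl⟩
  rw [h1] at h2
  exact ψ.2.apply_one_ne_zero h2.symm

open Classical in
include hM in
/-- A weight forces the centre of `Q` to be a defect group of the pair. -/
theorem defect_of_weight {Q T : Subgroup G} {e : Set (IrrCharacter C[Q])}
    (he : IsBrauerPair p M Q e) (hQT : Q ≤ T) (hCT : C[Q] ≤ T)
    (hTN : T ≤ Subgroup.normalizer (Q : Set G)) {F' : Set (IrrCharacter T)}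
    (hcoeff : ∀ t : T, blockCoeff F' t = subgroupBlockCoeff C[Q] e (t : G))
    {χ : IrrCharacter T} (hχ : χ ∈ F')
    (hχQ : ∀ t : T, (t : G) ∈ Q → (χ : T → ℂ) t = (χ : T → ℂ) 1)
    (hdeg : (charDegree (χ : T → ℂ)).factorization p + (Nat.card Q).factorization p =
      (Nat.card T).factorization p) :
    IsDefectGroup p M e ((Q ⊓ C[Q]).subgroupOf C[Q]) := by
  have hp : p.Prime := Fact.out
  haveI hQ' : (Q.subgroupOf T).Normal := Subgroup.normal_subgroupOf_of_le_normalizer hTN
  haveI : (C[Q].subgroupOf T).Normal :=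
    Subgroup.normal_subgroupOf_of_le_normalizer fun y hy => mem_normalizer_centralizer (hTN hy)
  obtain ⟨φ, hφ, hφχ⟩ := Char.exists_deflate_irr (Q.subgroupOf T) χ.2
    fun n hn => hχQ n (Subgroup.mem_subgroupOf.1 hn)
  haveI := Fintype.ofFinite (T ⧸ Q.subgroupOf T)
  let Nb : Subgroup (T ⧸ Q.subgroupOf T) :=
    (C[Q].subgroupOf T).map (QuotientGroup.mk' (Q.subgroupOf T))
  haveI : Nb.Normal :=
    Subgroup.Normal.map inferInstance _ (QuotientGroup.mk'_surjective _)
  let π : C[Q] →* Nb :=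
    ((QuotientGroup.mk' (Q.subgroupOf T)).comp (Subgroup.inclusion hCT)).codRestrict Nb
      fun c => ⟨Subgroup.inclusion hCT c, c.2, rfl⟩
  have hπ : Function.Surjective π := by
    rintro ⟨_, t, ht, rfl⟩
    exact ⟨⟨(t : G), ht⟩, rfl⟩
  obtain ⟨ψ, hψne⟩ := Char.exists_irr_constituent_res (H := Nb) hφ
  let θ : IrrCharacter C[Q] := ⟨fun c => (ψ : Nb → ℂ) (π c), ψ.2.comp_surjective π hπ⟩
  have hθne : classInner (fun c : C[Q] => (χ : T → ℂ) (Subgroup.inclusion hCT c))
      (θ : C[Q] → ℂ) ≠ 0 := by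
    have h := Char.classInner_comp_surjective π hπ (fun x : Nb => φ (x : T ⧸ Q.subgroupOf T))
      (ψ : Nb → ℂ)
    have e1 : (fun c : C[Q] => φ ((π c : Nb) : T ⧸ Q.subgroupOf T)) =
        fun c : C[Q] => (χ : T → ℂ) (Subgroup.inclusion hCT c) := funext fun c => hφχ _
    rw [e1] at h
    rw [show (θ : C[Q] → ℂ) = fun c => (ψ : Nb → ℂ) (π c) from rfl, h]
    exact hψne
  have hθe : θ ∈ e := by
    by_contra hn
    set f : C[Q] → ℂ := fun c => (χ : T → ℂ) (Subgroup.inclusion hCT c) with hf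
    have hfc : IsCharacter C[Q] f := χ.2.isCharacter.comp (Subgroup.inclusion hCT)
    have h1 : vec (blockCoeff F') χ = 1 := by
      have : blockCoeff F' = zc (indVec F') := funext fun g => (zc_indVec F' g).symm
      rw [this, vec_zc, indVec, if_pos hχ]
    have h2 : ∑ t : T, blockCoeff F' t * (χ : T → ℂ) t =
        ∑ c : C[Q], blockCoeff e c * f c := by
      refine (Finset.sum_of_injOn (Subgroup.inclusion hCT)
        (Subgroup.inclusion_injective hCT).injOn (fun _ _ => Finset.mem_univ _) ?_ ?_).symm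
      · intro t _ ht
        rw [hcoeff, subgroupBlockCoeff, dif_neg, zero_mul]
        exact fun hc => ht ⟨⟨(t : G), hc⟩, Finset.mem_univ _, rfl⟩
      · intro c _
        rw [hcoeff, subgroupBlockCoeff,
          dif_pos (show ((Subgroup.inclusion hCT c : T) : G) ∈ C[Q] from c.2)]
        rfl
    have h3 : ∑ c : C[Q], blockCoeff e c * f c =
        ∑ η ∈ e.toFinset, (η : C[Q] → ℂ) 1 * classInner f (η : C[Q] → ℂ) := by
      simp only [blockCoeff, finsum_mem_eq_toFinset_sum, classInner, Finset.mul_sum,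
        Finset.sum_mul]
      rw [Finset.sum_comm]
      exact Finset.sum_congr rfl fun η _ => Finset.sum_congr rfl fun c _ => by ring
    have h4 : f 1 = ∑ η : IrrCharacter C[Q],
        classInner f (η : C[Q] → ℂ) * (η : C[Q] → ℂ) 1 := by
      conv_lhs => rw [Char.eq_sum_classInner hfc.isClassFunction]
      simp
    rw [vec, h2, h3, div_eq_one_iff_eq χ.2.apply_one_ne_zero,
      show (χ : T → ℂ) 1 = f 1 by simp [hf], h4,
      ← Finset.sum_filter_add_sum_filter_not Finset.univ (fun η => η ∈ e),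
      show Finset.univ.filter (fun η => η ∈ e) = e.toFinset by ext; simp,
      Finset.sum_congr rfl (fun η (_ : η ∈ e.toFinset) =>
        mul_comm (classInner f (η : C[Q] → ℂ)) ((η : C[Q] → ℂ) 1)), left_eq_add] at h1
    have hnat : ∀ η : IrrCharacter C[Q], ∃ n : ℕ,
        classInner f (η : C[Q] → ℂ) * (η : C[Q] → ℂ) 1 = n := fun η => by
      obtain ⟨n, hn⟩ := hfc.exists_nat_classInner η.2.isCharacter
      exact ⟨n * charDegree (η : C[Q] → ℂ), by rw [hn, apply_one_eq_charDegree, Nat.cast_mul]⟩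
    choose n hnn using hnat
    rw [Finset.sum_congr rfl (fun η _ => hnn η), ← Nat.cast_sum, Nat.cast_eq_zero,
      Finset.sum_eq_zero_iff] at h1
    have h5 := h1 θ (Finset.mem_filter.2 ⟨Finset.mem_univ _, hn⟩)
    have h6 := hnn θ
    rw [h5, Nat.cast_zero, mul_eq_zero] at h6
    exact h6.elim hθne θ.2.apply_one_ne_zero
  let Z : Subgroup C[Q] := (Q ⊓ C[Q]).subgroupOf C[Q]
  have hker : π.ker = Z := by
    ext c
    rw [MonoidHom.mem_ker, Subtype.ext_iff]
    show ((Subgroup.inclusion hCT c : T) : T ⧸ Q.subgroupOf T) = 1 ↔ _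
    rw [QuotientGroup.eq_one_iff, Subgroup.mem_subgroupOf, Subgroup.mem_subgroupOf,
      Subgroup.mem_inf]
    exact ⟨fun h => ⟨h, c.2⟩, fun h => h.1⟩
  have hZc : Z ≤ Subgroup.center C[Q] := fun z hz => Subgroup.mem_center_iff.2 fun y =>
    Subtype.ext (Subgroup.mem_centralizer_iff.1 y.2 (z : G) (Subgroup.mem_subgroupOf.1 hz).1).symm
  have hZp : IsPGroup p Z := (he.1.to_le inf_le_left).comap_subtype
  have hcC : Nat.card C[Q] = Nat.card Nb * Nat.card Z := by
    rw [Subgroup.card_eq_card_quotient_mul_card_subgroup π.ker,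
      Nat.card_congr (QuotientGroup.quotientKerEquivOfSurjective π hπ).toEquiv, hker]
  have hcT : Nat.card T = Nat.card (T ⧸ Q.subgroupOf T) * Nat.card Q := by
    rw [Subgroup.card_eq_card_quotient_mul_card_subgroup (Q.subgroupOf T),
      Nat.card_congr (Subgroup.subgroupOfEquivOfLe hQT).toEquiv]
  obtain ⟨hdvd, hidx⟩ := Char.degree_ratio_dvd_index Nb hφ ψ.2 hψne
    (c := charDegree φ) (d := charDegree (ψ : Nb → ℂ))
    (apply_one_eq_charDegree (⟨φ, hφ⟩ : IrrCharacter (T ⧸ Q.subgroupOf T)))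
    (apply_one_eq_charDegree ψ)
  have hdχ : charDegree (χ : T → ℂ) = charDegree φ := by simp only [charDegree, ← hφχ]; rfl
  have hdθ : charDegree (θ : C[Q] → ℂ) = charDegree (ψ : Nb → ℂ) := by
    simp [charDegree, θ]
  have hψ0 : charDegree (ψ : Nb → ℂ) ≠ 0 := (charDegree_pos ψ).ne'
  have hφ0 : charDegree φ ≠ 0 :=
    (charDegree_pos (⟨φ, hφ⟩ : IrrCharacter (T ⧸ Q.subgroupOf T))).ne'
  have hq0 : charDegree φ / charDegree (ψ : Nb → ℂ) ≠ 0 :=
    (Nat.div_pos (Nat.le_of_dvd (Nat.pos_of_ne_zero hφ0) hdvd) (Nat.pos_of_ne_zero hψ0)).ne'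
  have v1 := (Nat.factorization_le_iff_dvd hq0 Subgroup.index_ne_zero_of_finite).2 hidx p
  have v2 : (charDegree φ / charDegree (ψ : Nb → ℂ)).factorization p +
      (charDegree (ψ : Nb → ℂ)).factorization p = (charDegree φ).factorization p := by
    conv_rhs => rw [← Nat.div_mul_cancel hdvd]
    rw [Nat.factorization_mul hq0 hψ0, Finsupp.add_apply]
  have v3 := congrArg (fun n => n.factorization p) (Subgroup.card_mul_index Nb)
  have v4 := congrArg (fun n => n.factorization p) hcC
  have v5 := congrArg (fun n => n.factorization p) hcT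
  have v6 := (Nat.factorization_le_iff_dvd hψ0 Nat.card_pos.ne').2 (charDegree_dvd_card ψ) p
  simp only [Nat.factorization_mul Nat.card_pos.ne' Nat.card_pos.ne',
    Nat.factorization_mul Nat.card_pos.ne' Subgroup.index_ne_zero_of_finite,
    Finsupp.add_apply] at v3 v4 v5
  rw [hdχ] at hdeg
  have hd := pow_blockDefect_of_full hM hZp hZc he.2 hθe (fun z hz => by
    have : π z = 1 := by rw [← MonoidHom.mem_ker, hker]; exact hz
    show (ψ : Nb → ℂ) (π z) = (ψ : Nb → ℂ) (π 1)
    rw [this, map_one]) (by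
    rw [hdθ]
    omega)
  obtain ⟨D, hD, hle⟩ := le_defectGroup_of_subpair hM (isLocalBlock_centralizer hM he.2) he
    (Relation.ReflTransGen.refl : SubpairLE p M Q e Q e)
  rwa [Subgroup.eq_of_le_of_card_ge hle (by rw [card_defectGroup hM he.2 hD, hd])]

end Cfsg.Lib.Block
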